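import Cfsg.Statements.S0034
import Mathlib

set_option autoImplicit false
open Cfsg

namespace Cfsg.Agent.S0034

open scoped Pointwise

theorem mem_conj_smul {G : Type*} [Group G] (H : Subgroup G) (g x : G) :
    x ∈ MulAut.conj g • H ↔ g⁻¹ * x * g ∈ H := by
  rw [Subgroup.mem_pointwise_smul_iff_inv_smul_mem]
  simp [MulAut.smul_def]

theorem ti_of_frob {G : Type*} [Group G] (H : Subgroup G) (hH : Cfsg.IsFrobeniusComplement H)
    (g : G) (hg : g ∉ H) (h : G) (hh : h ∈ H) (hc : g⁻¹ * h * g ∈ H) : h = 1 := by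
  have h1 : h ∈ H ⊓ (MulAut.conj g • H) := ⟨hh, (mem_conj_smul H g h).mpr hc⟩
  rw [hH.2.2 g hg] at h1
  exact Subgroup.mem_bot.mp h1

theorem card_ne_one_add {α : Type*} [Finite α] (a : α) : Nat.card {b : α // b ≠ a} + 1 = Nat.card α := by
  classical
  rw [← Nat.card_congr (Equiv.optionSubtypeNe a), Finite.card_option]

theorem kernel_card {G : Type*} [Group G] [Finite G] (H : Subgroup G) (hH : Cfsg.IsFrobeniusComplement H) :
    Nat.card (Cfsg.frobeniusKernel H) = H.index := by
  classical
  set K : Set G := Cfsg.frobeniusKernel H with hK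
  let f : (G ⧸ H) × {h : H // h ≠ 1} → G := fun z => Quotient.out z.1 * (z.2.1 : G) * (Quotient.out z.1)⁻¹
  have hout : ∀ q : G ⧸ H, ((Quotient.out q : G) : G ⧸ H) = q := fun q => QuotientGroup.out_eq' q
  have hf : Function.Injective f := by
    rintro ⟨q₁, h₁⟩ ⟨q₂, h₂⟩ hfe
    simp only [f] at hfe
    set g₁ := Quotient.out q₁ with hg₁
    set g₂ := Quotient.out q₂ with hg₂
    have ht : g₁⁻¹ * g₂ ∈ H := by
      by_contra ht
      have h1 : (h₁.1 : G) = 1 := by
        apply ti_of_frob H hH (g₁⁻¹ * g₂) ht _ h₁.1.2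
        have : (g₁⁻¹ * g₂)⁻¹ * (h₁.1 : G) * (g₁⁻¹ * g₂) = g₂⁻¹ * (g₁ * (h₁.1 : G) * g₁⁻¹) * g₂ := by group
        rw [this, hfe]
        have : g₂⁻¹ * (g₂ * (h₂.1 : G) * g₂⁻¹) * g₂ = (h₂.1 : G) := by group
        rw [this]
        exact h₂.1.2
      exact h₁.2 (Subtype.ext h1)
    have hq : q₁ = q₂ := by
      rw [← hout q₁, ← hout q₂]
      exact QuotientGroup.eq.mpr ht
    have hgg : g₁ = g₂ := by rw [hg₁, hg₂, hq]
    rw [hgg] at hfe
    have hh : (h₁.1 : G) = (h₂.1 : G) := mul_left_cancel (mul_right_cancel hfe)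
    exact Prod.ext hq (Subtype.ext (Subtype.ext hh))
  have hrange : Set.range f = Kᶜ := by
    ext x
    constructor
    · rintro ⟨⟨q, h⟩, rfl⟩
      simp only [f]
      intro hx
      rcases hx with hx | hx
      · apply h.2
        apply Subtype.ext
        have : (h.1 : G) = (Quotient.out q)⁻¹ * (Quotient.out q * (h.1 : G) * (Quotient.out q)⁻¹) * Quotient.out q := by
          group
        rw [this, hx]; simp
      · apply hx (Quotient.out q)
        rw [mem_conj_smul]
        have : (Quotient.out q)⁻¹ * (Quotient.out q * (h.1 : G) * (Quotient.out q)⁻¹) * Quotient.out q = (h.1 : G) := by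
          group
        rw [this]; exact h.1.2
    · intro hx
      have hx' : x ≠ 1 ∧ ∃ g : G, x ∈ MulAut.conj g • H := by
        by_contra hcon
        apply hx
        by_cases h1 : x = 1
        · exact Or.inl h1
        · right
          intro g hg
          exact hcon ⟨h1, g, hg⟩
      obtain ⟨hx1, g, hg⟩ := hx'
      rw [mem_conj_smul] at hg
      set q : G ⧸ H := (g : G ⧸ H) with hq
      set g' := Quotient.out q with hg'
      have hk : g'⁻¹ * g ∈ H := by
        rw [← QuotientGroup.eq]
        exact hout q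
      set k := g'⁻¹ * g with hkdef
      have hmem : k * (g⁻¹ * x * g) * k⁻¹ ∈ H := H.mul_mem (H.mul_mem hk hg) (H.inv_mem hk)
      have hxe : g' * (k * (g⁻¹ * x * g) * k⁻¹) * g'⁻¹ = x := by
        rw [hkdef]; group
      have hne : (⟨k * (g⁻¹ * x * g) * k⁻¹, hmem⟩ : H) ≠ 1 := by
        intro h1
        apply hx1
        have h2 : k * (g⁻¹ * x * g) * k⁻¹ = 1 := congrArg Subtype.val h1
        rw [← hxe, h2]; group
      exact ⟨(q, ⟨⟨k * (g⁻¹ * x * g) * k⁻¹, hmem⟩, hne⟩), hxe⟩
  have hc1 : Nat.card ↥K + Nat.card ↥(Kᶜ) = Nat.card G := by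
    rw [← Nat.card_sum]
    exact Nat.card_congr (Equiv.Set.sumCompl K)
  have hc2 : Nat.card ↥(Kᶜ) = H.index * Nat.card {h : H // h ≠ 1} := by
    rw [← hrange, ← Nat.card_congr (Equiv.ofInjective f hf), Nat.card_prod, Subgroup.index_eq_card]
  have hc3 : Nat.card {h : H // h ≠ 1} + 1 = Nat.card H := card_ne_one_add (1 : H)
  have hc4 : Nat.card H * H.index = Nat.card G := Subgroup.card_mul_index H
  rw [hc2, ← hc4, ← hc3] at hc1
  have : Nat.card ↥K + H.index * Nat.card {h : H // h ≠ 1} = H.index * Nat.card {h : H // h ≠ 1} + H.index := by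
    rw [hc1]; ring
  omega

theorem index_mod {G : Type*} [Group G] [Finite G] (H : Subgroup G) (hH : Cfsg.IsFrobeniusComplement H) :
    H.index % Nat.card H = 1 % Nat.card H := by
  classical
  let X := {q : G ⧸ H // q ≠ ((1 : G) : G ⧸ H)}
  have hsm : ∀ (h : H) (q : G ⧸ H), q ≠ ((1 : G) : G ⧸ H) → (h : G) • q ≠ ((1 : G) : G ⧸ H) := by
    intro h q hq hc
    apply hq
    have : q = ((h : G)⁻¹) • ((h : G) • q) := by rw [inv_smul_smul]
    rw [this, hc]
    show (((h : G)⁻¹ * 1 : G) : G ⧸ H) = ((1 : G) : G ⧸ H)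
    rw [QuotientGroup.eq]
    simp
  letI : MulAction H X :=
    { smul := fun h x => ⟨(h : G) • x.1, hsm h x.1 x.2⟩
      one_smul := by
        intro x
        apply Subtype.ext
        show ((1 : H) : G) • x.1 = x.1
        simp
      mul_smul := by
        intro a b x
        apply Subtype.ext
        show ((a * b : H) : G) • x.1 = (a : G) • ((b : G) • x.1)
        rw [Subgroup.coe_mul, mul_smul] }
  have hsmul : ∀ (h : H) (x : X), ((h • x : X) : G ⧸ H) = (h : G) • x.1 := fun h x => rfl
  have hstab : ∀ x : X, MulAction.stabilizer H x = ⊥ := by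
    intro x
    rw [eq_bot_iff]
    intro h hh
    rw [MulAction.mem_stabilizer_iff] at hh
    rw [Subgroup.mem_bot]
    obtain ⟨q, hq⟩ := x
    induction q using QuotientGroup.induction_on with
    | H g =>
      have hg : g ∉ H := by
        intro hg
        apply hq
        rw [QuotientGroup.eq]
        simpa using hg
      have h1 := congrArg Subtype.val hh
      rw [hsmul] at h1
      have h2 : (((h : G) * g : G) : G ⧸ H) = (g : G ⧸ H) := h1
      rw [QuotientGroup.eq] at h2
      have h3 : ((h : G)⁻¹ : G) = 1 := by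
        apply ti_of_frob H hH g hg _ (H.inv_mem h.2)
        have : g⁻¹ * (h : G)⁻¹ * g = ((h : G) * g)⁻¹ * g := by group
        rw [this]; exact h2
      apply Subtype.ext
      rw [Subgroup.coe_one, ← inv_inv (h : G), h3, inv_one]
  have e := MulAction.selfEquivOrbitsQuotientProd hstab
  have hc1 : Nat.card X = Nat.card (Quotient (MulAction.orbitRel H X)) * Nat.card H := by
    rw [Nat.card_congr e, Nat.card_prod]
  have hc2 : Nat.card X + 1 = Nat.card (G ⧸ H) := card_ne_one_add _
  rw [Subgroup.index_eq_card, ← hc2, hc1]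
  rw [Nat.add_mod, Nat.mul_mod_left, zero_add, Nat.mod_mod]

/-- For a Frobenius complement H, the set of elements lying in no conjugate of H, together with 1, has exactly as many elements as the index of H, and that index is congruent to 1 modulo the order of H. -/
theorem result {G : Type*} [Group G] [Finite G] (H : Subgroup G) (hH : Cfsg.IsFrobeniusComplement H) :
    Nat.card (Cfsg.frobeniusKernel H) = H.index ∧ H.index % Nat.card H = 1 % Nat.card H := by
  exact ⟨kernel_card H hH, index_mod H hH⟩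

end Cfsg.Agent.S0034
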