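import Cfsg.Statements.S0035
import Cfsg.Agent.S0034
import Cfsg.Agent.Lib.Helper35.Virt
import Cfsg.Agent.Lib.Helper4.CharClosure

set_option autoImplicit false
open Cfsg
open Cfsg.Agent.Lib.Helper4
open scoped ComplexConjugate Pointwise

namespace Cfsg.Agent.S0035

universe u

section Gen

variable {G : Type u} [Group G] [Fintype G]

/-- a generalized character of norm one with positive degree is an irreducible character -/
theorem irr_of_gen_norm_one {ψ : G → ℂ} (hψ : IsGeneralizedCharacter G ψ)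
    (hn : classInner ψ ψ = 1) (n : ℕ) (hpos : 0 < n) (h1 : ψ 1 = n) : IsIrrCharacter G ψ := by
  classical
  have := irr_finite (G := G)
  let _ : Fintype (IrrCharacter G) := Fintype.ofFinite _
  obtain ⟨c, hc⟩ := Lib.Helper35.gen_decomp hψ
  have hsq : ∑ χ : IrrCharacter G, c χ * c χ = 1 := by
    have h2 := hn
    rw [hc, Lib.Helper35.classInner_int_decomp] at h2
    exact_mod_cast h2
  have h4 : ∃ χ₀, c χ₀ ≠ 0 := by
    by_contra hcon
    push Not at hcon
    simp [hcon] at hsq
  obtain ⟨χ₀, hχ₀⟩ := h4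
  have h5 : ∀ χ, χ ≠ χ₀ → c χ = 0 := by
    intro χ hne
    by_contra hmχ
    have hle : c χ₀ * c χ₀ + c χ * c χ ≤ ∑ χ : IrrCharacter G, c χ * c χ := by
      have := Finset.sum_le_sum_of_subset_of_nonneg (f := fun χ => c χ * c χ)
        (Finset.subset_univ ({χ₀, χ} : Finset (IrrCharacter G))) (fun i _ _ => mul_self_nonneg _)
      rwa [Finset.sum_pair hne.symm] at this
    have h1 : 0 < c χ₀ * c χ₀ := mul_self_pos.mpr hχ₀
    have h2 : 0 < c χ * c χ := mul_self_pos.mpr hmχ
    omega
  have h6 : c χ₀ * c χ₀ = 1 := by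
    have : ∑ χ : IrrCharacter G, c χ * c χ = c χ₀ * c χ₀ := by
      apply Finset.sum_eq_single χ₀
      · intro b _ hb; rw [h5 b hb]; rfl
      · intro h; exact absurd (Finset.mem_univ _) h
    rw [this] at hsq; exact hsq
  have h7 : ψ = ((c χ₀ : ℤ) : ℂ) • (χ₀ : G → ℂ) := by
    rw [hc]
    rw [Finset.sum_eq_single χ₀]
    · intro b _ hb; rw [h5 b hb]; simp
    · intro h; exact absurd (Finset.mem_univ _) h
  have h8 : c χ₀ = 1 ∨ c χ₀ = -1 := by
    have : (c χ₀ - 1) * (c χ₀ + 1) = 0 := by ring_nf; linarith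
    rcases mul_eq_zero.mp this with h | h
    · left; omega
    · right; omega
  obtain ⟨m, hm, hm1⟩ := irr_one_nat χ₀
  rcases h8 with h | h
  · rw [h7, h]
    simp only [Int.cast_one, one_smul]
    exact χ₀.2
  · exfalso
    have h9 := congrFun h7 1
    rw [h1, h] at h9
    simp only [Pi.smul_apply, smul_eq_mul, hm1] at h9
    have h10 : ((n + m : ℕ) : ℂ) = 0 := by push_cast; rw [h9]; ring
    have : n + m = 0 := by exact_mod_cast h10
    omega

theorem classInner_one_one : classInner (1 : G → ℂ) (1 : G → ℂ) = 1 := by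
  have h := classInner_irr (trivIrr : IrrCharacter G) trivIrr
  rw [if_pos rfl] at h
  exact h

theorem classInner_irr_one (θ : IrrCharacter G) (hθ : θ ≠ trivIrr) :
    classInner (θ : G → ℂ) (1 : G → ℂ) = 0 := by
  have h := classInner_irr θ trivIrr
  rw [if_neg hθ] at h
  exact h

theorem classInner_one_irr (θ : IrrCharacter G) (hθ : θ ≠ trivIrr) :
    classInner (1 : G → ℂ) (θ : G → ℂ) = 0 := by
  have h := classInner_irr trivIrr θ
  rw [if_neg (Ne.symm hθ)] at h
  exact h

end Gen

section Frob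

variable {G : Type u} [Group G] [Fintype G] (H : Subgroup G) [Fintype H]

/-- the class function `θ(1) 1_H - θ` -/
noncomputable def alphaFun (θ : H → ℂ) : H → ℂ := (θ 1) • (1 : H → ℂ) - θ

/-- the extension `θ(1) 1_G - (θ(1) 1_H - θ)^G` -/
noncomputable def extFun (θ : H → ℂ) : G → ℂ :=
  (θ 1) • (1 : G → ℂ) - indFun H (alphaFun H θ)

omit [Fintype G] [Fintype H] in
theorem alphaFun_apply (θ : H → ℂ) (h : H) : alphaFun H θ h = θ 1 - θ h := by
  simp [alphaFun]

omit [Fintype G] [Fintype H] in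
theorem alphaFun_one (θ : H → ℂ) : alphaFun H θ 1 = 0 := by
  simp [alphaFun]

omit [Fintype H] in
theorem extFun_apply (θ : H → ℂ) (g : G) :
    extFun H θ g = θ 1 - indFun H (alphaFun H θ) g := by
  simp [extFun]

omit [Fintype G] [Fintype H] in
theorem isClassFunction_alphaFun (θ : H → ℂ) (hθ : IsClassFunction H θ) :
    IsClassFunction H (alphaFun H θ) := by
  intro g h
  rw [alphaFun_apply, alphaFun_apply, hθ g h]

/-- induced class functions restrict back on nonidentity elements of a TI subgroup -/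
theorem indFun_ti_apply (hTI : ∀ g : G, g ∉ H → ∀ h ∈ H, g⁻¹ * h * g ∈ H → h = 1)
    (ψ : H → ℂ) (hψ : IsClassFunction H ψ) (t : H) (ht : t ≠ 1) :
    indFun H ψ (t : G) = ψ t := by
  classical
  rw [indFun_apply]
  have hterm : ∀ x : G, extendByZero H ψ (x⁻¹ * (t : G) * x) =
      extendByZero H (fun _ => ψ t) x := by
    intro x
    by_cases hx : x ∈ H
    · have hmem : x⁻¹ * (t : G) * x ∈ H := H.mul_mem (H.mul_mem (H.inv_mem hx) t.2) hx
      rw [extendByZero_apply_mem' _ _ hmem, extendByZero_apply_mem' _ _ hx]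
      have := hψ t (⟨x, hx⟩⁻¹ : H)
      rw [inv_inv] at this
      rw [← this]
      rfl
    · rw [extendByZero_apply_not_mem _ _ hx]
      apply extendByZero_apply_not_mem
      intro hmem
      exact ht (Subtype.ext (hTI x hx (t : G) t.2 hmem))
  simp only [hterm]
  have h2 := sum_extendByZero_mul H (fun _ => ψ t) (fun _ => (1 : ℂ))
  simp only [mul_one] at h2
  rw [h2, Finset.sum_const, Finset.card_univ, nsmul_eq_mul, ← Nat.card_eq_fintype_card]
  have hN : (Nat.card H : ℂ) ≠ 0 := Nat.cast_ne_zero.mpr Nat.card_pos.ne'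
  field_simp

omit [Fintype H] in
theorem indFun_off (ψ : H → ℂ) (x : G) (hx : ∀ g : G, g⁻¹ * x * g ∉ H) : indFun H ψ x = 0 := by
  rw [indFun_apply]
  apply mul_eq_zero_of_right
  apply Finset.sum_eq_zero
  intro y _
  exact extendByZero_apply_not_mem _ _ (hx y)

theorem res_indFun_eq (hTI : ∀ g : G, g ∉ H → ∀ h ∈ H, g⁻¹ * h * g ∈ H → h = 1)
    (ψ : H → ℂ) (hψ : IsClassFunction H ψ) (h1 : ψ 1 = 0) :
    (fun h : H => indFun H ψ (h : G)) = ψ := by
  funext t
  by_cases ht : t = 1
  · subst ht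
    rw [Subgroup.coe_one, Lib.Helper35.indFun_one_eq, h1, mul_zero]
  · exact indFun_ti_apply H hTI ψ hψ t ht

omit [Fintype G] in
theorem classInner_alphaFun_one (θ : IrrCharacter H) (hθ : θ ≠ trivIrr) :
    classInner (alphaFun H (θ : H → ℂ)) (1 : H → ℂ) = (θ : H → ℂ) 1 := by
  rw [alphaFun, Lib.Helper35.classInner_sub_left, Lib.Helper35.classInner_smul_left,
    classInner_one_one, classInner_irr_one θ hθ]
  ring

omit [Fintype G] in
theorem classInner_alphaFun_self (θ : IrrCharacter H) (hθ : θ ≠ trivIrr) :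
    classInner (alphaFun H (θ : H → ℂ)) (alphaFun H (θ : H → ℂ)) =
      (θ : H → ℂ) 1 * (θ : H → ℂ) 1 + 1 := by
  have hc : conj ((θ : H → ℂ) 1) = (θ : H → ℂ) 1 := irr_one_conj θ
  have hθθ : classInner (θ : H → ℂ) (θ : H → ℂ) = 1 := by
    have h := classInner_irr θ θ
    rwa [if_pos rfl] at h
  simp only [alphaFun, Lib.Helper35.classInner_sub_left, Lib.Helper35.classInner_sub_right,
    Lib.Helper35.classInner_smul_left, Lib.Helper35.classInner_smul_right, classInner_one_one,
    classInner_irr_one θ hθ, classInner_one_irr θ hθ, hθθ, hc]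
  ring

theorem extFun_irr (hTI : ∀ g : G, g ∉ H → ∀ h ∈ H, g⁻¹ * h * g ∈ H → h = 1)
    (θ : IrrCharacter H) (hθ : θ ≠ trivIrr) : IsIrrCharacter G (extFun H (θ : H → ℂ)) := by
  obtain ⟨n, hn, hn1⟩ := irr_one_nat θ
  obtain ⟨α, hα⟩ : ∃ α : H → ℂ, α = alphaFun H (θ : H → ℂ) := ⟨_, rfl⟩
  have hαcf : IsClassFunction H α := hα ▸ isClassFunction_alphaFun H _ (isClassFunction_irr θ)
  have hα1 : α 1 = 0 := hα ▸ alphaFun_one H _
  have hres := res_indFun_eq H hTI α hαcf hα1
  have hc : conj ((θ : H → ℂ) 1) = (θ : H → ℂ) 1 := irr_one_conj θ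
  have hone : IsClassFunction G (1 : G → ℂ) := fun _ _ => rfl
  have h1 : classInner (indFun H α) (1 : G → ℂ) = (θ : H → ℂ) 1 := by
    rw [frobenius_reciprocity H α 1 hone, hα]
    exact classInner_alphaFun_one H θ hθ
  have h2 : classInner (1 : G → ℂ) (indFun H α) = (θ : H → ℂ) 1 := by
    rw [classInner_conj_symm, h1, hc]
  have h3 : classInner (indFun H α) (indFun H α) = (θ : H → ℂ) 1 * (θ : H → ℂ) 1 + 1 := by
    rw [frobenius_reciprocity H α _ (isClassFunction_indFun H α), hres, hα]
    exact classInner_alphaFun_self H θ hθ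
  have hnorm : classInner (extFun H (θ : H → ℂ)) (extFun H (θ : H → ℂ)) = 1 := by
    simp only [extFun, ← hα, Lib.Helper35.classInner_sub_left, Lib.Helper35.classInner_sub_right,
      Lib.Helper35.classInner_smul_left, Lib.Helper35.classInner_smul_right, classInner_one_one,
      h1, h2, h3, hc]
    ring
  have hgen : IsGeneralizedCharacter G (extFun H (θ : H → ℂ)) := by
    have hA : IsCharacter G ((θ : H → ℂ) 1 • (1 : G → ℂ)) := by
      rw [hn1]; exact isCharacter_nsmul n _ Lib.Helper35.isCharacter_one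
    have hB : IsGeneralizedCharacter H (alphaFun H (θ : H → ℂ)) :=
      ⟨(θ : H → ℂ) 1 • (1 : H → ℂ), (θ : H → ℂ),
        by rw [hn1]; exact isCharacter_nsmul n _ Lib.Helper35.isCharacter_one,
        isCharacter_of_irr θ, rfl⟩
    exact Lib.Helper35.isGenChar_sub (Lib.Helper35.isGenChar_of_char hA)
      (Lib.Helper35.isGenChar_indFun H hB)
  apply irr_of_gen_norm_one hgen hnorm n hn
  rw [extFun_apply, Lib.Helper35.indFun_one_eq, alphaFun_one, mul_zero, sub_zero, hn1]

theorem extFun_res (hTI : ∀ g : G, g ∉ H → ∀ h ∈ H, g⁻¹ * h * g ∈ H → h = 1)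
    (θ : H → ℂ) (hθ : IsClassFunction H θ) (h : H) : extFun H θ (h : G) = θ h := by
  have hres := congrFun (res_indFun_eq H hTI (alphaFun H θ) (isClassFunction_alphaFun H θ hθ)
    (alphaFun_one H θ)) h
  rw [extFun_apply, hres, alphaFun_apply]
  ring

omit [Fintype H] in
theorem extFun_off (θ : H → ℂ) (x : G) (hx : ∀ g : G, g⁻¹ * x * g ∉ H) :
    extFun H θ x = θ 1 := by
  rw [extFun_apply, indFun_off H _ x hx, sub_zero]

omit [Fintype H] in
theorem extFun_triv : extFun H ((trivIrr : IrrCharacter H) : H → ℂ) = (1 : G → ℂ) := by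
  have hα : alphaFun H ((trivIrr : IrrCharacter H) : H → ℂ) = 0 := by
    funext h
    rw [alphaFun_apply, trivIrr_apply, trivIrr_apply]
    simp
  funext g
  rw [extFun_apply, hα, Lib.Helper35.indFun_zero, trivIrr_apply]
  simp

theorem extFun_isCharacter (hTI : ∀ g : G, g ∉ H → ∀ h ∈ H, g⁻¹ * h * g ∈ H → h = 1)
    (θ : IrrCharacter H) : IsCharacter G (extFun H (θ : H → ℂ)) := by
  by_cases hθ : θ = trivIrr
  · rw [hθ, extFun_triv]; exact Lib.Helper35.isCharacter_one
  · obtain ⟨n, ρ, -, h⟩ := extFun_irr H hTI θ hθ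
    exact ⟨n, ρ, h⟩

variable [Fintype (IrrCharacter H)]

/-- the character `∑ θ(1) θ*` of `G`, equal to `|H|` on the Frobenius kernel and `0` off it -/
noncomputable def frobFun : G → ℂ :=
  ∑ θ : IrrCharacter H, ((θ : H → ℂ) 1) • extFun H (θ : H → ℂ)

theorem frobFun_isCharacter (hTI : ∀ g : G, g ∉ H → ∀ h ∈ H, g⁻¹ * h * g ∈ H → h = 1) :
    IsCharacter G (frobFun H) := by
  apply isCharacter_sum
  intro θ _
  obtain ⟨n, hn, hn1⟩ := irr_one_nat θ
  rw [hn1]
  exact isCharacter_nsmul n _ (extFun_isCharacter H hTI θ)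

theorem frobFun_res_one (hTI : ∀ g : G, g ∉ H → ∀ h ∈ H, g⁻¹ * h * g ∈ H → h = 1) :
    frobFun H (1 : G) = (Nat.card H : ℂ) := by
  have h := col_orth_one (G := H) 1
  rw [if_pos rfl] at h
  rw [← h]
  simp only [frobFun, Finset.sum_apply, Pi.smul_apply, smul_eq_mul]
  refine Finset.sum_congr rfl fun θ _ => ?_
  have := extFun_res H hTI _ (isClassFunction_irr θ) 1
  rw [Subgroup.coe_one] at this
  rw [this]

theorem frobFun_res_ne (hTI : ∀ g : G, g ∉ H → ∀ h ∈ H, g⁻¹ * h * g ∈ H → h = 1)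
    (h : H) (hne : h ≠ 1) : frobFun H (h : G) = 0 := by
  have h0 := col_orth_one (G := H) h
  rw [if_neg hne] at h0
  rw [← h0]
  simp only [frobFun, Finset.sum_apply, Pi.smul_apply, smul_eq_mul]
  refine Finset.sum_congr rfl fun θ _ => ?_
  rw [extFun_res H hTI _ (isClassFunction_irr θ) h, mul_comm]

theorem frobFun_off (x : G) (hx : ∀ g : G, g⁻¹ * x * g ∉ H) :
    frobFun H x = (Nat.card H : ℂ) := by
  rw [← sum_sq_irr (G := H)]
  simp only [frobFun, Finset.sum_apply, Pi.smul_apply, smul_eq_mul]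
  refine Finset.sum_congr rfl fun θ _ => ?_
  rw [extFun_off H _ x hx, sq]

end Frob

/-- Frobenius' Theorem: if H is a Frobenius complement in a finite group, the identity together with the elements lying in no conjugate of H form a normal subgroup, which is a complement to H. -/
theorem result {G : Type*} [Group G] [Finite G] (H : Subgroup G) (hH : Cfsg.IsFrobeniusComplement H) :
    ∃ N : Subgroup G, (N : Set G) = Cfsg.frobeniusKernel H ∧ N.Normal ∧ Subgroup.IsComplement' N H := by
  classical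
  let _ : Fintype G := Fintype.ofFinite G
  let _ : Fintype H := Fintype.ofFinite H
  have := irr_finite (G := H)
  let _ : Fintype (IrrCharacter H) := Fintype.ofFinite _
  have hTI : ∀ g : G, g ∉ H → ∀ h ∈ H, g⁻¹ * h * g ∈ H → h = 1 :=
    fun g hg h hh hc => Cfsg.Agent.S0034.ti_of_frob H hH g hg h hh hc
  obtain ⟨n, ρ, hρ⟩ := frobFun_isCharacter H hTI
  have hcardH : (Nat.card H : ℂ) ≠ 0 := Nat.cast_ne_zero.mpr Nat.card_pos.ne'
  have hφ1 : frobFun H (1 : G) = (Nat.card H : ℂ) := frobFun_res_one H hTI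
  have hfin : (Module.finrank ℂ (Fin n → ℂ) : ℂ) = (Nat.card H : ℂ) := by
    rw [← hφ1, ← hρ, Representation.char_one]
  have hcf := isClassFunction_of_isCharacter _ (frobFun_isCharacter H hTI)
  have hK : ∀ g : G, g ∈ Cfsg.frobeniusKernel H ↔ frobFun H g = (Nat.card H : ℂ) := by
    intro g
    constructor
    · rintro (rfl | hg)
      · exact hφ1
      · apply frobFun_off
        intro x hx
        apply hg x
        rw [Cfsg.Agent.S0034.mem_conj_smul]
        exact hx
    · intro hval
      by_contra hg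
      have hg' : g ≠ 1 ∧ ∃ x : G, g ∈ MulAut.conj x • H := by
        constructor
        · intro h1; exact hg (Or.inl h1)
        · by_contra hne
          push Not at hne
          exact hg (Or.inr hne)
      obtain ⟨hg1, x, hx⟩ := hg'
      rw [Cfsg.Agent.S0034.mem_conj_smul] at hx
      have h1 : frobFun H (x⁻¹ * g * x) = frobFun H g := by
        have := hcf g x⁻¹
        rwa [inv_inv] at this
      have h2 : frobFun H (x⁻¹ * g * x) = 0 := by
        refine frobFun_res_ne H hTI ⟨x⁻¹ * g * x, hx⟩ ?_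
        intro h
        apply hg1
        have h3 : x⁻¹ * g * x = 1 := congrArg Subtype.val h
        have h4 : g = x * (x⁻¹ * g * x) * x⁻¹ := by group
        rw [h4, h3]
        group
      rw [← h1, h2] at hval
      exact hcardH hval.symm
  have hmem : ∀ g : G, g ∈ MonoidHom.ker ρ ↔ g ∈ Cfsg.frobeniusKernel H := by
    intro g
    rw [MonoidHom.mem_ker, hK, ← hρ, ← hfin]
    exact (char_eq_finrank_iff ρ g).symm
  have hset : ((MonoidHom.ker ρ : Subgroup G) : Set G) = Cfsg.frobeniusKernel H :=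
    Set.ext fun g => hmem g
  refine ⟨MonoidHom.ker ρ, hset, MonoidHom.normal_ker ρ, ?_⟩
  apply Subgroup.isComplement'_of_card_mul_and_disjoint
  · have hcard : Nat.card (MonoidHom.ker ρ) = H.index := by
      have := Cfsg.Agent.S0034.kernel_card H hH
      rw [← hset] at this
      exact this
    rw [hcard, mul_comm, Subgroup.card_mul_index]
  · rw [Subgroup.disjoint_def]
    intro x hxN hxH
    rcases (hmem x).mp hxN with h | h
    · exact h
    · exfalso
      apply h 1
      rw [Cfsg.Agent.S0034.mem_conj_smul]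
      simpa using hxH

end Cfsg.Agent.S0035
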