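import Cfsg.Statements.S3383
import Mathlib

set_option autoImplicit false
open Cfsg

namespace Cfsg.Agent.S3383

open scoped Pointwise

variable {L : Type*} [Group L]

lemma mem_conj_smul_iff (H : Subgroup L) (g x : L) :
    x ∈ MulAut.conj g • H ↔ g⁻¹ * x * g ∈ H := by
  rw [Subgroup.mem_pointwise_smul_iff_inv_smul_mem]
  simp [MulAut.smul_def]

lemma centralizer_le (H : Subgroup L) (hH : Cfsg.IsFrobeniusComplement H)
    (h : L) (hh : h ∈ H) (h1 : h ≠ 1) (g : L) (hg : g * h = h * g) : g ∈ H := by
  by_contra hgH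
  have h2 := hH.2.2 g hgH
  have : h ∈ H ⊓ MulAut.conj g • H := by
    refine Subgroup.mem_inf.mpr ⟨hh, ?_⟩
    rw [mem_conj_smul_iff]
    have : g⁻¹ * h * g = h := by
      rw [mul_assoc, ← hg, inv_mul_cancel_left]
    rw [this]; exact hh
  rw [h2] at this
  exact h1 (Subgroup.mem_bot.mp this)

lemma mem_K_iff (H K : Subgroup L) (hK : (K : Set L) = Cfsg.frobeniusKernel H) (x : L) :
    x ∈ K ↔ x = 1 ∨ ∀ g : L, x ∉ MulAut.conj g • H := by
  have : x ∈ (K : Set L) ↔ x ∈ Cfsg.frobeniusKernel H := by rw [hK]
  exact this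

lemma K_inf_H (H K : Subgroup L) (hK : (K : Set L) = Cfsg.frobeniusKernel H) (x : L)
    (hxK : x ∈ K) (hxH : x ∈ H) : x = 1 := by
  rcases (mem_K_iff H K hK x).mp hxK with h | h
  · exact h
  · exfalso
    apply h 1
    rw [mem_conj_smul_iff]; simpa using hxH

lemma K_normal (H K : Subgroup L) (hK : (K : Set L) = Cfsg.frobeniusKernel H) : K.Normal := by
  constructor
  intro x hx a
  rw [mem_K_iff H K hK] at hx ⊢
  rcases hx with h | h
  · left; rw [h]; simp
  · right
    intro g hg
    apply h (a⁻¹ * g)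
    rw [mem_conj_smul_iff] at hg ⊢
    have : (a⁻¹ * g)⁻¹ * x * (a⁻¹ * g) = g⁻¹ * (a * x * a⁻¹) * g := by group
    rw [this]; exact hg

lemma coprime_card [Finite L] (H K : Subgroup L) (hH : Cfsg.IsFrobeniusComplement H)
    (hK : (K : Set L) = Cfsg.frobeniusKernel H) : (Nat.card K).Coprime (Nat.card H) := by
  have : K.Normal := K_normal H K hK
  rw [Nat.coprime_comm]
  refine Nat.Coprime.symm (Nat.coprime_of_dvd ?_)
  intro p hp hpK hpH
  haveI : Fact p.Prime := ⟨hp⟩
  obtain ⟨h, hh⟩ := exists_prime_orderOf_dvd_card' p hpH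
  have hh1 : (h : L) ≠ 1 := by
    intro h1
    have : h = 1 := Subtype.ext h1
    rw [this, orderOf_one] at hh
    exact hp.one_lt.ne hh
  let c : ConjAct L := ConjAct.toConjAct (h : L)
  have hc : orderOf c = p := by
    have : orderOf c = orderOf (h : L) := by
      exact (orderOf_injective (ConjAct.toConjAct (G := L)).toMonoidHom
        (ConjAct.toConjAct (G := L)).injective (h : L))
    rw [this, Subgroup.orderOf_coe, hh]
  have hP : IsPGroup p (Subgroup.zpowers c) := by
    apply IsPGroup.of_card (n := 1)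
    rw [Nat.card_zpowers, hc, pow_one]
  have hmod := hP.card_modEq_card_fixedPoints K
  have hfix : Nat.card (MulAction.fixedPoints (Subgroup.zpowers c) K) = 1 := by
    rw [Nat.card_eq_one_iff_unique]
    refine ⟨⟨?_⟩, ⟨⟨1, ?_⟩⟩⟩
    · rintro ⟨a, ha⟩ ⟨b, hb⟩
      have key : ∀ k : K, k ∈ MulAction.fixedPoints (Subgroup.zpowers c) K → k = 1 := by
        intro k hk
        have h1 := hk ⟨c, Subgroup.mem_zpowers c⟩
        have h2 : (h : L) * k * (h : L)⁻¹ = k := by
          have h1' : c • k = k := h1
          have := congrArg Subtype.val h1'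
          rw [ConjAct.Subgroup.val_conj_smul, ConjAct.smul_def] at this
          simpa [c] using this
        have h3 : (k : L) * h = h * k := by
          calc (k : L) * h = ((h : L) * k * (h : L)⁻¹) * h := by rw [h2]
            _ = h * k := by group
        have h4 := centralizer_le H hH h h.2 hh1 k h3
        exact Subtype.ext (K_inf_H H K hK k k.2 h4)
      apply Subtype.ext
      exact (key a ha).trans (key b hb).symm
    · intro g
      exact smul_one g
  rw [hfix] at hmod
  have : Nat.card K % p = 1 % p := hmod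
  rw [Nat.mod_eq_zero_of_dvd hpK, Nat.mod_eq_of_lt hp.one_lt] at this
  exact absurd this (by norm_num)

theorem result {L : Type*} [Group L] [Finite L]
    (H : Subgroup L) (hH : Cfsg.IsFrobeniusComplement H)
    (K : Subgroup L) (hK : (K : Set L) = Cfsg.frobeniusKernel H) :
    K.Characteristic ∧ ∀ N : Subgroup L, N.Normal → K ≤ N ∨ N ≤ K := by
  have hcop := coprime_card H K hH hK
  have hKn := K_normal H K hK
  refine ⟨?_, ?_⟩
  · rw [Subgroup.characteristic_iff_map_le]
    rintro φ _ ⟨x, hx, rfl⟩
    by_contra hφ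
    rw [mem_K_iff H K hK] at hφ
    push Not at hφ
    obtain ⟨hne, g, hg⟩ := hφ
    have h1 : orderOf (φ.toMonoidHom x) ∣ Nat.card K := by
      apply orderOf_dvd_of_pow_eq_one
      rw [← map_pow]
      have : x ^ Nat.card K = 1 := by
        have := pow_card_eq_one' (G := K) (x := ⟨x, hx⟩)
        exact congrArg Subtype.val this
      rw [this, map_one]
    have h2 : orderOf (φ.toMonoidHom x) ∣ Nat.card H := by
      have h3 : orderOf (φ.toMonoidHom x) ∣ Nat.card (MulAut.conj g • H : Subgroup L) :=
        Subgroup.orderOf_dvd_natCard _ hg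
      have h4 : Nat.card (MulAut.conj g • H : Subgroup L) = Nat.card H := by
        exact (Nat.card_congr (Subgroup.equivSMul (MulAut.conj g) H).toEquiv).symm
      rwa [h4] at h3
    have h5 : orderOf (φ.toMonoidHom x) = 1 := Nat.eq_one_of_dvd_coprimes hcop h1 h2
    exact hne (orderOf_eq_one_iff.mp h5)
  · intro N hN
    by_cases hNK : N ≤ K
    · exact Or.inr hNK
    · left
      obtain ⟨x, hxN, hxK⟩ := SetLike.not_le_iff_exists.mp hNK
      rw [mem_K_iff H K hK] at hxK
      push Not at hxK
      obtain ⟨hx1, g, hg⟩ := hxK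
      rw [mem_conj_smul_iff] at hg
      set h := g⁻¹ * x * g with hdef
      have hhN : h ∈ N := by
        have := hN.conj_mem x hxN g⁻¹
        simpa [hdef] using this
      have hh1 : h ≠ 1 := by
        intro h1
        apply hx1
        have : x = g * h * g⁻¹ := by rw [hdef]; group
        rw [this, h1]; simp
      -- the injection
      have hmem : ∀ k : K, (k : L) * h * (k : L)⁻¹ * h⁻¹ ∈ K ⊓ N := by
        intro k
        refine ⟨?_, ?_⟩
        · have : (k : L) * h * (k : L)⁻¹ * h⁻¹ = k * (h * (k : L)⁻¹ * h⁻¹) := by group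
          rw [this]
          exact K.mul_mem k.2 (hKn.conj_mem _ (K.inv_mem k.2) h)
        · exact N.mul_mem (hN.conj_mem h hhN k) (N.inv_mem hhN)
      let f : K → (K ⊓ N : Subgroup L) := fun k => ⟨(k : L) * h * (k : L)⁻¹ * h⁻¹, hmem k⟩
      have hf : Function.Injective f := by
        intro a b hab
        have h1 : (a : L) * h * (a : L)⁻¹ * h⁻¹ = (b : L) * h * (b : L)⁻¹ * h⁻¹ :=
          congrArg Subtype.val hab
        have h2 : ((b : L)⁻¹ * a) * h = h * ((b : L)⁻¹ * a) := by
          have h3 : (a : L) * h * (a : L)⁻¹ = (b : L) * h * (b : L)⁻¹ := mul_right_cancel h1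
          calc ((b : L)⁻¹ * a) * h = (b : L)⁻¹ * ((a : L) * h * (a : L)⁻¹) * a := by group
            _ = (b : L)⁻¹ * ((b : L) * h * (b : L)⁻¹) * a := by rw [h3]
            _ = h * ((b : L)⁻¹ * a) := by group
        have h4 := centralizer_le H hH h hg hh1 _ h2
        have h5 : (b : L)⁻¹ * a ∈ K := K.mul_mem (K.inv_mem b.2) a.2
        have h6 := K_inf_H H K hK _ h5 h4
        apply Subtype.ext
        have : (a : L) = b := by
          have := congrArg (fun t => (b : L) * t) h6
          simpa using this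
        exact this
      have hcard : Nat.card K ≤ Nat.card (K ⊓ N : Subgroup L) :=
        Nat.card_le_card_of_injective f hf
      have heq : K ⊓ N = K := Subgroup.eq_of_le_of_card_ge inf_le_left hcard
      rw [← heq]; exact inf_le_right

end Cfsg.Agent.S3383
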