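import Cfsg.Statements.S0738
import Mathlib

set_option autoImplicit false
open Cfsg

namespace Cfsg.Agent.S0738


open MulAction in
/-- If all orbits meeting an invariant finset have the same size `m`, then `m` divides its
cardinality. -/
theorem dvd_card_of_orbit_card {A X : Type*} [Group A] [MulAction A X] (m : ℕ) :
    ∀ (k : ℕ) (M : Finset X), M.card = k → (∀ a : A, ∀ x ∈ M, a • x ∈ M) →
      (∀ x ∈ M, (orbit A x).ncard = m) → m ∣ M.card := by
  classical
  intro k
  induction k using Nat.strong_induction_on with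
  | _ k ih =>
    intro M hk hinv hm
    rcases M.eq_empty_or_nonempty with h | ⟨x, hx⟩
    · rw [h]; simp
    · have hfin : (orbit A x).Finite := M.finite_toSet.subset (by
        rintro _ ⟨a, rfl⟩
        exact hinv a x hx)
      set O : Finset X := hfin.toFinset with hO
      have hOM : O ⊆ M := by
        intro y hy
        rw [hO, Set.Finite.mem_toFinset] at hy
        obtain ⟨a, rfl⟩ := hy
        exact hinv a x hx
      have hOcard : O.card = m := by
        rw [hO, ← Set.ncard_eq_toFinset_card _ hfin]
        exact hm x hx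
      have hxO : x ∈ O := by
        rw [hO, Set.Finite.mem_toFinset]
        exact mem_orbit_self x
      have hcard : (M \ O).card + m = M.card := by
        rw [← hOcard]
        exact Finset.card_sdiff_add_card_eq_card hOM
      have hmpos : 0 < m := by
        rw [← hOcard]
        exact Finset.card_pos.mpr ⟨x, hxO⟩
      have hlt : (M \ O).card < k := by omega
      have h' := ih _ hlt (M \ O) rfl (by
        intro a y hy
        rw [Finset.mem_sdiff] at hy ⊢
        refine ⟨hinv a y hy.1, ?_⟩
        intro hay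
        apply hy.2
        rw [hO, Set.Finite.mem_toFinset] at hay ⊢
        have : y = a⁻¹ • (a • y) := by simp
        rw [this]
        exact mem_orbit_of_mem_orbit a⁻¹ hay) (by
        intro y hy
        exact hm y (Finset.mem_sdiff.mp hy).1)
      rw [← hcard]
      exact Dvd.dvd.add h' dvd_rfl

open MulAction in
/-- A finite group `F` with a group `H` of automorphisms acting freely on `F ∖ {1}` and with
`|F| - 1 ≤ 2 |H|` is abelian of prime exponent. -/
theorem abstract_main {F H : Type*} [Group F] [Group H] [Finite F] [Finite H]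
    [MulDistribMulAction H F]
    (free : ∀ h : H, ∀ u : F, u ≠ 1 → h • u = u → h = 1)
    (hd : Nat.card F - 1 ≤ 2 * Nat.card H) (hn : 1 < Nat.card F) :
    (∀ u v : F, u * v = v * u) ∧ ∃ p : ℕ, p.Prime ∧ ∀ u : F, u ^ p = 1 := by
  classical
  have := Fintype.ofFinite F
  have := Fintype.ofFinite H
  have hdpos : 0 < Nat.card H := Nat.card_pos
  -- orbits of H on non-identity elements have size d
  have orbH : ∀ u : F, u ≠ 1 → (orbit H u).ncard = Nat.card H := by
    intro u hu
    rw [← index_stabilizer]
    have : stabilizer H u = ⊥ := by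
      rw [eq_bot_iff]
      intro h hh
      rw [mem_stabilizer_iff] at hh
      exact Subgroup.mem_bot.mpr (free h u hu hh)
    rw [this, Subgroup.index_bot]
  have Hdvd : ∀ M : Finset F, (1 : F) ∉ M → (∀ h : H, ∀ x ∈ M, h • x ∈ M) →
      Nat.card H ∣ M.card := by
    intro M h1 hinv
    apply dvd_card_of_orbit_card (A := H) (Nat.card H) M.card M rfl hinv
    intro x hx
    apply orbH
    rintro rfl
    exact h1 hx
  have hne1 : ∀ (h : H) (v : F), v ≠ 1 → h • v ≠ 1 := by
    intro h v hv h1
    apply hv
    have : h⁻¹ • (h • v) = h⁻¹ • (1 : F) := by rw [h1]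
    rwa [inv_smul_smul, smul_one] at this
  have hcardE : (Finset.univ.erase (1 : F)).card = Nat.card F - 1 := by
    rw [Finset.card_erase_of_mem (Finset.mem_univ _), Finset.card_univ, Nat.card_eq_fintype_card]
  have hd1 : Nat.card H ∣ Nat.card F - 1 := by
    rw [← hcardE]
    apply Hdvd
    · simp
    · intro h x hx
      rw [Finset.mem_erase] at hx ⊢
      exact ⟨hne1 h x hx.1, Finset.mem_univ _⟩
  -- every non-identity element is central
  have central : ∀ u : F, u ≠ 1 → ∀ c : F, c * u * c⁻¹ = u := by
    intro u hu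
    set s := (orbit (ConjAct F) u).ncard with hs
    have hsn : s ∣ Nat.card F := by
      rw [hs, ← index_stabilizer]
      exact Subgroup.index_dvd_card _
    set M : Finset F := Finset.univ.filter
      (fun v => v ≠ 1 ∧ (orbit (ConjAct F) v).ncard = s) with hM
    have huM : u ∈ M := by
      rw [hM, Finset.mem_filter]
      exact ⟨Finset.mem_univ _, hu, rfl⟩
    have h1M : (1 : F) ∉ M := by
      rw [hM, Finset.mem_filter]
      intro h
      exact h.2.1 rfl
    have hMle : M.card ≤ Nat.card F - 1 := by
      rw [← hcardE]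
      apply Finset.card_le_card
      intro v hv
      rw [hM, Finset.mem_filter] at hv
      rw [Finset.mem_erase]
      exact ⟨hv.2.1, Finset.mem_univ _⟩
    have hMH : Nat.card H ∣ M.card := by
      apply Hdvd M h1M
      intro h v hv
      rw [hM, Finset.mem_filter] at hv ⊢
      refine ⟨Finset.mem_univ _, hne1 h v hv.2.1, ?_⟩
      rw [← hv.2.2]
      have himg : orbit (ConjAct F) (h • v) = (fun x => h • x) '' orbit (ConjAct F) v := by
        ext y
        constructor
        · rintro ⟨c, rfl⟩
          refine ⟨ConjAct.toConjAct (h⁻¹ • ConjAct.ofConjAct c) • v, ⟨_, rfl⟩, ?_⟩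
          simp only [ConjAct.smul_def, ConjAct.ofConjAct_toConjAct, smul_mul', smul_inv',
            smul_inv_smul]
        · rintro ⟨x, ⟨c, rfl⟩, rfl⟩
          refine ⟨ConjAct.toConjAct (h • ConjAct.ofConjAct c), ?_⟩
          simp only [ConjAct.smul_def, ConjAct.ofConjAct_toConjAct, smul_mul', smul_inv']
      rw [himg]
      exact Set.ncard_image_of_injective _ (MulAction.injective h)
    have hMF : s ∣ M.card := by
      apply dvd_card_of_orbit_card (A := ConjAct F) s M.card M rfl
      · intro c v hv
        rw [hM, Finset.mem_filter] at hv ⊢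
        refine ⟨Finset.mem_univ _, ?_, ?_⟩
        · intro h1
          apply hv.2.1
          have : c⁻¹ • (c • v) = c⁻¹ • (1 : F) := by rw [h1]
          rwa [inv_smul_smul, smul_one] at this
        · rw [orbit_smul]
          exact hv.2.2
      · intro v hv
        rw [hM, Finset.mem_filter] at hv
        exact hv.2.2
    have hMpos : 0 < M.card := Finset.card_pos.mpr ⟨u, huM⟩
    have hMn : M.card ∣ Nat.card F - 1 := by
      obtain ⟨j, hj⟩ := hMH
      obtain ⟨e, he⟩ := hd1
      have hj1 : 1 ≤ j := by
        rcases Nat.eq_zero_or_pos j with h0 | h0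
        · rw [h0, mul_zero] at hj; omega
        · exact h0
      have hj2 : j ≤ 2 := by
        by_contra hcon
        push Not at hcon
        have : Nat.card H * 3 ≤ Nat.card H * j := Nat.mul_le_mul_left _ hcon
        omega
      rcases (by omega : j = 1 ∨ j = 2) with h | h
      · rw [hj, h, mul_one]
        exact ⟨e, he⟩
      · rw [h] at hj
        have : M.card = Nat.card F - 1 := by omega
        rw [this]
    have hs1 : s = 1 := by
      have h1 : s ∣ Nat.card F - 1 := dvd_trans hMF hMn
      have h2 : s ∣ Nat.card F - (Nat.card F - 1) := Nat.dvd_sub hsn h1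
      have h3 : Nat.card F - (Nat.card F - 1) = 1 := by omega
      rw [h3] at h2
      exact Nat.dvd_one.mp h2
    rw [hs, Set.ncard_eq_one] at hs1
    obtain ⟨w, hw⟩ := hs1
    intro c
    have h1 : ConjAct.toConjAct c • u ∈ orbit (ConjAct F) u := mem_orbit _ _
    have h2 : u ∈ orbit (ConjAct F) u := mem_orbit_self _
    rw [hw, Set.mem_singleton_iff] at h1 h2
    rw [← ConjAct.toConjAct_smul, h1, h2]
  have comm : ∀ u v : F, u * v = v * u := by
    intro u v
    by_cases hu : u = 1
    · rw [hu, one_mul, mul_one]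
    · have := central u hu v
      rw [mul_inv_eq_iff_eq_mul] at this
      exact this.symm
  refine ⟨comm, ?_⟩
  -- the exponent
  have hp : (Nat.card F).minFac.Prime := Nat.minFac_prime (by omega)
  set p := (Nat.card F).minFac with hp_def
  have : Fact p.Prime := ⟨hp⟩
  refine ⟨p, hp, ?_⟩
  obtain ⟨x, hx⟩ := exists_prime_orderOf_dvd_card' p (Nat.minFac_dvd (Nat.card F))
  let P : Subgroup F :=
    { carrier := {v | v ^ p = 1}
      one_mem' := one_pow p
      mul_mem' := fun {a b} ha hb => by
        have ha' : a ^ p = 1 := ha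
        have hb' : b ^ p = 1 := hb
        change (a * b) ^ p = 1
        rw [Commute.mul_pow (comm a b), ha', hb', one_mul]
      inv_mem' := fun {a} ha => by
        have ha' : a ^ p = 1 := ha
        change a⁻¹ ^ p = 1
        rw [inv_pow, ha', inv_one] }
  set M : Finset F := Finset.univ.filter (fun v => v ≠ 1 ∧ v ^ p = 1) with hM
  have hxM : x ∈ M := by
    rw [hM, Finset.mem_filter]
    refine ⟨Finset.mem_univ _, ?_, ?_⟩
    · intro h1
      rw [h1, orderOf_one] at hx
      exact hp.one_lt.ne hx
    · rw [← hx]; exact pow_orderOf_eq_one x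
  have hMH : Nat.card H ∣ M.card := by
    apply Hdvd M
    · rw [hM, Finset.mem_filter]
      intro h
      exact h.2.1 rfl
    · intro h v hv
      rw [hM, Finset.mem_filter] at hv ⊢
      refine ⟨Finset.mem_univ _, hne1 h v hv.2.1, ?_⟩
      rw [← smul_pow', hv.2.2, smul_one]
  have hMpos : 0 < M.card := Finset.card_pos.mpr ⟨x, hxM⟩
  have hMd : Nat.card H ≤ M.card := Nat.le_of_dvd hMpos hMH
  have hPcard : M.card + 1 ≤ Nat.card P := by
    have h1 : Nat.card P = (Finset.univ.filter (fun v : F => v ∈ P)).card := by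
      rw [Nat.card_eq_fintype_card, Fintype.card_subtype]
    rw [h1]
    have h2 : insert (1 : F) M ⊆ Finset.univ.filter (fun v : F => v ∈ P) := by
      intro v hv
      rw [Finset.mem_insert] at hv
      rw [Finset.mem_filter]
      refine ⟨Finset.mem_univ _, ?_⟩
      rcases hv with rfl | hv
      · exact P.one_mem
      · rw [hM, Finset.mem_filter] at hv
        exact hv.2.2
    have h3 : (insert (1 : F) M).card = M.card + 1 := by
      apply Finset.card_insert_of_notMem
      rw [hM, Finset.mem_filter]
      intro h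
      exact h.2.1 rfl
    rw [← h3]
    exact Finset.card_le_card h2
  have hPtop : P = ⊤ := by
    rw [← Subgroup.index_eq_one]
    have hmul := Subgroup.card_mul_index P
    have hipos : 0 < P.index := Nat.pos_of_ne_zero Subgroup.index_ne_zero_of_finite
    by_contra hne
    have h2 : 2 ≤ P.index := by omega
    have : Nat.card P * 2 ≤ Nat.card P * P.index := Nat.mul_le_mul_left _ h2
    omega
  intro u
  have : u ∈ P := by rw [hPtop]; trivial
  exact this


/-- the conjugation action of a subgroup `H` on a subgroup `F` it normalizes -/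
@[instance_reducible]
def conjMDMA {G : Type*} [Group G] (H F : Subgroup G)
    (hconj : ∀ h ∈ H, ∀ u ∈ F, h * u * h⁻¹ ∈ F) : MulDistribMulAction H F where
  smul h u := ⟨(h : G) * (u : G) * (h : G)⁻¹, hconj h h.2 u u.2⟩
  one_smul u := Subtype.ext (by
    change ((1 : H) : G) * (u : G) * ((1 : H) : G)⁻¹ = u
    simp)
  mul_smul h h' u := Subtype.ext (by
    change ((h * h' : H) : G) * (u : G) * ((h * h' : H) : G)⁻¹ =
      (h : G) * ((h' : G) * (u : G) * (h' : G)⁻¹) * (h : G)⁻¹
    simp [mul_assoc])
  smul_mul h u v := Subtype.ext (by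
    change (h : G) * ((u * v : F) : G) * (h : G)⁻¹ =
      ((h : G) * (u : G) * (h : G)⁻¹) * ((h : G) * (v : G) * (h : G)⁻¹)
    simp [mul_assoc])
  smul_one h := Subtype.ext (by
    change (h : G) * ((1 : F) : G) * (h : G)⁻¹ = 1
    simp)

/-- Let a finite Zassenhaus group of degree `n + 1` have two-point stabilisers of order `d` with `2d ≥ n - 1`. Then a normal subgroup of a point stabiliser acting regularly on the remaining points is elementary abelian, and the degree is a prime power plus one. -/
theorem result {G Ω : Type*} [Group G] [Finite G] [MulAction G Ω] [Fintype Ω] (hZ : Cfsg.IsZassenhausGroup G Ω) {a b : Ω} (hab : a ≠ b) (hd : Fintype.card Ω - 2 ≤ 2 * Nat.card ↥(MulAction.stabilizer G a ⊓ MulAction.stabilizer G b)) (F : Subgroup G) (hFle : F ≤ MulAction.stabilizer G a) (hFn : (F.subgroupOf (MulAction.stabilizer G a)).Normal) (hreg : ∀ y z : Ω, y ≠ a → z ≠ a → ∃! u : F, (u : G) • y = z) : IsMulCommutative F ∧ ∃ p f : ℕ, p.Prime ∧ (∀ u ∈ F, u ^ p = 1) ∧ Fintype.card Ω = p ^ f + 1 := by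
  classical
  obtain ⟨hfaith, h2t, h3, ⟨g₀, hg₀, a', b', hab', hga', hgb'⟩, _⟩ := hZ
  -- at least three points
  have hcard3 : 3 ≤ Fintype.card Ω := by
    have hmove : ∃ c : Ω, g₀ • c ≠ c := by
      by_contra hcon
      push Not at hcon
      apply hg₀
      apply hfaith.eq_of_smul_eq_smul
      intro x
      rw [hcon x, one_smul]
    obtain ⟨c, hc⟩ := hmove
    have hca : a' ≠ c := by rintro rfl; exact hc hga'
    have hcb : b' ≠ c := by rintro rfl; exact hc hgb'
    have h3' : ({a', b', c} : Finset Ω).card = 3 := Finset.card_eq_three.mpr ⟨a', b', c, hab', hca, hcb, rfl⟩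
    rw [← h3']
    exact Finset.card_le_univ _
  -- conjugation by the two point stabilizer preserves F
  have hconj : ∀ h ∈ MulAction.stabilizer G a ⊓ MulAction.stabilizer G b, ∀ u ∈ F,
      h * u * h⁻¹ ∈ F := by
    intro h hh u hu
    have hK : h ∈ MulAction.stabilizer G a := (Subgroup.mem_inf.mp hh).1
    have hu' : (⟨u, hFle hu⟩ : MulAction.stabilizer G a) ∈ F.subgroupOf (MulAction.stabilizer G a) :=
      Subgroup.mem_subgroupOf.mpr hu
    have := hFn.conj_mem _ hu' ⟨h, hK⟩
    exact Subgroup.mem_subgroupOf.mp this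
  let _ := conjMDMA (MulAction.stabilizer G a ⊓ MulAction.stabilizer G b) F hconj
  have hsmul : ∀ (h : ↥(MulAction.stabilizer G a ⊓ MulAction.stabilizer G b)) (u : F),
      ((h • u : F) : G) = (h : G) * (u : G) * (h : G)⁻¹ := fun h u => rfl
  -- facts on the regular action of F
  have hFa : ∀ u : F, (u : G) • a = a := fun u => MulAction.mem_stabilizer_iff.mp (hFle u.2)
  have hub_ne_a : ∀ u : F, (u : G) • b ≠ a := by
    intro u h
    exact hab (smul_left_cancel _ ((hFa u).trans h.symm))
  have hub_ne_b : ∀ u : F, u ≠ 1 → (u : G) • b ≠ b := by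
    intro u hu h
    obtain ⟨w, _, hw⟩ := hreg b b hab.symm hab.symm
    have h1 := hw u h
    have h2 := hw 1 (by simp)
    exact hu (h1.trans h2.symm)
  have free : ∀ (h : ↥(MulAction.stabilizer G a ⊓ MulAction.stabilizer G b)) (u : F), u ≠ 1 →
      h • u = u → h = 1 := by
    intro h u hu hhu
    have hh := h.2
    rw [Subgroup.mem_inf, MulAction.mem_stabilizer_iff, MulAction.mem_stabilizer_iff] at hh
    have h1 : (h : G) * (u : G) * (h : G)⁻¹ = (u : G) := by
      rw [← hsmul, hhu]
    have h2 : (h : G) • ((u : G) • b) = (u : G) • b := by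
      have : (h : G) * (u : G) = (u : G) * (h : G) := mul_inv_eq_iff_eq_mul.mp h1
      rw [← mul_smul, this, mul_smul, hh.2]
    have := h3 (h : G) a b ((u : G) • b) hab (hub_ne_b u hu).symm (hub_ne_a u).symm hh.1 hh.2 h2
    exact Subtype.ext this
  -- the cardinality of F
  have hFcard : Nat.card F = Fintype.card Ω - 1 := by
    have hbij : Function.Bijective (fun u : F => (⟨(u : G) • b, hub_ne_a u⟩ : {y : Ω // y ≠ a})) := by
      constructor
      · intro u v huv
        have huv' : (u : G) • b = (v : G) • b := congrArg Subtype.val huv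
        obtain ⟨w, _, hw⟩ := hreg b ((v : G) • b) hab.symm (hub_ne_a v)
        exact (hw u huv').trans (hw v rfl).symm
      · rintro ⟨y, hy⟩
        obtain ⟨w, hw, _⟩ := hreg b y hab.symm hy
        exact ⟨w, Subtype.ext hw⟩
    rw [Nat.card_congr (Equiv.ofBijective _ hbij), Nat.card_eq_fintype_card, Fintype.card_subtype,
      Finset.filter_ne' Finset.univ a, Finset.card_erase_of_mem (Finset.mem_univ a),
      Finset.card_univ]
  have hd' : Nat.card F - 1 ≤ 2 * Nat.card ↥(MulAction.stabilizer G a ⊓ MulAction.stabilizer G b) := by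
    rw [hFcard]
    exact hd
  have hn : 1 < Nat.card F := by rw [hFcard]; omega
  obtain ⟨comm, p, hp, hexp⟩ := abstract_main free hd' hn
  refine ⟨⟨⟨comm⟩⟩, ?_⟩
  have : Fact p.Prime := ⟨hp⟩
  have hPG : IsPGroup p F := fun u => ⟨1, by rw [pow_one]; exact hexp u⟩
  obtain ⟨f, hf⟩ := IsPGroup.iff_card.mp hPG
  refine ⟨p, f, hp, ?_, ?_⟩
  · intro u hu
    have h1 := hexp ⟨u, hu⟩
    have h2 := congrArg Subtype.val h1
    simpa using h2
  · rw [← hf, hFcard]
    omega

end Cfsg.Agent.S0738
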