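import Cfsg.Statements.S0741
import Mathlib

set_option autoImplicit false
open Cfsg

namespace Cfsg.Agent.S0741

open Finset in
theorem count_aux {G Ω : Type*} [Group G] [Fintype G] [DecidableEq G] [MulAction G Ω] [Fintype Ω]
    [DecidableEq Ω]
    (h2 : ∀ {a b c d : Ω}, a ≠ b → c ≠ d → ∃ g : G, g • a = c ∧ g • b = d)
    {a b : Ω} (hab : a ≠ b) (z : G) (hz2 : z * z = 1) (hza : z • a = a) (hzb : z • b = b)
    (hzfix : ∀ c : Ω, z • c = c → c = a ∨ c = b)
    (HF : Finset G) (hHF : ∀ g, g ∈ HF ↔ g • a = a ∧ g • b = b) :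
    Fintype.card Ω - 2 ≤ 2 * #HF := by
  obtain ⟨T, hT⟩ : ∃ T : Finset G, ∀ t, t ∈ T ↔ t • a = b ∧ t • b = a :=
    ⟨univ.filter (fun t : G => t • a = b ∧ t • b = a), by simp⟩
  obtain ⟨W, hW⟩ : ∃ W : Finset G, ∀ g, g ∈ W ↔ z • (g • a) = g • b :=
    ⟨univ.filter (fun g : G => z • (g • a) = g • b), by simp⟩
  obtain ⟨C, hC⟩ : ∃ C : Finset G, ∀ k, k ∈ C ↔ k * z = z * k :=
    ⟨univ.filter (fun k : G => k * z = z * k), by simp⟩
  obtain ⟨S, hS, hScard⟩ : ∃ S : Finset Ω, (∀ u, u ∈ S ↔ u ≠ a ∧ u ≠ b) ∧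
      #S = Fintype.card Ω - 2 :=
    ⟨(univ : Finset Ω) \ {a, b}, by simp, by rw [card_univ_sdiff, card_pair hab]⟩
  have h1HF : (1 : G) ∈ HF := by simp [hHF]
  have hdpos : 0 < #HF := card_pos.mpr ⟨1, h1HF⟩
  -- |T| ≤ d
  have hTle : #T ≤ #HF := by
    rcases T.eq_empty_or_nonempty with h | ⟨t₀, ht₀⟩
    · rw [h]; simp
    · apply card_le_card_of_injOn (fun t => t₀⁻¹ * t)
      · intro t ht
        rw [mem_coe, hT] at ht
        rw [hT] at ht₀
        rw [mem_coe, hHF, mul_smul, mul_smul, inv_smul_eq_iff, inv_smul_eq_iff, ht.1, ht.2,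
          ht₀.1, ht₀.2]
        exact ⟨rfl, rfl⟩
      · intro t _ t' _ h
        exact mul_left_cancel h
  -- lower bound
  have hlow : #S * #HF ≤ #W := by
    have hmaps : ∀ g ∈ W, g • a ∈ S := by
      intro g hg
      rw [hW] at hg
      rw [hS]
      constructor
      · intro h
        rw [h, hza] at hg
        exact hab (smul_left_cancel g (h.trans hg))
      · intro h
        rw [h, hzb] at hg
        exact hab (smul_left_cancel g (h.trans hg))
    rw [card_eq_sum_card_fiberwise hmaps]
    rw [← smul_eq_mul, ← sum_const]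
    apply sum_le_sum
    intro u hu
    rw [hS] at hu
    have huz : u ≠ z • u := by
      intro h
      rcases hzfix u h.symm with h' | h'
      · exact hu.1 h'
      · exact hu.2 h'
    obtain ⟨g₀, hg₀a, hg₀b⟩ := h2 hab huz
    apply card_le_card_of_injOn (fun h => g₀ * h)
    · intro h hh
      rw [mem_coe, hHF] at hh
      rw [mem_coe, mem_filter, hW, mul_smul, mul_smul, hh.1, hh.2, hg₀a, hg₀b]
      exact ⟨rfl, rfl⟩
    · intro h _ h' _ heq
      exact mul_left_cancel heq
  -- the centralizer of z is inside HF ∪ T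
  have hCle : #C ≤ 2 * #HF := by
    have hsub : C ⊆ HF ∪ T := by
      intro k hk
      rw [hC] at hk
      have hka : z • (k • a) = k • a := by
        rw [← mul_smul, ← hk, mul_smul, hza]
      have hkb : z • (k • b) = k • b := by
        rw [← mul_smul, ← hk, mul_smul, hzb]
      have hne : k • a ≠ k • b := fun h => hab (smul_left_cancel k h)
      rw [mem_union, hHF, hT]
      rcases hzfix _ hka with h | h <;> rcases hzfix _ hkb with h' | h'
      · exact absurd (h.trans h'.symm) hne
      · exact Or.inl ⟨h, h'⟩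
      · exact Or.inr ⟨h, h'⟩
      · exact absurd (h.trans h'.symm) hne
    calc #C ≤ #(HF ∪ T) := card_le_card hsub
      _ ≤ #HF + #T := card_union_le _ _
      _ ≤ 2 * #HF := by omega
  -- upper bound
  have hup : #W ≤ (2 * #HF) * #T := by
    apply card_le_mul_card_image_of_maps_to (f := fun g => g⁻¹ * z * g)
    · intro g hg
      rw [hW] at hg
      rw [hT, mul_smul, mul_smul, mul_smul, mul_smul, inv_smul_eq_iff, inv_smul_eq_iff]
      refine ⟨hg, ?_⟩
      rw [← hg, ← mul_smul, hz2, one_smul]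
    · intro t _
      rcases (W.filter (fun g => g⁻¹ * z * g = t)).eq_empty_or_nonempty with h | ⟨g₁, hg₁⟩
      · rw [h]; simp
      · refine le_trans ?_ hCle
        apply card_le_card_of_injOn (fun g => g * g₁⁻¹)
        · intro g hg
          rw [mem_coe, mem_filter] at hg
          rw [mem_filter] at hg₁
          rw [mem_coe, hC]
          have h := hg.2.trans hg₁.2.symm
          have h' : z * g = g * (g₁⁻¹ * z * g₁) := by
            rw [← h]; group
          calc g * g₁⁻¹ * z = g * (g₁⁻¹ * z * g₁) * g₁⁻¹ := by group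
            _ = z * g * g₁⁻¹ := by rw [← h']
            _ = z * (g * g₁⁻¹) := by group
        · intro g _ g' _ heq
          exact mul_right_cancel heq
  have : #S * #HF ≤ (2 * #HF) * #HF :=
    le_trans hlow (le_trans hup (Nat.mul_le_mul_left _ hTle))
  rw [← hScard]
  exact Nat.le_of_mul_le_mul_right this hdpos

/-- If the two-point stabilisers of a finite Zassenhaus group of degree `n + 1` have even order `d`, then `2d ≥ n - 1`. -/
theorem result {G Ω : Type*} [Group G] [Finite G] [MulAction G Ω] [Fintype Ω] (hZ : Cfsg.IsZassenhausGroup G Ω) {a b : Ω} (hab : a ≠ b) (heven : Even (Nat.card ↥(MulAction.stabilizer G a ⊓ MulAction.stabilizer G b))) : Fintype.card Ω - 2 ≤ 2 * Nat.card ↥(MulAction.stabilizer G a ⊓ MulAction.stabilizer G b) := by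
  classical
  obtain ⟨_, h2t, h3, _, _⟩ := hZ
  have := Fintype.ofFinite G
  have : Fact (Nat.Prime 2) := ⟨Nat.prime_two⟩
  obtain ⟨z, hz⟩ := exists_prime_orderOf_dvd_card' 2 (even_iff_two_dvd.mp heven)
  have hzmem := z.2
  rw [Subgroup.mem_inf, MulAction.mem_stabilizer_iff, MulAction.mem_stabilizer_iff] at hzmem
  have hz2 : (z : G) * (z : G) = 1 := by
    have h : z ^ 2 = 1 := by rw [← hz]; exact pow_orderOf_eq_one z
    have := congrArg Subtype.val h
    rw [pow_two] at this
    exact_mod_cast this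
  have hz1 : (z : G) ≠ 1 := by
    intro h
    have : z = 1 := Subtype.ext h
    rw [this, orderOf_one] at hz
    omega
  have hzfix : ∀ c : Ω, (z : G) • c = c → c = a ∨ c = b := by
    intro c hc
    by_contra hcon
    push Not at hcon
    exact hz1 (h3 z a b c hab (Ne.symm hcon.2) (Ne.symm hcon.1) hzmem.1 hzmem.2 hc)
  have key := count_aux (G := G) (fun {a b c d} => MulAction.is_two_pretransitive_iff.mp h2t)
    hab (z : G) hz2 hzmem.1 hzmem.2 hzfix (Finset.univ.filter (fun g : G => g • a = a ∧ g • b = b)) (by simp)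
  have hcard : Nat.card ↥(MulAction.stabilizer G a ⊓ MulAction.stabilizer G b) =
      Finset.card (Finset.univ.filter (fun g : G => g • a = a ∧ g • b = b)) := by
    rw [Nat.card_eq_fintype_card, Fintype.card_subtype]
    congr 1
    ext g
    simp [Subgroup.mem_inf, MulAction.mem_stabilizer_iff]
  rw [hcard]
  exact key

end Cfsg.Agent.S0741
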