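import Cfsg.Statements.S0740
import Mathlib

set_option autoImplicit false
open Cfsg

namespace Cfsg.Agent.S0740

variable {G Ω : Type*} [Group G] [MulAction G Ω]

/-- parity of the number of fixed points of an involution -/
theorem parity_fix [Finite Ω] (s : G) (hs : orderOf s = 2) :
    Nat.card Ω ≡ Nat.card (MulAction.fixedBy Ω s) [MOD 2] := by
  have : Fact (Nat.Prime 2) := ⟨Nat.prime_two⟩
  have hp : IsPGroup 2 (Subgroup.zpowers s) := by
    apply IsPGroup.of_card (n := 1)
    rw [Nat.card_zpowers, hs, pow_one]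
  have h := hp.card_modEq_card_fixedPoints Ω
  have heq : MulAction.fixedPoints (Subgroup.zpowers s) Ω = MulAction.fixedBy Ω s := by
    ext x
    rw [MulAction.mem_fixedPoints]
    constructor
    · intro h
      exact h ⟨s, Subgroup.mem_zpowers s⟩
    · rintro h ⟨g, hg⟩
      obtain ⟨k, rfl⟩ := Subgroup.mem_zpowers_iff.mp hg
      exact MulAction.mem_fixedBy_zpow h k
  rw [heq] at h
  exact h

/-- a non-identity element with the three-point property has at most two fixed points -/
theorem card_fix_le_two [Finite Ω]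
    (h3 : ∀ g : G, ∀ a b c : Ω, a ≠ b → b ≠ c → a ≠ c → g • a = a → g • b = b → g • c = c → g = 1)
    (s : G) (hs : s ≠ 1) : Nat.card (MulAction.fixedBy Ω s) ≤ 2 := by
  classical
  have := Fintype.ofFinite Ω
  by_contra hcon
  push Not at hcon
  have hcard : Nat.card (MulAction.fixedBy Ω s) =
      (Finset.univ.filter (fun x : Ω => s • x = x)).card := by
    rw [Nat.card_eq_fintype_card, Fintype.card_subtype]
    rfl
  rw [hcard, Finset.two_lt_card] at hcon
  obtain ⟨a, ha, b, hb, c, hc, hab, hac, hbc⟩ := hcon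
  simp only [Finset.mem_filter, Finset.mem_univ, true_and] at ha hb hc
  exact hs (h3 s a b c hab hbc hac ha hb hc)

/-- conjugating an involution moving `c` to one swapping `a` and `b` -/
theorem conj_invol (h2 : ∀ {a b c d : Ω}, a ≠ b → c ≠ d → ∃ g : G, g • a = c ∧ g • b = d)
    (t : G) (ht : orderOf t = 2) (c : Ω) (hc : t • c ≠ c) {a b : Ω} (hab : a ≠ b) :
    ∃ h : G, orderOf (h * t * h⁻¹) = 2 ∧ (h * t * h⁻¹) • a = b ∧ (h * t * h⁻¹) • b = a ∧
      ∀ x : Ω, t • x = x → (h * t * h⁻¹) • (h • x) = h • x := by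
  have ht2 : t * t = 1 := by
    have := pow_orderOf_eq_one t
    rw [ht, pow_two] at this
    exact this
  obtain ⟨h, hha, hhb⟩ := h2 (Ne.symm hc) hab
  have hsa : (h * t * h⁻¹) • a = b := by
    rw [mul_smul, mul_smul, inv_smul_eq_iff.mpr hha.symm, hhb]
  have hsb : (h * t * h⁻¹) • b = a := by
    rw [mul_smul, mul_smul, inv_smul_eq_iff.mpr hhb.symm, ← mul_smul t t, ht2, one_smul, hha]
  refine ⟨h, ?_, hsa, hsb, ?_⟩
  · have : Fact (Nat.Prime 2) := ⟨Nat.prime_two⟩
    apply orderOf_eq_prime
    · rw [pow_two]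
      calc h * t * h⁻¹ * (h * t * h⁻¹) = h * (t * t) * h⁻¹ := by group
        _ = 1 := by rw [ht2]; group
    · intro h1
      rw [h1, one_smul] at hsa
      exact hab hsa
  · intro x hx
    rw [mul_smul, mul_smul, inv_smul_smul, hx]

/-- In a finite Zassenhaus group any two points `a ≠ b` are swapped by an involution; every such involution has exactly one fixed point when the degree is odd and 0 or 2 fixed points when the degree is even; and if the two-point stabiliser has even order, some such involution has exactly 2 fixed points. -/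
theorem result {G Ω : Type*} [Group G] [Finite G] [MulAction G Ω] [Fintype Ω] (hZ : Cfsg.IsZassenhausGroup G Ω) {a b : Ω} (hab : a ≠ b) : (∃ s : G, orderOf s = 2 ∧ s • a = b ∧ s • b = a) ∧ (∀ s : G, orderOf s = 2 → s • a = b → s • b = a → (Odd (Fintype.card Ω) → Nat.card (MulAction.fixedBy Ω s) = 1) ∧ (Even (Fintype.card Ω) → Nat.card (MulAction.fixedBy Ω s) = 0 ∨ Nat.card (MulAction.fixedBy Ω s) = 2)) ∧ (Even (Fintype.card Ω) → Even (Nat.card ↥(MulAction.stabilizer G a ⊓ MulAction.stabilizer G b)) → ∃ s : G, orderOf s = 2 ∧ s • a = b ∧ s • b = a ∧ Nat.card (MulAction.fixedBy Ω s) = 2) := by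
  classical
  obtain ⟨hfaith, h2t, h3, _, _⟩ := hZ
  have h2 : ∀ {a b c d : Ω}, a ≠ b → c ≠ d → ∃ g : G, g • a = c ∧ g • b = d :=
    fun {a b c d} => MulAction.is_two_pretransitive_iff.mp h2t
  have : Fact (Nat.Prime 2) := ⟨Nat.prime_two⟩
  -- every non-identity element moves a point
  have hmove : ∀ t : G, t ≠ 1 → ∃ c : Ω, t • c ≠ c := by
    intro t ht
    by_contra hcon
    push Not at hcon
    apply ht
    apply hfaith.eq_of_smul_eq_smul
    intro x
    rw [hcon x, one_smul]
  have hne1 : ∀ t : G, orderOf t = 2 → t ≠ 1 := by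
    intro t ht h1
    rw [h1, orderOf_one] at ht
    omega
  -- part 2
  have part2 : ∀ s : G, orderOf s = 2 → s • a = b → s • b = a → (Odd (Fintype.card Ω) → Nat.card (MulAction.fixedBy Ω s) = 1) ∧ (Even (Fintype.card Ω) → Nat.card (MulAction.fixedBy Ω s) = 0 ∨ Nat.card (MulAction.fixedBy Ω s) = 2) := by
    intro s hs _ _
    have hle := card_fix_le_two h3 s (hne1 s hs)
    have hpar := parity_fix (Ω := Ω) s hs
    rw [Nat.card_eq_fintype_card (α := Ω)] at hpar
    have hpar' : Fintype.card Ω % 2 = Nat.card (MulAction.fixedBy Ω s) % 2 := hpar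
    constructor
    · intro hodd
      rw [Nat.odd_iff] at hodd
      omega
    · intro hev
      rw [Nat.even_iff] at hev
      omega
  refine ⟨?_, part2, ?_⟩
  · -- part 1
    obtain ⟨g, hga, hgb⟩ := h2 hab (Ne.symm hab)
    -- the order of g is even
    have hev : Even (orderOf g) := by
      by_contra hodd
      rw [Nat.not_even_iff_odd] at hodd
      obtain ⟨k, hk⟩ := hodd
      have hg2 : g ^ 2 ∈ MulAction.stabilizer G a := by
        rw [MulAction.mem_stabilizer_iff, pow_two, mul_smul, hga, hgb]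
      have h1 : (g ^ 2) ^ k * g = 1 := by
        rw [← pow_mul, ← pow_succ, ← hk]
        exact pow_orderOf_eq_one g
      have h2' : g = ((g ^ 2) ^ k)⁻¹ := (inv_eq_of_mul_eq_one_right h1).symm
      have h3' : g ∈ MulAction.stabilizer G a := by
        rw [h2']
        exact Subgroup.inv_mem _ (Subgroup.pow_mem _ hg2 k)
      rw [MulAction.mem_stabilizer_iff, hga] at h3'
      exact hab h3'.symm
    have hpos : 0 < orderOf g := orderOf_pos g
    obtain ⟨m, hm⟩ := hev
    have hm0 : m ≠ 0 := by omega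
    have ht : orderOf (g ^ m) = 2 := by
      rw [orderOf_pow_of_dvd hm0 ⟨2, by omega⟩, hm]
      rw [← two_mul, Nat.mul_div_cancel _ (by omega)]
    obtain ⟨c, hc⟩ := hmove _ (hne1 _ ht)
    obtain ⟨h, ho, hsa, hsb, _⟩ := conj_invol h2 (g ^ m) ht c hc hab
    exact ⟨_, ho, hsa, hsb⟩
  · -- part 3
    intro hevΩ hevd
    obtain ⟨z, hz⟩ := exists_prime_orderOf_dvd_card' 2 (even_iff_two_dvd.mp hevd)
    have hzmem := z.2
    rw [Subgroup.mem_inf, MulAction.mem_stabilizer_iff, MulAction.mem_stabilizer_iff] at hzmem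
    have hz' : orderOf (z : G) = 2 := by
      rw [← hz]
      exact Subgroup.orderOf_coe z
    obtain ⟨c, hc⟩ := hmove _ (hne1 _ hz')
    obtain ⟨h, ho, hsa, hsb, hfix⟩ := conj_invol h2 (z : G) hz' c hc hab
    refine ⟨_, ho, hsa, hsb, ?_⟩
    rcases (part2 _ ho hsa hsb).2 hevΩ with h0 | h0
    · exfalso
      have hmem : h • a ∈ MulAction.fixedBy Ω (h * (z : G) * h⁻¹) := hfix a hzmem.1
      have : Nonempty (MulAction.fixedBy Ω (h * (z : G) * h⁻¹)) := ⟨⟨_, hmem⟩⟩
      have hpos : 0 < Nat.card (MulAction.fixedBy Ω (h * (z : G) * h⁻¹)) := Nat.card_pos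
      omega
    · exact h0

end Cfsg.Agent.S0740
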