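import Cfsg.Statements.S0742
import Cfsg.Agent.Lib.Helper23.ZassEvenB

set_option autoImplicit false
open Cfsg

namespace Cfsg.Agent.S0742

/-- A finite Zassenhaus group of degree `n + 1` with two-point stabilisers of even order `d` satisfying `2d ≤ n - 1` has `n = p^f` for an odd prime `p` and is isomorphic to `PSL(2, p^f)`. -/
theorem result {G Ω : Type*} [Group G] [Finite G] [MulAction G Ω] [Fintype Ω] (hZ : Cfsg.IsZassenhausGroup G Ω) {a b : Ω} (hab : a ≠ b) (heven : Even (Nat.card ↥(MulAction.stabilizer G a ⊓ MulAction.stabilizer G b))) (hd : 2 * Nat.card ↥(MulAction.stabilizer G a ⊓ MulAction.stabilizer G b) ≤ Fintype.card Ω - 2) : ∃ (p f : ℕ) (K : Type) (_ : Field K) (_ : Fintype K), p.Prime ∧ p ≠ 2 ∧ Fintype.card K = p ^ f ∧ Fintype.card Ω = p ^ f + 1 ∧ Nonempty (G ≃* Matrix.ProjectiveSpecialLinearGroup (Fin 2) K) := by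
  obtain ⟨N, z, w, hdata, hcardN, hcardH⟩ :=
    Cfsg.Agent.Lib.Helper23.zass_even_data hZ hab heven hd
  have hG : Nat.card G = Fintype.card Ω * (Fintype.card Ω - 1) *
      Nat.card ↥(MulAction.stabilizer G a ⊓ MulAction.stabilizer G b) := by
    have h1 := Cfsg.Agent.Lib.Helper21.zass_index hZ hab
    have h2 := Subgroup.card_mul_index
      (MulAction.stabilizer G a ⊓ MulAction.stabilizer G b : Subgroup G)
    rw [h1] at h2
    rw [← h2, mul_comm]
  obtain ⟨K, instF, instFin, hcardK, ⟨e1⟩⟩ :=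
    Cfsg.Agent.Lib.Helper23.zass_even_psl hdata hcardN hcardH hG
  obtain ⟨p, hchar⟩ := CharP.exists K
  obtain ⟨n, hp, hKcard⟩ := FiniteField.card K p
  have hp2 : p ≠ 2 := by
    rintro rfl
    have hev : Even (Fintype.card K) := by
      rw [hKcard]
      exact Nat.even_pow.mpr ⟨even_two, n.ne_zero⟩
    obtain ⟨k, hk⟩ := hev
    omega
  have : Fact p.Prime := ⟨hp⟩
  let instFF : Fintype (GaloisField p n) := Fintype.ofFinite _
  have hcardF : Fintype.card (GaloisField p n) = p ^ (n : ℕ) := by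
    rw [← Nat.card_eq_fintype_card, GaloisField.card p n n.ne_zero]
  obtain ⟨e2⟩ := Cfsg.Agent.Lib.Helper23.psl_congr (Fin 2)
    (FiniteField.ringEquivOfCardEq (hKcard.trans hcardF.symm))
  exact ⟨p, n, GaloisField p n, inferInstance, instFF, hp, hp2, hcardF,
    by rw [← hcardK, hKcard], ⟨e1.trans e2⟩⟩

end Cfsg.Agent.S0742
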