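import Cfsg.Statements.S0339
import Cfsg.Agent.Lib.Helper9.Zassenhaus

set_option autoImplicit false
open Cfsg

namespace Cfsg.Agent.S0339

open Cfsg.Agent.Lib.Helper9 in
/-- A non-trivial normal subgroup of a Zassenhaus group is itself a Zassenhaus group on the same set. -/
theorem result {G Ω : Type*} [Group G] [MulAction G Ω] [Finite Ω]
    (hZ : Cfsg.IsZassenhausGroup G Ω) (N : Subgroup G) [N.Normal] (hN : N ≠ ⊥) :
    Cfsg.IsZassenhausGroup N Ω := by
  have hD := zdata_of_zassenhaus hZ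
  have hfaith := hD.faithful
  have hfin : Finite G := Finite.of_injective (MulAction.toPermHom G Ω) MulAction.toPerm_injective
  have noreg := noreg_of_zassenhaus hZ
  have hNn : N.Normal := inferInstance
  refine ⟨inferInstance, ?_, ?_, ?_, ?_⟩
  · rw [MulAction.is_two_pretransitive_iff]
    intro a b c d hab hcd
    obtain ⟨n, hn, e1, e2⟩ := hD.normal_two noreg N hNn hN hab hcd
    exact ⟨⟨n, hn⟩, e1, e2⟩
  · intro g a b c hab hbc hac ha hb hc
    exact Subtype.ext (hD.three g.1 a b c hab hbc hac ha hb hc)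
  · obtain ⟨n, hn, hn1, a, b, hab, ha, hb⟩ := hD.normal_fix noreg N hNn hN
    exact ⟨⟨n, hn⟩, fun hh => hn1 (congrArg Subtype.val hh), a, b, hab, ha, hb⟩
  · intro M hMn hMt
    by_contra hcon
    push Not at hcon
    apply hD.no_regular_normal noreg N hNn hN (M.map N.subtype)
    · intro n hn m hm
      obtain ⟨x, hx, rfl⟩ := Subgroup.mem_map.mp hm
      exact Subgroup.mem_map.mpr ⟨⟨n, hn⟩ * x * ⟨n, hn⟩⁻¹, hMn.conj_mem x hx ⟨n, hn⟩, rfl⟩
    · intro a b
      obtain ⟨m, hm⟩ := hMt.exists_smul_eq a b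
      exact ⟨m.1.1, Subgroup.mem_map_of_mem _ m.2, hm⟩
    · intro m hm a ha
      obtain ⟨x, hx, rfl⟩ := Subgroup.mem_map.mp hm
      have h1 : (⟨x, hx⟩ : M) ∈ MulAction.stabilizer M a := ha
      rw [hcon a] at h1
      have h2 := Subgroup.mem_bot.mp h1
      have h3 : x = 1 := congrArg Subtype.val h2
      rw [h3]
      rfl

end Cfsg.Agent.S0339
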