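import Cfsg.Statements.S0106
import Mathlib
import Cfsg.Agent.Lib.Helper43.QuatSyl

set_option autoImplicit false
open Cfsg

namespace Cfsg.Agent.S0106

/-- A finite group with generalized quaternion Sylow 2-subgroups either has a normal 2-complement or has a section isomorphic to SL(2,3). -/
theorem result {G : Type*} [Group G] [Finite G] (T : Sylow 2 G) (n : ℕ) (hn : 1 ≤ n) (hT : Nonempty ((T : Subgroup G) ≃* QuaternionGroup (2 ^ n))) : Cfsg.HasNormalPComplement 2 G ∨ ∃ (H K : Subgroup G) (hK : (K.subgroupOf H).Normal), Nonempty ((H ⧸ K.subgroupOf H) ≃* Matrix.SpecialLinearGroup (Fin 2) (ZMod 3)) := by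
  obtain ⟨e⟩ := hT
  let ι : QuaternionGroup (2 ^ n) →* G := (T : Subgroup G).subtype.comp e.symm.toMonoidHom
  have hι : Function.Injective ι := by
    intro x y hxy
    exact e.symm.injective (Subtype.ext hxy)
  have hT' : ι.range = (T : Subgroup G) := by
    ext x
    constructor
    · rintro ⟨q, rfl⟩
      exact (e.symm q).2
    · intro hx
      exact ⟨e ⟨x, hx⟩, by simp [ι]⟩
  rcases Cfsg.Agent.Lib.Helper43.quat_sylow_main T (N := 2 ^ n) (by positivity) ι hι hT' with h | h
  · left
    exact ⟨T, Cfsg.Agent.Lib.Helper75.NPC.exists_isComplement' h T⟩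
  · right
    exact h

end Cfsg.Agent.S0106
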