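import Cfsg.Statements.S0684
import Mathlib

set_option autoImplicit false
open Cfsg

namespace Cfsg.Agent.S0684

universe u v w

/-- a finite group with a faithful, commutative, irreducible linear action is cyclic -/
theorem cyclic_of_irred {K : Type u} [Field K] {W : Type v} [AddCommGroup W] [Module K W]
    [Nontrivial W] {A : Type w} [Group A] [Finite A] (ρ : A →* Module.End K W)
    (hρ : Function.Injective ρ) (hcomm : ∀ a b : A, ρ a * ρ b = ρ b * ρ a)
    (hirr : ∀ U : Submodule K W, (∀ a : A, ∀ u ∈ U, ρ a u ∈ U) → U = ⊥ ∨ U = ⊤) :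
    IsCyclic A := by
  open scoped IsMulCommutative in
  have hS : IsMulCommutative (Algebra.adjoin K (Set.range ρ)) :=
    Algebra.isMulCommutative_adjoin K (s := Set.range ρ) (by
      rintro _ ⟨a, rfl⟩ _ ⟨b, rfl⟩
      exact hcomm a b)
  have : NoZeroDivisors (Algebra.adjoin K (Set.range ρ)) := ⟨by
    intro e₁ e₂ h
    by_contra hcon
    push Not at hcon
    obtain ⟨h1, h2⟩ := hcon
    have hker : LinearMap.ker (e₁ : Module.End K W) = ⊥ := by
      rcases hirr (LinearMap.ker (e₁ : Module.End K W)) (by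
        intro a u hu
        rw [LinearMap.mem_ker] at hu ⊢
        have hc : (e₁ : Module.End K W) * ρ a = ρ a * e₁ := by
          have := hS.is_comm.comm e₁ ⟨ρ a, Algebra.subset_adjoin (Set.mem_range_self a)⟩
          exact congrArg Subtype.val this
        have := congrArg (fun φ : Module.End K W => φ u) hc
        simp only [Module.End.mul_apply] at this
        rw [this, hu, map_zero]) with h | h
      · exact h
      · exfalso
        apply h1
        apply Subtype.ext
        exact LinearMap.ker_eq_top.mp h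
    apply h2
    apply Subtype.ext
    ext w
    have h3 : (e₁ : Module.End K W) ((e₂ : Module.End K W) w) = 0 := by
      have := congrArg (fun φ : Algebra.adjoin K (Set.range ρ) => (φ : Module.End K W) w) h
      simpa using this
    have hmem : (e₂ : Module.End K W) w ∈ LinearMap.ker (e₁ : Module.End K W) := h3
    rw [hker] at hmem
    simpa using hmem⟩
  have : IsDomain (Algebra.adjoin K (Set.range ρ)) := NoZeroDivisors.to_isDomain _
  exact isCyclic_of_injective_ringHom
    (ρ.codRestrict (Algebra.adjoin K (Set.range ρ))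
      (fun a => Algebra.subset_adjoin (Set.mem_range_self a)))
    (fun a b h => hρ (congrArg Subtype.val h))

theorem exists_min {p : ℕ} [Fact p.Prime] {V : Type v} [AddCommGroup V] [Module (ZMod p) V]
    [Finite V] (P : Submodule (ZMod p) V → Prop) (W₀ : Submodule (ZMod p) V) (h0 : W₀ ≠ ⊥)
    (hP : P W₀) :
    ∃ W ≤ W₀, W ≠ ⊥ ∧ P W ∧ ∀ W' ≤ W, P W' → W' = ⊥ ∨ W' = W := by
  have : Finite (Submodule (ZMod p) V) :=
    Finite.of_injective (fun s => (s : Set V)) SetLike.coe_injective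
  obtain ⟨W, hW, hmin⟩ := wellFounded_lt.has_min {W | W ≤ W₀ ∧ W ≠ ⊥ ∧ P W} ⟨W₀, le_rfl, h0, hP⟩
  refine ⟨W, hW.1, hW.2.1, hW.2.2, fun W' hW' hP' => ?_⟩
  by_cases h : W' = ⊥
  · exact Or.inl h
  · right
    by_contra hne
    exact hmin W' ⟨hW'.trans hW.1, h, hP'⟩ (lt_of_le_of_ne hW' hne)

/-- the restricted action on an invariant subspace -/
noncomputable def rho {p : ℕ} [Fact p.Prime] {V : Type v} [AddCommGroup V] [Module (ZMod p) V]
    (H : Subgroup (V ≃ₗ[ZMod p] V)) (A : Subgroup H) (W : Submodule (ZMod p) V)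
    (hW : ∀ a ∈ A, ∀ v ∈ W, ((a : H) : V ≃ₗ[ZMod p] V) v ∈ W) :
    A →* Module.End (ZMod p) W where
  toFun a := (((a : H) : V ≃ₗ[ZMod p] V) : V →ₗ[ZMod p] V).restrict (hW a a.2)
  map_one' := by
    ext w
    rfl
  map_mul' a b := by
    ext w
    rfl

theorem main {p : ℕ} [Fact p.Prime] {V : Type v} [AddCommGroup V] [Module (ZMod p) V] [Finite V]
    (H : Subgroup (V ≃ₗ[ZMod p] V))
    (hfpf : ∀ h : H, ∀ v : V, v ≠ 0 → (h : V ≃ₗ[ZMod p] V) v = v → h = 1)
    (A : Subgroup H) (hAc : IsMulCommutative A) (W : Submodule (ZMod p) V) (hW0 : W ≠ ⊥)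
    (hW : ∀ a ∈ A, ∀ v ∈ W, ((a : H) : V ≃ₗ[ZMod p] V) v ∈ W)
    (hmin : ∀ W' : Submodule (ZMod p) V, W' ≤ W →
      (∀ a ∈ A, ∀ v ∈ W', ((a : H) : V ≃ₗ[ZMod p] V) v ∈ W') → W' = ⊥ ∨ W' = W) :
    IsCyclic A ∧ Nat.card A ∣ p ^ Module.finrank (ZMod p) W - 1 := by
  have : Finite (V ≃ₗ[ZMod p] V) := DFunLike.finite (V ≃ₗ[ZMod p] V)
  obtain ⟨w0, hw0W, hw0⟩ := (Submodule.ne_bot_iff W).mp hW0
  constructor
  · have : Nontrivial W := ⟨⟨⟨w0, hw0W⟩, 0, fun h => hw0 (congrArg Subtype.val h)⟩⟩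
    apply cyclic_of_irred (rho H A W hW)
    · intro a b hab
      have h1 : ((a : H) : V ≃ₗ[ZMod p] V) w0 = ((b : H) : V ≃ₗ[ZMod p] V) w0 := by
        have := congrArg (fun φ : Module.End (ZMod p) W => ((φ ⟨w0, hw0W⟩ : W) : V)) hab
        exact this
      have h2 : ((b : H))⁻¹ * (a : H) = 1 := by
        apply hfpf _ w0 hw0
        show ((b : H) : V ≃ₗ[ZMod p] V)⁻¹ (((a : H) : V ≃ₗ[ZMod p] V) w0) = w0
        rw [h1]
        exact ((b : H) : V ≃ₗ[ZMod p] V).symm_apply_apply w0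
      apply Subtype.ext
      have h3 : (a : H) = (b : H) * ((b : H)⁻¹ * (a : H)) := by group
      rw [h3, h2, mul_one]
    · intro a b
      rw [← map_mul, ← map_mul, hAc.is_comm.comm a b]
    · intro U hU
      rcases hmin (U.map W.subtype) (Submodule.map_subtype_le W U) (by
        intro a ha v hv
        obtain ⟨u, hu, rfl⟩ := hv
        exact ⟨rho H A W hW ⟨a, ha⟩ u, hU ⟨a, ha⟩ u hu, rfl⟩) with h | h
      · left
        rw [eq_bot_iff]
        intro u hu
        have : (u : V) ∈ U.map W.subtype := ⟨u, hu, rfl⟩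
        rw [h, Submodule.mem_bot] at this
        rw [Submodule.mem_bot]
        exact Subtype.ext this
      · right
        rw [eq_top_iff]
        intro u _
        have : (u : V) ∈ U.map W.subtype := by
          rw [h]
          exact u.2
        obtain ⟨u', hu', hu'u⟩ := this
        have : u' = u := Subtype.ext hu'u
        rwa [← this]
  · -- free action on the nonzero vectors of `W`
    let X : SubMulAction A V :=
      { carrier := (W : Set V) \ {0}
        smul_mem' := by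
          rintro a v ⟨hv, hv0⟩
          refine ⟨hW a a.2 v hv, ?_⟩
          intro h
          apply hv0
          have h' : ((a : H) : V ≃ₗ[ZMod p] V) v = 0 := h
          have := ((a : H) : V ≃ₗ[ZMod p] V).map_eq_zero_iff.mp h'
          exact this }
    have hfree : ∀ x : X, MulAction.stabilizer A x = ⊥ := by
      intro x
      rw [eq_bot_iff]
      intro a ha
      rw [Subgroup.mem_bot]
      have h1 : ((a : H) : V ≃ₗ[ZMod p] V) (x : V) = x := congrArg Subtype.val ha
      have h2 := hfpf (a : H) (x : V) x.2.2 h1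
      exact Subtype.ext h2
    have e := MulAction.selfEquivOrbitsQuotientProd hfree
    have hcard : Nat.card X = Nat.card (Quotient (MulAction.orbitRel A X)) * Nat.card A := by
      rw [Nat.card_congr e, Nat.card_prod]
    have hX : Nat.card X = p ^ Module.finrank (ZMod p) W - 1 := by
      have h1 : Nat.card X = ((W : Set V) \ {0}).ncard := Nat.card_coe_set_eq _
      rw [h1, Set.ncard_sdiff_singleton_of_mem (W.zero_mem)]
      have h2 : (W : Set V).ncard = Nat.card W := (Nat.card_coe_set_eq _).symm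
      rw [h2, Module.natCard_eq_pow_finrank (K := ZMod p) (V := W), Nat.card_zmod]
    rw [← hX, hcard]
    exact dvd_mul_left _ _

/-- Point stabiliser of a sharply doubly transitive group not of semilinear type: a maximal normal abelian subgroup `A` of a linear group `H` that is regular on non-zero vectors and has no irreducible cyclic normal subgroup is cyclic and reducible, and the order of `A` divides `p ^ k - 1` for `k` the dimension of a minimal `A`-invariant subspace. -/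
theorem result {p : ℕ} [Fact p.Prime] {V : Type*} [AddCommGroup V] [Module (ZMod p) V] [Finite V] (H : Subgroup (V ≃ₗ[ZMod p] V)) (hreg : ∀ v w : V, v ≠ 0 → w ≠ 0 → ∃! h : H, (h : V ≃ₗ[ZMod p] V) v = w) (hI : ∀ A : Subgroup H, A.Normal → IsCyclic A → ∃ W : Submodule (ZMod p) V, W ≠ ⊥ ∧ W ≠ ⊤ ∧ ∀ a ∈ A, ∀ v ∈ W, ((a : H) : V ≃ₗ[ZMod p] V) v ∈ W) (A : Subgroup H) (hAn : A.Normal) (hAc : IsMulCommutative A) (hAmax : ∀ B : Subgroup H, B.Normal → IsMulCommutative B → A ≤ B → B = A) : IsCyclic A ∧ ∃ W : Submodule (ZMod p) V, W ≠ ⊥ ∧ W ≠ ⊤ ∧ (∀ a ∈ A, ∀ v ∈ W, ((a : H) : V ≃ₗ[ZMod p] V) v ∈ W) ∧ (∀ W' : Submodule (ZMod p) V, W' ≤ W → (∀ a ∈ A, ∀ v ∈ W', ((a : H) : V ≃ₗ[ZMod p] V) v ∈ W') → W' = ⊥ ∨ W' = W) ∧ Nat.card A ∣ p ^ Module.finrank (ZMod p) W - 1 := by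
  have hfpf : ∀ h : H, ∀ v : V, v ≠ 0 → (h : V ≃ₗ[ZMod p] V) v = v → h = 1 := by
    intro h v hv hhv
    obtain ⟨h0, -, huniq⟩ := hreg v v hv hv
    rw [huniq h hhv, huniq 1 rfl]
  -- a first minimal invariant subspace, giving cyclicity
  obtain ⟨W₀, hW₀bot, -, -⟩ := hI ⊥ inferInstance inferInstance
  have htop : (⊤ : Submodule (ZMod p) V) ≠ ⊥ := by
    intro h
    apply hW₀bot
    rw [eq_bot_iff, ← h]
    exact le_top
  obtain ⟨W₁, -, hW₁0, hW₁inv, hW₁min⟩ := exists_min
    (fun W => ∀ a ∈ A, ∀ v ∈ W, ((a : H) : V ≃ₗ[ZMod p] V) v ∈ W) ⊤ htop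
    (fun _ _ _ _ => Submodule.mem_top)
  have hcyc : IsCyclic A := (main H hfpf A hAc W₁ hW₁0 hW₁inv hW₁min).1
  obtain ⟨W₂, hW₂bot, hW₂top, hW₂inv⟩ := hI A hAn hcyc
  obtain ⟨W, hWle, hW0, hWinv, hWmin⟩ := exists_min
    (fun W => ∀ a ∈ A, ∀ v ∈ W, ((a : H) : V ≃ₗ[ZMod p] V) v ∈ W) W₂ hW₂bot hW₂inv
  refine ⟨hcyc, W, hW0, ?_, hWinv, hWmin, (main H hfpf A hAc W hW0 hWinv hWmin).2⟩
  intro h
  apply hW₂top
  rw [eq_top_iff, ← h]
  exact hWle

end Cfsg.Agent.S0684
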