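import Cfsg.Statements.S0685
import Cfsg.Agent.S0684
import Mathlib

set_option autoImplicit false
open Cfsg

namespace Cfsg.Agent.S0685

theorem arith (c m q N : ℕ) (h1 : c + 1 = N) (h2 : q * q ≤ N) (h3 : m + 1 ≤ q)
    (h4 : c ≤ m * m) (h5 : 1 ≤ m) : False := by
  nlinarith [Nat.mul_le_mul h3 h3]

/-- In a linear group over the prime field that is regular on non-zero vectors and has no irreducible cyclic normal subgroup, a maximal normal abelian subgroup is properly contained in its centraliser, which is non-abelian. -/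
theorem result {p : ℕ} [Fact p.Prime] {V : Type*} [AddCommGroup V] [Module (ZMod p) V] [Finite V] (H : Subgroup (V ≃ₗ[ZMod p] V)) (hreg : ∀ v w : V, v ≠ 0 → w ≠ 0 → ∃! h : H, (h : V ≃ₗ[ZMod p] V) v = w) (hI : ∀ A : Subgroup H, A.Normal → IsCyclic A → ∃ W : Submodule (ZMod p) V, W ≠ ⊥ ∧ W ≠ ⊤ ∧ ∀ a ∈ A, ∀ v ∈ W, ((a : H) : V ≃ₗ[ZMod p] V) v ∈ W) (A : Subgroup H) (hAn : A.Normal) (hAc : IsMulCommutative A) (hAmax : ∀ B : Subgroup H, B.Normal → IsMulCommutative B → A ≤ B → B = A) : A < Subgroup.centralizer (A : Set H) ∧ ¬ IsMulCommutative (Subgroup.centralizer (A : Set H)) := by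
  obtain ⟨hcyc, W, hW0, hWtop, hWinv, hWmin, hdvd⟩ := S0684.result H hreg hI A hAn hAc hAmax
  have hAle : A ≤ Subgroup.centralizer (A : Set H) := by
    intro a ha
    rw [Subgroup.mem_centralizer_iff]
    intro b hb
    have := hAc.is_comm.comm ⟨b, hb⟩ ⟨a, ha⟩
    exact congrArg Subtype.val this
  have key : ¬ IsMulCommutative (Subgroup.centralizer (A : Set H)) := by
    intro hC
    have hCA : Subgroup.centralizer (A : Set H) = A := hAmax _ inferInstance hC hAle
    have : Finite (V ≃ₗ[ZMod p] V) := DFunLike.finite (V ≃ₗ[ZMod p] V)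
    obtain ⟨w0, hw0W, hw0⟩ := (Submodule.ne_bot_iff W).mp hW0
    obtain ⟨x, hx⟩ : ∃ x : V, x ∉ W := by
      by_contra hcon
      push Not at hcon
      exact hWtop (eq_top_iff.mpr fun v _ => hcon v)
    have hx0 : x ≠ 0 := fun h => hx (h ▸ W.zero_mem)
    obtain ⟨h, hh, -⟩ := hreg w0 x hw0 hx0
    obtain ⟨W', hW'def⟩ : ∃ W' : Submodule (ZMod p) V,
        W' = W.map (((h : H) : V ≃ₗ[ZMod p] V) : V →ₗ[ZMod p] V) := ⟨_, rfl⟩
    have hxW' : x ∈ W' := by
      rw [hW'def]
      exact ⟨w0, hw0W, hh⟩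
    have hW'inv : ∀ a ∈ A, ∀ v ∈ W', ((a : H) : V ≃ₗ[ZMod p] V) v ∈ W' := by
      intro a ha v' hv'
      rw [hW'def] at hv' ⊢
      obtain ⟨v, hv, rfl⟩ := hv'
      refine ⟨((h⁻¹ * a * h : H) : V ≃ₗ[ZMod p] V) v, hWinv _ ?_ v hv, ?_⟩
      · have := hAn.conj_mem a ha h⁻¹
        simpa using this
      · show ((h : H) : V ≃ₗ[ZMod p] V) (((h : H) : V ≃ₗ[ZMod p] V)⁻¹
          (((a : H) : V ≃ₗ[ZMod p] V) (((h : H) : V ≃ₗ[ZMod p] V) v))) =
            ((a : H) : V ≃ₗ[ZMod p] V) (((h : H) : V ≃ₗ[ZMod p] V) v)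
        exact ((h : H) : V ≃ₗ[ZMod p] V).apply_symm_apply _
    have hfr : Module.finrank (ZMod p) W' = Module.finrank (ZMod p) W := by
      rw [hW'def]
      exact LinearEquiv.finrank_map_eq _ _
    have hdisj : W ⊓ W' = ⊥ := by
      rcases hWmin (W ⊓ W') inf_le_left (by
        intro a ha v hv
        exact ⟨hWinv a ha v hv.1, hW'inv a ha v hv.2⟩) with h1 | h1
      · exact h1
      · exfalso
        have hle : W ≤ W' := inf_eq_left.mp h1
        have : W = W' := Submodule.eq_of_le_of_finrank_eq hle hfr.symm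
        exact hx (this ▸ hxW')
    have hcW : Nat.card W = p ^ Module.finrank (ZMod p) W := by
      rw [Module.natCard_eq_pow_finrank (K := ZMod p) (V := W), Nat.card_zmod]
    have hcW' : Nat.card W' = p ^ Module.finrank (ZMod p) W := by
      rw [Module.natCard_eq_pow_finrank (K := ZMod p) (V := W'), Nat.card_zmod, hfr]
    have hsq : Nat.card W * Nat.card W ≤ Nat.card V := by
      have hinj : Function.Injective (fun q : W × W' => (q.1 : V) + (q.2 : V)) := by
        rintro ⟨a, b⟩ ⟨c, d⟩ hq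
        have hq' : (a : V) + b = c + d := hq
        have h1 : (a : V) - c = d - b := by
          rw [sub_eq_sub_iff_add_eq_add, hq', add_comm]
        have h2 : (a : V) - c ∈ W ⊓ W' :=
          ⟨W.sub_mem a.2 c.2, by rw [h1]; exact W'.sub_mem d.2 b.2⟩
        rw [hdisj, Submodule.mem_bot] at h2
        have h3 : (d : V) - b = 0 := by rw [← h1, h2]
        have e1 : a = c := Subtype.ext (sub_eq_zero.mp h2)
        have e2 : d = b := Subtype.ext (sub_eq_zero.mp h3)
        rw [e1, e2]
      have := Nat.card_le_card_of_injective _ hinj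
      rwa [Nat.card_prod, hcW', ← hcW] at this
    have hH : Nat.card H + 1 = Nat.card V := by
      classical
      have e : H ≃ {v : V // v ≠ 0} := Equiv.ofBijective
        (fun g => ⟨(g : V ≃ₗ[ZMod p] V) w0, (LinearEquiv.map_ne_zero_iff _).mpr hw0⟩)
        ⟨by
          intro g g' hgg'
          have h1 : (g : V ≃ₗ[ZMod p] V) w0 = (g' : V ≃ₗ[ZMod p] V) w0 :=
            congrArg Subtype.val hgg'
          exact (hreg w0 ((g' : V ≃ₗ[ZMod p] V) w0) hw0
            ((LinearEquiv.map_ne_zero_iff _).mpr hw0)).unique h1 rfl, by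
          rintro ⟨v, hv⟩
          obtain ⟨g, hg, -⟩ := hreg w0 v hw0 hv
          exact ⟨g, Subtype.ext hg⟩⟩
      rw [Nat.card_congr e, ← Finite.card_option, Nat.card_congr (Equiv.optionSubtypeNe (0 : V))]
    obtain ⟨a, ha⟩ := hcyc.exists_generator
    have hidx : A.index ≤ Nat.card A := by
      have hinj : Function.Injective
          (fun q : H ⧸ A => (⟨q.out * a * q.out⁻¹, hAn.conj_mem a a.2 q.out⟩ : A)) := by
        intro q q' hqq'
        have h0 : q.out * (a : H) * q.out⁻¹ = q'.out * (a : H) * q'.out⁻¹ :=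
          congrArg Subtype.val hqq'
        have hc : Commute (q.out⁻¹ * q'.out) (a : H) := by
          show q.out⁻¹ * q'.out * (a : H) = (a : H) * (q.out⁻¹ * q'.out)
          have h0' : (a : H) = q.out⁻¹ * (q'.out * (a : H) * q'.out⁻¹) * q.out := by
            rw [← h0]; group
          calc q.out⁻¹ * q'.out * (a : H)
              = q.out⁻¹ * (q'.out * (a : H) * q'.out⁻¹) * q.out * (q.out⁻¹ * q'.out) := by group
            _ = (a : H) * (q.out⁻¹ * q'.out) := by rw [← h0']
        have h1 : q.out⁻¹ * q'.out ∈ A := by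
          apply hCA.le
          rw [Subgroup.mem_centralizer_iff]
          intro b hb
          obtain ⟨k, hk⟩ := Subgroup.mem_zpowers_iff.mp (ha ⟨b, hb⟩)
          have hb' : b = (a : H) ^ k := by
            have := congrArg Subtype.val hk
            simpa using this.symm
          rw [hb']
          exact ((hc.zpow_right k).eq).symm
        have h2 : ((q.out : H) : H ⧸ A) = ((q'.out : H) : H ⧸ A) := QuotientGroup.eq.mpr h1
        rwa [QuotientGroup.out_eq', QuotientGroup.out_eq'] at h2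
      exact Nat.card_le_card_of_injective _ hinj
    have hq2 : 2 ≤ Nat.card W := by
      have : Nontrivial W := ⟨⟨⟨w0, hw0W⟩, 0, fun h => hw0 (congrArg Subtype.val h)⟩⟩
      exact Finite.one_lt_card
    have hm : Nat.card A + 1 ≤ Nat.card W := by
      rw [← hcW] at hdvd
      have := Nat.le_of_dvd (by omega) hdvd
      omega
    have hc : Nat.card H ≤ Nat.card A * Nat.card A := by
      rw [← Subgroup.index_mul_card A]
      exact Nat.mul_le_mul_right _ hidx
    exact arith _ _ _ _ hH hsq hm hc Nat.card_pos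
  refine ⟨lt_of_le_of_ne hAle ?_, key⟩
  intro h
  apply key
  rw [← h]
  exact hAc

end Cfsg.Agent.S0685
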