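import Cfsg.Statements.S0687
import Cfsg.Agent.S0684
import Mathlib

set_option autoImplicit false
open Cfsg

namespace Cfsg.Agent.S0687

universe v

theorem eq_of_le_of_card {K : Type*} {M : Type*} [Semiring K] [AddCommMonoid M] [Module K M]
    [Finite M] {A B : Submodule K M} (hle : A ≤ B) (hc : Nat.card B ≤ Nat.card A) : A = B := by
  apply SetLike.coe_injective
  have h1 : (B : Set M).ncard ≤ (A : Set M).ncard := by
    rw [← Nat.card_coe_set_eq, ← Nat.card_coe_set_eq]
    exact hc
  exact Set.eq_of_subset_of_ncard_le hle h1 (Set.toFinite _)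

section
variable {p : ℕ} [Fact p.Prime] {V : Type v} [AddCommGroup V] [Module (ZMod p) V]

/-- a finite algebra of endomorphisms whose non-zero elements are injective is commutative -/
theorem comm_of_inj [Finite V] (S : Subalgebra (ZMod p) (Module.End (ZMod p) V))
    (h : ∀ r ∈ S, r ≠ 0 → Function.Injective r) : ∀ a ∈ S, ∀ b ∈ S, a * b = b * a := by
  intro a ha b hb
  by_cases hV : Subsingleton V
  · ext v
    exact Subsingleton.elim _ _
  rw [not_subsingleton_iff_nontrivial] at hV
  have : Finite (Module.End (ZMod p) V) := DFunLike.finite _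
  have hnz : NoZeroDivisors S := ⟨by
    intro x y hxy
    by_contra hcon
    push Not at hcon
    obtain ⟨hx, hy⟩ := hcon
    apply hy
    apply Subtype.ext
    ext v
    have hx' : (x : Module.End (ZMod p) V) ≠ 0 := fun h0 => hx (Subtype.ext h0)
    apply h x x.2 hx'
    have := congrArg (fun φ : S => (φ : Module.End (ZMod p) V) v) hxy
    simpa using this⟩
  have hnt : Nontrivial S := by
    obtain ⟨v, hv⟩ := exists_ne (0 : V)
    refine ⟨⟨1, 0, fun h10 => hv ?_⟩⟩
    have := congrArg (fun φ : S => (φ : Module.End (ZMod p) V) v) h10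
    simpa using this
  have : IsDomain S := NoZeroDivisors.to_isDomain _
  have hf := Finite.isDomain_to_isField S
  have := hf.mul_comm ⟨a, ha⟩ ⟨b, hb⟩
  exact congrArg Subtype.val this

/-- the linear map underlying an element of `H` -/
def iota (H : Subgroup (V ≃ₗ[ZMod p] V)) (h : H) : Module.End (ZMod p) V :=
  ((h : V ≃ₗ[ZMod p] V) : V →ₗ[ZMod p] V)

theorem iota_apply (H : Subgroup (V ≃ₗ[ZMod p] V)) (h : H) (v : V) :
    iota H h v = (h : V ≃ₗ[ZMod p] V) v := rfl

theorem iota_mul (H : Subgroup (V ≃ₗ[ZMod p] V)) (a b : H) :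
    iota H (a * b) = iota H a * iota H b := by
  ext v
  rfl

theorem iota_one (H : Subgroup (V ≃ₗ[ZMod p] V)) : iota H 1 = 1 := by
  ext v
  rfl

theorem iota_inv_mul (H : Subgroup (V ≃ₗ[ZMod p] V)) (a : H) :
    iota H a⁻¹ * iota H a = 1 := by
  rw [← iota_mul, inv_mul_cancel, iota_one]

theorem iota_mul_inv (H : Subgroup (V ≃ₗ[ZMod p] V)) (a : H) :
    iota H a * iota H a⁻¹ = 1 := by
  rw [← iota_mul, mul_inv_cancel, iota_one]

theorem iota_inj (H : Subgroup (V ≃ₗ[ZMod p] V)) : Function.Injective (iota H) := by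
  intro a b hab
  apply Subtype.ext
  apply LinearEquiv.toLinearMap_injective
  exact hab

/-- the algebra generated by `N` -/
def alg (H : Subgroup (V ≃ₗ[ZMod p] V)) (N : Subgroup H) :
    Subalgebra (ZMod p) (Module.End (ZMod p) V) :=
  Algebra.adjoin (ZMod p) (Set.range (fun n : N => iota H (n : H)))

theorem alg_inv (H : Subgroup (V ≃ₗ[ZMod p] V)) (N : Subgroup H) (U : Submodule (ZMod p) V)
    (hU : ∀ n ∈ N, ∀ v ∈ U, ((n : H) : V ≃ₗ[ZMod p] V) v ∈ U) :
    ∀ r ∈ alg H N, ∀ v ∈ U, r v ∈ U := by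
  intro r hr
  unfold alg at hr
  induction hr using Algebra.adjoin_induction with
  | mem x hx =>
    obtain ⟨n, rfl⟩ := hx
    intro v hv
    exact hU n n.2 v hv
  | algebraMap c =>
    intro v hv
    rw [Module.algebraMap_end_apply]
    exact U.smul_mem c hv
  | add x y hx hy ihx ihy =>
    intro v hv
    exact U.add_mem (ihx v hv) (ihy v hv)
  | mul x y hx hy ihx ihy =>
    intro v hv
    exact ihx _ (ihy v hv)

theorem alg_conj (H : Subgroup (V ≃ₗ[ZMod p] V)) (N : Subgroup H) (hN : N.Normal) (h : H) :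
    ∀ r ∈ alg H N, iota H h * r * iota H h⁻¹ ∈ alg H N := by
  intro r hr
  unfold alg at hr ⊢
  induction hr using Algebra.adjoin_induction with
  | mem x hx =>
    obtain ⟨n, rfl⟩ := hx
    apply Algebra.subset_adjoin
    refine ⟨⟨h * n * h⁻¹, hN.conj_mem n n.2 h⟩, ?_⟩
    show iota H (h * n * h⁻¹) = _
    rw [iota_mul, iota_mul]
  | algebraMap c =>
    have : iota H h * algebraMap (ZMod p) (Module.End (ZMod p) V) c * iota H h⁻¹ =
        algebraMap (ZMod p) (Module.End (ZMod p) V) c := by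
      rw [← Algebra.commutes c (iota H h), mul_assoc, iota_mul_inv, mul_one]
    rw [this]
    exact Subalgebra.algebraMap_mem _ c
  | add x y hx hy ihx ihy =>
    have : iota H h * (x + y) * iota H h⁻¹ =
        iota H h * x * iota H h⁻¹ + iota H h * y * iota H h⁻¹ := by
      rw [mul_add, add_mul]
    rw [this]
    exact add_mem ihx ihy
  | mul x y hx hy ihx ihy =>
    have : iota H h * (x * y) * iota H h⁻¹ =
        (iota H h * x * iota H h⁻¹) * (iota H h * y * iota H h⁻¹) := by
      calc iota H h * (x * y) * iota H h⁻¹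
          = iota H h * x * 1 * y * iota H h⁻¹ := by
            rw [mul_one]
            simp only [mul_assoc]
        _ = _ := by
            rw [← iota_inv_mul H h]
            simp only [mul_assoc]
    rw [this]
    exact mul_mem ihx ihy

/-- evaluation at `y` on a subalgebra of endomorphisms -/
def ev (R : Subalgebra (ZMod p) (Module.End (ZMod p) V)) (y : V) : R →ₗ[ZMod p] V where
  toFun r := (r : Module.End (ZMod p) V) y
  map_add' _ _ := rfl
  map_smul' _ _ := rfl

theorem ev_apply (R : Subalgebra (ZMod p) (Module.End (ZMod p) V)) (y : V) (r : R) :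
    ev R y r = (r : Module.End (ZMod p) V) y := rfl

theorem self_mem_range (R : Subalgebra (ZMod p) (Module.End (ZMod p) V)) (y : V) :
    y ∈ LinearMap.range (ev R y) := ⟨1, rfl⟩

theorem range_inv (H : Subgroup (V ≃ₗ[ZMod p] V)) (N : Subgroup H) (y : V) :
    ∀ n ∈ N, ∀ v ∈ LinearMap.range (ev (alg H N) y),
      ((n : H) : V ≃ₗ[ZMod p] V) v ∈ LinearMap.range (ev (alg H N) y) := by
  rintro n hn _ ⟨r, rfl⟩
  exact ⟨⟨iota H n * r, mul_mem (Algebra.subset_adjoin ⟨⟨n, hn⟩, rfl⟩) r.2⟩, rfl⟩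

theorem range_le (H : Subgroup (V ≃ₗ[ZMod p] V)) (N : Subgroup H) (W : Submodule (ZMod p) V)
    (hW : ∀ n ∈ N, ∀ v ∈ W, ((n : H) : V ≃ₗ[ZMod p] V) v ∈ W) (y : V) (hy : y ∈ W) :
    LinearMap.range (ev (alg H N) y) ≤ W := by
  rintro _ ⟨r, rfl⟩
  exact alg_inv H N W hW r r.2 y hy

theorem card_range_le [Finite V] (H : Subgroup (V ≃ₗ[ZMod p] V)) (N : Subgroup H)
    (hN : N.Normal) (h : H) (y : V) :
    Nat.card (LinearMap.range (ev (alg H N) y)) ≤
      Nat.card (LinearMap.range (ev (alg H N) ((h : V ≃ₗ[ZMod p] V) y))) := by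
  have hmem : ∀ u : LinearMap.range (ev (alg H N) y),
      (h : V ≃ₗ[ZMod p] V) (u : V) ∈
        LinearMap.range (ev (alg H N) ((h : V ≃ₗ[ZMod p] V) y)) := by
    rintro ⟨_, r, rfl⟩
    refine ⟨⟨iota H h * r * iota H h⁻¹, alg_conj H N hN h r r.2⟩, ?_⟩
    show iota H h ((r : Module.End (ZMod p) V) (iota H h⁻¹ (iota H h y))) = _
    have : iota H h⁻¹ (iota H h y) = y :=
      congrArg (fun φ : Module.End (ZMod p) V => φ y) (iota_inv_mul H h)
    rw [this]
    rfl
  apply Nat.card_le_card_of_injective (fun u => (⟨_, hmem u⟩ :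
    LinearMap.range (ev (alg H N) ((h : V ≃ₗ[ZMod p] V) y))))
  intro u u' huu'
  apply Subtype.ext
  exact (h : V ≃ₗ[ZMod p] V).injective (congrArg Subtype.val huu')

theorem card_range_eq [Finite V] (H : Subgroup (V ≃ₗ[ZMod p] V))
    (htr : ∀ v w : V, v ≠ 0 → w ≠ 0 → ∃ h : H, (h : V ≃ₗ[ZMod p] V) v = w)
    (N : Subgroup H) (hN : N.Normal) (y y' : V) (hy : y ≠ 0) (hy' : y' ≠ 0) :
    Nat.card (LinearMap.range (ev (alg H N) y)) =
      Nat.card (LinearMap.range (ev (alg H N) y')) := by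
  apply le_antisymm
  · obtain ⟨h, hh⟩ := htr y y' hy hy'
    have := card_range_le H N hN h y
    rwa [hh] at this
  · obtain ⟨h, hh⟩ := htr y' y hy' hy
    have := card_range_le H N hN h y'
    rwa [hh] at this

theorem card_ker [Finite V] (R : Subalgebra (ZMod p) (Module.End (ZMod p) V)) (y : V) :
    Nat.card R = Nat.card (LinearMap.ker (ev R y)) * Nat.card (LinearMap.range (ev R y)) := by
  rw [Submodule.card_eq_card_quotient_mul_card (LinearMap.ker (ev R y)),
    Nat.card_congr (LinearMap.quotKerEquivRange (ev R y)).toEquiv]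

/-- a reducible normal subgroup of a linear group transitive on non-zero vectors is abelian -/
theorem comm_of_reducible [Finite V] (H : Subgroup (V ≃ₗ[ZMod p] V))
    (htr : ∀ v w : V, v ≠ 0 → w ≠ 0 → ∃ h : H, (h : V ≃ₗ[ZMod p] V) v = w)
    (N : Subgroup H) (hNn : N.Normal) (W : Submodule (ZMod p) V) (hW0 : W ≠ ⊥) (hWtop : W ≠ ⊤)
    (hWinv : ∀ n ∈ N, ∀ v ∈ W, ((n : H) : V ≃ₗ[ZMod p] V) v ∈ W)
    (hWmin : ∀ W' : Submodule (ZMod p) V, W' ≤ W →
      (∀ n ∈ N, ∀ v ∈ W', ((n : H) : V ≃ₗ[ZMod p] V) v ∈ W') → W' = ⊥ ∨ W' = W) :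
    ∀ a ∈ N, ∀ b ∈ N, a * b = b * a := by
  have hfin : Finite (Module.End (ZMod p) V) := DFunLike.finite _
  obtain ⟨w0, hw0W, hw0⟩ := (Submodule.ne_bot_iff W).mp hW0
  obtain ⟨x0, hx0⟩ : ∃ x : V, x ∉ W := by
    by_contra hcon
    push Not at hcon
    exact hWtop (eq_top_iff.mpr fun v _ => hcon v)
  have hUW : ∀ w ∈ W, w ≠ 0 → LinearMap.range (ev (alg H N) w) = W := by
    intro w hw hw0'
    rcases hWmin _ (range_le H N W hWinv w hw) (range_inv H N w) with h1 | h1
    · exfalso
      have := self_mem_range (alg H N) w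
      rw [h1, Submodule.mem_bot] at this
      exact hw0' this
    · exact h1
  have hcard : ∀ y : V, y ≠ 0 → Nat.card (LinearMap.range (ev (alg H N) y)) = Nat.card W := by
    intro y hy
    rw [card_range_eq H htr N hNn y w0 hy hw0, hUW w0 hw0W hw0]
  have hdisj : ∀ x : V, x ∉ W → W ⊓ LinearMap.range (ev (alg H N) x) = ⊥ := by
    intro x hx
    have hx0 : x ≠ 0 := fun h => hx (h ▸ W.zero_mem)
    rcases hWmin _ inf_le_left (by
      intro n hn v hv
      exact ⟨hWinv n hn v hv.1, range_inv H N x n hn v hv.2⟩) with h1 | h1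
    · exact h1
    · exfalso
      have hle : W ≤ LinearMap.range (ev (alg H N) x) := inf_eq_left.mp h1
      have := eq_of_le_of_card hle (hcard x hx0).le
      exact hx (this ▸ self_mem_range (alg H N) x)
  have hc : ∀ y : V, y ≠ 0 →
      Nat.card (alg H N) = Nat.card (LinearMap.ker (ev (alg H N) y)) * Nat.card W := by
    intro y hy
    rw [card_ker (alg H N) y, hcard y hy]
  have hWpos : 0 < Nat.card W := Nat.card_pos
  have hker : ∀ w ∈ W, w ≠ 0 → ∀ x : V, x ∉ W →
      LinearMap.ker (ev (alg H N) w) = LinearMap.ker (ev (alg H N) x) := by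
    intro w hw hw0' x hx
    have hx0 : x ≠ 0 := fun h => hx (h ▸ W.zero_mem)
    have hwx : w + x ≠ 0 := by
      intro h
      apply hx
      have : x = -w := (neg_eq_of_add_eq_zero_right h).symm
      rw [this]
      exact W.neg_mem hw
    have hsub : ∀ r : alg H N, r ∈ LinearMap.ker (ev (alg H N) (w + x)) →
        (r : Module.End (ZMod p) V) w = 0 ∧ (r : Module.End (ZMod p) V) x = 0 := by
      intro r hr
      rw [LinearMap.mem_ker] at hr
      have h1 : (r : Module.End (ZMod p) V) w + (r : Module.End (ZMod p) V) x = 0 := by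
        rw [← map_add]
        exact hr
      have h2 : (r : Module.End (ZMod p) V) w ∈ W ⊓ LinearMap.range (ev (alg H N) x) := by
        refine ⟨alg_inv H N W hWinv r r.2 w hw, ?_⟩
        rw [eq_neg_of_add_eq_zero_left h1]
        exact Submodule.neg_mem _ ⟨r, rfl⟩
      rw [hdisj x hx, Submodule.mem_bot] at h2
      refine ⟨h2, ?_⟩
      rw [h2, zero_add] at h1
      exact h1
    have e1 : LinearMap.ker (ev (alg H N) (w + x)) = LinearMap.ker (ev (alg H N) w) := by
      apply eq_of_le_of_card (fun r hr => (hsub r hr).1)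
      have := (hc (w + x) hwx).symm.trans (hc w hw0')
      exact (Nat.eq_of_mul_eq_mul_right hWpos this).ge
    have e2 : LinearMap.ker (ev (alg H N) (w + x)) = LinearMap.ker (ev (alg H N) x) := by
      apply eq_of_le_of_card (fun r hr => (hsub r hr).2)
      have := (hc (w + x) hwx).symm.trans (hc x hx0)
      exact (Nat.eq_of_mul_eq_mul_right hWpos this).ge
    rw [← e1, e2]
  have hall : ∀ y : V, y ≠ 0 →
      LinearMap.ker (ev (alg H N) y) = LinearMap.ker (ev (alg H N) w0) := by
    intro y hy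
    by_cases hyW : y ∈ W
    · rw [hker y hyW hy x0 hx0, hker w0 hw0W hw0 x0 hx0]
    · exact (hker w0 hw0W hw0 y hyW).symm
  have hinj : ∀ r ∈ alg H N, r ≠ 0 → Function.Injective r := by
    intro r hr hr0 y y' hyy'
    by_contra hne
    apply hr0
    have hd : y - y' ≠ 0 := sub_ne_zero.mpr hne
    have h1 : (⟨r, hr⟩ : alg H N) ∈ LinearMap.ker (ev (alg H N) (y - y')) := by
      rw [LinearMap.mem_ker]
      show r (y - y') = 0
      rw [map_sub, hyy', sub_self]
    rw [hall _ hd] at h1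
    ext z
    by_cases hz : z = 0
    · rw [hz, map_zero, map_zero]
    · have h2 : (⟨r, hr⟩ : alg H N) ∈ LinearMap.ker (ev (alg H N) z) := by
        rw [hall z hz]
        exact h1
      exact h2
  intro a ha b hb
  have := comm_of_inj (alg H N) hinj (iota H a) (Algebra.subset_adjoin ⟨⟨a, ha⟩, rfl⟩)
    (iota H b) (Algebra.subset_adjoin ⟨⟨b, hb⟩, rfl⟩)
  rw [← iota_mul, ← iota_mul] at this
  exact iota_inj H this

end

/-- In a linear group over the prime field that is regular on non-zero vectors and has no irreducible cyclic normal subgroup, a normal subgroup `N` minimal among the non-abelian normal subgroups centralising a maximal normal abelian subgroup `A` is irreducible on `V`, and its centraliser is `A`. -/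
theorem result {p : ℕ} [Fact p.Prime] {V : Type*} [AddCommGroup V] [Module (ZMod p) V] [Finite V] (H : Subgroup (V ≃ₗ[ZMod p] V)) (hreg : ∀ v w : V, v ≠ 0 → w ≠ 0 → ∃! h : H, (h : V ≃ₗ[ZMod p] V) v = w) (hI : ∀ A : Subgroup H, A.Normal → IsCyclic A → ∃ W : Submodule (ZMod p) V, W ≠ ⊥ ∧ W ≠ ⊤ ∧ ∀ a ∈ A, ∀ v ∈ W, ((a : H) : V ≃ₗ[ZMod p] V) v ∈ W) (A : Subgroup H) (hAn : A.Normal) (hAc : IsMulCommutative A) (hAmax : ∀ B : Subgroup H, B.Normal → IsMulCommutative B → A ≤ B → B = A) (N : Subgroup H) (hNn : N.Normal) (hNle : N ≤ Subgroup.centralizer (A : Set H)) (hNna : ¬ IsMulCommutative N) (hNmin : ∀ M : Subgroup H, M.Normal → M ≤ N → ¬ IsMulCommutative M → M = N) : (∀ W : Submodule (ZMod p) V, (∀ n ∈ N, ∀ v ∈ W, ((n : H) : V ≃ₗ[ZMod p] V) v ∈ W) → W = ⊥ ∨ W = ⊤) ∧ Subgroup.centralizer (N : Set H) = A := by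
  have htr : ∀ v w : V, v ≠ 0 → w ≠ 0 → ∃ h : H, (h : V ≃ₗ[ZMod p] V) v = w := by
    intro v w hv hw
    obtain ⟨h, hh, -⟩ := hreg v w hv hw
    exact ⟨h, hh⟩
  have hirr : ∀ W : Submodule (ZMod p) V,
      (∀ n ∈ N, ∀ v ∈ W, ((n : H) : V ≃ₗ[ZMod p] V) v ∈ W) → W = ⊥ ∨ W = ⊤ := by
    intro W hW
    by_contra hcon
    push Not at hcon
    obtain ⟨hW0, hWtop⟩ := hcon
    obtain ⟨W₁, hle, hW₁0, hW₁inv, hW₁min⟩ := S0684.exists_min
      (fun W => ∀ n ∈ N, ∀ v ∈ W, ((n : H) : V ≃ₗ[ZMod p] V) v ∈ W) W hW0 hW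
    have hW₁top : W₁ ≠ ⊤ := by
      intro h
      apply hWtop
      rw [eq_top_iff, ← h]
      exact hle
    have hcomm := comm_of_reducible H htr N hNn W₁ hW₁0 hW₁top hW₁inv hW₁min
    exact hNna ⟨⟨fun a b => Subtype.ext (hcomm a a.2 b b.2)⟩⟩
  refine ⟨hirr, ?_⟩
  have hAle : A ≤ Subgroup.centralizer (N : Set H) := by
    intro a ha
    rw [Subgroup.mem_centralizer_iff]
    intro n hn
    have := Subgroup.mem_centralizer_iff.mp (hNle hn) a ha
    exact this.symm
  apply hAmax _ inferInstance _ hAle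
  -- the centraliser of `N` is commutative
  have hinj : ∀ r ∈ Subalgebra.centralizer (ZMod p)
      (Set.range (fun n : N => iota H (n : H))), r ≠ 0 → Function.Injective r := by
    intro r hr hr0
    have hker : LinearMap.ker r = ⊥ := by
      rcases hirr (LinearMap.ker r) (by
        intro n hn v hv
        rw [LinearMap.mem_ker] at hv ⊢
        have h1 := (Subalgebra.mem_centralizer_iff (ZMod p)).mp hr (iota H n) ⟨⟨n, hn⟩, rfl⟩
        have h2 := congrArg (fun φ : Module.End (ZMod p) V => φ v) h1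
        simp only [Module.End.mul_apply] at h2
        rw [hv, map_zero] at h2
        exact h2.symm) with h1 | h1
      · exact h1
      · exact absurd (LinearMap.ker_eq_top.mp h1) hr0
    exact LinearMap.ker_eq_bot.mp hker
  refine ⟨⟨fun c c' => Subtype.ext ?_⟩⟩
  have hmem : ∀ c : Subgroup.centralizer (N : Set H), iota H (c : H) ∈
      Subalgebra.centralizer (ZMod p) (Set.range (fun n : N => iota H (n : H))) := by
    intro c
    rw [Subalgebra.mem_centralizer_iff]
    rintro _ ⟨n, rfl⟩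
    show iota H (n : H) * iota H (c : H) = iota H (c : H) * iota H (n : H)
    rw [← iota_mul, ← iota_mul]
    congr 1
    exact Subgroup.mem_centralizer_iff.mp c.2 n n.2
  have := comm_of_inj _ hinj _ (hmem c) _ (hmem c')
  rw [← iota_mul, ← iota_mul] at this
  exact iota_inj H this

end Cfsg.Agent.S0687
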