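import Cfsg.Statements.S0688
import Mathlib
import Cfsg.Agent.S0684
import Cfsg.Agent.S0685
import Cfsg.Agent.S0687

set_option autoImplicit false
open Cfsg

namespace Cfsg.Agent.S0688

universe u v

section grp

variable {G : Type u} [Group G]

theorem pow_conj (u v c : G) (h : u * v * u⁻¹ = c * v) (hc : u * c * u⁻¹ = c) (k : ℕ) :
    u ^ k * v * (u ^ k)⁻¹ = c ^ k * v := by
  induction k with
  | zero => simp
  | succ k ih =>
    have e1 : u ^ (k + 1) * v * (u ^ (k + 1))⁻¹ = u * (u ^ k * v * (u ^ k)⁻¹) * u⁻¹ := by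
      rw [pow_succ']; group
    have e2 : u * (c ^ k * v) * u⁻¹ = (u * c * u⁻¹) ^ k * (u * v * u⁻¹) := by
      rw [conj_pow]; group
    rw [e1, ih, e2, hc, h, pow_succ, mul_assoc]

theorem mul_pow_class2 (u v c : G) (hc : c = u * v * u⁻¹ * v⁻¹)
    (hcu : Commute c u) (hcv : Commute c v) (k : ℕ) :
    (u * v) ^ k = (c⁻¹) ^ (k * (k - 1) / 2) * u ^ k * v ^ k := by
  have h1 : v * u * v⁻¹ = c⁻¹ * u := by rw [hc]; group
  have h2 : v * c⁻¹ * v⁻¹ = c⁻¹ := by
    have h3 := hcv.inv_left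
    rw [← h3.eq]; group
  induction k with
  | zero => simp
  | succ k ih =>
    have hF : Commute ((c⁻¹) ^ k) (u ^ k) := (hcu.inv_left.pow_left k).pow_right k
    have e : v ^ k * u * (v ^ k)⁻¹ = (c⁻¹) ^ k * u := pow_conj v u c⁻¹ h1 h2 k
    rw [Nat.triangle_succ, pow_succ, ih]
    generalize k * (k - 1) / 2 = T
    calc (c⁻¹) ^ T * u ^ k * v ^ k * (u * v)
        = (c⁻¹) ^ T * u ^ k * (v ^ k * u * (v ^ k)⁻¹) * (v ^ k * v) := by group
      _ = (c⁻¹) ^ T * (u ^ k * (c⁻¹) ^ k) * u * (v ^ k * v) := by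
        rw [e]; simp only [mul_assoc]
      _ = (c⁻¹) ^ T * ((c⁻¹) ^ k * u ^ k) * u * (v ^ k * v) := by rw [hF.eq]
      _ = (c⁻¹) ^ (T + k) * u ^ (k + 1) * v ^ (k + 1) := by
        rw [pow_add, pow_succ, pow_succ]; simp only [mul_assoc]

theorem comm_closure_pair (u c : G) (h : u * c = c * u) :
    ∀ a ∈ Subgroup.closure ({u, c} : Set G), ∀ b ∈ Subgroup.closure ({u, c} : Set G),
      a * b = b * a := by
  have h1 : Subgroup.closure ({u, c} : Set G) ≤ Subgroup.centralizer ({u, c} : Set G) := by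
    rw [Subgroup.closure_le]
    intro x hx
    rw [SetLike.mem_coe, Subgroup.mem_centralizer_iff]
    intro g hg
    simp only [Set.mem_insert_iff, Set.mem_singleton_iff] at hx hg
    rcases hx with rfl | rfl <;> rcases hg with rfl | rfl
    · rfl
    · exact h.symm
    · exact h
    · rfl
  intro a ha b hb
  have h2 : Subgroup.closure ({u, c} : Set G) ≤ Subgroup.centralizer ({a} : Set G) := by
    rw [Subgroup.closure_le]
    intro x hx
    rw [SetLike.mem_coe, Subgroup.mem_centralizer_iff]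
    intro g hg
    rw [Set.mem_singleton_iff] at hg
    rw [hg]
    exact ((Subgroup.mem_centralizer_iff.mp (h1 ha)) x hx).symm
  exact (Subgroup.mem_centralizer_iff.mp (h2 hb)) a rfl

theorem mem_zpowers_of_cyclic {C : Type*} [Group C] [Finite C] [IsCyclic C] (r : ℕ)
    (hr : r.Prime) (u c : C) (hu : u ^ r = 1) (hc : c ^ r = 1) (hc1 : c ≠ 1) :
    u ∈ Subgroup.zpowers c := by
  classical
  have := Fintype.ofFinite C
  have := Fact.mk hr
  have h1 : (Finset.univ.filter (fun a : C => a ^ r = 1)).card ≤ r :=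
    IsCyclic.card_pow_eq_one_le hr.pos
  have h2 : ((Subgroup.zpowers c : Set C)).ncard = r := by
    rw [← Nat.card_coe_set_eq]
    exact (Nat.card_zpowers c).trans (orderOf_eq_prime hc hc1)
  have h3 : (Subgroup.zpowers c : Set C) ⊆ {a : C | a ^ r = 1} := by
    intro x hx
    obtain ⟨k, rfl⟩ := Subgroup.mem_zpowers_iff.mp hx
    show (c ^ k) ^ r = 1
    rw [← zpow_natCast, ← zpow_mul, mul_comm, zpow_mul, zpow_natCast, hc, one_zpow]
  have h4 : ({a : C | a ^ r = 1} : Set C).ncard ≤ r := by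
    rw [Set.ncard_eq_toFinset_card']
    convert h1 using 2
    ext a
    simp
  have h5 := Set.eq_of_subset_of_ncard_le h3 (by rw [h2]; exact h4) (Set.toFinite _)
  have h6 : u ∈ ({a : C | a ^ r = 1} : Set C) := hu
  rw [← h5] at h6
  exact h6

theorem conj_index {K : Type v} [Group K] (φ : K →* G) (u : G) :
    ∃ C : Subgroup K, (∀ k : K, k ∈ C ↔ φ k * u = u * φ k) ∧
      C.index = Set.ncard {w : G | ∃ k : K, w = φ k * u * (φ k)⁻¹} := by
  let _ : MulAction K G := MulAction.compHom G ((MulAut.conj (G := G)).comp φ)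
  have hsm : ∀ (k : K) (g : G), k • g = φ k * g * (φ k)⁻¹ := fun k g => rfl
  refine ⟨MulAction.stabilizer K u, ?_, ?_⟩
  · intro k
    rw [MulAction.mem_stabilizer_iff, hsm]
    exact mul_inv_eq_iff_eq_mul
  · rw [MulAction.index_stabilizer]
    congr 1
    ext w
    constructor
    · rintro ⟨k, rfl⟩
      exact ⟨k, hsm k u⟩
    · rintro ⟨k, rfl⟩
      exact ⟨k, (hsm k u)⟩

theorem even_ncard (z : G) (hz : z ≠ 1) (hz2 : z ^ 2 = 1) (S : Set G)
    (hS : ∀ w ∈ S, z * w ∈ S) : Even S.ncard := by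
  have hmem : ∀ g ∈ Subgroup.zpowers z, g = 1 ∨ g = z := by
    intro g hg
    obtain ⟨k, rfl⟩ := Subgroup.mem_zpowers_iff.mp hg
    obtain ⟨m, hm | hm⟩ := Int.even_or_odd' k
    · left
      rw [hm, zpow_mul, zpow_ofNat, hz2, one_zpow]
    · right
      rw [hm, zpow_add, zpow_mul, zpow_ofNat, hz2, one_zpow, one_mul, zpow_one]
  let X : SubMulAction (Subgroup.zpowers z) G :=
    { carrier := S
      smul_mem' := by
        rintro ⟨g, hg⟩ w hw
        rcases hmem g hg with rfl | rfl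
        · show (1 : G) * w ∈ S
          rwa [one_mul]
        · exact hS w hw }
  have hfree : ∀ x : X, MulAction.stabilizer (Subgroup.zpowers z) x = ⊥ := by
    intro x
    rw [eq_bot_iff]
    intro a ha
    rw [Subgroup.mem_bot]
    have h1 : (a : G) * (x : G) = x := congrArg Subtype.val ha
    apply Subtype.ext
    exact mul_eq_right.mp h1
  have e := MulAction.selfEquivOrbitsQuotientProd hfree
  have hcard : Nat.card X =
      Nat.card (Quotient (MulAction.orbitRel (Subgroup.zpowers z) X)) *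
        Nat.card (Subgroup.zpowers z) := by
    rw [Nat.card_congr e, Nat.card_prod]
  have h2 : Nat.card (Subgroup.zpowers z) = 2 := by
    have := Fact.mk Nat.prime_two
    rw [Nat.card_zpowers]
    exact orderOf_eq_prime hz2 hz
  have h3 : Nat.card X = S.ncard := Nat.card_coe_set_eq _
  rw [← h3, hcard, h2]
  exact even_two.mul_left _

theorem sq_trichotomy (Z : Subgroup G) (hZ : IsCyclic Z) (s t : G) (hs : s ∈ Z) (ht : t ∈ Z) :
    (∃ q ∈ Z, s = q ^ 2) ∨ (∃ q ∈ Z, t = q ^ 2) ∨ (∃ q ∈ Z, s * t = q ^ 2) := by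
  obtain ⟨g, hg⟩ := hZ.exists_generator
  obtain ⟨a, ha⟩ := Subgroup.mem_zpowers_iff.mp (hg ⟨s, hs⟩)
  obtain ⟨b, hb⟩ := Subgroup.mem_zpowers_iff.mp (hg ⟨t, ht⟩)
  have ha' : (g : G) ^ a = s := by
    have := congrArg Subtype.val ha
    simpa using this
  have hb' : (g : G) ^ b = t := by
    have := congrArg Subtype.val hb
    simpa using this
  obtain ⟨m, hm | hm⟩ := Int.even_or_odd' a
  · left
    refine ⟨(g : G) ^ m, Z.zpow_mem g.2 m, ?_⟩
    rw [← ha', hm, ← zpow_natCast, ← zpow_mul, mul_comm]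
    rfl
  · obtain ⟨n, hn | hn⟩ := Int.even_or_odd' b
    · right; left
      refine ⟨(g : G) ^ n, Z.zpow_mem g.2 n, ?_⟩
      rw [← hb', hn, ← zpow_natCast, ← zpow_mul, mul_comm]
      rfl
    · right; right
      refine ⟨(g : G) ^ (m + n + 1), Z.zpow_mem g.2 _, ?_⟩
      rw [← ha', ← hb', ← zpow_add, hm, hn, ← zpow_natCast, ← zpow_mul]
      congr 1
      push_cast
      ring

end grp

section quat

open scoped Pointwise

variable {H : Type u} [Group H]

theorem comm_cancel_right (u v a : H) (h : u * (v * a) = v * a * u) (ha : u * a = a * u) :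
    u * v = v * u := by
  have h1 : u * v = u * (v * a) * a⁻¹ := by group
  have h2 : u * a⁻¹ = a⁻¹ * u := by
    have h3 : Commute u a := ha
    exact h3.inv_right.eq
  rw [h1, h, mul_assoc (v * a), h2]
  group

theorem le_A_of_proper (A N : Subgroup H) (hA : A.Normal)
    (hAab : ∀ a ∈ A, ∀ b ∈ A, a * b = b * a)
    (hAmax : ∀ B : Subgroup H, B.Normal → (∀ a ∈ B, ∀ b ∈ B, a * b = b * a) → A ≤ B → B = A)
    (hNA : ∀ n ∈ N, ∀ a ∈ A, n * a = a * n)
    (hNmin : ∀ M : Subgroup H, M.Normal → M ≤ N → (∃ x ∈ M, ∃ y ∈ M, x * y ≠ y * x) → M = N)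
    (M : Subgroup H) (hM : M.Normal) (hMN : M ≤ N) (hne : M ≠ N) : M ≤ A := by
  have hMab : ∀ x ∈ M, ∀ y ∈ M, x * y = y * x := by
    intro x hx y hy
    by_contra h
    exact hne (hNmin M hM hMN ⟨x, hx, y, hy, h⟩)
  have hsup : M ⊔ A = A := by
    apply hAmax (M ⊔ A) (Subgroup.sup_normal M A)
    · intro a ha b hb
      have ha' : a ∈ (M : Set H) * (A : Set H) := by
        rw [← Subgroup.mul_normal M A]; exact ha
      have hb' : b ∈ (M : Set H) * (A : Set H) := by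
        rw [← Subgroup.mul_normal M A]; exact hb
      obtain ⟨m1, hm1, a1, ha1, rfl⟩ := Set.mem_mul.mp ha'
      obtain ⟨m2, hm2, a2, ha2, rfl⟩ := Set.mem_mul.mp hb'
      have c1 := hNA m2 (hMN hm2) a1 ha1
      have c2 := hNA m1 (hMN hm1) a2 ha2
      have c3 := hMab m1 hm1 m2 hm2
      have c4 := hAab a1 ha1 a2 ha2
      calc m1 * a1 * (m2 * a2) = m1 * (a1 * m2) * a2 := by group
        _ = m1 * (m2 * a1) * a2 := by rw [c1]
        _ = (m1 * m2) * (a1 * a2) := by group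
        _ = (m2 * m1) * (a2 * a1) := by rw [c3, c4]
        _ = m2 * (m1 * a2) * a1 := by group
        _ = m2 * (a2 * m1) * a1 := by rw [c2]
        _ = m2 * a2 * (m1 * a1) := by group
    · exact le_sup_right
  rw [← hsup]
  exact le_sup_left

theorem not_perfect (hs : Group.IsSolvable H) (N : Subgroup H) (h : ⁅N, N⁆ = N) : N = ⊥ := by
  obtain ⟨n, hn⟩ := hs.solvable
  have hall : ∀ k, N ≤ derivedSeries H k := by
    intro k
    induction k with
    | zero => exact le_top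
    | succ k ih =>
      rw [derivedSeries_succ]
      calc N = ⁅N, N⁆ := h.symm
        _ ≤ _ := Subgroup.commutator_mono ih ih
  exact eq_bot_iff.mpr (hn ▸ hall n)

theorem comm_mem (A N : Subgroup H) (hN : N.Normal)
    (hprop : ∀ M : Subgroup H, M.Normal → M ≤ N → M ≠ N → M ≤ A)
    (hNna : ∃ x ∈ N, ∃ y ∈ N, x * y ≠ y * x) (hsolv : Group.IsSolvable H) :
    ∀ x ∈ N, ∀ y ∈ N, x * y * x⁻¹ * y⁻¹ ∈ A := by
  have hle : ⁅N, N⁆ ≤ N := Subgroup.commutator_le_right N N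
  have hne : ⁅N, N⁆ ≠ N := by
    intro h
    have hbot := not_perfect hsolv N h
    obtain ⟨x, hx, y, hy, hxy⟩ := hNna
    rw [hbot, Subgroup.mem_bot] at hx hy
    rw [hx, hy] at hxy
    exact hxy rfl
  have hA := hprop ⁅N, N⁆ inferInstance hle hne
  intro x hx y hy
  have hc := Subgroup.commutator_mem_commutator hx hy
  rw [commutatorElement_def] at hc
  exact hA hc

theorem exists_exp [Finite H] (A N : Subgroup H) (hA : A.Normal) (hN : N.Normal)
    (hNA : ∀ n ∈ N, ∀ a ∈ A, n * a = a * n)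
    (hcomm : ∀ x ∈ N, ∀ y ∈ N, x * y * x⁻¹ * y⁻¹ ∈ A)
    (hprop : ∀ M : Subgroup H, M.Normal → M ≤ N → M ≠ N → M ≤ A)
    (hNna : ∃ x ∈ N, ∃ y ∈ N, x * y ≠ y * x) :
    ∃ r : ℕ, r.Prime ∧ ∀ u ∈ N, u ^ r ∈ A := by
  classical
  obtain ⟨x0, hx0, y0, hy0, hxy⟩ := hNna
  have hx0A : x0 ∉ A := fun h => hxy ((hNA y0 hy0 x0 h).symm)
  have hex : ∃ m : ℕ, 0 < m ∧ x0 ^ m ∈ A :=
    ⟨orderOf x0, orderOf_pos x0, by rw [pow_orderOf_eq_one]; exact A.one_mem⟩
  obtain ⟨m, ⟨hm0, hmA⟩, hmin⟩ : ∃ m, (0 < m ∧ x0 ^ m ∈ A) ∧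
      ∀ m', m' < m → ¬ (0 < m' ∧ x0 ^ m' ∈ A) :=
    ⟨Nat.find hex, Nat.find_spec hex, fun m' h => Nat.find_min hex h⟩
  have hm1 : m ≠ 1 := by
    rintro rfl
    rw [pow_one] at hmA
    exact hx0A hmA
  obtain ⟨r, hr, hrm⟩ := Nat.exists_prime_and_dvd hm1
  obtain ⟨m', rfl⟩ := hrm
  have hm'0 : 0 < m' := Nat.pos_of_ne_zero (by rintro rfl; simp at hm0)
  have hm'lt : m' < r * m' := by nlinarith [hr.two_le]
  have hu1 : x0 ^ m' ∉ A := fun h => hmin m' hm'lt ⟨hm'0, h⟩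
  refine ⟨r, hr, ?_⟩
  let M : Subgroup H :=
    { carrier := {u | u ∈ N ∧ u ^ r ∈ A}
      mul_mem' := by
        rintro u v ⟨hu, hur⟩ ⟨hv, hvr⟩
        refine ⟨N.mul_mem hu hv, ?_⟩
        have hc := hcomm u hu v hv
        have e := mul_pow_class2 u v _ rfl (hNA u hu _ hc).symm (hNA v hv _ hc).symm r
        rw [e]
        exact A.mul_mem (A.mul_mem (A.pow_mem (A.inv_mem hc) _) hur) hvr
      one_mem' := ⟨N.one_mem, by rw [one_pow]; exact A.one_mem⟩
      inv_mem' := by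
        rintro u ⟨hu, hur⟩
        exact ⟨N.inv_mem hu, by rw [inv_pow]; exact A.inv_mem hur⟩ }
  have hMn : M.Normal := ⟨by
    rintro u ⟨hu, hur⟩ g
    exact ⟨hN.conj_mem u hu g, by rw [conj_pow]; exact hA.conj_mem _ hur g⟩⟩
  have hMN : M ≤ N := fun u hu => hu.1
  have hMeq : M = N := by
    by_contra hne
    have hle := hprop M hMn hMN hne
    exact hu1 (hle ⟨N.pow_mem hx0 m', by rw [← pow_mul, mul_comm]; exact hmA⟩)
  intro u hu
  have hu' : u ∈ M := hMeq ▸ hu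
  exact hu'.2

theorem comm_pow (A N : Subgroup H) (hNA : ∀ n ∈ N, ∀ a ∈ A, n * a = a * n)
    (hcomm : ∀ x ∈ N, ∀ y ∈ N, x * y * x⁻¹ * y⁻¹ ∈ A) (r : ℕ) (hr : ∀ u ∈ N, u ^ r ∈ A) :
    ∀ u ∈ N, ∀ v ∈ N, (u * v * u⁻¹ * v⁻¹) ^ r = 1 := by
  intro u hu v hv
  obtain ⟨c, hc⟩ : ∃ c, c = u * v * u⁻¹ * v⁻¹ := ⟨_, rfl⟩
  rw [← hc]
  have hcA : c ∈ A := hc ▸ hcomm u hu v hv
  have h1 : u * v * u⁻¹ = c * v := by rw [hc]; group
  have h2 : u * c * u⁻¹ = c := by rw [hNA u hu c hcA]; group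
  have h3 := pow_conj u v c h1 h2 r
  have h4 : u ^ r * v * (u ^ r)⁻¹ = v := by
    rw [← hNA v hv (u ^ r) (hr u hu)]; group
  rw [h4] at h3
  exact mul_eq_right.mp h3.symm

theorem exp_two [Finite H] (A N : Subgroup H)
    (hab : ∀ B : Subgroup H, (∀ a ∈ B, ∀ b ∈ B, a * b = b * a) → IsCyclic B)
    (hAab : ∀ a ∈ A, ∀ b ∈ A, a * b = b * a)
    (hNA : ∀ n ∈ N, ∀ a ∈ A, n * a = a * n)
    (hcomm : ∀ x ∈ N, ∀ y ∈ N, x * y * x⁻¹ * y⁻¹ ∈ A)
    (hNna : ∃ x ∈ N, ∃ y ∈ N, x * y ≠ y * x) (r : ℕ) (hrp : r.Prime)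
    (hr : ∀ u ∈ N, u ^ r ∈ A) : r = 2 := by
  by_contra hr2
  have hodd : Odd r := hrp.odd_of_ne_two hr2
  obtain ⟨m, hm⟩ := hodd
  have hcp := comm_pow A N hNA hcomm r hr
  obtain ⟨x0, hx0, y0, hy0, hxy⟩ := hNna
  obtain ⟨c0, hc0⟩ : ∃ c, c = x0 * y0 * x0⁻¹ * y0⁻¹ := ⟨_, rfl⟩
  have hc0A : c0 ∈ A := hc0 ▸ hcomm x0 hx0 y0 hy0
  have hc0r : c0 ^ r = 1 := hc0 ▸ hcp x0 hx0 y0 hy0
  have hc01 : c0 ≠ 1 := by
    intro h
    apply hxy
    rw [hc0] at h
    have e : x0 * y0 = (x0 * y0 * x0⁻¹ * y0⁻¹) * (y0 * x0) := by group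
    rw [e, h, one_mul]
  have hT : r * (r - 1) / 2 = r * m := by
    have e1 : r - 1 = 2 * m := by omega
    rw [e1, show r * (2 * m) = 2 * (r * m) by ring, Nat.mul_div_cancel_left _ (by norm_num)]
  have hmul : ∀ u ∈ N, ∀ v ∈ N, (u * v) ^ r = u ^ r * v ^ r := by
    intro u hu v hv
    have hc := hcomm u hu v hv
    have e := mul_pow_class2 u v _ rfl (hNA u hu _ hc).symm (hNA v hv _ hc).symm r
    rw [e, hT, pow_mul, inv_pow, hcp u hu v hv, inv_one, one_pow, one_mul]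
  have hZab : ∀ a ∈ A ⊓ N, ∀ b ∈ A ⊓ N, a * b = b * a :=
    fun a ha b hb => hAab a ha.1 b hb.1
  have hZcyc : IsCyclic (A ⊓ N : Subgroup H) := hab _ hZab
  let π : N →* (A ⊓ N : Subgroup H) :=
    { toFun := fun u => ⟨(u : H) ^ r, hr u u.2, N.pow_mem u.2 r⟩
      map_one' := by
        apply Subtype.ext
        show ((1 : N) : H) ^ r = 1
        rw [Subgroup.coe_one, one_pow]
      map_mul' := by
        intro u v
        apply Subtype.ext
        exact hmul u u.2 v v.2 }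
  have hker : π.ker ≤ Subgroup.center N := by
    intro u hu
    rw [MonoidHom.mem_ker] at hu
    have hur : (u : H) ^ r = 1 := congrArg (fun t : (A ⊓ N : Subgroup H) => (t : H)) hu
    have huA : (u : H) ∈ A := by
      have hcu : (u : H) * c0 = c0 * u := hNA u u.2 c0 hc0A
      have hBab := comm_closure_pair (u : H) c0 hcu
      have hBcyc : IsCyclic (Subgroup.closure ({(u : H), c0} : Set H)) := hab _ hBab
      have hu' : (u : H) ∈ Subgroup.closure ({(u : H), c0} : Set H) :=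
        Subgroup.subset_closure (by simp)
      have hc' : c0 ∈ Subgroup.closure ({(u : H), c0} : Set H) :=
        Subgroup.subset_closure (by simp)
      have hz := mem_zpowers_of_cyclic r hrp
        (⟨u, hu'⟩ : Subgroup.closure ({(u : H), c0} : Set H)) ⟨c0, hc'⟩
        (Subtype.ext hur) (Subtype.ext hc0r) (fun h => hc01 (congrArg Subtype.val h))
      obtain ⟨k, hk⟩ := Subgroup.mem_zpowers_iff.mp hz
      have hk' : c0 ^ k = (u : H) := by
        have := congrArg Subtype.val hk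
        simpa using this
      rw [← hk']
      exact A.zpow_mem hc0A k
    rw [Subgroup.mem_center_iff]
    intro g
    apply Subtype.ext
    exact hNA g g.2 u huA
  have hNcomm := MonoidHom.isMulCommutative_of_isCyclic_of_ker_le_center π hker
  apply hxy
  have h := hNcomm.is_comm.comm (⟨x0, hx0⟩ : N) ⟨y0, hy0⟩
  exact congrArg Subtype.val h

theorem quat_pair (A N : Subgroup H)
    (hab : ∀ B : Subgroup H, (∀ a ∈ B, ∀ b ∈ B, a * b = b * a) → IsCyclic B)
    (hinv : ∀ s t : H, s ^ 2 = 1 → t ^ 2 = 1 → s ≠ 1 → t ≠ 1 → s = t)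
    (hAab : ∀ a ∈ A, ∀ b ∈ A, a * b = b * a)
    (hNA : ∀ n ∈ N, ∀ a ∈ A, n * a = a * n)
    (hcomm : ∀ x ∈ N, ∀ y ∈ N, x * y * x⁻¹ * y⁻¹ ∈ A)
    (hNna : ∃ x ∈ N, ∃ y ∈ N, x * y ≠ y * x)
    (h2 : ∀ u ∈ N, u ^ 2 ∈ A)
    (hc2 : ∀ u ∈ N, ∀ v ∈ N, (u * v * u⁻¹ * v⁻¹) ^ 2 = 1) :
    ∃ z i j : H, z ≠ 1 ∧ z ^ 2 = 1 ∧ z ∈ A ∧ i ∈ N ∧ j ∈ N ∧ i ^ 2 = z ∧ j ^ 2 = z ∧
      i * j = z * j * i ∧ (∀ u ∈ N, ∀ v ∈ N, u * v = v * u ∨ u * v = z * v * u) := by
  obtain ⟨x0, hx0, y0, hy0, hxy⟩ := hNna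
  obtain ⟨z, hz⟩ : ∃ c, c = x0 * y0 * x0⁻¹ * y0⁻¹ := ⟨_, rfl⟩
  have hzA : z ∈ A := hz ▸ hcomm x0 hx0 y0 hy0
  have hzN : z ∈ N := by
    rw [hz]
    exact N.mul_mem (N.mul_mem (N.mul_mem hx0 hy0) (N.inv_mem hx0)) (N.inv_mem hy0)
  have hz2 : z ^ 2 = 1 := hz ▸ hc2 x0 hx0 y0 hy0
  have hz1 : z ≠ 1 := by
    intro h
    apply hxy
    rw [hz] at h
    have e : x0 * y0 = (x0 * y0 * x0⁻¹ * y0⁻¹) * (y0 * x0) := by group
    rw [e, h, one_mul]
  have hzinv : z⁻¹ = z := inv_eq_of_mul_eq_one_right (by rw [← pow_two]; exact hz2)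
  have hcz : ∀ u ∈ N, ∀ v ∈ N, u * v = v * u ∨ u * v = z * v * u := by
    intro u hu v hv
    by_cases h1 : u * v * u⁻¹ * v⁻¹ = 1
    · left
      have e : u * v = (u * v * u⁻¹ * v⁻¹) * (v * u) := by group
      rw [e, h1, one_mul]
    · right
      have h3 := hinv _ z (hc2 u hu v hv) hz2 h1 hz1
      rw [← h3]
      group
  have hsq1 : ∀ g : H, g ^ 2 = 1 → g = 1 ∨ g = z := by
    intro g hg
    by_cases h : g = 1
    · exact Or.inl h
    · exact Or.inr (hinv g z hg hz2 h hz1)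
  have hZab : ∀ a ∈ A ⊓ N, ∀ b ∈ A ⊓ N, a * b = b * a :=
    fun a ha b hb => hAab a ha.1 b hb.1
  have hZcyc : IsCyclic (A ⊓ N : Subgroup H) := hab _ hZab
  have hNS : ∀ u ∈ N, u ∉ A → ∀ q ∈ A, u ^ 2 ≠ q ^ 2 := by
    intro u hu huA q hq he
    have hcq : Commute u q := hNA u hu q hq
    have h1 : (u * q⁻¹) ^ 2 = 1 := by
      rw [hcq.inv_right.mul_pow, he, inv_pow, mul_inv_cancel]
    rcases hsq1 _ h1 with h | h
    · apply huA
      rw [mul_inv_eq_one] at h
      rw [h]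
      exact hq
    · apply huA
      have e : u = z * q := by rw [← h]; group
      rw [e]
      exact A.mul_mem hzA hq
  have hx0A : x0 ∉ A := fun h => hxy ((hNA y0 hy0 x0 h).symm)
  have hy0A : y0 ∉ A := fun h => hxy (hNA x0 hx0 y0 h)
  have hs : x0 ^ 2 ∈ A ⊓ N := ⟨h2 x0 hx0, N.pow_mem hx0 2⟩
  have ht : y0 ^ 2 ∈ A ⊓ N := ⟨h2 y0 hy0, N.pow_mem hy0 2⟩
  have hxy2 : (x0 * y0) ^ 2 = z * x0 ^ 2 * y0 ^ 2 := by
    have e := mul_pow_class2 x0 y0 z hz (hNA x0 hx0 z hzA).symm (hNA y0 hy0 z hzA).symm 2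
    rw [e, hzinv]
    norm_num
  rcases sq_trichotomy (A ⊓ N) hZcyc _ _ hs ht with ⟨q, hq, he⟩ | ⟨q, hq, he⟩ | ⟨q, hq, he⟩
  · exact absurd he (hNS x0 hx0 hx0A q hq.1)
  · exact absurd he (hNS y0 hy0 hy0A q hq.1)
  · obtain ⟨w, hw⟩ : ∃ w, w = x0 * y0 * q⁻¹ := ⟨_, rfl⟩
    have hwN : w ∈ N := hw ▸ N.mul_mem (N.mul_mem hx0 hy0) (N.inv_mem hq.2)
    have hw2 : w ^ 2 = z := by
      have hcq : Commute (x0 * y0) q := hNA _ (N.mul_mem hx0 hy0) q hq.1
      rw [hw, hcq.inv_right.mul_pow, hxy2, mul_assoc z, he, inv_pow, mul_assoc, mul_inv_cancel,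
        mul_one]
    have hwx : w * x0 ≠ x0 * w := by
      intro h
      apply hxy
      have h' : x0 * (x0 * y0 * q⁻¹) = x0 * y0 * q⁻¹ * x0 := by rw [← hw]; exact h.symm
      have h3 := comm_cancel_right x0 (x0 * y0) q⁻¹ h' (hNA x0 hx0 q⁻¹ (A.inv_mem hq.1))
      exact mul_left_cancel (h3.trans (mul_assoc x0 y0 x0))
    have hwA : w ∉ A := fun h => hwx ((hNA x0 hx0 w h).symm)
    rcases sq_trichotomy (A ⊓ N) hZcyc _ _ ⟨hzA, hzN⟩ hs with
      ⟨q', hq', he'⟩ | ⟨q', hq', he'⟩ | ⟨q', hq', he'⟩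
    · exact absurd (hw2.trans he') (hNS w hwN hwA q' hq'.1)
    · exact absurd he' (hNS x0 hx0 hx0A q' hq'.1)
    · obtain ⟨j, hj⟩ : ∃ j, j = x0 * q'⁻¹ := ⟨_, rfl⟩
      have hjN : j ∈ N := hj ▸ N.mul_mem hx0 (N.inv_mem hq'.2)
      have hj2 : j ^ 2 = z := by
        have hcq : Commute x0 q' := hNA x0 hx0 q' hq'.1
        rw [hj, hcq.inv_right.mul_pow, inv_pow, ← he', mul_inv_rev, ← mul_assoc, mul_inv_cancel,
          one_mul, hzinv]
      refine ⟨z, w, j, hz1, hz2, hzA, hwN, hjN, hw2, hj2, ?_, hcz⟩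
      rcases hcz w hwN j hjN with h | h
      · exfalso
        apply hwx
        have h' : w * (x0 * q'⁻¹) = x0 * q'⁻¹ * w := by rw [← hj]; exact h
        exact comm_cancel_right w x0 q'⁻¹ h' (hNA w hwN q'⁻¹ (A.inv_mem hq'.1))
      · exact h

theorem quat_index [Finite H] (A N : Subgroup H)
    (hinv : ∀ s t : H, s ^ 2 = 1 → t ^ 2 = 1 → s ≠ 1 → t ≠ 1 → s = t)
    (hN : N.Normal)
    (hNA : ∀ n ∈ N, ∀ a ∈ A, n * a = a * n)
    (hNmin : ∀ M : Subgroup H, M.Normal → M ≤ N → (∃ x ∈ M, ∃ y ∈ M, x * y ≠ y * x) → M = N)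
    (hCN : ∀ h : H, (∀ n ∈ N, h * n = n * h) → h ∈ A)
    (z i j : H) (hz1 : z ≠ 1) (hz2 : z ^ 2 = 1) (hiN : i ∈ N) (hjN : j ∈ N)
    (hi2 : i ^ 2 = z) (hj2 : j ^ 2 = z) (hij : i * j = z * j * i)
    (hcz : ∀ u ∈ N, ∀ v ∈ N, u * v = v * u ∨ u * v = z * v * u) :
    A.index = 4 ∨ A.index = 8 ∨ A.index = 12 ∨ A.index = 16 ∨ A.index = 24 := by
  classical
  have hzc : ∀ h : H, h * z = z * h := by
    intro h
    have h1 : (h * z * h⁻¹) ^ 2 = 1 := by rw [conj_pow, hz2]; group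
    have h2 : h * z * h⁻¹ ≠ 1 := by
      intro h3
      apply hz1
      have e : z = h⁻¹ * (h * z * h⁻¹) * h := by group
      rw [e, h3]; group
    have h3 := hinv _ z h1 hz2 h2 hz1
    exact mul_inv_eq_iff_eq_mul.mp h3
  have hzinv : z⁻¹ = z := inv_eq_of_mul_eq_one_right (by rw [← pow_two]; exact hz2)
  have hsq1 : ∀ g : H, g ^ 2 = 1 → g = 1 ∨ g = z := by
    intro g hg
    by_cases h : g = 1
    · exact Or.inl h
    · exact Or.inr (hinv g z hg hz2 h hz1)
  have hzN : z ∈ N := hi2 ▸ N.pow_mem hiN 2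
  have hnc : i * j ≠ j * i := by
    intro h
    apply hz1
    rw [hij, mul_assoc] at h
    exact mul_eq_right.mp h
  have hzmul : ∀ h X : H, h * X = X * h → h * (z * X) = z * X * h := by
    intro h X hX
    calc h * (z * X) = (h * z) * X := by group
      _ = (z * h) * X := by rw [hzc h]
      _ = z * (h * X) := by group
      _ = z * (X * h) := by rw [hX]
      _ = z * X * h := by group
  have hk2 : (i * j) ^ 2 = z := by
    have e2 : j * i = z * (i * j) := by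
      rw [hij, ← mul_assoc, ← mul_assoc, ← pow_two, hz2, one_mul]
    calc (i * j) ^ 2 = i * (j * i) * j := by rw [pow_two]; group
      _ = i * (z * (i * j)) * j := by rw [e2]
      _ = (i * z) * (i * j * j) := by group
      _ = (z * i) * (i * j * j) := by rw [hzc i]
      _ = z * (i * i) * (j * j) := by group
      _ = z * z * z := by rw [← pow_two i, ← pow_two j, hi2, hj2]
      _ = z := by rw [← pow_two, hz2, one_mul]
  have hsame : ∀ u v : H, u * v = v * u → u ^ 2 = v ^ 2 → u = v ∨ u = z * v := by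
    intro u v huv he
    have hc : Commute u v := huv
    have h1 : (u * v⁻¹) ^ 2 = 1 := by
      rw [hc.inv_right.mul_pow, he, inv_pow, mul_inv_cancel]
    rcases hsq1 _ h1 with h | h
    · left
      exact mul_inv_eq_one.mp h
    · right
      rw [← h]; group
  have hE1 : ∀ u ∈ N, u ^ 2 = z →
      u = i ∨ u = z * i ∨ u = j ∨ u = z * j ∨ u = i * j ∨ u = z * (i * j) := by
    intro u hu hu2
    rcases hcz u hu i hiN with h | hui
    · rcases hsame u i h (hu2.trans hi2.symm) with h' | h'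
      · exact Or.inl h'
      · exact Or.inr (Or.inl h')
    · rcases hcz u hu j hjN with h | huj
      · rcases hsame u j h (hu2.trans hj2.symm) with h' | h'
        · exact Or.inr (Or.inr (Or.inl h'))
        · exact Or.inr (Or.inr (Or.inr (Or.inl h')))
      · have hk : u * (i * j) = i * j * u := by
          calc u * (i * j) = (u * i) * j := by group
            _ = z * i * u * j := by rw [hui]
            _ = z * i * (u * j) := by group
            _ = z * i * (z * j * u) := by rw [huj]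
            _ = z * (i * z) * j * u := by group
            _ = z * (z * i) * j * u := by rw [hzc i]
            _ = (z * z) * (i * j * u) := by group
            _ = i * j * u := by rw [← pow_two, hz2, one_mul]
        rcases hsame u (i * j) hk (hu2.trans hk2.symm) with h' | h'
        · exact Or.inr (Or.inr (Or.inr (Or.inr (Or.inl h'))))
        · exact Or.inr (Or.inr (Or.inr (Or.inr (Or.inr h'))))
  -- N is generated by the elements of square z
  obtain ⟨Q, hQ⟩ : ∃ Q : Subgroup H, Q = Subgroup.closure {u | u ∈ N ∧ u ^ 2 = z} := ⟨_, rfl⟩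
  have hQn : Q.Normal := ⟨by
    intro n hn g
    rw [hQ] at hn ⊢
    induction hn using Subgroup.closure_induction with
    | mem x hx =>
      refine Subgroup.subset_closure ⟨hN.conj_mem x hx.1 g, ?_⟩
      rw [conj_pow, hx.2, hzc g]; group
    | one => rw [mul_one, mul_inv_cancel]; exact Subgroup.one_mem _
    | mul x y _ _ hx hy =>
      have e : g * (x * y) * g⁻¹ = (g * x * g⁻¹) * (g * y * g⁻¹) := by group
      rw [e]
      exact Subgroup.mul_mem _ hx hy
    | inv x _ hx =>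
      have e : g * x⁻¹ * g⁻¹ = (g * x * g⁻¹)⁻¹ := by group
      rw [e]
      exact Subgroup.inv_mem _ hx⟩
  have hQN : Q ≤ N := by
    rw [hQ, Subgroup.closure_le]
    intro u hu
    exact hu.1
  have hQeq : Q = N := by
    apply hNmin Q hQn hQN
    refine ⟨i, ?_, j, ?_, hnc⟩
    · rw [hQ]; exact Subgroup.subset_closure ⟨hiN, hi2⟩
    · rw [hQ]; exact Subgroup.subset_closure ⟨hjN, hj2⟩
  have hE3 : ∀ h : H, h * i = i * h → h * j = j * h → h ∈ A := by
    intro h hhi hhj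
    apply hCN
    intro n hn
    have hle : Q ≤ Subgroup.centralizer ({h} : Set H) := by
      rw [hQ, Subgroup.closure_le]
      rintro u ⟨hu, hu2⟩
      rw [SetLike.mem_coe, Subgroup.mem_centralizer_iff]
      intro g hg
      rw [Set.mem_singleton_iff] at hg
      rw [hg]
      have hhk : h * (i * j) = i * j * h := by
        rw [← mul_assoc, hhi, mul_assoc, hhj, mul_assoc]
      rcases hE1 u hu hu2 with rfl | rfl | rfl | rfl | rfl | rfl
      · exact hhi
      · exact hzmul h i hhi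
      · exact hhj
      · exact hzmul h j hhj
      · exact hhk
      · exact hzmul h (i * j) hhk
    rw [← hQeq] at hn
    exact (Subgroup.mem_centralizer_iff.mp (hle hn)) h rfl
  -- index computation
  obtain ⟨Ca, hCa, hCai⟩ := conj_index (MonoidHom.id H) i
  obtain ⟨Cb, hCb, hCbi⟩ := conj_index (Ca.subtype) j
  have hCa' : ∀ k : H, k ∈ Ca ↔ k * i = i * k := hCa
  have hCb' : ∀ k : Ca, k ∈ Cb ↔ (k : H) * j = j * k := hCb
  have hACa : A ≤ Ca := fun a ha => (hCa' a).mpr ((hNA i hiN a ha).symm)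
  have hrel : A.relIndex Ca = Cb.index := by
    have e : A.subgroupOf Ca = Cb := by
      ext k
      rw [Subgroup.mem_subgroupOf, hCb']
      constructor
      · intro hk
        exact (hNA j hjN k hk).symm
      · intro hk
        exact hE3 k ((hCa' k).mp k.2) hk
    rw [Subgroup.relIndex, e]
  have hidx : A.index = Cb.index * Ca.index := by
    rw [← Subgroup.relIndex_mul_index hACa, hrel]
  -- the class of i
  have hSa_sub : {w : H | ∃ k : H, w = (MonoidHom.id H) k * i * ((MonoidHom.id H) k)⁻¹} ⊆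
      ((({i, z * i, j, z * j, i * j, z * (i * j)} : Finset H)) : Set H) := by
    rintro w ⟨k, rfl⟩
    simp only [Finset.coe_insert, Finset.coe_singleton, Set.mem_insert_iff,
      Set.mem_singleton_iff, MonoidHom.id_apply]
    apply hE1 _ (hN.conj_mem i hiN k)
    rw [conj_pow, hi2, hzc k]; group
  have hSa_le : Ca.index ≤ 6 := by
    rw [hCai]
    refine (Set.ncard_le_ncard hSa_sub (Finset.finite_toSet _)).trans ?_
    rw [Set.ncard_coe_finset]
    exact Finset.card_le_six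
  have hSa_even : Even Ca.index := by
    rw [hCai]
    apply even_ncard z hz1 hz2
    rintro w ⟨k, rfl⟩
    refine ⟨k * j, ?_⟩
    simp only [MonoidHom.id_apply]
    have e1 : j * i * j⁻¹ = z * i := by
      have e2 : j * i = z * (i * j) := by
        rw [hij, ← mul_assoc, ← mul_assoc, ← pow_two, hz2, one_mul]
      rw [e2]; group
    have e3 : k * j * i * (k * j)⁻¹ = k * (j * i * j⁻¹) * k⁻¹ := by group
    rw [e3, e1, ← mul_assoc, ← mul_assoc, ← mul_assoc, hzc k]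
  have hSa_ne : Ca.index ≠ 0 := by
    rw [hCai]
    apply Set.ncard_ne_zero_of_mem (a := i)
    exact ⟨1, by simp⟩
  -- the class of j under the centraliser of i
  have hSb_sub : {w : H | ∃ k : Ca, w = (Ca.subtype) k * j * ((Ca.subtype) k)⁻¹} ⊆
      ((({j, z * j, i * j, z * (i * j)} : Finset H)) : Set H) := by
    rintro w ⟨k, rfl⟩
    simp only [Finset.coe_insert, Finset.coe_singleton, Set.mem_insert_iff,
      Set.mem_singleton_iff, Subgroup.coe_subtype]
    have hki : (k : H) * i * (k : H)⁻¹ = i := by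
      rw [(hCa' k).mp k.2]; group
    have hwi : (k : H) * j * (k : H)⁻¹ * i ≠ i * ((k : H) * j * (k : H)⁻¹) := by
      intro h
      have h' : MulAut.conj (k : H) (j * i) = MulAut.conj (k : H) (i * j) := by
        rw [map_mul, map_mul, MulAut.conj_apply, MulAut.conj_apply, hki]
        exact h
      exact hnc ((MulAut.conj (k : H)).injective h').symm
    have hw2 : ((k : H) * j * (k : H)⁻¹) ^ 2 = z := by
      rw [conj_pow, hj2, hzc k]; group
    rcases hE1 _ (hN.conj_mem j hjN k) hw2 with h | h | h | h | h | h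
    · exfalso
      apply hwi
      rw [h]
    · exfalso
      apply hwi
      rw [h]
      exact (hzmul i i rfl).symm
    · exact Or.inl h
    · exact Or.inr (Or.inl h)
    · exact Or.inr (Or.inr (Or.inl h))
    · exact Or.inr (Or.inr (Or.inr h))
  have hSb_le : Cb.index ≤ 4 := by
    rw [hCbi]
    refine (Set.ncard_le_ncard hSb_sub (Finset.finite_toSet _)).trans ?_
    rw [Set.ncard_coe_finset]
    exact Finset.card_le_four
  have hSb_even : Even Cb.index := by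
    rw [hCbi]
    apply even_ncard z hz1 hz2
    rintro w ⟨k, rfl⟩
    refine ⟨k * ⟨i, (hCa' i).mpr rfl⟩, ?_⟩
    simp only [Subgroup.coe_subtype, Subgroup.coe_mul]
    have e1 : i * j * i⁻¹ = z * j := by rw [hij]; group
    have e3 : (k : H) * i * j * ((k : H) * i)⁻¹ = (k : H) * (i * j * i⁻¹) * (k : H)⁻¹ := by group
    rw [e3, e1, ← mul_assoc, ← mul_assoc, ← mul_assoc, hzc k]
  have hSb_ne : Cb.index ≠ 0 := by
    rw [hCbi]
    apply Set.ncard_ne_zero_of_mem (a := j)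
    exact ⟨1, by simp⟩
  obtain ⟨a, ha⟩ := hSa_even
  obtain ⟨b, hb⟩ := hSb_even
  have ha' : Ca.index = 2 ∨ Ca.index = 4 ∨ Ca.index = 6 := by omega
  have hb' : Cb.index = 2 ∨ Cb.index = 4 := by omega
  rw [hidx]
  rcases ha' with h | h | h <;> rcases hb' with h' | h' <;> rw [h, h'] <;> norm_num

end quat

theorem arith (p k n a t : ℕ) (hp : p.Prime) (hk : 1 ≤ k) (hq2 : p ^ k * p ^ k ≤ p ^ n)
    (ha : a ∣ p ^ k - 1) (hH : t * a + 1 = p ^ n)
    (ht : t = 4 ∨ t = 8 ∨ t = 12 ∨ t = 16 ∨ t = 24) :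
    p ^ n = 9 ∨ p ^ n = 25 ∨ p ^ n = 49 ∨ p ^ n = 121 ∨ p ^ n = 529 := by
  have hp2 := hp.two_le
  have hkn : 2 * k ≤ n := by
    rw [← pow_add, ← two_mul] at hq2
    exact (Nat.pow_le_pow_iff_right hp.one_lt).mp hq2
  obtain ⟨m, rfl⟩ : ∃ m, n = 2 * k + m := ⟨n - 2 * k, by omega⟩
  obtain ⟨q, hq⟩ : ∃ q, q = p ^ k := ⟨_, rfl⟩
  have hN : p ^ (2 * k + m) = q * q * p ^ m := by rw [hq, pow_add, two_mul, pow_add]
  rw [hN] at hH ⊢
  rw [← hq] at ha
  have hpq : p ≤ q := by rw [hq]; exact Nat.le_self_pow (by omega) p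
  have hpm : 1 ≤ p ^ m := Nat.one_le_pow _ _ (by omega)
  have hpodd : p % 2 = 1 := by
    rcases hp.eq_two_or_odd with h2 | h
    · exfalso
      have h2q : 2 ∣ q := by rw [hq, h2]; exact dvd_pow_self 2 (by omega)
      obtain ⟨c, hc⟩ := h2q
      rw [hc] at hH
      have h2X : 2 ∣ 2 * c * (2 * c) * p ^ m :=
        ((dvd_mul_right 2 c).mul_right _).mul_right _
      rcases ht with rfl | rfl | rfl | rfl | rfl <;> omega
    · exact h
  have hqodd : q % 2 = 1 := by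
    rw [hq]; exact Nat.odd_iff.mp ((Nat.odd_iff.mpr hpodd).pow)
  obtain ⟨d, hd⟩ := ha
  have hq2' : 2 ≤ q := by omega
  have ha0 : 0 < a := by
    rcases Nat.eq_zero_or_pos a with h | h
    · rw [h, zero_mul] at hd; omega
    · exact h
  have hd0 : 0 < d := by
    rcases Nat.eq_zero_or_pos d with h | h
    · rw [h, mul_zero] at hd; omega
    · exact h
  have haq : a ≤ q - 1 := by rw [hd]; exact Nat.le_mul_of_pos_right a hd0
  have ht24 : t ≤ 24 := by omega
  have hb1 : q * q * p ^ m ≤ 24 * (q - 1) + 1 := by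
    rw [← hH]
    have := Nat.mul_le_mul ht24 haq
    omega
  have hb2 : q * p ^ m ≤ 23 := by
    by_contra hcon
    have h24 : 24 ≤ q * p ^ m := by omega
    have h1 := Nat.mul_le_mul_left q h24
    have e : q * (q * p ^ m) = q * q * p ^ m := by ring
    omega
  have hq23 : q ≤ 23 := by
    have := Nat.mul_le_mul_left q hpm
    omega
  have hm0 : m = 0 := by
    by_contra hm
    have hpm' : p ≤ p ^ m := Nat.le_self_pow hm p
    have hpp : p * p ≤ 23 := (Nat.mul_le_mul hpq hpm').trans hb2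
    have hp4 : p ≤ 4 := by nlinarith
    have hp3 : p = 3 := by omega
    subst hp3
    have hkm : k + m ≤ 2 := by
      by_contra hcon
      have h1 : 3 ^ 3 ≤ 3 ^ (k + m) := Nat.pow_le_pow_right (by norm_num) (by omega)
      rw [pow_add, ← hq] at h1
      omega
    have hk1 : k = 1 := by omega
    have hm1 : m = 1 := by omega
    subst hk1
    subst hm1
    norm_num at hq
    subst hq
    norm_num at hH
    rcases ht with rfl | rfl | rfl | rfl | rfl <;> omega
  subst hm0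
  rw [pow_zero, mul_one] at hH ⊢
  have htd : t = d * (q + 1) := by
    have e1 : q * q = (q - 1) * (q + 1) + 1 := by
      obtain ⟨q', rfl⟩ : ∃ q', q = q' + 1 := ⟨q - 1, by omega⟩
      simp only [Nat.add_sub_cancel]
      ring
    rw [e1, hd] at hH
    have h1 : a * t = a * (d * (q + 1)) := by
      have h2 : t * a = a * d * (q + 1) := by omega
      rw [mul_comm a t, h2]; ring
    exact Nat.eq_of_mul_eq_mul_left ha0 h1
  have hd8 : d ≤ 8 := by
    have : d * 3 ≤ d * (q + 1) := Nat.mul_le_mul_left d (by omega)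
    omega
  have hq15 : q ≠ 15 := by
    intro h15
    rw [hq] at h15
    have h3 : 3 ∣ p ^ k := by rw [h15]; norm_num
    have h5 : 5 ∣ p ^ k := by rw [h15]; norm_num
    have e3 := (Nat.prime_dvd_prime_iff_eq Nat.prime_three hp).mp
      (Nat.prime_three.dvd_of_dvd_pow h3)
    have e5 := (Nat.prime_dvd_prime_iff_eq Nat.prime_five hp).mp
      (Nat.prime_five.dvd_of_dvd_pow h5)
    omega
  clear hq hN hb1 hb2 hpq hpm hkn hq2 haq hH
  interval_cases q <;> interval_cases d <;> omega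

theorem zmod3_key : ∀ c : ZMod 3, c * c + 1 ≠ 0 := by decide

section lin

variable {p : ℕ} [Fact p.Prime] {V : Type v} [AddCommGroup V] [Module (ZMod p) V] [Finite V]

theorem card_H (H : Subgroup (V ≃ₗ[ZMod p] V))
    (hreg : ∀ v w : V, v ≠ 0 → w ≠ 0 → ∃! h : H, (h : V ≃ₗ[ZMod p] V) v = w)
    (w0 : V) (hw0 : w0 ≠ 0) : Nat.card H + 1 = Nat.card V := by
  classical
  have e : H ≃ {v : V // v ≠ 0} := Equiv.ofBijective
    (fun g => ⟨(g : V ≃ₗ[ZMod p] V) w0, (LinearEquiv.map_ne_zero_iff _).mpr hw0⟩)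
    ⟨by
      intro g g' hgg'
      have h1 : (g : V ≃ₗ[ZMod p] V) w0 = (g' : V ≃ₗ[ZMod p] V) w0 :=
        congrArg Subtype.val hgg'
      exact (hreg w0 ((g' : V ≃ₗ[ZMod p] V) w0) hw0
        ((LinearEquiv.map_ne_zero_iff _).mpr hw0)).unique h1 rfl, by
      rintro ⟨v, hv⟩
      obtain ⟨g, hg, -⟩ := hreg w0 v hw0 hv
      exact ⟨g, Subtype.ext hg⟩⟩
  rw [Nat.card_congr e, ← Finite.card_option, Nat.card_congr (Equiv.optionSubtypeNe (0 : V))]

theorem card_sq (H : Subgroup (V ≃ₗ[ZMod p] V))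
    (hreg : ∀ v w : V, v ≠ 0 → w ≠ 0 → ∃! h : H, (h : V ≃ₗ[ZMod p] V) v = w)
    (A : Subgroup H) (hAn : A.Normal) (W : Submodule (ZMod p) V) (hW0 : W ≠ ⊥) (hWtop : W ≠ ⊤)
    (hWinv : ∀ a ∈ A, ∀ v ∈ W, ((a : H) : V ≃ₗ[ZMod p] V) v ∈ W)
    (hWmin : ∀ W' : Submodule (ZMod p) V, W' ≤ W →
      (∀ a ∈ A, ∀ v ∈ W', ((a : H) : V ≃ₗ[ZMod p] V) v ∈ W') → W' = ⊥ ∨ W' = W) :
    Nat.card W * Nat.card W ≤ Nat.card V := by
  obtain ⟨w0, hw0W, hw0⟩ := (Submodule.ne_bot_iff W).mp hW0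
  obtain ⟨x, hx⟩ : ∃ x : V, x ∉ W := by
    by_contra hcon
    push Not at hcon
    exact hWtop (eq_top_iff.mpr fun v _ => hcon v)
  have hx0 : x ≠ 0 := fun h => hx (h ▸ W.zero_mem)
  obtain ⟨h, hh, -⟩ := hreg w0 x hw0 hx0
  obtain ⟨W', hW'def⟩ : ∃ W' : Submodule (ZMod p) V,
      W' = W.map (((h : H) : V ≃ₗ[ZMod p] V) : V →ₗ[ZMod p] V) := ⟨_, rfl⟩
  have hxW' : x ∈ W' := by
    rw [hW'def]
    exact ⟨w0, hw0W, hh⟩
  have hW'inv : ∀ a ∈ A, ∀ v ∈ W', ((a : H) : V ≃ₗ[ZMod p] V) v ∈ W' := by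
    intro a ha v' hv'
    rw [hW'def] at hv' ⊢
    obtain ⟨v, hv, rfl⟩ := hv'
    refine ⟨((h⁻¹ * a * h : H) : V ≃ₗ[ZMod p] V) v, hWinv _ ?_ v hv, ?_⟩
    · have := hAn.conj_mem a ha h⁻¹
      simpa using this
    · show ((h : H) : V ≃ₗ[ZMod p] V) (((h : H) : V ≃ₗ[ZMod p] V)⁻¹
        (((a : H) : V ≃ₗ[ZMod p] V) (((h : H) : V ≃ₗ[ZMod p] V) v))) =
          ((a : H) : V ≃ₗ[ZMod p] V) (((h : H) : V ≃ₗ[ZMod p] V) v)
      exact ((h : H) : V ≃ₗ[ZMod p] V).apply_symm_apply _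
  have hfr : Module.finrank (ZMod p) W' = Module.finrank (ZMod p) W := by
    rw [hW'def]
    exact LinearEquiv.finrank_map_eq _ _
  have hdisj : W ⊓ W' = ⊥ := by
    rcases hWmin (W ⊓ W') inf_le_left (by
      intro a ha v hv
      exact ⟨hWinv a ha v hv.1, hW'inv a ha v hv.2⟩) with h1 | h1
    · exact h1
    · exfalso
      have hle : W ≤ W' := inf_eq_left.mp h1
      have : W = W' := Submodule.eq_of_le_of_finrank_eq hle hfr.symm
      exact hx (this ▸ hxW')
  have hcW : Nat.card W = p ^ Module.finrank (ZMod p) W := by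
    rw [Module.natCard_eq_pow_finrank (K := ZMod p) (V := W), Nat.card_zmod]
  have hcW' : Nat.card W' = p ^ Module.finrank (ZMod p) W := by
    rw [Module.natCard_eq_pow_finrank (K := ZMod p) (V := W'), Nat.card_zmod, hfr]
  have hinj : Function.Injective (fun q : W × W' => (q.1 : V) + (q.2 : V)) := by
    rintro ⟨a, b⟩ ⟨c, d⟩ hq
    have hq' : (a : V) + b = c + d := hq
    have h1 : (a : V) - c = d - b := by
      rw [sub_eq_sub_iff_add_eq_add, hq', add_comm]
    have h2 : (a : V) - c ∈ W ⊓ W' :=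
      ⟨W.sub_mem a.2 c.2, by rw [h1]; exact W'.sub_mem d.2 b.2⟩
    rw [hdisj, Submodule.mem_bot] at h2
    have h3 : (d : V) - b = 0 := by rw [← h1, h2]
    have e1 : a = c := Subtype.ext (sub_eq_zero.mp h2)
    have e2 : d = b := Subtype.ext (sub_eq_zero.mp h3)
    rw [e1, e2]
  have := Nat.card_le_card_of_injective _ hinj
  rwa [Nat.card_prod, hcW', ← hcW] at this

end lin

set_option maxHeartbeats 1000000 in
/-- Degrees of the soluble exceptional sharply doubly transitive groups: if a solvable linear group over the prime field is regular on the non-zero vectors of `V` and has no irreducible cyclic normal subgroup, then `V` has 25, 49, 121 or 529 elements. -/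
theorem result {p : ℕ} [Fact p.Prime] {V : Type*} [AddCommGroup V] [Module (ZMod p) V] [Finite V] (H : Subgroup (V ≃ₗ[ZMod p] V)) (hreg : ∀ v w : V, v ≠ 0 → w ≠ 0 → ∃! h : H, (h : V ≃ₗ[ZMod p] V) v = w) (hI : ∀ A : Subgroup H, A.Normal → IsCyclic A → ∃ W : Submodule (ZMod p) V, W ≠ ⊥ ∧ W ≠ ⊤ ∧ ∀ a ∈ A, ∀ v ∈ W, ((a : H) : V ≃ₗ[ZMod p] V) v ∈ W) (hsolv : Group.IsSolvable H) : Nat.card V = 25 ∨ Nat.card V = 49 ∨ Nat.card V = 121 ∨ Nat.card V = 529 := by
  have hp := (Fact.out : p.Prime)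
  have hfpf : ∀ h : H, ∀ v : V, v ≠ 0 → (h : V ≃ₗ[ZMod p] V) v = v → h = 1 := by
    intro h v hv hhv
    obtain ⟨h0, -, huniq⟩ := hreg v v hv hv
    rw [huniq h hhv, huniq 1 rfl]
  have hfinGL : Finite (V ≃ₗ[ZMod p] V) := DFunLike.finite (V ≃ₗ[ZMod p] V)
  obtain ⟨W₀, hW₀bot, -, -⟩ := hI ⊥ inferInstance inferInstance
  have htop : (⊤ : Submodule (ZMod p) V) ≠ ⊥ := by
    intro h
    apply hW₀bot
    rw [eq_bot_iff, ← h]
    exact le_top
  obtain ⟨w0, -, hw0⟩ := (Submodule.ne_bot_iff _).mp htop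
  have hab : ∀ B : Subgroup H, (∀ a ∈ B, ∀ b ∈ B, a * b = b * a) → IsCyclic B := by
    intro B hB
    have hBc : IsMulCommutative B := ⟨⟨fun a b => Subtype.ext (hB a a.2 b b.2)⟩⟩
    obtain ⟨W₁, -, hW₁0, hW₁inv, hW₁min⟩ := S0684.exists_min
      (fun W => ∀ a ∈ B, ∀ v ∈ W, ((a : H) : V ≃ₗ[ZMod p] V) v ∈ W) ⊤ htop
      (fun _ _ _ _ => Submodule.mem_top)
    exact (S0684.main H hfpf B hBc W₁ hW₁0 hW₁inv hW₁min).1
  have hneg : ∀ h : H, h ^ 2 = 1 → h ≠ 1 → ∀ v : V, (h : V ≃ₗ[ZMod p] V) v = -v := by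
    intro h h2 h1 v
    by_contra hne
    apply h1
    have hw : (h : V ≃ₗ[ZMod p] V) v + v ≠ 0 :=
      fun h0 => hne (eq_neg_of_add_eq_zero_left h0)
    apply hfpf h _ hw
    have e : h * h = 1 := by rw [← pow_two]; exact h2
    have e2 : (h : V ≃ₗ[ZMod p] V) ((h : V ≃ₗ[ZMod p] V) v) = v :=
      congrArg (fun g : H => (g : V ≃ₗ[ZMod p] V) v) e
    rw [map_add, e2, add_comm]
  have hinv : ∀ s t : H, s ^ 2 = 1 → t ^ 2 = 1 → s ≠ 1 → t ≠ 1 → s = t := by
    intro s t hs ht hs1 ht1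
    apply Subtype.ext
    apply LinearEquiv.ext
    intro v
    rw [hneg s hs hs1 v, hneg t ht ht1 v]
  obtain ⟨A, ⟨hAn, hAab⟩, hAmaxc⟩ : ∃ A : Subgroup H,
      (A.Normal ∧ ∀ a ∈ A, ∀ b ∈ A, a * b = b * a) ∧
      ∀ B : Subgroup H, (B.Normal ∧ ∀ a ∈ B, ∀ b ∈ B, a * b = b * a) →
        Nat.card B ≤ Nat.card A := by
    have hne : ({B : Subgroup H | B.Normal ∧ ∀ a ∈ B, ∀ b ∈ B, a * b = b * a}).Nonempty :=
      ⟨⊥, inferInstance, by
        intro a ha b hb
        rw [Subgroup.mem_bot] at ha hb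
        rw [ha, hb]⟩
    obtain ⟨A, hA, hmax⟩ := Set.exists_max_image _ (fun B : Subgroup H => Nat.card B)
      (Set.toFinite _) hne
    exact ⟨A, hA, fun B hB => hmax B hB⟩
  have hAmax : ∀ B : Subgroup H, B.Normal → (∀ a ∈ B, ∀ b ∈ B, a * b = b * a) → A ≤ B →
      B = A := by
    intro B hBn hBab hAB
    exact (Subgroup.eq_of_le_of_card_ge hAB (hAmaxc B ⟨hBn, hBab⟩)).symm
  have hAc : IsMulCommutative A := ⟨⟨fun a b => Subtype.ext (hAab a a.2 b b.2)⟩⟩
  have hAmax' : ∀ B : Subgroup H, B.Normal → IsMulCommutative B → A ≤ B → B = A := by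
    intro B hBn hBc hAB
    exact hAmax B hBn
      (fun a ha b hb => congrArg Subtype.val (hBc.is_comm.comm ⟨a, ha⟩ ⟨b, hb⟩)) hAB
  obtain ⟨-, hCna⟩ := S0685.result H hreg hI A hAn hAc hAmax'
  obtain ⟨N, ⟨hNn, hNle, hNna⟩, hNminc⟩ : ∃ N : Subgroup H,
      (N.Normal ∧ N ≤ Subgroup.centralizer (A : Set H) ∧ ¬ IsMulCommutative N) ∧
      ∀ M : Subgroup H,
        (M.Normal ∧ M ≤ Subgroup.centralizer (A : Set H) ∧ ¬ IsMulCommutative M) →
        Nat.card N ≤ Nat.card M := by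
    have hne : ({M : Subgroup H | M.Normal ∧ M ≤ Subgroup.centralizer (A : Set H) ∧
        ¬ IsMulCommutative M}).Nonempty :=
      ⟨Subgroup.centralizer (A : Set H), inferInstance, le_rfl, hCna⟩
    obtain ⟨N, hN, hmin⟩ := Set.exists_min_image _ (fun B : Subgroup H => Nat.card B)
      (Set.toFinite _) hne
    exact ⟨N, hN, fun M hM => hmin M hM⟩
  have hNmin' : ∀ M : Subgroup H, M.Normal → M ≤ N → ¬ IsMulCommutative M → M = N := by
    intro M hMn hMN hMna
    exact Subgroup.eq_of_le_of_card_ge hMN (hNminc M ⟨hMn, hMN.trans hNle, hMna⟩)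
  obtain ⟨-, hCNeq⟩ := S0687.result H hreg hI A hAn hAc hAmax' N hNn hNle hNna hNmin'
  have hNA : ∀ n ∈ N, ∀ a ∈ A, n * a = a * n := by
    intro n hn a ha
    exact ((Subgroup.mem_centralizer_iff.mp (hNle hn)) a ha).symm
  have hNna' : ∃ x ∈ N, ∃ y ∈ N, x * y ≠ y * x := by
    by_contra hcon
    push Not at hcon
    exact hNna ⟨⟨fun a b => Subtype.ext (hcon a a.2 b b.2)⟩⟩
  have hNmin : ∀ M : Subgroup H, M.Normal → M ≤ N → (∃ x ∈ M, ∃ y ∈ M, x * y ≠ y * x) →
      M = N := by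
    rintro M hMn hMN ⟨x, hx, y, hy, hxy⟩
    apply hNmin' M hMn hMN
    intro hMc
    exact hxy (congrArg Subtype.val (hMc.is_comm.comm ⟨x, hx⟩ ⟨y, hy⟩))
  have hCN : ∀ h : H, (∀ n ∈ N, h * n = n * h) → h ∈ A := by
    intro h hh
    rw [← hCNeq, Subgroup.mem_centralizer_iff]
    intro n hn
    exact (hh n hn).symm
  have hprop : ∀ M : Subgroup H, M.Normal → M ≤ N → M ≠ N → M ≤ A :=
    fun M hM hMN hne => le_A_of_proper A N hAn hAab hAmax hNA hNmin M hM hMN hne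
  have hcomm := comm_mem A N hNn hprop hNna' hsolv
  obtain ⟨r, hrp, hr⟩ := exists_exp A N hAn hNn hNA hcomm hprop hNna'
  have hr2 := exp_two A N hab hAab hNA hcomm hNna' r hrp hr
  subst hr2
  have hc2 := comm_pow A N hNA hcomm 2 hr
  obtain ⟨z, i, j, hz1, hz2, hzA, hiN, hjN, hi2, hj2, hij, hcz⟩ :=
    quat_pair A N hab hinv hAab hNA hcomm hNna' hr hc2
  have hidx := quat_index A N hinv hNn hNA hNmin hCN z i j hz1 hz2 hiN hjN hi2 hj2 hij hcz
  obtain ⟨hcyc, W, hW0, hWtop, hWinv, hWmin, hdvd⟩ := S0684.result H hreg hI A hAn hAc hAmax'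
  have hH := card_H H hreg w0 hw0
  have hsq := card_sq H hreg A hAn W hW0 hWtop hWinv hWmin
  have hcW : Nat.card W = p ^ Module.finrank (ZMod p) W := by
    rw [Module.natCard_eq_pow_finrank (K := ZMod p) (V := W), Nat.card_zmod]
  have hcV : Nat.card V = p ^ Module.finrank (ZMod p) V := by
    rw [Module.natCard_eq_pow_finrank (K := ZMod p) (V := V), Nat.card_zmod]
  have hk1 : 1 ≤ Module.finrank (ZMod p) W := by
    by_contra hcon
    have h0 : Module.finrank (ZMod p) W = 0 := by omega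
    exact hW0 (Submodule.finrank_eq_zero.mp h0)
  have hHA : A.index * Nat.card A + 1 = p ^ Module.finrank (ZMod p) V := by
    rw [Subgroup.index_mul_card, hH, hcV]
  rw [hcW, hcV] at hsq
  have hfin := arith p _ _ _ _ hp hk1 hsq hdvd hHA hidx
  rw [← hcV] at hfin
  rcases hfin with h9 | h | h | h | h
  · exfalso
    have hp3 : p = 3 := by
      have hn0 : Module.finrank (ZMod p) V ≠ 0 := by
        intro h0
        rw [hcV, h0, pow_zero] at h9
        omega
      have h1 : p ∣ 3 ^ 2 := by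
        have h2 : p ∣ p ^ Module.finrank (ZMod p) V := dvd_pow_self p hn0
        rw [← hcV, h9] at h2
        exact h2
      exact (Nat.prime_dvd_prime_iff_eq hp Nat.prime_three).mp (hp.dvd_of_dvd_pow h1)
    subst hp3
    have hn2 : Module.finrank (ZMod 3) V = 2 := by
      have h1 : 3 ^ Module.finrank (ZMod 3) V = 3 ^ 2 := by rw [← hcV, h9]; norm_num
      exact Nat.pow_right_injective (by norm_num : 2 ≤ 3) h1
    have hH8 : Nat.card H = 8 := by omega
    have ho : orderOf i = 4 := by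
      have := Fact.mk Nat.prime_two
      have h1 : ¬ i ^ 2 ^ 1 = 1 := by rw [pow_one, hi2]; exact hz1
      have h2 : i ^ 2 ^ (1 + 1) = 1 := by
        rw [show (2 : ℕ) ^ (1 + 1) = 2 * 2 by norm_num, pow_mul, hi2, hz2]
      exact orderOf_eq_prime_pow h1 h2
    have hidx2 : (Subgroup.zpowers i).index = 2 := by
      have h1 := Subgroup.index_mul_card (Subgroup.zpowers i)
      rw [Nat.card_zpowers, ho, hH8] at h1
      omega
    have hnorm : (Subgroup.zpowers i).Normal := Subgroup.normal_of_index_eq_two hidx2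
    obtain ⟨W2, hW20, hW2top, hW2inv⟩ := hI (Subgroup.zpowers i) hnorm inferInstance
    have hfr1 : Module.finrank (ZMod 3) W2 = 1 := by
      have h1 := Submodule.finrank_lt hW2top
      have h2 : Module.finrank (ZMod 3) W2 ≠ 0 :=
        fun h0 => hW20 (Submodule.finrank_eq_zero.mp h0)
      omega
    obtain ⟨v0, hv0, hgen⟩ := finrank_eq_one_iff'.mp hfr1
    have hiv : ((i : H) : V ≃ₗ[ZMod 3] V) (v0 : V) ∈ W2 :=
      hW2inv i (Subgroup.mem_zpowers i) v0 v0.2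
    obtain ⟨c, hc⟩ := hgen ⟨_, hiv⟩
    have hc' : c • (v0 : V) = (i : V ≃ₗ[ZMod 3] V) (v0 : V) := congrArg Subtype.val hc
    have hv0' : (v0 : V) ≠ 0 := fun h => hv0 (Subtype.ext h)
    have h1 : (i : V ≃ₗ[ZMod 3] V) ((i : V ≃ₗ[ZMod 3] V) (v0 : V)) = -(v0 : V) := by
      have e : i * i = z := by rw [← pow_two]; exact hi2
      have e2 : (i : V ≃ₗ[ZMod 3] V) ((i : V ≃ₗ[ZMod 3] V) (v0 : V)) =
          (z : V ≃ₗ[ZMod 3] V) (v0 : V) :=
        congrArg (fun g : H => (g : V ≃ₗ[ZMod 3] V) (v0 : V)) e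
      rw [e2, hneg z hz2 hz1]
    rw [← hc', map_smul, ← hc', smul_smul] at h1
    have h2 : (c * c + 1) • (v0 : V) = 0 := by
      rw [add_smul, one_smul, h1, neg_add_cancel]
    have key := zmod3_key
    rcases smul_eq_zero.mp h2 with h3 | h3
    · exact key c h3
    · exact hv0' h3
  · exact Or.inl h
  · exact Or.inr (Or.inl h)
  · exact Or.inr (Or.inr (Or.inl h))
  · exact Or.inr (Or.inr (Or.inr h))

end Cfsg.Agent.S0688
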