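import Cfsg.Statements.S0680
import Mathlib

set_option autoImplicit false
open Cfsg

namespace Cfsg.Agent.S0680

open MulAction

universe u v

section

variable {G : Type u} {α : Type v} [Group G] [MulAction G α]

/-- fixed-point-free elements -/
def Fpf (g : G) : Prop := ∀ a : α, g • a ≠ a

theorem fpf_conj {x : G} (hx : Fpf (α := α) x) (h : G) : Fpf (α := α) (h * x * h⁻¹) := by
  intro a ha
  apply hx (h⁻¹ • a)
  rw [mul_smul, mul_smul] at ha
  exact eq_inv_smul_iff.mpr ha

theorem fpf_inv {x : G} (hx : Fpf (α := α) x) : Fpf (α := α) x⁻¹ := by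
  intro a ha
  apply hx a
  rw [inv_smul_eq_iff] at ha
  exact ha.symm

variable [Fintype G] [Fintype α] [DecidableEq α] [DecidableEq G]

/-- Burnside count of the fixed-point-free elements -/
theorem fpf_count
    (hT : ∀ a b c d : α, a ≠ b → c ≠ d → ∃ g : G, g • a = c ∧ g • b = d)
    (hU : ∀ (g : G) (a b : α), a ≠ b → g • a = a → g • b = b → g = 1)
    (hn : 2 ≤ Fintype.card α) :
    Nat.card {g : G // Fpf (α := α) g} + 1 = Fintype.card α := by
  classical
  have hpre : IsPretransitive G α := ⟨fun a b => by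
    by_cases hab : a = b
    · exact ⟨1, by rw [one_smul, hab]⟩
    · obtain ⟨g, hg, -⟩ := hT a b b a hab (Ne.symm hab)
      exact ⟨g, hg⟩⟩
  have hne : Nonempty α := Fintype.card_pos_iff.mp (by omega)
  have hB := MulAction.sum_card_fixedBy_eq_card_orbits_mul_card_group G α
  have horb : Fintype.card (Quotient (orbitRel G α)) = 1 := by
    rw [Fintype.card_eq_one_iff_nonempty_unique]
    exact (pretransitive_iff_unique_quotient_of_nonempty G α).mp hpre
  rw [horb, one_mul] at hB
  have hB' : ∑ g : G, (fixedBy α g).ncard = Fintype.card G := by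
    rw [← hB]
    apply Finset.sum_congr rfl
    intro g _
    rw [← Nat.card_coe_set_eq, Nat.card_eq_fintype_card]
  have hpt : ∀ g : G, (fixedBy α g).ncard + (if Fpf (α := α) g then 1 else 0) =
      1 + (if g = 1 then Fintype.card α - 1 else 0) := by
    intro g
    by_cases hg1 : g = 1
    · subst hg1
      have h1 : fixedBy α (1 : G) = Set.univ := by
        ext a
        simp
      have h2 : ¬ Fpf (α := α) (1 : G) := by
        intro h
        obtain ⟨a⟩ := hne
        exact h a (one_smul _ a)
      rw [h1, Set.ncard_univ, Nat.card_eq_fintype_card, if_neg h2, if_pos rfl]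
      omega
    · rw [if_neg hg1]
      by_cases hf : Fpf (α := α) g
      · have h1 : fixedBy α g = ∅ := by
          ext a
          simp only [mem_fixedBy, Set.mem_empty_iff_false, iff_false]
          exact hf a
        rw [h1, Set.ncard_empty, if_pos hf]
      · rw [if_neg hf]
        unfold Fpf at hf
        push Not at hf
        obtain ⟨a, ha⟩ := hf
        have h1 : fixedBy α g = {a} := by
          ext b
          simp only [mem_fixedBy, Set.mem_singleton_iff]
          constructor
          · intro hb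
            by_contra hba
            exact hg1 (hU g a b (Ne.symm hba) ha hb)
          · rintro rfl
            exact ha
        rw [h1, Set.ncard_singleton]
  have hsum := Finset.sum_congr (s₁ := (Finset.univ : Finset G)) rfl (fun g _ => hpt g)
  rw [Finset.sum_add_distrib, Finset.sum_add_distrib, hB'] at hsum
  have h3 : ∑ g : G, (if Fpf (α := α) g then 1 else 0) = Nat.card {g : G // Fpf (α := α) g} := by
    rw [Nat.card_eq_fintype_card, Fintype.card_subtype, Finset.card_filter]
  have h4 : ∑ g : G, (if g = 1 then Fintype.card α - 1 else 0) = Fintype.card α - 1 := by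
    rw [Finset.sum_ite_eq' Finset.univ (1 : G) (fun _ => Fintype.card α - 1)]
    simp
  have h5 : ∑ _g : G, 1 = Fintype.card G := by simp
  rw [h3, h4, h5] at hsum
  omega

set_option maxHeartbeats 1000000 in
/-- the structure theorem in abstract form -/
theorem main
    (hT : ∀ a b c d : α, a ≠ b → c ≠ d → ∃ g : G, g • a = c ∧ g • b = d)
    (hU : ∀ (g : G) (a b : α), a ≠ b → g • a = a → g • b = b → g = 1)
    (hn : 2 ≤ Fintype.card α) :
    ∃ (N : Subgroup G) (p j : ℕ), p.Prime ∧ 1 ≤ j ∧ Fintype.card α = p ^ j ∧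
      (∀ g : G, g ∈ N ↔ g = 1 ∨ ∀ a : α, g • a ≠ a) ∧ N.Normal ∧
      (∀ y z : G, y ∈ N → z ∈ N → y * z = z * y) ∧ (∀ y ∈ N, y ^ p = 1) ∧
      (∀ a b : α, ∃ y ∈ N, y • a = b) ∧
      (∀ g : G, (∃ k : ℕ, g ^ p ^ k = 1) → g ∈ N) := by
  classical
  have hcount := fpf_count hT hU hn
  have hne : Nonempty α := Fintype.card_pos_iff.mp (by omega)
  obtain ⟨a₀⟩ := hne
  have hexb : ∃ b : α, b ≠ a₀ := by
    by_contra hcon
    push Not at hcon
    have : Fintype.card α ≤ 1 := Fintype.card_le_one_iff.mpr (fun x y => by rw [hcon x, hcon y])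
    omega
  obtain ⟨b₀, hb₀⟩ := hexb
  have hpre : ∀ a b : α, ∃ g : G, g • a = b := by
    intro a b
    by_cases hab : a = b
    · exact ⟨1, by rw [one_smul, hab]⟩
    · obtain ⟨g, hg, -⟩ := hT a b b a hab (Ne.symm hab)
      exact ⟨g, hg⟩
  -- size of the point stabilisers
  have hstab : ∀ a : α, Nat.card (stabilizer G a) + 1 = Fintype.card α := by
    intro a
    obtain ⟨b, hb⟩ : ∃ b : α, b ≠ a := by
      by_contra hcon
      push Not at hcon
      have : Fintype.card α ≤ 1 :=
        Fintype.card_le_one_iff.mpr (fun x y => by rw [hcon x, hcon y])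
      omega
    let e : stabilizer G a → {c : α // c ≠ a} := fun h => ⟨(h : G) • b, by
      intro hc
      apply hb
      have h1 : (h : G) • a = a := h.2
      have : (h : G) • b = (h : G) • a := by rw [hc, h1]
      exact MulAction.injective (h : G) this⟩
    have he : Function.Bijective e := by
      constructor
      · intro h h' hh
        have h1 : (h : G) • b = (h' : G) • b := congrArg Subtype.val hh
        have h2 : (h : G) • a = a := h.2
        have h3 : (h' : G) • a = a := h'.2
        have h4 : (h' : G)⁻¹ * (h : G) = 1 := by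
          apply hU _ a b (Ne.symm hb)
          · rw [mul_smul, h2, inv_smul_eq_iff, h3]
          · rw [mul_smul, h1, inv_smul_smul]
        apply Subtype.ext
        have h5 : (h : G) = (h' : G) * ((h' : G)⁻¹ * (h : G)) := by group
        rw [h5, h4, mul_one]
      · rintro ⟨c, hc⟩
        obtain ⟨g, hg1, hg2⟩ := hT a b a c (Ne.symm hb) (Ne.symm hc)
        exact ⟨⟨g, hg1⟩, Subtype.ext hg2⟩
    rw [Nat.card_congr (Equiv.ofBijective e he), Nat.card_eq_fintype_card,
      Fintype.card_subtype_compl, Fintype.card_subtype_eq]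
    omega
  -- conjugation from a point stabiliser reaches every fixed-point-free element
  have hconj : ∀ (a : α) (x z : G), Fpf (α := α) x → Fpf (α := α) z →
      ∃ h : G, h • a = a ∧ z = h * x * h⁻¹ := by
    intro a x z hx hz
    let f : stabilizer G a → {g : G // Fpf (α := α) g} :=
      fun h => ⟨(h : G) * x * (h : G)⁻¹, fpf_conj hx _⟩
    have hf : Function.Injective f := by
      intro h h' hh
      have h1 : (h : G) * x * (h : G)⁻¹ = (h' : G) * x * (h' : G)⁻¹ := congrArg Subtype.val hh
      have h2 : (h : G) • a = a := h.2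
      have h3 : (h' : G) • a = a := h'.2
      have hcomm : ((h' : G)⁻¹ * (h : G)) * x = x * ((h' : G)⁻¹ * (h : G)) := by
        have : (h' : G)⁻¹ * ((h : G) * x * (h : G)⁻¹) * (h : G) =
            (h' : G)⁻¹ * ((h' : G) * x * (h' : G)⁻¹) * (h : G) := by rw [h1]
        calc ((h' : G)⁻¹ * (h : G)) * x = (h' : G)⁻¹ * ((h : G) * x * (h : G)⁻¹) * (h : G) := by
              group
          _ = (h' : G)⁻¹ * ((h' : G) * x * (h' : G)⁻¹) * (h : G) := this
          _ = x * ((h' : G)⁻¹ * (h : G)) := by group
      have h3' : (h' : G)⁻¹ • a = a := by rw [inv_smul_eq_iff, h3]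
      have h4 : (h' : G)⁻¹ * (h : G) = 1 := by
        apply hU _ a (x • a) (Ne.symm (hx a))
        · rw [mul_smul, h2, h3']
        · rw [← mul_smul, hcomm, mul_smul, mul_smul, h2, h3']
      apply Subtype.ext
      have h5 : (h : G) = (h' : G) * ((h' : G)⁻¹ * (h : G)) := by group
      rw [h5, h4, mul_one]
    have hbij := hf.bijective_of_nat_card_le (by have := hstab a; omega)
    obtain ⟨h, hh⟩ := hbij.2 ⟨z, hz⟩
    exact ⟨(h : G), h.2, (congrArg Subtype.val hh).symm⟩
  -- centralisers of fixed-point-free elements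
  have hcent1 : ∀ x y : G, Fpf (α := α) x → y * x = x * y → (y = 1 ∨ Fpf (α := α) y) := by
    intro x y hx hxy
    by_contra hcon
    push Not at hcon
    obtain ⟨hy1, hyf⟩ := hcon
    unfold Fpf at hyf
    push Not at hyf
    obtain ⟨b, hb⟩ := hyf
    apply hy1
    apply hU y b (x • b) (Ne.symm (hx b)) hb
    rw [← mul_smul, hxy, mul_smul, hb]
  have hcent2 : ∀ (x : G), Fpf (α := α) x → ∀ b c : α, ∃ y : G, y * x = x * y ∧ y • b = c := by
    intro x hx b c
    obtain ⟨g, hg⟩ := hpre b c
    have hz : Fpf (α := α) (g⁻¹ * x * g) := by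
      have := fpf_conj hx g⁻¹
      rwa [inv_inv] at this
    obtain ⟨h, hhb, hh⟩ := hconj b x _ hx hz
    refine ⟨g * h, ?_, ?_⟩
    · have : g * (g⁻¹ * x * g) * g⁻¹ = g * (h * x * h⁻¹) * g⁻¹ := by rw [hh]
      calc g * h * x = g * (h * x * h⁻¹) * g⁻¹ * (g * h) := by group
        _ = g * (g⁻¹ * x * g) * g⁻¹ * (g * h) := by rw [← this]
        _ = x * (g * h) := by group
    · rw [mul_smul, hhb, hg]
  have hcent3 : ∀ (x z : G), Fpf (α := α) x → (z = 1 ∨ Fpf (α := α) z) → z * x = x * z := by
    intro x z hx hz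
    -- `C = N` by cardinality
    let C : Finset G := Finset.univ.filter (fun y => y * x = x * y)
    let N : Finset G := Finset.univ.filter (fun y => y = 1 ∨ Fpf (α := α) y)
    have hCN : C ⊆ N := by
      intro y hy
      simp only [C, N, Finset.mem_filter, Finset.mem_univ, true_and] at hy ⊢
      exact hcent1 x y hx hy
    have hNcard : N.card = Fintype.card α := by
      have h1 : N = insert 1 (Finset.univ.filter (fun y : G => Fpf (α := α) y)) := by
        ext y
        simp [N]
      have h2 : (1 : G) ∉ Finset.univ.filter (fun y : G => Fpf (α := α) y) := by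
        simp only [Finset.mem_filter, Finset.mem_univ, true_and]
        intro h
        exact h a₀ (one_smul _ a₀)
      rw [h1, Finset.card_insert_of_notMem h2, ← Fintype.card_subtype,
        ← Nat.card_eq_fintype_card]
      exact hcount
    have hCcard : Fintype.card α ≤ C.card := by
      choose y hy1 hy2 using hcent2 x hx a₀
      rw [← Finset.card_univ]
      apply Finset.card_le_card_of_injOn y
      · intro c _
        simp only [C, Finset.coe_filter, Finset.mem_univ, true_and, Set.mem_ofPred_eq]
        exact hy1 c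
      · intro c _ c' _ hcc
        rw [← hy2 c, ← hy2 c', hcc]
    have hEq : C = N := Finset.eq_of_subset_of_card_le hCN (by omega)
    have hzN : z ∈ N := by
      simp only [N, Finset.mem_filter, Finset.mem_univ, true_and]
      exact hz
    rw [← hEq] at hzN
    simpa [C] using hzN
  -- the subgroup
  let N : Subgroup G :=
    { carrier := {g | g = 1 ∨ Fpf (α := α) g}
      one_mem' := Or.inl rfl
      inv_mem' := by
        rintro y (rfl | hy)
        · left
          simp
        · right
          exact fpf_inv hy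
      mul_mem' := by
        rintro y z hy hz
        rcases hy with rfl | hy
        · rw [one_mul]
          exact hz
        · apply hcent1 y (y * z) hy
          have := hcent3 y z hy hz
          rw [mul_assoc, this] }
  have hNmem : ∀ g : G, g ∈ N ↔ g = 1 ∨ Fpf (α := α) g := fun g => Iff.rfl
  have hxex : ∃ x₀ : G, Fpf (α := α) x₀ := by
    by_contra hcon
    push Not at hcon
    have : IsEmpty {g : G // Fpf (α := α) g} := ⟨fun g => hcon g.1 g.2⟩
    rw [Nat.card_of_isEmpty] at hcount
    omega
  obtain ⟨x₀, hx₀⟩ := hxex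
  have hx₀1 : x₀ ≠ 1 := by
    rintro rfl
    exact hx₀ a₀ (one_smul _ a₀)
  -- the prime
  set m := orderOf x₀ with hm
  have hm1 : m ≠ 1 := by
    intro h
    exact hx₀1 (orderOf_eq_one_iff.mp h)
  have hmpos : 0 < m := orderOf_pos x₀
  set p := m.minFac with hp
  have hpp : p.Prime := Nat.minFac_prime hm1
  have hpm : p ∣ m := Nat.minFac_dvd m
  have hx₀p : x₀ ^ p = 1 := by
    set w := x₀ ^ (m / p) with hw
    have hw1 : w ≠ 1 := by
      apply pow_ne_one_of_lt_orderOf
      · have := Nat.div_pos (Nat.le_of_dvd hmpos hpm) hpp.pos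
        omega
      · exact Nat.div_lt_self hmpos hpp.one_lt
    have hwN : w ∈ N := N.pow_mem ((hNmem x₀).mpr (Or.inr hx₀)) _
    have hwf : Fpf (α := α) w := by
      rcases (hNmem w).mp hwN with h | h
      · exact absurd h hw1
      · exact h
    obtain ⟨h, -, hh⟩ := hconj a₀ w x₀ hwf hx₀
    have hwp : w ^ p = 1 := by
      rw [hw, ← pow_mul, Nat.div_mul_cancel hpm]
      exact pow_orderOf_eq_one x₀
    rw [hh, conj_pow, hwp]
    group
  have hNp : ∀ y ∈ N, y ^ p = 1 := by
    intro y hy
    rcases (hNmem y).mp hy with rfl | hy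
    · simp
    · obtain ⟨h, -, hh⟩ := hconj a₀ x₀ y hx₀ hy
      rw [hh, conj_pow, hx₀p]
      group
  have hNtrans : ∀ a b : α, ∃ y ∈ N, y • a = b := by
    intro a b
    obtain ⟨y, hy1, hy2⟩ := hcent2 x₀ hx₀ a b
    exact ⟨y, (hNmem y).mpr (hcent1 x₀ y hx₀ hy1), hy2⟩
  -- cardinality of `N`
  have hNcard : Nat.card N = Fintype.card α := by
    let e : N → α := fun y => (y : G) • a₀
    have he : Function.Bijective e := by
      constructor
      · intro y z hyz
        have h1 : (y : G) • a₀ = (z : G) • a₀ := hyz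
        have h2 : ((z : G)⁻¹ * (y : G)) • a₀ = a₀ := by
          rw [mul_smul, h1, inv_smul_smul]
        have h3 : (z : G)⁻¹ * (y : G) ∈ N := N.mul_mem (N.inv_mem z.2) y.2
        rcases (hNmem _).mp h3 with h | h
        · apply Subtype.ext
          have h5 : (y : G) = (z : G) * ((z : G)⁻¹ * (y : G)) := by group
          rw [h5, h, mul_one]
        · exact absurd h2 (h a₀)
      · intro b
        obtain ⟨y, hy, hyb⟩ := hNtrans a₀ b
        exact ⟨⟨y, hy⟩, hyb⟩
    rw [Nat.card_congr (Equiv.ofBijective e he), Nat.card_eq_fintype_card]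
  have : Fact p.Prime := ⟨hpp⟩
  have hNpg : IsPGroup p N := by
    intro y
    refine ⟨1, ?_⟩
    rw [pow_one]
    apply Subtype.ext
    have := hNp (y : G) y.2
    simpa using this
  obtain ⟨j, hj⟩ := IsPGroup.iff_card.mp hNpg
  rw [hNcard] at hj
  have hj1 : 1 ≤ j := by
    by_contra hcon
    have : j = 0 := by omega
    rw [this, pow_zero] at hj
    omega
  refine ⟨N, p, j, hpp, hj1, hj, hNmem, ?_, ?_, hNp, hNtrans, ?_⟩
  · constructor
    intro y hy g
    rcases (hNmem y).mp hy with rfl | hy
    · rw [(hNmem _)]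
      left
      group
    · exact (hNmem _).mpr (Or.inr (fpf_conj hy g))
  · intro y z hy hz
    rcases (hNmem z).mp hz with rfl | hzf
    · simp
    · exact hcent3 z y hzf ((hNmem y).mp hy)
  · rintro g ⟨k, hk⟩
    by_contra hgN
    have hg : ¬ (g = 1 ∨ Fpf (α := α) g) := fun h => hgN ((hNmem g).mpr h)
    push Not at hg
    obtain ⟨hg1, hgf⟩ := hg
    unfold Fpf at hgf
    push Not at hgf
    obtain ⟨a, ha⟩ := hgf
    apply hg1
    have h1 : orderOf g ∣ p ^ k := orderOf_dvd_of_pow_eq_one hk
    have h2 : orderOf g ∣ p ^ j - 1 := by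
      have h3 : (⟨g, ha⟩ : stabilizer G a) ^ Nat.card (stabilizer G a) = 1 := pow_card_eq_one'
      have h4 : g ^ Nat.card (stabilizer G a) = 1 := by
        have := congrArg (fun z : stabilizer G a => (z : G)) h3
        simpa using this
      have h5 : Nat.card (stabilizer G a) = p ^ j - 1 := by
        have := hstab a
        omega
      rw [h5] at h4
      exact orderOf_dvd_of_pow_eq_one h4
    have hcop : Nat.Coprime (p ^ k) (p ^ j - 1) := by
      apply Nat.Coprime.pow_left
      rw [Nat.Prime.coprime_iff_not_dvd hpp]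
      intro hdvd
      have h6 : p ∣ p ^ j := dvd_pow_self p (by omega)
      have h7 : p ∣ p ^ j - (p ^ j - 1) := Nat.dvd_sub h6 hdvd
      have h8 : p ^ j - (p ^ j - 1) = 1 := by
        have : 1 ≤ p ^ j := Nat.one_le_pow _ _ hpp.pos
        omega
      rw [h8] at h7
      exact hpp.one_lt.ne' (Nat.dvd_one.mp h7)
    have h9 : orderOf g ∣ 1 := by
      have := Nat.dvd_gcd h1 h2
      rwa [hcop.gcd_eq_one] at this
    exact orderOf_eq_one_iff.mp (Nat.dvd_one.mp h9)

end

/-- A finite sharply doubly transitive permutation group has degree a prime power `p ^ j`; a Sylow `p`-subgroup is normal, elementary abelian and regular, and consists of the identity together with the elements without fixed points. (Frobenius' Theorem is not needed.) -/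
theorem result {α : Type*} [Fintype α] [DecidableEq α] (G : Subgroup (Equiv.Perm α)) [MulAction.IsMultiplyPretransitive G α 2] (hsharp : ∀ x : Fin 2 ↪ α, MulAction.stabilizer G x = ⊥) (h2 : 2 ≤ Fintype.card α) : ∃ p j : ℕ, p.Prime ∧ 1 ≤ j ∧ Fintype.card α = p ^ j ∧ ∀ (hp : Fact p.Prime) (P : Sylow p G), (P : Subgroup G).Normal ∧ IsMulCommutative (P : Subgroup G) ∧ (∀ x ∈ (P : Subgroup G), x ^ p = 1) ∧ MulAction.IsPretransitive (P : Subgroup G) α ∧ (∀ a : α, MulAction.stabilizer (P : Subgroup G) a = ⊥) ∧ ∀ g : G, g ∈ (P : Subgroup G) ↔ g = 1 ∨ ∀ a : α, g • a ≠ a := by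
  classical
  have hT : ∀ a b c d : α, a ≠ b → c ≠ d → ∃ g : G, g • a = c ∧ g • b = d := by
    intro a b c d hab hcd
    let x : Fin 2 ↪ α := ⟨![a, b], by
      intro i j h
      fin_cases i <;> fin_cases j <;> simp_all⟩
    let y : Fin 2 ↪ α := ⟨![c, d], by
      intro i j h
      fin_cases i <;> fin_cases j <;> simp_all⟩
    obtain ⟨g, hg⟩ := MulAction.exists_smul_eq G x y
    exact ⟨g, congrArg (fun t : Fin 2 ↪ α => t 0) hg, congrArg (fun t : Fin 2 ↪ α => t 1) hg⟩
  have hU : ∀ (g : G) (a b : α), a ≠ b → g • a = a → g • b = b → g = 1 := by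
    intro g a b hab ha hb
    let x : Fin 2 ↪ α := ⟨![a, b], by
      intro i j h
      fin_cases i <;> fin_cases j <;> simp_all⟩
    have hmem : g ∈ MulAction.stabilizer G x := by
      rw [MulAction.mem_stabilizer_iff]
      ext i
      fin_cases i
      · exact ha
      · exact hb
    rw [hsharp x, Subgroup.mem_bot] at hmem
    exact hmem
  obtain ⟨N, p, j, hpp, hj1, hj, hNmem, hNnorm, hNcomm, hNp, hNtrans, hNsyl⟩ := main hT hU h2
  refine ⟨p, j, hpp, hj1, hj, ?_⟩
  intro hp P
  have hNpg : IsPGroup p N := by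
    intro y
    refine ⟨1, ?_⟩
    rw [pow_one]
    apply Subtype.ext
    have := hNp (y : G) y.2
    simpa using this
  have hPN : (P : Subgroup G) = N := by
    apply le_antisymm
    · intro g hg
      apply hNsyl
      obtain ⟨k, hk⟩ := P.isPGroup' ⟨g, hg⟩
      exact ⟨k, by simpa using congrArg (fun z : (P : Subgroup G) => (z : G)) hk⟩
    · exact hNpg.le_sylow_of_normal P
  rw [hPN]
  refine ⟨hNnorm, ?_, hNp, ?_, ?_, hNmem⟩
  · constructor
    constructor
    intro y z
    exact Subtype.ext (hNcomm y z y.2 z.2)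
  · constructor
    intro a b
    obtain ⟨y, hy, hyb⟩ := hNtrans a b
    exact ⟨⟨y, hy⟩, hyb⟩
  · intro a
    rw [eq_bot_iff]
    intro y hy
    rw [Subgroup.mem_bot]
    rcases (hNmem (y : G)).mp y.2 with h | h
    · exact Subtype.ext h
    · exact absurd hy (h a)

end Cfsg.Agent.S0680
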