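import Cfsg.Statements.S0728
import Mathlib

set_option autoImplicit false
open Cfsg

namespace Cfsg.Agent.S0728

variable {α : Type*} {G : Type*} [Group G] [MulAction G α]

/-- The embedding of `Fin 3` given by three distinct points. -/
def emb3 (u v w : α) (huv : u ≠ v) (huw : u ≠ w) (hvw : v ≠ w) : Fin 3 ↪ α :=
  ⟨![u, v, w], by
    intro i j h
    fin_cases i <;> fin_cases j <;> simp_all⟩

theorem emb3_zero (u v w : α) (huv : u ≠ v) (huw : u ≠ w) (hvw : v ≠ w) :
    emb3 u v w huv huw hvw 0 = u := rfl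

theorem emb3_one (u v w : α) (huv : u ≠ v) (huw : u ≠ w) (hvw : v ≠ w) :
    emb3 u v w huv huw hvw 1 = v := rfl

theorem emb3_two (u v w : α) (huv : u ≠ v) (huw : u ≠ w) (hvw : v ≠ w) :
    emb3 u v w huv huw hvw 2 = w := rfl

theorem fix3 (hsharp : ∀ x : Fin 3 ↪ α, MulAction.stabilizer G x = ⊥) (g : G) {u v w : α}
    (huv : u ≠ v) (huw : u ≠ w) (hvw : v ≠ w) (hu : g • u = u) (hv : g • v = v)
    (hw : g • w = w) : g = 1 := by
  have h : g ∈ MulAction.stabilizer G (emb3 u v w huv huw hvw) := by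
    rw [MulAction.mem_stabilizer_iff]
    ext i
    rw [Function.Embedding.smul_apply]
    fin_cases i
    · exact hu
    · exact hv
    · exact hw
  rw [hsharp] at h
  exact Subgroup.mem_bot.mp h

theorem trans3 (h3 : MulAction.IsMultiplyPretransitive G α 3) {u v w u' v' w' : α}
    (huv : u ≠ v) (huw : u ≠ w) (hvw : v ≠ w) (huv' : u' ≠ v') (huw' : u' ≠ w') (hvw' : v' ≠ w') :
    ∃ g : G, g • u = u' ∧ g • v = v' ∧ g • w = w' := by
  obtain ⟨g, hg⟩ := h3.exists_smul_eq (emb3 u v w huv huw hvw) (emb3 u' v' w' huv' huw' hvw')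
  refine ⟨g, ?_, ?_, ?_⟩
  · have := congrArg (fun e : Fin 3 ↪ α => e 0) hg
    exact this
  · have := congrArg (fun e : Fin 3 ↪ α => e 1) hg
    exact this
  · have := congrArg (fun e : Fin 3 ↪ α => e 2) hg
    exact this

/-- Key lemma: for `x, y` of order 3 fixing `a, b`, with `c` a third point, either `x = y`
or some `g` fixing `c` and swapping `a, b` conjugates `x` to `y`. -/
theorem key (h3 : MulAction.IsMultiplyPretransitive G α 3)
    (hsharp : ∀ x : Fin 3 ↪ α, MulAction.stabilizer G x = ⊥) {a b c : α} (hab : a ≠ b)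
    (hac : a ≠ c) (hbc : b ≠ c) (x y : G) (hxa : x • a = a) (hxb : x • b = b)
    (hya : y • a = a) (hyb : y • b = b) (hx1 : x ≠ 1) (hy1 : y ≠ 1) (hx3 : x ^ 3 = 1)
    (hy3 : y ^ 3 = 1) :
    x = y ∨ ∃ g : G, g • c = c ∧ g • a = b ∧ g • b = a ∧ g * x = y * g := by
  -- distinctness of c, x c, x^2 c
  have dist : ∀ z : G, z • a = a → z • b = b → z ≠ 1 → z ^ 3 = 1 →
      c ≠ z • c ∧ c ≠ z • z • c ∧ z • c ≠ z • z • c := by
    intro z hza hzb hz1 hz3
    have h1 : c ≠ z • c := fun h => hz1 (fix3 hsharp z hab hac hbc hza hzb h.symm)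
    have h2 : z • c ≠ z • z • c := fun h => h1 (smul_left_cancel z h)
    refine ⟨h1, ?_, h2⟩
    intro h
    apply h1
    have h4 : z • z • z • c = c := by
      rw [← mul_smul, ← mul_smul, ← pow_two, ← pow_succ, hz3, one_smul]
    rw [← h] at h4
    exact h4.symm
  obtain ⟨hx_1, hx_2, hx_3⟩ := dist x hxa hxb hx1 hx3
  obtain ⟨hy_1, hy_2, hy_3⟩ := dist y hya hyb hy1 hy3
  obtain ⟨g, hgc, hg1, hg2⟩ := trans3 h3 hx_1 hx_2 hx_3 hy_1 hy_2 hy_3
  have hx3' : x • x • x • c = c := by
    rw [← mul_smul, ← mul_smul, ← pow_two, ← pow_succ, hx3, one_smul]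
  have hy3' : y • y • y • c = c := by
    rw [← mul_smul, ← mul_smul, ← pow_two, ← pow_succ, hy3, one_smul]
  -- g x = y g
  have hconj : g * x = y * g := by
    have h1 : (y * g)⁻¹ * (g * x) = 1 := by
      apply fix3 hsharp _ hx_1 hx_2 hx_3
      · rw [mul_smul, mul_smul, inv_smul_eq_iff, mul_smul, hg1, hgc]
      · rw [mul_smul, mul_smul, inv_smul_eq_iff, mul_smul, hg2, hg1]
      · rw [mul_smul, mul_smul, inv_smul_eq_iff, mul_smul, hx3', hg2, hgc, hy3']
    exact (inv_mul_eq_one.mp h1).symm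
  -- g a is fixed by y
  have hfix : ∀ d : α, x • d = d → y • (g • d) = g • d := by
    intro d hd
    rw [← mul_smul, ← hconj, mul_smul, hd]
  have hmem : ∀ d : α, y • d = d → d = a ∨ d = b := by
    intro d hd
    by_contra hcon
    push Not at hcon
    exact hy1 (fix3 hsharp y hab (Ne.symm hcon.1) (Ne.symm hcon.2) hya hyb hd)
  have hgab : g • a ≠ g • b := fun h => hab (smul_left_cancel g h)
  rcases hmem _ (hfix a hxa) with ha | ha
  · rcases hmem _ (hfix b hxb) with hb | hb
    · exact absurd (ha.trans hb.symm) hgab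
    · left
      have hg : g = 1 := fix3 hsharp g hab hac hbc ha hb hgc
      rw [hg, one_mul, mul_one] at hconj
      exact hconj
  · rcases hmem _ (hfix b hxb) with hb | hb
    · right
      exact ⟨g, hgc, ha, hb, hconj⟩
    · exact absurd (ha.trans hb.symm) hgab

theorem eq_or_eq_inv (h3 : MulAction.IsMultiplyPretransitive G α 3)
    (hsharp : ∀ x : Fin 3 ↪ α, MulAction.stabilizer G x = ⊥) {a b c : α} (hab : a ≠ b)
    (hac : a ≠ c) (hbc : b ≠ c) (x y : G) (hxa : x • a = a) (hxb : x • b = b)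
    (hya : y • a = a) (hyb : y • b = b) (hx1 : x ≠ 1) (hy1 : y ≠ 1) (hx3 : x ^ 3 = 1)
    (hy3 : y ^ 3 = 1) : x = y ∨ x⁻¹ = y := by
  have hxi1 : x⁻¹ ≠ 1 := fun h => hx1 (inv_eq_one.mp h)
  have hxi3 : x⁻¹ ^ 3 = 1 := by rw [inv_pow, hx3, inv_one]
  have hxia : x⁻¹ • a = a := by rw [inv_smul_eq_iff, hxa]
  have hxib : x⁻¹ • b = b := by rw [inv_smul_eq_iff, hxb]
  rcases key h3 hsharp hab hac hbc x y hxa hxb hya hyb hx1 hy1 hx3 hy3 with h | ⟨g, hgc, hga, hgb, hg⟩
  · exact Or.inl h
  · rcases key h3 hsharp hab hac hbc x⁻¹ y hxia hxib hya hyb hxi1 hy1 hxi3 hy3 with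
      h | ⟨g', hgc', hga', hgb', hg'⟩
    · exact Or.inr h
    · exfalso
      have hgg : g⁻¹ * g' = 1 := by
        apply fix3 hsharp _ hab hac hbc
        · rw [mul_smul, inv_smul_eq_iff, hga', hga]
        · rw [mul_smul, inv_smul_eq_iff, hgb', hgb]
        · rw [mul_smul, inv_smul_eq_iff, hgc', hgc]
      have hgg' : g' = g := (inv_mul_eq_one.mp hgg).symm
      rw [hgg', ← hg] at hg'
      have hxx : x⁻¹ = x := mul_left_cancel hg'
      have hx2 : x ^ 2 = 1 := by
        rw [pow_two]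
        nth_rewrite 1 [← hxx]
        exact inv_mul_cancel x
      apply hx1
      have : x ^ 3 = x := by rw [pow_succ, hx2, one_mul]
      rw [← this, hx3]

/-- In a sharply triply transitive group of even degree at least 6 (degree `q + 1`, `q` odd), a two-point stabiliser has at most one subgroup of order 3. -/
theorem result {α : Type*} [Fintype α] [DecidableEq α] (heven : Even (Fintype.card α)) (h6 : 6 ≤ Fintype.card α) (G : Subgroup (Equiv.Perm α)) (h3 : MulAction.IsMultiplyPretransitive G α 3) (hsharp : ∀ x : Fin 3 ↪ α, MulAction.stabilizer G x = ⊥) {a b : α} (hab : a ≠ b) (A B : Subgroup G) (hA : A ≤ MulAction.stabilizer G a ⊓ MulAction.stabilizer G b) (hB : B ≤ MulAction.stabilizer G a ⊓ MulAction.stabilizer G b) (hA3 : Nat.card A = 3) (hB3 : Nat.card B = 3) : A = B := by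
  have : Fact (Nat.Prime 3) := ⟨Nat.prime_three⟩
  -- a third point
  obtain ⟨c, hc⟩ : ∃ c : α, c ∉ ({a, b} : Finset α) := by
    by_contra h
    push Not at h
    have h1 : (Finset.univ : Finset α) ⊆ {a, b} := fun c _ => h c
    have h2 := Finset.card_le_card h1
    have h3 : ({a, b} : Finset α).card ≤ 2 := Finset.card_le_two
    rw [Finset.card_univ] at h2
    omega
  have hac : a ≠ c := by
    intro h; apply hc; simp [h]
  have hbc : b ≠ c := by
    intro h; apply hc; simp [h]
  -- generators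
  have hAne : A ≠ ⊥ := by
    intro h
    rw [h, Subgroup.card_bot] at hA3
    omega
  have hBne : B ≠ ⊥ := by
    intro h
    rw [h, Subgroup.card_bot] at hB3
    omega
  obtain ⟨x, hx1⟩ := (Subgroup.ne_bot_iff_exists_ne_one).mp hAne
  obtain ⟨y, hy1⟩ := (Subgroup.ne_bot_iff_exists_ne_one).mp hBne
  have hxA := hA x.2
  have hyB := hB y.2
  rw [Subgroup.mem_inf, MulAction.mem_stabilizer_iff, MulAction.mem_stabilizer_iff] at hxA hyB
  have hx3 : (x : G) ^ 3 = 1 := by
    have : x ^ Nat.card A = 1 := pow_card_eq_one'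
    rw [hA3] at this
    exact_mod_cast congrArg Subtype.val this
  have hy3 : (y : G) ^ 3 = 1 := by
    have : y ^ Nat.card B = 1 := pow_card_eq_one'
    rw [hB3] at this
    exact_mod_cast congrArg Subtype.val this
  have hx1' : (x : G) ≠ 1 := fun h => hx1 (Subtype.ext h)
  have hy1' : (y : G) ≠ 1 := fun h => hy1 (Subtype.ext h)
  have hxy := eq_or_eq_inv h3 hsharp hab hac hbc (x : G) (y : G) hxA.1 hxA.2 hyB.1 hyB.2
    hx1' hy1' hx3 hy3
  have hxB : (x : G) ∈ B := by
    rcases hxy with h | h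
    · rw [h]; exact y.2
    · have : (x : G) = (y : G)⁻¹ := by rw [← h, inv_inv]
      rw [this]; exact B.inv_mem y.2
  have hzp : Subgroup.zpowers x = ⊤ := zpowers_eq_top_of_prime_card hA3 hx1
  have hle : A ≤ B := by
    intro z hz
    have : (⟨z, hz⟩ : A) ∈ Subgroup.zpowers x := by rw [hzp]; trivial
    obtain ⟨k, hk⟩ := Subgroup.mem_zpowers_iff.mp this
    have hk' : (x : G) ^ k = z := by
      have := congrArg Subtype.val hk
      simpa using this
    rw [← hk']
    exact B.zpow_mem hxB k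
  exact Subgroup.eq_of_le_of_card_ge hle (by rw [hA3, hB3])

end Cfsg.Agent.S0728
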