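import Cfsg.Statements.S0729
import Mathlib
import Cfsg.Agent.Lib.Helper21.S3Perm

set_option autoImplicit false
open Cfsg

namespace Cfsg.Agent.S0729



/-- In a sharply triply transitive group of even degree at least 6, the two-point stabiliser `H = G_{a,b}` has a normal subgroup of index 2 that is normalised by the element `s` interchanging `a, b` and fixing a third point `c`. -/
theorem result {α : Type*} [Fintype α] [DecidableEq α] (heven : Even (Fintype.card α)) (h6 : 6 ≤ Fintype.card α) (G : Subgroup (Equiv.Perm α)) (h3 : MulAction.IsMultiplyPretransitive G α 3) (hsharp : ∀ x : Fin 3 ↪ α, MulAction.stabilizer G x = ⊥) {a b c : α} (hab : a ≠ b) (hac : a ≠ c) (hbc : b ≠ c) (s : G) (hsa : s • a = b) (hsb : s • b = a) (hsc : s • c = c) : ∃ N : Subgroup G, N ≤ MulAction.stabilizer G a ⊓ MulAction.stabilizer G b ∧ (N.subgroupOf (MulAction.stabilizer G a ⊓ MulAction.stabilizer G b)).Normal ∧ N.relIndex (MulAction.stabilizer G a ⊓ MulAction.stabilizer G b) = 2 ∧ ∀ n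 ∈ N, s * n * s⁻¹ ∈ N := by
  classical
  obtain ⟨N₀, hN₀⟩ := Cfsg.Agent.Lib.Helper21.s3_stab_idx2 heven h6 G h3 hsharp hab
  have hs2 : s * s = 1 := by
    apply Cfsg.Agent.S0728.fix3 hsharp _ hab hac hbc
    · rw [mul_smul, hsa, hsb]
    · rw [mul_smul, hsb, hsa]
    · rw [mul_smul, hsc, hsc]
  have hsinv : s⁻¹ = s := inv_eq_of_mul_eq_one_right hs2
  have hconj : ∀ h : G, h ∈ MulAction.stabilizer G a ⊓ MulAction.stabilizer G b →
      s * h * s⁻¹ ∈ MulAction.stabilizer G a ⊓ MulAction.stabilizer G b := by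
    intro h hh
    obtain ⟨ha, hb⟩ := Subgroup.mem_inf.mp hh
    rw [MulAction.mem_stabilizer_iff] at ha hb
    rw [hsinv]
    refine Subgroup.mem_inf.mpr ⟨?_, ?_⟩
    · rw [MulAction.mem_stabilizer_iff, mul_smul, mul_smul, hsa, hb, hsb]
    · rw [MulAction.mem_stabilizer_iff, mul_smul, mul_smul, hsb, ha, hsa]
  let σ : ↥(MulAction.stabilizer G a ⊓ MulAction.stabilizer G b) →*
      ↥(MulAction.stabilizer G a ⊓ MulAction.stabilizer G b) :=
    { toFun := fun h => ⟨s * h * s⁻¹, hconj h h.2⟩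
      map_one' := Subtype.ext (by simp)
      map_mul' := fun x y => Subtype.ext (by simp [mul_assoc]) }
  have hσσ : ∀ h, σ (σ h) = h := by
    intro h
    apply Subtype.ext
    show s * (s * (h : G) * s⁻¹) * s⁻¹ = h
    rw [hsinv]
    calc s * (s * (h : G) * s) * s = (s * s) * h * (s * s) := by group
      _ = h := by rw [hs2, one_mul, mul_one]
  obtain ⟨N', hN'2, hN'σ⟩ := Cfsg.Agent.Lib.Helper21.idx2_invariant σ hσσ N₀ hN₀
  have e : (N'.map (Subgroup.subtype _)).subgroupOf
      (MulAction.stabilizer G a ⊓ MulAction.stabilizer G b) = N' :=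
    Subgroup.comap_map_eq_self_of_injective (Subgroup.subtype_injective _) N'
  refine ⟨N'.map (Subgroup.subtype _), Subgroup.map_subtype_le _, ?_, ?_, ?_⟩
  · rw [e]
    exact Subgroup.normal_of_index_eq_two hN'2
  · rw [Subgroup.relIndex, e, hN'2]
  · rintro n ⟨h, hh, rfl⟩
    exact ⟨σ h, hN'σ h hh, rfl⟩

end Cfsg.Agent.S0729
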