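import Cfsg.Statements.S1487
import Cfsg.Agent.Lib.Helper35.Ind

set_option autoImplicit false
open Cfsg

namespace Cfsg.Agent.S1487

open Cfsg.Agent.Lib.Helper35 Cfsg.Agent.Lib.Helper4

theorem re_le {H : Type*} [Group H] [Finite H] {θ : H → ℂ} (hθ : IsCharacter H θ) (h : H) :
    (θ h).re ≤ (θ 1).re ∧ ((θ h).re = (θ 1).re → θ h = θ 1) := by
  obtain ⟨n, ρ, rfl⟩ := hθ
  have h1 : ρ.character 1 = (Module.finrank ℂ (Fin n → ℂ) : ℂ) := Representation.char_one ρ
  have hle := norm_char_le ρ h
  have h2 : (ρ.character h).re ≤ ‖ρ.character h‖ := Complex.re_le_norm _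
  rw [h1]
  simp only [Complex.natCast_re]
  refine ⟨le_trans h2 hle, fun heq => ?_⟩
  have h3 : (ρ.character h).re = ‖ρ.character h‖ := le_antisymm h2 (heq ▸ hle)
  have h4 := Complex.re_eq_norm.mp h3
  have h5 : ρ.character h = ((ρ.character h).re : ℂ) := by
    apply Complex.ext
    · simp
    · simp only [Complex.ofReal_im]
      exact (Complex.nonneg_iff.mp h4).2.symm
  rw [h5, heq]
  simp

theorem result {G : Type*} [Group G] [Fintype G] (A H : Subgroup G) [A.Normal] [H.Normal] (hAH : A ≤ H) (θ : H → ℂ) (hθ : Cfsg.IsIrrCharacter H θ) : (∀ a : H, (a : G) ∈ A → θ a = θ 1) ↔ (∀ a : G, a ∈ A → Cfsg.indFun H θ a = Cfsg.indFun H θ 1) := by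
  have hθc : IsCharacter H θ := isChar_of_irr hθ
  have hconj : ∀ a ∈ A, ∀ x : G, x⁻¹ * a * x ∈ A := by
    intro a ha x
    have := (inferInstance : A.Normal).conj_mem a ha x⁻¹
    simpa using this
  have hone : ∀ x : G, extendByZero H θ (x⁻¹ * 1 * x) = θ 1 := by
    intro x
    have : x⁻¹ * 1 * x = ((1 : H) : G) := by simp
    rw [this, ext_coe]
  constructor
  · intro h a ha
    unfold Cfsg.indFun
    congr 1
    refine Finset.sum_congr rfl fun x _ => ?_
    rw [hone, ext_mem H θ _ (hAH (hconj a ha x))]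
    exact h ⟨_, hAH (hconj a ha x)⟩ (hconj a ha x)
  · intro h a haA
    have key := h a haA
    unfold Cfsg.indFun at key
    have hH : (Nat.card H : ℂ)⁻¹ ≠ 0 := by
      apply inv_ne_zero
      exact_mod_cast (Nat.card_pos (α := H)).ne'
    have key2 := mul_left_cancel₀ hH key
    have key3 : ∑ x : G, (extendByZero H θ (x⁻¹ * (a : G) * x)).re = ∑ x : G, (θ 1).re := by
      have := congrArg Complex.re key2
      simp only [Complex.re_sum] at this
      rw [this]
      refine Finset.sum_congr rfl fun x _ => ?_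
      rw [hone]
    have hle : ∀ x ∈ (Finset.univ : Finset G),
        (extendByZero H θ (x⁻¹ * (a : G) * x)).re ≤ (θ 1).re := by
      intro x _
      rw [ext_mem H θ _ (hAH (hconj a haA x))]
      exact (re_le hθc _).1
    have hall := (Finset.sum_eq_sum_iff_of_le hle).mp key3 1 (Finset.mem_univ _)
    have h1 : (1 : G)⁻¹ * (a : G) * 1 = (a : G) := by simp
    rw [h1, ext_coe] at hall
    exact (re_le hθc a).2 hall

end Cfsg.Agent.S1487
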