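import Cfsg.Statements.S1492
import Cfsg.Agent.Lib.Helper35.Bessel
import Cfsg.Agent.Lib.Helper83.Schur
import Cfsg.Agent.S1487

set_option autoImplicit false
open Cfsg

namespace Cfsg.Agent.S1492

open Cfsg.Agent.Lib.Helper35 Cfsg.Agent.Lib.Helper4
open scoped ComplexConjugate

theorem char_one_nat {H : Type*} [Group H] {θ : H → ℂ} (hθ : IsCharacter H θ) :
    ∃ d : ℕ, θ 1 = d := by
  obtain ⟨n, ρ, rfl⟩ := hθ
  exact ⟨_, Representation.char_one ρ⟩

theorem char_inv' {H : Type*} [Group H] [Finite H] {θ : H → ℂ} (hθ : IsCharacter H θ) (h : H) :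
    θ h⁻¹ = conj (θ h) := by
  obtain ⟨n, ρ, rfl⟩ := hθ
  exact Cfsg.Agent.Lib.Helper4.char_inv ρ h

/-- Let ψ be an irreducible character of the finite group G and B ≤ D ≤ C subgroups with B normal in C, every commutator of an element of D with an element of C lying in B (so D/B is central in C/B), and ψ constant equal to ψ 1 on B. Then ψ(1) ^ 2 * |C| * |D| ≤ |G| ^ 2. -/
theorem result {G : Type*} [Group G] [Finite G] (ψ : G → ℂ) (hψ : Cfsg.IsIrrCharacter G ψ) (B C D : Subgroup G) (hBD : B ≤ D) (hDC : D ≤ C) (hBn : ∀ c ∈ C, ∀ b ∈ B, c * b * c⁻¹ ∈ B) (hcent : ∀ d ∈ D, ∀ c ∈ C, d * c * d⁻¹ * c⁻¹ ∈ B) (hker : ∀ b ∈ B, ψ b = ψ 1) : ‖ψ 1‖ ^ 2 * (Nat.card C : ℝ) * (Nat.card D : ℝ) ≤ (Nat.card G : ℝ) ^ 2 := by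
  classical
  let _ : Fintype G := Fintype.ofFinite G
  let _ : Fintype C := Fintype.ofFinite C
  have := irr_finite (G := C)
  let _ : Fintype (IrrCharacter C) := Fintype.ofFinite _
  have := irr_finite (G := G)
  let _ : Fintype (IrrCharacter G) := Fintype.ofFinite _
  have hψc : IsCharacter G ψ := isChar_of_irr hψ
  have hθ : IsCharacter C (res C ψ) := isCharacter_res C hψc
  obtain ⟨m, hm⟩ := exists_decomp_of_isCharacter (res C ψ) hθ
  have hC0 : (Nat.card C : ℂ) ≠ 0 := by exact_mod_cast (Nat.card_pos (α := C)).ne'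
  -- a constituent
  obtain ⟨φ₀, hφ₀⟩ : ∃ φ₀, m φ₀ ≠ 0 := by
    by_contra hcon
    push Not at hcon
    have h0 : res C ψ = 0 := by rw [hm]; simp [hcon]
    have h1 : ψ 1 = 0 := by
      have := congrFun h0 1
      simpa using this
    exact (Cfsg.Agent.Lib.Helper83.irr_one_ne_zero hψ) h1
  have hφ₀c : IsCharacter C (φ₀ : C → ℂ) := isChar_of_irr φ₀.2
  -- `B` is in the kernel of `φ₀`
  have hA : ∀ b : C, (b : G) ∈ B → (φ₀ : C → ℂ) b = (φ₀ : C → ℂ) 1 := by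
    intro b hb
    have h1 : res C ψ b = res C ψ 1 := by
      rw [res_apply, res_apply, hker b hb]
      rfl
    have h2 : ∑ φ : IrrCharacter C, (m φ : ℝ) * ((φ : C → ℂ) b).re =
        ∑ φ : IrrCharacter C, (m φ : ℝ) * ((φ : C → ℂ) 1).re := by
      have h3 := congrArg Complex.re h1
      rw [hm] at h3
      simpa [Finset.sum_apply, Complex.re_sum] using h3
    have h4 := (Finset.sum_eq_sum_iff_of_le (fun φ _ => mul_le_mul_of_nonneg_left
      (S1487.re_le (isChar_of_irr φ.2) b).1 (Nat.cast_nonneg (m φ)))).mp h2 φ₀ (Finset.mem_univ _)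
    have h5 : ((φ₀ : C → ℂ) b).re = ((φ₀ : C → ℂ) 1).re := by
      have h6 : (m φ₀ : ℝ) ≠ 0 := by exact_mod_cast hφ₀
      exact mul_left_cancel₀ h6 h4
    exact (S1487.re_le hφ₀c b).2 h5
  -- `D` acts by scalars of norm one
  have hB : ∀ d : C, (d : G) ∈ D →
      (φ₀ : C → ℂ) d * conj ((φ₀ : C → ℂ) d) = (φ₀ : C → ℂ) 1 ^ 2 := by
    intro d hd
    have h1 := Cfsg.Agent.Lib.Helper83.irr_avg_conj φ₀.2 d d⁻¹
    have h2 : ∀ g : C, (φ₀ : C → ℂ) (d * (g * d⁻¹ * g⁻¹)) = (φ₀ : C → ℂ) 1 := by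
      intro g
      apply hA
      have h3 := hcent d hd g g.2
      have h4 : ((d * (g * d⁻¹ * g⁻¹) : C) : G) = (d : G) * g * (d : G)⁻¹ * (g : G)⁻¹ := by
        simp [mul_assoc]
      rw [h4]
      exact h3
    rw [Finset.sum_congr rfl (fun g _ => h2 g)] at h1
    simp only [Finset.sum_const, Finset.card_univ, nsmul_eq_mul] at h1
    rw [char_inv' hφ₀c, ← Nat.card_eq_fintype_card] at h1
    have h5 : (Nat.card C : ℂ) * ((φ₀ : C → ℂ) d * conj ((φ₀ : C → ℂ) d)) =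
        (Nat.card C : ℂ) * ((φ₀ : C → ℂ) 1 ^ 2) := by
      linear_combination -h1
    exact mul_left_cancel₀ hC0 h5
  -- degrees
  obtain ⟨d₀, hd₀⟩ := char_one_nat hφ₀c
  obtain ⟨dψ, hdψ⟩ := char_one_nat hψc
  -- `|D| d₀² ≤ |C|`
  have hCl : (Nat.card D : ℝ) * (d₀ : ℝ) ^ 2 ≤ (Nat.card C : ℝ) := by
    have h1 : classInner (φ₀ : C → ℂ) (φ₀ : C → ℂ) = 1 := by
      rw [classInner_irr' φ₀.2 φ₀.2, if_pos rfl]
    unfold classInner at h1
    have h2 : ∑ c : C, (φ₀ : C → ℂ) c * conj ((φ₀ : C → ℂ) c) = (Nat.card C : ℂ) := by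
      field_simp at h1
      exact h1
    have h3 : ∑ c : C, Complex.normSq ((φ₀ : C → ℂ) c) = (Nat.card C : ℝ) := by
      apply Complex.ofReal_injective
      rw [Complex.ofReal_sum]
      simp only [← Complex.mul_conj]
      rw [h2]
      simp
    rw [← h3]
    have h4 : ∑ c ∈ Finset.univ.filter (fun c : C => (c : G) ∈ D),
        Complex.normSq ((φ₀ : C → ℂ) c) ≤ ∑ c : C, Complex.normSq ((φ₀ : C → ℂ) c) :=
      Finset.sum_le_sum_of_subset_of_nonneg (Finset.subset_univ _)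
        (fun c _ _ => Complex.normSq_nonneg _)
    refine le_trans (le_of_eq ?_) h4
    have h5 : ∀ c ∈ Finset.univ.filter (fun c : C => (c : G) ∈ D),
        Complex.normSq ((φ₀ : C → ℂ) c) = (d₀ : ℝ) ^ 2 := by
      intro c hc
      rw [Finset.mem_filter] at hc
      apply Complex.ofReal_injective
      rw [← Complex.mul_conj, hB c hc.2, hd₀]
      push_cast
      ring
    rw [Finset.sum_congr rfl h5, Finset.sum_const, nsmul_eq_mul]
    congr 2
    rw [← Nat.card_congr (Subgroup.subgroupOfEquivOfLe hDC).toEquiv, Nat.card_eq_fintype_card,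
      Fintype.card_subtype]
    rfl
  -- `dψ ≤ [G:C] d₀`
  have hDl : dψ ≤ C.index * d₀ := by
    have hind : IsCharacter G (indFun C (φ₀ : C → ℂ)) := isCharacter_indFun C hφ₀c
    obtain ⟨n, hn⟩ := exists_decomp_of_isCharacter _ hind
    have h1 : classInner (indFun C (φ₀ : C → ℂ)) ψ = (n ⟨ψ, hψ⟩ : ℂ) := by
      rw [hn]
      exact classInner_sum_irr (fun χ => (n χ : ℂ)) ⟨ψ, hψ⟩
    have h2 : classInner (indFun C (φ₀ : C → ℂ)) ψ = (m φ₀ : ℂ) := by
      rw [Cfsg.Agent.Lib.Helper35.frobenius_reciprocity C _ ψ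
        (isClassFunction_of_isCharacter hψc), classInner_conj_symm, hm,
        classInner_sum_irr (fun χ => (m χ : ℂ)) φ₀]
      simp
    have h3 : n ⟨ψ, hψ⟩ = m φ₀ := by
      have := h1.symm.trans h2
      exact_mod_cast this
    choose deg hdeg using fun χ : IrrCharacter G => char_one_nat (isChar_of_irr χ.2)
    have h4 : indFun C (φ₀ : C → ℂ) 1 = ((∑ χ : IrrCharacter G, n χ * deg χ : ℕ) : ℂ) := by
      rw [hn]
      simp only [Finset.sum_apply, Pi.smul_apply, smul_eq_mul, hdeg]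
      push_cast
      rfl
    rw [indFun_one_eq, hd₀] at h4
    have h5 : C.index * d₀ = ∑ χ : IrrCharacter G, n χ * deg χ := by exact_mod_cast h4
    rw [h5]
    have h6 : n ⟨ψ, hψ⟩ * deg ⟨ψ, hψ⟩ ≤ ∑ χ : IrrCharacter G, n χ * deg χ :=
      Finset.single_le_sum (f := fun χ => n χ * deg χ) (fun _ _ => Nat.zero_le _)
        (Finset.mem_univ _)
    have h7 : deg ⟨ψ, hψ⟩ = dψ := by
      have := (hdeg ⟨ψ, hψ⟩).symm.trans hdψ
      exact_mod_cast this
    rw [h7, h3] at h6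
    have h8 : 1 ≤ m φ₀ := Nat.one_le_iff_ne_zero.mpr hφ₀
    nlinarith
  -- conclusion
  have hnorm : ‖ψ 1‖ = (dψ : ℝ) := by
    rw [hdψ, Complex.norm_natCast]
  rw [hnorm]
  have hidx : (Nat.card C : ℝ) * (C.index : ℝ) = (Nat.card G : ℝ) := by
    exact_mod_cast Subgroup.card_mul_index C
  have hDl' : (dψ : ℝ) ≤ (C.index : ℝ) * (d₀ : ℝ) := by exact_mod_cast hDl
  have h1 : (dψ : ℝ) ^ 2 ≤ ((C.index : ℝ) * (d₀ : ℝ)) ^ 2 :=
    pow_le_pow_left₀ (Nat.cast_nonneg _) hDl' 2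
  have hCpos : (0 : ℝ) ≤ (Nat.card C : ℝ) := Nat.cast_nonneg _
  have hDpos : (0 : ℝ) ≤ (Nat.card D : ℝ) := Nat.cast_nonneg _
  calc (dψ : ℝ) ^ 2 * (Nat.card C : ℝ) * (Nat.card D : ℝ)
      ≤ ((C.index : ℝ) * (d₀ : ℝ)) ^ 2 * (Nat.card C : ℝ) * (Nat.card D : ℝ) := by
        apply mul_le_mul_of_nonneg_right _ hDpos
        exact mul_le_mul_of_nonneg_right h1 hCpos
    _ = (C.index : ℝ) ^ 2 * (Nat.card C : ℝ) * ((Nat.card D : ℝ) * (d₀ : ℝ) ^ 2) := by ring
    _ ≤ (C.index : ℝ) ^ 2 * (Nat.card C : ℝ) * (Nat.card C : ℝ) := by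
        apply mul_le_mul_of_nonneg_left hCl
        positivity
    _ = (Nat.card G : ℝ) ^ 2 := by rw [← hidx]; ring

end Cfsg.Agent.S1492
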