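import Cfsg.Statements.S1517
import Cfsg.Agent.Lib.Helper35.Bessel

set_option autoImplicit false
open Cfsg

namespace Cfsg.Agent.S1517

open Cfsg.Agent.Lib.Helper35 Cfsg.Agent.Lib.Helper4

section

variable {L : Type*} [Group L] [Fintype L] {G : Type*} [Group G] [Fintype G]

theorem conjFun_one_char {χ : L → ℂ} (h : IsCharacter L χ) : conjFun χ 1 = χ 1 := by
  obtain ⟨n, ρ, rfl⟩ := h
  simp [conjFun, Representation.char_one]

theorem sub_mem_E {S : Set (L → ℂ)} {χ φ : L → ℂ} (hχ : χ ∈ S) (hφ : φ ∈ S)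
    (hdeg : φ 1 = χ 1) : χ - φ ∈ zspanOn S {1}ᶜ := by
  refine ⟨Submodule.sub_mem _ (Submodule.subset_span hχ) (Submodule.subset_span hφ), ?_⟩
  intro x hx
  have hx1 : x = 1 := by
    by_contra h
    exact hx h
  rw [hx1, Pi.sub_apply, hdeg, sub_self]

theorem tau_zero {S : Set (L → ℂ)} {τ : (L → ℂ) → (G → ℂ)}
    (hτ : IsLinearIsometryOn (zspanOn S {1}ᶜ) τ) : τ 0 = 0 := by
  have h0 : (0 : L → ℂ) ∈ zspanOn S {1}ᶜ :=
    ⟨Submodule.zero_mem _, fun x _ => rfl⟩
  have := hτ.2.1 0 h0 0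
  rw [zero_smul, zero_smul] at this
  exact this

variable {S : Set (L → ℂ)} {τ : (L → ℂ) → (G → ℂ)} {R : (L → ℂ) → Finset (G → ℂ)}

theorem conj_sub_mem_E (hS : IsCoherenceSystem S τ R) {χ : L → ℂ} (hχ : χ ∈ S) :
    χ - conjFun χ ∈ zspanOn S {1}ᶜ :=
  sub_mem_E hχ (hS.conj_mem χ hχ) (conjFun_one_char (hS.isCharacter χ hχ))

theorem R_orth (hS : IsCoherenceSystem S τ R) {χ φ : L → ℂ} (hχ : χ ∈ S) (hφ : φ ∈ S)
    (h1 : φ ≠ χ) (h2 : φ ≠ conjFun χ) :
    ∀ α ∈ R φ, ∀ β ∈ R χ, classInner α β = 0 :=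
  hS.disjoint χ hχ φ hφ (hS.orthogonal φ hφ χ hχ h1)
    (hS.orthogonal φ hφ (conjFun χ) (hS.conj_mem χ hχ) h2)

theorem ne_conj_symm {χ φ : L → ℂ} (h2 : φ ≠ conjFun χ) : χ ≠ conjFun φ := by
  intro h
  apply h2
  rw [h, conjFun_conjFun]

open Classical in
theorem pair_lemma (hS : IsCoherenceSystem S τ R) {χ φ : L → ℂ} (hχ : χ ∈ S) (hφ : φ ∈ S)
    (h1 : φ ≠ χ) (h2 : φ ≠ conjFun χ) (hdeg : φ 1 = χ 1) :
    (∑ α ∈ R χ, classInner (τ (χ - φ)) α = classInner χ χ) ∧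
    (∑ α ∈ R χ, classInner (τ (χ - φ)) α * classInner (τ (χ - φ)) α = classInner χ χ) ∧
    (∀ α ∈ R χ, ∃ m : ℤ, classInner (τ (χ - φ)) α = m) ∧
    τ (χ - φ) = ∑ α ∈ R χ, classInner (τ (χ - φ)) α • α +
      ∑ β ∈ R φ, classInner (τ (χ - φ)) β • β := by
  have hτ := hS.isometry
  have hE := sub_mem_E hχ hφ hdeg
  set v := τ (χ - φ) with hv
  have hvgen : IsGeneralizedCharacter G v := hτ.2.2.2 _ hE
  obtain ⟨kχ, hkχ⟩ := classInner_char_nat (hS.isCharacter χ hχ) (hS.isCharacter χ hχ)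
  obtain ⟨kφ, hkφ⟩ := classInner_char_nat (hS.isCharacter φ hφ) (hS.isCharacter φ hφ)
  have hχc : conjFun χ ∈ S := hS.conj_mem χ hχ
  have hφc : conjFun φ ∈ S := hS.conj_mem φ hφ
  have o1 : classInner χ (conjFun χ) = 0 :=
    hS.orthogonal χ hχ _ hχc (Ne.symm (hS.conj_ne χ hχ))
  have o2 : classInner φ χ = 0 := hS.orthogonal φ hφ χ hχ h1
  have o3 : classInner φ (conjFun χ) = 0 := hS.orthogonal φ hφ _ hχc h2
  have o4 : classInner χ φ = 0 := hS.orthogonal χ hχ φ hφ (Ne.symm h1)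
  have o5 : classInner χ (conjFun φ) = 0 := hS.orthogonal χ hχ _ hφc (ne_conj_symm h2)
  have o6 : classInner φ (conjFun φ) = 0 :=
    hS.orthogonal φ hφ _ hφc (Ne.symm (hS.conj_ne φ hφ))
  -- sums of coefficients
  have P2 : ∑ α ∈ R χ, classInner v α = (kχ : ℂ) := by
    rw [← classInner_sum_right, ← hS.sum_eq χ hχ, hv, hτ.2.2.1 _ hE _ (conj_sub_mem_E hS hχ),
      classInner_sub_left, classInner_sub_right, classInner_sub_right, hkχ, o1, o2, o3]
    ring
  have P3 : ∑ β ∈ R φ, classInner v β = -(kφ : ℂ) := by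
    rw [← classInner_sum_right, ← hS.sum_eq φ hφ, hv, hτ.2.2.1 _ hE _ (conj_sub_mem_E hS hφ),
      classInner_sub_left, classInner_sub_right, classInner_sub_right, hkφ, o4, o5, o6]
    ring
  have Pv : classInner v v = (kχ : ℂ) + (kφ : ℂ) := by
    rw [hv, hτ.2.2.1 _ hE _ hE, classInner_sub_left, classInner_sub_right, classInner_sub_right,
      hkχ, hkφ, o2, o4]
    ring
  -- integrality
  have hinta : ∀ α, ∃ m : ℤ, α ∈ R χ → classInner v α = m := by
    intro α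
    by_cases hα : α ∈ R χ
    · obtain ⟨m, hm⟩ := classInner_gen_int hvgen (hS.virtual χ hχ α hα)
      exact ⟨m, fun _ => hm⟩
    · exact ⟨0, fun h => absurd h hα⟩
  have hintb : ∀ β, ∃ m : ℤ, β ∈ R φ → classInner v β = m := by
    intro β
    by_cases hβ : β ∈ R φ
    · obtain ⟨m, hm⟩ := classInner_gen_int hvgen (hS.virtual φ hφ β hβ)
      exact ⟨m, fun _ => hm⟩
    · exact ⟨0, fun h => absurd h hβ⟩
  choose a ha using hinta
  choose b hb using hintb
  -- orthonormality of the union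
  have hRφχ := R_orth hS hχ hφ h1 h2
  have hRχφ := R_orth hS hφ hχ (Ne.symm h1) (ne_conj_symm h2)
  have hdisj : Disjoint (R χ) (R φ) := by
    rw [Finset.disjoint_left]
    intro α hα hα'
    have e1 := hS.orthonormal χ hχ α hα α hα
    rw [if_pos rfl, hRφχ α hα' α hα] at e1
    exact zero_ne_one e1
  have horth : ∀ α ∈ R χ ∪ R φ, ∀ β ∈ R χ ∪ R φ,
      classInner α β = if α = β then 1 else 0 := by
    intro α hα β hβ
    rcases Finset.mem_union.mp hα with hα | hα <;> rcases Finset.mem_union.mp hβ with hβ | hβ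
    · exact hS.orthonormal χ hχ α hα β hβ
    · rw [hRχφ α hα β hβ, if_neg]
      intro h
      subst h
      exact (Finset.disjoint_left.mp hdisj hα) hβ
    · rw [hRφχ α hα β hβ, if_neg]
      intro h
      subst h
      exact (Finset.disjoint_left.mp hdisj hβ) hα
    · exact hS.orthonormal φ hφ α hα β hβ
  have hB := bessel_defect (R χ ∪ R φ) horth v
  rw [Finset.sum_union hdisj, Finset.sum_union hdisj] at hB
  obtain ⟨r, hr0, hr⟩ := classInner_self_nonneg
    (v - (∑ α ∈ R χ, classInner v α • α + ∑ α ∈ R φ, classInner v α • α))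
  rw [hr, Pv] at hB
  have hA2 : ∑ α ∈ R χ, classInner v α * (starRingEnd ℂ) (classInner v α) =
      ((∑ α ∈ R χ, a α ^ 2 : ℤ) : ℂ) := by
    push_cast
    refine Finset.sum_congr rfl fun α hα => ?_
    rw [ha α hα, map_intCast]
    ring
  have hB2 : ∑ β ∈ R φ, classInner v β * (starRingEnd ℂ) (classInner v β) =
      ((∑ β ∈ R φ, b β ^ 2 : ℤ) : ℂ) := by
    push_cast
    refine Finset.sum_congr rfl fun β hβ => ?_
    rw [hb β hβ, map_intCast]
    ring
  rw [hA2, hB2] at hB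
  have hA1 : (∑ α ∈ R χ, a α : ℤ) = kχ := by
    have : ((∑ α ∈ R χ, a α : ℤ) : ℂ) = ((kχ : ℤ) : ℂ) := by
      push_cast
      rw [← P2]
      exact Finset.sum_congr rfl fun α hα => (ha α hα).symm
    exact_mod_cast this
  have hB1 : (∑ β ∈ R φ, b β : ℤ) = -kφ := by
    have : ((∑ β ∈ R φ, b β : ℤ) : ℂ) = ((-(kφ : ℤ) : ℤ) : ℂ) := by
      push_cast
      rw [← P3]
      exact Finset.sum_congr rfl fun β hβ => (hb β hβ).symm
    exact_mod_cast this
  have hA21 : (∑ α ∈ R χ, a α : ℤ) ≤ ∑ α ∈ R χ, a α ^ 2 :=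
    Finset.sum_le_sum fun α _ => Int.le_self_sq (a α)
  have hB21 : -(∑ β ∈ R φ, b β : ℤ) ≤ ∑ β ∈ R φ, b β ^ 2 := by
    rw [← Finset.sum_neg_distrib]
    refine Finset.sum_le_sum fun β _ => ?_
    have := Int.le_self_sq (-b β)
    rwa [neg_sq] at this
  have hreal : (r : ℝ) = ((kχ : ℤ) + (kφ : ℤ) - ∑ α ∈ R χ, a α ^ 2 - ∑ β ∈ R φ, b β ^ 2 : ℤ) := by
    have : ((r : ℝ) : ℂ) = (((kχ : ℤ) + (kφ : ℤ) - ∑ α ∈ R χ, a α ^ 2 -
        ∑ β ∈ R φ, b β ^ 2 : ℤ) : ℂ) := by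
      rw [hB]
      push_cast
      ring
    exact_mod_cast this
  have hge : (0 : ℤ) ≤ (kχ : ℤ) + (kφ : ℤ) - ∑ α ∈ R χ, a α ^ 2 - ∑ β ∈ R φ, b β ^ 2 := by
    have : (0 : ℝ) ≤ (((kχ : ℤ) + (kφ : ℤ) - ∑ α ∈ R χ, a α ^ 2 -
        ∑ β ∈ R φ, b β ^ 2 : ℤ) : ℝ) := by
      rw [← hreal]
      exact hr0
    exact_mod_cast this
  have hA2eq : (∑ α ∈ R χ, a α ^ 2 : ℤ) = kχ := by omega
  have hr0' : r = 0 := by
    rw [hreal]
    have : (kχ : ℤ) + (kφ : ℤ) - ∑ α ∈ R χ, a α ^ 2 - ∑ β ∈ R φ, b β ^ 2 = 0 := by omega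
    rw [this]
    simp
  have hw : v - (∑ α ∈ R χ, classInner v α • α + ∑ α ∈ R φ, classInner v α • α) = 0 := by
    apply classInner_self_eq_zero'
    rw [hr, hr0']
    simp
  refine ⟨?_, ?_, ?_, sub_eq_zero.mp hw⟩
  · rw [P2, hkχ]
  · rw [hkχ]
    have : ∑ α ∈ R χ, classInner v α * classInner v α = ((∑ α ∈ R χ, a α ^ 2 : ℤ) : ℂ) := by
      push_cast
      refine Finset.sum_congr rfl fun α hα => ?_
      rw [ha α hα]
      ring
    rw [this, hA2eq]
    simp
  · intro α hα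
    exact ⟨a α, ha α hα⟩

open Classical in
theorem exists_coeff (hS : IsCoherenceSystem S τ R) (hdeg : ∀ φ ∈ S, ∀ ψ ∈ S, φ 1 = ψ 1)
    {χ₀ : L → ℂ} (hχ₀ : χ₀ ∈ S) :
    ∃ a : (G → ℂ) → ℂ,
      (∀ α ∈ R χ₀, ∃ m : ℤ, a α = m) ∧
      (∑ α ∈ R χ₀, a α * a α = classInner χ₀ χ₀) ∧
      (∑ α ∈ R χ₀, a α = classInner χ₀ χ₀) ∧
      (∀ φ ∈ S, φ ≠ χ₀ → φ ≠ conjFun χ₀ → ∀ α ∈ R χ₀, classInner (τ (χ₀ - φ)) α = a α) := by
  have hτ := hS.isometry
  by_cases hex : ∃ φ ∈ S, φ ≠ χ₀ ∧ φ ≠ conjFun χ₀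
  · obtain ⟨φ, hφ, h1, h2⟩ := hex
    obtain ⟨p1, p2, p3, p4⟩ := pair_lemma hS hχ₀ hφ h1 h2 (hdeg φ hφ χ₀ hχ₀)
    refine ⟨fun α => classInner (τ (χ₀ - φ)) α, p3, p2, p1, ?_⟩
    intro φ' hφ' h1' h2' α hα
    have hsplit : χ₀ - φ' = (χ₀ - φ) + (φ - φ') := by abel
    have hE1 := sub_mem_E hχ₀ hφ (hdeg φ hφ χ₀ hχ₀)
    have hE2 := sub_mem_E hφ hφ' (hdeg φ' hφ' φ hφ)
    rw [hsplit, hτ.1 _ hE1 _ hE2, classInner_add_left]
    have hz : classInner (τ (φ - φ')) α = 0 := by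
      by_cases e1 : φ' = φ
      · rw [e1, sub_self, tau_zero hτ, classInner_zero_left]
      · by_cases e2 : φ' = conjFun φ
        · rw [e2, hS.sum_eq φ hφ, classInner_sum_left]
          exact Finset.sum_eq_zero fun β hβ => R_orth hS hχ₀ hφ h1 h2 β hβ α hα
        · obtain ⟨-, -, -, q4⟩ := pair_lemma hS hφ hφ' e1 e2 (hdeg φ' hφ' φ hφ)
          rw [q4, classInner_add_left, classInner_sum_left, classInner_sum_left,
            Finset.sum_eq_zero, Finset.sum_eq_zero, add_zero]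
          · intro β hβ
            rw [classInner_smul_left, R_orth hS hχ₀ hφ' h1' h2' β hβ α hα, mul_zero]
          · intro β hβ
            rw [classInner_smul_left, R_orth hS hχ₀ hφ h1 h2 β hβ α hα, mul_zero]
    rw [hz, add_zero]
  · push Not at hex
    obtain ⟨k₀, hk₀⟩ := classInner_char_nat (hS.isCharacter χ₀ hχ₀) (hS.isCharacter χ₀ hχ₀)
    have hχc : conjFun χ₀ ∈ S := hS.conj_mem χ₀ hχ₀
    have hEc := conj_sub_mem_E hS hχ₀
    have hcard : ((R χ₀).card : ℂ) = 2 * (k₀ : ℂ) := by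
      have e1 : classInner (τ (χ₀ - conjFun χ₀)) (τ (χ₀ - conjFun χ₀)) = 2 * (k₀ : ℂ) := by
        rw [hτ.2.2.1 _ hEc _ hEc, classInner_sub_left, classInner_sub_right,
          classInner_sub_right, classInner_conjFun, hk₀,
          hS.orthogonal χ₀ hχ₀ _ hχc (Ne.symm (hS.conj_ne χ₀ hχ₀)),
          hS.orthogonal _ hχc χ₀ hχ₀ (hS.conj_ne χ₀ hχ₀), Complex.conj_natCast]
        ring
      rw [← e1, hS.sum_eq χ₀ hχ₀, classInner_sum_left]
      have e2 : ∀ α ∈ R χ₀, classInner α (∑ β ∈ R χ₀, β) = 1 := by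
        intro α hα
        rw [classInner_sum_right, Finset.sum_eq_single α]
        · rw [hS.orthonormal χ₀ hχ₀ α hα α hα, if_pos rfl]
        · intro β hβ hne
          rw [hS.orthonormal χ₀ hχ₀ α hα β hβ, if_neg (Ne.symm hne)]
        · intro h
          exact absurd hα h
      rw [Finset.sum_congr rfl e2]
      simp
    have hcard' : (R χ₀).card = 2 * k₀ := by exact_mod_cast hcard
    obtain ⟨A, hA, hAc⟩ := Finset.exists_subset_card_eq (s := R χ₀) (n := k₀) (by omega)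
    have hsum : ∑ α ∈ R χ₀, (if α ∈ A then (1 : ℂ) else 0) = (k₀ : ℂ) := by
      rw [Finset.sum_ite_mem, Finset.inter_eq_right.mpr hA]
      simp [hAc]
    refine ⟨fun α => if α ∈ A then 1 else 0, ?_, ?_, ?_, ?_⟩
    · intro α _
      by_cases h : α ∈ A
      · exact ⟨1, by simp [h]⟩
      · exact ⟨0, by simp [h]⟩
    · rw [hk₀, ← hsum]
      refine Finset.sum_congr rfl fun α _ => ?_
      by_cases h : α ∈ A <;> simp [h]
    · rw [hk₀, ← hsum]
    · intro φ hφ h1 h2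
      exact absurd (hex φ hφ h1) h2

open Classical in
theorem exists_X (hS : IsCoherenceSystem S τ R) (hdeg : ∀ φ ∈ S, ∀ ψ ∈ S, φ 1 = ψ 1)
    {χ₀ : L → ℂ} (hχ₀ : χ₀ ∈ S) :
    ∃ X : G → ℂ, IsGeneralizedCharacter G X ∧ classInner X X = classInner χ₀ χ₀ ∧
      ∀ φ ∈ S, φ ≠ χ₀ → classInner (τ (χ₀ - φ)) X = classInner χ₀ χ₀ := by
  obtain ⟨a, a1, a2, a3, a4⟩ := exists_coeff hS hdeg hχ₀
  have hconj : ∀ α ∈ R χ₀, (starRingEnd ℂ) (a α) = a α := by
    intro α hα
    obtain ⟨m, hm⟩ := a1 α hα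
    rw [hm, map_intCast]
  refine ⟨∑ α ∈ R χ₀, a α • α, ?_, ?_, ?_⟩
  · apply isGenChar_sum
    intro α hα
    obtain ⟨m, hm⟩ := a1 α hα
    rw [hm]
    exact isGenChar_int_smul m (hS.virtual χ₀ hχ₀ α hα)
  · rw [classInner_sum_left, ← a2]
    refine Finset.sum_congr rfl fun α hα => ?_
    rw [classInner_sum_right, Finset.sum_eq_single α]
    · rw [classInner_smul_left, classInner_smul_right, hS.orthonormal χ₀ hχ₀ α hα α hα,
        if_pos rfl, hconj α hα]
      ring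
    · intro β hβ hne
      rw [classInner_smul_left, classInner_smul_right, hS.orthonormal χ₀ hχ₀ α hα β hβ,
        if_neg (Ne.symm hne)]
      ring
    · intro h
      exact absurd hα h
  · intro φ hφ h1
    rw [classInner_sum_right]
    by_cases h2 : φ = conjFun χ₀
    · rw [h2, hS.sum_eq χ₀ hχ₀, ← a3]
      refine Finset.sum_congr rfl fun α hα => ?_
      rw [classInner_smul_right, hconj α hα, classInner_sum_left, Finset.sum_eq_single α]
      · rw [hS.orthonormal χ₀ hχ₀ α hα α hα, if_pos rfl, mul_one]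
      · intro β hβ hne
        rw [hS.orthonormal χ₀ hχ₀ β hβ α hα, if_neg hne]
      · intro h
        exact absurd hα h
    · rw [← a2]
      refine Finset.sum_congr rfl fun α hα => ?_
      rw [classInner_smul_right, hconj α hα, a4 φ hφ h1 h2 α hα]

end

/-- Let (S, τ, R) be a coherence system from L to G such that φ 1 = ψ 1 for all φ, ψ ∈ S. Then (S, L minus 1, τ) is coherent. -/
theorem result {L : Type*} [Group L] [Fintype L] {G : Type*} [Group G] [Fintype G] (S : Set (L → ℂ)) (τ : (L → ℂ) → (G → ℂ)) (R : (L → ℂ) → Finset (G → ℂ)) (hS : Cfsg.IsCoherenceSystem S τ R) (hdeg : ∀ φ ∈ S, ∀ ψ ∈ S, φ 1 = ψ 1) : Cfsg.IsCoherent S {1}ᶜ τ := by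
  classical
  obtain ⟨χ₀, hχ₀⟩ := hS.nonempty
  have hτ := hS.isometry
  have hd : χ₀ 1 ≠ 0 := by
    intro h0
    have := isChar_eq_zero_of_one (hS.isCharacter χ₀ hχ₀) h0
    apply hS.conj_ne χ₀ hχ₀
    rw [this]
    funext x
    simp [conjFun]
  refine ⟨⟨χ₀ - conjFun χ₀, conj_sub_mem_E hS hχ₀, ?_⟩, ?_⟩
  · intro h
    exact hS.conj_ne χ₀ hχ₀ (sub_eq_zero.mp h).symm
  obtain ⟨X, hXgen, hXnorm, hX3⟩ := exists_X hS hdeg hχ₀
  set c : (L → ℂ) → ℂ := fun α => α 1 / χ₀ 1 with hc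
  have hcadd : ∀ α β : L → ℂ, c (α + β) = c α + c β := by
    intro α β
    simp only [hc, Pi.add_apply]
    ring
  have hcsmul : ∀ (n : ℤ) (α : L → ℂ), c (n • α) = n * c α := by
    intro n α
    show (n • α) 1 / χ₀ 1 = n * (α 1 / χ₀ 1)
    rw [Pi.smul_apply, zsmul_eq_mul]
    ring
  have hcint : ∀ α ∈ zspan S, ∃ m : ℤ, c α = m := by
    intro α hα
    refine Submodule.span_induction (p := fun x _ => ∃ m : ℤ, c x = m) ?_ ?_ ?_ ?_ hα
    · intro φ hφ
      refine ⟨1, ?_⟩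
      simp only [hc]
      rw [hdeg φ hφ χ₀ hχ₀, div_self hd]
      simp
    · exact ⟨0, by simp [hc]⟩
    · rintro x y - - ⟨m₁, h₁⟩ ⟨m₂, h₂⟩
      exact ⟨m₁ + m₂, by rw [hcadd, h₁, h₂]; push_cast; ring⟩
    · rintro n x - ⟨m, hm⟩
      exact ⟨n * m, by rw [hcsmul, hm]; push_cast; ring⟩
  have hredE : ∀ α ∈ zspan S, α - c α • χ₀ ∈ zspanOn S {1}ᶜ := by
    intro α hα
    obtain ⟨m, hm⟩ := hcint α hα
    refine ⟨?_, ?_⟩
    · rw [hm]
      have e : ((m : ℤ) : ℂ) • χ₀ = m • χ₀ := Int.cast_smul_eq_zsmul ℂ m χ₀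
      rw [e]
      exact Submodule.sub_mem _ hα (Submodule.smul_mem _ m (Submodule.subset_span hχ₀))
    · intro x hx
      have hx1 : x = 1 := by
        by_contra h
        exact hx h
      rw [hx1, Pi.sub_apply, Pi.smul_apply, smul_eq_mul]
      simp only [hc]
      field_simp
      ring
  have hredadd : ∀ α β : L → ℂ,
      (α + β) - c (α + β) • χ₀ = (α - c α • χ₀) + (β - c β • χ₀) := by
    intro α β
    rw [hcadd, add_smul]
    abel
  have hredsmul : ∀ (n : ℤ) (α : L → ℂ), (n • α) - c (n • α) • χ₀ = n • (α - c α • χ₀) := by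
    intro n α
    rw [hcsmul, smul_sub, mul_smul]
    congr 1
    exact Int.cast_smul_eq_zsmul ℂ n _
  have hK : ∀ α ∈ zspan S,
      classInner (τ (α - c α • χ₀)) X = classInner (α - c α • χ₀) χ₀ := by
    intro α hα
    refine Submodule.span_induction
      (p := fun x _ => classInner (τ (x - c x • χ₀)) X = classInner (x - c x • χ₀) χ₀)
      ?_ ?_ ?_ ?_ hα
    · intro φ hφ
      have hc1 : c φ = 1 := by
        simp only [hc]
        rw [hdeg φ hφ χ₀ hχ₀, div_self hd]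
      rw [hc1, one_smul]
      by_cases e : φ = χ₀
      · rw [e, sub_self, tau_zero hτ, classInner_zero_left, classInner_zero_left]
      · have e1 : φ - χ₀ = (-1 : ℤ) • (χ₀ - φ) := by
          rw [neg_one_zsmul, neg_sub]
        rw [e1, hτ.2.1 _ (sub_mem_E hχ₀ hφ (hdeg φ hφ χ₀ hχ₀)) (-1), neg_one_zsmul,
          neg_one_zsmul, classInner_neg_left, classInner_neg_left, hX3 φ hφ e,
          classInner_sub_left, hS.orthogonal φ hφ χ₀ hχ₀ e]
        ring
    · have e0 : (0 : L → ℂ) - c 0 • χ₀ = 0 := by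
        simp [hc]
      rw [e0, tau_zero hτ, classInner_zero_left, classInner_zero_left]
    · intro x y hx hy ihx ihy
      rw [hredadd, hτ.1 _ (hredE x hx) _ (hredE y hy), classInner_add_left,
        classInner_add_left, ihx, ihy]
    · intro n x hx ih
      rw [hredsmul, hτ.2.1 _ (hredE x hx) n, ← Int.cast_smul_eq_zsmul ℂ n (τ _),
        ← Int.cast_smul_eq_zsmul ℂ n (x - c x • χ₀), classInner_smul_left,
        classInner_smul_left, ih]
  refine ⟨fun α => τ (α - c α • χ₀) + c α • X, ⟨?_, ?_, ?_, ?_⟩, ?_⟩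
  · intro α hα β hβ
    show τ ((α + β) - c (α + β) • χ₀) + c (α + β) • X =
      (τ (α - c α • χ₀) + c α • X) + (τ (β - c β • χ₀) + c β • X)
    rw [hredadd, hτ.1 _ (hredE α hα) _ (hredE β hβ), hcadd, add_smul]
    abel
  · intro α hα n
    show τ ((n • α) - c (n • α) • χ₀) + c (n • α) • X = n • (τ (α - c α • χ₀) + c α • X)
    rw [hredsmul, hτ.2.1 _ (hredE α hα) n, hcsmul, smul_add, mul_smul]
    congr 1
    exact Int.cast_smul_eq_zsmul ℂ n _
  · intro α hα β hβ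
    show classInner (τ (α - c α • χ₀) + c α • X) (τ (β - c β • χ₀) + c β • X) = classInner α β
    have L1 : classInner (τ (α - c α • χ₀) + c α • X) (τ (β - c β • χ₀) + c β • X) =
        classInner (τ (α - c α • χ₀)) (τ (β - c β • χ₀)) +
        (starRingEnd ℂ) (c β) * classInner (τ (α - c α • χ₀)) X +
        c α * classInner X (τ (β - c β • χ₀)) +
        c α * ((starRingEnd ℂ) (c β) * classInner X X) := by
      rw [classInner_add_left, classInner_add_right, classInner_add_right,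
        classInner_smul_right, classInner_smul_left, classInner_smul_left,
        classInner_smul_right]
      ring
    have R1 : classInner α β =
        classInner (α - c α • χ₀) (β - c β • χ₀) +
        (starRingEnd ℂ) (c β) * classInner (α - c α • χ₀) χ₀ +
        c α * classInner χ₀ (β - c β • χ₀) +
        c α * ((starRingEnd ℂ) (c β) * classInner χ₀ χ₀) := by
      have e : classInner α β =
          classInner ((α - c α • χ₀) + c α • χ₀) ((β - c β • χ₀) + c β • χ₀) := by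
        rw [sub_add_cancel, sub_add_cancel]
      rw [e, classInner_add_left, classInner_add_right, classInner_add_right,
        classInner_smul_right, classInner_smul_left, classInner_smul_left,
        classInner_smul_right]
      ring
    rw [L1, R1, hτ.2.2.1 _ (hredE α hα) _ (hredE β hβ), hK α hα, hXnorm,
      classInner_conj_symm X (τ (β - c β • χ₀)), hK β hβ,
      ← classInner_conj_symm χ₀ (β - c β • χ₀)]
  · intro α hα
    obtain ⟨m, hm⟩ := hcint α hα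
    show IsGeneralizedCharacter G (τ (α - c α • χ₀) + c α • X)
    refine isGenChar_add (hτ.2.2.2 _ (hredE α hα)) ?_
    rw [hm]
    exact isGenChar_int_smul m hXgen
  · intro α hα
    have h1 : α 1 = 0 := hα.2 1 (by simp)
    have hc0 : c α = 0 := by
      simp [hc, h1]
    show τ (α - c α • χ₀) + c α • X = τ α
    rw [hc0, zero_smul, zero_smul, sub_zero, add_zero]

end Cfsg.Agent.S1517
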