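import Cfsg.Statements.S1516
import Cfsg.Agent.S1517

set_option autoImplicit false
open Cfsg

namespace Cfsg.Agent.S1516

open Cfsg.Agent.Lib.Helper35 Cfsg.Agent.Lib.Helper4 Cfsg.Agent.S1517

section

variable {L : Type*} [Group L] [Fintype L] {G : Type*} [Group G] [Fintype G]

theorem mem_E_iff {S : Set (L → ℂ)} {α : L → ℂ} :
    α ∈ zspanOn S {1}ᶜ ↔ α ∈ Submodule.span ℤ S ∧ α 1 = 0 := by
  constructor
  · intro h
    exact ⟨h.1, h.2 1 (by simp)⟩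
  · intro h
    refine ⟨h.1, fun x hx => ?_⟩
    have hx1 : x = 1 := by
      by_contra h'
      exact hx h'
    rw [hx1]
    exact h.2

theorem E_mono {S S' : Set (L → ℂ)} (h : S ⊆ S') {α : L → ℂ} (hα : α ∈ zspanOn S {1}ᶜ) :
    α ∈ zspanOn S' {1}ᶜ :=
  ⟨Submodule.span_mono h hα.1, hα.2⟩

theorem lin_sub {F : Set (L → ℂ)} {σ : (L → ℂ) → (G → ℂ)} (h : IsLinearIsometryOn F σ)
    {α β : L → ℂ} (hα : α ∈ F) (hβ : β ∈ F) (hnβ : (-1 : ℤ) • β ∈ F) :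
    σ (α - β) = σ α - σ β := by
  have e : α - β = α + (-1 : ℤ) • β := by rw [neg_one_zsmul, sub_eq_add_neg]
  rw [e, h.1 α hα _ hnβ, h.2.1 β hβ (-1), neg_one_zsmul, sub_eq_add_neg]

theorem E_zsmul {S : Set (L → ℂ)} {α : L → ℂ} (hα : α ∈ zspanOn S {1}ᶜ) (m : ℤ) :
    m • α ∈ zspanOn S {1}ᶜ := by
  rw [mem_E_iff] at hα ⊢
  refine ⟨Submodule.smul_mem _ m hα.1, ?_⟩
  rw [Pi.smul_apply, hα.2, smul_zero]

theorem E_add {S : Set (L → ℂ)} {α β : L → ℂ} (hα : α ∈ zspanOn S {1}ᶜ)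
    (hβ : β ∈ zspanOn S {1}ᶜ) : α + β ∈ zspanOn S {1}ᶜ := by
  rw [mem_E_iff] at hα hβ ⊢
  refine ⟨Submodule.add_mem _ hα.1 hβ.1, ?_⟩
  rw [Pi.add_apply, hα.2, hβ.2, add_zero]

/-- Integral Bessel inequality for an orthonormal finite set. -/
theorem int_bessel [DecidableEq (G → ℂ)] (I : Finset (G → ℂ))
    (horth : ∀ α ∈ I, ∀ β ∈ I, classInner α β = if α = β then 1 else 0) (v : G → ℂ)
    (hint : ∀ α ∈ I, ∃ m : ℤ, classInner v α = m) (N : ℤ)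
    (hsum : ∑ α ∈ I, classInner v α = (N : ℂ)) :
    ∃ (q : ℤ) (r : ℝ), N ≤ q ∧ 0 ≤ r ∧ classInner v v = (q : ℂ) + (r : ℂ) ∧
      (r = 0 → v = ∑ α ∈ I, classInner v α • α) := by
  have hinta : ∀ α, ∃ m : ℤ, α ∈ I → classInner v α = m := by
    intro α
    by_cases hα : α ∈ I
    · obtain ⟨m, hm⟩ := hint α hα
      exact ⟨m, fun _ => hm⟩
    · exact ⟨0, fun h => absurd h hα⟩
  choose a ha using hinta
  have hB := bessel_defect I horth v
  obtain ⟨r, hr0, hr⟩ := classInner_self_nonneg (v - ∑ α ∈ I, classInner v α • α)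
  have hA2 : ∑ α ∈ I, classInner v α * (starRingEnd ℂ) (classInner v α) =
      ((∑ α ∈ I, a α ^ 2 : ℤ) : ℂ) := by
    push_cast
    refine Finset.sum_congr rfl fun α hα => ?_
    rw [ha α hα, map_intCast]
    ring
  have hA1 : (∑ α ∈ I, a α : ℤ) = N := by
    have : ((∑ α ∈ I, a α : ℤ) : ℂ) = (N : ℂ) := by
      push_cast
      rw [← hsum]
      exact Finset.sum_congr rfl fun α hα => (ha α hα).symm
    exact_mod_cast this
  have hA21 : (∑ α ∈ I, a α : ℤ) ≤ ∑ α ∈ I, a α ^ 2 :=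
    Finset.sum_le_sum fun α _ => Int.le_self_sq (a α)
  refine ⟨∑ α ∈ I, a α ^ 2, r, by omega, hr0, ?_, ?_⟩
  · rw [← hA2, ← hr, hB]
    ring
  · intro h0
    have hw : v - ∑ α ∈ I, classInner v α • α = 0 := by
      apply classInner_self_eq_zero'
      rw [hr, h0]
      simp
    exact sub_eq_zero.mp hw

open Classical in
/-- The extension `τ₁` maps `φ ∈ S₁` into the span of `R φ`, hence orthogonally to `R χ`. -/
theorem tau1_orth {S : Set (L → ℂ)} {τ : (L → ℂ) → (G → ℂ)} {R : (L → ℂ) → Finset (G → ℂ)}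
    (hS : IsCoherenceSystem S τ R) (S₁ : Finset (L → ℂ)) (hS₁ : ↑S₁ ⊆ S)
    (hS₁c : ∀ φ ∈ S₁, conjFun φ ∈ S₁) (τ₁ : (L → ℂ) → (G → ℂ))
    (hτ₁ : IsLinearIsometryOn (zspan (↑S₁ : Set (L → ℂ))) τ₁)
    (hagree : ∀ α ∈ zspanOn (↑S₁ : Set (L → ℂ)) {1}ᶜ, τ₁ α = τ α)
    {χ : L → ℂ} (hχ : χ ∈ S) (hχ₁ : χ ∉ S₁) (hχ₂ : conjFun χ ∉ S₁) {φ : L → ℂ} (hφ : φ ∈ S₁) :
    ∀ β ∈ R χ, classInner (τ₁ φ) β = 0 := by
  have hφS : φ ∈ S := hS₁ hφ
  have hφc : conjFun φ ∈ S₁ := hS₁c φ hφ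
  have hφ1 : φ ≠ χ := fun h => hχ₁ (h ▸ hφ)
  have hφ2 : φ ≠ conjFun χ := fun h => hχ₂ (h ▸ hφ)
  have hmemφ : φ ∈ zspan (↑S₁ : Set (L → ℂ)) := Submodule.subset_span hφ
  have hmemφc : conjFun φ ∈ zspan (↑S₁ : Set (L → ℂ)) := Submodule.subset_span hφc
  have hneg : (-1 : ℤ) • conjFun φ ∈ zspan (↑S₁ : Set (L → ℂ)) :=
    Submodule.smul_mem _ _ hmemφc
  have hE₁ : φ - conjFun φ ∈ zspanOn (↑S₁ : Set (L → ℂ)) {1}ᶜ :=
    sub_mem_E (S := (↑S₁ : Set (L → ℂ))) hφ hφc (conjFun_one_char (hS.isCharacter φ hφS))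
  have hdiff : ∑ α ∈ R φ, α = τ₁ φ - τ₁ (conjFun φ) := by
    rw [← hS.sum_eq φ hφS, ← hagree _ hE₁, lin_sub hτ₁ hmemφ hmemφc hneg]
  obtain ⟨k, hk⟩ := classInner_char_nat (hS.isCharacter φ hφS) (hS.isCharacter φ hφS)
  have huu : classInner (τ₁ φ) (τ₁ φ) = (k : ℂ) := by
    rw [hτ₁.2.2.1 φ hmemφ φ hmemφ, hk]
  have huu' : classInner (τ₁ φ) (τ₁ (conjFun φ)) = 0 := by
    rw [hτ₁.2.2.1 φ hmemφ _ hmemφc]
    exact hS.orthogonal φ hφS _ (hS.conj_mem φ hφS) (Ne.symm (hS.conj_ne φ hφS))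
  have hsum : ∑ α ∈ R φ, classInner (τ₁ φ) α = (((k : ℕ) : ℤ) : ℂ) := by
    rw [← classInner_sum_right, hdiff, classInner_sub_right, huu, huu']
    simp
  have hugen : IsGeneralizedCharacter G (τ₁ φ) := hτ₁.2.2.2 φ hmemφ
  obtain ⟨q, r, hq, hr, hvv, hzero⟩ := int_bessel (R φ) (hS.orthonormal φ hφS) (τ₁ φ)
    (fun α hα => classInner_gen_int hugen (hS.virtual φ hφS α hα)) k hsum
  have hr0 : r = 0 := by
    rw [huu] at hvv
    have h1 : ((k : ℕ) : ℝ) = (q : ℝ) + r := by exact_mod_cast hvv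
    have hq' : ((k : ℕ) : ℝ) ≤ (q : ℝ) := by exact_mod_cast hq
    linarith
  have hu := hzero hr0
  intro β hβ
  have e : classInner (τ₁ φ) β = classInner (∑ α ∈ R φ, classInner (τ₁ φ) α • α) β := by
    rw [← hu]
  rw [e, classInner_sum_left]
  apply Finset.sum_eq_zero
  intro α hα
  rw [classInner_smul_left, R_orth hS hχ hφS hφ1 hφ2 α hα β hβ, mul_zero]

open Classical in
theorem exists_X {S : Set (L → ℂ)} {τ : (L → ℂ) → (G → ℂ)} {R : (L → ℂ) → Finset (G → ℂ)}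
    (hS : IsCoherenceSystem S τ R) (d n : (L → ℂ) → ℕ) (hd : ∀ φ ∈ S, φ 1 = (d φ : ℂ))
    (hn : ∀ φ ∈ S, classInner φ φ = (n φ : ℂ)) (S₁ : Finset (L → ℂ)) (hS₁ : ↑S₁ ⊆ S)
    (hS₁c : ∀ φ ∈ S₁, conjFun φ ∈ S₁) (τ₁ : (L → ℂ) → (G → ℂ))
    (hτ₁ : IsLinearIsometryOn (zspan (↑S₁ : Set (L → ℂ))) τ₁)
    (hagree : ∀ α ∈ zspanOn (↑S₁ : Set (L → ℂ)) {1}ᶜ, τ₁ α = τ α)
    {χ : L → ℂ} (hχ : χ ∈ S) (hχ₁ : χ ∉ S₁) (hχ₂ : conjFun χ ∉ S₁) {χ₁ : L → ℂ}
    (hχ₁S : χ₁ ∈ S₁) (a : ℕ) (ha : d χ = d χ₁ * a)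
    (hineq : (2 * d χ * d χ₁ : ℝ) < ∑ φ ∈ S₁, ((d φ : ℝ) ^ 2 / (n φ : ℝ))) :
    χ - ((a : ℤ) : ℂ) • χ₁ ∈ zspanOn S {1}ᶜ ∧
    IsGeneralizedCharacter G (τ (χ - ((a : ℤ) : ℂ) • χ₁) + ((a : ℤ) : ℂ) • τ₁ χ₁) ∧
    classInner (τ (χ - ((a : ℤ) : ℂ) • χ₁) + ((a : ℤ) : ℂ) • τ₁ χ₁)
      (τ (χ - ((a : ℤ) : ℂ) • χ₁) + ((a : ℤ) : ℂ) • τ₁ χ₁) = classInner χ χ ∧
    (∀ φ ∈ S₁, classInner (τ (χ - ((a : ℤ) : ℂ) • χ₁) + ((a : ℤ) : ℂ) • τ₁ χ₁) (τ₁ φ) = 0) ∧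
    (∑ α ∈ R χ, classInner (τ (χ - ((a : ℤ) : ℂ) • χ₁) + ((a : ℤ) : ℂ) • τ₁ χ₁) α =
      classInner χ χ) := by
  have hτ := hS.isometry
  have hχ₁S' : χ₁ ∈ S := hS₁ hχ₁S
  have hdχ := hd χ hχ
  have hdχ₁ := hd χ₁ hχ₁S'
  have hnχ := hn χ hχ
  have hnχ₁ := hn χ₁ hχ₁S'
  have hd₁0 : d χ₁ ≠ 0 := by
    intro h0
    have h1 : χ₁ 1 = 0 := by rw [hdχ₁, h0]; simp
    have h2 := isChar_eq_zero_of_one (hS.isCharacter χ₁ hχ₁S') h1
    apply hS.conj_ne χ₁ hχ₁S'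
    rw [h2]
    funext x
    simp [conjFun]
  have hmem₁ : χ₁ ∈ zspan (↑S₁ : Set (L → ℂ)) := Submodule.subset_span hχ₁S
  obtain ⟨β, hβ⟩ : ∃ β : L → ℂ, β = χ - ((a : ℤ) : ℂ) • χ₁ := ⟨_, rfl⟩
  have hβE : β ∈ zspanOn S {1}ᶜ := by
    rw [mem_E_iff]
    refine ⟨?_, ?_⟩
    · rw [hβ, Int.cast_smul_eq_zsmul ℂ (a : ℤ) χ₁]
      exact Submodule.sub_mem _ (Submodule.subset_span hχ)
        (Submodule.smul_mem _ _ (Submodule.subset_span hχ₁S'))
    · rw [hβ, Pi.sub_apply, Pi.smul_apply, smul_eq_mul, hdχ, hdχ₁, ha]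
      push_cast
      ring
  obtain ⟨T₁, hT₁⟩ : ∃ T₁ : G → ℂ, T₁ = τ₁ χ₁ := ⟨_, rfl⟩
  have hT₁gen : IsGeneralizedCharacter G T₁ := by rw [hT₁]; exact hτ₁.2.2.2 χ₁ hmem₁
  obtain ⟨X, hX⟩ : ∃ X : G → ℂ, X = τ β + ((a : ℤ) : ℂ) • T₁ := ⟨_, rfl⟩
  have hXgen : IsGeneralizedCharacter G X := by
    rw [hX]
    exact isGenChar_add (hτ.2.2.2 β hβE) (isGenChar_int_smul a hT₁gen)
  have hτβ : τ β = X - ((a : ℤ) : ℂ) • T₁ := by rw [hX]; abel
  have oχφ : ∀ φ ∈ S₁, classInner χ φ = 0 := fun φ hφ =>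
    hS.orthogonal χ hχ φ (hS₁ hφ) (fun h => hχ₁ (h ▸ hφ))
  have oφχ : ∀ φ ∈ S₁, classInner φ χ = 0 := fun φ hφ =>
    hS.orthogonal φ (hS₁ hφ) χ hχ (fun h => hχ₁ (h ▸ hφ))
  have oφχc : ∀ φ ∈ S₁, classInner φ (conjFun χ) = 0 := fun φ hφ =>
    hS.orthogonal φ (hS₁ hφ) _ (hS.conj_mem χ hχ) (fun h => hχ₂ (h ▸ hφ))
  have oχχc : classInner χ (conjFun χ) = 0 :=
    hS.orthogonal χ hχ _ (hS.conj_mem χ hχ) (Ne.symm (hS.conj_ne χ hχ))
  have F1 : ∀ φ ∈ S₁, ∀ α ∈ R χ, classInner (τ₁ φ) α = 0 := fun φ hφ =>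
    tau1_orth hS S₁ hS₁ hS₁c τ₁ hτ₁ hagree hχ hχ₁ hχ₂ hφ
  have hTT : classInner T₁ T₁ = (n χ₁ : ℂ) := by
    rw [hT₁, hτ₁.2.2.1 χ₁ hmem₁ χ₁ hmem₁, hnχ₁]
  obtain ⟨y, hy⟩ := classInner_gen_int hXgen hT₁gen
  have hTX : classInner T₁ X = (y : ℂ) := by
    rw [classInner_conj_symm, hy, map_intCast]
  -- the relation between the multiplicities
  have hstar : ∀ φ ∈ S₁, (d φ : ℂ) * (y : ℂ) = (d χ₁ : ℂ) * classInner X (τ₁ φ) := by
    intro φ hφ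
    have hφS := hS₁ hφ
    have hmemφ : φ ∈ zspan (↑S₁ : Set (L → ℂ)) := Submodule.subset_span hφ
    obtain ⟨γ, hγ⟩ : ∃ γ : L → ℂ, γ = ((d φ : ℤ) : ℂ) • χ₁ - ((d χ₁ : ℤ) : ℂ) • φ := ⟨_, rfl⟩
    have hγ' : γ = (d φ : ℤ) • χ₁ - (d χ₁ : ℤ) • φ := by
      rw [hγ, Int.cast_smul_eq_zsmul, Int.cast_smul_eq_zsmul]
    have hγE₁ : γ ∈ zspanOn (↑S₁ : Set (L → ℂ)) {1}ᶜ := by
      rw [mem_E_iff]
      refine ⟨?_, ?_⟩
      · rw [hγ']
        exact Submodule.sub_mem _ (Submodule.smul_mem _ _ hmem₁) (Submodule.smul_mem _ _ hmemφ)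
      · rw [hγ, Pi.sub_apply, Pi.smul_apply, Pi.smul_apply, smul_eq_mul, smul_eq_mul, hdχ₁,
          hd φ hφS]
        push_cast
        ring
    have hγE : γ ∈ zspanOn S {1}ᶜ := E_mono hS₁ hγE₁
    have hτ₁γ : τ₁ γ = ((d φ : ℤ) : ℂ) • T₁ - ((d χ₁ : ℤ) : ℂ) • τ₁ φ := by
      rw [hγ', lin_sub hτ₁ (Submodule.smul_mem _ _ hmem₁) (Submodule.smul_mem _ _ hmemφ)
        (Submodule.smul_mem _ _ (Submodule.smul_mem _ _ hmemφ)), hτ₁.2.1 χ₁ hmem₁,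
        hτ₁.2.1 φ hmemφ, Int.cast_smul_eq_zsmul, Int.cast_smul_eq_zsmul, hT₁]
    have h1 : classInner (τ β) (τ γ) = classInner β γ := hτ.2.2.1 β hβE γ hγE
    rw [← hagree γ hγE₁, hτ₁γ, hτβ] at h1
    have hL : classInner (X - ((a : ℤ) : ℂ) • T₁)
        (((d φ : ℤ) : ℂ) • T₁ - ((d χ₁ : ℤ) : ℂ) • τ₁ φ) =
        (d φ : ℂ) * (y : ℂ) - (d χ₁ : ℂ) * classInner X (τ₁ φ) -
          (a : ℂ) * (d φ : ℂ) * (n χ₁ : ℂ) + (a : ℂ) * (d χ₁ : ℂ) * classInner χ₁ φ := by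
      rw [classInner_sub_left, classInner_sub_right, classInner_sub_right,
        classInner_smul_right, classInner_smul_right, classInner_smul_left,
        classInner_smul_left, classInner_smul_right, classInner_smul_right, map_intCast,
        map_intCast, hy, hTT]
      have e : classInner T₁ (τ₁ φ) = classInner χ₁ φ := by
        rw [hT₁, hτ₁.2.2.1 χ₁ hmem₁ φ hmemφ]
      rw [e]
      push_cast
      ring
    have hR : classInner β γ =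
        -((a : ℂ) * (d φ : ℂ) * (n χ₁ : ℂ)) + (a : ℂ) * (d χ₁ : ℂ) * classInner χ₁ φ := by
      rw [hβ, hγ, classInner_sub_left, classInner_sub_right, classInner_sub_right,
        classInner_smul_right, classInner_smul_right, classInner_smul_left,
        classInner_smul_left, classInner_smul_right, classInner_smul_right, map_intCast,
        map_intCast, oχφ χ₁ hχ₁S, oχφ φ hφ, hnχ₁]
      push_cast
      ring
    rw [hL, hR] at h1
    linear_combination h1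
  -- the norm of X
  have hXX : classInner X X = (n χ : ℂ) + 2 * (a : ℂ) * (y : ℂ) := by
    have h1 : classInner (τ β) (τ β) = classInner β β := hτ.2.2.1 β hβE β hβE
    rw [hτβ] at h1
    have hL : classInner (X - ((a : ℤ) : ℂ) • T₁) (X - ((a : ℤ) : ℂ) • T₁) =
        classInner X X - 2 * (a : ℂ) * (y : ℂ) + (a : ℂ) * (a : ℂ) * (n χ₁ : ℂ) := by
      rw [classInner_sub_left, classInner_sub_right, classInner_sub_right,
        classInner_smul_right, classInner_smul_left, classInner_smul_left,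
        classInner_smul_right, map_intCast, hy, hTX, hTT]
      push_cast
      ring
    have hR : classInner β β = (n χ : ℂ) + (a : ℂ) * (a : ℂ) * (n χ₁ : ℂ) := by
      rw [hβ, classInner_sub_left, classInner_sub_right, classInner_sub_right,
        classInner_smul_right, classInner_smul_left, classInner_smul_left,
        classInner_smul_right, map_intCast, oχφ χ₁ hχ₁S, oφχ χ₁ hχ₁S, hnχ, hnχ₁]
      push_cast
      ring
    rw [hL, hR] at h1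
    linear_combination h1
  -- sum of the coefficients on R χ
  have hsumX : ∑ α ∈ R χ, classInner X α = (n χ : ℂ) := by
    have e1 : classInner (τ β) (τ (χ - conjFun χ)) = (n χ : ℂ) := by
      rw [hτ.2.2.1 β hβE _ (conj_sub_mem_E hS hχ), hβ, classInner_sub_left,
        classInner_sub_right, classInner_sub_right, classInner_smul_left,
        classInner_smul_left, hnχ, oχχc, oφχ χ₁ hχ₁S, oφχc χ₁ hχ₁S]
      ring
    have e2 : classInner T₁ (∑ α ∈ R χ, α) = 0 := by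
      rw [classInner_sum_right, hT₁]
      exact Finset.sum_eq_zero fun α hα => F1 χ₁ hχ₁S α hα
    rw [← classInner_sum_right, hX, classInner_add_left, classInner_smul_left, e2,
      ← hS.sum_eq χ hχ, e1]
    ring
  -- the projection on the span of τ₁ S₁
  have hn0 : ∀ φ ∈ S₁, (n φ : ℂ) ≠ 0 := by
    intro φ hφ h0
    have hφS := hS₁ hφ
    have h1 : classInner φ φ = 0 := by rw [hn φ hφS, h0]
    have h2 := classInner_self_eq_zero' h1
    apply hS.conj_ne φ hφS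
    rw [h2]
    funext x
    simp [conjFun]
  have hττ : ∀ φ ∈ S₁, ∀ φ' ∈ S₁,
      classInner (τ₁ φ) (τ₁ φ') = if φ = φ' then (n φ : ℂ) else 0 := by
    intro φ hφ φ' hφ'
    rw [hτ₁.2.2.1 φ (Submodule.subset_span hφ) φ' (Submodule.subset_span hφ')]
    by_cases e : φ = φ'
    · rw [if_pos e, ← e, hn φ (hS₁ hφ)]
    · rw [if_neg e, hS.orthogonal φ (hS₁ hφ) φ' (hS₁ hφ') e]
  obtain ⟨Z, hZ⟩ : ∃ Z : G → ℂ,
      Z = ∑ φ ∈ S₁, (classInner X (τ₁ φ) / (n φ : ℂ)) • τ₁ φ := ⟨_, rfl⟩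
  have hZτ : ∀ φ' ∈ S₁, classInner Z (τ₁ φ') = classInner X (τ₁ φ') := by
    intro φ' hφ'
    rw [hZ, classInner_sum_left, Finset.sum_eq_single φ']
    · rw [classInner_smul_left, hττ φ' hφ' φ' hφ', if_pos rfl]
      exact div_mul_cancel₀ _ (hn0 φ' hφ')
    · intro φ hφ hne
      rw [classInner_smul_left, hττ φ hφ φ' hφ', if_neg hne, mul_zero]
    · intro h
      exact absurd hφ' h
  have hYτ : ∀ φ' ∈ S₁, classInner (X - Z) (τ₁ φ') = 0 := by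
    intro φ' hφ'
    rw [classInner_sub_left, hZτ φ' hφ', sub_self]
  have hYZ : classInner (X - Z) Z = 0 := by
    have e : classInner (X - Z) Z =
        classInner (X - Z) (∑ φ ∈ S₁, (classInner X (τ₁ φ) / (n φ : ℂ)) • τ₁ φ) := by
      rw [← hZ]
    rw [e, classInner_sum_right]
    apply Finset.sum_eq_zero
    intro φ hφ
    rw [classInner_smul_right, hYτ φ hφ, mul_zero]
  have hZY : classInner Z (X - Z) = 0 := by
    rw [classInner_conj_symm, hYZ, map_zero]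
  have hyφ : ∀ φ ∈ S₁, classInner X (τ₁ φ) = (d φ : ℂ) * (y : ℂ) / (d χ₁ : ℂ) := by
    intro φ hφ
    have h1 := hstar φ hφ
    have hd₁ : (d χ₁ : ℂ) ≠ 0 := by exact_mod_cast hd₁0
    rw [eq_div_iff hd₁]
    linear_combination -h1
  have hZZ : classInner Z Z = ((y : ℂ) ^ 2 / (d χ₁ : ℂ) ^ 2) *
      ∑ φ ∈ S₁, (d φ : ℂ) ^ 2 / (n φ : ℂ) := by
    have e : classInner Z Z =
        classInner Z (∑ φ ∈ S₁, (classInner X (τ₁ φ) / (n φ : ℂ)) • τ₁ φ) := by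
      rw [← hZ]
    rw [e, classInner_sum_right, Finset.mul_sum]
    refine Finset.sum_congr rfl fun φ hφ => ?_
    rw [classInner_smul_right, hZτ φ hφ, hyφ φ hφ, map_div₀, map_div₀, map_mul, map_natCast,
      map_intCast, map_natCast, map_natCast]
    have hd₁ : (d χ₁ : ℂ) ≠ 0 := by exact_mod_cast hd₁0
    have hnφ := hn0 φ hφ
    field_simp
  have hPyth : classInner X X = classInner (X - Z) (X - Z) + classInner Z Z := by
    have e : classInner X X = classInner ((X - Z) + Z) ((X - Z) + Z) := by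
      rw [sub_add_cancel]
    rw [e, classInner_add_left, classInner_add_right, classInner_add_right, hYZ, hZY]
    ring
  have hYα : ∀ α ∈ R χ, classInner (X - Z) α = classInner X α := by
    intro α hα
    have e : classInner Z α = 0 := by
      rw [hZ, classInner_sum_left]
      apply Finset.sum_eq_zero
      intro φ hφ
      rw [classInner_smul_left, F1 φ hφ α hα, mul_zero]
    rw [classInner_sub_left, e, sub_zero]
  have hintα : ∀ α ∈ R χ, ∃ m : ℤ, classInner (X - Z) α = m := by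
    intro α hα
    rw [hYα α hα]
    exact classInner_gen_int hXgen (hS.virtual χ hχ α hα)
  have hsumY : ∑ α ∈ R χ, classInner (X - Z) α = (((n χ : ℕ) : ℤ) : ℂ) := by
    rw [Finset.sum_congr rfl hYα, hsumX]
    simp
  obtain ⟨q, r, hq, hr, hYY, -⟩ := int_bessel (R χ) (hS.orthonormal χ hχ) (X - Z) hintα
    (n χ) hsumY
  have hmain : ((n χ : ℂ) + 2 * (a : ℂ) * (y : ℂ)) = (q : ℂ) + (r : ℂ) +
      ((y : ℂ) ^ 2 / (d χ₁ : ℂ) ^ 2) * ∑ φ ∈ S₁, (d φ : ℂ) ^ 2 / (n φ : ℂ) := by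
    rw [← hXX, hPyth, hYY, hZZ]
  have hmainR : ((n χ : ℝ) + 2 * (a : ℝ) * (y : ℝ)) = (q : ℝ) + r +
      ((y : ℝ) ^ 2 / (d χ₁ : ℝ) ^ 2) * ∑ φ ∈ S₁, (d φ : ℝ) ^ 2 / (n φ : ℝ) := by
    apply Complex.ofReal_injective
    push_cast
    exact hmain
  have hy0 : y = 0 := by
    by_contra hne
    have hy2 : (0 : ℝ) < (y : ℝ) ^ 2 := by
      have : (y : ℝ) ≠ 0 := by exact_mod_cast hne
      positivity
    have hyle : (y : ℝ) ≤ (y : ℝ) ^ 2 := by exact_mod_cast Int.le_self_sq y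
    have hd₁pos : (0 : ℝ) < d χ₁ := by exact_mod_cast Nat.pos_of_ne_zero hd₁0
    have hapos : (0 : ℝ) ≤ a := Nat.cast_nonneg a
    have hcoef : 0 < (y : ℝ) ^ 2 / (d χ₁ : ℝ) ^ 2 := by positivity
    have h1 := mul_lt_mul_of_pos_left hineq hcoef
    have h2 : ((y : ℝ) ^ 2 / (d χ₁ : ℝ) ^ 2) * (2 * (d χ : ℝ) * d χ₁) =
        2 * (a : ℝ) * (y : ℝ) ^ 2 := by
      have e : (d χ : ℝ) = d χ₁ * a := by exact_mod_cast ha
      rw [e]
      field_simp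
    have hqr : (n χ : ℝ) ≤ q := by exact_mod_cast hq
    nlinarith
  have hXφ : ∀ φ ∈ S₁, classInner X (τ₁ φ) = 0 := by
    intro φ hφ
    rw [hyφ φ hφ, hy0]
    simp
  subst hX
  subst hβ
  subst hT₁
  refine ⟨hβE, hXgen, ?_, hXφ, ?_⟩
  · rw [hXX, hy0, hnχ]
    simp
  · rw [hsumX, hnχ]

end

/-- Let (S, τ, R) be a coherence system from L to G with degrees φ 1 = d φ and squared norms ⟨φ, φ⟩ = n φ for φ ∈ S. Let S₁ ⊆ S be a finite subset closed under complex conjugation such that (S₁, L minus 1, τ) is coherent, let χ ∈ S with χ ∉ S₁ and conj χ ∉ S₁, and let χ₁ ∈ S₁ with d χ₁ dividing d χ and 2 d χ d χ₁ < Σ_{φ ∈ S₁} (d φ)² / n φ. Then S₁ together with χ and conj χ is coherent. -/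
theorem result {L : Type*} [Group L] [Fintype L] {G : Type*} [Group G] [Fintype G] (S : Set (L → ℂ)) (τ : (L → ℂ) → (G → ℂ)) (R : (L → ℂ) → Finset (G → ℂ)) (hS : Cfsg.IsCoherenceSystem S τ R) (d n : (L → ℂ) → ℕ) (hd : ∀ φ ∈ S, φ 1 = (d φ : ℂ)) (hn : ∀ φ ∈ S, Cfsg.classInner φ φ = (n φ : ℂ)) (S₁ : Finset (L → ℂ)) (hS₁ : ↑S₁ ⊆ S) (hS₁c : ∀ φ ∈ S₁, Cfsg.conjFun φ ∈ S₁) (hcoh : Cfsg.IsCoherent (↑S₁ : Set (L → ℂ)) {1}ᶜ τ) (χ : L → ℂ) (hχ : χ ∈ S) (hχ₁ : χ ∉ S₁) (hχ₂ : Cfsg.conjFun χ ∉ S₁) (χ₁ : L → ℂ) (hχ₁S : χ₁ ∈ S₁) (hdvd : d χ₁ ∣ d χ) (hineq : (2 * d χ * d χ₁ : ℝ) < ∑ φ ∈ S₁, ((d φ : ℝ) ^ 2 / (n φ : ℝ))) : Cfsg.IsCoherent (↑S₁ ∪ {χ, Cfsg.conjFun χ} : Set (L → ℂ)) {1}ᶜ τ := by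
  classical
  obtain ⟨-, τ₁, hτ₁, hagree⟩ := hcoh
  have hτ := hS.isometry
  obtain ⟨a, ha⟩ := hdvd
  obtain ⟨hβE, hXgen, hXX, hXφ, hsumX⟩ := exists_X hS d n hd hn S₁ hS₁ hS₁c τ₁ hτ₁ hagree hχ
    hχ₁ hχ₂ hχ₁S a ha hineq
  obtain ⟨β, hβ⟩ : ∃ β : L → ℂ, β = χ - ((a : ℤ) : ℂ) • χ₁ := ⟨_, rfl⟩
  rw [← hβ] at hβE hXgen hXX hXφ hsumX
  obtain ⟨X, hX⟩ : ∃ X : G → ℂ, X = τ β + ((a : ℤ) : ℂ) • τ₁ χ₁ := ⟨_, rfl⟩
  rw [← hX] at hXgen hXX hXφ hsumX
  obtain ⟨ρ, hρ⟩ : ∃ ρ : G → ℂ, ρ = τ (χ - conjFun χ) := ⟨_, rfl⟩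
  obtain ⟨X', hX'⟩ : ∃ X' : G → ℂ, X' = X - ρ := ⟨_, rfl⟩
  have hχc : conjFun χ ∈ S := hS.conj_mem χ hχ
  have hχ₁S' : χ₁ ∈ S := hS₁ hχ₁S
  have hmem₁ : χ₁ ∈ zspan (↑S₁ : Set (L → ℂ)) := Submodule.subset_span hχ₁S
  have hnχ := hn χ hχ
  have hnχ0 : (n χ : ℂ) ≠ 0 := by
    intro h0
    have h1 : classInner χ χ = 0 := by rw [hnχ, h0]
    have h2 := classInner_self_eq_zero' h1
    apply hS.conj_ne χ hχ
    rw [h2]
    funext x
    simp [conjFun]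
  have hncc : classInner (conjFun χ) (conjFun χ) = (n χ : ℂ) := by
    rw [classInner_conjFun, hnχ, Complex.conj_natCast]
  have oχχc : classInner χ (conjFun χ) = 0 :=
    hS.orthogonal χ hχ _ hχc (Ne.symm (hS.conj_ne χ hχ))
  have oχcχ : classInner (conjFun χ) χ = 0 :=
    hS.orthogonal _ hχc χ hχ (hS.conj_ne χ hχ)
  have oφχ : ∀ φ ∈ S₁, classInner φ χ = 0 := fun φ hφ =>
    hS.orthogonal φ (hS₁ hφ) χ hχ (fun h => hχ₁ (h ▸ hφ))
  have oφχc : ∀ φ ∈ S₁, classInner φ (conjFun χ) = 0 := fun φ hφ =>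
    hS.orthogonal φ (hS₁ hφ) _ hχc (fun h => hχ₂ (h ▸ hφ))
  have hEc := conj_sub_mem_E hS hχ
  have hρsum : ρ = ∑ α ∈ R χ, α := by rw [hρ, hS.sum_eq χ hχ]
  have hρgen : IsGeneralizedCharacter G ρ := by rw [hρ]; exact hτ.2.2.2 _ hEc
  have hX'gen : IsGeneralizedCharacter G X' := by rw [hX']; exact isGenChar_sub hXgen hρgen
  have hXρ : classInner X ρ = (n χ : ℂ) := by
    rw [hρsum, classInner_sum_right, hsumX, hnχ]
  have hρX : classInner ρ X = (n χ : ℂ) := by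
    rw [classInner_conj_symm, hXρ, Complex.conj_natCast]
  have hρρ : classInner ρ ρ = 2 * (n χ : ℂ) := by
    rw [hρ, hτ.2.2.1 _ hEc _ hEc, classInner_sub_left, classInner_sub_right,
      classInner_sub_right, hnχ, oχχc, oχcχ, hncc]
    ring
  have hXXn : classInner X X = (n χ : ℂ) := by rw [hXX, hnχ]
  have hX'X' : classInner X' X' = (n χ : ℂ) := by
    rw [hX', classInner_sub_left, classInner_sub_right, classInner_sub_right, hXXn, hXρ, hρX,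
      hρρ]
    ring
  have hXX' : classInner X X' = 0 := by
    rw [hX', classInner_sub_right, hXXn, hXρ, sub_self]
  have hX'X : classInner X' X = 0 := by
    rw [classInner_conj_symm, hXX', map_zero]
  have F1 : ∀ φ ∈ S₁, ∀ α ∈ R χ, classInner (τ₁ φ) α = 0 := fun φ hφ =>
    tau1_orth hS S₁ hS₁ hS₁c τ₁ hτ₁ hagree hχ hχ₁ hχ₂ hφ
  have hτ₁ρ : ∀ φ ∈ S₁, classInner (τ₁ φ) ρ = 0 := by
    intro φ hφ
    rw [hρsum, classInner_sum_right]
    exact Finset.sum_eq_zero (F1 φ hφ)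
  have hO : ∀ γ ∈ zspan (↑S₁ : Set (L → ℂ)),
      classInner (τ₁ γ) X = 0 ∧ classInner (τ₁ γ) X' = 0 := by
    intro γ hγ
    refine Submodule.span_induction
      (p := fun x _ => classInner (τ₁ x) X = 0 ∧ classInner (τ₁ x) X' = 0) ?_ ?_ ?_ ?_ hγ
    · intro φ hφ
      have hφ' : φ ∈ S₁ := hφ
      have e1 : classInner (τ₁ φ) X = 0 := by
        rw [classInner_conj_symm, hXφ φ hφ', map_zero]
      exact ⟨e1, by rw [hX', classInner_sub_right, e1, hτ₁ρ φ hφ', sub_zero]⟩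
    · have h0 : τ₁ 0 = 0 := by
        have := hτ₁.2.1 0 (Submodule.zero_mem _) 0
        rwa [zero_smul, zero_smul] at this
      rw [h0]
      exact ⟨classInner_zero_left _, classInner_zero_left _⟩
    · intro x y hx hy ihx ihy
      rw [hτ₁.1 x hx y hy, classInner_add_left, classInner_add_left, ihx.1, ihy.1, ihx.2,
        ihy.2]
      simp
    · intro k x hx ih
      rw [hτ₁.2.1 x hx k, ← Int.cast_smul_eq_zsmul ℂ k (τ₁ x), classInner_smul_left,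
        classInner_smul_left, ih.1, ih.2]
      simp
  -- coefficient maps
  obtain ⟨m, hm⟩ : ∃ m : (L → ℂ) → ℂ, m = fun α => classInner α χ / (n χ : ℂ) := ⟨_, rfl⟩
  obtain ⟨m', hm'⟩ : ∃ m' : (L → ℂ) → ℂ,
      m' = fun α => classInner α (conjFun χ) / (n χ : ℂ) := ⟨_, rfl⟩
  obtain ⟨p, hp⟩ : ∃ p : (L → ℂ) → (L → ℂ),
      p = fun α => α - m α • χ - m' α • conjFun χ := ⟨_, rfl⟩
  have hmadd : ∀ α β : L → ℂ, m (α + β) = m α + m β := by
    intro α β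
    rw [hm]
    show classInner (α + β) χ / (n χ : ℂ) = classInner α χ / (n χ : ℂ) + classInner β χ / (n χ : ℂ)
    rw [classInner_add_left]
    ring
  have hm'add : ∀ α β : L → ℂ, m' (α + β) = m' α + m' β := by
    intro α β
    rw [hm']
    show classInner (α + β) (conjFun χ) / (n χ : ℂ) =
      classInner α (conjFun χ) / (n χ : ℂ) + classInner β (conjFun χ) / (n χ : ℂ)
    rw [classInner_add_left]
    ring
  have hmsmul : ∀ (k : ℤ) (α : L → ℂ), m (k • α) = k * m α := by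
    intro k α
    rw [hm]
    show classInner (k • α) χ / (n χ : ℂ) = k * (classInner α χ / (n χ : ℂ))
    rw [← Int.cast_smul_eq_zsmul ℂ k α, classInner_smul_left]
    ring
  have hm'smul : ∀ (k : ℤ) (α : L → ℂ), m' (k • α) = k * m' α := by
    intro k α
    rw [hm']
    show classInner (k • α) (conjFun χ) / (n χ : ℂ) = k * (classInner α (conjFun χ) / (n χ : ℂ))
    rw [← Int.cast_smul_eq_zsmul ℂ k α, classInner_smul_left]
    ring
  have hpdef : ∀ α : L → ℂ, p α = α - m α • χ - m' α • conjFun χ := by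
    intro α
    rw [hp]
  have hmdef : ∀ α : L → ℂ, m α = classInner α χ / (n χ : ℂ) := by
    intro α
    rw [hm]
  have hm'def : ∀ α : L → ℂ, m' α = classInner α (conjFun χ) / (n χ : ℂ) := by
    intro α
    rw [hm']
  have hpadd : ∀ α β : L → ℂ, p (α + β) = p α + p β := by
    intro α β
    rw [hpdef, hpdef, hpdef, hmadd, hm'add, add_smul, add_smul]
    abel
  have hpsmul : ∀ (k : ℤ) (α : L → ℂ), p (k • α) = k • p α := by
    intro k α
    rw [hpdef, hpdef, hmsmul, hm'smul, smul_sub, smul_sub, mul_smul, mul_smul,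
      Int.cast_smul_eq_zsmul, Int.cast_smul_eq_zsmul]
  have hpχ : ∀ α : L → ℂ, classInner (p α) χ = 0 := by
    intro α
    rw [hpdef, classInner_sub_left, classInner_sub_left, classInner_smul_left,
      classInner_smul_left, hnχ, oχcχ, hmdef]
    field_simp
    ring
  have hpχc : ∀ α : L → ℂ, classInner (p α) (conjFun χ) = 0 := by
    intro α
    rw [hpdef, classInner_sub_left, classInner_sub_left, classInner_smul_left,
      classInner_smul_left, hncc, oχχc, hm'def]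
    field_simp
    ring
  have hdecomp : ∀ α : L → ℂ, α = p α + m α • χ + m' α • conjFun χ := by
    intro α
    rw [hpdef]
    abel
  have hQ : ∀ α ∈ zspan (↑S₁ ∪ {χ, conjFun χ} : Set (L → ℂ)),
      (∃ k : ℤ, m α = k) ∧ (∃ k' : ℤ, m' α = k') ∧ p α ∈ zspan (↑S₁ : Set (L → ℂ)) := by
    intro α hα
    refine Submodule.span_induction
      (p := fun x _ => (∃ k : ℤ, m x = k) ∧ (∃ k' : ℤ, m' x = k') ∧
        p x ∈ zspan (↑S₁ : Set (L → ℂ))) ?_ ?_ ?_ ?_ hα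
    · intro φ hφ
      rcases hφ with hφ | hφ | hφ
      · have hφ' : φ ∈ S₁ := hφ
        have e1 : m φ = 0 := by rw [hmdef, oφχ φ hφ', zero_div]
        have e2 : m' φ = 0 := by rw [hm'def, oφχc φ hφ', zero_div]
        refine ⟨⟨0, by rw [e1]; simp⟩, ⟨0, by rw [e2]; simp⟩, ?_⟩
        have e3 : p φ = φ := by rw [hpdef, e1, e2]; simp
        rw [e3]
        exact Submodule.subset_span hφ
      · have e1 : m χ = 1 := by rw [hmdef, hnχ, div_self hnχ0]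
        have e2 : m' χ = 0 := by rw [hm'def, oχχc, zero_div]
        rw [hφ]
        refine ⟨⟨1, by rw [e1]; simp⟩, ⟨0, by rw [e2]; simp⟩, ?_⟩
        have e3 : p χ = 0 := by rw [hpdef, e1, e2]; simp
        rw [e3]
        exact Submodule.zero_mem _
      · have hφ' : φ = conjFun χ := hφ
        have e1 : m (conjFun χ) = 0 := by rw [hmdef, oχcχ, zero_div]
        have e2 : m' (conjFun χ) = 1 := by rw [hm'def, hncc, div_self hnχ0]
        rw [hφ']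
        refine ⟨⟨0, by rw [e1]; simp⟩, ⟨1, by rw [e2]; simp⟩, ?_⟩
        have e3 : p (conjFun χ) = 0 := by rw [hpdef, e1, e2]; simp
        rw [e3]
        exact Submodule.zero_mem _
    · have e1 : m 0 = 0 := by rw [hmdef, classInner_zero_left, zero_div]
      have e2 : m' 0 = 0 := by rw [hm'def, classInner_zero_left, zero_div]
      refine ⟨⟨0, by rw [e1]; simp⟩, ⟨0, by rw [e2]; simp⟩, ?_⟩
      have e3 : p 0 = 0 := by rw [hpdef, e1, e2]; simp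
      rw [e3]
      exact Submodule.zero_mem _
    · rintro x y - - ⟨⟨k₁, h₁⟩, ⟨k₁', h₁'⟩, hx⟩ ⟨⟨k₂, h₂⟩, ⟨k₂', h₂'⟩, hy⟩
      refine ⟨⟨k₁ + k₂, by rw [hmadd, h₁, h₂]; push_cast; ring⟩,
        ⟨k₁' + k₂', by rw [hm'add, h₁', h₂']; push_cast; ring⟩, ?_⟩
      rw [hpadd]
      exact Submodule.add_mem _ hx hy
    · rintro k x - ⟨⟨k₁, h₁⟩, ⟨k₁', h₁'⟩, hx⟩
      refine ⟨⟨k * k₁, by rw [hmsmul, h₁]; push_cast; ring⟩,
        ⟨k * k₁', by rw [hm'smul, h₁']; push_cast; ring⟩, ?_⟩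
      rw [hpsmul]
      exact Submodule.smul_mem _ k hx
  have hχS₂ : χ ∈ (↑S₁ ∪ {χ, conjFun χ} : Set (L → ℂ)) := by simp
  have hχcS₂ : conjFun χ ∈ (↑S₁ ∪ {χ, conjFun χ} : Set (L → ℂ)) := by simp
  refine ⟨⟨χ - conjFun χ, sub_mem_E hχS₂ hχcS₂ (conjFun_one_char (hS.isCharacter χ hχ)), ?_⟩,
    fun α => τ₁ (p α) + m α • X + m' α • X', ⟨?_, ?_, ?_, ?_⟩, ?_⟩
  · intro h
    exact hS.conj_ne χ hχ (sub_eq_zero.mp h).symm
  · intro α hα β hβ
    show τ₁ (p (α + β)) + m (α + β) • X + m' (α + β) • X' =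
      (τ₁ (p α) + m α • X + m' α • X') + (τ₁ (p β) + m β • X + m' β • X')
    rw [hpadd, hτ₁.1 _ (hQ α hα).2.2 _ (hQ β hβ).2.2, hmadd, hm'add, add_smul, add_smul]
    abel
  · intro α hα k
    show τ₁ (p (k • α)) + m (k • α) • X + m' (k • α) • X' =
      k • (τ₁ (p α) + m α • X + m' α • X')
    rw [hpsmul, hτ₁.2.1 _ (hQ α hα).2.2 k, hmsmul, hm'smul, smul_add, smul_add, mul_smul,
      mul_smul, Int.cast_smul_eq_zsmul, Int.cast_smul_eq_zsmul]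
  · intro α hα β hβ
    show classInner (τ₁ (p α) + m α • X + m' α • X') (τ₁ (p β) + m β • X + m' β • X') =
      classInner α β
    have hPX := (hO _ (hQ α hα).2.2).1
    have hPX' := (hO _ (hQ α hα).2.2).2
    have hXQ : classInner X (τ₁ (p β)) = 0 := by
      rw [classInner_conj_symm, (hO _ (hQ β hβ).2.2).1, map_zero]
    have hX'Q : classInner X' (τ₁ (p β)) = 0 := by
      rw [classInner_conj_symm, (hO _ (hQ β hβ).2.2).2, map_zero]
    have hχp : classInner χ (p β) = 0 := by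
      rw [classInner_conj_symm, hpχ β, map_zero]
    have hχcp : classInner (conjFun χ) (p β) = 0 := by
      rw [classInner_conj_symm, hpχc β, map_zero]
    have L1 : classInner (τ₁ (p α) + m α • X + m' α • X') (τ₁ (p β) + m β • X + m' β • X') =
        classInner (p α) (p β) + m α * (starRingEnd ℂ) (m β) * (n χ : ℂ) +
          m' α * (starRingEnd ℂ) (m' β) * (n χ : ℂ) := by
      simp only [classInner_add_left, classInner_add_right, classInner_smul_left,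
        classInner_smul_right, hPX, hPX', hXQ, hX'Q, hXXn, hXX', hX'X, hX'X']
      rw [hτ₁.2.2.1 _ (hQ α hα).2.2 _ (hQ β hβ).2.2]
      ring
    have R1 : classInner α β =
        classInner (p α) (p β) + m α * (starRingEnd ℂ) (m β) * (n χ : ℂ) +
          m' α * (starRingEnd ℂ) (m' β) * (n χ : ℂ) := by
      have e : classInner α β = classInner (p α + m α • χ + m' α • conjFun χ)
          (p β + m β • χ + m' β • conjFun χ) := by
        rw [← hdecomp α, ← hdecomp β]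
      rw [e]
      simp only [classInner_add_left, classInner_add_right, classInner_smul_left,
        classInner_smul_right, hpχ α, hpχc α, hχp, hχcp, hnχ, hncc, oχχc, oχcχ]
      ring
    rw [L1, R1]
  · intro α hα
    obtain ⟨⟨k, hk⟩, ⟨k', hk'⟩, hpα⟩ := hQ α hα
    show IsGeneralizedCharacter G (τ₁ (p α) + m α • X + m' α • X')
    rw [hk, hk']
    exact isGenChar_add (isGenChar_add (hτ₁.2.2.2 _ hpα) (isGenChar_int_smul k hXgen))
      (isGenChar_int_smul k' hX'gen)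
  · intro α hα
    obtain ⟨⟨k, hk⟩, ⟨k', hk'⟩, hpα⟩ := hQ α hα.1
    have hα1 : α 1 = 0 := (mem_E_iff.mp hα).2
    show τ₁ (p α) + m α • X + m' α • X' = τ α
    have hp1 : p α 1 + ((k : ℂ) + (k' : ℂ)) * (d χ : ℂ) = 0 := by
      have h1 := congrFun (hdecomp α) 1
      simp only [Pi.add_apply, Pi.smul_apply, smul_eq_mul] at h1
      rw [hα1, hk, hk', conjFun_one_char (hS.isCharacter χ hχ), hd χ hχ] at h1
      linear_combination -h1
    obtain ⟨δ, hδ⟩ : ∃ δ : L → ℂ, δ = p α + ((k + k') * (a : ℤ)) • χ₁ := ⟨_, rfl⟩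
    have hδE₁ : δ ∈ zspanOn (↑S₁ : Set (L → ℂ)) {1}ᶜ := by
      rw [mem_E_iff]
      refine ⟨?_, ?_⟩
      · rw [hδ]
        exact Submodule.add_mem _ hpα (Submodule.smul_mem _ _ hmem₁)
      · rw [hδ, Pi.add_apply, Pi.smul_apply, zsmul_eq_mul, hd χ₁ hχ₁S']
        have e : (d χ : ℂ) = (d χ₁ : ℂ) * (a : ℂ) := by exact_mod_cast ha
        rw [e] at hp1
        push_cast
        linear_combination hp1
    have hδE : δ ∈ zspanOn S {1}ᶜ := E_mono hS₁ hδE₁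
    have hτδ : τ δ = τ₁ (p α) + ((k + k') * (a : ℤ)) • τ₁ χ₁ := by
      rw [← hagree δ hδE₁, hδ, hτ₁.1 _ hpα _ (Submodule.smul_mem _ _ hmem₁),
        hτ₁.2.1 χ₁ hmem₁]
    obtain ⟨β', hβ'⟩ : ∃ β' : L → ℂ, β' = β - (χ - conjFun χ) := ⟨_, rfl⟩
    have hβ'E : β' ∈ zspanOn S {1}ᶜ := by
      rw [hβ', sub_eq_add_neg, ← neg_one_zsmul]
      exact E_add hβE (E_zsmul hEc (-1))
    have hτβ' : τ β' = τ β - ρ := by
      rw [hβ', lin_sub hτ hβE hEc (E_zsmul hEc (-1)), hρ]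
    have hαdec : α = δ + (k • β + k' • β') := by
      have h1 := hdecomp α
      rw [hk, hk'] at h1
      rw [hδ, hβ', hβ, ← Int.cast_smul_eq_zsmul ℂ k, ← Int.cast_smul_eq_zsmul ℂ k',
        ← Int.cast_smul_eq_zsmul ℂ ((k + k') * (a : ℤ))]
      conv_lhs => rw [h1]
      push_cast
      module
    have hτα : τ α = τ δ + (k • τ β + k' • τ β') := by
      conv_lhs => rw [hαdec]
      rw [hτ.1 δ hδE _ (E_add (E_zsmul hβE k) (E_zsmul hβ'E k')),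
        hτ.1 _ (E_zsmul hβE k) _ (E_zsmul hβ'E k'), hτ.2.1 β hβE k, hτ.2.1 β' hβ'E k']
    rw [hτα, hτδ, hτβ', hk, hk', hX', hX, ← Int.cast_smul_eq_zsmul ℂ k,
      ← Int.cast_smul_eq_zsmul ℂ k', ← Int.cast_smul_eq_zsmul ℂ ((k + k') * (a : ℤ))]
    push_cast
    module

end Cfsg.Agent.S1516
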