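import Cfsg.Statements.S1519
import Cfsg.Agent.S1516
import Cfsg.Agent.S1517
import Cfsg.Agent.S1492
import Cfsg.Agent.Lib.Helper83.Central
import Cfsg.Agent.Lib.Helper83.Induce
import Cfsg.Agent.Lib.Helper83.Quot
import Cfsg.Agent.Lib.Helper83.LinearCount
import Cfsg.Agent.Lib.Helper4.CharExp2
import Cfsg.Agent.Lib.Helper20.Clifford
import Cfsg.Agent.Lib.Helper20.NormalInd
import Cfsg.Agent.Lib.Helper20.CliffordRel
import Mathlib

set_option autoImplicit false
open Cfsg

namespace Cfsg.Agent.S1519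

open Cfsg.Agent.Lib
open scoped ComplexConjugate

/-- an irreducible character has `|η x| = η 1` when all commutators with `x` are in the kernel -/
theorem central_mod_ker {H : Type*} [Group H] [Fintype H] {η : H → ℂ} (hη : IsIrrCharacter H η)
    (x : H) (hx : ∀ g : H, η (x⁻¹ * (g * x * g⁻¹)) = η 1) : η x * conj (η x) = η 1 * η 1 := by
  have h1 := Helper83.irr_avg_conj hη x⁻¹ x
  rw [Finset.sum_congr rfl (fun g _ => hx g), Finset.sum_const, Finset.card_univ, nsmul_eq_mul,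
    Helper83.irr_inv hη, Nat.card_eq_fintype_card] at h1
  have hH : (Fintype.card H : ℂ) ≠ 0 := by
    exact_mod_cast Fintype.card_ne_zero
  have h2 : (Fintype.card H : ℂ) * (η x * conj (η x)) = (Fintype.card H : ℂ) * (η 1 * η 1) := by
    linear_combination -h1
  exact mul_left_cancel₀ hH h2

theorem central_bound {H : Type*} [Group H] [Fintype H] {η : H → ℂ} (hη : IsIrrCharacter H η)
    (D : Subgroup H) (hD : ∀ x ∈ D, ∀ g : H, η (x⁻¹ * (g * x * g⁻¹)) = η 1) :
    Nat.card D * charDegree η ^ 2 ≤ Nat.card H := by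
  classical
  let _ : Fintype D := Fintype.ofFinite D
  have h1 := Helper83.sum_normsq_subgroup_le ⟨η, hη⟩ D
  have h2 : ∀ k : D, ‖η k‖ ^ 2 = (charDegree η : ℝ) ^ 2 := by
    intro k
    have h3 := central_mod_ker hη k (hD k k.2)
    rw [(Helper83.irr_degree hη).2, Complex.mul_conj, Complex.normSq_eq_norm_sq] at h3
    have h4 : ((‖η k‖ ^ 2 : ℝ) : ℂ) = (((charDegree η : ℝ) ^ 2 : ℝ) : ℂ) := by
      rw [h3]
      push_cast
      ring
    exact_mod_cast h4
  simp only [h2] at h1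
  rw [Finset.sum_const, Finset.card_univ, nsmul_eq_mul, ← Nat.card_eq_fintype_card] at h1
  exact_mod_cast h1

/-- constituents inherit kernel elements -/
theorem constituent_ker {C : Type*} [Group C] [Fintype C] [Fintype (IrrCharacter C)]
    (m : IrrCharacter C → ℕ) (b : C)
    (h : ∑ η : IrrCharacter C, (m η : ℂ) * (η : C → ℂ) b =
      ∑ η : IrrCharacter C, (m η : ℂ) * (η : C → ℂ) 1)
    (η₀ : IrrCharacter C) (hη₀ : m η₀ ≠ 0) : (η₀ : C → ℂ) b = (η₀ : C → ℂ) 1 := by
  have hre : ∀ η : IrrCharacter C, ((η : C → ℂ) b).re ≤ (charDegree (η : C → ℂ) : ℝ) :=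
    fun η => (Complex.re_le_norm _).trans (Helper83.irr_norm_le η.2 b)
  have h1 : ∑ η : IrrCharacter C, (m η : ℝ) * ((charDegree (η : C → ℂ) : ℝ) -
      ((η : C → ℂ) b).re) = 0 := by
    have h2 := congrArg Complex.re h
    simp only [Complex.re_sum, Complex.mul_re, Complex.natCast_re, Complex.natCast_im,
      zero_mul, sub_zero] at h2
    have h3 : ∀ η : IrrCharacter C, ((η : C → ℂ) 1).re = (charDegree (η : C → ℂ) : ℝ) := by
      intro η
      rw [(Helper83.irr_degree η.2).2, Complex.natCast_re]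
    simp only [h3] at h2
    simp only [mul_sub, Finset.sum_sub_distrib]
    linarith
  have h4 := (Finset.sum_eq_zero_iff_of_nonneg (fun η _ =>
    mul_nonneg (Nat.cast_nonneg _) (sub_nonneg.mpr (hre η)))).mp h1 η₀ (Finset.mem_univ _)
  have hm : (m η₀ : ℝ) ≠ 0 := by exact_mod_cast hη₀
  have h5 : ((η₀ : C → ℂ) b).re = (charDegree (η₀ : C → ℂ) : ℝ) := by
    have := (mul_eq_zero.mp h4).resolve_left hm
    linarith
  have h6 := Helper83.irr_norm_le η₀.2 b
  have h7 : ((η₀ : C → ℂ) b).im = 0 := by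
    have h8 : ‖(η₀ : C → ℂ) b‖ ^ 2 = ((η₀ : C → ℂ) b).re ^ 2 + ((η₀ : C → ℂ) b).im ^ 2 := by
      rw [Complex.sq_norm, Complex.normSq_apply]
      ring
    have h9 : ‖(η₀ : C → ℂ) b‖ ^ 2 ≤ (charDegree (η₀ : C → ℂ) : ℝ) ^ 2 :=
      pow_le_pow_left₀ (norm_nonneg _) h6 2
    rw [h8, h5] at h9
    nlinarith [sq_nonneg ((η₀ : C → ℂ) b).im]
  rw [(Helper83.irr_degree η₀.2).2]
  apply Complex.ext
  · rw [h5, Complex.natCast_re]
  · rw [h7, Complex.natCast_im]

theorem exists_res_constituent {K : Type*} [Group K] [Fintype K] {θ : K → ℂ}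
    (hθ : IsIrrCharacter K θ) (C : Subgroup K) :
    ∃ η : C → ℂ, IsIrrCharacter C η ∧ charDegree θ ≤ C.index * charDegree η ∧
      ∀ b : C, θ b = θ 1 → η b = η 1 := by
  classical
  let _ : Fintype C := Fintype.ofFinite C
  have : Finite (IrrCharacter C) := Helper4.irr_finite
  let _ : Fintype (IrrCharacter C) := Fintype.ofFinite _
  obtain ⟨m, hm0, -, hdeg⟩ := Helper83.restrict_decomp ⟨θ, hθ⟩ C
  have hm : ∀ k : C, θ (k : K) = ∑ η' : IrrCharacter C, (m η' : ℂ) * (η' : C → ℂ) k := hm0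
  have hex : ∃ η, m η ≠ 0 := by
    by_contra hcon
    push Not at hcon
    have h1 := hm 1
    simp only [hcon, Nat.cast_zero, zero_mul, Finset.sum_const_zero] at h1
    exact Helper83.irr_one_ne_zero hθ h1
  obtain ⟨η, hη⟩ := hex
  refine ⟨η, η.2, ?_, ?_⟩
  · have h1 : classInner (indFun C (η : C → ℂ)) θ ≠ 0 := by
      have h2 : classInner (indFun C (η : C → ℂ)) θ =
          conj (classInner (fun k : C => θ k) (η : C → ℂ)) :=
        Helper83.inner_ind_irr C η ⟨θ, hθ⟩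
      have h3 : (fun k : C => θ k) = ∑ η' : IrrCharacter C, (m η' : ℂ) • (η' : C → ℂ) := by
        funext k
        rw [hm k]
        simp [Finset.sum_apply]
      rw [h3, Helper4.classInner_sum_irr] at h2
      rw [h2]
      simpa using hη
    exact Helper83.constituent_degree_le (indFun C (η : C → ℂ))
      (Helper35.isCharacter_indFun C (Helper35.isChar_of_irr η.2)) ⟨θ, hθ⟩ h1
      (C.index * charDegree (η : C → ℂ))
      (by rw [Helper83.indFun_one, (Helper83.irr_degree η.2).2]; push_cast; ring)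
  · intro b hb
    apply constituent_ker m b ?_ η hη
    rw [← hm b, ← hm 1]
    exact hb

/-- the degree bound: an irreducible character of `K` whose kernel contains `B`, where
`D / B` is central in `C / B` -/
theorem degree_bound {K : Type*} [Group K] [Fintype K] {θ : K → ℂ} (hθ : IsIrrCharacter K θ)
    (B C D : Subgroup K) (hcent : ∀ x ∈ D, ∀ y ∈ C, x * y * x⁻¹ * y⁻¹ ∈ B)
    (hB : ∀ b ∈ B, θ b = θ 1) :
    charDegree θ ^ 2 ≤ C.index ^ 2 * D.relIndex C := by
  classical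
  obtain ⟨η, hη, hdeg, hker⟩ := exists_res_constituent hθ C
  let _ : Fintype C := Fintype.ofFinite C
  have h1 := central_bound hη (D.subgroupOf C) (by
    intro x hx g
    apply hker
    apply hB
    have h2 := hcent (x⁻¹ : C) (D.inv_mem hx) g g.2
    simpa [mul_assoc] using h2)
  -- `card (D.subgroupOf C) * relIndex = card C`
  have h3 : Nat.card (D.subgroupOf C) * D.relIndex C = Nat.card C :=
    Subgroup.card_mul_index (D.subgroupOf C)
  have hpos : 0 < Nat.card (D.subgroupOf C) := Nat.card_pos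
  have h4 : charDegree η ^ 2 ≤ D.relIndex C := by
    rw [← h3] at h1
    exact Nat.le_of_mul_le_mul_left h1 hpos
  calc charDegree θ ^ 2 ≤ (C.index * charDegree η) ^ 2 := Nat.pow_le_pow_left hdeg 2
    _ = C.index ^ 2 * charDegree η ^ 2 := by ring
    _ ≤ C.index ^ 2 * D.relIndex C := Nat.mul_le_mul_left _ h4

section SA

variable {L : Type*} [Group L] [Fintype L] (K : Subgroup L) [hK : K.Normal]

/-- `A` lies in the kernel of the function `θ` on `K` -/
def KerAbove (A : Subgroup L) (θ : K → ℂ) : Prop := ∀ a : K, (a : L) ∈ A → θ a = θ 1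

omit hK in
theorem mem_induced_iff (A : Subgroup L) (φ : L → ℂ) :
    φ ∈ inducedIrrAbove K A ↔ ∃ θ : IrrCharacter K, (θ : K → ℂ) ≠ (fun _ => 1) ∧
      KerAbove K A (θ : K → ℂ) ∧ φ = indFun K (θ : K → ℂ) := by
  constructor
  · rintro ⟨θ, hθ, h1, h2, h3⟩
    exact ⟨⟨θ, hθ⟩, h1, h2, h3⟩
  · rintro ⟨θ, h1, h2, h3⟩
    exact ⟨θ, θ.2, h1, h2, h3⟩

omit hK in
theorem induced_mono {A B : Subgroup L} (h : B ≤ A) : inducedIrrAbove K A ⊆ inducedIrrAbove K B := by
  rintro φ ⟨θ, hθ, h1, h2, h3⟩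
  exact ⟨θ, hθ, h1, fun a ha => h2 a (h ha), h3⟩

include hK in
theorem ind_ker (A : Subgroup L) [hA : A.Normal] (θ : K → ℂ) (hker : KerAbove K A θ) (a : K)
    (ha : (a : L) ∈ A) : indFun K θ a = indFun K θ 1 := by
  have h1 : indFun K θ ((1 : K) : L) = indFun K θ 1 := rfl
  rw [← h1, Helper20.indFun_normal_apply, Helper20.indFun_normal_apply]
  congr 1
  refine Finset.sum_congr rfl fun x _ => ?_
  rw [Helper20.conjFun_apply, Helper20.conjFun_apply]
  rw [hker _ (hA.conj_mem _ ha x)]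
  congr 1
  apply Subtype.ext
  simp

open Classical in
theorem sum_sq_kerAbove [Fintype (IrrCharacter K)] (A : Subgroup L) [hA : A.Normal] :
    ∑ θ : IrrCharacter K, (if KerAbove K A (θ : K → ℂ) then ((θ : K → ℂ) 1) ^ 2 else 0) =
      (A.relIndex K : ℂ) := by
  have hAn : (A.subgroupOf K).Normal := hA.subgroupOf K
  let _ : Fintype (A.subgroupOf K) := Fintype.ofFinite _
  have h1 : ∀ θ : IrrCharacter K, ∑ a : A.subgroupOf K, (θ : K → ℂ) (1 * (a : K)) =
      if KerAbove K A (θ : K → ℂ) then (Nat.card (A.subgroupOf K) : ℂ) * (θ : K → ℂ) 1 else 0 := by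
    intro θ
    by_cases h : KerAbove K A (θ : K → ℂ)
    · rw [if_pos h]
      have h2 : ∀ a : A.subgroupOf K, (θ : K → ℂ) (1 * (a : K)) = (θ : K → ℂ) 1 := by
        intro a
        rw [one_mul]
        exact h a (Subgroup.mem_subgroupOf.mp a.2)
      rw [Finset.sum_congr rfl (fun a _ => h2 a), Finset.sum_const, Finset.card_univ,
        nsmul_eq_mul, Nat.card_eq_fintype_card]
    · rw [if_neg h]
      unfold KerAbove at h
      push Not at h
      obtain ⟨a, ha, hne⟩ := h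
      exact Helper83.irr_sum_normal_eq_zero (A.subgroupOf K) θ.2 a
        (Subgroup.mem_subgroupOf.mpr ha) hne 1
  have h3 : ∑ θ : IrrCharacter K, (θ : K → ℂ) 1 *
      ∑ a : A.subgroupOf K, (θ : K → ℂ) (1 * (a : K)) = (Nat.card K : ℂ) := by
    simp only [Finset.mul_sum]
    rw [Finset.sum_comm]
    have h4 : ∀ a : A.subgroupOf K, ∑ θ : IrrCharacter K,
        (θ : K → ℂ) 1 * (θ : K → ℂ) (1 * (a : K)) =
        if a = 1 then (Nat.card K : ℂ) else 0 := by
      intro a
      have h5 := Helper4.col_orth_one (G := K) (a : K)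
      rw [one_mul]
      simp only [mul_comm ((_ : K → ℂ) 1)]
      rw [h5]
      by_cases ha : a = 1
      · have ha' : (a : K) = 1 := by rw [ha]; rfl
        rw [if_pos ha, if_pos ha']
      · have ha' : ¬ ((a : K) = 1) := fun h => ha (Subtype.ext h)
        rw [if_neg ha, if_neg ha']
    rw [Finset.sum_congr rfl (fun a _ => h4 a), Finset.sum_ite_eq' Finset.univ (1 : A.subgroupOf K),
      if_pos (Finset.mem_univ _)]
  simp only [h1] at h3
  have h6 : (Nat.card (A.subgroupOf K) : ℂ) * ∑ θ : IrrCharacter K,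
      (if KerAbove K A (θ : K → ℂ) then ((θ : K → ℂ) 1) ^ 2 else 0) = (Nat.card K : ℂ) := by
    rw [← h3, Finset.mul_sum]
    refine Finset.sum_congr rfl fun θ _ => ?_
    by_cases h : KerAbove K A (θ : K → ℂ)
    · rw [if_pos h, if_pos h]
      ring
    · rw [if_neg h, if_neg h]
      ring
  have h7 : (Nat.card K : ℂ) = (Nat.card (A.subgroupOf K) : ℂ) * (A.relIndex K : ℂ) := by
    rw [← Subgroup.card_mul_index (A.subgroupOf K)]
    push_cast
    rfl
  have h8 : (Nat.card (A.subgroupOf K) : ℂ) ≠ 0 := by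
    exact_mod_cast (Nat.card_pos (α := A.subgroupOf K)).ne'
  rw [h7] at h6
  exact mul_left_cancel₀ h8 h6

open Classical in
include hK in
theorem sum_T_inner [Fintype (IrrCharacter K)] (A : Subgroup L) [hA : A.Normal] (θ₀ : K → ℂ)
    (hθ₀ : IsIrrCharacter K θ₀) (hne : θ₀ ≠ fun _ => 1) (hker : KerAbove K A θ₀) :
    ∑ θ : IrrCharacter K, (if (θ : K → ℂ) ≠ (fun _ => 1) ∧ KerAbove K A (θ : K → ℂ) then
      (θ : K → ℂ) 1 * classInner (indFun K (θ : K → ℂ)) (indFun K θ₀) else 0) =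
      indFun K θ₀ 1 := by
  let _ : Fintype K := Fintype.ofFinite K
  have hφchar : IsCharacter L (indFun K θ₀) :=
    Helper35.isCharacter_indFun K (Helper35.isChar_of_irr hθ₀)
  have hres : IsCharacter K (Helper35.res K (indFun K θ₀)) := Helper35.isCharacter_res K hφchar
  obtain ⟨m, hm⟩ := Helper4.exists_decomp_of_isCharacter _ hres
  have hin : ∀ θ : IrrCharacter K,
      classInner (indFun K (θ : K → ℂ)) (indFun K θ₀) = (m θ : ℂ) := by
    intro θ
    rw [Helper35.frobenius_reciprocity K _ _ (Helper35.isClassFunction_indFun K θ₀), hm,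
      Helper4.classInner_conj_symm, Helper4.classInner_sum_irr]
    simp
  have hT : ∀ θ : IrrCharacter K, m θ ≠ 0 →
      (θ : K → ℂ) ≠ (fun _ => 1) ∧ KerAbove K A (θ : K → ℂ) := by
    intro θ hmθ
    constructor
    · intro h1
      have h2 : classInner (indFun K θ₀) (indFun K (θ : K → ℂ)) =
          (K.index : ℂ) * classInner θ₀ (θ : K → ℂ) := by
        apply Helper20.classInner_indFun_of_invariant
        intro g k
        rw [h1]
      have h3 : classInner θ₀ (θ : K → ℂ) = 0 := by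
        rw [Helper35.classInner_irr' hθ₀ θ.2, if_neg]
        rw [h1]
        exact hne
      rw [h3, mul_zero] at h2
      have h4 := hin θ
      rw [Helper4.classInner_conj_symm, h2, map_zero] at h4
      exact hmθ (by exact_mod_cast h4.symm)
    · intro a ha
      apply constituent_ker m a ?_ θ hmθ
      have e1 := congrFun hm a
      have e2 := congrFun hm 1
      simp only [Finset.sum_apply, Pi.smul_apply, smul_eq_mul] at e1 e2
      rw [← e1, ← e2]
      exact ind_ker K A θ₀ hker a ha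
  refine (Finset.sum_congr rfl (g := fun θ : IrrCharacter K => (m θ : ℂ) * (θ : K → ℂ) 1)
    fun θ _ => ?_).trans ?_
  · by_cases h : (θ : K → ℂ) ≠ (fun _ => 1) ∧ KerAbove K A (θ : K → ℂ)
    · rw [if_pos h, hin]
      ring
    · rw [if_neg h]
      have h6 : m θ = 0 := by
        by_contra hc
        exact h (hT θ hc)
      rw [h6]
      simp
  · have e2 := congrFun hm 1
    simp only [Finset.sum_apply, Pi.smul_apply, smul_eq_mul] at e2
    rw [← e2]
    rfl

open Classical in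
include hK in
theorem sum_formula [Fintype (IrrCharacter K)] [DecidableEq (L → ℂ)]
    (horth : ∀ χ ∈ inducedIrrAbove K ⊥, ∀ φ ∈ inducedIrrAbove K ⊥, χ ≠ φ → classInner χ φ = 0)
    (A : Subgroup L) [hA : A.Normal] (d n : (L → ℂ) → ℕ)
    (hd : ∀ φ ∈ inducedIrrAbove K ⊥, φ 1 = (d φ : ℂ))
    (hn : ∀ φ ∈ inducedIrrAbove K ⊥, classInner φ φ = (n φ : ℂ))
    (hn0 : ∀ φ ∈ inducedIrrAbove K ⊥, n φ ≠ 0) (T : Finset (IrrCharacter K))
    (hmemT : ∀ θ, θ ∈ T ↔ (θ : K → ℂ) ≠ (fun _ => 1) ∧ KerAbove K A (θ : K → ℂ)) :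
    ∑ φ ∈ T.image (fun θ : IrrCharacter K => indFun K (θ : K → ℂ)),
      ((d φ : ℝ) ^ 2 / (n φ : ℝ)) = (K.index : ℝ) * ((A.relIndex K : ℝ) - 1) := by
  have hT : T = Finset.univ.filter
      (fun θ : IrrCharacter K => (θ : K → ℂ) ≠ (fun _ => 1) ∧ KerAbove K A (θ : K → ℂ)) := by
    ext θ
    rw [hmemT, Finset.mem_filter]
    simp
  have hS : ∀ θ ∈ T, indFun K (θ : K → ℂ) ∈ inducedIrrAbove K ⊥ := by
    intro θ hθ
    rw [mem_induced_iff]
    refine ⟨θ, ((hmemT θ).mp hθ).1, ?_, rfl⟩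
    intro a ha
    have h1 : a = 1 := Subtype.ext (by simpa using ha)
    rw [h1]
  have hdeg : ∀ θ ∈ T, d (indFun K (θ : K → ℂ)) = K.index * charDegree (θ : K → ℂ) := by
    intro θ hθ
    have h1 := hd _ (hS θ hθ)
    rw [Helper83.indFun_one, (Helper83.irr_degree θ.2).2] at h1
    exact_mod_cast h1.symm
  rw [Finset.sum_image'
    (fun θ : IrrCharacter K => (K.index : ℝ) * (charDegree (θ : K → ℂ) : ℝ) ^ 2)]
  · rw [← Finset.mul_sum]
    congr 1
    have h1 := sum_sq_kerAbove K A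
    have h2 : ∑ θ : IrrCharacter K, (if KerAbove K A (θ : K → ℂ) then ((θ : K → ℂ) 1) ^ 2 else 0)
        = ∑ θ : IrrCharacter K, ((if (θ : K → ℂ) ≠ (fun _ => 1) ∧ KerAbove K A (θ : K → ℂ) then
          ((charDegree (θ : K → ℂ) : ℂ)) ^ 2 else 0) +
          (if θ = Helper83.trivIrr K then (1 : ℂ) else 0)) := by
      refine Finset.sum_congr rfl fun θ _ => ?_
      by_cases hk : KerAbove K A (θ : K → ℂ)
      · by_cases h1 : (θ : K → ℂ) = (fun _ => 1)
        · have h3 : θ = Helper83.trivIrr K := Subtype.ext h1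
          rw [if_pos hk, if_neg (fun h => h.1 h1), if_pos h3, h1]
          simp
        · have h3 : θ ≠ Helper83.trivIrr K := fun h => h1 (by rw [h]; rfl)
          rw [if_pos hk, if_pos ⟨h1, hk⟩, if_neg h3, (Helper83.irr_degree θ.2).2]
          simp
      · have h3 : θ ≠ Helper83.trivIrr K := by
          intro h
          apply hk
          rw [h]
          intro a _
          rfl
        rw [if_neg hk, if_neg (fun h => hk h.2), if_neg h3]
        simp
    rw [h2, Finset.sum_add_distrib, Finset.sum_ite_eq' Finset.univ (Helper83.trivIrr K),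
      if_pos (Finset.mem_univ _), ← Finset.sum_filter, ← hT] at h1
    have h3 : (∑ θ ∈ T, charDegree (θ : K → ℂ) ^ 2) + 1 = A.relIndex K := by
      exact_mod_cast h1
    rw [← h3]
    push_cast
    ring
  · intro θ₀ hθ₀
    have hφ₀ := hS θ₀ hθ₀
    have hF3 := sum_T_inner K A θ₀ θ₀.2 ((hmemT θ₀).mp hθ₀).1 ((hmemT θ₀).mp hθ₀).2
    have h4 : ∑ θ : IrrCharacter K,
        (if (θ : K → ℂ) ≠ (fun _ => 1) ∧ KerAbove K A (θ : K → ℂ) then
          (θ : K → ℂ) 1 * classInner (indFun K (θ : K → ℂ)) (indFun K (θ₀ : K → ℂ)) else 0) =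
        (n (indFun K (θ₀ : K → ℂ)) : ℂ) * ∑ θ ∈ T.filter
          (fun θ : IrrCharacter K => indFun K (θ : K → ℂ) = indFun K (θ₀ : K → ℂ)),
          (charDegree (θ : K → ℂ) : ℂ) := by
      rw [Finset.mul_sum, Finset.sum_filter, hT, Finset.sum_filter]
      refine Finset.sum_congr rfl fun θ _ => ?_
      by_cases h : (θ : K → ℂ) ≠ (fun _ => 1) ∧ KerAbove K A (θ : K → ℂ)
      · rw [if_pos h, if_pos h]
        by_cases h' : indFun K (θ : K → ℂ) = indFun K (θ₀ : K → ℂ)
        · rw [if_pos h', h', hn _ hφ₀, (Helper83.irr_degree θ.2).2]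
          ring
        · rw [if_neg h', horth _ (hS θ ((hmemT θ).mpr h)) _ hφ₀ h', mul_zero]
      · rw [if_neg h, if_neg h]
    rw [h4, hd _ hφ₀] at hF3
    have h5 : n (indFun K (θ₀ : K → ℂ)) * ∑ θ ∈ T.filter
        (fun θ : IrrCharacter K => indFun K (θ : K → ℂ) = indFun K (θ₀ : K → ℂ)),
        charDegree (θ : K → ℂ) = d (indFun K (θ₀ : K → ℂ)) := by
      exact_mod_cast hF3
    have h6 : ∑ θ ∈ T.filter
        (fun θ : IrrCharacter K => indFun K (θ : K → ℂ) = indFun K (θ₀ : K → ℂ)),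
        (K.index : ℝ) * (charDegree (θ : K → ℂ) : ℝ) ^ 2 =
        (d (indFun K (θ₀ : K → ℂ)) : ℝ) * ∑ θ ∈ T.filter
        (fun θ : IrrCharacter K => indFun K (θ : K → ℂ) = indFun K (θ₀ : K → ℂ)),
        (charDegree (θ : K → ℂ) : ℝ) := by
      rw [Finset.mul_sum]
      refine Finset.sum_congr rfl fun θ hθ => ?_
      rw [Finset.mem_filter] at hθ
      have h7 := hdeg θ hθ.1
      rw [hθ.2] at h7
      rw [h7]
      push_cast
      ring
    have hn0' : (n (indFun K (θ₀ : K → ℂ)) : ℝ) ≠ 0 := by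
      exact_mod_cast hn0 _ hφ₀
    rw [h6, ← h5]
    push_cast
    field_simp

omit hK in
theorem conj_indFun (θ : K → ℂ) : conjFun (indFun K θ) = indFun K (conjFun θ) := by
  funext g
  simp only [conjFun, indFun, map_mul, map_inv₀, map_natCast, map_sum]
  congr 1
  refine Finset.sum_congr rfl fun x _ => ?_
  by_cases h : x⁻¹ * g * x ∈ K
  · rw [Helper35.ext_mem K _ _ h, Helper35.ext_mem K _ _ h]
    rfl
  · rw [Helper35.ext_not_mem K _ _ h, Helper35.ext_not_mem K _ _ h, map_zero]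

omit hK in
theorem conj_mem_induced (A : Subgroup L) {φ : L → ℂ} (hφ : φ ∈ inducedIrrAbove K A) :
    conjFun φ ∈ inducedIrrAbove K A := by
  let _ : Fintype K := Fintype.ofFinite K
  obtain ⟨θ, hθ, h1, h2, rfl⟩ := hφ
  refine ⟨conjFun θ, Helper35.isIrr_conjFun hθ, ?_, ?_, conj_indFun K θ⟩
  · intro h
    apply h1
    have h3 : conjFun (conjFun θ) = conjFun (fun _ => (1 : ℂ)) := by rw [h]
    rw [Helper35.conjFun_conjFun] at h3
    rw [h3]
    funext x
    simp [conjFun]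
  · intro a ha
    simp only [conjFun]
    rw [h2 a ha]

theorem exists_linear (hsolv : Group.IsSolvable K) (A : Subgroup L) [hA : A.Normal]
    (hAK : A < K) :
    ∃ θ : K → ℂ, IsIrrCharacter K θ ∧ θ ≠ (fun _ => 1) ∧ KerAbove K A θ ∧ θ 1 = 1 := by
  classical
  have hAn : (A.subgroupOf K).Normal := hA.subgroupOf K
  obtain ⟨k, hkK, hkA⟩ := SetLike.exists_of_lt hAK
  have hnt : Nontrivial (K ⧸ A.subgroupOf K) := by
    refine ⟨⟨((⟨k, hkK⟩ : K) : K ⧸ A.subgroupOf K), 1, ?_⟩⟩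
    intro h
    rw [QuotientGroup.eq_one_iff] at h
    exact hkA (Subgroup.mem_subgroupOf.mp h)
  have hlt := Group.IsSolvable.commutator_lt_top_of_nontrivial (K ⧸ A.subgroupOf K)
  have hidx : 1 < (commutator (K ⧸ A.subgroupOf K)).index := by
    have h1 : (commutator (K ⧸ A.subgroupOf K)).index ≠ 1 := fun h =>
      hlt.ne (Subgroup.index_eq_one.mp h)
    have h0 : (commutator (K ⧸ A.subgroupOf K)).index ≠ 0 := Subgroup.index_ne_zero_of_finite
    omega
  rw [← Helper83.card_linear, Finite.one_lt_card_iff_nontrivial] at hidx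
  obtain ⟨ψ₁, ψ₂, hne⟩ := hidx
  obtain ⟨ψ, hψ⟩ : ∃ ψ : {χ : IrrCharacter (K ⧸ A.subgroupOf K) //
      (χ : K ⧸ A.subgroupOf K → ℂ) 1 = 1}, ψ.1 ≠ Helper83.trivIrr _ := by
    by_cases h : ψ₁.1 = Helper83.trivIrr _
    · refine ⟨ψ₂, fun h2 => hne (Subtype.ext (h.trans h2.symm))⟩
    · exact ⟨ψ₁, h⟩
  refine ⟨(Helper83.inflate (A.subgroupOf K) ψ.1 : K → ℂ),
    (Helper83.inflate (A.subgroupOf K) ψ.1).2, ?_, ?_, ?_⟩
  · intro h
    apply hψ
    apply Subtype.ext
    funext q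
    obtain ⟨g, rfl⟩ := QuotientGroup.mk_surjective q
    have h2 := congrFun h g
    rw [Helper83.inflate_apply] at h2
    rw [h2]
    rfl
  · intro a ha
    exact Helper83.inflate_ker (A.subgroupOf K) ψ.1 a (Subgroup.mem_subgroupOf.mpr ha)
  · rw [Helper83.inflate_one]
    exact ψ.2

omit hK in
theorem coherent_subset {G : Type*} [Group G] [Fintype G] {S₁ X : Set (L → ℂ)}
    {τ : (L → ℂ) → (G → ℂ)} (hsub : X ⊆ S₁) (hcoh : IsCoherent S₁ {1}ᶜ τ)
    (hXz : ∃ α ∈ zspanOn X {1}ᶜ, α ≠ 0) : IsCoherent X {1}ᶜ τ := by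
  obtain ⟨-, τ₁, hτ₁, hagree⟩ := hcoh
  have hspan : zspan X ⊆ zspan S₁ := fun α hα => Submodule.span_mono hsub hα
  refine ⟨hXz, τ₁, ⟨?_, ?_, ?_, ?_⟩, ?_⟩
  · exact fun α hα β hβ => hτ₁.1 α (hspan hα) β (hspan hβ)
  · exact fun α hα m => hτ₁.2.1 α (hspan hα) m
  · exact fun α hα β hβ => hτ₁.2.2.1 α (hspan hα) β (hspan hβ)
  · exact fun α hα => hτ₁.2.2.2 α (hspan hα)
  · exact fun α hα => hagree α (S1516.E_mono hsub hα)

include hK in
/-- the core extension principle behind Peterfalvi (6.2): if `S(A)` is coherent, any set of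
members of `S` of degree less than `(|K:A| - 1) / 2` is coherent -/
theorem extend_core {G : Type*} [Group G] [Fintype G] (hsolv : Group.IsSolvable K)
    (τ : (L → ℂ) → (G → ℂ)) (R : (L → ℂ) → Finset (G → ℂ))
    (hS : IsCoherenceSystem (inducedIrrAbove K ⊥) τ R) (A : Subgroup L) [hA : A.Normal]
    (hAK : A < K) (hcohA : IsCoherent (inducedIrrAbove K A) {1}ᶜ τ) (X : Set (L → ℂ))
    (hX : X ⊆ inducedIrrAbove K ⊥) (hXz : ∃ α ∈ zspanOn X {1}ᶜ, α ≠ 0)
    (hdeg : ∀ χ ∈ X, ∃ t : ℕ, χ 1 = (t : ℂ) ∧ 2 * t < A.relIndex K - 1) :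
    IsCoherent X {1}ᶜ τ := by
  classical
  let _ : Fintype K := Fintype.ofFinite K
  have : Finite (IrrCharacter K) := Helper4.irr_finite
  let _ : Fintype (IrrCharacter K) := Fintype.ofFinite _
  -- degrees and norms
  obtain ⟨d, hd⟩ : ∃ d : (L → ℂ) → ℕ, ∀ φ ∈ inducedIrrAbove K ⊥, φ 1 = (d φ : ℂ) := by
    refine ⟨fun φ => if h : IsCharacter L φ then (S1492.char_one_nat h).choose else 0, ?_⟩
    intro φ hφ
    have h := hS.isCharacter φ hφ
    simp only [dif_pos h]
    exact (S1492.char_one_nat h).choose_spec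
  obtain ⟨n, hn⟩ : ∃ n : (L → ℂ) → ℕ, ∀ φ ∈ inducedIrrAbove K ⊥, classInner φ φ = (n φ : ℂ) := by
    refine ⟨fun φ => if h : IsCharacter L φ then (Helper35.classInner_char_nat h h).choose else 0,
      ?_⟩
    intro φ hφ
    have h := hS.isCharacter φ hφ
    simp only [dif_pos h]
    exact (Helper35.classInner_char_nat h h).choose_spec
  have hdval : ∀ θ : IrrCharacter K, indFun K (θ : K → ℂ) ∈ inducedIrrAbove K ⊥ →
      d (indFun K (θ : K → ℂ)) = K.index * charDegree (θ : K → ℂ) := by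
    intro θ hθ
    have h1 := hd _ hθ
    rw [Helper83.indFun_one, (Helper83.irr_degree θ.2).2] at h1
    exact_mod_cast h1.symm
  have hKidx : 0 < K.index := Nat.pos_of_ne_zero Subgroup.index_ne_zero_of_finite
  have hdpos : ∀ φ ∈ inducedIrrAbove K ⊥, 0 < d φ := by
    intro φ hφ
    obtain ⟨θ, -, -, rfl⟩ := (mem_induced_iff K ⊥ φ).mp hφ
    rw [hdval θ hφ]
    exact Nat.mul_pos hKidx (Helper83.irr_degree θ.2).1
  have hn0 : ∀ φ ∈ inducedIrrAbove K ⊥, n φ ≠ 0 := by
    intro φ hφ h0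
    have h1 := hn φ hφ
    rw [h0, Nat.cast_zero] at h1
    have h2 := Helper35.classInner_self_eq_zero' h1
    have h3 := hd φ hφ
    have h4 := hdpos φ hφ
    have h5 : (d φ : ℂ) = 0 := by
      rw [← h3, h2]
      rfl
    have h6 : d φ = 0 := by exact_mod_cast h5
    omega
  -- the finite sets
  obtain ⟨SF, hSF⟩ : ∃ SF : Subgroup L → Finset (L → ℂ), SF = fun A' =>
      (Finset.univ.filter (fun θ : IrrCharacter K =>
        (θ : K → ℂ) ≠ (fun _ => 1) ∧ KerAbove K A' (θ : K → ℂ))).image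
        (fun θ : IrrCharacter K => indFun K (θ : K → ℂ)) := ⟨_, rfl⟩
  have hmemSF : ∀ (A' : Subgroup L) (φ : L → ℂ), φ ∈ SF A' ↔ φ ∈ inducedIrrAbove K A' := by
    intro A' φ
    rw [hSF, mem_induced_iff]
    simp only [Finset.mem_image, Finset.mem_filter, Finset.mem_univ, true_and]
    constructor
    · rintro ⟨θ, ⟨h1, h2⟩, rfl⟩
      exact ⟨θ, h1, h2, rfl⟩
    · rintro ⟨θ, h1, h2, rfl⟩
      exact ⟨θ, ⟨h1, h2⟩, rfl⟩
  have hcoeSF : ∀ A' : Subgroup L, (↑(SF A') : Set (L → ℂ)) = inducedIrrAbove K A' := by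
    intro A'
    ext φ
    exact hmemSF A' φ
  have hsumA : ∑ φ ∈ SF A, ((d φ : ℝ) ^ 2 / (n φ : ℝ)) =
      (K.index : ℝ) * ((A.relIndex K : ℝ) - 1) := by
    rw [hSF]
    exact sum_formula K hS.orthogonal A d n hd hn hn0 _ (fun θ => by simp)
  -- the linear member of `S(A)`
  obtain ⟨θ₁, hθ₁, hθ₁ne, hθ₁ker, hθ₁one⟩ := exists_linear K hsolv A hAK
  have hχ₁A : indFun K θ₁ ∈ inducedIrrAbove K A := ⟨θ₁, hθ₁, hθ₁ne, hθ₁ker, rfl⟩
  have hχ₁S : indFun K θ₁ ∈ inducedIrrAbove K ⊥ := induced_mono K bot_le hχ₁A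
  have hdχ₁ : d (indFun K θ₁) = K.index := by
    have h1 := hdval ⟨θ₁, hθ₁⟩ hχ₁S
    have h2 : charDegree θ₁ = 1 := by
      have h3 := (Helper83.irr_degree hθ₁).2
      rw [hθ₁one] at h3
      exact_mod_cast h3.symm
    rw [h1, h2, mul_one]
  -- the family of coherent sets
  obtain ⟨F, hF⟩ : ∃ F : Finset (Finset (L → ℂ)), F = (SF ⊥).powerset.filter (fun S₁ =>
      SF A ⊆ S₁ ∧ (∀ φ ∈ S₁, conjFun φ ∈ S₁) ∧ IsCoherent (↑S₁ : Set (L → ℂ)) {1}ᶜ τ) :=
    ⟨_, rfl⟩
  have hmemF : ∀ S₁, S₁ ∈ F ↔ S₁ ⊆ SF ⊥ ∧ SF A ⊆ S₁ ∧ (∀ φ ∈ S₁, conjFun φ ∈ S₁) ∧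
      IsCoherent (↑S₁ : Set (L → ℂ)) {1}ᶜ τ := by
    intro S₁
    rw [hF, Finset.mem_filter, Finset.mem_powerset]
  have hSAF : SF A ∈ F := by
    rw [hmemF]
    refine ⟨?_, Finset.Subset.refl _, ?_, ?_⟩
    · intro φ hφ
      rw [hmemSF] at hφ ⊢
      exact induced_mono K bot_le hφ
    · intro φ hφ
      rw [hmemSF] at hφ ⊢
      exact conj_mem_induced K A hφ
    · rw [hcoeSF]
      exact hcohA
  obtain ⟨S₁, hS₁F, hS₁max⟩ := Finset.exists_maximal (s := F) ⟨_, hSAF⟩
  obtain ⟨hS₁sub, hSAsub, hS₁c, hS₁coh⟩ := (hmemF S₁).mp hS₁F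
  have hS₁S : (↑S₁ : Set (L → ℂ)) ⊆ inducedIrrAbove K ⊥ := by
    intro φ hφ
    exact (hmemSF ⊥ φ).mp (hS₁sub hφ)
  -- every member of `X` lies in `S₁`
  have hXsub : X ⊆ (↑S₁ : Set (L → ℂ)) := by
    intro χ hχX
    by_contra hχ₁
    have hχ₁' : χ ∉ S₁ := hχ₁
    have hχS := hX hχX
    have hχ₂ : conjFun χ ∉ S₁ := by
      intro h
      have h2 := hS₁c _ h
      rw [Helper35.conjFun_conjFun] at h2
      exact hχ₁' h2
    obtain ⟨t, ht, hlt⟩ := hdeg χ hχX
    have hdχ : d χ = t := by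
      have h1 := hd χ hχS
      rw [ht] at h1
      exact_mod_cast h1.symm
    have hdvd : d (indFun K θ₁) ∣ d χ := by
      obtain ⟨θ, -, -, rfl⟩ := (mem_induced_iff K ⊥ χ).mp hχS
      rw [hdχ₁, hdval θ hχS]
      exact Dvd.intro _ rfl
    have hineq : (2 * d χ * d (indFun K θ₁) : ℝ) < ∑ φ ∈ S₁, ((d φ : ℝ) ^ 2 / (n φ : ℝ)) := by
      have h1 : ∑ φ ∈ SF A, ((d φ : ℝ) ^ 2 / (n φ : ℝ)) ≤
          ∑ φ ∈ S₁, ((d φ : ℝ) ^ 2 / (n φ : ℝ)) :=
        Finset.sum_le_sum_of_subset_of_nonneg hSAsub (fun φ _ _ => by positivity)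
      rw [hsumA] at h1
      have h2 : 1 ≤ A.relIndex K := by
        have : A.relIndex K ≠ 0 := Subgroup.index_ne_zero_of_finite (H := A.subgroupOf K)
        omega
      have h3 : (2 * (t : ℝ)) < (A.relIndex K : ℝ) - 1 := by
        have h4 : 2 * t + 1 < A.relIndex K := by omega
        have h5 : ((2 * t + 1 : ℕ) : ℝ) < (A.relIndex K : ℝ) := by exact_mod_cast h4
        push_cast at h5
        linarith
      have h6 : (0 : ℝ) < (K.index : ℝ) := by exact_mod_cast hKidx
      rw [hdχ, hdχ₁]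
      nlinarith
    have hnew := S1516.result (inducedIrrAbove K ⊥) τ R hS d n hd hn S₁ hS₁S hS₁c hS₁coh χ hχS
      hχ₁' hχ₂ (indFun K θ₁) (hSAsub ((hmemSF A _).mpr hχ₁A)) hdvd hineq
    have hS₂F : S₁ ∪ {χ, conjFun χ} ∈ F := by
      rw [hmemF]
      refine ⟨?_, ?_, ?_, ?_⟩
      · intro φ hφ
        rw [Finset.mem_union, Finset.mem_insert, Finset.mem_singleton] at hφ
        rcases hφ with h | h | h
        · exact hS₁sub h
        · rw [h]
          exact (hmemSF ⊥ χ).mpr hχS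
        · rw [h]
          exact (hmemSF ⊥ _).mpr (hS.conj_mem χ hχS)
      · exact hSAsub.trans Finset.subset_union_left
      · intro φ hφ
        rw [Finset.mem_union, Finset.mem_insert, Finset.mem_singleton] at hφ ⊢
        rcases hφ with h | h | h
        · exact Or.inl (hS₁c φ h)
        · rw [h]
          exact Or.inr (Or.inr rfl)
        · rw [h, Helper35.conjFun_conjFun]
          exact Or.inr (Or.inl rfl)
      · have h1 : (↑(S₁ ∪ {χ, conjFun χ}) : Set (L → ℂ)) = ↑S₁ ∪ {χ, conjFun χ} := by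
          push_cast
          rfl
        rw [h1]
        exact hnew
    have h7 := hS₁max hS₂F Finset.subset_union_left
    exact hχ₁' (h7 (Finset.mem_union_right _ (Finset.mem_insert_self _ _)))
  exact coherent_subset hXsub hS₁coh hXz

end SA

/-- Let K be a solvable normal subgroup of the finite group L and (S, τ, R) a coherence system from L to G where S is the set of functions induced from non-principal irreducible characters of K; write S(A) for those induced from characters whose kernel contains A. Let A, B, C, D be normal subgroups of L with A < K, B < K, B ≤ D ≤ C ≤ K and every commutator of D with C in B. If S(A) is coherent and 4 * [L:C]^2 * [C:D] < ([K:A] − 1)^2, then S(B) is coherent. -/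
theorem result {L : Type*} [Group L] [Fintype L] {G : Type*} [Group G] [Fintype G] (K : Subgroup L) [hK : K.Normal] (hsolv : Group.IsSolvable K) (τ : (L → ℂ) → (G → ℂ)) (R : (L → ℂ) → Finset (G → ℂ)) (hS : Cfsg.IsCoherenceSystem (Cfsg.inducedIrrAbove K ⊥) τ R) (A B C D : Subgroup L) [A.Normal] [B.Normal] [C.Normal] [D.Normal] (hAK : A < K) (hBK : B < K) (hBD : B ≤ D) (hDC : D ≤ C) (hCK : C ≤ K) (hcent : ∀ x ∈ D, ∀ y ∈ C, x * y * x⁻¹ * y⁻¹ ∈ B) (hA : Cfsg.IsCoherent (Cfsg.inducedIrrAbove K A) {1}ᶜ τ) (hlt : 4 * C.index ^ 2 * D.relIndex C < (A.relIndex K - 1) ^ 2) : Cfsg.IsCoherent (Cfsg.inducedIrrAbove K B) {1}ᶜ τ := by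
  classical
  let _ : Fintype K := Fintype.ofFinite K
  apply extend_core K hsolv τ R hS A hAK hA (inducedIrrAbove K B) (induced_mono K bot_le)
  · -- a nonzero element
    obtain ⟨θ, hθ, hθne, hθker, -⟩ := exists_linear K hsolv B hBK
    have hχB : indFun K θ ∈ inducedIrrAbove K B := ⟨θ, hθ, hθne, hθker, rfl⟩
    have hχS : indFun K θ ∈ inducedIrrAbove K ⊥ := induced_mono K bot_le hχB
    refine ⟨indFun K θ - conjFun (indFun K θ), ?_, ?_⟩
    · rw [S1516.mem_E_iff]
      refine ⟨?_, ?_⟩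
      · exact Submodule.sub_mem _ (Submodule.subset_span hχB)
          (Submodule.subset_span (conj_mem_induced K B hχB))
      · rw [Pi.sub_apply, S1517.conjFun_one_char (hS.isCharacter _ hχS), sub_self]
    · intro h
      exact hS.conj_ne _ hχS (sub_eq_zero.mp h).symm
  · -- the degree bound
    intro χ hχ
    obtain ⟨θ, hθne, hθker, rfl⟩ := (mem_induced_iff K B χ).mp hχ
    refine ⟨K.index * charDegree (θ : K → ℂ), ?_, ?_⟩
    · rw [Helper83.indFun_one, (Helper83.irr_degree θ.2).2]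
      push_cast
      ring
    · have h1 := degree_bound θ.2 (B.subgroupOf K) (C.subgroupOf K) (D.subgroupOf K) (by
        intro x hx y hy
        rw [Subgroup.mem_subgroupOf] at hx hy ⊢
        exact hcent x hx y hy) (by
        intro b hb
        exact hθker b (Subgroup.mem_subgroupOf.mp hb))
      rw [Subgroup.relIndex_subgroupOf hCK] at h1
      have h2 : (C.subgroupOf K).index = C.relIndex K := rfl
      rw [h2] at h1
      have h3 : C.relIndex K * K.index = C.index := Subgroup.relIndex_mul_index hCK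
      -- `(2 * K.index * t)^2 < (a - 1)^2`
      have h4 : (2 * (K.index * charDegree (θ : K → ℂ))) ^ 2 < (A.relIndex K - 1) ^ 2 := by
        calc (2 * (K.index * charDegree (θ : K → ℂ))) ^ 2
            = 4 * K.index ^ 2 * charDegree (θ : K → ℂ) ^ 2 := by ring
          _ ≤ 4 * K.index ^ 2 * (C.relIndex K ^ 2 * D.relIndex C) :=
              Nat.mul_le_mul_left _ h1
          _ = 4 * (C.relIndex K * K.index) ^ 2 * D.relIndex C := by ring
          _ = 4 * C.index ^ 2 * D.relIndex C := by rw [h3]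
          _ < (A.relIndex K - 1) ^ 2 := hlt
      exact lt_of_pow_lt_pow_left₀ 2 (Nat.zero_le _) h4

end Cfsg.Agent.S1519
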