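import Cfsg.Statements.S1520
import Cfsg.Agent.S1519

set_option autoImplicit false
open Cfsg

namespace Cfsg.Agent.S1520

open Cfsg.Agent.Lib
open scoped commutatorElement

theorem num_lemma (h k l : ℕ) (hk : 0 < k) (hh : 4 * l ^ 2 + 2 ≤ h) :
    4 * (k * l) ^ 2 * h < (h * k - 1) ^ 2 := by
  have h1 : 1 ≤ h * k := by nlinarith
  have h2 : ((h * k - 1 : ℕ) : ℤ) = (h : ℤ) * k - 1 := by
    rw [Nat.cast_sub h1]
    push_cast
    ring
  have h3 : (4 * ((k : ℤ) * l) ^ 2 * h) < ((h : ℤ) * k - 1) ^ 2 := by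
    have hk' : (1 : ℤ) ≤ k := by exact_mod_cast hk
    have hh' : 4 * (l : ℤ) ^ 2 + 2 ≤ h := by exact_mod_cast hh
    have hh0 : (0 : ℤ) ≤ h := by positivity
    have e1 : 4 * (l : ℤ) ^ 2 * ((k : ℤ) ^ 2 * h) ≤ ((h : ℤ) - 2) * ((k : ℤ) ^ 2 * h) :=
      mul_le_mul_of_nonneg_right (by linarith) (by positivity)
    have e2 : (0 : ℤ) ≤ 2 * h * k * (k - 1) := by
      have : (0 : ℤ) ≤ k - 1 := by linarith
      positivity
    nlinarith
  have h4 : ((4 * (k * l) ^ 2 * h : ℕ) : ℤ) < (((h * k - 1) ^ 2 : ℕ) : ℤ) := by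
    push_cast
    rw [h2]
    exact h3
  exact_mod_cast h4

/-- Let K be a solvable normal subgroup of the finite group L and (S, τ, R) a coherence system from L to G with S the functions induced from non-principal irreducible characters of K; S(A) the members of S induced from characters whose kernel contains A. Let M ≤ H₁ ≤ H ≤ K be normal subgroups of L such that every term of the lower central series of H eventually lies in M (H/M nilpotent), S(H₁) is coherent and [H:H₁] > 4 * [L:K]^2 + 1. Then S(M) is coherent. -/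
theorem result {L : Type*} [Group L] [Fintype L] {G : Type*} [Group G] [Fintype G] (K : Subgroup L) [hK : K.Normal] (hsolv : Group.IsSolvable K) (τ : (L → ℂ) → (G → ℂ)) (R : (L → ℂ) → Finset (G → ℂ)) (hS : Cfsg.IsCoherenceSystem (Cfsg.inducedIrrAbove K ⊥) τ R) (M H₁ H : Subgroup L) [M.Normal] [H₁.Normal] [H.Normal] (hMH₁ : M ≤ H₁) (hH₁H : H₁ ≤ H) (hHK : H ≤ K) [(M.subgroupOf H).Normal] (hnil : Group.IsNilpotent (↥H ⧸ M.subgroupOf H)) (hcoh : Cfsg.IsCoherent (Cfsg.inducedIrrAbove K H₁) {1}ᶜ τ) (hbig : 4 * K.index ^ 2 + 1 < H₁.relIndex H) : Cfsg.IsCoherent (Cfsg.inducedIrrAbove K M) {1}ᶜ τ := by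
  classical
  obtain ⟨n, hn⟩ := Subgroup.nilpotent_iff_lowerCentralSeries.mp hnil
  obtain ⟨Bs, hB0, hBsucc⟩ : ∃ Bs : ℕ → Subgroup L, Bs 0 = H₁ ∧
      ∀ i, Bs (i + 1) = ⁅Bs i, H⁆ ⊔ M :=
    ⟨fun i => Nat.rec H₁ (fun _ B => ⁅B, H⁆ ⊔ M) i, rfl, fun i => rfl⟩
  have hH₁ltH : H₁ < H := by
    refine lt_of_le_of_ne hH₁H (fun h => ?_)
    rw [h, Subgroup.relIndex_self] at hbig
    omega
  have hP : ∀ i, (Bs i).Normal ∧ M ≤ Bs i ∧ Bs i ≤ H₁ ∧
      IsCoherent (inducedIrrAbove K (Bs i)) {1}ᶜ τ := by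
    intro i
    induction i with
    | zero =>
      rw [hB0]
      exact ⟨inferInstance, hMH₁, le_refl _, hcoh⟩
    | succ i ih =>
      obtain ⟨hnorm, hM, hle, hc⟩ := ih
      have := hnorm
      have hsuccle : Bs (i + 1) ≤ Bs i := by
        rw [hBsucc]
        exact sup_le (Subgroup.commutator_le_left _ _) hM
      have hnorm' : (Bs (i + 1)).Normal := by
        rw [hBsucc]
        infer_instance
      have := hnorm'
      refine ⟨hnorm', by rw [hBsucc]; exact le_sup_right, hsuccle.trans hle, ?_⟩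
      have hBiK : Bs i < K := lt_of_le_of_lt hle (lt_of_lt_of_le hH₁ltH hHK)
      apply S1519.result K hsolv τ R hS (Bs i) (Bs (i + 1)) H (Bs i) hBiK
        (lt_of_le_of_lt hsuccle hBiK) hsuccle (hle.trans hH₁H) hHK ?_ hc ?_
      · intro x hx y hy
        rw [hBsucc]
        apply Subgroup.mem_sup_left
        have h1 := Subgroup.commutator_mem_commutator hx hy
        rwa [commutatorElement_def] at h1
      · have h1 : (Bs i).relIndex H₁ * H₁.relIndex H = (Bs i).relIndex H :=
          Subgroup.relIndex_mul_relIndex _ _ _ hle hH₁H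
        have h2 : (Bs i).relIndex H * H.relIndex K = (Bs i).relIndex K :=
          Subgroup.relIndex_mul_relIndex _ _ _ (hle.trans hH₁H) hHK
        have h3 : H.relIndex K * K.index = H.index := Subgroup.relIndex_mul_index hHK
        have h4 : 0 < (Bs i).relIndex H₁ :=
          Nat.pos_of_ne_zero (Subgroup.index_ne_zero_of_finite (H := (Bs i).subgroupOf H₁))
        have h5 : 0 < H.relIndex K :=
          Nat.pos_of_ne_zero (Subgroup.index_ne_zero_of_finite (H := H.subgroupOf K))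
        have h6 : 4 * K.index ^ 2 + 2 ≤ (Bs i).relIndex H := by
          rw [← h1]
          nlinarith
        rw [← h3, ← h2]
        exact num_lemma _ _ _ h5 h6
  have hU : ∀ i, ∀ x ∈ Bs i, ∃ hx : x ∈ H, ((⟨x, hx⟩ : H) : H ⧸ M.subgroupOf H) ∈
      (⊤ : Subgroup (H ⧸ M.subgroupOf H)).lowerCentralSeries i := by
    intro i
    induction i with
    | zero =>
      intro x hx
      rw [hB0] at hx
      exact ⟨hH₁H hx, by rw [Subgroup.lowerCentralSeries_zero]; trivial⟩
    | succ i ih =>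
      have hle : Bs (i + 1) ≤ (((⊤ : Subgroup (H ⧸ M.subgroupOf H)).lowerCentralSeries
          (i + 1)).comap (QuotientGroup.mk' (M.subgroupOf H))).map H.subtype := by
        rw [hBsucc]
        apply sup_le
        · rw [Subgroup.commutator_le]
          intro a ha b hb
          obtain ⟨haH, hamem⟩ := ih a ha
          refine Subgroup.mem_map.mpr ⟨⁅(⟨a, haH⟩ : H), ⟨b, hb⟩⁆, ?_, rfl⟩
          rw [Subgroup.mem_comap, map_commutatorElement, Subgroup.lowerCentralSeries_succ]
          exact Subgroup.commutator_mem_commutator hamem (Subgroup.mem_top _)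
        · intro m hm
          refine Subgroup.mem_map.mpr ⟨⟨m, hH₁H (hMH₁ hm)⟩, ?_, rfl⟩
          rw [Subgroup.mem_comap]
          have h1 : (QuotientGroup.mk' (M.subgroupOf H)) ⟨m, hH₁H (hMH₁ hm)⟩ = 1 :=
            (QuotientGroup.eq_one_iff _).mpr (Subgroup.mem_subgroupOf.mpr hm)
          rw [h1]
          exact Subgroup.one_mem _
      intro x hx
      obtain ⟨y, hy, rfl⟩ := Subgroup.mem_map.mp (hle hx)
      exact ⟨y.2, hy⟩
  have hBn : Bs n = M := by
    apply le_antisymm _ (hP n).2.1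
    intro x hx
    obtain ⟨hxH, hmem⟩ := hU n x hx
    rw [hn, Subgroup.mem_bot, QuotientGroup.eq_one_iff] at hmem
    exact Subgroup.mem_subgroupOf.mp hmem
  rw [← hBn]
  exact (hP n).2.2.2

end Cfsg.Agent.S1520
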