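import Cfsg.Statements.S0878
import Cfsg.Agent.Lib.Helper21.Zass

set_option autoImplicit false
open Cfsg

namespace Cfsg.Agent.S0878

open Cfsg.Agent.Lib.Helper21

/-- Let G be a Zassenhaus group on the finite set Ω, a a point, and let H be the subgroup of the stabilizer of a consisting of the identity and the elements fixing no point other than a (given here as a subgroup of the stabilizer of order one less than the number of points whose non-identity elements fix only a; it is the Frobenius kernel of the stabilizer). Then an element outside the stabilizer of a conjugates no non-identity element of H into H, and the normalizer of H is exactly the stabilizer of a. -/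
theorem result {G Ω : Type*} [Group G] [Finite G] [MulAction G Ω] [Fintype Ω] (hZ : Cfsg.IsZassenhausGroup G Ω) (a : Ω) (H : Subgroup G) (hHa : H ≤ MulAction.stabilizer G a) (hHcard : Nat.card H + 1 = Fintype.card Ω) (hHfix : ∀ u ∈ H, u ≠ 1 → ∀ c : Ω, u • c = c → c = a) : (∀ g : G, g ∉ MulAction.stabilizer G a → ∀ u ∈ H, g * u * g⁻¹ ∈ H → u = 1) ∧ Subgroup.normalizer (H : Set G) = MulAction.stabilizer G a := by
  classical
  have memA : ∀ x : G, x ∈ MulAction.stabilizer G a ↔ x • a = a := fun x =>
    MulAction.mem_stabilizer_iff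
  have part1 : ∀ g : G, g ∉ MulAction.stabilizer G a → ∀ u ∈ H, g * u * g⁻¹ ∈ H → u = 1 := by
    intro g hg u hu hgu
    by_contra hu1
    have h1 : g * u * g⁻¹ ≠ 1 := conj_ne_one hu1
    have hua : u • a = a := (memA u).mp (hHa hu)
    have h2 : (g * u * g⁻¹) • (g • a) = g • a := by
      simp [mul_smul, hua]
    have h3 := hHfix _ hgu h1 (g • a) h2
    exact hg ((memA g).mpr h3)
  refine ⟨part1, ?_⟩
  have h3 : 3 ≤ Fintype.card Ω := zass_three_le_card hZ
  have hcardΩ' : Nat.card {c : Ω // c ≠ a} = Nat.card H := by
    have h1 : Nat.card {c : Ω // c ≠ a} = Fintype.card Ω - 1 := by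
      rw [Nat.card_eq_fintype_card, Fintype.card_subtype_compl, Fintype.card_subtype_eq]
    rw [h1]
    omega
  haveI : Finite H := Nat.finite_of_card_ne_zero (by omega)
  -- Step A: H is transitive on the points other than a
  have stepA : ∀ b : Ω, b ≠ a → ∀ c : Ω, c ≠ a → ∃ h ∈ H, h • b = c := by
    intro b hb c hc
    have hne : ∀ h : H, (h : G) • b ≠ a := by
      intro h hh
      have hha : (h : G) • a = a := (memA _).mp (hHa h.2)
      exact hb (MulAction.injective (h : G) (hh.trans hha.symm))
    let φ : H → {c : Ω // c ≠ a} := fun h => ⟨(h : G) • b, hne h⟩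
    have hinj : Function.Injective φ := by
      intro h h' hh
      have h1 : (h : G) • b = (h' : G) • b := congrArg Subtype.val hh
      have h2 : ((h' : G)⁻¹ * (h : G)) • b = b := by
        rw [mul_smul, h1, inv_smul_smul]
      have h3 : (h' : G)⁻¹ * (h : G) = 1 := by
        by_contra hne1
        exact hb (hHfix _ (H.mul_mem (H.inv_mem h'.2) h.2) hne1 b h2)
      apply Subtype.ext
      exact (inv_mul_eq_one.mp h3).symm
    have hbij := hinj.bijective_of_nat_card_le (le_of_eq hcardΩ')
    obtain ⟨h, hh⟩ := hbij.2 ⟨c, hc⟩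
    exact ⟨h, h.2, congrArg Subtype.val hh⟩
  -- Step B: an element of the stabilizer outside H fixes a further point
  have stepB : ∀ x : G, x • a = a → x ∉ H → ∃ c : Ω, c ≠ a ∧ x • c = c := by
    intro x hxa hxH
    have hne : ∀ c : Ω, c ≠ a → x • c ≠ a := by
      intro c hc hh
      exact hc (MulAction.injective x (hh.trans hxa.symm))
    have hex : ∀ c : {c : Ω // c ≠ a}, ∃ h : H, (h : G) • (x • (c : Ω)) = c := by
      intro c
      obtain ⟨h, hh, hc⟩ := stepA (x • (c : Ω)) (hne c c.2) c c.2
      exact ⟨⟨h, hh⟩, hc⟩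
    choose ψ hψ using hex
    have hinj : Function.Injective ψ := by
      intro c c' hcc
      by_contra hne'
      have hne'' : (c : Ω) ≠ c' := fun h => hne' (Subtype.ext h)
      have h1 : ((ψ c : G) * x) • (c : Ω) = c := by rw [mul_smul, hψ c]
      have h2 : ((ψ c : G) * x) • (c' : Ω) = c' := by rw [hcc, mul_smul, hψ c']
      have h3 : ((ψ c : G) * x) • a = a := by
        rw [mul_smul, hxa]
        exact (memA _).mp (hHa (ψ c).2)
      have h4 : (ψ c : G) * x = 1 :=
        zass_three hZ (Ne.symm c.2) hne'' (Ne.symm c'.2) h3 h1 h2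
      apply hxH
      have h5 : x = (ψ c : G)⁻¹ := by
        rw [eq_inv_iff_mul_eq_one, ← h4]
        have := mul_eq_one_iff_eq_inv.mp h4
        rw [this]
        group
      rw [h5]
      exact H.inv_mem (ψ c).2
    have hbij := hinj.bijective_of_nat_card_le (le_of_eq hcardΩ'.symm)
    obtain ⟨c, hc⟩ := hbij.2 1
    refine ⟨c, c.2, ?_⟩
    have := hψ c
    rw [hc] at this
    simpa using this
  -- Claim C
  have claimC : ∀ g : G, g • a = a → ∀ h ∈ H, g * h * g⁻¹ ∈ H := by
    intro g hga h hh
    by_contra hnot
    have hginv : g⁻¹ • a = a := by rw [inv_smul_eq_iff, hga]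
    have hha : h • a = a := (memA h).mp (hHa hh)
    have hxa : (g * h * g⁻¹) • a = a := by
      rw [mul_smul, mul_smul, hginv, hha, hga]
    obtain ⟨c, hca, hc⟩ := stepB _ hxa hnot
    have hh1 : h ≠ 1 := by
      intro h1
      apply hnot
      rw [h1]
      simp
    have h1 : h • (g⁻¹ • c) = g⁻¹ • c := by
      rw [mul_smul, mul_smul, smul_eq_iff_eq_inv_smul] at hc
      exact hc
    have h2 := hHfix h hh hh1 _ h1
    apply hca
    rw [inv_smul_eq_iff, hga] at h2
    exact h2
  apply le_antisymm
  · intro g hg
    by_contra hga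
    have hex : ∃ u ∈ H, u ≠ 1 := by
      by_contra hcon
      have hbot : H = ⊥ := by
        rw [Subgroup.eq_bot_iff_forall]
        intro u hu
        by_contra hu1
        exact hcon ⟨u, hu, hu1⟩
      rw [hbot, Subgroup.card_bot] at hHcard
      omega
    obtain ⟨u, hu, hu1⟩ := hex
    exact hu1 (part1 g hga u hu ((Subgroup.mem_set_normalizer_iff.mp hg u).mp hu))
  · intro g hg
    have hga : g • a = a := (memA g).mp hg
    rw [Subgroup.mem_set_normalizer_iff]
    intro h
    constructor
    · intro hh
      exact claimC g hga h hh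
    · intro hh
      have hginv : g⁻¹ • a = a := by rw [inv_smul_eq_iff, hga]
      have := claimC g⁻¹ hginv _ hh
      have e : g⁻¹ * (g * h * g⁻¹) * g⁻¹⁻¹ = h := by group
      rw [e] at this
      exact this

end Cfsg.Agent.S0878
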