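import Cfsg.Statements.S0031
import Mathlib

set_option autoImplicit false
open Cfsg

namespace Cfsg.Agent.S0031

theorem result {G : Type*} [Group G] [Finite G] (φ : G ≃* G)
    (hφ : MonoidHom.FixedPointFree (φ : G →* G)) (p : ℕ) [Fact p.Prime] :
    ∃ P : Sylow p G, (P : Subgroup G).map (φ : G →* G) = P := by
  let P₀ : Sylow p G := default
  let φ' : MulAut G := φ
  obtain ⟨g, hg⟩ := MulAction.exists_smul_eq G P₀ (φ' • P₀)
  have hg' : (P₀ : Subgroup G).map (MulAut.conj g).toMonoidHom = (P₀ : Subgroup G).map (φ : G →* G) := by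
    have h1 := congrArg (fun Q : Sylow p G => (Q : Subgroup G)) hg
    simp only [Sylow.smul_def, Sylow.pointwise_smul_def] at h1
    exact h1
  obtain ⟨y, hy⟩ := MonoidHom.FixedPointFree.commutatorMap_surjective hφ g⁻¹
  simp only [MonoidHom.commutatorMap_apply] at hy
  have hy' : φ y⁻¹ * g = y⁻¹ := by
    have : g = φ y * y⁻¹ := by
      have h2 := congrArg (fun z => z⁻¹) hy
      simpa [div_eq_mul_inv] using h2.symm
    rw [this, map_inv]; group
  refine ⟨y⁻¹ • P₀, ?_⟩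
  rw [Sylow.smul_def, Sylow.pointwise_smul_def]
  change ((P₀ : Subgroup G).map (MulAut.conj y⁻¹).toMonoidHom).map (φ : G →* G) = (P₀ : Subgroup G).map (MulAut.conj y⁻¹).toMonoidHom
  have key : (φ : G →* G).comp (MulAut.conj y⁻¹).toMonoidHom = (MulAut.conj (φ y⁻¹)).toMonoidHom.comp (φ : G →* G) := by
    ext z; simp
  rw [Subgroup.map_map, key, ← Subgroup.map_map, ← hg', Subgroup.map_map]
  congr 1
  ext z
  simp only [MonoidHom.comp_apply, MulEquiv.coe_toMonoidHom, MulAut.conj_apply]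
  have e : φ y⁻¹ * (g * z * g⁻¹) * (φ y⁻¹)⁻¹ = (φ y⁻¹ * g) * z * (φ y⁻¹ * g)⁻¹ := by group
  rw [e, hy']

end Cfsg.Agent.S0031
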