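import Cfsg.Statements.S0033
import Cfsg.Agent.Lib.Helper26.FpfBasic
import Cfsg.Agent.Lib.Helper26.FpfTrace

set_option autoImplicit false
open Cfsg
open Cfsg.Agent.Lib.Helper26

namespace Cfsg.Agent.S0033

universe u

section invariance

variable {G : Type u} [Group G] [Finite G]

theorem zc_map (φ : G ≃* G) {W : Subgroup G} (hWφ : W.map (φ : G →* G) = W) :
    (W ⊓ Subgroup.centralizer (W : Set G)).map (φ : G →* G) =
      W ⊓ Subgroup.centralizer (W : Set G) := by
  apply map_eq_of_forall_mem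
  intro x hx
  refine Subgroup.mem_inf.mpr ⟨mem_of_map_eq hWφ hx.1, ?_⟩
  rw [Subgroup.mem_centralizer_iff]
  intro y hy
  obtain ⟨y', hy', rfl⟩ := exists_of_map_eq hWφ hy
  rw [← map_mul, ← map_mul, (Subgroup.mem_centralizer_iff.mp hx.2) y' hy']

theorem centralizer_map (φ : G ≃* G) {W : Subgroup G} (hWφ : W.map (φ : G →* G) = W) :
    (Subgroup.centralizer (W : Set G)).map (φ : G →* G) = Subgroup.centralizer (W : Set G) := by
  apply map_eq_of_forall_mem
  intro x hx
  rw [Subgroup.mem_centralizer_iff]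
  intro y hy
  obtain ⟨y', hy', rfl⟩ := exists_of_map_eq hWφ hy
  rw [← map_mul, ← map_mul, (Subgroup.mem_centralizer_iff.mp hx) y' hy']

theorem normalizer_map (φ : G ≃* G) {W : Subgroup G} (hWφ : W.map (φ : G →* G) = W) :
    (Subgroup.normalizer (W : Set G)).map (φ : G →* G) = Subgroup.normalizer (W : Set G) := by
  apply map_eq_of_forall_mem
  intro x hx
  apply mem_normalizer_of_forall_conj_mem
  intro y hy
  obtain ⟨y', hy', rfl⟩ := exists_of_map_eq hWφ hy
  rw [← map_mul, ← map_inv, ← map_mul]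
  exact mem_of_map_eq hWφ ((Subgroup.mem_normalizer_iff.mp hx y').mp hy')

/-- abelian nontrivial normal invariant `q`-subgroup from a nontrivial normal invariant one -/
theorem exists_abelian (φ : G ≃* G) {q : ℕ} [Fact q.Prime]
    (W : Subgroup G) (hWn : W.Normal) (hWφ : W.map (φ : G →* G) = W) (hWq : IsPGroup q W)
    (hW : W ≠ ⊥) :
    ∃ A : Subgroup G, A.Normal ∧ A.map (φ : G →* G) = A ∧ IsPGroup q A ∧ A ≠ ⊥ ∧
      ∀ a ∈ A, ∀ b ∈ A, a * b = b * a := by
  refine ⟨W ⊓ Subgroup.centralizer (W : Set G), ?_, zc_map φ hWφ, hWq.to_le inf_le_left,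
    zc_ne_bot hWq hW, ?_⟩
  · rw [← Subgroup.normalizer_eq_top_iff]
    apply top_le_iff.mp
    calc ⊤ = Subgroup.normalizer (W : Set G) := (Subgroup.normalizer_eq_top_iff.mpr hWn).symm
      _ ≤ _ := normalizer_le_normalizer_zc W
  · intro a ha b hb
    exact (Subgroup.mem_centralizer_iff.mp hb.2) a ha.1

end invariance

/-- in a minimal situation there is a nontrivial normal invariant subgroup of prime power
order. -/
theorem exists_normal_pgroup {G : Type u} [Group G] [Finite G] (φ : G ≃* G)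
    (hfix : ∀ x, φ x = x → x = 1)
    (hsub : ∀ S : Subgroup G, S ≠ ⊤ → S.map (φ : G →* G) = S → Group.IsNilpotent S)
    (hnp : ∀ q : ℕ, q.Prime → ¬ IsPGroup q G) :
    ∃ (q : ℕ) (_ : Fact q.Prime) (W : Subgroup G),
      W.Normal ∧ W.map (φ : G →* G) = W ∧ IsPGroup q W ∧ W ≠ ⊥ := by
  have hex : ∃ p : ℕ, p.Prime ∧ p ≠ 2 ∧ p ∣ Nat.card G := by
    by_contra hcon
    apply hnp 2 Nat.prime_two
    have h1 : ∀ {d : ℕ}, d.Prime → d ∣ Nat.card G → d = 2 := by
      intro d hd hdvd
      by_contra hne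
      exact hcon ⟨d, hd, hne, hdvd⟩
    exact IsPGroup.of_card (Nat.eq_prime_pow_of_unique_prime_dvd Nat.card_pos.ne' h1)
  obtain ⟨p, hp, hp2, hpdvd⟩ := hex
  have hpf : Fact p.Prime := ⟨hp⟩
  obtain ⟨P, hP⟩ := Cfsg.Agent.S0031.result φ hfix p
  have hPne : (P : Subgroup G) ≠ ⊥ := P.ne_bot_of_dvd_card hpdvd
  have hJφ : (thompsonSubgroupOf p (P : Subgroup G)).map (φ : G →* G) =
      thompsonSubgroupOf p (P : Subgroup G) := by
    have h1 := thompsonOf_map (p := p) (φ : G →* G) (P : Subgroup G)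
      (fun u _ hu => by simpa using hu)
    rw [hP] at h1
    exact h1.symm
  have hZφ := zc_map φ hP
  have hJne : thompsonSubgroupOf p (P : Subgroup G) ≠ ⊥ := thompsonOf_ne_bot P.isPGroup' hPne
  have hZne : (P : Subgroup G) ⊓ Subgroup.centralizer ((P : Subgroup G) : Set G) ≠ ⊥ :=
    zc_ne_bot P.isPGroup' hPne
  have hJP : thompsonSubgroupOf p (P : Subgroup G) ≤ P := by
    unfold thompsonSubgroupOf
    exact Subgroup.map_subtype_le _
  by_cases hN1 : Subgroup.normalizer (thompsonSubgroupOf p (P : Subgroup G) : Set G) = ⊤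
  · exact ⟨p, hpf, _, Subgroup.normalizer_eq_top_iff.mp hN1, hJφ, P.isPGroup'.to_le hJP, hJne⟩
  by_cases hN2 : Subgroup.centralizer (((P : Subgroup G) ⊓
      Subgroup.centralizer ((P : Subgroup G) : Set G) : Subgroup G) : Set G) = ⊤
  · refine ⟨p, hpf, _, ?_, hZφ, P.isPGroup'.to_le inf_le_left, hZne⟩
    constructor
    intro z hz g
    have hg : g ∈ Subgroup.centralizer (((P : Subgroup G) ⊓
        Subgroup.centralizer ((P : Subgroup G) : Set G) : Subgroup G) : Set G) := by
      rw [hN2]; trivial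
    have h1 := Subgroup.mem_centralizer_iff.mp hg z hz
    have h2 : g * z * g⁻¹ = z := by rw [← h1]; group
    rw [h2]; exact hz
  have hnil1 := hsub _ hN1 (normalizer_map φ hJφ)
  have hnil2 := hsub _ hN2 (centralizer_map φ hZφ)
  have hnpc : Npc p G := Cfsg.Agent.S0108.thompson_npc hp2 (Nat.card G) G rfl P
    (npc_of_isNilpotent hnil1 p) (npc_of_isNilpotent hnil2 p)
  obtain ⟨K, hKn, hKcop, k, hk⟩ := hnpc
  have hKmem := npc_mem_iff hKn hKcop hk
  have hKφ : K.map (φ : G →* G) = K := by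
    apply map_eq_of_forall_mem
    intro x hx
    rw [hKmem] at hx ⊢
    rwa [MulEquiv.orderOf_eq]
  have hKtop : K ≠ ⊤ := by
    intro h
    rw [h, Subgroup.card_top] at hKcop
    exact (Nat.Prime.coprime_iff_not_dvd hp).mp hKcop.symm hpdvd
  have hKbot : K ≠ ⊥ := by
    intro h
    rw [h, Subgroup.index_bot] at hk
    exact hnp p hp (IsPGroup.of_card hk)
  have hKnil := hsub K hKtop hKφ
  have hK1 : Nat.card K ≠ 1 := fun h => hKbot (Subgroup.card_eq_one.mp h)
  obtain ⟨q, hq, hqdvd⟩ := Nat.exists_prime_and_dvd hK1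
  have hqf : Fact q.Prime := ⟨hq⟩
  obtain ⟨W, hW⟩ := exists_tPart K hKnil q
  obtain ⟨x, hx⟩ := exists_prime_orderOf_dvd_card' q hqdvd
  have hKn' : K.Normal := hKn
  refine ⟨q, hqf, W, tPart_normal hW, tPart_map φ hKφ hW, tPart_isPGroup hW, ?_⟩
  intro hbot
  have hxW : (x : G) ∈ W := by
    refine (hW _).mpr ⟨x.2, 1, ?_⟩
    rw [pow_one, ← hx, ← Subgroup.orderOf_coe]
    exact pow_orderOf_eq_one _
  rw [hbot, Subgroup.mem_bot] at hxW
  have h1 : orderOf x = 1 := by
    rw [orderOf_eq_one_iff]; exact Subtype.ext hxW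
  rw [hx] at h1
  exact hq.one_lt.ne' h1

/-- the inductive step -/
theorem core {G : Type u} [Group G] [Finite G] (r : ℕ) (hr : r.Prime) (φ : G ≃* G)
    (hfix : ∀ x, φ x = x → x = 1) (hpow : (⇑φ)^[r] = id)
    (hsub : ∀ S : Subgroup G, S ≠ ⊤ → S.map (φ : G →* G) = S → Group.IsNilpotent S)
    (hquot : ∀ (N : Subgroup G) [N.Normal], N ≠ ⊥ → N.map (φ : G →* G) = N →
      Group.IsNilpotent (G ⧸ N)) :
    Group.IsNilpotent G := by
  by_cases hnp : ∃ q : ℕ, q.Prime ∧ IsPGroup q G
  · obtain ⟨q, hq, hG⟩ := hnp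
    have : Fact q.Prime := ⟨hq⟩
    exact hG.isNilpotent
  have hnp' : ∀ q : ℕ, q.Prime → ¬ IsPGroup q G := fun q hq h => hnp ⟨q, hq, h⟩
  obtain ⟨q, hqf, W, hWn, hWφ, hWq, hWne⟩ := exists_normal_pgroup φ hfix hsub hnp'
  obtain ⟨A, hAn, hAφ, hAq, hAne, hAab⟩ := exists_abelian φ W hWn hWφ hWq hWne
  have hq : q.Prime := hqf.out
  have hcent : ∀ (t : ℕ) (_ : Fact t.Prime), t ≠ q → ∀ T : Sylow t G,
      (T : Subgroup G).map (φ : G →* G) = T →
      (T : Subgroup G) ≤ Subgroup.centralizer (A : Set G) := by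
    intro t htf htq T hT
    have ht : t.Prime := htf.out
    apply trace_centralizes φ r hr hfix hpow A T hAab (fun a ha => mem_of_map_eq hAφ ha)
      (fun w hw => mem_of_map_eq hT hw)
    obtain ⟨a, ha⟩ := IsPGroup.iff_card.mp T.isPGroup'
    obtain ⟨b, hb⟩ := IsPGroup.iff_card.mp hAq
    have ha' : Nat.card (T : Subgroup G) = t ^ a := ha
    rw [ha', hb]
    exact Nat.Coprime.pow _ _ ((Nat.coprime_primes ht hq).mpr htq)
  have hCφ := centralizer_map φ hAφ
  have hAquot : Group.IsNilpotent (G ⧸ A) := hquot A hAne hAφ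
  by_cases hC : Subgroup.centralizer (A : Set G) = ⊤
  · apply Subgroup.isNilpotent_of_ker_le_center (QuotientGroup.mk' A)
    rw [QuotientGroup.ker_mk']
    intro a ha
    rw [Subgroup.mem_center_iff]
    intro g
    have hg : g ∈ Subgroup.centralizer (A : Set G) := by rw [hC]; trivial
    exact (Subgroup.mem_centralizer_iff.mp hg a ha).symm
  have hCnil := hsub _ hC hCφ
  have hex : ∃ t : ℕ, t.Prime ∧ t ≠ q ∧ t ∣ Nat.card G := by
    by_contra hcon
    apply hnp' q hq
    have h1 : ∀ {d : ℕ}, d.Prime → d ∣ Nat.card G → d = q := by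
      intro d hd hdvd
      by_contra hne
      exact hcon ⟨d, hd, hne, hdvd⟩
    exact IsPGroup.of_card (Nat.eq_prime_pow_of_unique_prime_dvd Nat.card_pos.ne' h1)
  obtain ⟨t, ht, htq, htdvd⟩ := hex
  have htf : Fact t.Prime := ⟨ht⟩
  obtain ⟨T, hT⟩ := Cfsg.Agent.S0031.result φ hfix t
  have hTne : (T : Subgroup G) ≠ ⊥ := T.ne_bot_of_dvd_card htdvd
  have hTC := hcent t htf htq T hT
  obtain ⟨Wt, hWt⟩ := exists_tPart (Subgroup.centralizer (A : Set G)) hCnil t
  have hCn : (Subgroup.centralizer (A : Set G)).Normal := Subgroup.normal_centralizer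
  have hWtn : Wt.Normal := tPart_normal hWt
  have hWtφ := tPart_map φ hCφ hWt
  have hWtt : IsPGroup t Wt := tPart_isPGroup hWt
  have hWtne : Wt ≠ ⊥ := by
    intro hbot
    apply hTne
    rw [Subgroup.eq_bot_iff_forall]
    intro x hx
    obtain ⟨n, hn⟩ := T.isPGroup' ⟨x, hx⟩
    have hn' : x ^ t ^ n = 1 := by
      have := congrArg Subtype.val hn
      simpa using this
    have hxW : x ∈ Wt := (hWt x).mpr ⟨hTC hx, n, hn'⟩
    rw [hbot, Subgroup.mem_bot] at hxW
    exact hxW
  have hWtquot : Group.IsNilpotent (G ⧸ Wt) := hquot Wt hWtne hWtφ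
  have hdisj : A ⊓ Wt = ⊥ :=
    (IsPGroup.disjoint_of_ne q t (Ne.symm htq) A Wt hAq hWtt).eq_bot
  apply Subgroup.isNilpotent_of_ker_le_center
    ((QuotientGroup.mk' A).prod (QuotientGroup.mk' Wt))
  rw [MonoidHom.ker_prod, QuotientGroup.ker_mk', QuotientGroup.ker_mk', hdisj]
  exact bot_le

/-- a finite group with a fixed-point-free automorphism `φ`, `φ^r = 1` for a prime `r`, is
nilpotent. -/
theorem fpf_nilpotent (r : ℕ) (hr : r.Prime) :
    ∀ (n : ℕ) (G : Type u) [Group G] [Finite G], Nat.card G = n →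
      ∀ φ : G ≃* G, (∀ x, φ x = x → x = 1) → (⇑φ)^[r] = id → Group.IsNilpotent G := by
  intro n
  induction n using Nat.strong_induction_on with
  | _ n ih =>
    intro G _ _ hn φ hfix hpow
    apply core r hr φ hfix hpow
    · intro S hS hSφ
      have hlt : Nat.card S < n := by
        rw [← hn]
        exact lt_of_le_of_ne (Subgroup.card_le_card_group S)
          (fun h => hS ((Subgroup.card_eq_iff_eq_top S).mp h))
      exact ih _ hlt S rfl (resAut φ S hSφ) (resAut_fpf φ S hSφ hfix) (resAut_pow φ S hSφ hpow)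
    · intro N _ hN hNφ
      have hlt : Nat.card (G ⧸ N) < n := by
        rw [← hn, ← Subgroup.index_eq_card, ← Subgroup.card_mul_index N]
        have h1 : 1 < Nat.card N := (Subgroup.one_lt_card_iff_ne_bot N).mpr hN
        have h2 : 0 < N.index := Nat.pos_of_ne_zero Subgroup.index_ne_zero_of_finite
        nlinarith
      exact ih _ hlt (G ⧸ N) rfl (quotAut φ N hNφ) (quotAut_fpf φ N hNφ hfix)
        (quotAut_pow φ N hNφ hpow)

/-- Thompson's Theorem on fixed-point-free automorphisms: a finite group with an automorphism of prime order fixing only the identity is nilpotent. -/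
theorem result {G : Type*} [Group G] [Finite G] (φ : G ≃* G)
    (hφ : MonoidHom.FixedPointFree (φ : G →* G)) (p : ℕ) (hp : p.Prime) (hord : orderOf φ = p) :
    Group.IsNilpotent G := by
  have h1 : φ ^ p = 1 := by rw [← hord]; exact pow_orderOf_eq_one φ
  have hit : ∀ (n : ℕ) (x : G), (φ ^ n) x = (⇑φ)^[n] x := by
    intro n
    induction n with
    | zero => intro x; rfl
    | succ n ih =>
      intro x
      rw [pow_succ, Function.iterate_succ_apply, ← ih]
      rfl
  have hpow : (⇑φ)^[p] = id := by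
    funext x
    rw [← hit, h1]
    rfl
  exact fpf_nilpotent p hp (Nat.card G) G rfl φ hφ hpow

end Cfsg.Agent.S0033
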