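import Cfsg.Statements.S1523
import Cfsg.Agent.S1492
import Cfsg.Agent.Lib.Helper4.CharSimple
import Cfsg.Agent.Lib.Helper4.CharExp2
import Mathlib

set_option autoImplicit false
open Cfsg

namespace Cfsg.Agent.S1523

open Cfsg.Agent.Lib
open scoped ComplexConjugate

/-- an algebraic integer with a rational multiple relation is an integer -/
theorem int_of_integral {x : ℂ} (hx : IsIntegral ℤ x) (m n : ℤ) (hm : m ≠ 0)
    (h : (m : ℂ) * x = n) : ∃ k : ℤ, x = k := by
  have hm' : (m : ℂ) ≠ 0 := by exact_mod_cast hm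
  have hq : x = ((n : ℚ) / (m : ℚ) : ℚ) := by
    push_cast
    rw [eq_div_iff hm']
    linear_combination h
  have hq2 : IsIntegral ℤ ((n : ℚ) / (m : ℚ) : ℚ) := by
    rw [hq] at hx
    exact (isIntegral_algebraMap_iff (A := ℚ) (B := ℂ) (R := ℤ) (algebraMap ℚ ℂ).injective).mp hx
  obtain ⟨k, hk⟩ := IsIntegrallyClosed.isIntegral_iff.mp hq2
  exact ⟨k, by rw [hq, ← hk]; simp⟩

/-- the sum of an invariant function over a free action -/
theorem sum_free {H X : Type*} [Group H] [Fintype H] [Fintype X] [MulAction H X]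
    (hfree : ∀ (h : H) (x : X), h • x = x → h = 1) (F : X → ℂ)
    (hF : ∀ (h : H) (x : X), F (h • x) = F x) (hint : ∀ x, IsIntegral ℤ (F x)) :
    ∃ A : ℂ, IsIntegral ℤ A ∧ ∑ x, F x = (Fintype.card H : ℂ) * A := by
  classical
  refine ⟨∑ ω : MulAction.orbitRel.Quotient H X, F ω.out,
    IsIntegral.sum _ (fun ω _ => hint _), ?_⟩
  have h1 : ∑ x, F x = ∑ ω : MulAction.orbitRel.Quotient H X,
      ∑ x ∈ Finset.univ.filter
        (fun x : X => (Quotient.mk'' x : MulAction.orbitRel.Quotient H X) = ω), F x := by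
    rw [Finset.sum_fiberwise]
  rw [h1, Finset.mul_sum]
  refine Finset.sum_congr rfl fun ω _ => ?_
  have h2 : ∑ x ∈ Finset.univ.filter
      (fun x : X => (Quotient.mk'' x : MulAction.orbitRel.Quotient H X) = ω), F x
      = ∑ h : H, F (h • ω.out) := by
    symm
    refine Finset.sum_bij (fun h _ => h • ω.out) ?_ ?_ ?_ ?_
    · intro h _
      rw [Finset.mem_filter]
      refine ⟨Finset.mem_univ _, ?_⟩
      have h3 : (Quotient.mk'' (h • ω.out) : MulAction.orbitRel.Quotient H X) =
          Quotient.mk'' ω.out := by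
        apply Quotient.sound'
        exact ⟨h, rfl⟩
      rw [h3]
      exact Quotient.out_eq' ω
    · intro h _ h' _ heq
      have h3 : (h'⁻¹ * h) • ω.out = ω.out := by
        rw [mul_smul, heq, inv_smul_smul]
      have h4 := hfree _ _ h3
      have h5 : h = h' * (h'⁻¹ * h) := by group
      rw [h5, h4, mul_one]
    · intro x hx
      rw [Finset.mem_filter] at hx
      have h3 : (Quotient.mk'' x : MulAction.orbitRel.Quotient H X) = Quotient.mk'' ω.out := by
        rw [hx.2]
        exact (Quotient.out_eq' ω).symm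
      have h4 := Quotient.exact' h3
      obtain ⟨h, hh⟩ := h4
      exact ⟨h, Finset.mem_univ _, hh⟩
    · intro h _
      rfl
  rw [h2]
  simp [hF]

/-- the two-sided action of `A × B` on the complement of a subgroup `N` containing both -/
@[reducible] def twoSided {G : Type*} [Group G] (A B N : Subgroup G) (hA : A ≤ N) (hB : B ≤ N) :
    MulAction (A × B) {g : G // g ∉ N} where
  smul ab g := ⟨(ab.1 : G) * g.1 * (ab.2 : G)⁻¹, fun h => g.2 (by
    have h1 : (ab.1 : G)⁻¹ * ((ab.1 : G) * g.1 * (ab.2 : G)⁻¹) * (ab.2 : G) ∈ N :=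
      N.mul_mem (N.mul_mem (N.inv_mem (hA ab.1.2)) h) (hB ab.2.2)
    simpa [mul_assoc] using h1)⟩
  one_smul g := by
    apply Subtype.ext
    show (((1 : A × B).1 : A) : G) * g.1 * ((((1 : A × B).2 : B) : G))⁻¹ = g.1
    simp
  mul_smul x y g := by
    apply Subtype.ext
    show (((x * y).1 : A) : G) * g.1 * ((((x * y).2 : B) : G))⁻¹ =
      (x.1 : G) * ((y.1 : G) * g.1 * (y.2 : G)⁻¹) * (x.2 : G)⁻¹
    simp [mul_assoc]

theorem twoSided_smul_val {G : Type*} [Group G] (A B N : Subgroup G) (hA : A ≤ N) (hB : B ≤ N)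
    (ab : A × B) (g : {g : G // g ∉ N}) :
    ((twoSided A B N hA hB).smul ab g).1 = (ab.1 : G) * g.1 * (ab.2 : G)⁻¹ := rfl

/-- Let G be a finite group, p a prime, P a Sylow p-subgroup whose underlying set is a TI-subset of G, with L the set normaliser of P of odd order. Let Z ≠ ⊥ be a subgroup of P, normal in L and central in P, such that the centralisers in L of any two non-identity elements of Z have the same order. If ψ is an irreducible character of G taking the same value at all non-identity elements of Z, then for z ∈ Z, z ≠ 1, the value ψ z is an integer n with Nat.card P dividing ψ(1) − n (as integers, ψ 1 being the degree). -/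
theorem result {G : Type*} [Group G] [Finite G] (p : ℕ) [Fact p.Prime] (P : Sylow p G) (hTI : Cfsg.IsTISubset ((P : Subgroup G) : Set G)) (hodd : Odd (Nat.card (Subgroup.normalizer ((P : Subgroup G) : Set G)))) (Z : Subgroup G) (hZ1 : Z ≠ ⊥) (hZP : Z ≤ P) (hZn : ∀ x ∈ Subgroup.normalizer ((P : Subgroup G) : Set G), ∀ z ∈ Z, x * z * x⁻¹ ∈ Z) (hZc : ∀ z ∈ Z, ∀ y ∈ (P : Subgroup G), z * y = y * z) (hCL : ∀ z ∈ Z, ∀ z' ∈ Z, z ≠ 1 → z' ≠ 1 → Nat.card ↥(Subgroup.normalizer ((P : Subgroup G) : Set G) ⊓ Subgroup.centralizer ({z} : Set G)) = Nat.card ↥(Subgroup.normalizer ((P : Subgroup G) : Set G) ⊓ Subgroup.centralizer ({z'} : Set G))) (ψ : G → ℂ) (hψ : Cfsg.IsIrrCharacter G ψ) (hconst : ∀ z ∈ Z, ∀ z' ∈ Z, z ≠ 1 → z' ≠ 1 → ψ z = ψ z') (z : G) (hz : z ∈ Z) (hz1 : z ≠ 1) : ∃ n d : ℤ, ψ z = n ∧ ψ 1 = d ∧ (Nat.card (P : Subgroup G) : ℤ) ∣ d - n := by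
  classical
  let _ : Fintype G := Fintype.ofFinite G
  obtain ⟨N, hN⟩ : ∃ N : Subgroup G, N = Subgroup.normalizer ((P : Subgroup G) : Set G) :=
    ⟨_, rfl⟩
  rw [← hN] at hodd hZn
  have hchar : IsCharacter G ψ := Helper35.isChar_of_irr hψ
  have hcf : IsClassFunction G ψ := Helper35.isClassFunction_of_isCharacter hchar
  obtain ⟨d, hd⟩ := S1492.char_one_nat hchar
  have hd0 : (d : ℂ) ≠ 0 := by
    rw [← hd]
    exact Helper4.irr_one_ne_zero ⟨ψ, hψ⟩
  have hPN : (P : Subgroup G) ≤ N := by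
    rw [hN]
    exact Subgroup.le_normalizer
  have hzN : z ∈ N := hPN (hZP hz)
  obtain ⟨a, ha⟩ : ∃ a : ℂ, a = ψ z := ⟨_, rfl⟩
  have hconst' : ∀ w ∈ Z, w ≠ 1 → ψ w = a := fun w hw hw1 => by
    rw [ha]
    exact hconst w hw z hz hw1 hz1
  have hZval : ∀ w ∈ Z, ψ w = a + ((d : ℂ) - a) * (if w = 1 then 1 else 0) := by
    intro w hw
    by_cases h : w = 1
    · rw [if_pos h, h, hd]
      ring
    · rw [if_neg h, hconst' w hw h]
      ring
  have haint : IsIntegral ℤ a := by
    rw [ha]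
    exact Helper4.irr_isIntegral ⟨ψ, hψ⟩ z
  -- `a` is an integer
  have hcardZ : 2 ≤ Nat.card Z := by
    have h1 : 1 < Nat.card Z := (Subgroup.one_lt_card_iff_ne_bot Z).mpr hZ1
    omega
  have haZ : ∃ n : ℤ, a = n := by
    let _ : Fintype Z := Fintype.ofFinite _
    obtain ⟨k, hk⟩ := Helper35.classInner_gen_int
      (Helper35.isGenChar_res Z (Helper35.isGenChar_of_char hchar))
      (Helper35.isGenChar_of_char (Helper35.isCharacter_one (G := Z)))
    unfold classInner at hk
    have h1 : ∑ w : Z, Helper35.res Z ψ w * conj ((1 : Z → ℂ) w) =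
        (d : ℂ) + ((Nat.card Z : ℂ) - 1) * a := by
      have h2 : ∀ w : Z, Helper35.res Z ψ w * conj ((1 : Z → ℂ) w) =
          a + ((d : ℂ) - a) * (if w = 1 then 1 else 0) := by
        intro w
        have h3 := hZval w w.2
        simp only [Helper35.res, Pi.one_apply, map_one, mul_one]
        rw [h3]
        by_cases hw : w = 1
        · have hw' : (w : G) = 1 := by rw [hw]; rfl
          rw [if_pos hw, if_pos hw']
        · have hw' : ¬ ((w : G) = 1) := fun h => hw (Subtype.ext h)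
          rw [if_neg hw, if_neg hw']
      rw [Finset.sum_congr rfl (fun w _ => h2 w), Finset.sum_add_distrib, Finset.sum_const,
        ← Finset.mul_sum, Finset.sum_ite_eq' Finset.univ (1 : Z) (fun _ => (1 : ℂ)),
        if_pos (Finset.mem_univ _), Finset.card_univ, nsmul_eq_mul, ← Nat.card_eq_fintype_card]
      ring
    rw [h1] at hk
    have hZ0 : (Nat.card Z : ℂ) ≠ 0 := by
      have : 0 < Nat.card Z := by omega
      exact_mod_cast this.ne'
    refine int_of_integral haint ((Nat.card Z : ℤ) - 1) (k * (Nat.card Z : ℤ) - d) (by omega) ?_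
    push_cast
    have h4 : (d : ℂ) + ((Nat.card Z : ℂ) - 1) * a = (Nat.card Z : ℂ) * k := by
      rw [← hk]
      field_simp
    linear_combination h4
  obtain ⟨n, hn⟩ := haZ
  refine ⟨n, d, by rw [← ha, hn], by rw [hd]; simp, ?_⟩
  -- the centraliser of `z` in `N`
  obtain ⟨C, hC⟩ : ∃ C : Subgroup G, C = N ⊓ Subgroup.centralizer ({z} : Set G) := ⟨_, rfl⟩
  have hCN : C ≤ N := by
    rw [hC]
    exact inf_le_left
  have hCz : ∀ c ∈ C, c * z = z * c := by
    intro c hc
    rw [hC] at hc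
    exact ((Subgroup.mem_centralizer_iff.mp hc.2) z rfl).symm
  let act : MulAction (↥(P : Subgroup G) × ↥C) {g : G // g ∉ N} :=
    twoSided (P : Subgroup G) C N hPN hCN
  -- the sum off `N`
  have hT : ∀ z' ∈ Z, ∃ A : ℂ, IsIntegral ℤ A ∧
      ∑ t : {g : G // g ∉ N}, ψ (z' * (t.1 * z * t.1⁻¹)) =
        (Nat.card (P : Subgroup G) : ℂ) * (Nat.card C : ℂ) * A := by
    intro z' hz'
    have hfree : ∀ (h : ↥(P : Subgroup G) × ↥C) (x : {g : G // g ∉ N}), h • x = x → h = 1 := by
      rintro ⟨u, c⟩ ⟨g, hg⟩ h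
      have h1 : (u : G) * g * (c : G)⁻¹ = g := congrArg Subtype.val h
      have h2 : (c : G) = g⁻¹ * (u : G) * g := by
        have h3 : (u : G) * g = g * (c : G) := by
          calc (u : G) * g = ((u : G) * g * (c : G)⁻¹) * (c : G) := by group
            _ = g * (c : G) := by rw [h1]
        calc (c : G) = g⁻¹ * (g * (c : G)) := by group
          _ = g⁻¹ * ((u : G) * g) := by rw [h3]
          _ = g⁻¹ * (u : G) * g := by group
      have hcP : (c : G) ∈ (P : Subgroup G) := by
        have hpg : IsPGroup p ((P : Subgroup G).map (MulAut.conj g⁻¹).toMonoidHom) :=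
          P.isPGroup'.map _
        have hmem : (c : G) ∈ (P : Subgroup G).map (MulAut.conj g⁻¹).toMonoidHom := by
          refine Subgroup.mem_map.mpr ⟨u, u.2, ?_⟩
          rw [h2]
          simp [MulAut.conj_apply]
        have h4 := hpg.inf_normalizer_sylow P
        have h5 : (c : G) ∈ (P : Subgroup G).map (MulAut.conj g⁻¹).toMonoidHom ⊓
            Subgroup.normalizer ((P : Subgroup G) : Set G) := ⟨hmem, by rw [← hN]; exact hCN c.2⟩
        have h6 : (c : G) ∈ (P : Subgroup G).map (MulAut.conj g⁻¹).toMonoidHom ⊓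
            (P : Subgroup G) := by
          rw [← h4]
          exact h5
        exact h6.2
      have hg' : g⁻¹ ∉ Subgroup.normalizer ((P : Subgroup G) : Set G) := by
        rw [← hN]
        intro h'
        exact hg (by simpa using N.inv_mem h')
      have hu1 : (u : G) = 1 := by
        refine hTI g⁻¹ hg' u u.2 ?_
        rw [inv_inv, ← h2]
        exact hcP
      have hc1 : (c : G) = 1 := by
        rw [h2, hu1]
        group
      exact Prod.ext (Subtype.ext hu1) (Subtype.ext hc1)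
    have hinv : ∀ (h : ↥(P : Subgroup G) × ↥C) (x : {g : G // g ∉ N}),
        (fun t : {g : G // g ∉ N} => ψ (z' * (t.1 * z * t.1⁻¹))) (h • x) =
        (fun t : {g : G // g ∉ N} => ψ (z' * (t.1 * z * t.1⁻¹))) x := by
      rintro ⟨u, c⟩ ⟨g, hg⟩
      show ψ (z' * (((u : G) * g * (c : G)⁻¹) * z * ((u : G) * g * (c : G)⁻¹)⁻¹)) =
        ψ (z' * (g * z * g⁻¹))
      have hc := hCz c c.2
      have h1 : ((u : G) * g * (c : G)⁻¹) * z * ((u : G) * g * (c : G)⁻¹)⁻¹ =
          (u : G) * (g * ((c : G)⁻¹ * z * (c : G)) * g⁻¹) * (u : G)⁻¹ := by group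
      have h2 : (c : G)⁻¹ * z * (c : G) = z := by
        rw [mul_assoc, ← hc, inv_mul_cancel_left]
      have hzu : z' * (u : G) = (u : G) * z' := hZc z' hz' u u.2
      have h3 : z' * ((u : G) * (g * z * g⁻¹) * (u : G)⁻¹) =
          (u : G) * (z' * (g * z * g⁻¹)) * (u : G)⁻¹ := by
        rw [← mul_assoc, ← mul_assoc, hzu]
        simp only [mul_assoc]
      rw [h1, h2, h3]
      exact hcf _ _
    obtain ⟨A, hA, hsum⟩ := sum_free (H := ↥(P : Subgroup G) × ↥C) (X := {g : G // g ∉ N}) hfree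
      (fun t => ψ (z' * (t.1 * z * t.1⁻¹))) hinv (fun t => Helper4.irr_isIntegral ⟨ψ, hψ⟩ _)
    refine ⟨A, hA, ?_⟩
    rw [hsum, Fintype.card_prod, Nat.card_eq_fintype_card, Nat.card_eq_fintype_card]
    push_cast
    ring
  -- the Schur relation
  have key : ∀ z' ∈ Z, z' ≠ 1 →
      (∑ g : G, ψ (z' * (g * z * g⁻¹))) * (d : ℂ) = (Nat.card G : ℂ) * a * a := by
    intro z' hz' hz'1
    have h1 := Helper83.irr_avg_conj hψ z' z
    rw [hd, hconst' z' hz' hz'1, ← ha] at h1
    exact h1
  have hzinv : z⁻¹ ∈ Z := Z.inv_mem hz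
  have hzinv1 : z⁻¹ ≠ 1 := fun h => hz1 (inv_eq_one.mp h)
  have hEq : ∑ g : G, ψ (z⁻¹ * (g * z * g⁻¹)) = ∑ g : G, ψ (z * (g * z * g⁻¹)) :=
    mul_right_cancel₀ hd0 (by rw [key _ hzinv hzinv1, key _ hz hz1])
  -- splitting the sums
  have hsplit : ∀ z' ∈ Z, ∑ g : G, ψ (z' * (g * z * g⁻¹)) =
      a * ((Finset.univ.filter (fun g : G => g ∈ N)).card : ℂ) + ((d : ℂ) - a) *
        ((Finset.univ.filter (fun g : G => g ∈ N ∧ z' * (g * z * g⁻¹) = 1)).card : ℂ) +
      ∑ t : {g : G // g ∉ N}, ψ (z' * (t.1 * z * t.1⁻¹)) := by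
    intro z' hz'
    rw [← Finset.sum_filter_add_sum_filter_not Finset.univ (fun g : G => g ∈ N)]
    congr 1
    · have h1 : ∀ g ∈ Finset.univ.filter (fun g : G => g ∈ N), ψ (z' * (g * z * g⁻¹)) =
          a + ((d : ℂ) - a) * (if z' * (g * z * g⁻¹) = 1 then 1 else 0) := by
        intro g hg
        rw [Finset.mem_filter] at hg
        exact hZval _ (Z.mul_mem hz' (hZn g hg.2 z hz))
      rw [Finset.sum_congr rfl h1, Finset.sum_add_distrib, Finset.sum_const, ← Finset.mul_sum,
        Finset.sum_boole, nsmul_eq_mul, Finset.filter_filter]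
      ring
    · exact Finset.sum_subtype _ (by simp) _
  obtain ⟨A₁, hA₁, hs₁⟩ := hT z⁻¹ hzinv
  obtain ⟨A₂, hA₂, hs₂⟩ := hT z hz
  have hc1 : (Finset.univ.filter (fun g : G => g ∈ N ∧ z⁻¹ * (g * z * g⁻¹) = 1)).card =
      Nat.card C := by
    rw [Nat.card_eq_fintype_card, Fintype.card_subtype]
    congr 1
    ext g
    simp only [Finset.mem_filter, Finset.mem_univ, true_and]
    rw [hC, Subgroup.mem_inf, Subgroup.mem_centralizer_iff]
    constructor
    · rintro ⟨h1, h2⟩
      refine ⟨h1, ?_⟩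
      intro y hy
      rw [Set.mem_singleton_iff] at hy
      rw [hy]
      have h3 : g * z * g⁻¹ = z := by
        have := congrArg (fun t => z * t) h2
        simpa using this
      have h4 : g * z = z * g := by
        nth_rewrite 2 [← h3]
        group
      exact h4.symm
    · rintro ⟨h1, h2⟩
      refine ⟨h1, ?_⟩
      have h3 := h2 z rfl
      rw [← h3]
      group
  have hc2 : (Finset.univ.filter (fun g : G => g ∈ N ∧ z * (g * z * g⁻¹) = 1)).card = 0 := by
    rw [Finset.card_eq_zero, Finset.filter_eq_empty_iff]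
    rintro g - ⟨hgN, hg⟩
    -- `g z g⁻¹ = z⁻¹`
    have h1 : g * z * g⁻¹ = z⁻¹ := by
      have := congrArg (fun t => z⁻¹ * t) hg
      simpa using this
    have h2 : g * z⁻¹ * g⁻¹ = z := by
      calc g * z⁻¹ * g⁻¹ = (g * z * g⁻¹)⁻¹ := by group
        _ = z := by rw [h1, inv_inv]
    have hcomm : Commute (g * g) z := by
      show g * g * z = z * (g * g)
      have e1 : g * z = z⁻¹ * g := by
        calc g * z = (g * z * g⁻¹) * g := by group
          _ = z⁻¹ * g := by rw [h1]
      have e2 : g * z⁻¹ = z * g := by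
        calc g * z⁻¹ = (g * z⁻¹ * g⁻¹) * g := by group
          _ = z * g := by rw [h2]
      calc g * g * z = g * (g * z) := by group
        _ = g * (z⁻¹ * g) := by rw [e1]
        _ = (g * z⁻¹) * g := by group
        _ = z * g * g := by rw [e2]
        _ = z * (g * g) := by group
    -- odd order of `g`
    have hog : Odd (orderOf g) := by
      have h3 : orderOf g ∣ Nat.card N := by
        have h4 : orderOf (⟨g, hgN⟩ : N) ∣ Nat.card N := orderOf_dvd_natCard _
        rwa [Subgroup.orderOf_mk] at h4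
      exact Odd.of_dvd_nat hodd h3
    obtain ⟨j, hj⟩ := hog
    have h3 : g * (g * g) ^ j = 1 := by
      have h4 : g * (g * g) ^ j = g ^ (2 * j + 1) := by
        rw [← pow_two, ← pow_mul, pow_succ']
      rw [h4, ← hj, pow_orderOf_eq_one]
    have h5 : g = ((g * g) ^ j)⁻¹ := eq_inv_of_mul_eq_one_left h3
    have hcg : Commute g z := by
      rw [h5]
      exact (hcomm.pow_left j).inv_left
    have h6 : g * z * g⁻¹ = z := by
      rw [hcg.eq]
      group
    have h7 : z * z = 1 := by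
      have : z = z⁻¹ := h6.symm.trans h1
      nth_rewrite 2 [this]
      exact mul_inv_cancel z
    have hoz : orderOf z ∣ 2 := orderOf_dvd_of_pow_eq_one (by rw [pow_two]; exact h7)
    have hoz2 : Odd (orderOf z) := by
      have h3 : orderOf z ∣ Nat.card N := by
        have h4 : orderOf (⟨z, hzN⟩ : N) ∣ Nat.card N := orderOf_dvd_natCard _
        rwa [Subgroup.orderOf_mk] at h4
      exact Odd.of_dvd_nat hodd h3
    have hoz1 : orderOf z = 1 := by
      rcases (Nat.dvd_prime Nat.prime_two).mp hoz with h | h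
      · exact h
      · rw [h] at hoz2
        exact absurd hoz2 (by decide)
    exact hz1 (orderOf_eq_one_iff.mp hoz1)
  rw [hsplit _ hzinv, hsplit _ hz, hc1, hc2, hs₁, hs₂] at hEq
  have hCpos : (Nat.card C : ℂ) ≠ 0 := by
    exact_mod_cast (Nat.card_pos (α := C)).ne'
  have h5 : (d : ℂ) - a = (Nat.card (P : Subgroup G) : ℂ) * (A₂ - A₁) := by
    have h6 : ((d : ℂ) - a) * (Nat.card C : ℂ) =
        (Nat.card (P : Subgroup G) : ℂ) * (A₂ - A₁) * (Nat.card C : ℂ) := by
      push_cast at hEq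
      linear_combination hEq
    exact mul_right_cancel₀ hCpos h6
  have hP0 : ((Nat.card (P : Subgroup G) : ℕ) : ℤ) ≠ 0 := by
    exact_mod_cast (Nat.card_pos (α := (P : Subgroup G))).ne'
  obtain ⟨m, hm⟩ := int_of_integral (hA₂.sub hA₁) (Nat.card (P : Subgroup G) : ℤ)
    ((d : ℤ) - n) hP0 (by push_cast; rw [← h5, hn])
  refine ⟨m, ?_⟩
  have h7 : (((d : ℤ) - n : ℤ) : ℂ) = (((Nat.card (P : Subgroup G) : ℤ) * m : ℤ) : ℂ) := by
    push_cast
    rw [← hm, ← h5, hn]
  exact_mod_cast h7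

end Cfsg.Agent.S1523
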