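import Cfsg.Statements.S1535
import Cfsg.Agent.Lib.Helper35.FeitMain
import Cfsg.Agent.Lib.Helper35.CnTi

set_option autoImplicit false
open Cfsg

namespace Cfsg.Agent.S1535

open Cfsg.Agent.Lib Cfsg.Agent.Lib.Helper35

/-- Let N be a finite group with a proper nontrivial normal subgroup H such that every element commuting with a non-identity element of H lies in H (N is a Frobenius group with kernel H); let e be the index of H and suppose Nat.card H ≠ e + 1. Let S be the set of irreducible characters χ of N with χ h ≠ χ 1 for some h ∈ H, and τ a linear isometry on the integer combinations of S vanishing at 1, with values virtual characters of a finite group G vanishing at 1. Then (S, N minus 1, τ) is coherent, or there is a prime p with Nat.card H a power of p, H non-abelian and [H : [H,H]] ≤ 4e² + 1. -/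
theorem result {N : Type*} [Group N] [Fintype N] {G : Type*} [Group G] [Fintype G] (H : Subgroup N) [H.Normal] (hH1 : H ≠ ⊥) (hH2 : H ≠ ⊤) (hC : ∀ h ∈ H, h ≠ 1 → Subgroup.centralizer ({h} : Set N) ≤ H) (he : Nat.card H ≠ H.index + 1) (τ : (N → ℂ) → (G → ℂ)) (hτ : Cfsg.IsLinearIsometryOn (Cfsg.zspanOn {χ : N → ℂ | Cfsg.IsIrrCharacter N χ ∧ ∃ h ∈ H, χ h ≠ χ 1} {1}ᶜ) τ) (hτ1 : ∀ α ∈ Cfsg.zspanOn {χ : N → ℂ | Cfsg.IsIrrCharacter N χ ∧ ∃ h ∈ H, χ h ≠ χ 1} {1}ᶜ, τ α 1 = 0) : Cfsg.IsCoherent {χ : N → ℂ | Cfsg.IsIrrCharacter N χ ∧ ∃ h ∈ H, χ h ≠ χ 1} {1}ᶜ τ ∨ ∃ p : ℕ, p.Prime ∧ (∃ m : ℕ, Nat.card H = p ^ m) ∧ ¬ IsMulCommutative H ∧ (⁅H, H⁆.subgroupOf H).index ≤ 4 * H.index ^ 2 + 1 := by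
  classical
  have hfrob : ∀ y : N, y ∉ H → ∀ k ∈ H, k * y = y * k → k = 1 := by
    intro y hy k hk hky
    by_contra hk1
    exact hy (hC k hk hk1 (Subgroup.mem_centralizer_singleton_iff.mpr hky.symm))
  have hlt : H < Subgroup.normalizer (H : Set N) := by
    rw [Subgroup.normalizer_eq_top]
    exact lt_top_iff_ne_top.mpr hH2
  have hnil : Group.IsNilpotent H := ti_frob_nilpotent H hC hlt hH1
  have hS : {χ : N → ℂ | Cfsg.IsIrrCharacter N χ ∧ ∃ h ∈ H, χ h ≠ χ 1} = ntSet H := by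
    ext χ
    unfold ntSet
    simp only [Set.mem_ofPred_eq]
    constructor
    · rintro ⟨h1, h, hh, hne⟩
      exact ⟨h1, fun hall => hne (hall h hh)⟩
    · rintro ⟨h1, h2⟩
      push Not at h2
      obtain ⟨h, hh, hne⟩ := h2
      exact ⟨h1, h, hh, hne⟩
  rw [hS] at hτ hτ1 ⊢
  rcases feit_frob_main H hH1 hH2 hfrob hnil he τ hτ hτ1 with h | ⟨p, hp, hm, hnab, hle⟩
  · exact Or.inl h
  · refine Or.inr ⟨p, hp, hm, ?_, hle⟩
    intro hcomm
    apply hnab
    intro a ha b hb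
    have := (isMulCommutative_iff.mp hcomm) ⟨a, ha⟩ ⟨b, hb⟩
    exact congrArg Subtype.val this

end Cfsg.Agent.S1535
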