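import Cfsg.Statements.S1534
import Cfsg.Agent.S1535
import Cfsg.Agent.Lib.Helper35.TiNil
import Cfsg.Agent.Lib.Helper35.SibleySyl
import Cfsg.Agent.Lib.Helper20.Tifn

set_option autoImplicit false
open Cfsg

namespace Cfsg.Agent.S1534

open Cfsg.Agent.Lib Cfsg.Agent.Lib.Helper35

theorem comm_index_congr {A B : Type*} [Group A] [Group B] (e : A ≃* B) :
    (commutator A).index = (commutator B).index := by
  show Nat.card (Abelianization A) = Nat.card (Abelianization B)
  exact Nat.card_congr (e.abelianizationCongr).toEquiv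

theorem subgroupOf_commutator {G : Type*} [Group G] (K : Subgroup G) :
    (⁅K, K⁆).subgroupOf K = commutator K := by
  ext x
  rw [Subgroup.mem_subgroupOf, ← Subgroup.map_subtype_commutator, Subgroup.mem_map]
  constructor
  · rintro ⟨y, hy, hyx⟩
    have : y = x := Subtype.ext hyx
    rw [← this]
    exact hy
  · intro hx
    exact ⟨x, hx, rfl⟩

/-- a non-abelian nilpotent Frobenius kernel does not have order `e + 1` -/
theorem frob_nonab_card {N : Type*} [Group N] [Fintype N] (H : Subgroup N) [hH : H.Normal]
    (hfrob : ∀ y : N, y ∉ H → ∀ k ∈ H, k * y = y * k → k = 1)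
    (hnil : Group.IsNilpotent H) (hnab : ¬ ∀ a ∈ H, ∀ b ∈ H, a * b = b * a) :
    Nat.card H ≠ H.index + 1 := by
  classical
  have hH'n : (⁅H, H⁆).Normal := inferInstance
  have hH'le : ⁅H, H⁆ ≤ H := Subgroup.commutator_le_left H H
  have hxd := frob_relIndex_dvd H hfrob ⁅H, H⁆ hH'le
  have hx0 := relIndex_pos' H ⁅H, H⁆
  have hH1 : H ≠ ⊥ := by
    intro h
    apply hnab
    intro a ha b hb
    rw [h, Subgroup.mem_bot] at ha hb
    rw [ha, hb]
  have hMnt : Nontrivial H := (Subgroup.nontrivial_iff_ne_bot H).mpr hH1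
  have hsolv : Group.IsSolvable H := inferInstance
  have hx1 : (⁅H, H⁆).relIndex H ≠ 1 := by
    intro h
    have h1 := Subgroup.relIndex_eq_one.mp h
    have h2 := Group.IsSolvable.commutator_lt_top_of_nontrivial H
    apply h2.ne
    apply Subgroup.map_injective H.subtype_injective
    rw [Subgroup.map_subtype_commutator, le_antisymm hH'le h1, ← MonoidHom.range_eq_map,
      Subgroup.range_subtype]
  have hx := feit_mod2 _ _ (by omega) hxd
  have hmul := Subgroup.relIndex_mul_relIndex ⊥ ⁅H, H⁆ H bot_le hH'le
  rw [Subgroup.relIndex_bot_left, Subgroup.relIndex_bot_left] at hmul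
  have hc2 : 2 ≤ Nat.card (⁅H, H⁆ : Subgroup N) := by
    by_contra hcon
    push Not at hcon
    have h1 : Nat.card (⁅H, H⁆ : Subgroup N) = 1 := by
      have : 0 < Nat.card (⁅H, H⁆ : Subgroup N) := Nat.card_pos
      omega
    have h2 : ⁅H, H⁆ = ⊥ := (Subgroup.eq_bot_iff_card _).mpr h1
    apply hnab
    intro a ha b hb
    rw [Subgroup.commutator_eq_bot_iff_le_centralizer] at h2
    have := h2 ha
    rw [Subgroup.mem_centralizer_iff] at this
    exact (this b hb).symm
  intro hcard
  rw [← hmul] at hcard
  nlinarith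

/-- Let G be a finite group and K a nontrivial nilpotent subgroup whose underlying set is a TI-subset of G, properly contained in its set normaliser N, with C_G(k) ≤ K for every non-identity k ∈ K; let e be the index of K in N and S the set of irreducible characters χ of N with χ k ≠ χ 1 for some k ∈ K. Then one of: S has exactly one member, Nat.card K = e + 1 and K is an elementary abelian p-group for some prime p; or K is a Sylow 2-subgroup of G (Nat.card K is the largest power of 2 dividing Nat.card G) and [K : [K,K]] < 4e²; or (S, N minus 1, induction to G) is coherent. -/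
theorem result {G : Type*} [Group G] [Fintype G] (K : Subgroup G) (hK1 : K ≠ ⊥) (hnil : Group.IsNilpotent K) (hTI : Cfsg.IsTISubset (K : Set G)) (hlt : K < Subgroup.normalizer (K : Set G)) (hC : ∀ k ∈ K, k ≠ 1 → Subgroup.centralizer ({k} : Set G) ≤ K) [Fintype ↥(Subgroup.normalizer (K : Set G))] : (Nat.card {χ : ↥(Subgroup.normalizer (K : Set G)) → ℂ // Cfsg.IsIrrCharacter ↥(Subgroup.normalizer (K : Set G)) χ ∧ ∃ k : ↥(Subgroup.normalizer (K : Set G)), (k : G) ∈ K ∧ χ k ≠ χ 1} = 1 ∧ Nat.card K = (K.subgroupOf (Subgroup.normalizer (K : Set G))).index + 1 ∧ ∃ p : ℕ, p.Prime ∧ Cfsg.IsElementaryAbelian p K) ∨ (Nat.card K = 2 ^ (Nat.card G).factorization 2 ∧ (⁅K, K⁆.subgroupOf K).index < 4 * (K.subgroupOf (Subgroup.normalizer (K : Set G))).index ^ 2) ∨ Cfsg.IsCoherent {χ : ↥(Subgroup.normalizer (K : Set G)) → ℂ | Cfsg.IsIrrCharacter ↥(Subgroup.normalizer (K : Set G)) χ ∧ ∃ k : ↥(Subgroup.normalizer (K : Set G)), (k : G) ∈ K ∧ χ k ≠ χ 1} {1}ᶜ (fun α => Cfsg.indFun (Subgroup.normalizer (K : Set G)) α) := by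
  classical
  have hset : {χ : ↥(Subgroup.normalizer (K : Set G)) → ℂ |
      Cfsg.IsIrrCharacter ↥(Subgroup.normalizer (K : Set G)) χ ∧
      ∃ k : ↥(Subgroup.normalizer (K : Set G)), (k : G) ∈ K ∧ χ k ≠ χ 1} =
      ntSet (K.subgroupOf (Subgroup.normalizer (K : Set G))) := by
    ext χ
    exact Helper20.tifn_mem_iff _ _ χ
  have hKN : K ≤ Subgroup.normalizer (K : Set G) := Subgroup.le_normalizer
  have hcard1 : Nat.card K ≠ 1 := fun h => hK1 ((Subgroup.eq_bot_iff_card K).mpr h)
  by_cases hab : IsMulCommutative K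
  · have hab' : ∀ a ∈ K, ∀ b ∈ K, a * b = b * a := by
      intro a ha b hb
      have := hab.is_comm.comm (⟨a, ha⟩ : K) ⟨b, hb⟩
      exact congrArg Subtype.val this
    rcases ti_abelian K hTI hC hab' hK1 with ⟨h1, h2, h3⟩ | h
    · left
      refine ⟨?_, h2, ?_⟩
      · rw [← h1, ← Nat.card_eq_finsetCard]
        apply Nat.card_congr
        exact Equiv.subtypeEquivRight (fun χ => by
          rw [mem_ntFin]
          exact Helper20.tifn_mem_iff _ _ χ)
      · obtain ⟨p, hp, hpd⟩ := Nat.exists_prime_and_dvd hcard1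
        exact ⟨p, hp, hab, fun a ha => h3 p hp hpd a ha⟩
    · right
      right
      rw [hset]
      exact h
  · have hnab : ¬ ∀ a ∈ K, ∀ b ∈ K, a * b = b * a := fun h =>
      hab (isMulCommutative_iff.mpr (fun a b => Subtype.ext (h a a.2 b b.2)))
    have hMn : (K.subgroupOf (Subgroup.normalizer (K : Set G))).Normal :=
      Subgroup.normal_in_normalizer
    have hfrob := ti_frob K (Subgroup.normalizer (K : Set G)) hC
    obtain ⟨hα, hα1⟩ := ti_isometry K _ rfl hTI hC
    obtain ⟨M, hM⟩ : ∃ M : Subgroup ↥(Subgroup.normalizer (K : Set G)),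
        M = K.subgroupOf (Subgroup.normalizer (K : Set G)) := ⟨_, rfl⟩
    rw [hset, ← hM]
    rw [← hM] at hMn hfrob hα hα1
    have hcardM : Nat.card M = Nat.card K := by
      rw [hM]
      exact Nat.card_congr (Subgroup.subgroupOfEquivOfLe hKN).toEquiv
    have hM1 : M ≠ ⊥ := by
      intro h
      rw [h, Subgroup.card_bot] at hcardM
      exact hcard1 hcardM.symm
    have hM2 : M ≠ ⊤ := by
      intro h
      rw [hM, Subgroup.subgroupOf_eq_top] at h
      exact (not_le_of_gt hlt) h
    have hCM : ∀ h ∈ M, h ≠ 1 →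
        Subgroup.centralizer ({h} : Set ↥(Subgroup.normalizer (K : Set G))) ≤ M := by
      intro h hh h1 x hx
      rw [hM] at hh ⊢
      rw [Subgroup.mem_subgroupOf] at hh ⊢
      apply hC (h : G) hh (fun e => h1 (Subtype.ext e))
      rw [Subgroup.mem_centralizer_singleton_iff] at hx ⊢
      exact congrArg Subtype.val hx
    have hnabM : ¬ ∀ a ∈ M, ∀ b ∈ M, a * b = b * a := by
      intro h
      apply hnab
      intro a ha b hb
      have := h ⟨a, hKN ha⟩ (by rw [hM]; exact Subgroup.mem_subgroupOf.mpr ha) ⟨b, hKN hb⟩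
        (by rw [hM]; exact Subgroup.mem_subgroupOf.mpr hb)
      exact congrArg Subtype.val this
    have hnilM : Group.IsNilpotent M := by
      have hlt' : M < Subgroup.normalizer (M : Set ↥(Subgroup.normalizer (K : Set G))) := by
        have hn : Subgroup.normalizer (M : Set ↥(Subgroup.normalizer (K : Set G))) = ⊤ :=
          Subgroup.normalizer_eq_top M
        rw [hn]
        exact lt_top_iff_ne_top.mpr hM2
      exact ti_frob_nilpotent M hCM hlt' hM1
    have he := frob_nonab_card M hfrob hnilM hnabM
    have hS : {χ : ↥(Subgroup.normalizer (K : Set G)) → ℂ |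
        Cfsg.IsIrrCharacter ↥(Subgroup.normalizer (K : Set G)) χ ∧ ∃ h ∈ M, χ h ≠ χ 1} =
        ntSet M := by
      ext χ
      unfold ntSet
      simp only [Set.mem_ofPred_eq]
      constructor
      · rintro ⟨h1, h, hh, hne⟩
        exact ⟨h1, fun hall => hne (hall h hh)⟩
      · rintro ⟨h1, h2⟩
        push Not at h2
        obtain ⟨h, hh, hne⟩ := h2
        exact ⟨h1, h, hh, hne⟩
    have hres := S1535.result M hM1 hM2 hCM he
      (fun α => Cfsg.indFun (Subgroup.normalizer (K : Set G)) α) (by rw [hS]; exact hα)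
      (by rw [hS]; exact hα1)
    rw [hS] at hres
    rcases hres with h | ⟨p, hp, ⟨m, hm⟩, -, hle⟩
    · right
      right
      exact h
    · have hidx : (⁅M, M⁆.subgroupOf M).index = (⁅K, K⁆.subgroupOf K).index := by
        rw [subgroupOf_commutator, subgroupOf_commutator]
        have e : ↥M ≃* ↥K := by
          rw [hM]
          exact Subgroup.subgroupOfEquivOfLe hKN
        exact comm_index_congr e
      rw [hidx] at hle
      rw [hcardM] at hm
      by_cases hp2 : p = 2
      · right
        left
        subst hp2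
        have : Fact (Nat.Prime 2) := ⟨Nat.prime_two⟩
        have hpK : IsPGroup 2 K := IsPGroup.of_card hm
        obtain ⟨Q, hQ⟩ := ti_sylow K hK1 hC 2 hpK
        refine ⟨?_, ?_⟩
        · rw [← hQ]
          exact Q.card_eq_multiplicity
        · have hm0 : m ≠ 0 := by
            rintro rfl
            rw [pow_zero] at hm
            exact hcard1 hm
          have hed := frob_index_dvd M hfrob
          rw [hcardM, hm] at hed
          have hodd : Odd M.index := by
            rw [Nat.odd_iff]
            have h2 : 2 ∣ 2 ^ m := dvd_pow_self 2 hm0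
            have h3 : 0 < 2 ^ m := by positivity
            by_contra hcon
            have h4 : 2 ∣ M.index := by omega
            have h5 : 2 ∣ 2 ^ m - 1 := h4.trans hed
            omega
          have he2 : M.index ≠ 1 := fun h => hM2 (Subgroup.index_eq_one.mp h)
          have hdvd : (⁅K, K⁆.subgroupOf K).index ∣ 2 ^ m := by
            rw [← hm]
            exact Subgroup.index_dvd_card _
          obtain ⟨i, -, hi⟩ := (Nat.dvd_prime_pow Nat.prime_two).mp hdvd
          rw [hi] at hle ⊢
          obtain ⟨c, hc⟩ := hodd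
          have hc1 : 1 ≤ c := by
            by_contra hcon
            have : c = 0 := by omega
            rw [this] at hc
            exact he2 (by omega)
          have hsq : M.index ^ 2 = 4 * c ^ 2 + 4 * c + 1 := by
            rw [hc]
            ring
          rw [hsq] at hle ⊢
          have hne1 : 2 ^ i ≠ 4 * (4 * c ^ 2 + 4 * c + 1) + 1 := by
            intro h
            rcases Nat.eq_zero_or_pos i with h0 | h0
            · rw [h0, pow_zero] at h
              nlinarith
            · have : 2 ∣ 2 ^ i := dvd_pow_self 2 h0.ne'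
              omega
          have hne2 : 2 ^ i ≠ 4 * (4 * c ^ 2 + 4 * c + 1) := by
            intro h
            rcases Nat.lt_or_ge i 3 with h3 | h3
            · have : 2 ^ i ≤ 2 ^ 2 := Nat.pow_le_pow_right (by norm_num) (by omega)
              nlinarith
            · have : (2 : ℕ) ^ 3 ∣ 2 ^ i := pow_dvd_pow 2 h3
              omega
          omega
      · right
        right
        have hMo : Odd (Nat.card M) := by
          rw [hcardM, hm]
          exact Odd.pow (hp.odd_of_ne_two hp2)
        have hodd := frob_odd M hfrob hnabM hMo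
        rw [hM]
        exact ti_nil_coherent K hTI hC hnil hK1 hodd

end Cfsg.Agent.S1534
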