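import Cfsg.Statements.S0007
import Mathlib

set_option autoImplicit false
open Cfsg

namespace Cfsg.Agent.S0007

theorem result {G : Type*} [Group G] [Finite G] (H K : Subgroup G)
    (h : H.index.Coprime K.index) :
    (H ⊓ K).index = H.index * K.index ∧ ∀ g : G, ∃ x ∈ H, ∃ y ∈ K, g = x * y := by
  have h1 : (H ⊓ K).index = H.index * K.index := by
    apply le_antisymm (Subgroup.index_inf_le)
    apply Nat.le_of_dvd (Nat.pos_of_ne_zero Subgroup.index_ne_zero_of_finite)
    exact Nat.Coprime.mul_dvd_of_dvd_of_dvd h (Subgroup.index_dvd_of_le inf_le_left) (Subgroup.index_dvd_of_le inf_le_right)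
  refine ⟨h1, ?_⟩
  have hK0 : K.index ≠ 0 := Subgroup.index_ne_zero_of_finite
  have hrel : H.relIndex K = H.index := by
    have h2 := Subgroup.relIndex_mul_index (inf_le_right : H ⊓ K ≤ K)
    rw [Subgroup.inf_relIndex_right, h1] at h2
    exact Nat.eq_of_mul_eq_mul_right (Nat.pos_of_ne_zero hK0) h2
  have hstab : MulAction.stabilizer K ((1 : G) : G ⧸ H) = H.subgroupOf K := by
    ext k
    rw [MulAction.mem_stabilizer_iff, Subgroup.mem_subgroupOf]
    show ((k : G) • ((1 : G) : G ⧸ H)) = _ ↔ _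
    rw [MulAction.Quotient.smul_mk, QuotientGroup.eq]
    simp
  have horb : MulAction.orbit K ((1 : G) : G ⧸ H) = Set.univ := by
    have h3 := MulAction.index_stabilizer K ((1:G) : G ⧸ H)
    rw [hstab] at h3
    change H.relIndex K = _ at h3
    rw [hrel, Subgroup.index_eq_card] at h3
    exact (Set.eq_univ_iff_ncard _).mpr h3.symm
  intro g
  have hg : ((g⁻¹ : G) : G ⧸ H) ∈ MulAction.orbit K ((1 : G) : G ⧸ H) := by rw [horb]; trivial
  obtain ⟨k, hk⟩ := hg
  change ((k : G) • ((1 : G) : G ⧸ H)) = _ at hk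
  rw [MulAction.Quotient.smul_mk, QuotientGroup.eq] at hk
  refine ⟨_, H.inv_mem hk, (k : G)⁻¹, K.inv_mem k.2, ?_⟩
  simp [smul_eq_mul]

end Cfsg.Agent.S0007
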