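import Cfsg.Statements.S0020
import Cfsg.Agent.Lib.Helper1.Hall
import Cfsg.Agent.S0007

set_option autoImplicit false
open Cfsg
open Cfsg.Agent.Lib.Helper1
open scoped Pointwise

namespace Cfsg.Agent.S0020

theorem index_biInf_of_coprime {G : Type*} [Group G] [Finite G] {ι : Type} [DecidableEq ι]
    (F : Finset ι) (K : ι → Subgroup G)
    (h : ∀ i ∈ F, ∀ j ∈ F, i ≠ j → (K i).index.Coprime (K j).index) :
    (⨅ i ∈ F, K i).index = ∏ i ∈ F, (K i).index := by
  induction F using Finset.induction_on with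
  | empty => simp
  | insert a s ha ih =>
    rw [Finset.iInf_insert, Finset.prod_insert ha]
    have ih' := ih (fun i hi j hj hij =>
      h i (Finset.mem_insert_of_mem hi) j (Finset.mem_insert_of_mem hj) hij)
    have hc : (K a).index.Coprime (⨅ i ∈ s, K i).index := by
      rw [ih']
      apply Nat.Coprime.prod_right
      intro i hi
      exact h a (Finset.mem_insert_self a s) i (Finset.mem_insert_of_mem hi)
        (by rintro rfl; exact ha hi)
    rw [(Cfsg.Agent.S0007.result (K a) (⨅ i ∈ s, K i) hc).1, ih']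

theorem result {G : Type*} [Group G] [Finite G] [Group.IsSolvable G] :
    ∃ S : (p : Nat.Primes) → Sylow (p : ℕ) G,
      ∀ p q : Nat.Primes, (S p : Set G) * (S q : Set G) = (S q : Set G) * (S p : Set G) := by
  classical
  obtain ⟨N, hN⟩ : ∃ N, N = Nat.card G := ⟨_, rfl⟩
  have hN0 : N ≠ 0 := hN ▸ Nat.card_pos.ne'
  have hex : ∀ q : ℕ, ∃ K : Subgroup G, q.Prime → K.index = q ^ N.factorization q := by
    intro q
    by_cases hq : q.Prime
    · have h1 : Nat.card G = (N / q ^ N.factorization q) * q ^ N.factorization q := by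
        rw [← hN, Nat.div_mul_cancel (Nat.ordProj_dvd N q)]
      have h2 : (N / q ^ N.factorization q).Coprime (q ^ N.factorization q) :=
        (Nat.Coprime.pow_left _ (Nat.coprime_ordCompl hq hN0)).symm
      obtain ⟨K, hK⟩ := hall_exists _ _ h1 h2
      exact ⟨K, fun _ => index_of_card_hall h1 hK⟩
    · exact ⟨⊤, fun h => absurd h hq⟩
  choose K hK using hex
  obtain ⟨π, hπ⟩ : ∃ π : Finset ℕ, π = N.primeFactors := ⟨_, rfl⟩
  obtain ⟨f, hf⟩ : ∃ f : ℕ → ℕ, f = fun q => q ^ N.factorization q := ⟨_, rfl⟩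
  have hprime : ∀ q ∈ π, q.Prime := fun q hq => Nat.prime_of_mem_primeFactors (hπ ▸ hq)
  have hKf : ∀ q ∈ π, (K q).index = f q := fun q hq => by rw [hf]; exact hK q (hprime q hq)
  have hfcop : ∀ p q : ℕ, p.Prime → q.Prime → p ≠ q → (f p).Coprime (f q) := by
    intro p q hp hq hpq
    rw [hf]
    exact Nat.Coprime.pow _ _ ((Nat.coprime_primes hp hq).mpr hpq)
  have hindex : ∀ F : Finset ℕ, F ⊆ π → (⨅ i ∈ F, K i).index = ∏ i ∈ F, f i := by
    intro F hF
    rw [index_biInf_of_coprime F K (fun i hi j hj hij => by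
      rw [hKf i (hF hi), hKf j (hF hj)]
      exact hfcop i j (hprime i (hF hi)) (hprime j (hF hj)) hij)]
    exact Finset.prod_congr rfl (fun i hi => hKf i (hF hi))
  have hprod : ∏ i ∈ π, f i = N := by
    rw [hπ, hf]
    exact (Nat.prod_factorization_eq_prod_primeFactors _).symm.trans
      (Nat.prod_factorization_pow_eq_self hN0)
  have hf1 : ∀ q, q ∉ π → f q = 1 := by
    intro q hq
    rw [hf]
    show q ^ N.factorization q = 1
    have h0 : N.factorization q = 0 := by
      rw [← Finsupp.notMem_support_iff, Nat.support_factorization, ← hπ]; exact hq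
    rw [h0, pow_zero]
  have herase : ∀ (F : Finset ℕ) (q : ℕ), (q ∉ F → f q = 1) →
      (∏ x ∈ F.erase q, f x) * f q = ∏ x ∈ F, f x := by
    intro F q h
    by_cases hq : q ∈ F
    · exact Finset.prod_erase_mul F f hq
    · rw [Finset.erase_eq_of_notMem hq, h hq, mul_one]
  obtain ⟨T, hT⟩ : ∃ T : ℕ → Subgroup G, T = fun p => ⨅ i ∈ π.erase p, K i := ⟨_, rfl⟩
  obtain ⟨T2, hT2⟩ : ∃ T2 : ℕ → ℕ → Subgroup G,
      T2 = fun p q => ⨅ i ∈ (π.erase p).erase q, K i := ⟨_, rfl⟩
  have hTcard : ∀ p, Nat.card (T p) = f p := by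
    intro p
    have h1 := Subgroup.card_mul_index (T p)
    have h2 : (T p).index = ∏ x ∈ π.erase p, f x := by
      rw [hT]; exact hindex _ (Finset.erase_subset _ _)
    have h3 := herase π p (hf1 p)
    rw [hprod] at h3
    rw [h2, ← hN, ← h3] at h1
    have hpos : 0 < ∏ x ∈ π.erase p, f x := by
      rw [← h2]; exact Nat.pos_of_ne_zero Subgroup.index_ne_zero_of_finite
    exact Nat.eq_of_mul_eq_mul_right hpos (by rw [h1, mul_comm])
  have hT2card : ∀ p q, p ≠ q → Nat.card (T2 p q) = f p * f q := by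
    intro p q hpq
    have h1 := Subgroup.card_mul_index (T2 p q)
    have h2 : (T2 p q).index = ∏ x ∈ (π.erase p).erase q, f x := by
      rw [hT2]
      exact hindex _ ((Finset.erase_subset _ _).trans (Finset.erase_subset _ _))
    have h3 := herase π p (hf1 p)
    have h4 := herase (π.erase p) q
      (fun hq => hf1 q (fun hq' => hq (Finset.mem_erase.mpr ⟨Ne.symm hpq, hq'⟩)))
    rw [hprod] at h3
    rw [h2, ← hN, ← h3, ← h4] at h1
    have hpos : 0 < ∏ x ∈ (π.erase p).erase q, f x := by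
      rw [← h2]; exact Nat.pos_of_ne_zero Subgroup.index_ne_zero_of_finite
    exact Nat.eq_of_mul_eq_mul_right hpos (by rw [h1]; ring)
  have hTle : ∀ p q, T p ≤ T2 p q := by
    intro p q
    rw [hT, hT2]
    exact biInf_mono (Finset.erase_subset _ _)
  have hT2comm : ∀ p q, T2 p q = T2 q p := by
    intro p q
    rw [hT2]
    show ⨅ i ∈ (π.erase p).erase q, K i = ⨅ i ∈ (π.erase q).erase p, K i
    rw [Finset.erase_right_comm]
  have hTle' : ∀ p q, T q ≤ T2 p q := fun p q => (hT2comm p q) ▸ hTle q p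
  have hmul : ∀ p q : ℕ, p.Prime → q.Prime → p ≠ q →
      (T p : Set G) * (T q : Set G) = (T2 p q : Set G) := by
    intro p q hp hq hpq
    apply Set.eq_of_subset_of_ncard_le
    · rintro x ⟨a, ha, b, hb, rfl⟩
      exact (T2 p q).mul_mem (hTle p q ha) (hTle' p q hb)
    · have hdisj : Disjoint (T p) (T q) := Subgroup.disjoint_of_coprime_natCard (by
        rw [hTcard, hTcard]; exact hfcop p q hp hq hpq)
      have hinj := Subgroup.mul_injective_of_disjoint hdisj
      have h1 : ((T p : Set G) * (T q : Set G))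
          = Set.range (fun g : T p × T q => (g.1 * g.2 : G)) := by
        ext x
        constructor
        · rintro ⟨a, ha, b, hb, rfl⟩
          exact ⟨(⟨a, ha⟩, ⟨b, hb⟩), rfl⟩
        · rintro ⟨⟨a, b⟩, rfl⟩
          exact ⟨a, a.2, b, b.2, rfl⟩
      rw [h1, Set.ncard_range_of_injective hinj, Nat.card_prod, hTcard, hTcard,
        ← hT2card p q hpq]
      exact le_of_eq (Nat.card_coe_set_eq _).symm
    · exact Set.toFinite _
  refine ⟨fun p => haveI : Fact (p : ℕ).Prime := ⟨p.2⟩
    Sylow.ofCard (T p) (by rw [hTcard, hf, hN]), ?_⟩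
  intro p q
  by_cases hpq : (p : ℕ) = q
  · have h0 : p = q := Subtype.ext hpq
    subst h0; rfl
  · show (T p : Set G) * (T q : Set G) = (T q : Set G) * (T p : Set G)
    rw [hmul p q p.2 q.2 hpq, hmul q p q.2 p.2 (Ne.symm hpq), hT2comm]

end Cfsg.Agent.S0020
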