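import Cfsg.Statements.S0006
import Cfsg.Agent.S0144
import Cfsg.Agent.S0020

set_option autoImplicit false
open Cfsg
open Cfsg.Agent.Lib.Helper1
open scoped Pointwise

namespace Cfsg.Agent.S0006

universe u

/-- every prime has a complement -/
def HasComplements (G : Type u) [Group G] : Prop :=
  ∀ p : ℕ, p.Prime → ∃ H : Subgroup G, (Nat.card H).Coprime p ∧ ∃ j : ℕ, H.index = p ^ j

theorem relIndex_dvd_index_of_normal_right {G : Type u} [Group G] [Finite G] (H N : Subgroup G)
    [N.Normal] : H.relIndex N ∣ H.index := by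
  have h1 : H.relIndex N = H.relIndex (H ⊔ N) := by
    have e1 := Subgroup.relIndex_mul_relIndex ⊥ (H ⊓ N) N bot_le inf_le_right
    have e2 := Subgroup.relIndex_mul_relIndex ⊥ N (H ⊔ N) bot_le le_sup_right
    have e3 := Subgroup.relIndex_mul_relIndex ⊥ (N ⊓ H) H bot_le inf_le_right
    have e4 := Subgroup.relIndex_mul_relIndex ⊥ H (H ⊔ N) bot_le le_sup_left
    simp only [Subgroup.relIndex_bot_left, Subgroup.inf_relIndex_right] at e1 e2 e3 e4
    rw [Subgroup.relIndex_sup_right] at e2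
    have hpos : 0 < Nat.card H := Nat.card_pos
    apply Nat.eq_of_mul_eq_mul_left hpos
    rw [e4, ← e2, ← e1, ← e3, inf_comm]; ring
  rw [h1]
  exact Subgroup.relIndex_dvd_index_of_le le_sup_left

theorem hasComplements_subgroup {G : Type u} [Group G] [Finite G] (h : HasComplements G)
    (N : Subgroup G) [N.Normal] : HasComplements N := by
  intro p hp
  obtain ⟨H, hH, j, hj⟩ := h p hp
  refine ⟨H.subgroupOf N, Nat.Coprime.coprime_dvd_left (card_subgroupOf_dvd H N) hH, ?_⟩
  have h1 : (H.subgroupOf N).index ∣ p ^ j := hj ▸ relIndex_dvd_index_of_normal_right H N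
  obtain ⟨m, -, hm⟩ := (Nat.dvd_prime_pow hp).mp h1
  exact ⟨m, hm⟩

theorem hasComplements_quotient {G : Type u} [Group G] [Finite G] (h : HasComplements G)
    (N : Subgroup G) [N.Normal] : HasComplements (G ⧸ N) := by
  intro p hp
  obtain ⟨H, hH, j, hj⟩ := h p hp
  refine ⟨H.map (QuotientGroup.mk' N),
    Nat.Coprime.coprime_dvd_left (Subgroup.card_map_dvd H _) hH, ?_⟩
  have h1 : (H.map (QuotientGroup.mk' N)).index ∣ p ^ j :=
    hj ▸ Subgroup.index_map_dvd H (QuotientGroup.mk'_surjective N)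
  obtain ⟨m, -, hm⟩ := (Nat.dvd_prime_pow hp).mp h1
  exact ⟨m, hm⟩

theorem pow_eq_pow_factorization {p a j n : ℕ} (hp : p.Prime) (ha : a.Coprime p)
    (h : a * p ^ j = n) (hn : n ≠ 0) : p ^ j = p ^ n.factorization p := by
  have ha0 : a ≠ 0 := by rintro rfl; simp at h; exact hn h.symm
  have h1 : n.factorization p = j := by
    rw [← h, Nat.factorization_mul ha0 (pow_ne_zero _ hp.ne_zero), Finsupp.add_apply,
      Nat.factorization_eq_zero_of_not_dvd (fun hd => hp.one_lt.ne'
        (Nat.eq_one_of_dvd_coprimes ha hd dvd_rfl)),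
      Nat.factorization_pow, Finsupp.smul_apply, hp.factorization_self]
    simp
  rw [h1]

theorem exact_complements {G : Type u} [Group G] [Finite G] (h : HasComplements G) (p : ℕ)
    (hp : p.Prime) : ∃ H : Subgroup G, H.index = p ^ (Nat.card G).factorization p := by
  obtain ⟨H, hH, j, hj⟩ := h p hp
  refine ⟨H, ?_⟩
  rw [hj]
  apply pow_eq_pow_factorization hp hH _ Nat.card_pos.ne'
  rw [← hj, Subgroup.card_mul_index]

theorem key {G : Type u} [Group G] [Finite G] (p q : ℕ) (hp : p.Prime) (hq : q.Prime)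
    (hpq : p ≠ q) (a b : ℕ) (hb : b ≠ 0) (Hp Hq D : Subgroup G) (hHp : Hp.index = p ^ a)
    (hHq : Hq.index = q ^ b) (hD : Nat.card D = p ^ a * q ^ b) (hDp : D.index.Coprime p)
    (hDq : D.index.Coprime q) (M : Subgroup G) (hMD : M ≤ D)
    (hMnorm : D ≤ Subgroup.normalizer (M : Set G)) (hMp : IsPGroup p M) (hM1 : M ≠ ⊥) :
    ∃ N : Subgroup G, N.Normal ∧ N ≠ ⊥ ∧ N ≠ ⊤ := by
  have := Fact.mk hp
  have hpqc : (p ^ a).Coprime (q ^ b) := Nat.Coprime.pow _ _ ((Nat.coprime_primes hp hq).mpr hpq)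
  have hDpos : 0 < D.index := Nat.pos_of_ne_zero Subgroup.index_ne_zero_of_finite
  -- S = D ⊓ Hq has order p ^ a
  have hS1 := (Cfsg.Agent.S0007.result D Hq (by rw [hHq]; exact Nat.Coprime.pow_right b hDq)).1
  have hScard : Nat.card (D ⊓ Hq : Subgroup G) = p ^ a := by
    have h1 := Subgroup.card_mul_index (D ⊓ Hq)
    have h2 := Subgroup.card_mul_index D
    rw [hS1, hHq, ← h2, hD] at h1
    have h3 : Nat.card (D ⊓ Hq : Subgroup G) * (D.index * q ^ b)
        = p ^ a * (D.index * q ^ b) := by rw [h1]; ring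
    exact Nat.eq_of_mul_eq_mul_right (Nat.mul_pos hDpos (pow_pos hq.pos b)) h3
  have hSp : IsPGroup p (D ⊓ Hq : Subgroup G) := IsPGroup.of_card hScard
  have hSM : IsPGroup p ((D ⊓ Hq) ⊔ M : Subgroup G) :=
    hSp.to_sup_of_normal_right' hMp (inf_le_left.trans hMnorm)
  have hMS : M ≤ D ⊓ Hq := by
    have h1 : (D ⊓ Hq) ⊔ M = D ⊓ Hq := by
      symm
      apply Subgroup.eq_of_le_of_card_ge le_sup_left
      obtain ⟨k, hk⟩ := IsPGroup.iff_card.mp hSM
      have h2 : Nat.card ((D ⊓ Hq) ⊔ M : Subgroup G) ∣ p ^ a * q ^ b :=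
        hD ▸ Subgroup.card_dvd_of_le (sup_le inf_le_left hMD)
      have h3 : (Nat.card ((D ⊓ Hq) ⊔ M : Subgroup G)).Coprime (q ^ b) := by
        rw [hk]; exact Nat.Coprime.pow _ _ ((Nat.coprime_primes hp hq).mpr hpq)
      rw [hScard]
      exact Nat.le_of_dvd (pow_pos hp.pos a) (h3.dvd_of_dvd_mul_right h2)
    rw [← h1]; exact le_sup_right
  have hMHq : M ≤ Hq := hMS.trans inf_le_right
  -- G = Hq * (D ⊓ Hp)
  have hU1 := (Cfsg.Agent.S0007.result D Hp (by rw [hHp]; exact Nat.Coprime.pow_right a hDp)).1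
  have hfact := (Cfsg.Agent.S0007.result Hq (D ⊓ Hp) (by
    rw [hHq, hU1, hHp]
    exact Nat.Coprime.mul_right (Nat.Coprime.pow_left b hDq.symm) hpqc.symm)).2
  refine ⟨Subgroup.normalClosure (M : Set G), inferInstance, ?_, ?_⟩
  · intro hbot
    apply hM1
    apply le_bot_iff.mp
    rw [← hbot]
    exact Subgroup.le_normalClosure
  · intro htop
    have hle : Subgroup.normalClosure (M : Set G) ≤ Hq := by
      rw [Subgroup.normalClosure]
      apply (Subgroup.closure_le _).mpr
      intro x hx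
      rw [Group.mem_conjugatesOfSet_iff] at hx
      obtain ⟨m, hm, hmx⟩ := hx
      rw [isConj_iff] at hmx
      obtain ⟨c, rfl⟩ := hmx
      obtain ⟨h, hh, u, hu, rfl⟩ := hfact c
      have h1 : u * m * u⁻¹ ∈ M := (Subgroup.mem_normalizer_iff.mp (hMnorm hu.1) m).mp hm
      have h2 : h * u * m * (h * u)⁻¹ = h * (u * m * u⁻¹) * h⁻¹ := by group
      rw [SetLike.mem_coe, h2]
      exact Hq.mul_mem (Hq.mul_mem hh (hMHq h1)) (Hq.inv_mem hh)
    rw [htop, top_le_iff] at hle
    rw [hle, Subgroup.index_top] at hHq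
    exact hb (Nat.pow_eq_one.mp hHq.symm |>.resolve_left hq.one_lt.ne')

theorem prod_erase_mul' (f : ℕ → ℕ) (F : Finset ℕ) (q : ℕ) (h : q ∉ F → f q = 1) :
    (∏ x ∈ F.erase q, f x) * f q = ∏ x ∈ F, f x := by
  by_cases hq : q ∈ F
  · exact Finset.prod_erase_mul F f hq
  · rw [Finset.erase_eq_of_notMem hq, h hq, mul_one]

/-- a group with complements for all primes and at least three prime divisors is not simple -/
theorem exists_normal_of_three_primes {G : Type u} [Group G] [Finite G] (h : HasComplements G)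
    (h3 : 2 < (Nat.card G).primeFactors.card) : ∃ N : Subgroup G, N.Normal ∧ N ≠ ⊥ ∧ N ≠ ⊤ := by
  classical
  obtain ⟨n, hn⟩ : ∃ n, n = Nat.card G := ⟨_, rfl⟩
  rw [← hn] at h3
  have hn0 : n ≠ 0 := hn ▸ Nat.card_pos.ne'
  have hex : ∀ q : ℕ, ∃ K : Subgroup G, q.Prime → K.index = q ^ n.factorization q := by
    intro q
    by_cases hq : q.Prime
    · obtain ⟨K, hK⟩ := exact_complements h q hq
      exact ⟨K, fun _ => hn ▸ hK⟩
    · exact ⟨⊤, fun h => absurd h hq⟩
  choose K hK using hex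
  obtain ⟨f, hf⟩ : ∃ f : ℕ → ℕ, f = fun q => q ^ n.factorization q := ⟨_, rfl⟩
  have hprime : ∀ q ∈ n.primeFactors, q.Prime := fun q hq => Nat.prime_of_mem_primeFactors hq
  have hKf : ∀ q ∈ n.primeFactors, (K q).index = f q := fun q hq => by
    rw [hf]; exact hK q (hprime q hq)
  have hfcop : ∀ p q : ℕ, p.Prime → q.Prime → p ≠ q → (f p).Coprime (f q) := by
    intro p q hp hq hpq
    rw [hf]
    exact Nat.Coprime.pow _ _ ((Nat.coprime_primes hp hq).mpr hpq)
  have hindex : ∀ F : Finset ℕ, F ⊆ n.primeFactors → (⨅ i ∈ F, K i).index = ∏ i ∈ F, f i := by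
    intro F hF
    rw [Cfsg.Agent.S0020.index_biInf_of_coprime F K (fun i hi j hj hij => by
      rw [hKf i (hF hi), hKf j (hF hj)]
      exact hfcop i j (hprime i (hF hi)) (hprime j (hF hj)) hij)]
    exact Finset.prod_congr rfl (fun i hi => hKf i (hF hi))
  have hprod : ∏ i ∈ n.primeFactors, f i = n := by
    rw [hf]
    exact (Nat.prod_factorization_eq_prod_primeFactors _).symm.trans
      (Nat.prod_factorization_pow_eq_self hn0)
  obtain ⟨p₁, hp₁, p₂, hp₂, hne⟩ := Finset.one_lt_card.mp (by omega : 1 < n.primeFactors.card)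
  have hP₁ := hprime p₁ hp₁
  have hP₂ := hprime p₂ hp₂
  obtain ⟨F, hF⟩ : ∃ F : Finset ℕ, F = (n.primeFactors.erase p₁).erase p₂ := ⟨_, rfl⟩
  have hFsub : F ⊆ n.primeFactors :=
    hF ▸ (Finset.erase_subset _ _).trans (Finset.erase_subset _ _)
  obtain ⟨D, hD⟩ : ∃ D : Subgroup G, D = ⨅ i ∈ F, K i := ⟨_, rfl⟩
  have hDindex : D.index = ∏ i ∈ F, f i := hD ▸ hindex F hFsub
  have hDcop : ∀ p : ℕ, p.Prime → p ∉ F → D.index.Coprime p := by
    intro p hp hpF
    rw [hDindex]
    apply Nat.Coprime.prod_left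
    intro i hi
    have h1 : (f i).Coprime (p ^ 1) := by
      rw [hf]
      exact Nat.Coprime.pow _ _ ((Nat.coprime_primes (hprime i (hFsub hi)) hp).mpr
        (fun h => hpF (h ▸ hi)))
    simpa using h1
  have hp₁F : p₁ ∉ F := by rw [hF]; simp
  have hp₂F : p₂ ∉ F := by rw [hF]; simp
  have hDcard : Nat.card D = f p₁ * f p₂ := by
    have h1 := Subgroup.card_mul_index D
    have h2 := prod_erase_mul' f n.primeFactors p₁ (fun h => absurd hp₁ h)
    have h4 := prod_erase_mul' f (n.primeFactors.erase p₁) p₂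
      (fun h => absurd (Finset.mem_erase.mpr ⟨Ne.symm hne, hp₂⟩) h)
    rw [hprod] at h2
    rw [hDindex, ← hn, ← h2, ← h4, ← hF] at h1
    have hpos : 0 < ∏ x ∈ F, f x := by
      rw [← hDindex]; exact Nat.pos_of_ne_zero Subgroup.index_ne_zero_of_finite
    exact Nat.eq_of_mul_eq_mul_right hpos (by rw [h1]; ring)
  have hv₁ : n.factorization p₁ ≠ 0 := by
    rw [← Finsupp.mem_support_iff, Nat.support_factorization]; exact hp₁
  have hv₂ : n.factorization p₂ ≠ 0 := by
    rw [← Finsupp.mem_support_iff, Nat.support_factorization]; exact hp₂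
  have hDcard' : Nat.card D = p₁ ^ n.factorization p₁ * p₂ ^ n.factorization p₂ := by
    rw [hDcard, hf]
  have : Group.IsSolvable D := Cfsg.Agent.S0144.result p₁ p₂ _ _ hP₁ hP₂ hDcard'
  have : Nontrivial D := by
    rw [← Finite.one_lt_card_iff_nontrivial, hDcard']
    have h1 : 1 < p₁ ^ n.factorization p₁ := Nat.one_lt_pow hv₁ hP₁.one_lt
    have h2 : 0 < p₂ ^ n.factorization p₂ := pow_pos hP₂.pos _
    nlinarith
  obtain ⟨p, P₀, hp, hP₀n, hP₀p, hP₀1⟩ := exists_normal_pgroup (G := D)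
  obtain ⟨M, hM⟩ : ∃ M : Subgroup G, M = P₀.map D.subtype := ⟨_, rfl⟩
  have hMD : M ≤ D := hM ▸ Subgroup.map_subtype_le P₀
  have hMp : IsPGroup p M := hM ▸ hP₀p.map _
  have hM1 : M ≠ ⊥ := by
    rw [hM]
    intro hbot
    exact hP₀1 ((Subgroup.map_eq_bot_iff_of_injective P₀ D.subtype_injective).mp hbot)
  have hMnorm : D ≤ Subgroup.normalizer (M : Set G) := by
    have key1 : ∀ d ∈ D, ∀ x ∈ M, d * x * d⁻¹ ∈ M := by
      intro d hd x hx
      rw [hM] at hx ⊢
      obtain ⟨y, hy, rfl⟩ := hx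
      exact ⟨⟨d, hd⟩ * y * ⟨d, hd⟩⁻¹, hP₀n.conj_mem y hy ⟨d, hd⟩, by simp⟩
    intro d hd
    rw [Subgroup.mem_normalizer_iff]
    intro x
    constructor
    · exact key1 d hd x
    · intro hx
      have h1 := key1 d⁻¹ (D.inv_mem hd) _ hx
      simpa [mul_assoc] using h1
  have := Fact.mk hp
  have hpdvd : p ∣ f p₁ * f p₂ := by
    rw [← hDcard]
    obtain ⟨k, hk⟩ := IsPGroup.iff_card.mp hMp
    have hk0 : k ≠ 0 := by
      rintro rfl
      rw [pow_zero] at hk
      exact hM1 (Subgroup.card_eq_one.mp hk)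
    have h1 : p ∣ Nat.card M := hk ▸ dvd_pow_self p hk0
    exact h1.trans (Subgroup.card_dvd_of_le hMD)
  have hpcase : p = p₁ ∨ p = p₂ := by
    rw [hf] at hpdvd
    rcases (Nat.Prime.dvd_mul hp).mp hpdvd with h1 | h1
    · left; exact (Nat.prime_dvd_prime_iff_eq hp hP₁).mp (hp.dvd_of_dvd_pow h1)
    · right; exact (Nat.prime_dvd_prime_iff_eq hp hP₂).mp (hp.dvd_of_dvd_pow h1)
  rcases hpcase with rfl | rfl
  · exact key p p₂ hp hP₂ hne _ _ hv₂ (K p) (K p₂) D (hK p hp) (hK p₂ hP₂) hDcard'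
      (hDcop p hp hp₁F) (hDcop p₂ hP₂ hp₂F) M hMD hMnorm hMp hM1
  · exact key p p₁ hp hP₁ (Ne.symm hne) _ _ hv₁ (K p) (K p₁) D (hK p hp) (hK p₁ hP₁)
      (by rw [hDcard', mul_comm]) (hDcop p hp hp₂F) (hDcop p₁ hP₁ hp₁F) M hMD hMnorm hMp hM1

theorem solvable_of_two_primes {G : Type u} [Group G] [Finite G]
    (h2 : (Nat.card G).primeFactors.card ≤ 2) : Group.IsSolvable G := by
  classical
  obtain ⟨n, hn⟩ : ∃ n, n = Nat.card G := ⟨_, rfl⟩
  rw [← hn] at h2
  have hn0 : n ≠ 0 := hn ▸ Nat.card_pos.ne'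
  have hprod : ∏ i ∈ n.primeFactors, i ^ n.factorization i = n :=
    (Nat.prod_factorization_eq_prod_primeFactors _).symm.trans
      (Nat.prod_factorization_pow_eq_self hn0)
  have hprime : ∀ q ∈ n.primeFactors, q.Prime := fun q hq => Nat.prime_of_mem_primeFactors hq
  have hcases : n.primeFactors.card = 0 ∨ n.primeFactors.card = 1 ∨ n.primeFactors.card = 2 := by
    omega
  rcases hcases with h0 | h1 | h2'
  · rw [Finset.card_eq_zero] at h0
    rw [h0, Finset.prod_empty] at hprod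
    exact Cfsg.Agent.S0144.result 2 2 0 0 Nat.prime_two Nat.prime_two (by rw [← hn, ← hprod]; norm_num)
  · obtain ⟨p, hp⟩ := Finset.card_eq_one.mp h1
    rw [hp, Finset.prod_singleton] at hprod
    have hpP : p.Prime := hprime p (by rw [hp]; simp)
    exact Cfsg.Agent.S0144.result p 2 (n.factorization p) 0 hpP Nat.prime_two
      (by rw [← hn, pow_zero, mul_one, hprod])
  · obtain ⟨p, q, hpq, hp⟩ := Finset.card_eq_two.mp h2'
    rw [hp, Finset.prod_pair hpq] at hprod
    have hpP : p.Prime := hprime p (by rw [hp]; simp)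
    have hqP : q.Prime := hprime q (by rw [hp]; simp)
    exact Cfsg.Agent.S0144.result p q (n.factorization p) (n.factorization q) hpP hqP
      (by rw [← hn, hprod])

theorem solvable_of_hasComplements {G : Type u} [Group G] [Finite G] (h : HasComplements G) :
    Group.IsSolvable G := by
  induction' hn : Nat.card G using Nat.strong_induction_on with n ih generalizing G
  by_cases h2 : (Nat.card G).primeFactors.card ≤ 2
  · exact solvable_of_two_primes h2
  · obtain ⟨N, hN, hN1, hN2⟩ := exists_normal_of_three_primes h (by omega)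
    have := hN
    have hsN : Group.IsSolvable N := by
      apply ih (Nat.card N) _ (hasComplements_subgroup h N) rfl
      rw [← hn]
      exact card_lt_of_index_ne_one hN2
    have hsQ : Group.IsSolvable (G ⧸ N) := by
      apply ih (Nat.card (G ⧸ N)) _ (hasComplements_quotient h N) rfl
      rw [← hn]
      exact card_quotient_lt hN1
    exact Group.isSolvable_of_ker_le_range N.subtype (QuotientGroup.mk' N)
      (by rw [QuotientGroup.ker_mk', Subgroup.range_subtype])

/-- Converse of Hall's Theorem: if for every prime p a finite group has a subgroup of index equal to the p-part of the group order (a Hall p-complement), then the group is solvable. -/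
theorem result {G : Type*} [Group G] [Finite G]
    (h : ∀ p : ℕ, p.Prime → ∃ H : Subgroup G, H.index = p ^ (Nat.card G).factorization p) :
    Group.IsSolvable G := by
  apply solvable_of_hasComplements
  intro p hp
  obtain ⟨H, hH⟩ := h p hp
  refine ⟨H, ?_, _, hH⟩
  have h1 := Subgroup.card_mul_index H
  rw [hH] at h1
  have hcard : Nat.card H = Nat.card G / p ^ (Nat.card G).factorization p :=
    (Nat.div_eq_of_eq_mul_left (pow_pos hp.pos _) h1.symm).symm
  rw [hcard]
  exact (Nat.coprime_ordCompl hp Nat.card_pos.ne').symm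

end Cfsg.Agent.S0006
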