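import Cfsg.Statements.S0021
import Cfsg.Agent.S0006

set_option autoImplicit false
open Pointwise
open Cfsg

namespace Cfsg.Agent.S0021

universe u

/-- the product set of two permuting subgroups is their join -/
theorem coe_sup_of_perm {G : Type u} [Group G] (H K : Subgroup G)
    (h : (H : Set G) * (K : Set G) = (K : Set G) * (H : Set G)) :
    ((H ⊔ K : Subgroup G) : Set G) = (H : Set G) * (K : Set G) := by
  let J : Subgroup G :=
    { carrier := (H : Set G) * (K : Set G)
      one_mem' := ⟨1, H.one_mem, 1, K.one_mem, mul_one 1⟩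
      mul_mem' := by
        rintro a b ⟨h1, hh1, k1, hk1, rfl⟩ ⟨h2, hh2, k2, hk2, rfl⟩
        have h3 : k1 * h2 ∈ (H : Set G) * (K : Set G) := by
          rw [h]; exact ⟨k1, hk1, h2, hh2, rfl⟩
        obtain ⟨h3, hh3, k3, hk3, he⟩ := h3
        have he : h3 * k3 = k1 * h2 := he
        refine ⟨h1 * h3, H.mul_mem hh1 hh3, k3 * k2, K.mul_mem hk3 hk2, ?_⟩
        calc h1 * h3 * (k3 * k2) = h1 * (h3 * k3) * k2 := by group
          _ = h1 * (k1 * h2) * k2 := by rw [he]
          _ = h1 * k1 * (h2 * k2) := by group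
      inv_mem' := by
        rintro a ⟨h1, hh1, k1, hk1, rfl⟩
        show (h1 * k1)⁻¹ ∈ (H : Set G) * (K : Set G)
        rw [h, mul_inv_rev]
        exact ⟨k1⁻¹, K.inv_mem hk1, h1⁻¹, H.inv_mem hh1, rfl⟩ }
  have hJ : H ⊔ K = J := by
    apply le_antisymm
    · apply sup_le
      · intro x hx; exact ⟨x, hx, 1, K.one_mem, mul_one x⟩
      · intro x hx; exact ⟨1, H.one_mem, x, hx, one_mul x⟩
    · rintro x ⟨h1, hh1, k1, hk1, rfl⟩
      exact Subgroup.mul_mem _ (Subgroup.mem_sup_left hh1) (Subgroup.mem_sup_right hk1)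
  rw [hJ]
  rfl

theorem card_sup_of_perm {G : Type u} [Group G] [Finite G] (H K : Subgroup G)
    (h : (H : Set G) * (K : Set G) = (K : Set G) * (H : Set G))
    (hc : (Nat.card H).Coprime (Nat.card K)) :
    Nat.card (H ⊔ K : Subgroup G) = Nat.card H * Nat.card K := by
  apply le_antisymm
  · have hsurj : Function.Surjective
        (fun x : H × K => (⟨(x.1 : G) * (x.2 : G),
          Subgroup.mul_mem _ (Subgroup.mem_sup_left x.1.2) (Subgroup.mem_sup_right x.2.2)⟩ :
            (H ⊔ K : Subgroup G))) := by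
      rintro ⟨x, hx⟩
      have hx' : x ∈ ((H ⊔ K : Subgroup G) : Set G) := hx
      rw [coe_sup_of_perm H K h] at hx'
      obtain ⟨h1, hh1, k1, hk1, rfl⟩ := hx'
      exact ⟨(⟨h1, hh1⟩, ⟨k1, hk1⟩), rfl⟩
    have := Nat.card_le_card_of_surjective _ hsurj
    rwa [Nat.card_prod] at this
  · apply Nat.le_of_dvd Nat.card_pos
    exact hc.mul_dvd_of_dvd_of_dvd (Subgroup.card_dvd_of_le le_sup_left)
      (Subgroup.card_dvd_of_le le_sup_right)

theorem exists_prod {G : Type u} [Group G] [Finite G]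
    (S : (p : Nat.Primes) → Sylow (p : ℕ) G)
    (hS : ∀ p q : Nat.Primes, (S p : Set G) * (S q : Set G) = (S q : Set G) * (S p : Set G))
    (F : Finset Nat.Primes) :
    ∃ H : Subgroup G,
      (∀ r : Nat.Primes, (H : Set G) * (S r : Set G) = (S r : Set G) * (H : Set G)) ∧
      (∀ q ∈ F, (S q : Subgroup G) ≤ H) ∧ Nat.card H = ∏ q ∈ F, Nat.card (S q) := by
  classical
  induction F using Finset.induction_on with
  | empty =>
    refine ⟨⊥, fun r => ?_, by simp, by simp⟩
    rw [Subgroup.coe_bot, Set.singleton_mul, Set.mul_singleton]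
    simp
  | insert q F hq ih =>
    obtain ⟨H, hH1, hH2, hH3⟩ := ih
    have hcard : ∀ r : Nat.Primes, ∃ k : ℕ, Nat.card (S r) = (r : ℕ) ^ k := by
      intro r
      have := Fact.mk r.2
      exact IsPGroup.iff_card.mp (S r).2
    refine ⟨H ⊔ S q, ?_, ?_, ?_⟩
    · intro r
      have e : (((S q : Subgroup G) : Set G)) = (S q : Set G) := rfl
      rw [coe_sup_of_perm H (S q) (hH1 q), e, mul_assoc, hS q r, ← mul_assoc, hH1 r, mul_assoc]
    · intro q' hq'
      rcases Finset.mem_insert.mp hq' with rfl | h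
      · exact le_sup_right
      · exact (hH2 q' h).trans le_sup_left
    · rw [Finset.prod_insert hq, mul_comm, ← hH3]
      apply card_sup_of_perm H (S q) (hH1 q)
      rw [hH3]
      apply Nat.Coprime.prod_left
      intro i hi
      obtain ⟨k, hk⟩ := hcard i
      obtain ⟨l, hl⟩ := hcard q
      rw [hk, hl]
      apply Nat.Coprime.pow
      rw [Nat.coprime_primes i.2 q.2]
      intro he
      exact hq ((Subtype.ext he : i = q) ▸ hi)

/-- A finite group with a family of pairwise permuting Sylow subgroups, one for each prime, is solvable (this direction rests on Burnside's two-prime Theorem). -/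
theorem result {G : Type*} [Group G] [Finite G]
    (S : (p : Nat.Primes) → Sylow (p : ℕ) G)
    (hS : ∀ p q : Nat.Primes, (S p : Set G) * (S q : Set G) = (S q : Set G) * (S p : Set G)) :
    Group.IsSolvable G := by
  classical
  apply Cfsg.Agent.S0006.solvable_of_hasComplements
  intro p hp
  obtain ⟨F, hF⟩ : ∃ F : Finset Nat.Primes,
      ∀ q : Nat.Primes, q ∈ F ↔ (q : ℕ) ∈ (Nat.card G).primeFactors.erase p :=
    ⟨((Nat.card G).primeFactors.erase p).subtype Nat.Prime, fun q => Finset.mem_subtype⟩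
  obtain ⟨H, -, hH2, hH3⟩ := exists_prod S hS F
  refine ⟨H, ?_, ?_⟩
  · rw [hH3]
    apply Nat.Coprime.prod_left
    intro q hq
    have := Fact.mk q.2
    obtain ⟨k, hk⟩ := IsPGroup.iff_card.mp (S q).2
    rw [hk]
    apply Nat.Coprime.pow_left
    rw [Nat.coprime_primes q.2 hp]
    intro he
    rw [hF, Finset.mem_erase] at hq
    exact hq.1 he
  · refine ⟨_, Nat.eq_prime_pow_of_unique_prime_dvd Subgroup.index_ne_zero_of_finite ?_⟩
    intro d hd hdvd
    by_contra hne
    have hdG : d ∣ Nat.card G := hdvd.trans (Subgroup.index_dvd_card H)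
    obtain ⟨D, hD⟩ : ∃ D : Nat.Primes, (D : ℕ) = d := ⟨⟨d, hd⟩, rfl⟩
    have hmem : D ∈ F := by
      rw [hF, Finset.mem_erase, hD]
      exact ⟨hne, Nat.mem_primeFactors.mpr ⟨hd, hdG, Nat.card_pos.ne'⟩⟩
    have hle := hH2 _ hmem
    have := Fact.mk D.2
    exact (S D).not_dvd_index ((dvd_of_eq hD).trans (hdvd.trans (Subgroup.index_dvd_of_le hle)))

end Cfsg.Agent.S0021
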