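import Cfsg.Statements.S0039
import Mathlib

set_option autoImplicit false
open Cfsg

namespace Cfsg.Agent.S0039

open scoped Pointwise

theorem mem_conj_smul {G : Type*} [Group G] (H : Subgroup G) (g x : G) :
    x ∈ MulAut.conj g • H ↔ g⁻¹ * x * g ∈ H := by
  rw [Subgroup.mem_pointwise_smul_iff_inv_smul_mem]
  simp [MulAut.smul_def]

/-- In a finite group that is a semidirect product of a normal subgroup K by a nontrivial subgroup H, H is a Frobenius complement exactly when each nonidentity element of H acts without nonidentity fixed points on K by conjugation. -/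
theorem result {G : Type*} [Group G] [Finite G] (K H : Subgroup G) [K.Normal]
    (hc : Subgroup.IsComplement' K H) (hK : K ≠ ⊥) (hH : H ≠ ⊥) :
    Cfsg.IsFrobeniusComplement H ↔ ∀ h ∈ H, h ≠ 1 → K ⊓ Subgroup.centralizer {h} = ⊥ := by
  have hKH : K ⊓ H = ⊥ := hc.disjoint.eq_bot
  have hsup : K ⊔ H = ⊤ := hc.sup_eq_top
  constructor
  · intro hF h hh hh1
    rw [eq_bot_iff]
    intro k hk
    rw [Subgroup.mem_bot]
    by_contra hk1
    have hkK : k ∈ K := hk.1
    have hkC : k ∈ Subgroup.centralizer {h} := hk.2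
    rw [Subgroup.mem_centralizer_iff] at hkC
    have hcomm : h * k = k * h := hkC h rfl
    have hkH : k ∉ H := by
      intro hkH
      have : k ∈ K ⊓ H := ⟨hkK, hkH⟩
      rw [hKH] at this
      exact hk1 (Subgroup.mem_bot.mp this)
    have h2 : h ∈ H ⊓ (MulAut.conj k • H) := by
      refine ⟨hh, ?_⟩
      show h ∈ MulAut.conj k • H
      rw [mem_conj_smul]
      have : k⁻¹ * h * k = h := by
        rw [mul_assoc, hcomm]; group
      rw [this]; exact hh
    rw [hF.2.2 k hkH] at h2
    exact hh1 (Subgroup.mem_bot.mp h2)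
  · intro hfpf
    refine ⟨hH, ?_, ?_⟩
    · intro htop
      apply hK
      rw [← hKH, htop, inf_top_eq]
    · intro g hg
      rw [eq_bot_iff]
      intro x hx
      rw [Subgroup.mem_bot]
      have hxH : x ∈ H := hx.1
      have hxc : g⁻¹ * x * g ∈ H := (mem_conj_smul H g x).mp hx.2
      have hgs : g ∈ K ⊔ H := by rw [hsup]; trivial
      rw [← SetLike.mem_coe, Subgroup.normal_mul] at hgs
      obtain ⟨k, hk, h', hh', rfl⟩ := Set.mem_mul.mp hgs
      have hk1 : k ≠ 1 := by
        intro hk1
        apply hg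
        rw [hk1, one_mul]; exact hh'
      have hy : k⁻¹ * x * k ∈ H := by
        have : k⁻¹ * x * k = h' * ((k * h')⁻¹ * x * (k * h')) * h'⁻¹ := by group
        rw [this]
        exact H.mul_mem (H.mul_mem hh' hxc) (H.inv_mem hh')
      have hz : x⁻¹ * (k⁻¹ * x * k) ∈ K ⊓ H := by
        refine ⟨?_, H.mul_mem (H.inv_mem hxH) hy⟩
        have : x⁻¹ * (k⁻¹ * x * k) = (x⁻¹ * k⁻¹ * x⁻¹⁻¹) * k := by group
        rw [this]
        exact K.mul_mem ((inferInstance : K.Normal).conj_mem _ (K.inv_mem hk) x⁻¹) hk
      rw [hKH, Subgroup.mem_bot] at hz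
      have hcomm : x * k = k * x := by
        have : k⁻¹ * x * k = x := by
          have h3 : k⁻¹ * x * k = x * (x⁻¹ * (k⁻¹ * x * k)) := by group
          rw [h3, hz, mul_one]
        calc x * k = k * (k⁻¹ * x * k) := by group
          _ = k * x := by rw [this]
      by_contra hx1
      have hkmem : k ∈ K ⊓ Subgroup.centralizer {x} := by
        refine ⟨hk, ?_⟩
        show k ∈ Subgroup.centralizer {x}
        rw [Subgroup.mem_centralizer_iff]
        intro y hy'
        rw [Set.mem_singleton_iff] at hy'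
        rw [hy']; exact hcomm
      rw [hfpf x hxH hx1] at hkmem
      exact hk1 (Subgroup.mem_bot.mp hkmem)

end Cfsg.Agent.S0039
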