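import Cfsg.Statements.S0037
import Cfsg.Agent.S0035
import Cfsg.Agent.S0039

set_option autoImplicit false
open Pointwise
open Cfsg

namespace Cfsg.Agent.S0037

universe u

/-- numerical core of the fixed point argument -/
theorem exists_eq_one_of_sum {ι : Type*} [Fintype ι] (s : ι → ℕ) (c n : ℕ) (hc : 2 ≤ c)
    (hs : ∀ i, s i ∣ c) (hsum : ∑ i, s i = n) (hB : Fintype.card ι * c = n + (c - 1)) :
    ∃ i, s i = 1 := by
  classical
  by_contra hne
  push Not at hne
  have hpos : ∀ i, 2 ≤ s i ∧ s i ≤ c := by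
    intro i
    have h1 : 0 < s i := Nat.pos_of_dvd_of_pos (hs i) (by omega)
    have h2 : s i ≤ c := Nat.le_of_dvd (by omega) (hs i)
    have h3 := hne i
    omega
  have ht : ∀ i, c - s i = 0 ∨ c ≤ 2 * (c - s i) := by
    intro i
    obtain ⟨k, hk⟩ := hs i
    rcases Nat.lt_or_ge k 2 with h | h
    · left
      interval_cases k
      · omega
      · omega
    · right
      have h2 : 2 * s i ≤ c := by
        rw [hk]
        nlinarith [(hpos i).1]
      omega
  have hsumt : ∑ i, (c - s i) = c - 1 := by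
    have h1 : ∑ i, (c - s i) + ∑ i, s i = Fintype.card ι * c := by
      rw [← Finset.sum_add_distrib]
      rw [Finset.sum_congr rfl (fun i _ => Nat.sub_add_cancel (hpos i).2)]
      simp [Finset.card_univ]
    omega
  have h1 : ∃ i₁, c - s i₁ ≠ 0 := by
    by_contra h
    push Not at h
    rw [Finset.sum_congr rfl (fun i _ => h i)] at hsumt
    simp at hsumt
    omega
  obtain ⟨i₁, hi₁⟩ := h1
  have h2 := Finset.add_sum_erase Finset.univ (fun i => c - s i) (Finset.mem_univ i₁)
  have h3 : ∃ i₂ ∈ Finset.univ.erase i₁, c - s i₂ ≠ 0 := by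
    by_contra h
    push Not at h
    rw [Finset.sum_congr rfl h] at h2
    simp only [Finset.sum_const_zero, add_zero] at h2
    have := (hpos i₁).1
    omega
  obtain ⟨i₂, hi₂m, hi₂⟩ := h3
  have h4 := Finset.add_sum_erase (Finset.univ.erase i₁) (fun i => c - s i) hi₂m
  have h5 := ht i₁
  have h6 := ht i₂
  omega

/-- a nontrivial finite group acting on a finite set such that every nonidentity element fixes
exactly one point has a global fixed point -/
theorem exists_fixed_point {X : Type*} {Ω : Type*} [Group X] [Finite X] [MulAction X Ω] [Finite Ω]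
    (hX : 2 ≤ Nat.card X)
    (hfix : ∀ x : X, x ≠ 1 → Nat.card (MulAction.fixedBy Ω x) = 1) :
    ∃ b : Ω, ∀ x : X, x • b = b := by
  classical
  let _ : Fintype X := Fintype.ofFinite X
  let _ : Fintype Ω := Fintype.ofFinite Ω
  let _ : Fintype (Quotient (MulAction.orbitRel X Ω)) := Fintype.ofFinite _
  have hB := MulAction.sum_card_fixedBy_eq_card_orbits_mul_card_group X Ω
  have hL : ∑ g : X, Fintype.card (MulAction.fixedBy Ω g) = Nat.card Ω + (Nat.card X - 1) := by
    rw [← Finset.add_sum_erase Finset.univ _ (Finset.mem_univ (1 : X))]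
    congr 1
    · rw [← Nat.card_eq_fintype_card]
      exact Nat.card_congr (Equiv.subtypeUnivEquiv (fun b => by simp))
    · rw [Finset.sum_congr rfl (fun x hx => by
        rw [← Nat.card_eq_fintype_card]
        exact hfix x (Finset.ne_of_mem_erase hx) :
          ∀ x ∈ Finset.univ.erase (1 : X), Fintype.card (MulAction.fixedBy Ω x) = 1)]
      simp [Finset.card_erase_of_mem, Nat.card_eq_fintype_card]
  have hS : Nat.card Ω = ∑ ω : Quotient (MulAction.orbitRel X Ω),
      Nat.card (MulAction.orbit X (Quotient.out ω)) := by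
    rw [Nat.card_congr (MulAction.selfEquivSigmaOrbits X Ω), Nat.card_sigma]
  have hdvd : ∀ ω : Quotient (MulAction.orbitRel X Ω),
      Nat.card (MulAction.orbit X (Quotient.out ω)) ∣ Nat.card X := by
    intro ω
    rw [Nat.card_coe_set_eq, ← MulAction.index_stabilizer]
    exact Subgroup.index_dvd_card _
  obtain ⟨ω, hω⟩ := exists_eq_one_of_sum
    (fun ω : Quotient (MulAction.orbitRel X Ω) => Nat.card (MulAction.orbit X (Quotient.out ω)))
    (Nat.card X) (Nat.card Ω) hX hdvd hS.symm (by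
      rw [← hL, hB, Nat.card_eq_fintype_card])
  refine ⟨Quotient.out ω, fun x => ?_⟩
  have hsub : Subsingleton (MulAction.orbit X (Quotient.out ω)) :=
    (Nat.card_eq_one_iff_unique.mp hω).1
  have := hsub.elim ⟨x • Quotient.out ω, MulAction.mem_orbit _ x⟩
    ⟨Quotient.out ω, MulAction.mem_orbit_self _⟩
  exact congrArg Subtype.val this

/-- the structure of a Frobenius group: the kernel is a normal complement on which the
complement acts without fixed points -/
theorem frob_data {G : Type u} [Group G] [Finite G] (H : Subgroup G)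
    (hH : Cfsg.IsFrobeniusComplement H) :
    ∃ N : Subgroup G, N.Normal ∧ Subgroup.IsComplement' N H ∧ N ≠ ⊥ ∧
      (∀ x : G, x ∈ N ↔ (x = 1 ∨ ∀ g : G, g⁻¹ * x * g ∉ H)) ∧
      (∀ h ∈ H, h ≠ 1 → N ⊓ Subgroup.centralizer {h} = ⊥) := by
  obtain ⟨N, hset, hnorm, hcompl⟩ := Cfsg.Agent.S0035.result H hH
  have hN : N ≠ ⊥ := by
    rintro rfl
    have h1 := hcompl.card_mul_card
    rw [Subgroup.card_bot, one_mul] at h1
    exact hH.2.1 ((Subgroup.card_eq_iff_eq_top H).mp h1)
  have := hnorm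
  refine ⟨N, hnorm, hcompl, hN, ?_, (Cfsg.Agent.S0039.result N H hcompl hN hH.1).mp hH⟩
  intro x
  have h1 : x ∈ N ↔ (x = 1 ∨ ∀ g : G, x ∉ MulAut.conj g • H) := by
    rw [← SetLike.mem_coe, hset]
    rfl
  rw [h1]
  constructor
  · rintro (h | h)
    · exact Or.inl h
    · right
      intro g hg
      exact h g ((Cfsg.Agent.S0034.mem_conj_smul H g x).mpr hg)
  · rintro (h | h)
    · exact Or.inl h
    · right
      intro g hg
      exact h g ((Cfsg.Agent.S0034.mem_conj_smul H g x).mp hg)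

/-- a nontrivial subgroup meeting the Frobenius kernel trivially is conjugate into the
complement -/
theorem conj_le_of_inf_eq_bot {G : Type u} [Group G] [Finite G] (H : Subgroup G)
    (hH : Cfsg.IsFrobeniusComplement H) (N : Subgroup G)
    (hmem : ∀ x : G, x ∈ N ↔ (x = 1 ∨ ∀ g : G, g⁻¹ * x * g ∉ H))
    (X : Subgroup G) (hX : X ≠ ⊥) (hXN : X ⊓ N = ⊥) : ∃ g : G, MulAut.conj g • X ≤ H := by
  have hcard : 2 ≤ Nat.card X := by
    have h1 : Nat.card X ≠ 1 := fun h => hX (Subgroup.card_eq_one.mp h)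
    have h2 : 0 < Nat.card X := Nat.card_pos
    omega
  have hfix : ∀ x : X, x ≠ 1 → Nat.card (MulAction.fixedBy (G ⧸ H) x) = 1 := by
    intro x hx
    have hxN : (x : G) ∉ N := by
      intro h
      have h' : (x : G) ∈ X ⊓ N := ⟨x.2, h⟩
      rw [hXN, Subgroup.mem_bot] at h'
      exact hx (Subtype.ext h')
    rw [hmem] at hxN
    push Not at hxN
    obtain ⟨hx1, g₀, hg₀⟩ := hxN
    have key : ∀ q : G ⧸ H, x • q = q → q = ((g₀ : G) : G ⧸ H) := by
      intro q hq
      obtain ⟨g, rfl⟩ := QuotientGroup.mk_surjective q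
      have h1 : (((x : G) * g : G) : G ⧸ H) = (g : G ⧸ H) := hq
      rw [QuotientGroup.eq] at h1
      rw [QuotientGroup.eq]
      by_contra hc
      have hy : g⁻¹ * (x : G) * g ∈ H := by
        have h2 := H.inv_mem h1
        have h3 : (((x : G) * g)⁻¹ * g)⁻¹ = g⁻¹ * (x : G) * g := by group
        rwa [h3] at h2
      have h2 := Cfsg.Agent.S0034.ti_of_frob H hH (g⁻¹ * g₀) hc (g⁻¹ * (x : G) * g) hy (by
        have h3 : (g⁻¹ * g₀)⁻¹ * (g⁻¹ * (x : G) * g) * (g⁻¹ * g₀) = g₀⁻¹ * (x : G) * g₀ := by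
          group
        rw [h3]
        exact hg₀)
      apply hx1
      have h3 : (x : G) = g * (g⁻¹ * (x : G) * g) * g⁻¹ := by group
      rw [h3, h2]
      group
    have hfixed : x • ((g₀ : G) : G ⧸ H) = ((g₀ : G) : G ⧸ H) := by
      have h1 : (((x : G) * g₀ : G) : G ⧸ H) = (g₀ : G ⧸ H) := by
        rw [QuotientGroup.eq]
        have h2 := H.inv_mem hg₀
        have h3 : (g₀⁻¹ * (x : G) * g₀)⁻¹ = ((x : G) * g₀)⁻¹ * g₀ := by group
        rwa [h3] at h2
      exact h1
    rw [Nat.card_eq_one_iff_unique]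
    refine ⟨⟨?_⟩, ⟨⟨((g₀ : G) : G ⧸ H), hfixed⟩⟩⟩
    rintro ⟨a, ha⟩ ⟨b, hb⟩
    apply Subtype.ext
    show a = b
    rw [key a ha, key b hb]
  obtain ⟨b, hb⟩ := exists_fixed_point (X := X) (Ω := G ⧸ H) hcard hfix
  obtain ⟨g, rfl⟩ := QuotientGroup.mk_surjective b
  refine ⟨g⁻¹, ?_⟩
  intro y hy
  rw [Cfsg.Agent.S0034.mem_conj_smul] at hy
  have h1 : ((((g⁻¹)⁻¹ * y * g⁻¹ : G) * g : G) : G ⧸ H) = (g : G ⧸ H) := hb ⟨_, hy⟩
  rw [QuotientGroup.eq] at h1
  have h2 := H.inv_mem h1
  have h3 : (((g⁻¹)⁻¹ * y * g⁻¹ * g)⁻¹ * g)⁻¹ = y := by group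
  rwa [h3] at h2

/-- every normal subgroup of a Frobenius group contains the kernel or lies in it -/
theorem normal_le_or_le {G : Type u} [Group G] [Finite G] (H : Subgroup G) (N : Subgroup G)
    [hNn : N.Normal] (hmem : ∀ x : G, x ∈ N ↔ (x = 1 ∨ ∀ g : G, g⁻¹ * x * g ∉ H))
    (hfpf : ∀ h ∈ H, h ≠ 1 → N ⊓ Subgroup.centralizer {h} = ⊥)
    (M : Subgroup G) [hMn : M.Normal] : M ≤ N ∨ N ≤ M := by
  by_cases hMN : M ≤ N
  · exact Or.inl hMN
  · right
    obtain ⟨m, hmM, hmN⟩ := SetLike.not_le_iff_exists.mp hMN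
    rw [hmem] at hmN
    push Not at hmN
    obtain ⟨hm1, g, hg⟩ := hmN
    obtain ⟨h, hh⟩ : ∃ h, h = g⁻¹ * m * g := ⟨_, rfl⟩
    have hhH : h ∈ H := hh ▸ hg
    have hhM : h ∈ M := by
      rw [hh]
      have h1 := hMn.conj_mem m hmM g⁻¹
      rwa [inv_inv] at h1
    have hh1 : h ≠ 1 := by
      intro h1
      apply hm1
      have h2 : m = g * h * g⁻¹ := by rw [hh]; group
      rw [h2, h1]
      group
    have hf : ∀ k : N, (k : G)⁻¹ * h * (k : G) * h⁻¹ ∈ N ⊓ M := by
      intro k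
      constructor
      · have h1 : (k : G)⁻¹ * h * (k : G) * h⁻¹ = (k : G)⁻¹ * (h * (k : G) * h⁻¹) := by group
        rw [h1]
        exact N.mul_mem (N.inv_mem k.2) (hNn.conj_mem _ k.2 h)
      · have h1 := hMn.conj_mem h hhM (k : G)⁻¹
        rw [inv_inv] at h1
        exact M.mul_mem h1 (M.inv_mem hhM)
    have hinj : Function.Injective
        (fun k : N => (⟨(k : G)⁻¹ * h * (k : G) * h⁻¹, hf k⟩ : (N ⊓ M : Subgroup G))) := by
      intro k l hkl
      have h1 : (k : G)⁻¹ * h * (k : G) * h⁻¹ = (l : G)⁻¹ * h * (l : G) * h⁻¹ :=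
        congrArg Subtype.val hkl
      have h2 : (k : G)⁻¹ * h * (k : G) = (l : G)⁻¹ * h * (l : G) := mul_right_cancel h1
      have h3 : (l : G) * (k : G)⁻¹ ∈ N ⊓ Subgroup.centralizer {h} := by
        refine Subgroup.mem_inf.mpr ⟨N.mul_mem l.2 (N.inv_mem k.2), ?_⟩
        rw [Subgroup.mem_centralizer_iff]
        intro z hz
        rw [Set.mem_singleton_iff] at hz
        subst hz
        calc z * ((l : G) * (k : G)⁻¹) = (l : G) * ((l : G)⁻¹ * z * (l : G)) * (k : G)⁻¹ := by group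
          _ = (l : G) * ((k : G)⁻¹ * z * (k : G)) * (k : G)⁻¹ := by rw [h2]
          _ = (l : G) * (k : G)⁻¹ * z := by group
      rw [hfpf h hhH hh1, Subgroup.mem_bot] at h3
      apply Subtype.ext
      have h4 : (l : G) = (k : G) := by
        have h5 : (l : G) = (l : G) * (k : G)⁻¹ * (k : G) := by group
        rw [h5, h3, one_mul]
      exact h4.symm
    have hcard := Nat.card_le_card_of_injective _ hinj
    have heq : N ⊓ M = N := Subgroup.eq_of_le_of_card_ge inf_le_left hcard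
    exact inf_eq_left.mp heq

/-- Of two Frobenius complements in one finite group, the one of smaller (or equal) order is conjugate to a subgroup of the other. -/
theorem result {G : Type*} [Group G] [Finite G] (H H₀ : Subgroup G)
    (hH : Cfsg.IsFrobeniusComplement H) (hH₀ : Cfsg.IsFrobeniusComplement H₀) (hle : Nat.card H₀ ≤ Nat.card H) :
    ∃ g : G, MulAut.conj g • H₀ ≤ H := by
  obtain ⟨N, hNn, hNc, hN1, hNmem, hNfpf⟩ := frob_data H hH
  obtain ⟨N₀, hN₀n, hN₀c, hN₀1, hN₀mem, hN₀fpf⟩ := frob_data H₀ hH₀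
  apply conj_le_of_inf_eq_bot H hH N hNmem H₀ hH₀.1
  have h0 : H₀ ⊓ N₀ = ⊥ := disjoint_iff.mp hN₀c.disjoint.symm
  rcases normal_le_or_le H N hNmem hNfpf N₀ with h | h
  · have hc1 := hNc.card_mul_card
    have hc2 := hN₀c.card_mul_card
    have hcard : Nat.card N ≤ Nat.card N₀ := by
      have h3 : Nat.card N * Nat.card H ≤ Nat.card N₀ * Nat.card H := by
        rw [hc1, ← hc2]
        exact Nat.mul_le_mul_left _ hle
      exact Nat.le_of_mul_le_mul_right h3 Nat.card_pos
    have heq : N₀ = N := Subgroup.eq_of_le_of_card_ge h hcard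
    rw [← heq]
    exact h0
  · exact le_bot_iff.mp (h0 ▸ inf_le_inf_left H₀ h)

end Cfsg.Agent.S0037
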