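import Cfsg.Statements.S0041
import Mathlib

set_option autoImplicit false
open Cfsg

namespace Cfsg.Agent.S0041

open scoped IsMulCommutative

/-- fixed point freeness, in terms of the conjugation action on the normal subgroup `V` -/
theorem fix_of_fpf {G : Type*} [Group G] (V : Subgroup G) [V.Normal] (g : G)
    (h : V ⊓ Subgroup.centralizer {g} = ⊥) (w : V) (hw : MulAut.conjNormal g w = w) : w = 1 := by
  have h1 : g * (w : G) * g⁻¹ = (w : G) := by
    rw [← MulAut.conjNormal_apply, hw]
  have h2 : (w : G) ∈ V ⊓ Subgroup.centralizer {g} := by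
    refine Subgroup.mem_inf.2 ⟨w.2, ?_⟩
    rw [Subgroup.mem_centralizer_iff]
    intro x hx
    rw [Set.mem_singleton_iff] at hx
    subst hx
    calc x * (w : G) = (x * (w : G) * x⁻¹) * x := by group
      _ = (w : G) * x := by rw [h1]
  rw [h, Subgroup.mem_bot] at h2
  exact Subtype.ext h2

/-- the trace of a fixed-point-free element vanishes -/
theorem trace_eq_one {G : Type*} [Group G] (V : Subgroup G) [V.Normal] [IsMulCommutative V]
    (g : G) (n : ℕ) (hg : g ^ n = 1)
    (hfix : ∀ w : V, MulAut.conjNormal g w = w → w = 1) (v : V) :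
    ∏ i ∈ Finset.range n, MulAut.conjNormal (g ^ i) v = 1 := by
  apply hfix
  rw [map_prod]
  have h1 : ∀ i, MulAut.conjNormal g (MulAut.conjNormal (g ^ i) v) =
      MulAut.conjNormal (g ^ (i + 1)) v := by
    intro i
    rw [pow_succ', map_mul MulAut.conjNormal g (g ^ i)]
    rfl
  simp_rw [h1]
  have h2 := Finset.prod_range_succ' (fun i => MulAut.conjNormal (g ^ i) v) n
  have h3 := Finset.prod_range_succ (fun i => MulAut.conjNormal (g ^ i) v) n
  rw [h3] at h2
  simp only [hg, pow_zero] at h2
  exact (mul_right_cancel h2).symm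

/-- an element of prime order `p` acting without fixed points forces `p ∤ |V|` -/
theorem not_dvd_card_of_fpf {G : Type*} [Group G] [Finite G] (V : Subgroup G) [V.Normal]
    (a : G) (p : ℕ) [Fact p.Prime] (ha : orderOf a = p)
    (hfix : ∀ w : V, MulAut.conjNormal a w = w → w = 1) : ¬ p ∣ Nat.card V := by
  let φ : Subgroup.zpowers a →* MulAut V := (MulAut.conjNormal).comp (Subgroup.zpowers a).subtype
  let _inst : MulAction (Subgroup.zpowers a) V := MulAction.compHom V φ
  have hpg : IsPGroup p (Subgroup.zpowers a) := by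
    apply IsPGroup.of_card (n := 1)
    rw [Nat.card_zpowers, ha, pow_one]
  have h1 := hpg.card_modEq_card_fixedPoints V
  have h2 : MulAction.fixedPoints (Subgroup.zpowers a) V = {1} := by
    ext w
    simp only [MulAction.mem_fixedPoints, Set.mem_singleton_iff]
    constructor
    · intro hw
      apply hfix
      exact hw ⟨a, Subgroup.mem_zpowers a⟩
    · intro hw g
      subst hw
      exact map_one (φ g)
  rw [h2] at h1
  simp only [Nat.card_eq_fintype_card, Set.card_singleton] at h1
  intro hd
  have h3 : Nat.card V % p = 0 := Nat.mod_eq_zero_of_dvd hd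
  have h4 : Nat.card V % p = 1 % p := by
    have := h1
    rw [Nat.ModEq] at this
    simpa using this
  rw [h3, Nat.mod_eq_of_lt (Fact.out : p.Prime).one_lt] at h4
  exact zero_ne_one h4

theorem prod_range_mul_perm {M : Type*} [CommMonoid M] (F : ℕ → M) (p k : ℕ) (hp : 0 < p)
    (hper : ∀ i, F (i % p) = F i) (hk : Nat.Coprime k p) :
    ∏ c ∈ Finset.range p, F (c * k) = ∏ i ∈ Finset.range p, F i := by
  have hinj : Set.InjOn (fun c => (c * k) % p) (Finset.range p : Set ℕ) := by
    intro c hc c' hc' h
    have h1 : c * k ≡ c' * k [MOD p] := h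
    have h2 : c ≡ c' [MOD p] :=
      Nat.ModEq.cancel_right_of_coprime (by rwa [Nat.coprime_comm] at hk) h1
    exact Nat.ModEq.eq_of_lt_of_lt h2 (Finset.mem_range.1 hc) (Finset.mem_range.1 hc')
  have himg : (Finset.range p).image (fun c => (c * k) % p) = Finset.range p := by
    apply Finset.eq_of_subset_of_card_le
    · intro x hx
      obtain ⟨c, _, rfl⟩ := Finset.mem_image.1 hx
      exact Finset.mem_range.2 (Nat.mod_lt _ hp)
    · rw [Finset.card_image_of_injOn hinj]
  calc ∏ c ∈ Finset.range p, F (c * k) = ∏ c ∈ Finset.range p, F ((c * k) % p) := by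
        simp_rw [hper]
    _ = ∏ i ∈ (Finset.range p).image (fun c => (c * k) % p), F i := by
        rw [Finset.prod_image hinj]
    _ = ∏ i ∈ Finset.range p, F i := by rw [himg]

theorem exp_p_of_rank_two {G : Type*} [Group G] (V : Subgroup G) [V.Normal] [IsMulCommutative V]
    (a b : G) (p : ℕ) (hp : p.Prime) (hab : Commute a b) (ha : a ^ p = 1) (hb : b ^ p = 1)
    (hfa : ∀ w : V, MulAut.conjNormal a w = w → w = 1)
    (hfab : ∀ c : ℕ, ∀ w : V, MulAut.conjNormal (a ^ c * b) w = w → w = 1) (v : V) :
    v ^ p = 1 := by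
  have h1 : ∏ c ∈ Finset.range p, ∏ k ∈ Finset.range p,
      MulAut.conjNormal ((a ^ c * b) ^ k) v = 1 := by
    apply Finset.prod_eq_one
    intro c _
    apply trace_eq_one V (a ^ c * b) p _ (hfab c) v
    rw [(hab.pow_left c).mul_pow, ← pow_mul, mul_comm c p, pow_mul, ha, one_pow, hb, one_mul]
  rw [Finset.prod_comm] at h1
  have h2 : ∀ k ∈ Finset.range p, k ≠ 0 →
      ∏ c ∈ Finset.range p, MulAut.conjNormal ((a ^ c * b) ^ k) v = 1 := by
    intro k hk hk0
    rw [Finset.mem_range] at hk
    have h3 : ∀ c, MulAut.conjNormal ((a ^ c * b) ^ k) v =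
        MulAut.conjNormal (a ^ (c * k)) (MulAut.conjNormal (b ^ k) v) := by
      intro c
      rw [(hab.pow_left c).mul_pow, ← pow_mul, map_mul MulAut.conjNormal (a ^ (c * k)) (b ^ k)]
      rfl
    simp_rw [h3]
    rw [prod_range_mul_perm (fun i => MulAut.conjNormal (a ^ i) (MulAut.conjNormal (b ^ k) v))
      p k hp.pos _ _]
    · exact trace_eq_one V a p ha hfa _
    · intro i
      show MulAut.conjNormal (a ^ (i % p)) _ = MulAut.conjNormal (a ^ i) _
      rw [← pow_eq_pow_mod i ha]
    · exact Nat.Coprime.symm ((Nat.Prime.coprime_iff_not_dvd hp).2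
        (Nat.not_dvd_of_pos_of_lt (Nat.pos_of_ne_zero hk0) hk))
  rw [Finset.prod_eq_single 0 h2
    (by intro h0; exact absurd (Finset.mem_range.2 hp.pos) h0)] at h1
  simpa using h1

theorem eq_bot_of_exp_and_card {G : Type*} [Group G] [Finite G] (V : Subgroup G) (p : ℕ)
    (hp : p.Prime) (h1 : ∀ v : V, v ^ p = 1) (h2 : ¬ p ∣ Nat.card V) : V = ⊥ := by
  rw [Subgroup.eq_bot_iff_forall]
  intro x hx
  have h3 : orderOf (⟨x, hx⟩ : V) ∣ p := orderOf_dvd_of_pow_eq_one (h1 ⟨x, hx⟩)
  rcases (Nat.dvd_prime hp).1 h3 with h4 | h4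
  · rw [orderOf_eq_one_iff] at h4
    exact congrArg Subtype.val h4
  · exfalso
    apply h2
    rw [← h4]
    exact orderOf_dvd_natCard _

theorem abelian_case {G : Type*} [Group G] [Finite G] (A V : Subgroup G) [V.Normal]
    [IsMulCommutative V] (hV : V ≠ ⊥)
    (hfpf : ∀ a ∈ A, a ≠ 1 → V ⊓ Subgroup.centralizer {a} = ⊥)
    (hA : IsMulCommutative A) : IsCyclic A := by
  classical
  have hfix : ∀ a ∈ A, a ≠ 1 → ∀ w : V, MulAut.conjNormal a w = w → w = 1 :=
    fun a ha ha1 => fix_of_fpf V a (hfpf a ha ha1)
  have htor : ∀ p : ℕ, p.Prime → ∀ a ∈ A, orderOf a = p → ∀ b ∈ A, b ^ p = 1 →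
      b ∈ Subgroup.zpowers a := by
    intro p hp a ha hap b hb hbp
    by_contra hnot
    have hpf : Fact p.Prime := ⟨hp⟩
    have ha1 : a ≠ 1 := by
      rintro rfl
      rw [orderOf_one] at hap
      exact hp.one_lt.ne hap
    have hab : Commute a b := by
      have := isMulCommutative_iff.1 hA ⟨a, ha⟩ ⟨b, hb⟩
      exact congrArg Subtype.val this
    have hapow : a ^ p = 1 := by rw [← hap]; exact pow_orderOf_eq_one a
    have hne : ∀ c : ℕ, a ^ c * b ≠ 1 := by
      intro c h1
      apply hnot
      have : b = (a ^ c)⁻¹ := eq_inv_of_mul_eq_one_right h1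
      rw [this]
      exact Subgroup.inv_mem _ (Subgroup.pow_mem _ (Subgroup.mem_zpowers a) c)
    have hexp := exp_p_of_rank_two V a b p hp hab hapow hbp (hfix a ha ha1)
      (fun c => hfix _ (A.mul_mem (A.pow_mem ha c) hb) (hne c))
    have hnd := not_dvd_card_of_fpf V a p hap (hfix a ha ha1)
    exact hV (eq_bot_of_exp_and_card V p hp hexp hnd)
  have := Fintype.ofFinite A
  have hcount_p : ∀ p : ℕ, p.Prime →
      (Finset.univ.filter (fun a : A => a ^ p = 1)).card ≤ p := by
    intro p hp
    by_cases hex : ∃ a : A, orderOf a = p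
    · obtain ⟨a, ha⟩ := hex
      have hsub : Finset.univ.filter (fun b : A => b ^ p = 1) ⊆
          (Subgroup.zpowers a : Set A).toFinset := by
        intro b hb
        rw [Finset.mem_filter] at hb
        have hb' : (b : G) ^ p = 1 := by
          have := congrArg Subtype.val hb.2
          simpa using this
        have ha' : orderOf (a : G) = p := by rw [Subgroup.orderOf_coe]; exact ha
        have h1 := htor p hp (a : G) a.2 ha' (b : G) b.2 hb'
        obtain ⟨k, hk⟩ := Subgroup.mem_zpowers_iff.1 h1
        rw [Set.mem_toFinset]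
        exact Subgroup.mem_zpowers_iff.2 ⟨k, Subtype.ext (by simpa using hk)⟩
      calc (Finset.univ.filter (fun b : A => b ^ p = 1)).card
          ≤ (Subgroup.zpowers a : Set A).toFinset.card := Finset.card_le_card hsub
        _ = p := by
          rw [Set.toFinset_card, ← Nat.card_eq_fintype_card, ← ha]
          exact Nat.card_zpowers a
    · have hsub : Finset.univ.filter (fun a : A => a ^ p = 1) ⊆ {1} := by
        intro b hb
        rw [Finset.mem_filter] at hb
        have hd : orderOf b ∣ p := orderOf_dvd_of_pow_eq_one hb.2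
        rcases (Nat.dvd_prime hp).1 hd with h1 | h1
        · rw [Finset.mem_singleton]; exact orderOf_eq_one_iff.1 h1
        · exact absurd ⟨b, h1⟩ hex
      calc (Finset.univ.filter (fun a : A => a ^ p = 1)).card ≤ ({1} : Finset A).card :=
            Finset.card_le_card hsub
        _ = 1 := Finset.card_singleton 1
        _ ≤ p := hp.one_lt.le
  have hcount : ∀ n : ℕ, 0 < n → (Finset.univ.filter (fun a : A => a ^ n = 1)).card ≤ n := by
    intro n
    induction n using Nat.strong_induction_on with
    | _ n ih =>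
    intro hn
    by_cases hn1 : n = 1
    · subst hn1
      have hsub : Finset.univ.filter (fun a : A => a ^ 1 = 1) ⊆ {1} := by
        intro b hb
        rw [Finset.mem_filter, pow_one] at hb
        rw [Finset.mem_singleton]; exact hb.2
      exact (Finset.card_le_card hsub).trans (Finset.card_singleton 1).le
    · have hp := Nat.minFac_prime hn1
      obtain ⟨m, hm⟩ := Nat.minFac_dvd n
      have hm0 : 0 < m := by
        rcases Nat.eq_zero_or_pos m with h | h
        · rw [h, mul_zero] at hm; omega
        · exact h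
      have hmn : m < n := by
        have := hp.one_lt
        nlinarith
      have ihm := ih m hmn hm0
      have h1 := Finset.card_le_mul_card_image (f := fun a : A => a ^ n.minFac)
        (Finset.univ.filter (fun a : A => a ^ n = 1)) n.minFac ?_
      · calc (Finset.univ.filter (fun a : A => a ^ n = 1)).card
            ≤ n.minFac * ((Finset.univ.filter (fun a : A => a ^ n = 1)).image
                (fun a : A => a ^ n.minFac)).card := h1
          _ ≤ n.minFac * (Finset.univ.filter (fun a : A => a ^ m = 1)).card := by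
              apply Nat.mul_le_mul_left
              apply Finset.card_le_card
              intro y hy
              obtain ⟨x, hx, rfl⟩ := Finset.mem_image.1 hy
              rw [Finset.mem_filter] at hx ⊢
              refine ⟨Finset.mem_univ _, ?_⟩
              rw [← pow_mul, ← hm]; exact hx.2
          _ ≤ n.minFac * m := Nat.mul_le_mul_left _ ihm
          _ = n := hm.symm
      · intro y hy
        obtain ⟨x₀, hx₀, rfl⟩ := Finset.mem_image.1 hy
        calc ((Finset.univ.filter (fun a : A => a ^ n = 1)).filter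
              (fun x => x ^ n.minFac = x₀ ^ n.minFac)).card
            ≤ ((Finset.univ.filter (fun z : A => z ^ n.minFac = 1)).image
                (fun z => z * x₀)).card := by
              apply Finset.card_le_card
              intro x hx
              rw [Finset.mem_filter] at hx
              rw [Finset.mem_image]
              refine ⟨x * x₀⁻¹, ?_, by group⟩
              rw [Finset.mem_filter]
              refine ⟨Finset.mem_univ _, ?_⟩
              have hc : Commute x x₀⁻¹ := (isMulCommutative_iff.1 hA x x₀⁻¹)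
              rw [hc.mul_pow, inv_pow, hx.2, mul_inv_cancel]
          _ ≤ (Finset.univ.filter (fun z : A => z ^ n.minFac = 1)).card := Finset.card_image_le
          _ ≤ n.minFac := hcount_p _ hp
  exact isCyclic_of_card_pow_eq_one_le hcount

theorem frob_trace {G : Type*} [Group G] [Finite G] (V : Subgroup G) [V.Normal]
    [IsMulCommutative V] (M : Subgroup G) (y : G) (s : ℕ) (hs : s.Prime)
    (hyM : y ∈ Subgroup.normalizer (M : Set G))
    (hgs : ∀ m ∈ M, (m * y) ^ s = 1)
    (hfix1 : ∀ m ∈ M, ∀ w : V, MulAut.conjNormal (m * y) w = w → w = 1)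
    (m₀ : G) (hm₀ : m₀ ∈ M) (hfix2 : ∀ w : V, MulAut.conjNormal m₀ w = w → w = 1)
    (v : V) : v ^ Nat.card M = 1 := by
  classical
  have := Fintype.ofFinite M
  have hφ : ∀ m ∈ M, ∀ i : ℕ, (m * y) ^ i * (y ^ i)⁻¹ ∈ M := by
    intro m hm i
    induction i with
    | zero => simp
    | succ i ih =>
      have h1 : (m * y) ^ (i + 1) * (y ^ (i + 1))⁻¹ =
          ((m * y) ^ i * (y ^ i)⁻¹) * (y ^ i * m * (y ^ i)⁻¹) := by
        rw [pow_succ, pow_succ]; group
      rw [h1]
      exact M.mul_mem ih
        ((Subgroup.mem_normalizer_iff.1 (Subgroup.pow_mem _ hyM i) m).1 hm)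
  have hP : ∀ w : V, ∏ m : M, MulAut.conjNormal (m : G) w = 1 := by
    intro w
    apply hfix2
    rw [map_prod]
    have h1 : ∀ m : M, MulAut.conjNormal m₀ (MulAut.conjNormal (m : G) w) =
        MulAut.conjNormal ((((⟨m₀, hm₀⟩ : M) * m : M)) : G) w := by
      intro m
      rw [Subgroup.coe_mul, map_mul MulAut.conjNormal m₀ (m : G)]
      rfl
    simp_rw [h1]
    exact Equiv.prod_comp (Equiv.mulLeft (⟨m₀, hm₀⟩ : M))
      (fun m : M => MulAut.conjNormal (m : G) w)
  have hdouble : ∏ m : M, ∏ i ∈ Finset.range s,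
      MulAut.conjNormal (((m : G) * y) ^ i) v = 1 := by
    apply Finset.prod_eq_one
    intro m _
    exact trace_eq_one V ((m : G) * y) s (hgs m m.2) (hfix1 m m.2) v
  rw [Finset.prod_comm] at hdouble
  have hi : ∀ i ∈ Finset.range s, i ≠ 0 →
      ∏ m : M, MulAut.conjNormal (((m : G) * y) ^ i) v = 1 := by
    intro i hi hi0
    rw [Finset.mem_range] at hi
    let φ : M → M := fun m => ⟨((m : G) * y) ^ i * (y ^ i)⁻¹, hφ m m.2 i⟩
    have hinj : Function.Injective φ := by
      intro m m' hmm
      have h1 : ((m : G) * y) ^ i = ((m' : G) * y) ^ i := by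
        have := congrArg Subtype.val hmm
        simp only [φ] at this
        exact mul_right_cancel this
      have hcop : Nat.Coprime i s :=
        Nat.Coprime.symm ((Nat.Prime.coprime_iff_not_dvd hs).2
          (Nat.not_dvd_of_pos_of_lt (Nat.pos_of_ne_zero hi0) hi))
      obtain ⟨j, -, hj⟩ := Nat.exists_mul_mod_eq_one_of_coprime hcop hs.one_lt
      have h2 : ∀ g : G, g ^ s = 1 → g = (g ^ i) ^ j := by
        intro g hg
        rw [← pow_mul, pow_eq_pow_mod (i * j) hg, hj, pow_one]
      have h3 : (m : G) * y = (m' : G) * y := by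
        rw [h2 _ (hgs m m.2), h2 ((m' : G) * y) (hgs m' m'.2), h1]
      exact Subtype.ext (mul_right_cancel h3)
    have hbij : Function.Bijective φ := Finite.injective_iff_bijective.1 hinj
    have h4 : ∀ m : M, MulAut.conjNormal (((m : G) * y) ^ i) v =
        MulAut.conjNormal ((Equiv.ofBijective φ hbij m : M) : G)
          (MulAut.conjNormal (y ^ i) v) := by
      intro m
      have : ((m : G) * y) ^ i = ((φ m : M) : G) * y ^ i := by simp [φ]
      rw [this, map_mul MulAut.conjNormal]
      rfl
    simp_rw [h4]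
    rw [Equiv.prod_comp (Equiv.ofBijective φ hbij)
      (fun m : M => MulAut.conjNormal (m : G) (MulAut.conjNormal (y ^ i) v))]
    exact hP _
  rw [Finset.prod_eq_single 0 hi
    (by intro h0; exact absurd (Finset.mem_range.2 hs.pos) h0)] at hdouble
  simp only [pow_zero, map_one, MulAut.one_apply, Finset.prod_const, Finset.card_univ] at hdouble
  rw [Nat.card_eq_fintype_card]
  exact hdouble

theorem pq_case {G : Type*} [Group G] [Finite G] (A V : Subgroup G) [V.Normal]
    [IsMulCommutative V] (hV : V ≠ ⊥)
    (hfpf : ∀ a ∈ A, a ≠ 1 → V ⊓ Subgroup.centralizer {a} = ⊥)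
    (p q : ℕ) (hp : p.Prime) (hq : q.Prime) (hpq : p < q) (hcard : Nat.card A = p * q) :
    IsCyclic A := by
  by_contra hnc
  have hfix : ∀ a ∈ A, a ≠ 1 → ∀ w : V, MulAut.conjNormal a w = w → w = 1 :=
    fun a ha ha1 => fix_of_fpf V a (hfpf a ha ha1)
  have hpf : Fact p.Prime := ⟨hp⟩
  have hqf : Fact q.Prime := ⟨hq⟩
  obtain Q : Sylow q A := default
  have hQcard : Nat.card (Q : Subgroup A) = q := by
    rw [Sylow.card_eq_multiplicity, hcard, Nat.factorization_mul hp.ne_zero hq.ne_zero]
    simp [Nat.Prime.factorization hp, Nat.Prime.factorization hq, hpq.ne]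
  have hQidx : (Q : Subgroup A).index = p := by
    have h1 := (Q : Subgroup A).card_mul_index
    rw [hQcard, hcard, mul_comm p q] at h1
    exact Nat.eq_of_mul_eq_mul_left hq.pos h1
  have hQn : (Q : Subgroup A).Normal := by
    apply Subgroup.normal_of_index_eq_minFac_card
    rw [hQidx, hcard]
    have h1 : (p * q).minFac ≤ p := Nat.minFac_le_of_dvd hp.two_le (dvd_mul_right p q)
    have h2 : (p * q).minFac.Prime := Nat.minFac_prime (by nlinarith [hp.one_lt, hq.one_lt])
    rcases (Nat.Prime.dvd_mul h2).1 (Nat.minFac_dvd (p * q)) with h3 | h3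
    · exact ((Nat.prime_dvd_prime_iff_eq h2 hp).1 h3).symm
    · have := (Nat.prime_dvd_prime_iff_eq h2 hq).1 h3
      omega
  obtain ⟨x, hx⟩ := exists_prime_orderOf_dvd_card' (G := A) p (by rw [hcard]; exact dvd_mul_right p q)
  obtain ⟨y, hy⟩ := exists_prime_orderOf_dvd_card' (G := (Q : Subgroup A)) q (by rw [hQcard])
  have hxQ : x ∉ (Q : Subgroup A) := by
    intro hxQ
    have h1 : orderOf (⟨x, hxQ⟩ : (Q : Subgroup A)) ∣ Nat.card (Q : Subgroup A) :=
      orderOf_dvd_natCard _
    have h0 : orderOf (⟨x, hxQ⟩ : (Q : Subgroup A)) = p := by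
      rw [← hx]; exact Subgroup.orderOf_mk x hxQ
    rw [h0, hQcard] at h1
    have := (Nat.prime_dvd_prime_iff_eq hp hq).1 h1
    omega
  -- orders of elements m * x
  have hmx : ∀ m ∈ (Q : Subgroup A), (m * x) ^ p = 1 ∧ m * x ≠ 1 := by
    intro m hm
    have hne : m * x ≠ 1 := by
      intro h1
      apply hxQ
      have : x = m⁻¹ := eq_inv_of_mul_eq_one_right h1
      rw [this]; exact Subgroup.inv_mem _ hm
    refine ⟨?_, hne⟩
    by_contra hgp
    have hzQ : (m * x) ^ p ∈ (Q : Subgroup A) := by
      have := (Q : Subgroup A).pow_index_mem (m * x)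
      rwa [hQidx] at this
    have hzq : ((m * x) ^ p) ^ q = 1 := by
      have := pow_card_eq_one' (G := (Q : Subgroup A)) (x := ⟨_, hzQ⟩)
      rw [hQcard] at this
      exact congrArg Subtype.val this
    have hd : orderOf (m * x) ∣ p * q := by rw [← hcard]; exact orderOf_dvd_natCard _
    have hne_pq : orderOf (m * x) ≠ p * q := by
      intro h1
      exact hnc (isCyclic_of_orderOf_eq_card (m * x) (by rw [h1, hcard]))
    -- orderOf (m*x) divides q
    have hdq : orderOf (m * x) ∣ q := by
      have hcop : Nat.Coprime (orderOf (m * x)) p ∨ p ∣ orderOf (m * x) := by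
        rcases (Nat.coprime_or_dvd_of_prime hp (orderOf (m * x))) with h1 | h1
        · left; exact h1.symm
        · right; exact h1
      rcases hcop with h1 | h1
      · exact h1.dvd_of_dvd_mul_left hd
      · exfalso
        obtain ⟨c, hc⟩ := h1
        have h2 : c ∣ q := by
          rw [hc] at hd
          exact Nat.dvd_of_mul_dvd_mul_left hp.pos hd
        rcases (Nat.dvd_prime hq).1 h2 with h3 | h3
        · apply hgp
          rw [h3, mul_one] at hc
          rw [← hc]; exact pow_orderOf_eq_one _
        · apply hne_pq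
          rw [hc, h3]
    have hgq : (m * x) ^ q = 1 := by
      obtain ⟨c, hc⟩ := hdq
      rw [hc, pow_mul, pow_orderOf_eq_one, one_pow]
    have hcop : Nat.Coprime p q := (Nat.coprime_primes hp hq).2 hpq.ne
    obtain ⟨u, -, hu⟩ := Nat.exists_mul_mod_eq_one_of_coprime hcop hq.one_lt
    have hgQ : m * x ∈ (Q : Subgroup A) := by
      have h1 : m * x = ((m * x) ^ p) ^ u := by
        rw [← pow_mul, pow_eq_pow_mod (p * u) hgq, hu, pow_one]
      rw [h1]
      exact Subgroup.pow_mem _ hzQ u
    apply hxQ
    have : x = m⁻¹ * (m * x) := by group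
    rw [this]
    exact Subgroup.mul_mem _ (Subgroup.inv_mem _ hm) hgQ
  -- apply the trace lemma in G
  have hyne : (y : A) ≠ 1 := by
    intro h1
    have h2 : y = 1 := Subtype.ext h1
    rw [h2, orderOf_one] at hy
    exact hq.one_lt.ne hy
  have hexp : ∀ v : V, v ^ q = 1 := by
    intro v
    have hM : Nat.card (((Q : Subgroup A).map A.subtype : Subgroup G)) = q := by
      rw [Subgroup.card_map_of_injective A.subtype_injective, hQcard]
    rw [← hM]
    apply frob_trace V ((Q : Subgroup A).map A.subtype) (x : G) p hp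
    · rw [Subgroup.mem_normalizer_iff]
      intro g
      constructor
      · rintro ⟨m, hm, rfl⟩
        exact ⟨x * m * x⁻¹, hQn.conj_mem m hm x, by simp⟩
      · rintro ⟨m, hm, hmg⟩
        refine ⟨x⁻¹ * m * x, ?_, ?_⟩
        · have := hQn.conj_mem m hm x⁻¹
          rw [inv_inv] at this
          exact this
        · have h1 : (m : G) = (x : G) * g * (x : G)⁻¹ := hmg
          simp only [Subgroup.coe_subtype, Subgroup.coe_mul, Subgroup.coe_inv, h1]
          group
    · rintro _ ⟨m, hm, rfl⟩
      have := (hmx m hm).1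
      have h2 := congrArg Subtype.val this
      simpa using h2
    · rintro _ ⟨m, hm, rfl⟩
      apply hfix _ (A.mul_mem m.2 x.2)
      intro h1
      exact (hmx m hm).2 (Subtype.ext h1)
    · exact ⟨(y : A), y.2, rfl⟩
    · exact hfix _ (y : A).2 (fun h1 => hyne (Subtype.ext h1))
  have hyord : orderOf (((y : A) : G)) = q := by
    rw [Subgroup.orderOf_coe, Subgroup.orderOf_coe, hy]
  have hnd := not_dvd_card_of_fpf V (((y : A) : G)) q hyord
    (hfix _ (y : A).2 (fun h1 => hyne (Subtype.ext h1)))
  exact hV (eq_bot_of_exp_and_card V q hq hexp hnd)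

theorem normal_case {G : Type*} [Group G] [Finite G] (A V : Subgroup G) [V.Normal]
    [IsMulCommutative V] (hV : V ≠ ⊥)
    (hfpf : ∀ a ∈ A, a ≠ 1 → V ⊓ Subgroup.centralizer {a} = ⊥)
    (hA : IsMulCommutative A ∨ ∃ p q : ℕ, p.Prime ∧ q.Prime ∧ Nat.card A = p * q) :
    IsCyclic A := by
  rcases hA with h | ⟨p, q, hp, hq, hc⟩
  · exact abelian_case A V hV hfpf h
  · rcases lt_trichotomy p q with h | h | h
    · exact pq_case A V hV hfpf p q hp hq h hc
    · subst h
      have hpf : Fact p.Prime := ⟨hp⟩
      have : IsMulCommutative A :=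
        IsPGroup.isMulCommutative_of_card_eq_prime_sq (p := p) (by rw [hc, sq])
      exact abelian_case A V hV hfpf this
    · exact pq_case A V hV hfpf q p hq hp h (by rw [hc, mul_comm])

/-- A group acting on a nontrivial abelian group so that no nonidentity element has a nonidentity fixed point is cyclic, provided it is abelian or its order is a product of two (possibly equal) primes. -/
theorem result {G : Type*} [Group G] [Finite G] (A V : Subgroup G) [IsMulCommutative V]
    (hV : V ≠ ⊥) (hAV : A ≤ Subgroup.normalizer (V : Set G)) (hfpf : ∀ a ∈ A, a ≠ 1 → V ⊓ Subgroup.centralizer {a} = ⊥)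
    (hA : IsMulCommutative A ∨ ∃ p q : ℕ, p.Prime ∧ q.Prime ∧ Nat.card A = p * q) : IsCyclic A := by
  have hVN : V ≤ Subgroup.normalizer (V : Set G) := Subgroup.le_normalizer
  have hn : (V.subgroupOf (Subgroup.normalizer (V : Set G))).Normal := Subgroup.normal_in_normalizer
  have hc : IsMulCommutative (V.subgroupOf (Subgroup.normalizer (V : Set G))) := inferInstance
  have key := normal_case (A.subgroupOf (Subgroup.normalizer (V : Set G)))
    (V.subgroupOf (Subgroup.normalizer (V : Set G))) ?_ ?_ ?_
  · exact isCyclic_of_surjective (Subgroup.subgroupOfEquivOfLe hAV)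
      (MulEquiv.surjective _)
  · intro h
    rw [Subgroup.subgroupOf_eq_bot, disjoint_iff, inf_eq_left.2 hVN] at h
    exact hV h
  · intro a ha ha1
    have h1 := hfpf (a : G) ha (fun h => ha1 (Subtype.ext h))
    rw [eq_bot_iff] at h1 ⊢
    intro w hw
    obtain ⟨hw1, hw2⟩ := Subgroup.mem_inf.1 hw
    have h2 : (w : G) ∈ V ⊓ Subgroup.centralizer {(a : G)} := by
      refine Subgroup.mem_inf.2 ⟨hw1, ?_⟩
      rw [Subgroup.mem_centralizer_iff] at hw2 ⊢
      intro x hx
      rw [Set.mem_singleton_iff] at hx
      subst hx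
      have := hw2 a rfl
      exact congrArg Subtype.val this
    have h3 := h1 h2
    rw [Subgroup.mem_bot] at h3 ⊢
    exact Subtype.ext h3
  · rcases hA with h | ⟨p, q, hp, hq, hc⟩
    · left; infer_instance
    · right
      exact ⟨p, q, hp, hq, by rw [← hc]; exact Nat.card_congr (Subgroup.subgroupOfEquivOfLe hAV).toEquiv⟩

end Cfsg.Agent.S0041
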