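import Cfsg.Statements.S0038
import Cfsg.Agent.S0037
import Cfsg.Agent.S0041
import Cfsg.Agent.S0021
import Cfsg.Agent.Lib.Helper1.Coprime2

set_option autoImplicit false
open Pointwise
open Cfsg
open Cfsg.Agent.Lib.Helper1

namespace Cfsg.Agent.S0038

universe u

section

variable {G : Type u} [Group G]

theorem le_normalizer_of_conj_mem {S E : Subgroup G} (h : ∀ g ∈ S, ∀ x ∈ E, g * x * g⁻¹ ∈ E) :
    S ≤ Subgroup.normalizer (E : Set G) := by
  intro g hg
  rw [Subgroup.mem_normalizer_iff]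
  intro x
  constructor
  · exact h g hg x
  · intro hx
    have h1 := h g⁻¹ (S.inv_mem hg) _ hx
    have h2 : g⁻¹ * (g * x * g⁻¹) * g⁻¹⁻¹ = x := by group
    rwa [h2] at h1

theorem conj_mem_of_mem_normalizer {E : Subgroup G} {g : G}
    (hg : g ∈ Subgroup.normalizer (E : Set G)) {x : G} (hx : x ∈ E) : g * x * g⁻¹ ∈ E :=
  (Subgroup.mem_normalizer_iff.mp hg x).mp hx

theorem mul_comm_of_le_normalizer {E Z : Subgroup G} (h : Z ≤ Subgroup.normalizer (E : Set G)) :
    (E : Set G) * (Z : Set G) = (Z : Set G) * (E : Set G) := by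
  ext x
  constructor
  · rintro ⟨e, he, z, hz, rfl⟩
    refine ⟨z, hz, z⁻¹ * e * z, ?_, by group⟩
    have := conj_mem_of_mem_normalizer (h (Z.inv_mem hz)) he
    rwa [inv_inv] at this
  · rintro ⟨z, hz, e, he, rfl⟩
    exact ⟨z * e * z⁻¹, conj_mem_of_mem_normalizer (h hz) he, z, hz, by group⟩

/-- an element of prime order `p` normalizing `V` and acting without fixed points forces
`p ∤ |V|` -/
theorem not_dvd_card_of_fpf [Finite G] (V : Subgroup G) (a : G) (p : ℕ) [Fact p.Prime]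
    (ha : orderOf a = p) (haV : a ∈ Subgroup.normalizer (V : Set G))
    (hfpf : V ⊓ Subgroup.centralizer {a} = ⊥) : ¬ p ∣ Nat.card V := by
  have hVN : V ≤ Subgroup.normalizer (V : Set G) := Subgroup.le_normalizer
  have hn : (V.subgroupOf (Subgroup.normalizer (V : Set G))).Normal :=
    Subgroup.normal_in_normalizer
  have hcard : Nat.card (V.subgroupOf (Subgroup.normalizer (V : Set G))) = Nat.card V :=
    Nat.card_congr (Subgroup.subgroupOfEquivOfLe hVN).toEquiv
  rw [← hcard]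
  apply Cfsg.Agent.S0041.not_dvd_card_of_fpf (V.subgroupOf (Subgroup.normalizer (V : Set G)))
    (⟨a, haV⟩ : Subgroup.normalizer (V : Set G)) p
  · rw [← ha]
    exact Subgroup.orderOf_mk a haV
  · intro w hw
    have h1 : (⟨a, haV⟩ : Subgroup.normalizer (V : Set G)) *
        (w : Subgroup.normalizer (V : Set G)) *
        (⟨a, haV⟩ : Subgroup.normalizer (V : Set G))⁻¹ = (w : Subgroup.normalizer (V : Set G)) := by
      rw [← MulAut.conjNormal_apply, hw]
    have h2 : a * ((w : Subgroup.normalizer (V : Set G)) : G) * a⁻¹ =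
        ((w : Subgroup.normalizer (V : Set G)) : G) := congrArg Subtype.val h1
    have h3 : ((w : Subgroup.normalizer (V : Set G)) : G) ∈ V ⊓ Subgroup.centralizer {a} := by
      refine Subgroup.mem_inf.mpr ⟨Subgroup.mem_subgroupOf.mp w.2, ?_⟩
      rw [Subgroup.mem_centralizer_iff]
      intro x hx
      rw [Set.mem_singleton_iff] at hx
      subst hx
      calc x * ((w : Subgroup.normalizer (V : Set G)) : G)
          = (x * ((w : Subgroup.normalizer (V : Set G)) : G) * x⁻¹) * x := by group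
        _ = ((w : Subgroup.normalizer (V : Set G)) : G) * x := by rw [h2]
    rw [hfpf, Subgroup.mem_bot] at h3
    exact Subtype.ext (Subtype.ext h3)

theorem coprime_of_fpf [Finite G] (N A : Subgroup G) [N.Normal]
    (hfpf : ∀ a ∈ A, a ≠ 1 → N ⊓ Subgroup.centralizer {a} = ⊥) :
    (Nat.card A).Coprime (Nat.card N) := by
  apply Nat.coprime_of_dvd
  intro r hr hrA hrN
  have := Fact.mk hr
  obtain ⟨a, ha⟩ := exists_prime_orderOf_dvd_card' r hrA
  have ha1 : (a : G) ≠ 1 := by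
    intro h
    have h1 : a = 1 := Subtype.ext h
    rw [h1, orderOf_one] at ha
    exact hr.one_lt.ne ha
  exact not_dvd_card_of_fpf N (a : G) r (by rw [Subgroup.orderOf_coe]; exact ha)
    (by rw [Subgroup.normalizer_eq_top]; trivial) (hfpf a a.2 ha1) hrN

/-- the elements of order dividing `q` in the centre of a nontrivial `q`-group -/
theorem exists_central_elementary [Finite G] (q : ℕ) [Fact q.Prime] (Q : Subgroup G)
    (hQ : IsPGroup q Q) (hQ1 : Q ≠ ⊥) :
    ∃ E : Subgroup G, E ≤ Q ∧ E ≠ ⊥ ∧ (∀ x ∈ E, ∀ y ∈ Q, x * y = y * x) ∧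
      (∀ x ∈ E, x ^ q = 1) ∧
      Subgroup.normalizer (Q : Set G) ≤ Subgroup.normalizer (E : Set G) := by
  let E : Subgroup G :=
    { carrier := {x | x ∈ Q ∧ (∀ y ∈ Q, x * y = y * x) ∧ x ^ q = 1}
      one_mem' := ⟨Q.one_mem, fun y _ => by simp, one_pow q⟩
      mul_mem' := by
        rintro a b ⟨ha, hac, haq⟩ ⟨hb, hbc, hbq⟩
        refine ⟨Q.mul_mem ha hb, fun y hy => ?_, ?_⟩
        · rw [mul_assoc, hbc y hy, ← mul_assoc, hac y hy, mul_assoc]
        · have hcomm : Commute a b := hac b hb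
          rw [hcomm.mul_pow, haq, hbq, one_mul]
      inv_mem' := by
        rintro a ⟨ha, hac, haq⟩
        refine ⟨Q.inv_mem ha, fun y hy => ?_, by rw [inv_pow, haq, inv_one]⟩
        have h1 := hac y hy
        calc a⁻¹ * y = a⁻¹ * (y * a) * a⁻¹ := by group
          _ = a⁻¹ * (a * y) * a⁻¹ := by rw [h1]
          _ = y * a⁻¹ := by group }
  have hEmem : ∀ x, x ∈ E ↔ (x ∈ Q ∧ (∀ y ∈ Q, x * y = y * x) ∧ x ^ q = 1) := fun x => Iff.rfl
  refine ⟨E, fun x hx => hx.1, ?_, fun x hx => hx.2.1, fun x hx => hx.2.2, ?_⟩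
  · have : Nontrivial Q := (Subgroup.nontrivial_iff_ne_bot Q).mpr hQ1
    have hZ : Nontrivial (Subgroup.center Q) := hQ.center_nontrivial
    have hZp : IsPGroup q (Subgroup.center Q) := hQ.to_subgroup _
    have hdvd : q ∣ Nat.card (Subgroup.center Q) := by
      rcases hZp.card_eq_or_dvd with h | h
      · exfalso
        have := Finite.one_lt_card_iff_nontrivial.mpr hZ
        omega
      · exact h
    obtain ⟨z, hz⟩ := exists_prime_orderOf_dvd_card' q hdvd
    intro hbot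
    have hzE : ((z : Q) : G) ∈ E := by
      rw [hEmem]
      refine ⟨(z : Q).2, fun y hy => ?_, ?_⟩
      · have h1 := (Subgroup.mem_center_iff.mp z.2) ⟨y, hy⟩
        exact (congrArg Subtype.val h1).symm
      · have h1 : z ^ q = 1 := by rw [← hz]; exact pow_orderOf_eq_one z
        have h2 := congrArg (fun t : Subgroup.center Q => ((t : Q) : G)) h1
        simpa using h2
    rw [hbot, Subgroup.mem_bot] at hzE
    have hz1 : z = 1 := Subtype.ext (Subtype.ext hzE)
    rw [hz1, orderOf_one] at hz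
    exact (Fact.out : q.Prime).one_lt.ne hz
  · apply le_normalizer_of_conj_mem
    intro g hg x hx
    rw [hEmem] at hx ⊢
    obtain ⟨hxQ, hxc, hxq⟩ := hx
    refine ⟨conj_mem_of_mem_normalizer hg hxQ, fun y hy => ?_, ?_⟩
    · have hy' : g⁻¹ * y * g ∈ Q := by
        have h1 := conj_mem_of_mem_normalizer (Subgroup.inv_mem _ hg) hy
        rwa [inv_inv] at h1
      have h1 := hxc _ hy'
      calc g * x * g⁻¹ * y = g * (x * (g⁻¹ * y * g)) * g⁻¹ := by group
        _ = g * ((g⁻¹ * y * g) * x) * g⁻¹ := by rw [h1]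
        _ = y * (g * x * g⁻¹) := by group
    · rw [conj_pow, hxq]
      group

/-- a Frobenius group cannot act without fixed points: no group `H` acting fixed-point-freely on
`N ≠ 1` contains a subgroup `P ≠ 1` acting fixed-point-freely on a subgroup `L ≠ 1` of `H` -/
theorem no_frob_in_complement [Finite G] (N H L P : Subgroup G) [N.Normal]
    (hN : N ≠ ⊥) (hfpf : ∀ h ∈ H, h ≠ 1 → N ⊓ Subgroup.centralizer {h} = ⊥)
    (hLH : L ≤ H) (hPH : P ≤ H) (hL : L ≠ ⊥) (hP : P ≠ ⊥)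
    (hPL : P ≤ Subgroup.normalizer (L : Set G))
    (hfpf' : ∀ h ∈ P, h ≠ 1 → L ⊓ Subgroup.centralizer {h} = ⊥) : False := by
  have hPcard : Nat.card P ≠ 1 := fun h => hP (Subgroup.card_eq_one.mp h)
  obtain ⟨p, hp, hpdvd⟩ := Nat.exists_prime_and_dvd hPcard
  have := Fact.mk hp
  obtain ⟨h', hh'⟩ := exists_prime_orderOf_dvd_card' p hpdvd
  obtain ⟨h, hh⟩ : ∃ h : G, h = (h' : G) := ⟨_, rfl⟩
  have hhP : h ∈ P := hh ▸ h'.2
  have hord : orderOf h = p := by rw [hh, Subgroup.orderOf_coe]; exact hh'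
  have hh1 : h ≠ 1 := by
    intro h1
    rw [h1, orderOf_one] at hord
    exact hp.one_lt.ne hord
  have hhL : h ∈ Subgroup.normalizer (L : Set G) := hPL hhP
  have hpL : ¬ p ∣ Nat.card L := not_dvd_card_of_fpf L h p hord hhL (hfpf' h hhP hh1)
  have hLcard : Nat.card L ≠ 1 := fun h => hL (Subgroup.card_eq_one.mp h)
  obtain ⟨q, hq, hqdvd⟩ := Nat.exists_prime_and_dvd hLcard
  have := Fact.mk hq
  have hqp : q ≠ p := fun h => hpL (h ▸ hqdvd)
  obtain ⟨Z, hZ⟩ : ∃ Z : Subgroup G, Z = Subgroup.zpowers h := ⟨_, rfl⟩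
  have hZcard : Nat.card Z = p := by rw [hZ, Nat.card_zpowers, hord]
  have hZP : Z ≤ P := by rw [hZ, Subgroup.zpowers_le]; exact hhP
  have hZL : Z ≤ Subgroup.normalizer (L : Set G) := hZP.trans hPL
  have hZsolv : Group.IsSolvable Z := by
    rw [hZ]
    exact Group.isSolvable_of_comm (fun a b =>
      (inferInstance : IsMulCommutative (Subgroup.zpowers h)).is_comm.comm a b)
  have hcopZL : (Nat.card Z).Coprime (Nat.card L) := by
    rw [hZcard]
    exact (Nat.Prime.coprime_iff_not_dvd hp).mpr hpL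
  obtain ⟨Q, hQ⟩ := exists_invariant_sylow hZL hcopZL (Or.inl hZsolv) q
  obtain ⟨Q₁, hQ₁⟩ : ∃ Q₁ : Subgroup G, Q₁ = (Q : Subgroup L).map L.subtype := ⟨_, rfl⟩
  rw [← hQ₁] at hQ
  have hQ₁L : Q₁ ≤ L := hQ₁ ▸ Subgroup.map_subtype_le _
  have hQ₁p : IsPGroup q Q₁ := hQ₁ ▸ Q.2.map _
  have hQ₁1 : Q₁ ≠ ⊥ := by
    rw [hQ₁]
    intro hbot
    exact Q.ne_bot_of_dvd_card hqdvd
      ((Subgroup.map_eq_bot_iff_of_injective _ L.subtype_injective).mp hbot)
  obtain ⟨E, hEQ, hE1, hEc, hEq, hEn⟩ := exists_central_elementary q Q₁ hQ₁p hQ₁1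
  have hEL : E ≤ L := hEQ.trans hQ₁L
  have hZE : Z ≤ Subgroup.normalizer (E : Set G) := hQ.trans hEn
  have hA : ∃ A : Subgroup G, A ≤ H ∧ ¬ IsCyclic A ∧ Group.IsSolvable A ∧
      (IsMulCommutative A ∨ ∃ p q : ℕ, p.Prime ∧ q.Prime ∧ Nat.card A = p * q) := by
    have hEcomm : IsMulCommutative E := ⟨⟨fun a b => Subtype.ext (hEc a a.2 b (hEQ b.2))⟩⟩
    by_cases hcyc : IsCyclic E
    · have hEcard : Nat.card E = q := by
        obtain ⟨g, hg⟩ := hcyc.exists_generator
        have h1 : orderOf g = Nat.card E := orderOf_eq_card_of_forall_mem_zpowers hg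
        have h2 : orderOf g ∣ q :=
          orderOf_dvd_of_pow_eq_one (Subtype.ext (by simpa using hEq g g.2))
        rcases (Nat.dvd_prime hq).mp h2 with h3 | h3
        · exfalso
          rw [h3] at h1
          exact hE1 (Subgroup.card_eq_one.mp h1.symm)
        · rw [← h1, h3]
      have hcardA : Nat.card (E ⊔ Z : Subgroup G) = q * p := by
        rw [Cfsg.Agent.S0021.card_sup_of_perm E Z (mul_comm_of_le_normalizer hZE)
          (by rw [hEcard, hZcard]; exact (Nat.coprime_primes hq hp).mpr hqp), hEcard, hZcard]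
      refine ⟨E ⊔ Z, sup_le (hEL.trans hLH) (hZP.trans hPH), ?_, ?_, Or.inr ⟨q, p, hq, hp, hcardA⟩⟩
      · intro hc
        obtain ⟨e, he1⟩ := (Subgroup.ne_bot_iff_exists_ne_one).mp hE1
        have hcomm := (IsCyclic.isMulCommutative (α := (E ⊔ Z : Subgroup G))).is_comm.comm
          ⟨e, Subgroup.mem_sup_left e.2⟩
          ⟨h, Subgroup.mem_sup_right (hZ ▸ Subgroup.mem_zpowers h)⟩
        have hcomm' : (e : G) * h = h * (e : G) := congrArg Subtype.val hcomm
        have hmem : (e : G) ∈ L ⊓ Subgroup.centralizer {h} := by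
          refine Subgroup.mem_inf.mpr ⟨hEL e.2, ?_⟩
          rw [Subgroup.mem_centralizer_iff]
          intro x hx
          rw [Set.mem_singleton_iff] at hx
          subst hx
          exact hcomm'.symm
        rw [hfpf' h hhP hh1, Subgroup.mem_bot] at hmem
        exact he1 (Subtype.ext hmem)
      · exact Cfsg.Agent.S0144.result q p 1 1 hq hp (by rw [pow_one, pow_one]; exact hcardA)
    · exact ⟨E, hEL.trans hLH, hcyc,
        Group.isSolvable_of_comm (fun a b => hEcomm.is_comm.comm a b), Or.inl hEcomm⟩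
  obtain ⟨A, hAH, hAcyc, hAsolv, hAtype⟩ := hA
  have hfpfA : ∀ a ∈ A, a ≠ 1 → N ⊓ Subgroup.centralizer {a} = ⊥ :=
    fun a ha ha1 => hfpf a (hAH ha) ha1
  have hcopAN : (Nat.card A).Coprime (Nat.card N) := coprime_of_fpf N A hfpfA
  have hNcard : Nat.card N ≠ 1 := fun h => hN (Subgroup.card_eq_one.mp h)
  obtain ⟨r, hr, hrdvd⟩ := Nat.exists_prime_and_dvd hNcard
  have := Fact.mk hr
  have hAN : A ≤ Subgroup.normalizer (N : Set G) := by
    rw [Subgroup.normalizer_eq_top]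
    exact le_top
  obtain ⟨R, hR⟩ := exists_invariant_sylow hAN hcopAN (Or.inl hAsolv) r
  obtain ⟨R₁, hR₁⟩ : ∃ R₁ : Subgroup G, R₁ = (R : Subgroup N).map N.subtype := ⟨_, rfl⟩
  rw [← hR₁] at hR
  have hR₁N : R₁ ≤ N := hR₁ ▸ Subgroup.map_subtype_le _
  have hR₁p : IsPGroup r R₁ := hR₁ ▸ R.2.map _
  have hR₁1 : R₁ ≠ ⊥ := by
    rw [hR₁]
    intro hbot
    exact R.ne_bot_of_dvd_card hrdvd
      ((Subgroup.map_eq_bot_iff_of_injective _ N.subtype_injective).mp hbot)
  obtain ⟨V, hVR, hV1, hVc, hVq, hVn⟩ := exists_central_elementary r R₁ hR₁p hR₁1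
  have hVcomm : IsMulCommutative V := ⟨⟨fun a b => Subtype.ext (hVc a a.2 b (hVR b.2))⟩⟩
  have hVN : V ≤ N := hVR.trans hR₁N
  have hcyc := Cfsg.Agent.S0041.result A V hV1 (hR.trans hVn)
    (fun a ha ha1 => le_bot_iff.mp ((hfpfA a ha ha1) ▸ inf_le_inf_right _ hVN)) hAtype
  exact hAcyc hcyc

theorem isFrobeniusComplement_conj (H : Subgroup G) (hH : Cfsg.IsFrobeniusComplement H) (g : G) :
    Cfsg.IsFrobeniusComplement (MulAut.conj g • H) := by
  refine ⟨?_, ?_, ?_⟩
  · intro hbot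
    apply hH.1
    rw [eq_bot_iff]
    intro x hx
    have h1 : g * x * g⁻¹ ∈ MulAut.conj g • H := by
      rw [Cfsg.Agent.S0034.mem_conj_smul]
      have h2 : g⁻¹ * (g * x * g⁻¹) * g = x := by group
      rwa [h2]
    rw [hbot, Subgroup.mem_bot] at h1
    rw [Subgroup.mem_bot]
    have h2 : x = g⁻¹ * (g * x * g⁻¹) * g := by group
    rw [h2, h1]
    group
  · intro htop
    apply hH.2.1
    rw [eq_top_iff]
    intro x _
    have h1 : g * x * g⁻¹ ∈ MulAut.conj g • H := by rw [htop]; trivial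
    rw [Cfsg.Agent.S0034.mem_conj_smul] at h1
    have h2 : g⁻¹ * (g * x * g⁻¹) * g = x := by group
    rwa [h2] at h1
  · intro x hx
    rw [Cfsg.Agent.S0034.mem_conj_smul] at hx
    rw [eq_bot_iff]
    intro y hy
    obtain ⟨hy1, hy2⟩ := Subgroup.mem_inf.mp hy
    rw [Cfsg.Agent.S0034.mem_conj_smul] at hy1 hy2
    rw [Cfsg.Agent.S0034.mem_conj_smul] at hy2
    have h1 := Cfsg.Agent.S0034.ti_of_frob H hH (g⁻¹ * x * g) hx (g⁻¹ * y * g) hy1 (by
      have h2 : (g⁻¹ * x * g)⁻¹ * (g⁻¹ * y * g) * (g⁻¹ * x * g) = g⁻¹ * (x⁻¹ * y * x) * g := by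
        group
      rw [h2]
      exact hy2)
    rw [Subgroup.mem_bot]
    have h2 : y = g * (g⁻¹ * y * g) * g⁻¹ := by group
    rw [h2, h1]
    group

/-- a Frobenius complement contains no smaller Frobenius complement of the same group -/
theorem eq_of_le_frob [Finite G] (H H₁ : Subgroup G) (hH : Cfsg.IsFrobeniusComplement H)
    (hH₁ : Cfsg.IsFrobeniusComplement H₁) (hle : H₁ ≤ H) : H₁ = H := by
  by_contra hne
  obtain ⟨N, hNn, hNc, hN1, hNmem, hNfpf⟩ := Cfsg.Agent.S0037.frob_data H hH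
  have := hNn
  have hF : Cfsg.IsFrobeniusComplement (H₁.subgroupOf H) := by
    refine ⟨?_, ?_, ?_⟩
    · intro h
      rw [Subgroup.subgroupOf_eq_bot, disjoint_iff, inf_eq_left.mpr hle] at h
      exact hH₁.1 h
    · intro h
      rw [Subgroup.subgroupOf_eq_top] at h
      exact hne (le_antisymm hle h)
    · intro g hg
      rw [eq_bot_iff]
      intro y hy
      obtain ⟨hy1, hy2⟩ := Subgroup.mem_inf.mp hy
      rw [Cfsg.Agent.S0034.mem_conj_smul] at hy2
      rw [Subgroup.mem_bot]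
      apply Subtype.ext
      exact Cfsg.Agent.S0034.ti_of_frob H₁ hH₁ (g : G)
        (fun h => hg (Subgroup.mem_subgroupOf.mpr h)) (y : G) (Subgroup.mem_subgroupOf.mp hy1)
        (Subgroup.mem_subgroupOf.mp hy2)
  obtain ⟨L', hL'n, hL'c, hL'1, hL'mem, hL'fpf⟩ :=
    Cfsg.Agent.S0037.frob_data (H₁.subgroupOf H) hF
  apply no_frob_in_complement N H (L'.map H.subtype) H₁ hN1 hNfpf (Subgroup.map_subtype_le L')
    hle ?_ hH₁.1 ?_ ?_
  · intro hbot
    exact hL'1 ((Subgroup.map_eq_bot_iff_of_injective _ H.subtype_injective).mp hbot)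
  · apply le_normalizer_of_conj_mem
    rintro x hx _ ⟨l, hl, rfl⟩
    exact ⟨⟨x, hle hx⟩ * l * ⟨x, hle hx⟩⁻¹, hL'n.conj_mem l hl ⟨x, hle hx⟩, rfl⟩
  · intro h hh hh1
    rw [eq_bot_iff]
    rintro x hx
    obtain ⟨hx1, hx2⟩ := Subgroup.mem_inf.mp hx
    obtain ⟨l, hl, rfl⟩ := hx1
    have h1 : l ∈ L' ⊓ Subgroup.centralizer {(⟨h, hle hh⟩ : H)} := by
      refine Subgroup.mem_inf.mpr ⟨hl, ?_⟩
      rw [Subgroup.mem_centralizer_iff] at hx2 ⊢
      intro z hz
      rw [Set.mem_singleton_iff] at hz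
      subst hz
      exact Subtype.ext (hx2 h rfl)
    rw [hL'fpf ⟨h, hle hh⟩ (Subgroup.mem_subgroupOf.mpr hh)
      (fun e => hh1 (congrArg Subtype.val e)), Subgroup.mem_bot] at h1
    rw [Subgroup.mem_bot, h1]
    rfl

end

/-- All Frobenius complements of a finite group are conjugate to one another. -/
theorem result {G : Type*} [Group G] [Finite G] (H H₀ : Subgroup G)
    (hH : Cfsg.IsFrobeniusComplement H) (hH₀ : Cfsg.IsFrobeniusComplement H₀) :
    ∃ g : G, MulAut.conj g • H₀ = H := by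
  rcases le_total (Nat.card H₀) (Nat.card H) with hle | hle
  · obtain ⟨g, hg⟩ := Cfsg.Agent.S0037.result H H₀ hH hH₀ hle
    exact ⟨g, eq_of_le_frob H _ hH (isFrobeniusComplement_conj H₀ hH₀ g) hg⟩
  · obtain ⟨g, hg⟩ := Cfsg.Agent.S0037.result H₀ H hH₀ hH hle
    have h1 := eq_of_le_frob H₀ _ hH₀ (isFrobeniusComplement_conj H hH g) hg
    refine ⟨g⁻¹, ?_⟩
    rw [← h1, smul_smul, ← map_mul, inv_mul_cancel, map_one, one_smul]

end Cfsg.Agent.S0038
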