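import Cfsg.Statements.S0040
import Cfsg.Agent.S0016
import Cfsg.Agent.S0038

set_option autoImplicit false
open Cfsg
open Cfsg.Agent.Lib.Helper1
open scoped Pointwise

namespace Cfsg.Agent.S0040

universe u

/-- a group acting without fixed points on a nontrivial normal subgroup has all its abelian
subgroups cyclic -/
theorem isCyclic_of_fpf {G : Type u} [Group G] [Finite G] (N H : Subgroup G) [N.Normal]
    (hN : N ≠ ⊥) (hfpf : ∀ h ∈ H, h ≠ 1 → N ⊓ Subgroup.centralizer {h} = ⊥)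
    (A : Subgroup G) (hAH : A ≤ H) [hAc : IsMulCommutative A] : IsCyclic A := by
  have hfpfA : ∀ a ∈ A, a ≠ 1 → N ⊓ Subgroup.centralizer {a} = ⊥ :=
    fun a ha ha1 => hfpf a (hAH ha) ha1
  have hcopAN : (Nat.card A).Coprime (Nat.card N) := Cfsg.Agent.S0038.coprime_of_fpf N A hfpfA
  have hAsolv : Group.IsSolvable A := Group.isSolvable_of_comm (fun a b => mul_comm' a b)
  have hNcard : Nat.card N ≠ 1 := fun h => hN (Subgroup.card_eq_one.mp h)
  obtain ⟨r, hr, hrdvd⟩ := Nat.exists_prime_and_dvd hNcard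
  have := Fact.mk hr
  have hAN : A ≤ Subgroup.normalizer (N : Set G) := by
    rw [Subgroup.normalizer_eq_top]
    exact le_top
  obtain ⟨R, hR⟩ := exists_invariant_sylow hAN hcopAN (Or.inl hAsolv) r
  obtain ⟨R₁, hR₁⟩ : ∃ R₁ : Subgroup G, R₁ = (R : Subgroup N).map N.subtype := ⟨_, rfl⟩
  rw [← hR₁] at hR
  have hR₁N : R₁ ≤ N := hR₁ ▸ Subgroup.map_subtype_le _
  have hR₁p : IsPGroup r R₁ := hR₁ ▸ R.2.map _
  have hR₁1 : R₁ ≠ ⊥ := by
    rw [hR₁]
    intro hbot
    exact R.ne_bot_of_dvd_card hrdvd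
      ((Subgroup.map_eq_bot_iff_of_injective _ N.subtype_injective).mp hbot)
  obtain ⟨V, hVR, hV1, hVc, hVq, hVn⟩ :=
    Cfsg.Agent.S0038.exists_central_elementary r R₁ hR₁p hR₁1
  have hVcomm : IsMulCommutative V := ⟨⟨fun a b => Subtype.ext (hVc a a.2 b (hVR b.2))⟩⟩
  have hVN : V ≤ N := hVR.trans hR₁N
  exact Cfsg.Agent.S0041.result A V hV1 (hR.trans hVn)
    (fun a ha ha1 => le_bot_iff.mp ((hfpfA a ha ha1) ▸ inf_le_inf_right _ hVN)) (Or.inl hAc)

/-- in a group whose abelian subgroups are all cyclic, a `p`-subgroup has at most one subgroup of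
order `p` -/
theorem unique_of_abelian_cyclic {Γ : Type u} [Group Γ] [Finite Γ]
    (hΓ : ∀ B : Subgroup Γ, IsMulCommutative B → IsCyclic B)
    (p : ℕ) [Fact p.Prime] (Q : Subgroup Γ) (hQ : IsPGroup p Q) :
    ∀ X Y : Subgroup Q, Nat.card X = p → Nat.card Y = p → X = Y := by
  have hp := (Fact.out : p.Prime)
  intro X Y hX hY
  have hQ1 : Nontrivial Q := by
    rw [← Finite.one_lt_card_iff_nontrivial]
    calc 1 < p := hp.one_lt
      _ = Nat.card X := hX.symm
      _ ≤ Nat.card Q := Subgroup.card_le_card_group X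
  have hZ : Nontrivial (Subgroup.center Q) := hQ.center_nontrivial
  have hZp : IsPGroup p (Subgroup.center Q) := hQ.to_subgroup _
  have hdvd : p ∣ Nat.card (Subgroup.center Q) := by
    rcases hZp.card_eq_or_dvd with h | h
    · exfalso
      have := Finite.one_lt_card_iff_nontrivial.mpr hZ
      omega
    · exact h
  obtain ⟨z, hz⟩ := exists_prime_orderOf_dvd_card' p hdvd
  obtain ⟨Zs, hZs⟩ : ∃ Zs : Subgroup Q, Zs = Subgroup.zpowers (z : Q) := ⟨_, rfl⟩
  have hZscard : Nat.card Zs = p := by rw [hZs, Nat.card_zpowers, Subgroup.orderOf_coe, hz]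
  have hZscent : ∀ c ∈ Zs, ∀ g : Q, g * c = c * g := by
    intro c hc g
    rw [hZs] at hc
    obtain ⟨k, rfl⟩ := Subgroup.mem_zpowers_iff.mp hc
    have h1 : (z : Q) ^ k ∈ Subgroup.center Q := Subgroup.zpow_mem _ z.2 k
    exact Subgroup.mem_center_iff.mp h1 g
  have key : ∀ X : Subgroup Q, Nat.card X = p → X = Zs := by
    intro X hX
    by_contra hne
    have hXcyc : IsCyclic X := isCyclic_of_prime_card hX
    have hXcomm : ∀ a ∈ X, ∀ b ∈ X, a * b = b * a := by
      intro a ha b hb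
      have h1 := (IsCyclic.isMulCommutative (α := X)).is_comm.comm ⟨a, ha⟩ ⟨b, hb⟩
      exact congrArg Subtype.val h1
    have hperm : (X : Set Q) * (Zs : Set Q) = (Zs : Set Q) * (X : Set Q) := by
      ext g
      constructor
      · rintro ⟨a, ha, c, hc, rfl⟩
        exact ⟨c, hc, a, ha, (hZscent c hc a).symm⟩
      · rintro ⟨c, hc, a, ha, rfl⟩
        exact ⟨a, ha, c, hc, hZscent c hc a⟩
    have hcoe := Cfsg.Agent.S0021.coe_sup_of_perm X Zs hperm
    have hBcomm : IsMulCommutative (X ⊔ Zs : Subgroup Q) := by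
      refine ⟨⟨fun g₁ g₂ => Subtype.ext ?_⟩⟩
      have h1 : (g₁ : Q) ∈ ((X ⊔ Zs : Subgroup Q) : Set Q) := g₁.2
      have h2 : (g₂ : Q) ∈ ((X ⊔ Zs : Subgroup Q) : Set Q) := g₂.2
      rw [hcoe] at h1 h2
      obtain ⟨a₁, ha₁, c₁, hc₁, e₁⟩ := h1
      obtain ⟨a₂, ha₂, c₂, hc₂, e₂⟩ := h2
      show (g₁ : Q) * (g₂ : Q) = (g₂ : Q) * (g₁ : Q)
      rw [← e₁, ← e₂]
      calc a₁ * c₁ * (a₂ * c₂) = a₁ * (c₁ * (a₂ * c₂)) := by group
        _ = a₁ * ((a₂ * c₂) * c₁) := by rw [← hZscent c₁ hc₁ (a₂ * c₂)]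
        _ = (a₁ * a₂) * c₂ * c₁ := by group
        _ = (a₂ * a₁) * c₂ * c₁ := by rw [hXcomm a₁ ha₁ a₂ ha₂]
        _ = a₂ * (a₁ * c₂) * c₁ := by group
        _ = a₂ * (c₂ * a₁) * c₁ := by rw [hZscent c₂ hc₂ a₁]
        _ = a₂ * c₂ * (a₁ * c₁) := by group
    have hB'comm : IsMulCommutative ((X ⊔ Zs : Subgroup Q).map Q.subtype) := inferInstance
    have hB'cyc : IsCyclic ((X ⊔ Zs : Subgroup Q).map Q.subtype) := hΓ _ hB'comm
    have hBcyc : IsCyclic (X ⊔ Zs : Subgroup Q) :=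
      isCyclic_of_surjective
        ((Subgroup.equivMapOfInjective (X ⊔ Zs : Subgroup Q) Q.subtype Q.subtype_injective).symm)
        (MulEquiv.surjective _)
    have hc1 : Nat.card (X.subgroupOf (X ⊔ Zs)) = p := by
      rw [Nat.card_congr (Subgroup.subgroupOfEquivOfLe (le_sup_left : X ≤ X ⊔ Zs)).toEquiv, hX]
    have hc2 : Nat.card (Zs.subgroupOf (X ⊔ Zs)) = p := by
      rw [Nat.card_congr (Subgroup.subgroupOfEquivOfLe (le_sup_right : Zs ≤ X ⊔ Zs)).toEquiv,
        hZscard]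
    have heq : X.subgroupOf (X ⊔ Zs) = Zs.subgroupOf (X ⊔ Zs) :=
      le_antisymm
        (Cfsg.Agent.S0016.le_of_card_dvd_of_isCyclic _ _ (by rw [hc1, hc2]))
        (Cfsg.Agent.S0016.le_of_card_dvd_of_isCyclic _ _ (by rw [hc1, hc2]))
    apply hne
    calc X = (X.subgroupOf (X ⊔ Zs)).map (X ⊔ Zs).subtype :=
          (Subgroup.map_subgroupOf_eq_of_le le_sup_left).symm
      _ = (Zs.subgroupOf (X ⊔ Zs)).map (X ⊔ Zs).subtype := by rw [heq]
      _ = Zs := Subgroup.map_subgroupOf_eq_of_le le_sup_right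
  rw [key X hX, key Y hY]

/-- Sylow subgroups of Frobenius complements: if H complements a nontrivial normal subgroup K and every nonidentity element of H has trivial centraliser in K, then each Sylow subgroup of H is cyclic or isomorphic to a generalized quaternion group. -/
theorem result {G : Type*} [Group G] [Finite G] (K H : Subgroup G) [K.Normal]
    (hc : Subgroup.IsComplement' K H) (hK : K ≠ ⊥) (hfpf : ∀ h ∈ H, h ≠ 1 → K ⊓ Subgroup.centralizer {h} = ⊥)
    (p : ℕ) [Fact p.Prime] (P : Sylow p H) :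
    IsCyclic P ∨ ∃ n : ℕ, Nonempty (P ≃* QuaternionGroup (2 ^ n)) := by
  have hΓ : ∀ B : Subgroup H, IsMulCommutative B → IsCyclic B := by
    intro B hB
    have hB' : IsMulCommutative (B.map H.subtype) := inferInstance
    have hcyc := isCyclic_of_fpf K H hK hfpf (B.map H.subtype) (Subgroup.map_subtype_le B)
    exact isCyclic_of_surjective
      ((Subgroup.equivMapOfInjective B H.subtype H.subtype_injective).symm)
      (MulEquiv.surjective _)
  have huniq := unique_of_abelian_cyclic hΓ p (P : Subgroup H) P.2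
  rcases Cfsg.Agent.S0016.result (G := (P : Subgroup H)) p P.2 huniq with h | ⟨-, h⟩
  · exact Or.inl h
  · exact Or.inr h

end Cfsg.Agent.S0040
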