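import Cfsg.Statements.S0249
import Mathlib

set_option autoImplicit false
open Cfsg

namespace Cfsg.Agent.S0249
open Matrix Matrix.SpecialLinearGroup
open scoped commutatorElement
open scoped LinearAlgebra.Projectivization

section aux

variable {ι F : Type*} [DecidableEq ι] [Fintype ι] [Field F]

lemma transvection_commutator {i j k : ι} (hij : i ≠ j) (hik : i ≠ k) (hkj : k ≠ j) (c : F) :
    ⁅transvection hik c, transvection hkj (1:F)⁆ = transvection hij c := by
  rw [commutatorElement_def, transvection_inv, transvection_inv]
  apply Subtype.ext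
  simp [transvection_coe, mul_add, add_mul, single_mul_single_of_ne, hij.symm, hik.symm, hkj.symm]
  simp only [← single_neg]
  abel

lemma diag2n_eq {i j : ι} (hij : i ≠ j) (a : F) (ha : a ≠ 0) :
    diag2n hij a ha = transvection hij a * transvection hij.symm (-a⁻¹) * transvection hij a *
      transvection hij (-1) * transvection hij.symm 1 * transvection hij (-1) := by
  apply Subtype.ext
  simp [transvection_coe, diag2n_coe, mul_add, add_mul, single_mul_single_of_ne, hij, hij.symm, ha]
  ext k l
  simp only [diagonal_apply, single_apply, one_apply, Matrix.add_apply]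
  grind

lemma exists_third (h3 : 3 ≤ Fintype.card ι) (i j : ι) : ∃ k : ι, k ≠ i ∧ k ≠ j := by
  by_contra h
  push Not at h
  have hsub : (Finset.univ : Finset ι) ⊆ {i, j} := fun k _ => by
    by_cases hk : k = i
    · simp [hk]
    · simp [h k hk]
  have h1 := Finset.card_le_card hsub
  have h2 : ({i, j} : Finset ι).card ≤ 2 := Finset.card_le_two
  rw [Finset.card_univ] at h1
  omega

lemma transvection_mem_commutator (h3 : 3 ≤ Fintype.card ι) {i j : ι} (hij : i ≠ j) (c : F) :
    transvection hij c ∈ commutator (SpecialLinearGroup ι F) := by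
  obtain ⟨k, hki, hkj⟩ := exists_third h3 i j
  rw [← transvection_commutator hij hki.symm hkj c]
  exact Subgroup.commutator_mem_commutator (Subgroup.mem_top _) (Subgroup.mem_top _)

theorem transvection_induction [Nontrivial ι] (P : SpecialLinearGroup ι F → Prop)
    (htransvec : ∀ (i j : ι) (h : i ≠ j) (c : F), P (transvection h c))
    (hmul : ∀ A B, P A → P B → P (A * B)) (A : SpecialLinearGroup ι F) : P A := by
  refine diagonal_transvection_induction' P A ?_ htransvec hmul
  intro i j hij c hc
  rw [diag2n_eq hij c hc]
  refine hmul _ _ (hmul _ _ (hmul _ _ (hmul _ _ (hmul _ _ ?_ ?_) ?_) ?_) ?_) ?_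
  all_goals exact htransvec _ _ _ _

lemma commutator_eq_top (h3 : 3 ≤ Fintype.card ι) :
    commutator (SpecialLinearGroup ι F) = ⊤ := by
  have : Nontrivial ι := Fintype.one_lt_card_iff_nontrivial.mp (by omega)
  exact le_antisymm le_top (fun A _ => transvection_induction _
    (fun _ _ hij c => transvection_mem_commutator h3 hij c) (fun _ _ => mul_mem) A)

lemma iSup_lineStab_eq_top [Nontrivial ι] :
    (⨆ p : ℙ F (ι → F), lineStab p.submodule) = (⊤ : Subgroup (SpecialLinearGroup ι F)) := by
  refine le_antisymm le_top (fun A _ => ?_)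
  refine transvection_induction _ ?_ (fun _ _ => mul_mem) A
  intro i j hij c
  have h1 := SL2Gen.transvection_mem_lineStab (F := F) hij c
  rw [← Projectivization.submodule_mk (K := F) _ (Pi.single_ne_zero_iff.2 one_ne_zero)] at h1
  exact Subgroup.mem_iSup_of_mem _ h1

lemma iSup_iwasawaT_eq_top [Nontrivial ι] :
    iSup (PSL.iwasawaT (F := F) (ι := ι)) = ⊤ := by
  have step1 : iSup (PSL.iwasawaT (F := F) (ι := ι)) =
      Subgroup.map (QuotientGroup.mk' (Subgroup.center (Matrix.SpecialLinearGroup ι F)))
        (⨆ p : ℙ F (ι → F),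
          Matrix.SpecialLinearGroup.lineStab (F := F) (ι := ι) p.submodule) := by
    rw [Subgroup.map_iSup]
  rw [step1, iSup_lineStab_eq_top]
  exact Subgroup.map_top_of_surjective _ (QuotientGroup.mk'_surjective _)

open MulAction in
/-- The Iwasawa structure on PSL(ι, F). -/
noncomputable def iwasawa [Nontrivial ι] :
    IwasawaStructure (Matrix.ProjectiveSpecialLinearGroup ι F) (ℙ F (ι → F)) where
  T := PSL.iwasawaT
  is_comm p := by
    have hSL : IsMulCommutative (lineStab (F := F) (ι := ι) p.submodule) := by
      rw [← Projectivization.mk_rep p, Projectivization.submodule_mk]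
      exact lineStab_isMulCommutative_of_span p.rep p.rep_nonzero
    exact Subgroup.map_isMulCommutative _ _
  is_conj g p := by
    obtain ⟨g_SL, rfl⟩ := QuotientGroup.mk_surjective g
    rw [Matrix.ProjectiveSpecialLinearGroup.smul_proj_mk]
    change Subgroup.map _ _ = _
    rw [PSL.smul_submodule, Matrix.SpecialLinearGroup.lineStab_smul,
      PSL.iwasawaT_map_conj]
  is_generator := iSup_iwasawaT_eq_top

lemma PSL_commutator_eq_top (h3 : 3 ≤ Fintype.card ι) :
    commutator (Matrix.ProjectiveSpecialLinearGroup ι F) = ⊤ := by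
  have : Group.IsPerfect (SpecialLinearGroup ι F) := ⟨commutator_eq_top h3⟩
  have : Group.IsPerfect (Matrix.ProjectiveSpecialLinearGroup ι F) := inferInstance
  exact this.commutator_eq_top

theorem isSimpleGroup (h3 : 3 ≤ Fintype.card ι) :
    IsSimpleGroup (Matrix.ProjectiveSpecialLinearGroup ι F) := by
  have : Nontrivial ι := Fintype.one_lt_card_iff_nontrivial.mp (by omega)
  exact MulAction.IwasawaStructure.isSimpleGroup (PSL_commutator_eq_top h3) iwasawa inferInstance

end aux

/-- PSL_n(F) is simple for n at least 3, over any field F. -/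
theorem result {F : Type*} [Field F] (n : ℕ) (hn : 3 ≤ n) : IsSimpleGroup (Matrix.ProjectiveSpecialLinearGroup (Fin n) F) := by
  exact isSimpleGroup (by simpa using hn)

end Cfsg.Agent.S0249
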