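import Cfsg.Statements.S0266
import Mathlib

set_option autoImplicit false
open scoped MatrixGroups
open Cfsg

namespace Cfsg.Agent.S0266

open Matrix
open scoped MatrixGroups

section

variable {F : Type*} [Field F]

/-- The determinant of two vectors of the plane. -/
def dd (u v : Fin 2 → F) : F := u 0 * v 1 - u 1 * v 0

theorem mk_eq_of_dd_eq_zero {u v : Fin 2 → F} (hu : u ≠ 0) (hv : v ≠ 0) (h : dd u v = 0) :
    Projectivization.mk F u hu = Projectivization.mk F v hv := by
  rw [Projectivization.mk_eq_mk_iff']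
  unfold dd at h
  have h' : u 0 * v 1 = u 1 * v 0 := sub_eq_zero.mp h
  by_cases hv0 : v 0 = 0
  · have hv1 : v 1 ≠ 0 := by
      intro hv1
      apply hv
      funext i
      fin_cases i
      · exact hv0
      · exact hv1
    have hu0 : u 0 = 0 := by
      rw [hv0, mul_zero] at h'
      exact (mul_eq_zero.mp h').resolve_right hv1
    refine ⟨u 1 / v 1, ?_⟩
    funext i
    fin_cases i
    · show u 1 / v 1 * v 0 = u 0
      rw [hv0, hu0, mul_zero]
    · show u 1 / v 1 * v 1 = u 1
      exact div_mul_cancel₀ _ hv1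
  · refine ⟨u 0 / v 0, ?_⟩
    funext i
    fin_cases i
    · show u 0 / v 0 * v 0 = u 0
      exact div_mul_cancel₀ _ hv0
    · show u 0 / v 0 * v 1 = u 1
      rw [div_mul_eq_mul_div, h', mul_div_assoc, div_self hv0, mul_one]

theorem e0_ne : (![1, 0] : Fin 2 → F) ≠ 0 := by
  intro h
  have h1 := congrFun h 0
  simp at h1

theorem e1_ne : (![0, 1] : Fin 2 → F) ≠ 0 := by
  intro h
  have h1 := congrFun h 1
  simp at h1

theorem e2_ne : (![1, 1] : Fin 2 → F) ≠ 0 := by
  intro h
  have h1 := congrFun h 0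
  simp at h1

/-- Every triple of distinct points is the image of the standard triple. -/
theorem exists_gl_triple (a b c : Projectivization F (Fin 2 → F)) (hab : a ≠ b) (hac : a ≠ c)
    (hbc : b ≠ c) :
    ∃ g : GL (Fin 2) F,
      ProjGenLinGroup.mk g • Projectivization.mk F (![1, 0] : Fin 2 → F) e0_ne = a ∧
      ProjGenLinGroup.mk g • Projectivization.mk F (![0, 1] : Fin 2 → F) e1_ne = b ∧
      ProjGenLinGroup.mk g • Projectivization.mk F (![1, 1] : Fin 2 → F) e2_ne = c := by
  induction a using Projectivization.ind with | _ u hu =>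
  induction b using Projectivization.ind with | _ v hv =>
  induction c using Projectivization.ind with | _ w hw =>
  have duv : dd u v ≠ 0 := fun h => hab (mk_eq_of_dd_eq_zero hu hv h)
  have duw : dd u w ≠ 0 := fun h => hac (mk_eq_of_dd_eq_zero hu hw h)
  have dwv : dd w v ≠ 0 := fun h => hbc (mk_eq_of_dd_eq_zero hw hv h).symm
  have hdet : (!![dd w v * u 0, dd u w * v 0; dd w v * u 1, dd u w * v 1] : Matrix (Fin 2) (Fin 2) F).det
      ≠ 0 := by
    rw [Matrix.det_fin_two_of]
    have h1 : dd w v * u 0 * (dd u w * v 1) - dd u w * v 0 * (dd w v * u 1)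
        = dd w v * dd u w * dd u v := by
      unfold dd; ring
    rw [h1]
    exact mul_ne_zero (mul_ne_zero dwv duw) duv
  refine ⟨Matrix.GeneralLinearGroup.mkOfDetNeZero _ hdet, ?_, ?_, ?_⟩
  · rw [Projectivization.PGL.mk_smul_mk, Projectivization.mk_eq_mk_iff']
    refine ⟨dd w v, ?_⟩
    funext i
    fin_cases i
    · show dd w v * u 0 = (!![dd w v * u 0, dd u w * v 0; dd w v * u 1, dd u w * v 1] *ᵥ ![1, 0]) 0
      simp [Matrix.mulVec, dotProduct, Fin.sum_univ_two]
    · show dd w v * u 1 = (!![dd w v * u 0, dd u w * v 0; dd w v * u 1, dd u w * v 1] *ᵥ ![1, 0]) 1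
      simp [Matrix.mulVec, dotProduct, Fin.sum_univ_two]
  · rw [Projectivization.PGL.mk_smul_mk, Projectivization.mk_eq_mk_iff']
    refine ⟨dd u w, ?_⟩
    funext i
    fin_cases i
    · show dd u w * v 0 = (!![dd w v * u 0, dd u w * v 0; dd w v * u 1, dd u w * v 1] *ᵥ ![0, 1]) 0
      simp [Matrix.mulVec, dotProduct, Fin.sum_univ_two]
    · show dd u w * v 1 = (!![dd w v * u 0, dd u w * v 0; dd w v * u 1, dd u w * v 1] *ᵥ ![0, 1]) 1
      simp [Matrix.mulVec, dotProduct, Fin.sum_univ_two]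
  · rw [Projectivization.PGL.mk_smul_mk, Projectivization.mk_eq_mk_iff']
    refine ⟨dd u v, ?_⟩
    funext i
    fin_cases i
    · show dd u v * w 0 = (!![dd w v * u 0, dd u w * v 0; dd w v * u 1, dd u w * v 1] *ᵥ ![1, 1]) 0
      simp [Matrix.mulVec, dotProduct, Fin.sum_univ_two]
      unfold dd; ring
    · show dd u v * w 1 = (!![dd w v * u 0, dd u w * v 0; dd w v * u 1, dd u w * v 1] *ᵥ ![1, 1]) 1
      simp [Matrix.mulVec, dotProduct, Fin.sum_univ_two]
      unfold dd; ring

/-- The stabilizer of the standard triple is trivial. -/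
theorem std_stab (k : PGL(Fin 2, F))
    (h0 : k • Projectivization.mk F (![1, 0] : Fin 2 → F) e0_ne
      = Projectivization.mk F (![1, 0] : Fin 2 → F) e0_ne)
    (h1 : k • Projectivization.mk F (![0, 1] : Fin 2 → F) e1_ne
      = Projectivization.mk F (![0, 1] : Fin 2 → F) e1_ne)
    (h2 : k • Projectivization.mk F (![1, 1] : Fin 2 → F) e2_ne
      = Projectivization.mk F (![1, 1] : Fin 2 → F) e2_ne) : k = 1 := by
  obtain ⟨N, rfl⟩ := ProjGenLinGroup.mk_surjective k
  rw [Projectivization.PGL.mk_smul_mk, Projectivization.mk_eq_mk_iff'] at h0 h1 h2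
  obtain ⟨l0, hl0⟩ := h0
  obtain ⟨l1, hl1⟩ := h1
  obtain ⟨l2, hl2⟩ := h2
  have a00 : (N : Matrix (Fin 2) (Fin 2) F) 0 0 = l0 := by
    have h := congrFun hl0 0
    have h' : l0 * 1 = ((N : Matrix (Fin 2) (Fin 2) F) *ᵥ ![1, 0]) 0 := h
    simp [Matrix.mulVec, dotProduct, Fin.sum_univ_two] at h'
    exact h'.symm
  have a10 : (N : Matrix (Fin 2) (Fin 2) F) 1 0 = 0 := by
    have h := congrFun hl0 1
    have h' : l0 * 0 = ((N : Matrix (Fin 2) (Fin 2) F) *ᵥ ![1, 0]) 1 := h
    simp [Matrix.mulVec, dotProduct, Fin.sum_univ_two] at h'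
    exact h'.symm
  have a01 : (N : Matrix (Fin 2) (Fin 2) F) 0 1 = 0 := by
    have h := congrFun hl1 0
    have h' : l1 * 0 = ((N : Matrix (Fin 2) (Fin 2) F) *ᵥ ![0, 1]) 0 := h
    simp [Matrix.mulVec, dotProduct, Fin.sum_univ_two] at h'
    exact h'.symm
  have a11 : (N : Matrix (Fin 2) (Fin 2) F) 1 1 = l1 := by
    have h := congrFun hl1 1
    have h' : l1 * 1 = ((N : Matrix (Fin 2) (Fin 2) F) *ᵥ ![0, 1]) 1 := h
    simp [Matrix.mulVec, dotProduct, Fin.sum_univ_two] at h'
    exact h'.symm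
  have b0 : l2 = l0 := by
    have h := congrFun hl2 0
    have h' : l2 * 1 = ((N : Matrix (Fin 2) (Fin 2) F) *ᵥ ![1, 1]) 0 := h
    simp [Matrix.mulVec, dotProduct, Fin.sum_univ_two, a00, a01] at h'
    exact h'
  have b1 : l2 = l1 := by
    have h := congrFun hl2 1
    have h' : l2 * 1 = ((N : Matrix (Fin 2) (Fin 2) F) *ᵥ ![1, 1]) 1 := h
    simp [Matrix.mulVec, dotProduct, Fin.sum_univ_two, a10, a11] at h'
    exact h'
  have hdet : (N : Matrix (Fin 2) (Fin 2) F).det ≠ 0 :=
    ((Matrix.isUnit_iff_isUnit_det _).mp N.isUnit).ne_zero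
  have hl0ne : l0 ≠ 0 := by
    intro h
    apply hdet
    rw [Matrix.det_fin_two, a00, a10, h]
    ring
  rw [← ProjGenLinGroup.mk_one, eq_comm, ProjGenLinGroup.mk_eq_mk_iff]
  refine ⟨Units.mk0 l0 hl0ne, ?_⟩
  apply Units.ext
  ext i j
  fin_cases i <;> fin_cases j
  · simp [a00]
  · simp [a01]
  · simp [a10]
  · simp [a11, ← b1, b0]

end


/-- PGL_2(F) is sharply 3-transitive on the projective line: it is 3-transitive and the stabiliser of three distinct points is trivial. -/
theorem result {F : Type*} [Field F] : MulAction.IsMultiplyPretransitive (Matrix.ProjGenLinGroup (Fin 2) F) (Projectivization F (Fin 2 → F)) 3 ∧ ∀ (g : Matrix.ProjGenLinGroup (Fin 2) F) (a b c : Projectivization F (Fin 2 → F)), a ≠ b → a ≠ c → b ≠ c → g • a = a → g • b = b → g • c = c → g = 1 := by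
  refine ⟨?_, ?_⟩
  · rw [MulAction.isMultiplyPretransitive_iff]
    intro x y
    obtain ⟨g, hg0, hg1, hg2⟩ := exists_gl_triple (x 0) (x 1) (x 2)
      (x.injective.ne (by decide)) (x.injective.ne (by decide)) (x.injective.ne (by decide))
    obtain ⟨h, hh0, hh1, hh2⟩ := exists_gl_triple (y 0) (y 1) (y 2)
      (y.injective.ne (by decide)) (y.injective.ne (by decide)) (y.injective.ne (by decide))
    refine ⟨Matrix.ProjGenLinGroup.mk h * (Matrix.ProjGenLinGroup.mk g)⁻¹, ?_⟩
    ext i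
    rw [Function.Embedding.smul_apply, mul_smul]
    fin_cases i
    · show Matrix.ProjGenLinGroup.mk h • (Matrix.ProjGenLinGroup.mk g)⁻¹ • x 0 = y 0
      rw [← hg0, inv_smul_smul, hh0]
    · show Matrix.ProjGenLinGroup.mk h • (Matrix.ProjGenLinGroup.mk g)⁻¹ • x 1 = y 1
      rw [← hg1, inv_smul_smul, hh1]
    · show Matrix.ProjGenLinGroup.mk h • (Matrix.ProjGenLinGroup.mk g)⁻¹ • x 2 = y 2
      rw [← hg2, inv_smul_smul, hh2]
  · intro g a b c hab hac hbc ha hb hc
    obtain ⟨h, h0, h1, h2⟩ := exists_gl_triple a b c hab hac hbc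
    have hg' : (Matrix.ProjGenLinGroup.mk h)⁻¹ * g * Matrix.ProjGenLinGroup.mk h = 1 := by
      apply std_stab
      · rw [mul_smul, mul_smul, h0, ha, ← h0, inv_smul_smul]
      · rw [mul_smul, mul_smul, h1, hb, ← h1, inv_smul_smul]
      · rw [mul_smul, mul_smul, h2, hc, ← h2, inv_smul_smul]
    have h3 : g = Matrix.ProjGenLinGroup.mk h *
        ((Matrix.ProjGenLinGroup.mk h)⁻¹ * g * Matrix.ProjGenLinGroup.mk h) *
          (Matrix.ProjGenLinGroup.mk h)⁻¹ := by group
    rw [h3, hg']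
    group

end Cfsg.Agent.S0266
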