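import Cfsg.Statements.S0732
import Cfsg.Agent.Lib.Helper23.PD2
import Cfsg.Agent.Lib.Helper23.PD4
import Cfsg.Agent.Lib.Helper15.S0732P3
import Cfsg.Agent.Lib.Helper58.S0732P4
import Cfsg.Agent.Lib.Helper57.S0732P1

set_option autoImplicit false
open Cfsg

namespace Cfsg.Agent.S0732

/-- A transitive permutation group on `p + 1` points (`p` prime) of order `(p+1) p d` with `d < p` is isomorphic to `PGL(2,p)` with `d = p - 1`, or to `PSL(2,p)` with `2d = p - 1`, or else `p + 1 = 2^q` for a prime `q`, `d = 1` or `d = q`, and the group is permutation-isomorphic to a group of semi-affine maps `x ↦ a φ(x) + b` of the field with `2^q` elements. -/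
theorem result {α : Type*} [Fintype α] [DecidableEq α] {p d : ℕ} (hp : p.Prime) (hα : Fintype.card α = p + 1) (G : Subgroup (Equiv.Perm α)) [MulAction.IsPretransitive G α] (hG : Nat.card G = (p + 1) * p * d) (hd : d < p) : (d = p - 1 ∧ Nonempty (G ≃* Matrix.ProjGenLinGroup (Fin 2) (ZMod p))) ∨ (2 * d = p - 1 ∧ Nonempty (G ≃* Matrix.ProjectiveSpecialLinearGroup (Fin 2) (ZMod p))) ∨ (∃ q : ℕ, q.Prime ∧ p + 1 = 2 ^ q ∧ (d = 1 ∨ d = q) ∧ ∃ e : α ≃ GaloisField 2 q, ∀ g : G, (e.symm.trans (((g : Equiv.Perm α)).trans e)) ∈ Cfsg.semiaffineGroup (GaloisField 2 q)) := by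
  classical
  have hpf : Fact p.Prime := ⟨hp⟩
  have hp2le := hp.two_le
  obtain ⟨a, b, hab⟩ : ∃ a b : α, a ≠ b :=
    Fintype.exists_pair_of_one_lt_card (by omega)
  obtain ⟨P, hPcard, hPa, hPn, hPcomm, hPreg, hPfix⟩ :=
    Cfsg.Agent.Lib.Helper23.pd_structure hp hα G hG hd a
  have h2t := Cfsg.Agent.Lib.Helper23.pd_two_trans hp hα G hG hd
  have three := Cfsg.Agent.Lib.Helper23.pd_three hp hα G hG hd
  have hdc := Cfsg.Agent.Lib.Helper23.pd_twoStab_card hp hα G hG hd a b hab
  have hd0 : d ≠ 0 := by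
    rintro rfl
    rw [mul_zero] at hG
    exact (Nat.card_pos (α := G)).ne' hG
  have h3 : ∀ g : G, ∀ c : α, c ≠ a → c ≠ b → g • a = a → g • b = b → g • c = c → g = 1 :=
    fun g c hca hcb hga hgb hgc => three g a b c hab (Ne.symm hcb) (Ne.symm hca) hga hgb hgc
  by_cases hreg : ∃ N : Subgroup G, N.Normal ∧ MulAction.IsPretransitive N α ∧
      ∀ c : α, MulAction.stabilizer N c = ⊥
  · obtain ⟨N, hNn, hNt, hNr⟩ := hreg
    by_cases hp2 : p = 2
    · left
      subst hp2
      have hd1 : d = 1 := by omega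
      subst hd1
      exact ⟨rfl, Cfsg.Agent.Lib.Helper57.S0732P1.perm_three_iso_pgl (by omega) G (by rw [hG])⟩
    · right
      right
      have hodd : Odd p := hp.odd_of_ne_two hp2
      have hev : Even (Fintype.card α) := by
        rw [hα]
        exact hodd.add_one
      have hPt : ∀ c : α, c ≠ a → ∃ u ∈ P, u • b = c := by
        intro c hc
        obtain ⟨u, hu, -⟩ := hPreg b c (Ne.symm hab) hc
        exact ⟨u, u.2, hu⟩
      obtain ⟨q, hq0, hαq, hdq, e, he⟩ :=
        Cfsg.Agent.Lib.Helper15.semiaffine_of_regular_normal G N hNt hNr hev a b hab P hPa hPcomm hPn hPt h3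
      rw [hdc] at hdq
      have hpq : p + 1 = 2 ^ q := by rw [← hα, hαq]
      have hq1 : q ≠ 1 := by
        rintro rfl
        omega
      have hqp : q.Prime := (Nat.prime_of_pow_sub_one_prime hq1 (by
        rw [← hpq, Nat.add_sub_cancel]
        exact hp)).2
      exact ⟨q, hqp, hpq, hdq, e, he⟩
  · have hd1 : d ≠ 1 := by
      intro hd1
      apply hreg
      have hstab : ∀ x y : α, x ≠ y → ∀ g : G, g • x = x → g • y = y → g = 1 := by
        intro x y hxy g hgx hgy
        have hc := Cfsg.Agent.Lib.Helper23.pd_twoStab_card hp hα G hG hd x y hxy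
        rw [hd1] at hc
        have hsub : Subsingleton ↥(MulAction.stabilizer G x ⊓ MulAction.stabilizer G y) :=
          (Nat.card_eq_one_iff_unique.mp hc).1
        have h1 := Subsingleton.elim (⟨g, Subgroup.mem_inf.mpr
          ⟨MulAction.mem_stabilizer_iff.mpr hgx, MulAction.mem_stabilizer_iff.mpr hgy⟩⟩ :
          ↥(MulAction.stabilizer G x ⊓ MulAction.stabilizer G y)) 1
        exact congrArg Subtype.val h1
      have hne : MulAction.stabilizer G a ≠ ⊥ := by
        intro h
        have h1 : Nat.card P ≤ Nat.card (MulAction.stabilizer G a) := Subgroup.card_le_of_le hPa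
        rw [h, Subgroup.card_bot, hPcard] at h1
        omega
      exact Cfsg.Agent.Lib.Helper58.S0732P.regular_normal_of_frobenius hstab a b hab hne
    have hZ : IsZassenhausGroup G α := by
      refine ⟨⟨fun {g₁ g₂} h => Subtype.ext (Equiv.ext h)⟩,
        MulAction.is_two_pretransitive_iff.mpr (fun {x₁ x₂ y₁ y₂} hx hy => h2t x₁ x₂ y₁ y₂ hx hy),
        three, ?_, ?_⟩
      · have h2 : 1 < Nat.card ↥(MulAction.stabilizer G a ⊓ MulAction.stabilizer G b) := by
          rw [hdc]
          omega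
        have hnt := Finite.one_lt_card_iff_nontrivial.mp h2
        obtain ⟨g, hg⟩ := exists_ne (1 : ↥(MulAction.stabilizer G a ⊓ MulAction.stabilizer G b))
        exact ⟨g, fun h => hg (Subtype.ext h), a, b, hab,
          MulAction.mem_stabilizer_iff.mp (Subgroup.mem_inf.mp g.2).1,
          MulAction.mem_stabilizer_iff.mp (Subgroup.mem_inf.mp g.2).2⟩
      · intro N hN hNt
        by_contra hcon
        apply hreg
        refine ⟨N, hN, hNt, fun c => ?_⟩
        by_contra hc
        exact hcon ⟨c, hc⟩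
    rcases Cfsg.Agent.Lib.Helper23.zass_prime_degree hZ hp hα a P hPa hPcomm hPreg hab with
      h | ⟨h, ⟨e⟩⟩
    · left
      have hH := h
      rw [hdc] at h
      refine ⟨h, Cfsg.Agent.Lib.Helper23.pd_sharp3_pgl hp hα G hZ a b hab P hPcard hPa hPn hPcomm
        hPreg hPfix ?_ hH⟩
      intro c
      obtain ⟨Pc, hPcc, hPca, -, -, -, hPcfix⟩ :=
        Cfsg.Agent.Lib.Helper23.pd_structure hp hα G hG hd c
      have hnt : Nontrivial Pc := Finite.one_lt_card_iff_nontrivial.mp (by rw [hPcc]; omega)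
      obtain ⟨u, hu⟩ := exists_ne (1 : Pc)
      refine ⟨(u : G), ?_, MulAction.mem_stabilizer_iff.mp (hPca u.2),
        hPcfix (u : G) u.2 (fun h => hu (Subtype.ext h))⟩
      have h1 := pow_card_eq_one' (G := Pc) (x := u)
      rw [hPcc] at h1
      exact congrArg Subtype.val h1
    · right
      left
      rw [hdc] at h
      exact ⟨h, ⟨e⟩⟩

end Cfsg.Agent.S0732
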