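import Cfsg.Statements.S0671
import Mathlib
import Cfsg.Agent.Lib.Helper16.PFix

set_option autoImplicit false
open Cfsg

namespace Cfsg.Agent.S0671

open MulAction

universe u v w

section

variable {G : Type u} [Group G] [Finite G] {K : Type v} [Field K] {p : ℕ} [Fact p.Prime]
  {Ω : Type w} [Fintype Ω] [MulAction G Ω] [MulAction.IsPretransitive G Ω]

/-- a Sylow `p`-subgroup is transitive in a transitive action of `p`-power degree -/
theorem sylow_trans {f : ℕ} (hcard : Fintype.card Ω = p ^ f) (P : Sylow p G) (x y : Ω) :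
    ∃ g ∈ P, g • x = y := by
  classical
  have hp : p.Prime := Fact.out
  -- sizes
  have hG : Nat.card (stabilizer G x) * p ^ f = Nat.card G := by
    rw [← hcard, ← Nat.card_eq_fintype_card, ← index_stabilizer_of_transitive G x]
    exact Subgroup.card_mul_index _
  have hPorb : Nat.card (stabilizer (↥(P : Subgroup G)) x) * (orbit (↥(P : Subgroup G)) x).ncard =
      Nat.card (P : Subgroup G) := by
    rw [← index_stabilizer]
    exact Subgroup.card_mul_index _
  have hPx : IsPGroup p (stabilizer (↥(P : Subgroup G)) x) := P.isPGroup'.to_subgroup _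
  obtain ⟨k, hk⟩ := IsPGroup.iff_card.mp hPx
  have hdvd : Nat.card (stabilizer (↥(P : Subgroup G)) x) ∣ Nat.card (stabilizer G x) := by
    let φ : stabilizer (↥(P : Subgroup G)) x →* stabilizer G x :=
      { toFun := fun s => ⟨((s : (P : Subgroup G)) : G), s.2⟩
        map_one' := rfl
        map_mul' := fun _ _ => rfl }
    apply Subgroup.card_dvd_of_injective φ
    intro a b hab
    apply Subtype.ext
    apply Subtype.ext
    exact congrArg (fun z : stabilizer G x => (z : G)) hab
  have hG0 : Nat.card G ≠ 0 := Nat.card_pos.ne'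
  have hle : k + f ≤ (Nat.card G).factorization p := by
    rw [← hp.pow_dvd_iff_le_factorization hG0, ← hG, pow_add]
    exact Nat.mul_dvd_mul (hk ▸ hdvd) dvd_rfl
  have hPcard : Nat.card (P : Subgroup G) = p ^ (Nat.card G).factorization p :=
    P.card_eq_multiplicity
  rw [hk, hPcard] at hPorb
  have horb : p ^ f ≤ (orbit (↥(P : Subgroup G)) x).ncard := by
    have h1 : p ^ (Nat.card G).factorization p = p ^ k * p ^ ((Nat.card G).factorization p - k) := by
      rw [← pow_add]
      congr 1
      omega
    rw [h1] at hPorb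
    have h2 := Nat.eq_of_mul_eq_mul_left (pow_pos hp.pos k) hPorb
    rw [h2]
    exact Nat.pow_le_pow_right hp.pos (by omega)
  have huniv : orbit (↥(P : Subgroup G)) x = Set.univ := by
    apply Set.eq_of_subset_of_ncard_le (Set.subset_univ _)
    rw [Set.ncard_univ, Nat.card_eq_fintype_card, hcard]
    exact horb
  have hy : y ∈ orbit (↥(P : Subgroup G)) x := by
    rw [huniv]
    trivial
  obtain ⟨g, hg⟩ := hy
  exact ⟨(g : G), g.2, hg⟩

variable [CharP K p]

/-- every non-zero subrepresentation of the permutation module contains the constants -/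
theorem const_le {f : ℕ} (hcard : Fintype.card Ω = p ^ f)
    (U : Subrepresentation (Cfsg.permRep K G Ω)) (hU : U.toSubmodule ≠ ⊥) :
    (Cfsg.permConstants K G Ω).toSubmodule ≤ U.toSubmodule := by
  classical
  obtain ⟨P⟩ : Nonempty (Sylow p G) := inferInstance
  obtain ⟨u, huU, hu0, hfix⟩ := Cfsg.Agent.Lib.Helper16.exists_fixed_ne_zero_rep
    (P := ↥(P : Subgroup G)) P.isPGroup' ((Cfsg.permRep K G Ω).comp (P : Subgroup G).subtype)
    U.toSubmodule (fun g u hu => U.apply_mem_toSubmodule (g : G) hu) hU
  obtain ⟨x₀, hx₀⟩ : ∃ x₀ : Ω, u x₀ ≠ 0 := by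
    by_contra hcon
    push Not at hcon
    exact hu0 (funext hcon)
  have hconst : ∀ x : Ω, u x = u x₀ := by
    intro x
    obtain ⟨g, hg, hgx⟩ := sylow_trans hcard P x x₀
    have h1 := congrFun (hfix ⟨g, hg⟩) x₀
    have h2 : u (g⁻¹ • x₀) = u x₀ := h1
    rw [← hgx, inv_smul_smul] at h2
    rw [← hgx]
    exact h2
  have hone : (fun _ : Ω => (1 : K)) ∈ U.toSubmodule := by
    have : (fun _ : Ω => (1 : K)) = (u x₀)⁻¹ • u := by
      funext x
      simp only [Pi.smul_apply, smul_eq_mul]
      rw [hconst x, inv_mul_cancel₀ hx₀]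
    rw [this]
    exact U.toSubmodule.smul_mem _ huU
  show Submodule.span K {fun _ : Ω => (1 : K)} ≤ U.toSubmodule
  rw [Submodule.span_le]
  intro v hv
  rw [Set.mem_singleton_iff] at hv
  rw [hv]
  exact hone

/-- every proper subrepresentation of the permutation module lies in the sum-zero functions -/
theorem le_sumZero {f : ℕ} (hcard : Fintype.card Ω = p ^ f)
    (U : Subrepresentation (Cfsg.permRep K G Ω)) (hU : U.toSubmodule ≠ ⊤) :
    U.toSubmodule ≤ (Cfsg.permSumZero K G Ω).toSubmodule := by
  classical
  let Uperp : Subrepresentation (Cfsg.permRep K G Ω) :=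
    { toSubmodule :=
        { carrier := {c | ∀ u ∈ U.toSubmodule, ∑ x, c x * u x = 0}
          add_mem' := by
            intro c₁ c₂ h₁ h₂ u hu
            simp only [Pi.add_apply, add_mul, Finset.sum_add_distrib]
            rw [h₁ u hu, h₂ u hu, add_zero]
          zero_mem' := by
            intro u hu
            simp
          smul_mem' := by
            intro t c hc u hu
            simp only [Pi.smul_apply, smul_eq_mul, mul_assoc, ← Finset.mul_sum]
            rw [hc u hu, mul_zero] }
      apply_mem_toSubmodule := by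
        intro g c hc u hu
        have h1 : ∑ x, (Cfsg.permRep K G Ω g c) x * u x =
            ∑ y, c y * (Cfsg.permRep K G Ω g⁻¹ u) y := by
          apply Fintype.sum_equiv (MulAction.toPerm g⁻¹)
          intro x
          show c (g⁻¹ • x) * u x = c (g⁻¹ • x) * u (g⁻¹⁻¹ • (g⁻¹ • x))
          rw [inv_inv, smul_inv_smul]
        rw [h1]
        exact hc _ (U.apply_mem_toSubmodule g⁻¹ hu) }
  obtain ⟨φ, hφ0, hφ⟩ := Submodule.exists_le_ker_of_lt_top U.toSubmodule (lt_top_iff_ne_top.mpr hU)
  have hUperp : Uperp.toSubmodule ≠ ⊥ := by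
    intro hbot
    apply hφ0
    have hc : (fun i : Ω => φ (fun j => if i = j then 1 else 0)) ∈ Uperp.toSubmodule := by
      intro u hu
      have h0 : φ u = 0 := hφ hu
      rw [LinearMap.pi_apply_eq_sum_univ φ u] at h0
      show (∑ x, φ (fun j => if x = j then 1 else 0) * u x) = 0
      refine Eq.trans ?_ h0
      apply Finset.sum_congr rfl
      intro x _
      rw [smul_eq_mul, mul_comm]
    rw [hbot, Submodule.mem_bot] at hc
    refine LinearMap.ext fun v => ?_
    rw [LinearMap.pi_apply_eq_sum_univ φ v]
    simp only [LinearMap.zero_apply]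
    apply Finset.sum_eq_zero
    intro x _
    rw [congrFun hc x]
    simp
  have h1 := const_le hcard Uperp hUperp
  have hone : (fun _ : Ω => (1 : K)) ∈ Uperp.toSubmodule :=
    h1 (Submodule.subset_span (Set.mem_singleton _))
  intro u hu
  have := hone u hu
  simp only [one_mul] at this
  exact this

end

set_option maxHeartbeats 1000000 in
/-- If the heart of the permutation module in characteristic `p` of a transitive action of degree `p ^ f` has no trivial composition factor, the action is doubly transitive. The hypothesis is phrased without composition series: no invariant subspaces `W < W'` between the constants and the sum-zero functions with trivial action on the quotient. -/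
theorem result {G : Type*} [Group G] [Finite G] {K : Type*} [Field K] {p f : ℕ} [Fact p.Prime] [CharP K p] {Ω : Type*} [Fintype Ω] [MulAction G Ω] [MulAction.IsPretransitive G Ω] (hf : 1 ≤ f) (hcard : Fintype.card Ω = p ^ f) (h : ∀ W W' : Subrepresentation (Cfsg.permRep K G Ω), (Cfsg.permConstants K G Ω).toSubmodule ≤ W.toSubmodule → W.toSubmodule < W'.toSubmodule → W'.toSubmodule ≤ (Cfsg.permSumZero K G Ω).toSubmodule → ∃ g : G, ∃ v ∈ W'.toSubmodule, Cfsg.permRep K G Ω g v - v ∉ W.toSubmodule) : MulAction.IsMultiplyPretransitive G Ω 2 := by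
  classical
  by_contra hnot
  rw [MulAction.isMultiplyPretransitive_iff] at hnot
  push Not at hnot
  obtain ⟨x, y, hxy⟩ := hnot
  set a := x 0 with ha
  set b := x 1 with hb
  set c := y 0 with hc
  set d := y 1 with hd
  have hab : a ≠ b := fun h => by
    have := x.injective h
    revert this
    decide
  have hcd : c ≠ d := fun h => by
    have := y.injective h
    revert this
    decide
  let O : Ω → Ω → Prop := fun u v => ∃ g : G, g • a = u ∧ g • b = v
  have hOab : O a b := ⟨1, one_smul _ _, one_smul _ _⟩
  have hOne : ∀ u v, O u v → u ≠ v := by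
    rintro u v ⟨g, rfl, rfl⟩ h
    exact hab (MulAction.injective g h)
  have hOsmul : ∀ (g : G) u v, O u v → O (g • u) (g • v) := by
    rintro g u v ⟨k, rfl, rfl⟩
    exact ⟨g * k, mul_smul _ _ _, mul_smul _ _ _⟩
  have hOcd : ¬ O c d := by
    rintro ⟨g, hg1, hg2⟩
    apply hxy g
    ext i
    fin_cases i
    · exact hg1
    · exact hg2
  -- the orbital operator
  let φ : (Ω → K) →ₗ[K] (Ω → K) :=
    { toFun := fun f u => ∑ v, if O u v then f v else 0
      map_add' := by
        intro f₁ f₂
        funext u
        simp only [Pi.add_apply]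
        rw [← Finset.sum_add_distrib]
        apply Finset.sum_congr rfl
        intro v _
        split_ifs <;> simp
      map_smul' := by
        intro t f₁
        funext u
        simp only [Pi.smul_apply, smul_eq_mul, RingHom.id_apply]
        rw [Finset.mul_sum]
        apply Finset.sum_congr rfl
        intro v _
        split_ifs <;> simp }
  have hφapply : ∀ f₁ u, φ f₁ u = ∑ v, if O u v then f₁ v else 0 := fun _ _ => rfl
  have hφeq : ∀ (g : G) (f₁ : Ω → K), φ (Cfsg.permRep K G Ω g f₁) = Cfsg.permRep K G Ω g (φ f₁) := by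
    intro g f₁
    funext u
    show (∑ v, if O u v then f₁ (g⁻¹ • v) else 0) = ∑ w, if O (g⁻¹ • u) w then f₁ w else 0
    apply Fintype.sum_equiv (MulAction.toPerm g⁻¹)
    intro v
    show (if O u v then f₁ (g⁻¹ • v) else 0) = if O (g⁻¹ • u) (g⁻¹ • v) then f₁ (g⁻¹ • v) else 0
    have hiff : O u v ↔ O (g⁻¹ • u) (g⁻¹ • v) := by
      constructor
      · exact hOsmul g⁻¹ u v
      · intro h'
        have := hOsmul g _ _ h'
        rwa [smul_inv_smul, smul_inv_smul] at this
    simp only [hiff]
  let one : Ω → K := fun _ => 1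
  have hρone : ∀ g : G, Cfsg.permRep K G Ω g one = one := fun g => rfl
  set lam : K := φ one a with hlam
  have hφone : φ one = lam • one := by
    funext u
    obtain ⟨g, hg⟩ := MulAction.exists_smul_eq G u a
    have h1 := congrFun (hφeq g one) a
    rw [hρone] at h1
    have h2 : (Cfsg.permRep K G Ω g (φ one)) a = φ one (g⁻¹ • a) := rfl
    rw [h2, ← hg, inv_smul_smul] at h1
    simp only [Pi.smul_apply, smul_eq_mul, one, mul_one]
    rw [hlam, ← hg]
    exact h1.symm
  let φ' : (Ω → K) →ₗ[K] (Ω → K) := φ - lam • LinearMap.id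
  have hφ'apply : ∀ f₁, φ' f₁ = φ f₁ - lam • f₁ := fun _ => rfl
  have hφ'one : φ' one = 0 := by
    rw [hφ'apply, hφone, sub_self]
  have hφ'eq : ∀ (g : G) (f₁ : Ω → K),
      φ' (Cfsg.permRep K G Ω g f₁) = Cfsg.permRep K G Ω g (φ' f₁) := by
    intro g f₁
    rw [hφ'apply, hφ'apply, hφeq, map_sub, map_smul]
  have hCmem : ∀ v : Ω → K, v ∈ (Cfsg.permConstants K G Ω).toSubmodule ↔ ∃ t : K, t • one = v :=
    fun v => Submodule.mem_span_singleton
  -- matrix entries
  have hentry : ∀ u v : Ω, φ' (fun j => if v = j then (1 : K) else 0) u =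
      (if O u v then 1 else 0) - lam * (if v = u then 1 else 0) := by
    intro u v
    rw [hφ'apply]
    simp only [Pi.sub_apply, Pi.smul_apply, smul_eq_mul]
    congr 1
    rw [hφapply]
    rw [Finset.sum_eq_single v]
    · simp
    · intro w _ hwv
      simp [Ne.symm hwv]
    · intro hv
      exact absurd (Finset.mem_univ v) hv
  -- the two subrepresentations
  let W : Subrepresentation (Cfsg.permRep K G Ω) :=
    { toSubmodule := LinearMap.ker φ'
      apply_mem_toSubmodule := by
        intro g v hv
        rw [LinearMap.mem_ker] at hv ⊢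
        rw [hφ'eq, hv, map_zero] }
  let W' : Subrepresentation (Cfsg.permRep K G Ω) :=
    { toSubmodule := (Cfsg.permConstants K G Ω).toSubmodule.comap φ'
      apply_mem_toSubmodule := by
        intro g v hv
        rw [Submodule.mem_comap] at hv ⊢
        rw [hφ'eq]
        exact (Cfsg.permConstants K G Ω).apply_mem_toSubmodule g hv }
  let R : Subrepresentation (Cfsg.permRep K G Ω) :=
    { toSubmodule := LinearMap.range φ'
      apply_mem_toSubmodule := by
        rintro g v ⟨v', rfl⟩
        exact ⟨Cfsg.permRep K G Ω g v', hφ'eq g v'⟩ }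
  have hCW : (Cfsg.permConstants K G Ω).toSubmodule ≤ W.toSubmodule := by
    intro v hv
    obtain ⟨t, rfl⟩ := (hCmem v).mp hv
    show φ' (t • one) = 0
    rw [map_smul, hφ'one, smul_zero]
  have hab1 : φ' (fun j => if b = j then (1 : K) else 0) a = 1 := by
    rw [hentry]
    simp [hOab, Ne.symm hab]
  have hR0 : R.toSubmodule ≠ ⊥ := by
    intro hbot
    have hmem : φ' (fun j => if b = j then (1 : K) else 0) ∈ R.toSubmodule := ⟨_, rfl⟩
    rw [hbot, Submodule.mem_bot] at hmem
    rw [hmem] at hab1
    simp at hab1
  have hCR := const_le hcard R hR0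
  obtain ⟨f₁, hf₁⟩ : ∃ f₁, φ' f₁ = one := hCR (Submodule.subset_span (Set.mem_singleton _))
  have hone0 : one ≠ 0 := by
    intro h0
    have := congrFun h0 a
    simp [one] at this
  have hWW' : W.toSubmodule < W'.toSubmodule := by
    refine lt_of_le_of_ne ?_ ?_
    · intro v hv
      show φ' v ∈ (Cfsg.permConstants K G Ω).toSubmodule
      have hv' : φ' v = 0 := hv
      rw [hv']
      exact Submodule.zero_mem _
    · intro heq
      have h1 : f₁ ∈ W'.toSubmodule := by
        show φ' f₁ ∈ (Cfsg.permConstants K G Ω).toSubmodule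
        rw [hf₁]
        exact Submodule.subset_span (Set.mem_singleton _)
      rw [← heq] at h1
      have h2 : φ' f₁ = 0 := h1
      rw [hf₁] at h2
      exact hone0 h2
  have hW'top : W'.toSubmodule ≠ ⊤ := by
    intro htop
    have hd' : φ' (fun j => if d = j then (1 : K) else 0) ∈ (Cfsg.permConstants K G Ω).toSubmodule := by
      have : (fun j => if d = j then (1 : K) else 0) ∈ W'.toSubmodule := by
        rw [htop]
        trivial
      exact this
    have hb' : φ' (fun j => if b = j then (1 : K) else 0) ∈ (Cfsg.permConstants K G Ω).toSubmodule := by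
      have : (fun j => if b = j then (1 : K) else 0) ∈ W'.toSubmodule := by
        rw [htop]
        trivial
      exact this
    obtain ⟨t, ht⟩ := (hCmem _).mp hd'
    obtain ⟨s, hs⟩ := (hCmem _).mp hb'
    have ht1 := congrFun ht c
    rw [hentry] at ht1
    simp only [Pi.smul_apply, smul_eq_mul, one, mul_one, hOcd, if_false, Ne.symm hcd, mul_zero,
      sub_zero] at ht1
    have ht2 := congrFun ht d
    rw [hentry] at ht2
    have hOdd : ¬ O d d := fun h' => hOne d d h' rfl
    simp only [Pi.smul_apply, smul_eq_mul, one, mul_one, hOdd, if_false, if_true, zero_sub] at ht2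
    have hlam0 : lam = 0 := by
      rw [ht1] at ht2
      exact neg_eq_zero.mp ht2.symm
    have hs1 := congrFun hs a
    rw [hab1] at hs1
    simp only [Pi.smul_apply, smul_eq_mul, one, mul_one] at hs1
    have hs2 := congrFun hs b
    rw [hentry] at hs2
    have hObb : ¬ O b b := fun h' => hOne b b h' rfl
    simp only [Pi.smul_apply, smul_eq_mul, one, mul_one, hObb, if_false, if_true, zero_sub, hlam0,
      neg_zero] at hs2
    rw [hs1] at hs2
    exact one_ne_zero hs2
  have hW'S := le_sumZero hcard W' hW'top
  obtain ⟨g, v, hv, hgv⟩ := h W W' hCW hWW' hW'S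
  apply hgv
  show φ' (Cfsg.permRep K G Ω g v - v) = 0
  rw [map_sub, hφ'eq]
  have hv' : φ' v ∈ (Cfsg.permConstants K G Ω).toSubmodule := hv
  obtain ⟨t, ht⟩ := (hCmem _).mp hv'
  rw [← ht, map_smul, hρone, sub_self]

end Cfsg.Agent.S0671
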