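import Cfsg.Statements.S0673
import Mathlib

set_option autoImplicit false
open Cfsg

namespace Cfsg.Agent.S0673

open Polynomial

universe u

/-- the difference operator on polynomials -/
noncomputable def delta {K : Type u} [Field K] (Q : K[X]) : K[X] := taylor (-1) Q - Q

theorem delta_eval {K : Type u} [Field K] (Q : K[X]) (s : K) :
    (delta Q).eval s = Q.eval (s - 1) - Q.eval s := by
  unfold delta
  rw [eval_sub, taylor_eval, ← sub_eq_add_neg]

/-- the difference operator lowers the degree by exactly one -/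
theorem delta_natDegree {K : Type u} [Field K] (Q : K[X]) (k : ℕ) (hk : Q.natDegree = k + 1)
    (hk0 : ((k + 1 : ℕ) : K) ≠ 0) : (delta Q).natDegree = k ∧ delta Q ≠ 0 := by
  have hQ0 : Q ≠ 0 := by
    rintro rfl
    simp at hk
  have hQc : Q.coeff (k + 1) ≠ 0 := by
    rw [← hk]
    exact leadingCoeff_ne_zero.mpr hQ0
  have hcoeff : (delta Q).coeff k = -((k + 1 : ℕ) : K) * Q.coeff (k + 1) := by
    unfold delta
    rw [coeff_sub, taylor_coeff]
    have hdeg : (hasseDeriv k Q).natDegree < 2 := by
      have := natDegree_hasseDeriv_le Q k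
      omega
    rw [eval_eq_sum_range' hdeg, Finset.sum_range_succ, Finset.sum_range_one, hasseDeriv_coeff,
      hasseDeriv_coeff]
    simp only [zero_add, pow_zero, mul_one, pow_one, Nat.choose_self, Nat.cast_one, one_mul]
    rw [add_comm 1 k, Nat.choose_succ_self_right]
    ring
  have hne : (delta Q).coeff k ≠ 0 := by
    rw [hcoeff]
    exact mul_ne_zero (neg_ne_zero.mpr hk0) hQc
  have hd0 : delta Q ≠ 0 := by
    intro h
    rw [h, coeff_zero] at hne
    exact hne rfl
  have hlt : (delta Q).degree < Q.degree := by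
    have h1 : (taylor (-1) Q).degree = Q.degree := degree_taylor Q (-1)
    have h2 : (taylor (-1) Q).leadingCoeff = Q.leadingCoeff := leadingCoeff_taylor (-1) Q
    exact degree_sub_lt_right h1 hQ0 h2
  have hlt' := natDegree_lt_natDegree hd0 hlt
  exact ⟨natDegree_eq_of_le_of_coeff_ne_zero (by omega) hne, hd0⟩

section

variable {p : ℕ} [Fact p.Prime] {K : Type u} [Field K] [CharP K p]

/-- evaluation of a polynomial on `ZMod p` -/
noncomputable def ev (P : K[X]) : ZMod p → K := fun j => P.eval (ZMod.cast j : K)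

theorem cast_inj : Function.Injective (fun j : ZMod p => (ZMod.cast j : K)) := by
  have h : ∀ j : ZMod p, (ZMod.cast j : K) = ZMod.castHom (dvd_refl p) K j := fun j => rfl
  intro a b hab
  simp only [h] at hab
  exact (ZMod.castHom (dvd_refl p) K).injective hab

theorem cast_sub_one (j : ZMod p) : (ZMod.cast (j - 1) : K) = (ZMod.cast j : K) - 1 := by
  have h : ∀ j : ZMod p, (ZMod.cast j : K) = ZMod.castHom (dvd_refl p) K j := fun j => rfl
  rw [h, h, map_sub, map_one]

theorem ev_add (P Q : K[X]) : ev (p := p) (P + Q) = ev P + ev Q := by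
  funext j
  simp [ev]

theorem ev_smul (c : K) (P : K[X]) : ev (p := p) (c • P) = c • ev P := by
  funext j
  simp [ev]

theorem ev_delta (Q : K[X]) :
    ev (p := p) (delta Q) = (fun j => ev Q (j - 1)) - ev Q := by
  funext j
  simp only [ev, Pi.sub_apply]
  rw [delta_eval, cast_sub_one]

theorem ev_inj (P : K[X]) (hP : P.degree < (p : ℕ)) (h : ev (p := p) P = 0) : P = 0 := by
  apply eq_zero_of_degree_lt_of_eval_index_eq_zero (s := Finset.univ)
    (v := fun j : ZMod p => (ZMod.cast j : K)) (cast_inj.injOn)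
  · rw [Finset.card_univ, ZMod.card]
    exact hP
  · intro j _
    exact congrFun h j

theorem ev_surj (f : ZMod p → K) : ∃ P : K[X], P.degree < (p : ℕ) ∧ ev P = f := by
  refine ⟨Lagrange.interpolate Finset.univ (fun j : ZMod p => (ZMod.cast j : K)) f, ?_, ?_⟩
  · have := Lagrange.degree_interpolate_lt (s := Finset.univ)
      (v := fun j : ZMod p => (ZMod.cast j : K)) f (cast_inj.injOn)
    rwa [Finset.card_univ, ZMod.card] at this
  · funext j
    exact Lagrange.eval_interpolate_at_node f (cast_inj.injOn) (Finset.mem_univ j)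

theorem key (W : Submodule K (ZMod p → K)) (hW : ∀ f ∈ W, (fun j => f (j - 1)) ∈ W) :
    ∀ d : ℕ, d < p → ∀ Q : K[X], Q ≠ 0 → Q.natDegree = d → ev Q ∈ W →
      ∀ P : K[X], P.degree < ((d + 1 : ℕ) : WithBot ℕ) → ev P ∈ W := by
  intro d
  induction d with
  | zero =>
    intro _ Q hQ0 hQd hQW P hP
    have hP' : P.natDegree = 0 := by
      by_cases hP0 : P = 0
      · rw [hP0]
        simp
      · have := (natDegree_lt_iff_degree_lt hP0).mpr hP
        omega
    rw [eq_C_of_natDegree_eq_zero hP'] 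
    rw [eq_C_of_natDegree_eq_zero hQd] at hQW hQ0
    have hc : Q.coeff 0 ≠ 0 := by
      intro h
      rw [h, C_0] at hQ0
      exact hQ0 rfl
    have : (C (P.coeff 0) : K[X]) = (P.coeff 0 / Q.coeff 0) • C (Q.coeff 0) := by
      rw [smul_C, smul_eq_mul, div_mul_cancel₀ _ hc]
    rw [this, ev_smul]
    exact W.smul_mem _ hQW
  | succ d ih =>
    intro hd Q hQ0 hQd hQW P hP
    have hk0 : ((d + 1 : ℕ) : K) ≠ 0 := by
      intro h
      rw [CharP.cast_eq_zero_iff K p] at h
      have := Nat.le_of_dvd (by omega) h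
      omega
    obtain ⟨h1, h2⟩ := delta_natDegree Q d hQd hk0
    have hΔW : ev (p := p) (delta Q) ∈ W := by
      rw [ev_delta]
      exact W.sub_mem (hW _ hQW) hQW
    have ih' := ih (by omega) (delta Q) h2 h1 hΔW
    have hQc : Q.coeff (d + 1) ≠ 0 := by
      rw [← hQd]
      exact leadingCoeff_ne_zero.mpr hQ0
    set c := P.coeff (d + 1) / Q.coeff (d + 1) with hc
    have hP' : (P - c • Q).degree < ((d + 1 : ℕ) : WithBot ℕ) := by
      rw [degree_lt_iff_coeff_zero]
      intro m hm
      rw [coeff_sub, coeff_smul, smul_eq_mul]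
      rcases Nat.eq_or_lt_of_le hm with hm' | hm'
      · rw [← hm', hc, div_mul_cancel₀ _ hQc, sub_self]
      · have hPm : P.coeff m = 0 := by
          rw [degree_lt_iff_coeff_zero] at hP
          exact hP m (by omega)
        have hQm : Q.coeff m = 0 := coeff_eq_zero_of_natDegree_lt (by omega)
        rw [hPm, hQm, mul_zero, sub_zero]
    have : P = (P - c • Q) + c • Q := by ring
    rw [this, ev_add, ev_smul]
    exact W.add_mem (ih' _ hP') (W.smul_mem _ hQW)

theorem finrank_of_char (W : Submodule K (ZMod p → K)) (r : ℕ) (hr : r ≤ p)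
    (h : ∀ f : ZMod p → K, f ∈ W ↔ ∃ P : K[X], P.degree < r ∧ ∀ j : ZMod p, f j = P.eval (ZMod.cast j : K)) :
    Module.finrank K W = r := by
  let evL : K[X] →ₗ[K] (ZMod p → K) :=
    { toFun := fun P => ev P
      map_add' := ev_add
      map_smul' := fun c P => ev_smul c P }
  let E : degreeLT K r →ₗ[K] (ZMod p → K) := evL.comp (degreeLT K r).subtype
  have hE : Function.Injective E := by
    rw [← LinearMap.ker_eq_bot, LinearMap.ker_eq_bot']
    intro P hP
    have hdeg : (P : K[X]).degree < (p : ℕ) :=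
      lt_of_lt_of_le (mem_degreeLT.mp P.2) (by exact_mod_cast hr)
    exact Subtype.ext (ev_inj (P : K[X]) hdeg hP)
  have hWE : W = LinearMap.range E := by
    ext f
    rw [h f, LinearMap.mem_range]
    constructor
    · rintro ⟨P, hP, hf⟩
      exact ⟨⟨P, mem_degreeLT.mpr hP⟩, (funext hf).symm⟩
    · rintro ⟨P, rfl⟩
      exact ⟨(P : K[X]), mem_degreeLT.mp P.2, fun j => rfl⟩
  rw [hWE, LinearMap.finrank_range_of_inj hE, (degreeLTEquiv K r).finrank_eq,
    Module.finrank_fin_fun]

end

/-- In characteristic `p`, the translation-invariant subspaces of the space of functions on `ZMod p` are exactly the spaces of polynomial functions of degree less than `r`, one for each `r ≤ p`, of dimension `r`. -/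
theorem result {p : ℕ} [Fact p.Prime] {K : Type*} [Field K] [CharP K p] (W : Submodule K (ZMod p → K)) (hW : ∀ f ∈ W, (fun j => f (j - 1)) ∈ W) : ∃ r : ℕ, r ≤ p ∧ Module.finrank K W = r ∧ ∀ f : ZMod p → K, f ∈ W ↔ ∃ P : Polynomial K, P.degree < r ∧ ∀ j : ZMod p, f j = P.eval (ZMod.cast j : K) := by
  classical
  have hp : 0 < p := (Fact.out : p.Prime).pos
  suffices hmain : ∃ r : ℕ, r ≤ p ∧ ∀ f : ZMod p → K, f ∈ W ↔
      ∃ P : Polynomial K, P.degree < r ∧ ∀ j : ZMod p, f j = P.eval (ZMod.cast j : K) by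
    obtain ⟨r, hr, hchar⟩ := hmain
    exact ⟨r, hr, finrank_of_char W r hr hchar, hchar⟩
  by_cases hbot : W = ⊥
  · refine ⟨0, Nat.zero_le _, ?_⟩
    intro f
    rw [hbot, Submodule.mem_bot]
    constructor
    · rintro rfl
      exact ⟨0, by simp, fun j => by simp⟩
    · rintro ⟨P, hP, hf⟩
      have hP0 : P = 0 := by
        by_contra hne
        have := (natDegree_lt_iff_degree_lt hne).mpr hP
        omega
      funext j
      rw [hf j, hP0]
      simp
  · let Pr : ℕ → Prop := fun d => ∃ Q : K[X], Q ≠ 0 ∧ Q.natDegree = d ∧ ev (p := p) Q ∈ W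
    obtain ⟨f₀, hf₀W, hf₀⟩ := (Submodule.ne_bot_iff W).mp hbot
    obtain ⟨Q₀, hQ₀deg, hQ₀⟩ := ev_surj (p := p) f₀
    have hQ₀0 : Q₀ ≠ 0 := by
      rintro rfl
      apply hf₀
      rw [← hQ₀]
      funext j
      simp [ev]
    have hQ₀nat : Q₀.natDegree < p := (natDegree_lt_iff_degree_lt hQ₀0).mpr hQ₀deg
    have hPr₀ : Pr Q₀.natDegree := ⟨Q₀, hQ₀0, rfl, by rw [hQ₀]; exact hf₀W⟩
    set d := Nat.findGreatest Pr (p - 1) with hd
    have hdPr : Pr d := Nat.findGreatest_spec (m := Q₀.natDegree) (by omega) hPr₀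
    have hdle : d ≤ p - 1 := Nat.findGreatest_le (p - 1)
    obtain ⟨Q, hQ0, hQd, hQW⟩ := hdPr
    refine ⟨d + 1, by omega, ?_⟩
    intro f
    constructor
    · intro hf
      obtain ⟨P, hPdeg, hPf⟩ := ev_surj (p := p) f
      refine ⟨P, ?_, fun j => (congrFun hPf j).symm⟩
      by_cases hP0 : P = 0
      · rw [hP0]
        simp
      · have hPnat : P.natDegree < p := (natDegree_lt_iff_degree_lt hP0).mpr hPdeg
        have hPrP : Pr P.natDegree := ⟨P, hP0, rfl, by rw [hPf]; exact hf⟩
        have hle : P.natDegree ≤ d := by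
          by_contra hcon
          exact Nat.findGreatest_is_greatest (by omega : d < P.natDegree) (by omega) hPrP
        rw [← natDegree_lt_iff_degree_lt hP0]
        omega
    · rintro ⟨P, hP, hf⟩
      have := key W hW d (by omega) Q hQ0 hQd hQW P hP
      have hfe : f = ev P := funext hf
      rw [hfe]
      exact this

end Cfsg.Agent.S0673
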