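import Cfsg.Statements.S0674
import Mathlib
import Cfsg.Agent.S0673

set_option autoImplicit false
open Cfsg

namespace Cfsg.Agent.S0674

open Polynomial
open scoped commutatorElement

universe u v

/-- a permutation group all of whose elements are affine in some injective coordinate is solvable -/
theorem solvable_of_affine {α : Type u} {K : Type v} [Field K] (G : Subgroup (Equiv.Perm α))
    (c : α → K) (hc : Function.Injective c)
    (haff : ∀ g : G, ∃ a b : K, ∀ x, c ((g : Equiv.Perm α) x) = a * c x + b) :
    Group.IsSolvable G := by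
  classical
  by_cases hsub : Subsingleton α
  · apply Group.isSolvable_of_comm
    intro a b
    apply Subtype.ext
    apply Equiv.ext
    intro x
    exact Subsingleton.elim _ _
  · have haff' : ∀ g : G, ∃ a b : K, a ≠ 0 ∧ ∀ x, c ((g : Equiv.Perm α) x) = a * c x + b := by
      intro g
      obtain ⟨a, b, hab⟩ := haff g
      refine ⟨a, b, ?_, hab⟩
      rintro rfl
      apply hsub
      constructor
      intro x y
      have h1 := hab x
      have h2 := hab y
      rw [zero_mul, zero_add] at h1 h2
      exact (g : Equiv.Perm α).injective (hc (h1.trans h2.symm))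
    have hinv : ∀ (g : G) (a b : K), a ≠ 0 → (∀ x, c ((g : Equiv.Perm α) x) = a * c x + b) →
        ∀ x, c ((g : Equiv.Perm α).symm x) = (c x - b) / a := by
      intro g a b ha hab x
      have := hab ((g : Equiv.Perm α).symm x)
      rw [Equiv.apply_symm_apply] at this
      rw [this]
      field_simp
      ring
    let T : Subgroup G :=
      { carrier := {g | ∃ b : K, ∀ x, c ((g : Equiv.Perm α) x) = c x + b}
        one_mem' := ⟨0, fun x => by simp⟩
        mul_mem' := by
          rintro g h ⟨b, hb⟩ ⟨b', hb'⟩
          refine ⟨b' + b, fun x => ?_⟩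
          show c ((g : Equiv.Perm α) ((h : Equiv.Perm α) x)) = _
          rw [hb, hb']
          ring
        inv_mem' := by
          rintro g ⟨b, hb⟩
          refine ⟨-b, fun x => ?_⟩
          show c ((g : Equiv.Perm α).symm x) = c x + -b
          have := hb ((g : Equiv.Perm α).symm x)
          rw [Equiv.apply_symm_apply] at this
          rw [this]
          ring }
    have hcomm : ∀ g h : G, ⁅g, h⁆ ∈ T := by
      intro g h
      obtain ⟨a, b, ha, hab⟩ := haff' g
      obtain ⟨a', b', ha', hab'⟩ := haff' h
      refine ⟨-b' - a' * b + a * b' + b, fun x => ?_⟩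
      show c ((g : Equiv.Perm α) ((h : Equiv.Perm α) ((g : Equiv.Perm α).symm
        ((h : Equiv.Perm α).symm x)))) = _
      rw [hab, hab', hinv g a b ha hab, hinv h a' b' ha' hab']
      field_simp
      ring
    have hTcomm : ∀ t₁ ∈ T, ∀ t₂ ∈ T, t₁ * t₂ = t₂ * t₁ := by
      rintro t₁ ⟨b₁, h₁⟩ t₂ ⟨b₂, h₂⟩
      apply Subtype.ext
      apply Equiv.ext
      intro x
      apply hc
      show c ((t₁ : Equiv.Perm α) ((t₂ : Equiv.Perm α) x)) =
        c ((t₂ : Equiv.Perm α) ((t₁ : Equiv.Perm α) x))
      rw [h₁, h₂, h₂, h₁]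
      ring
    rw [Group.isSolvable_def]
    refine ⟨2, ?_⟩
    have h1 : derivedSeries G 1 ≤ T := by
      rw [derivedSeries_succ, derivedSeries_zero, Subgroup.commutator_le]
      intro g _ h _
      exact hcomm g h
    rw [derivedSeries_succ, eq_bot_iff]
    refine (Subgroup.commutator_mono h1 h1).trans ?_
    rw [Subgroup.commutator_le]
    intro t₁ ht₁ t₂ ht₂
    rw [Subgroup.mem_bot, commutatorElement_eq_one_iff_mul_comm]
    exact hTcomm t₁ ht₁ t₂ ht₂

section

variable {α : Type u} [Fintype α] [DecidableEq α] {p : ℕ} [Fact p.Prime]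

/-- a cyclic coordinate on a set of prime size with a transitive group -/
theorem exists_coord (hα : Fintype.card α = p) (G : Subgroup (Equiv.Perm α))
    [MulAction.IsPretransitive G α] :
    ∃ (σ : G) (e : ZMod p ≃ α), ∀ j : ZMod p, e (j + 1) = (σ : Equiv.Perm α) (e j) := by
  have hp : p.Prime := Fact.out
  have hne : Nonempty α := Fintype.card_pos_iff.mp (by rw [hα]; exact hp.pos)
  obtain ⟨a₀⟩ := hne
  have hdvd : p ∣ Nat.card G := by
    have h1 := MulAction.index_stabilizer_of_transitive G a₀
    rw [Nat.card_eq_fintype_card, hα] at h1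
    rw [← h1]
    exact Subgroup.index_dvd_card _
  obtain ⟨σ, hσ⟩ := exists_prime_orderOf_dvd_card' p hdvd
  have hσ' : orderOf (σ : Equiv.Perm α) = p := by rw [Subgroup.orderOf_coe, hσ]
  have hcyc : (σ : Equiv.Perm α).IsCycle :=
    Equiv.Perm.isCycle_of_prime_order'' (by rw [hα]; exact hp) (by rw [hσ', hα])
  have hsupp : (σ : Equiv.Perm α).support = Finset.univ := by
    apply Finset.eq_univ_of_card
    rw [← hcyc.orderOf, hσ', hα]
  have hmove : ∀ x : α, (σ : Equiv.Perm α) x ≠ x := by
    intro x
    rw [← Equiv.Perm.mem_support, hsupp]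
    exact Finset.mem_univ x
  haveI : NeZero p := ⟨hp.pos.ne'⟩
  let e₀ : ZMod p → α := fun j => ((σ : Equiv.Perm α) ^ j.val) a₀
  have hsurj : Function.Surjective e₀ := by
    intro y
    obtain ⟨i, hi⟩ := hcyc.exists_pow_eq (hmove a₀) (hmove y)
    refine ⟨(i : ZMod p), ?_⟩
    show ((σ : Equiv.Perm α) ^ ((i : ZMod p)).val) a₀ = y
    rw [ZMod.val_natCast, ← hσ', pow_mod_orderOf]
    exact hi
  have hbij : Function.Bijective e₀ := by
    rw [Fintype.bijective_iff_surjective_and_card]
    exact ⟨hsurj, by rw [ZMod.card, hα]⟩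
  refine ⟨σ, Equiv.ofBijective e₀ hbij, ?_⟩
  intro j
  show ((σ : Equiv.Perm α) ^ (j + 1).val) a₀ = (σ : Equiv.Perm α) (((σ : Equiv.Perm α) ^ j.val) a₀)
  have h1 : (σ : Equiv.Perm α) ^ (j + 1).val = (σ : Equiv.Perm α) ^ (j.val + 1) := by
    rw [pow_eq_pow_iff_modEq, hσ', ZMod.val_add]
    haveI : Fact (1 < p) := ⟨hp.one_lt⟩
    rw [ZMod.val_one]
    exact Nat.mod_modEq _ _
  rw [h1, pow_succ']
  rfl

variable {K : Type v} [Field K] [CharP K p]

/-- the coordinate function -/
noncomputable def coord (e : ZMod p ≃ α) : α → K := fun x => (ZMod.cast (e.symm x) : K)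

theorem coord_inj (e : ZMod p ≃ α) : Function.Injective (coord (K := K) e) := by
  intro x y h
  exact e.symm.injective (Cfsg.Agent.S0673.cast_inj h)

/-- description of the subrepresentations through polynomials in the coordinate -/
theorem char_subrep (G : Subgroup (Equiv.Perm α)) (σ : G) (e : ZMod p ≃ α)
    (he : ∀ j : ZMod p, e (j + 1) = (σ : Equiv.Perm α) (e j))
    (Y : Subrepresentation (Cfsg.permRep K G α)) :
    ∀ f : α → K, f ∈ Y.toSubmodule ↔ ∃ P : K[X],
      P.degree < (Module.finrank K Y.toSubmodule : ℕ) ∧ ∀ x, f x = P.eval (coord (K := K) e x) := by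
  let φ : (α → K) ≃ₗ[K] (ZMod p → K) := LinearEquiv.funCongrLeft K K e
  have hφ : ∀ (f : α → K) (j : ZMod p), φ f j = f (e j) := fun f j => rfl
  let X' : Submodule K (ZMod p → K) := Y.toSubmodule.map (φ : (α → K) →ₗ[K] (ZMod p → K))
  have hmem : ∀ f : α → K, φ f ∈ X' ↔ f ∈ Y.toSubmodule := by
    intro f
    constructor
    · rintro ⟨f', hf', hff⟩
      have : f' = f := φ.injective hff
      rwa [← this]
    · intro hf
      exact ⟨f, hf, rfl⟩
  have hshift : ∀ h ∈ X', (fun j => h (j - 1)) ∈ X' := by
    rintro h ⟨f, hf, rfl⟩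
    have h1 : (fun j : ZMod p => φ f (j - 1)) = φ (Cfsg.permRep K G α σ f) := by
      funext j
      rw [hφ, hφ]
      show f (e (j - 1)) = f ((σ⁻¹ : G) • e j)
      congr 1
      have h2 := he (j - 1)
      rw [sub_add_cancel] at h2
      rw [h2]
      show e (j - 1) = (σ : Equiv.Perm α)⁻¹ ((σ : Equiv.Perm α) (e (j - 1)))
      simp
    change (fun j : ZMod p => φ f (j - 1)) ∈ X'
    rw [h1, hmem]
    exact Y.apply_mem_toSubmodule σ hf
  obtain ⟨r, hr, hfin, hchar⟩ := Cfsg.Agent.S0673.result X' hshift
  have hfin' : Module.finrank K Y.toSubmodule = r := by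
    rw [← hfin]
    exact (LinearEquiv.finrank_map_eq φ Y.toSubmodule).symm
  intro f
  rw [hfin', ← hmem, hchar]
  constructor
  · rintro ⟨P, hP, hPf⟩
    refine ⟨P, hP, fun x => ?_⟩
    have := hPf (e.symm x)
    rw [hφ, Equiv.apply_symm_apply] at this
    exact this
  · rintro ⟨P, hP, hPf⟩
    refine ⟨P, hP, fun j => ?_⟩
    rw [hφ, hPf (e j)]
    show P.eval (ZMod.cast (e.symm (e j)) : K) = _
    rw [Equiv.symm_apply_apply]

/-- a polynomial of degree less than `p` vanishing on all coordinates is zero -/
theorem poly_zero (hα : Fintype.card α = p) (e : ZMod p ≃ α) (P : K[X]) (hP : P.natDegree < p)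
    (h : ∀ x : α, P.eval (coord (K := K) e x) = 0) : P = 0 := by
  by_cases hP0 : P = 0
  · exact hP0
  apply eq_zero_of_degree_lt_of_eval_index_eq_zero (s := Finset.univ)
    (v := coord (K := K) e) ((coord_inj e).injOn)
  · rw [Finset.card_univ, hα]
    exact (natDegree_lt_iff_degree_lt hP0).mp hP
  · intro x _
    exact h x

set_option maxHeartbeats 1000000 in
/-- the core degree argument: a subrepresentation of dimension between `2` and `(p+1)/2`
forces every group element to be affine in the coordinate -/
theorem core (hα : Fintype.card α = p) (G : Subgroup (Equiv.Perm α)) (σ : G) (e : ZMod p ≃ α)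
    (he : ∀ j : ZMod p, e (j + 1) = (σ : Equiv.Perm α) (e j))
    (Y : Subrepresentation (Cfsg.permRep K G α)) (h2 : 2 ≤ Module.finrank K Y.toSubmodule)
    (hle : 2 * Module.finrank K Y.toSubmodule ≤ p + 1) (g : G) :
    ∃ a b : K, ∀ x, coord (K := K) e ((g : Equiv.Perm α) x) = a * coord (K := K) e x + b := by
  have hp : p.Prime := Fact.out
  set r := Module.finrank K Y.toSubmodule with hr
  have hchar := char_subrep G σ e he Y
  -- polynomial functions of degree `< r` are stable under `g`
  have hstab : ∀ P : K[X], P.degree < (r : ℕ) → ∃ R : K[X], R.degree < (r : ℕ) ∧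
      ∀ x, P.eval (coord (K := K) e ((g : Equiv.Perm α) x)) = R.eval (coord (K := K) e x) := by
    intro P hP
    have h1 : (fun x => P.eval (coord (K := K) e x)) ∈ Y.toSubmodule :=
      (hchar _).mpr ⟨P, hP, fun x => rfl⟩
    have h3 := Y.apply_mem_toSubmodule g⁻¹ h1
    obtain ⟨R, hR, hRf⟩ := (hchar _).mp h3
    refine ⟨R, hR, fun x => ?_⟩
    rw [← hRf x]
    show P.eval (coord (K := K) e ((g : Equiv.Perm α) x)) =
      P.eval (coord (K := K) e ((g⁻¹ : G)⁻¹ • x))
    rw [inv_inv]
    rfl
  obtain ⟨π, hπdeg, hπ⟩ := hstab X (by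
    rw [degree_X]
    exact_mod_cast (by omega : 1 < r))
  simp only [eval_X] at hπ
  have hπ0 : π ≠ 0 := by
    rintro rfl
    have hx : ∀ x : α, coord (K := K) e ((g : Equiv.Perm α) x) = 0 := fun x => by
      rw [hπ x]
      simp
    have hsub : ∀ x y : α, x = y := fun x y =>
      (g : Equiv.Perm α).injective (coord_inj e ((hx x).trans (hx y).symm))
    have : Fintype.card α ≤ 1 := Fintype.card_le_one_iff.mpr hsub
    have := hp.two_le
    omega
  have hπnat : π.natDegree < r := (natDegree_lt_iff_degree_lt hπ0).mpr hπdeg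
  set d := π.natDegree with hd
  have hd1 : 1 ≤ d := by
    by_contra hcon
    have hd0 : π.natDegree = 0 := by omega
    have hx : ∀ x : α, coord (K := K) e ((g : Equiv.Perm α) x) = π.coeff 0 := fun x => by
      rw [hπ x, eq_C_of_natDegree_eq_zero hd0]
      simp
    have hsub : ∀ x y : α, x = y := fun x y =>
      (g : Equiv.Perm α).injective (coord_inj e ((hx x).trans (hx y).symm))
    have : Fintype.card α ≤ 1 := Fintype.card_le_one_iff.mpr hsub
    have := hp.two_le
    omega
  have hd_le : d ≤ 1 := by
    by_contra hcon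
    have hd2 : 2 ≤ d := by omega
    -- the least `i` with `r ≤ d * i`
    have hex : ∃ i : ℕ, r ≤ d * i := ⟨r, by nlinarith⟩
    classical
    set i := Nat.find hex with hi
    have hi1 : r ≤ d * i := Nat.find_spec hex
    have hipos : 1 ≤ i := by
      by_contra h0
      have : i = 0 := by omega
      rw [this] at hi1
      omega
    have hi2 : d * (i - 1) < r := by
      have := Nat.find_min hex (m := i - 1) (by omega)
      omega
    have hi3 : 2 * (i - 1) ≤ d * (i - 1) := Nat.mul_le_mul_right _ hd2
    have hdi : d * i = d * (i - 1) + d := by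
      have : i = (i - 1) + 1 := by omega
      rw [this, Nat.mul_succ]
      simp
    have hilt : i < r := by omega
    have hdip : d * i < p := by omega
    obtain ⟨R, hRdeg, hR⟩ := hstab (X ^ i) (by
      rw [degree_X_pow]
      exact_mod_cast hilt)
    simp only [eval_pow, eval_X] at hR
    have hzero : π ^ i - R = 0 := by
      apply poly_zero hα e
      · have h1 : (π ^ i).natDegree = i * d := natDegree_pow π i
        have h2 : R.natDegree < r := by
          by_cases hR0 : R = 0
          · rw [hR0]
            simp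
            omega
          · exact (natDegree_lt_iff_degree_lt hR0).mpr hRdeg
        have h3 := natDegree_sub_le (π ^ i) R
        rw [h1] at h3
        have h4 : i * d = d * i := Nat.mul_comm _ _
        have h5 : max (i * d) R.natDegree < p := by
          rw [max_lt_iff]
          constructor <;> omega
        omega
      · intro x
        rw [eval_sub, eval_pow, ← hπ x, hR x, sub_self]
    have hπR : π ^ i = R := sub_eq_zero.mp hzero
    have h1 : (π ^ i).natDegree = i * d := natDegree_pow π i
    have hR0 : R ≠ 0 := by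
      rw [← hπR]
      exact pow_ne_zero _ hπ0
    have h2 : R.natDegree < r := (natDegree_lt_iff_degree_lt hR0).mpr hRdeg
    rw [← hπR, h1] at h2
    have h4 : i * d = d * i := Nat.mul_comm _ _
    omega
  have hlin := eq_X_add_C_of_natDegree_le_one (p := π) (by omega)
  refine ⟨π.coeff 1, π.coeff 0, fun x => ?_⟩
  rw [hπ x]
  conv_lhs => rw [hlin]
  simp

end

set_option maxHeartbeats 1000000 in
/-- Let `G` be a non-solvable transitive permutation group of prime degree `p` and `K` a field of characteristic `p`. Then the heart of the permutation module is irreducible: an invariant subspace containing the constants and contained in the sum-zero functions is one or the other. -/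
theorem result {α : Type*} [Fintype α] [DecidableEq α] {p : ℕ} [Fact p.Prime] (hα : Fintype.card α = p) (G : Subgroup (Equiv.Perm α)) [MulAction.IsPretransitive G α] (hG : ¬ Group.IsSolvable G) {K : Type*} [Field K] [CharP K p] (W : Subrepresentation (Cfsg.permRep K G α)) (h₁ : (Cfsg.permConstants K G α).toSubmodule ≤ W.toSubmodule) (h₂ : W.toSubmodule ≤ (Cfsg.permSumZero K G α).toSubmodule) : W = Cfsg.permConstants K G α ∨ W = Cfsg.permSumZero K G α := by
  classical
  have hp : p.Prime := Fact.out
  obtain ⟨σ, e, he⟩ := exists_coord hα G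
  have hne : Nonempty α := Fintype.card_pos_iff.mp (by rw [hα]; exact hp.pos)
  obtain ⟨a₀⟩ := hne
  have hV : Module.finrank K (α → K) = p := by rw [Module.finrank_fintype_fun_eq_card, hα]
  set r := Module.finrank K W.toSubmodule with hr
  -- dimensions of the constants and of the sum-zero functions
  have hone0 : (fun _ : α => (1 : K)) ≠ 0 := by
    intro h0
    have := congrFun h0 a₀
    simp at this
  have hC : Module.finrank K (Cfsg.permConstants K G α).toSubmodule = 1 :=
    finrank_span_singleton hone0
  have hStop : (Cfsg.permSumZero K G α).toSubmodule ≠ ⊤ := by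
    intro htop
    have hmem : (fun x : α => if x = a₀ then (1 : K) else 0) ∈
        (Cfsg.permSumZero K G α).toSubmodule := by
      rw [htop]
      trivial
    have hsum : ∑ x : α, (if x = a₀ then (1 : K) else 0) = 0 := hmem
    rw [Finset.sum_ite_eq' Finset.univ a₀ (fun _ => (1 : K))] at hsum
    simp at hsum
  have hS : Module.finrank K (Cfsg.permSumZero K G α).toSubmodule < p := by
    rw [← hV]
    exact Submodule.finrank_lt hStop
  have hr1 : 1 ≤ r := by
    rw [← hC]
    exact Submodule.finrank_mono h₁
  have hrS : r ≤ Module.finrank K (Cfsg.permSumZero K G α).toSubmodule :=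
    Submodule.finrank_mono h₂
  by_cases hr_one : r = 1
  · left
    apply Subrepresentation.toSubmodule_injective
    symm
    exact Submodule.eq_of_le_of_finrank_eq h₁ (by rw [hC, ← hr, hr_one])
  by_cases hr_top : r = p - 1
  · right
    apply Subrepresentation.toSubmodule_injective
    exact Submodule.eq_of_le_of_finrank_le h₂ (by omega)
  exfalso
  apply hG
  apply solvable_of_affine G (coord (K := K) e) (coord_inj e)
  intro g
  by_cases hsmall : 2 * r ≤ p + 1
  · exact core hα G σ e he W (by omega) hsmall g
  · -- pass to the orthogonal complement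
    let B : LinearMap.BilinForm K (α → K) := Matrix.toBilin' (1 : Matrix α α K)
    have hB : ∀ v w : α → K, B v w = ∑ x, v x * w x := by
      intro v w
      show Matrix.toBilin' (1 : Matrix α α K) v w = _
      rw [Matrix.toBilin'_apply']
      simp [dotProduct]
    have hBnd : B.Nondegenerate :=
      LinearMap.BilinForm.nondegenerate_toBilin'_of_det_ne_zero' (1 : Matrix α α K) (by simp)
    let U : Subrepresentation (Cfsg.permRep K G α) :=
      { toSubmodule := B.orthogonal W.toSubmodule
        apply_mem_toSubmodule := by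
          intro k c hc
          rw [LinearMap.BilinForm.mem_orthogonal_iff] at hc ⊢
          intro u hu
          rw [hB]
          have h1 : ∑ x, u x * (Cfsg.permRep K G α k c) x =
              ∑ y, (Cfsg.permRep K G α k⁻¹ u) y * c y := by
            apply Fintype.sum_equiv (MulAction.toPerm k⁻¹)
            intro x
            show u x * c (k⁻¹ • x) = u (k⁻¹⁻¹ • (k⁻¹ • x)) * c (k⁻¹ • x)
            rw [inv_inv, smul_inv_smul]
          rw [h1, ← hB]
          exact hc _ (W.apply_mem_toSubmodule k⁻¹ hu) }
    have hU : Module.finrank K U.toSubmodule = p - r := by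
      show Module.finrank K (B.orthogonal W.toSubmodule) = p - r
      rw [LinearMap.BilinForm.finrank_orthogonal hBnd, hV]
    exact core hα G σ e he U (by omega) (by omega) g

end Cfsg.Agent.S0674
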