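import Cfsg.Statements.S0675
import Mathlib
import Cfsg.Agent.S0671
import Cfsg.Agent.S0674

set_option autoImplicit false
open Cfsg

namespace Cfsg.Agent.S0675

set_option maxHeartbeats 1000000 in
/-- Burnside's Theorem on permutation groups of prime degree: a transitive permutation group of prime degree that is not solvable is doubly transitive. -/
theorem result {α : Type*} [Fintype α] [DecidableEq α] (hα : (Fintype.card α).Prime) (G : Subgroup (Equiv.Perm α)) [MulAction.IsPretransitive G α] : Group.IsSolvable G ∨ MulAction.IsMultiplyPretransitive G α 2 := by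
  classical
  by_cases hsolv : Group.IsSolvable G
  · exact Or.inl hsolv
  right
  obtain ⟨p, hp⟩ : ∃ p : ℕ, Fintype.card α = p := ⟨_, rfl⟩
  have hpp : p.Prime := hp ▸ hα
  haveI : Fact p.Prime := ⟨hpp⟩
  obtain ⟨σ, e, he⟩ := Cfsg.Agent.S0674.exists_coord hp G
  apply Cfsg.Agent.S0671.result (K := ZMod p) (p := p) (f := 1) le_rfl (by rw [pow_one]; exact hp)
  intro W W' hCW hWW' hW'S
  have hW : W = Cfsg.permConstants (ZMod p) G α := by
    rcases Cfsg.Agent.S0674.result hp G hsolv W hCW (hWW'.le.trans hW'S) with h | h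
    · exact h
    · exfalso
      rw [h] at hWW'
      exact absurd hW'S (not_le_of_gt hWW')
  have hW' : W' = Cfsg.permSumZero (ZMod p) G α := by
    rcases Cfsg.Agent.S0674.result hp G hsolv W' (hCW.trans hWW'.le) hW'S with h | h
    · exfalso
      rw [h] at hWW'
      exact absurd hCW (not_le_of_gt hWW')
    · exact h
  rw [hW, hW']
  by_contra hcon
  push Not at hcon
  apply hsolv
  apply Cfsg.Agent.S0674.solvable_of_affine G (Cfsg.Agent.S0674.coord (K := ZMod p) e)
    (Cfsg.Agent.S0674.coord_inj e)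
  intro g
  have hce : ∀ j : ZMod p, Cfsg.Agent.S0674.coord (K := ZMod p) e (e j) = j := by
    intro j
    show (ZMod.cast (e.symm (e j)) : ZMod p) = j
    rw [Equiv.symm_apply_apply, ZMod.cast_id]
  by_cases hp2 : p = 2
  · refine ⟨Cfsg.Agent.S0674.coord (K := ZMod p) e ((g : Equiv.Perm α) (e 1)) -
      Cfsg.Agent.S0674.coord (K := ZMod p) e ((g : Equiv.Perm α) (e 0)),
      Cfsg.Agent.S0674.coord (K := ZMod p) e ((g : Equiv.Perm α) (e 0)), fun x => ?_⟩
    obtain ⟨j, rfl⟩ := e.surjective x
    rw [hce]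
    haveI : NeZero p := ⟨hpp.pos.ne'⟩
    have hj : j = 0 ∨ j = 1 := by
      have h1 := ZMod.val_lt j
      have h2 := ZMod.natCast_zmod_val j
      have h3 : j.val = 0 ∨ j.val = 1 := by omega
      rcases h3 with h3 | h3
      · left
        rw [← h2, h3]
        simp
      · right
        rw [← h2, h3]
        simp
    rcases hj with rfl | rfl
    · ring
    · ring
  · have h2ne : (2 : ZMod p) ≠ 0 := by
      intro h
      have h' : ((2 : ℕ) : ZMod p) = 0 := by exact_mod_cast h
      rw [ZMod.natCast_eq_zero_iff] at h'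
      have := (Nat.prime_dvd_prime_iff_eq hpp Nat.prime_two).mp h'
      exact hp2 this
    have hsum0 : ∑ j : ZMod p, j = 0 := by
      have h1 : ∑ j : ZMod p, j = ∑ j : ZMod p, -j := (Equiv.sum_comp (Equiv.neg (ZMod p)) _).symm
      rw [Finset.sum_neg_distrib] at h1
      have h3 : (2 : ZMod p) * ∑ j : ZMod p, j = 0 := by
        have : (∑ j : ZMod p, j) + (∑ j : ZMod p, j) = 0 := by
          nth_rewrite 2 [h1]
          exact add_neg_cancel _
        rw [two_mul]
        exact this
      rcases mul_eq_zero.mp h3 with h | h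
      · exact absurd h h2ne
      · exact h
    have hc_mem : Cfsg.Agent.S0674.coord (K := ZMod p) e ∈
        (Cfsg.permSumZero (ZMod p) G α).toSubmodule := by
      show ∑ x, Cfsg.Agent.S0674.coord (K := ZMod p) e x = 0
      rw [← hsum0]
      rw [← Equiv.sum_comp e]
      apply Finset.sum_congr rfl
      intro j _
      exact hce j
    have h3 := hcon g⁻¹ _ hc_mem
    have h4 : ∃ t : ZMod p, t • (fun _ : α => (1 : ZMod p)) =
        Cfsg.permRep (ZMod p) G α g⁻¹ (Cfsg.Agent.S0674.coord (K := ZMod p) e) -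
          Cfsg.Agent.S0674.coord (K := ZMod p) e := Submodule.mem_span_singleton.mp h3
    obtain ⟨t, ht⟩ := h4
    refine ⟨1, t, fun x => ?_⟩
    have h5 := congrFun ht x
    have h6 : (Cfsg.permRep (ZMod p) G α g⁻¹ (Cfsg.Agent.S0674.coord (K := ZMod p) e)) x =
        Cfsg.Agent.S0674.coord (K := ZMod p) e ((g : Equiv.Perm α) x) := by
      show Cfsg.Agent.S0674.coord (K := ZMod p) e ((g⁻¹ : G)⁻¹ • x) = _
      rw [inv_inv]
      rfl
    simp only [Pi.smul_apply, Pi.sub_apply, smul_eq_mul, mul_one] at h5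
    rw [h6] at h5
    rw [one_mul, h5]
    ring

end Cfsg.Agent.S0675
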