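import Cfsg.Statements.S4706
import Cfsg.Agent.S0675
import Cfsg.Agent.Lib.Helper23.PrimeDeg2

set_option autoImplicit false
open Cfsg

namespace Cfsg.Agent.S4706

/-- Let p > 2 be a prime and G a permutation group on p letters whose Sylow p-subgroup P has normalizer of order 2p. Then either P is normal in G, or p − 1 = 2^a for some a and G is isomorphic to SL(2, 2^a). -/
theorem result {α : Type*} [Fintype α] [DecidableEq α] {p : ℕ} [Fact p.Prime] (hp : 2 < p) (hα : Fintype.card α = p) (G : Subgroup (Equiv.Perm α)) (P : Sylow p G) (hN : Nat.card (Subgroup.normalizer ((P : Subgroup G) : Set G)) = 2 * p) : (P : Subgroup G).Normal ∨ ∃ (a : ℕ) (F : Type) (_ : Field F) (_ : Fintype F), p = 2 ^ a + 1 ∧ Fintype.card F = 2 ^ a ∧ Nonempty (G ≃* Matrix.SpecialLinearGroup (Fin 2) F) := by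
  by_cases hnorm : (P : Subgroup G).Normal
  · exact Or.inl hnorm
  right
  have hαn : Nat.card α = p := by rw [Nat.card_eq_fintype_card]; exact hα
  obtain ⟨htrans, hns⟩ := Cfsg.Agent.Lib.Helper23.prime_degree_two_facts hp hαn P hN hnorm
  have hprime : (Fintype.card α).Prime := by rw [hα]; exact Fact.out
  have h2 : MulAction.IsMultiplyPretransitive G α 2 := by
    rcases Cfsg.Agent.S0675.result hprime G with h | h
    · exact absurd h hns
    · exact h
  exact Cfsg.Agent.Lib.Helper23.prime_degree_two_sl2 hp hαn h2 P hN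

end Cfsg.Agent.S4706
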