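import Cfsg.Statements.S0914
import Mathlib
import Cfsg.Agent.S0952
import Cfsg.Agent.Lib.Helper4.CharInt
import Cfsg.Agent.Lib.Helper4.CharSimple

set_option autoImplicit false
open Cfsg
open scoped ComplexConjugate

namespace Cfsg.Agent.S0914

open Cfsg.Agent.Lib.Helper4 Cfsg.Agent.Lib.Helper21 Cfsg.Agent.Lib.Helper22

/-- In a one-element block the character vanishes on p-singular elements. -/
theorem vanish_of_block_singleton {G : Type*} [Group G] [Fintype G] {p : ℕ} {M : Ideal AlgInt}
    (hM : IsPModular p M) (χ : IrrCharacter G) (hχ : blockOf M (χ : G → ℂ) = {χ}) (y : G)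
    (hy : p ∣ orderOf y) : (χ : G → ℂ) y = 0 := by
  have hp := pmod_prime hM
  have hB : IsPBlock M ({χ} : Set (IrrCharacter G)) := ⟨χ, hχ.symm⟩
  have h1 := weak_block_orth hM _ hB 1 y (by rw [orderOf_one]; exact hp.not_dvd_one) hy
  rw [finsum_mem_singleton] at h1
  rcases mul_eq_zero.mp h1 with h | h
  · exact absurd h (irr_one_ne_zero χ)
  · simpa using h

theorem result {G : Type*} [Group G] [Finite G] (p : ℕ) [Fact p.Prime] (M : Ideal Cfsg.AlgInt) (hM : Cfsg.IsPModular p M) (χ : Cfsg.IrrCharacter G) : ¬ p ∣ Nat.card G / Cfsg.charDegree (χ : G → ℂ) ↔ Cfsg.blockOf M (χ : G → ℂ) = {χ} := by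
  classical
  have := Fintype.ofFinite G
  have hp := pmod_prime hM
  have hG : (Nat.card G : ℂ) ≠ 0 := card_ne_zero G
  -- the degree
  obtain ⟨n, ρ, hρ, hρχ⟩ := χ.2
  have hirr := hρ
  have hfin : Module.finrank ℂ (Fin n → ℂ) = n := by simp
  have hχ1 : (χ : G → ℂ) 1 = (n : ℂ) := by
    rw [← hρχ, Representation.char_one, hfin]
  have hdeg : charDegree (χ : G → ℂ) = n := by
    unfold charDegree
    rw [hχ1]
    simp
  have hnpos : 0 < n := by
    have := finrank_pos_of_irreducible ρ
    rwa [hfin] at this
  have hndvd : n ∣ Nat.card G := by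
    have := finrank_dvd_card ρ
    rwa [hfin] at this
  obtain ⟨k, hk⟩ := hndvd
  have hdiv : Nat.card G / n = k := by
    rw [hk, Nat.mul_div_cancel_left _ hnpos]
  rw [hdeg, hdiv]
  constructor
  · intro hpk
    ext ψ
    simp only [Set.mem_singleton_iff]
    constructor
    · intro hψ
      by_contra hne
      have hsb : SameBlock M (χ : G → ℂ) (ψ : G → ℂ) := hψ
      set a : G → ℂ := blockCoeff ({χ} : Set (IrrCharacter G)) with ha
      have hla : ∀ g, MemLocalRing M (a g) := by
        intro g
        have e : a g = (k : ℂ)⁻¹ * conj ((χ : G → ℂ) g) := by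
          rw [ha]
          unfold blockCoeff
          rw [finsum_mem_singleton, hχ1, hk]
          have hn0 : (n : ℂ) ≠ 0 := by exact_mod_cast hnpos.ne'
          have hk0 : (k : ℂ) ≠ 0 := by
            intro h0
            apply hG
            rw [hk]
            push_cast
            rw [h0, mul_zero]
          push_cast
          field_simp
        rw [e]
        refine locRing_mul hM (locRing_inv_natCast hM hpk) ?_
        rw [← irr_inv χ g]
        exact locRing_of_isIntegral hM (irr_isIntegral χ g⁻¹)
      have h1 := omega_sub_locIdeal hM a (blockCoeff_isClassFunction _) hla χ ψ hsb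
      rw [ha, omega_blockCoeff, omega_blockCoeff, if_pos (Set.mem_singleton χ),
        if_neg (by simpa using hne), sub_zero] at h1
      exact locIdeal_one_not hM h1
    · rintro rfl
      exact Cfsg.Agent.S0952.sameBlock_refl hM _
  · intro hB hpk
    obtain ⟨P⟩ : Nonempty (Sylow p G) := inferInstance
    have hvan := vanish_of_block_singleton hM χ hB
    let ρP : Representation ℂ (P : Subgroup G) (Fin n → ℂ) := ρ.comp (P : Subgroup G).subtype
    have hPne : (Nat.card (P : Subgroup G) : ℂ) ≠ 0 := card_ne_zero _
    have : Invertible (Nat.card (P : Subgroup G) : ℂ) := invertibleOfNonzero hPne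
    have h1 := Representation.card_inv_mul_sum_char_eq_finrank ρP
    have h2 : ∑ g : (P : Subgroup G), ρP.character g = (n : ℂ) := by
      rw [Finset.sum_eq_single (1 : (P : Subgroup G))]
      · rw [Representation.char_one, hfin]
      · intro h _ hne
        have hh : ρP.character h = (χ : G → ℂ) (h : G) := by
          rw [← hρχ]
          rfl
        rw [hh]
        apply hvan
        obtain ⟨j, hj⟩ := (IsPGroup.iff_orderOf.mp P.isPGroup') h
        rw [Subgroup.orderOf_coe, hj]
        have hj0 : j ≠ 0 := by
          rintro rfl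
          rw [pow_zero, orderOf_eq_one_iff] at hj
          exact hne hj
        exact dvd_pow_self p hj0
      · intro h
        exact absurd (Finset.mem_univ _) h
    rw [h2] at h1
    have h3 : (n : ℂ) = ((Nat.card (P : Subgroup G) *
        Module.finrank ℂ (Representation.invariants ρP) : ℕ) : ℂ) := by
      push_cast
      rw [← h1]
      field_simp
    have h4 : n = Nat.card (P : Subgroup G) * Module.finrank ℂ (Representation.invariants ρP) :=
      Nat.cast_injective h3
    rw [P.card_eq_multiplicity] at h4
    obtain ⟨k', rfl⟩ := hpk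
    have h5 : p ^ ((Nat.card G).factorization p + 1) ∣ Nat.card G := by
      generalize (Nat.card G).factorization p = v at h4 ⊢
      generalize Module.finrank ℂ (Representation.invariants ρP) = m at h4
      rw [hk, pow_succ]
      exact ⟨m * k', by rw [h4]; ring⟩
    exact Nat.pow_succ_factorization_not_dvd Nat.card_pos.ne' hp h5

end Cfsg.Agent.S0914
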