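import Cfsg.Statements.S0165
import Mathlib
import Cfsg.Agent.S0914
import Cfsg.Agent.Lib.Helper82.PQ
import Cfsg.Agent.Lib.Helper4.CharCore
import Cfsg.Agent.Lib.Helper4.CharInt
import Cfsg.Agent.Lib.Helper22.Defect

set_option autoImplicit false
open Cfsg

namespace Cfsg.Agent.S0165

open Cfsg.Agent.Lib.Helper4 Cfsg.Agent.Lib.Helper22

theorem result {G : Type*} [Group G] [Finite G] {V : Type*} [AddCommGroup V] [Module ℂ V] [FiniteDimensional ℂ V] (ρ : Representation ℂ G V) [ρ.IsIrreducible] (p n : ℕ) (hp : p.Prime) (hn : p ^ n ∣ Nat.card G) (hn' : ¬ p ^ (n + 1) ∣ Nat.card G) (hdeg : p ^ n ∣ Module.finrank ℂ V) (x : G) (hx : p ∣ orderOf x) : ρ.character x = 0 := by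
  classical
  have := Fintype.ofFinite G
  have : Fact p.Prime := ⟨hp⟩
  obtain ⟨M, hM⟩ := Cfsg.Agent.Lib.Helper82.exists_isPModular p
  set χ : IrrCharacter G := ⟨ρ.character, isIrrCharacter_of_irreducible ρ⟩ with hχ
  have h1 : (χ : G → ℂ) 1 = (Module.finrank ℂ V : ℂ) := Representation.char_one ρ
  have hcd : charDegree (χ : G → ℂ) = Module.finrank ℂ V := charDegree_eq_of_one_eq _ _ h1
  have hdvd : Module.finrank ℂ V ∣ Nat.card G := finrank_dvd_card ρ
  have hnd : ¬ p ∣ Nat.card G / charDegree (χ : G → ℂ) := by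
    rw [hcd]
    intro hp'
    apply hn'
    obtain ⟨q, hq⟩ := hdvd
    have hpos : 0 < Module.finrank ℂ V := by
      rcases Nat.eq_zero_or_pos (Module.finrank ℂ V) with h0 | h0
      · rw [h0, zero_mul] at hq
        exact absurd hq Nat.card_pos.ne'
      · exact h0
    rw [hq, Nat.mul_div_cancel_left _ hpos] at hp'
    obtain ⟨a, ha⟩ := hdeg
    obtain ⟨b, hb⟩ := hp'
    rw [hq, ha, hb, pow_succ]
    exact ⟨a * b, by ring⟩
  have hB := (Cfsg.Agent.S0914.result p M hM χ).mp hnd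
  exact Cfsg.Agent.S0914.vanish_of_block_singleton hM χ hB x hx

end Cfsg.Agent.S0165
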