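import Mathlib
import Cfsg.Statements.S0493
import Cfsg.Agent.Lib.Helper23.Pqr
import Cfsg.Agent.Lib.Helper23.P2qr

set_option autoImplicit false
open Cfsg

namespace Cfsg.Agent.S0493

open Cfsg.Agent.Lib.Helper23

theorem small_cases (n : ℕ) (h0 : 0 < n) (hn : n ≤ 100) :
    (∃ p q a b : ℕ, p.Prime ∧ q.Prime ∧ n = p ^ a * q ^ b) ∨
    (∃ p q r : ℕ, p.Prime ∧ q.Prime ∧ r.Prime ∧ p < q ∧ q < r ∧ n = p * q * r) ∨
    (∃ p q r : ℕ, p.Prime ∧ q.Prime ∧ r.Prime ∧ n = p ^ 2 * q * r) := by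
  interval_cases n
  · exact Or.inl ⟨2, 3, 0, 0, by norm_num, by norm_num, by norm_num⟩
  · exact Or.inl ⟨2, 2, 1, 0, by norm_num, by norm_num, by norm_num⟩
  · exact Or.inl ⟨3, 3, 1, 0, by norm_num, by norm_num, by norm_num⟩
  · exact Or.inl ⟨2, 2, 2, 0, by norm_num, by norm_num, by norm_num⟩
  · exact Or.inl ⟨5, 5, 1, 0, by norm_num, by norm_num, by norm_num⟩
  · exact Or.inl ⟨2, 3, 1, 1, by norm_num, by norm_num, by norm_num⟩
  · exact Or.inl ⟨7, 7, 1, 0, by norm_num, by norm_num, by norm_num⟩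
  · exact Or.inl ⟨2, 2, 3, 0, by norm_num, by norm_num, by norm_num⟩
  · exact Or.inl ⟨3, 3, 2, 0, by norm_num, by norm_num, by norm_num⟩
  · exact Or.inl ⟨2, 5, 1, 1, by norm_num, by norm_num, by norm_num⟩
  · exact Or.inl ⟨11, 11, 1, 0, by norm_num, by norm_num, by norm_num⟩
  · exact Or.inl ⟨2, 3, 2, 1, by norm_num, by norm_num, by norm_num⟩
  · exact Or.inl ⟨13, 13, 1, 0, by norm_num, by norm_num, by norm_num⟩
  · exact Or.inl ⟨2, 7, 1, 1, by norm_num, by norm_num, by norm_num⟩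
  · exact Or.inl ⟨3, 5, 1, 1, by norm_num, by norm_num, by norm_num⟩
  · exact Or.inl ⟨2, 2, 4, 0, by norm_num, by norm_num, by norm_num⟩
  · exact Or.inl ⟨17, 17, 1, 0, by norm_num, by norm_num, by norm_num⟩
  · exact Or.inl ⟨2, 3, 1, 2, by norm_num, by norm_num, by norm_num⟩
  · exact Or.inl ⟨19, 19, 1, 0, by norm_num, by norm_num, by norm_num⟩
  · exact Or.inl ⟨2, 5, 2, 1, by norm_num, by norm_num, by norm_num⟩
  · exact Or.inl ⟨3, 7, 1, 1, by norm_num, by norm_num, by norm_num⟩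
  · exact Or.inl ⟨2, 11, 1, 1, by norm_num, by norm_num, by norm_num⟩
  · exact Or.inl ⟨23, 23, 1, 0, by norm_num, by norm_num, by norm_num⟩
  · exact Or.inl ⟨2, 3, 3, 1, by norm_num, by norm_num, by norm_num⟩
  · exact Or.inl ⟨5, 5, 2, 0, by norm_num, by norm_num, by norm_num⟩
  · exact Or.inl ⟨2, 13, 1, 1, by norm_num, by norm_num, by norm_num⟩
  · exact Or.inl ⟨3, 3, 3, 0, by norm_num, by norm_num, by norm_num⟩
  · exact Or.inl ⟨2, 7, 2, 1, by norm_num, by norm_num, by norm_num⟩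
  · exact Or.inl ⟨29, 29, 1, 0, by norm_num, by norm_num, by norm_num⟩
  · exact Or.inr (Or.inl ⟨2, 3, 5, by norm_num, by norm_num, by norm_num, by norm_num, by norm_num, by norm_num⟩)
  · exact Or.inl ⟨31, 31, 1, 0, by norm_num, by norm_num, by norm_num⟩
  · exact Or.inl ⟨2, 2, 5, 0, by norm_num, by norm_num, by norm_num⟩
  · exact Or.inl ⟨3, 11, 1, 1, by norm_num, by norm_num, by norm_num⟩
  · exact Or.inl ⟨2, 17, 1, 1, by norm_num, by norm_num, by norm_num⟩
  · exact Or.inl ⟨5, 7, 1, 1, by norm_num, by norm_num, by norm_num⟩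
  · exact Or.inl ⟨2, 3, 2, 2, by norm_num, by norm_num, by norm_num⟩
  · exact Or.inl ⟨37, 37, 1, 0, by norm_num, by norm_num, by norm_num⟩
  · exact Or.inl ⟨2, 19, 1, 1, by norm_num, by norm_num, by norm_num⟩
  · exact Or.inl ⟨3, 13, 1, 1, by norm_num, by norm_num, by norm_num⟩
  · exact Or.inl ⟨2, 5, 3, 1, by norm_num, by norm_num, by norm_num⟩
  · exact Or.inl ⟨41, 41, 1, 0, by norm_num, by norm_num, by norm_num⟩
  · exact Or.inr (Or.inl ⟨2, 3, 7, by norm_num, by norm_num, by norm_num, by norm_num, by norm_num, by norm_num⟩)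
  · exact Or.inl ⟨43, 43, 1, 0, by norm_num, by norm_num, by norm_num⟩
  · exact Or.inl ⟨2, 11, 2, 1, by norm_num, by norm_num, by norm_num⟩
  · exact Or.inl ⟨3, 5, 2, 1, by norm_num, by norm_num, by norm_num⟩
  · exact Or.inl ⟨2, 23, 1, 1, by norm_num, by norm_num, by norm_num⟩
  · exact Or.inl ⟨47, 47, 1, 0, by norm_num, by norm_num, by norm_num⟩
  · exact Or.inl ⟨2, 3, 4, 1, by norm_num, by norm_num, by norm_num⟩
  · exact Or.inl ⟨7, 7, 2, 0, by norm_num, by norm_num, by norm_num⟩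
  · exact Or.inl ⟨2, 5, 1, 2, by norm_num, by norm_num, by norm_num⟩
  · exact Or.inl ⟨3, 17, 1, 1, by norm_num, by norm_num, by norm_num⟩
  · exact Or.inl ⟨2, 13, 2, 1, by norm_num, by norm_num, by norm_num⟩
  · exact Or.inl ⟨53, 53, 1, 0, by norm_num, by norm_num, by norm_num⟩
  · exact Or.inl ⟨2, 3, 1, 3, by norm_num, by norm_num, by norm_num⟩
  · exact Or.inl ⟨5, 11, 1, 1, by norm_num, by norm_num, by norm_num⟩
  · exact Or.inl ⟨2, 7, 3, 1, by norm_num, by norm_num, by norm_num⟩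
  · exact Or.inl ⟨3, 19, 1, 1, by norm_num, by norm_num, by norm_num⟩
  · exact Or.inl ⟨2, 29, 1, 1, by norm_num, by norm_num, by norm_num⟩
  · exact Or.inl ⟨59, 59, 1, 0, by norm_num, by norm_num, by norm_num⟩
  · exact Or.inr (Or.inr ⟨2, 3, 5, by norm_num, by norm_num, by norm_num, by norm_num⟩)
  · exact Or.inl ⟨61, 61, 1, 0, by norm_num, by norm_num, by norm_num⟩
  · exact Or.inl ⟨2, 31, 1, 1, by norm_num, by norm_num, by norm_num⟩
  · exact Or.inl ⟨3, 7, 2, 1, by norm_num, by norm_num, by norm_num⟩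
  · exact Or.inl ⟨2, 2, 6, 0, by norm_num, by norm_num, by norm_num⟩
  · exact Or.inl ⟨5, 13, 1, 1, by norm_num, by norm_num, by norm_num⟩
  · exact Or.inr (Or.inl ⟨2, 3, 11, by norm_num, by norm_num, by norm_num, by norm_num, by norm_num, by norm_num⟩)
  · exact Or.inl ⟨67, 67, 1, 0, by norm_num, by norm_num, by norm_num⟩
  · exact Or.inl ⟨2, 17, 2, 1, by norm_num, by norm_num, by norm_num⟩
  · exact Or.inl ⟨3, 23, 1, 1, by norm_num, by norm_num, by norm_num⟩
  · exact Or.inr (Or.inl ⟨2, 5, 7, by norm_num, by norm_num, by norm_num, by norm_num, by norm_num, by norm_num⟩)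
  · exact Or.inl ⟨71, 71, 1, 0, by norm_num, by norm_num, by norm_num⟩
  · exact Or.inl ⟨2, 3, 3, 2, by norm_num, by norm_num, by norm_num⟩
  · exact Or.inl ⟨73, 73, 1, 0, by norm_num, by norm_num, by norm_num⟩
  · exact Or.inl ⟨2, 37, 1, 1, by norm_num, by norm_num, by norm_num⟩
  · exact Or.inl ⟨3, 5, 1, 2, by norm_num, by norm_num, by norm_num⟩
  · exact Or.inl ⟨2, 19, 2, 1, by norm_num, by norm_num, by norm_num⟩
  · exact Or.inl ⟨7, 11, 1, 1, by norm_num, by norm_num, by norm_num⟩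
  · exact Or.inr (Or.inl ⟨2, 3, 13, by norm_num, by norm_num, by norm_num, by norm_num, by norm_num, by norm_num⟩)
  · exact Or.inl ⟨79, 79, 1, 0, by norm_num, by norm_num, by norm_num⟩
  · exact Or.inl ⟨2, 5, 4, 1, by norm_num, by norm_num, by norm_num⟩
  · exact Or.inl ⟨3, 3, 4, 0, by norm_num, by norm_num, by norm_num⟩
  · exact Or.inl ⟨2, 41, 1, 1, by norm_num, by norm_num, by norm_num⟩
  · exact Or.inl ⟨83, 83, 1, 0, by norm_num, by norm_num, by norm_num⟩
  · exact Or.inr (Or.inr ⟨2, 3, 7, by norm_num, by norm_num, by norm_num, by norm_num⟩)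
  · exact Or.inl ⟨5, 17, 1, 1, by norm_num, by norm_num, by norm_num⟩
  · exact Or.inl ⟨2, 43, 1, 1, by norm_num, by norm_num, by norm_num⟩
  · exact Or.inl ⟨3, 29, 1, 1, by norm_num, by norm_num, by norm_num⟩
  · exact Or.inl ⟨2, 11, 3, 1, by norm_num, by norm_num, by norm_num⟩
  · exact Or.inl ⟨89, 89, 1, 0, by norm_num, by norm_num, by norm_num⟩
  · exact Or.inr (Or.inr ⟨3, 2, 5, by norm_num, by norm_num, by norm_num, by norm_num⟩)
  · exact Or.inl ⟨7, 13, 1, 1, by norm_num, by norm_num, by norm_num⟩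
  · exact Or.inl ⟨2, 23, 2, 1, by norm_num, by norm_num, by norm_num⟩
  · exact Or.inl ⟨3, 31, 1, 1, by norm_num, by norm_num, by norm_num⟩
  · exact Or.inl ⟨2, 47, 1, 1, by norm_num, by norm_num, by norm_num⟩
  · exact Or.inl ⟨5, 19, 1, 1, by norm_num, by norm_num, by norm_num⟩
  · exact Or.inl ⟨2, 3, 5, 1, by norm_num, by norm_num, by norm_num⟩
  · exact Or.inl ⟨97, 97, 1, 0, by norm_num, by norm_num, by norm_num⟩
  · exact Or.inl ⟨2, 7, 1, 2, by norm_num, by norm_num, by norm_num⟩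
  · exact Or.inl ⟨3, 11, 2, 1, by norm_num, by norm_num, by norm_num⟩
  · exact Or.inl ⟨2, 5, 2, 2, by norm_num, by norm_num, by norm_num⟩

/-- A finite simple group of order at most 100 that is not cyclic has order 60. -/
theorem result {G : Type*} [Group G] [Finite G] [IsSimpleGroup G]
    (hG : ¬ IsCyclic G) (h : Nat.card G ≤ 100) : Nat.card G = 60 := by
  have hG' : ¬ IsMulCommutative G := by
    intro hc
    let _ : CommGroup G := { ‹Group G› with mul_comm := hc.is_comm.comm }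
    exact hG IsSimpleGroup.isCyclic
  rcases small_cases (Nat.card G) Nat.card_pos h with
    ⟨p, q, a, b, hp, hq, hn⟩ | ⟨p, q, r, hp, hq, hr, hpq, hqr, hn⟩ | ⟨p, q, r, hp, hq, hr, hn⟩
  · exact (simple_not_two_primes hG' p q a b hp hq hn).elim
  · exfalso
    have : Fact r.Prime := ⟨hr⟩
    obtain ⟨R⟩ : Nonempty (Sylow r G) := inferInstance
    have hnorm := sylow_normal_of_card_pqr p q r hp hq hpq hqr hn R
    have h1 : Nat.card G = r ^ 1 * (p * q) := by rw [hn]; ring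
    have hm : ¬ r ∣ p * q := by
      rw [Nat.Prime.dvd_mul hr]
      rintro (hd | hd)
      · have := Nat.le_of_dvd hp.pos hd
        omega
      · have := Nat.le_of_dvd hq.pos hd
        omega
    have hm1 : p * q ≠ 1 := by
      have := hp.two_le
      have := hq.two_le
      nlinarith
    exact simple_sylow_normal_false h1 hm one_ne_zero hm1 R hnorm
  · exact simple_p2qr p q r hp hq hr hn

end Cfsg.Agent.S0493
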