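import Cfsg.Statements.S0367
import Cfsg.Agent.Lib.Helper9.M24Trans

set_option autoImplicit false
open Cfsg
open scoped Pointwise

namespace Cfsg.Agent.S0367

open Cfsg.Agent.Lib.Helper9 in
/-- The permutation group preserving the length-24 code is transitive on octads. -/
theorem result (o o' : Finset Cfsg.GolayPt) (ho : o ∈ Cfsg.octads) (ho' : o' ∈ Cfsg.octads) : ∃ g : Cfsg.M24, g • o = o' := by
  have hemb : ∀ b : Finset GolayPt, b ∈ octads → ∃ x : Fin 5 ↪ GolayPt, ∀ i, x i ∈ b := by
    intro b hb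
    have hc : Fintype.card (Fin 5) ≤ Fintype.card b := by
      rw [Fintype.card_fin, Fintype.card_coe, card_octad hb]
      norm_num
    obtain ⟨e⟩ := Function.Embedding.nonempty_of_card_le hc
    exact ⟨e.trans (Function.Embedding.subtype _), fun i => (e i).2⟩
  obtain ⟨x, hx⟩ := hemb o ho
  obtain ⟨y, hy⟩ := hemb o' ho'
  obtain ⟨g, hg⟩ := (MulAction.isMultiplyPretransitive_iff.mp m24_five_transitive) x y
  refine ⟨g, ?_⟩
  have hgo : (g : Equiv.Perm GolayPt) • o ∈ octads := smul_octad_mem g.2 ho
  apply octad_eq_of_inter hgo ho'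
  have hsub : Finset.univ.map y ⊆ ((g : Equiv.Perm GolayPt) • o) ∩ o' := by
    intro q hq
    rw [Finset.mem_map] at hq
    obtain ⟨i, _, rfl⟩ := hq
    rw [Finset.mem_inter]
    refine ⟨?_, hy i⟩
    have h1 : (g • x) i = y i := by rw [hg]
    rw [Function.Embedding.smul_apply] at h1
    rw [← h1]
    exact Finset.smul_mem_smul_finset (hx i)
  have := Finset.card_le_card hsub
  rwa [Finset.card_map, Finset.card_univ, Fintype.card_fin] at this

end Cfsg.Agent.S0367
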