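import Cfsg.Statements.S0363
import Cfsg.Agent.Lib.Helper9.Golay
import Cfsg.Agent.Lib.Helper9.Steiner

set_option autoImplicit false
open Cfsg

namespace Cfsg.Agent.S0363

open Finset Cfsg.Agent.Lib.Helper9 in
/-- The octads of the length-24 code form a Steiner system S(5, 8, 24) on the 24 points. -/
theorem result : Cfsg.IsSteinerSystem 5 8 Cfsg.octads := by
  classical
  refine ⟨fun b hb => card_octad hb, ?_⟩
  have hO : (blocksFin octads).card = 759 := by
    rw [← ncard_eq_card_blocksFin]; exact ncard_octads
  have hdisj : ∀ b ∈ blocksFin octads, ∀ b' ∈ blocksFin octads, b ≠ b' →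
      Disjoint (powersetCard 5 b) (powersetCard 5 b') := by
    intro b hb b' hb' hne
    rw [mem_blocksFin] at hb hb'
    rw [disjoint_left]
    intro s hs hs'
    rw [mem_powersetCard] at hs hs'
    apply hne
    apply octad_eq_of_inter hb hb'
    rw [← hs.2]
    exact card_le_card (subset_inter hs.1 hs'.1)
  have hcard : ((blocksFin octads).biUnion (fun b => powersetCard 5 b)).card = 42504 := by
    rw [card_biUnion hdisj]
    have : ∀ b ∈ blocksFin octads, (powersetCard 5 b).card = 56 := by
      intro b hb
      rw [mem_blocksFin] at hb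
      rw [card_powersetCard, card_octad hb]
      rfl
    rw [sum_congr rfl this, sum_const, hO]
    rfl
  have hsub : (blocksFin octads).biUnion (fun b => powersetCard 5 b) ⊆
      powersetCard 5 (univ : Finset GolayPt) := by
    intro s hs
    rw [mem_biUnion] at hs
    obtain ⟨b, _, hs⟩ := hs
    rw [mem_powersetCard] at hs ⊢
    exact ⟨subset_univ _, hs.2⟩
  have hpt : Fintype.card GolayPt = 24 := by
    rw [Fintype.card_option, ZMod.card]
  have heq := eq_of_subset_of_card_le hsub (by
    rw [hcard, card_powersetCard, card_univ, hpt]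
    decide)
  intro s hs
  have hsU : s ∈ (blocksFin octads).biUnion (fun b => powersetCard 5 b) := by
    rw [heq, mem_powersetCard]
    exact ⟨subset_univ _, hs⟩
  rw [mem_biUnion] at hsU
  obtain ⟨b, hb, hsb⟩ := hsU
  rw [mem_blocksFin] at hb
  rw [mem_powersetCard] at hsb
  refine ⟨b, ⟨hb, hsb.1⟩, ?_⟩
  rintro c ⟨hc, hsc⟩
  apply octad_eq_of_inter hc hb
  rw [← hs]
  exact card_le_card (subset_inter hsc hsb.1)

end Cfsg.Agent.S0363
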