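import Cfsg.Statements.S1555
import Cfsg.Agent.S0363
import Cfsg.Agent.Lib.Helper9.Golay
import Cfsg.Agent.Lib.Helper9.Steiner5824

set_option autoImplicit false
open scoped Pointwise
open Cfsg

namespace Cfsg.Agent.S1555

open Finset Cfsg.Agent.Lib.Helper9

theorem card_pt : Fintype.card Cfsg.GolayPt = 24 := by
  simp [ZMod.card]

theorem hS : Cfsg.IsSteinerSystem 5 8 Cfsg.octads := Cfsg.Agent.S0363.result

/-- Octads meeting `o` exactly in a given 4-subset: 4 of them. -/
theorem card_meet_four {o : Finset Cfsg.GolayPt} (ho : o ∈ Cfsg.octads) {u : Finset Cfsg.GolayPt}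
    (hu : u ⊆ o) (h4 : u.card = 4) :
    ((blocksFin Cfsg.octads).filter (fun o' => o ∩ o' = u)).card = 4 := by
  have h1 := card_blocks_through hS u (by rw [h4]; norm_num)
  rw [h4, card_pt] at h1
  norm_num [Nat.choose] at h1
  have h5 : ((blocksFin Cfsg.octads).filter (fun c => u ⊆ c)).card = 5 := by omega
  have heq : (blocksFin Cfsg.octads).filter (fun o' => o ∩ o' = u)
      = ((blocksFin Cfsg.octads).filter (fun c => u ⊆ c)).erase o := by
    ext c
    simp only [mem_filter, mem_blocksFin, mem_erase]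
    constructor
    · rintro ⟨hc, hcu⟩
      refine ⟨?_, hc, ?_⟩
      · rintro rfl
        rw [inter_self] at hcu
        rw [← hcu, ho.2] at h4
        norm_num at h4
      · rw [← hcu]; exact inter_subset_right
    · rintro ⟨hne, hc, huc⟩
      refine ⟨hc, ?_⟩
      have hsub : u ⊆ o ∩ c := subset_inter hu huc
      have hcard := inter_card_5_8_24 card_pt hS ho hc (Ne.symm hne)
      refine (eq_of_subset_of_card_le hsub ?_).symm
      rw [h4]
      omega
  rw [heq, card_erase_of_mem, h5]
  simp only [mem_filter, mem_blocksFin]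
  exact ⟨ho, hu⟩

/-- Octads meeting `o` exactly in a given 2-subset: 16 of them. -/
theorem card_meet_two {o : Finset Cfsg.GolayPt} (ho : o ∈ Cfsg.octads) {s : Finset Cfsg.GolayPt}
    (hs : s ⊆ o) (h2 : s.card = 2) :
    ((blocksFin Cfsg.octads).filter (fun o' => o ∩ o' = s)).card = 16 := by
  have h1 := card_blocks_through hS s (by rw [h2]; norm_num)
  rw [h2, card_pt] at h1
  norm_num [Nat.choose] at h1
  have h77 : ((blocksFin Cfsg.octads).filter (fun c => s ⊆ c)).card = 77 := by omega
  -- the 4-subsets of o containing s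
  obtain ⟨U, hU⟩ : ∃ U : Finset (Finset Cfsg.GolayPt), U = (powersetCard 4 o).filter (fun T => s ⊆ T) :=
    ⟨_, rfl⟩
  have hUcard : U.card = 15 := by
    rw [hU, card_powersetCard_filter_superset s o hs 4 (by rw [h2]; norm_num), ho.2, h2]
    rfl
  have hmemU : ∀ u, u ∈ U ↔ (u ⊆ o ∧ u.card = 4) ∧ s ⊆ u := by
    intro u
    rw [hU, mem_filter, mem_powersetCard]
  have hoU : o ∉ insert s U := by
    rw [mem_insert]
    rintro (h | h)
    · rw [← h, ho.2] at h2; norm_num at h2
    · have := ((hmemU o).mp h).1.2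
      rw [ho.2] at this; norm_num at this
  have hsU : s ∉ U := by
    intro h
    have := ((hmemU s).mp h).1.2
    rw [h2] at this; norm_num at this
  have hmaps : ∀ c ∈ (blocksFin Cfsg.octads).filter (fun c => s ⊆ c), o ∩ c ∈ insert o (insert s U) := by
    intro c hc
    rw [mem_filter, mem_blocksFin] at hc
    obtain ⟨hc, hsc⟩ := hc
    have hsub : s ⊆ o ∩ c := subset_inter hs hsc
    by_cases hoc : o = c
    · subst hoc
      rw [inter_self]
      exact mem_insert_self _ _
    · have hcard := inter_card_5_8_24 card_pt hS ho hc hoc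
      have hle := card_le_card hsub
      rw [h2] at hle
      rcases hcard with h | h | h
      · omega
      · have : s = o ∩ c := eq_of_subset_of_card_le hsub (by rw [h, h2])
        rw [← this]
        exact mem_insert_of_mem (mem_insert_self _ _)
      · refine mem_insert_of_mem (mem_insert_of_mem ?_)
        rw [hmemU]
        exact ⟨⟨inter_subset_left, h⟩, hsub⟩
  have key := card_eq_sum_card_fiberwise hmaps
  rw [sum_insert hoU, sum_insert hsU, h77] at key
  have hfo : (((blocksFin Cfsg.octads).filter (fun c => s ⊆ c)).filter (fun c => o ∩ c = o)).card = 1 := by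
    rw [card_eq_one]
    refine ⟨o, ?_⟩
    ext c
    simp only [mem_filter, mem_blocksFin, mem_singleton]
    constructor
    · rintro ⟨⟨hc, -⟩, hoc⟩
      have hsub : o ⊆ c := by rw [← hoc]; exact inter_subset_right
      exact (eq_of_subset_of_card_le hsub (by rw [ho.2, hc.2])).symm
    · rintro rfl
      exact ⟨⟨ho, hs⟩, inter_self _⟩
  have hfs : ((blocksFin Cfsg.octads).filter (fun c => s ⊆ c)).filter (fun c => o ∩ c = s)
      = (blocksFin Cfsg.octads).filter (fun o' => o ∩ o' = s) := by
    ext c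
    simp only [mem_filter, mem_blocksFin]
    constructor
    · rintro ⟨⟨hc, -⟩, hoc⟩
      exact ⟨hc, hoc⟩
    · rintro ⟨hc, hoc⟩
      exact ⟨⟨hc, by rw [← hoc]; exact inter_subset_right⟩, hoc⟩
  have hfu : ∀ u ∈ U, (((blocksFin Cfsg.octads).filter (fun c => s ⊆ c)).filter (fun c => o ∩ c = u)).card = 4 := by
    intro u hu
    rw [hmemU] at hu
    rw [← card_meet_four ho hu.1.1 hu.1.2]
    congr 1
    ext c
    simp only [mem_filter, mem_blocksFin]
    constructor
    · rintro ⟨⟨hc, -⟩, hoc⟩
      exact ⟨hc, hoc⟩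
    · rintro ⟨hc, hoc⟩
      exact ⟨⟨hc, hu.2.trans (by rw [← hoc]; exact inter_subset_right)⟩, hoc⟩
  rw [hfo, hfs, sum_congr rfl hfu, sum_const, hUcard, smul_eq_mul] at key
  omega

theorem set_eq (o s : Finset Cfsg.GolayPt) :
    {o' : Finset Cfsg.GolayPt | o' ∈ Cfsg.octads ∧ o ∩ o' = s}
      = ↑((blocksFin Cfsg.octads).filter (fun o' => o ∩ o' = s)) := by
  ext c
  simp [mem_blocksFin]

/-- Bottom row of the Leech triangle: an octad is met in a prescribed pair of its points by exactly 16 octads and in a prescribed 4-subset by exactly 4 octads. -/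
theorem result (o : Finset Cfsg.GolayPt) (ho : o ∈ Cfsg.octads) (s : Finset Cfsg.GolayPt) (hs : s ⊆ o) : (s.card = 2 → {o' : Finset Cfsg.GolayPt | o' ∈ Cfsg.octads ∧ o ∩ o' = s}.ncard = 16) ∧ (s.card = 4 → {o' : Finset Cfsg.GolayPt | o' ∈ Cfsg.octads ∧ o ∩ o' = s}.ncard = 4) := by
  rw [set_eq, Set.ncard_coe_finset]
  exact ⟨fun h2 => card_meet_two ho hs h2, fun h4 => card_meet_four ho hs h4⟩

end Cfsg.Agent.S1555
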