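import Cfsg.Statements.S1560
import Cfsg.Agent.Lib.Helper36.GolayComb

set_option autoImplicit false
open scoped Pointwise
open Cfsg

namespace Cfsg.Agent.S1560

open Finset Cfsg.Agent.Lib.Helper9 Cfsg.Agent.Lib.Helper10 Cfsg.Agent.Lib.Helper36

theorem inter_symmDiff (d x : Finset Cfsg.GolayPt) : d ∩ symmDiff d x = d \ x := by
  ext a
  simp only [mem_inter, mem_symmDiff, mem_sdiff]
  tauto

theorem inter_symmDiff_compl (d x : Finset Cfsg.GolayPt) : d ∩ (symmDiff d x)ᶜ = d ∩ x := by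
  ext a
  simp only [mem_inter, mem_symmDiff, mem_compl]
  tauto

theorem inter_cases {d d' : Finset Cfsg.GolayPt} (hd : d ∈ Cfsg.dodecads) (hd' : d' ∈ Cfsg.dodecads) :
    (d ∩ d').card = 0 ∨ (d ∩ d').card = 4 ∨ (d ∩ d').card = 6 ∨ (d ∩ d').card = 8 ∨
      (d ∩ d').card = 12 := by
  have h1 := gsup_card (symmDiff_mem_gsup hd.1 hd'.1)
  have h2 := card_symmDiff_add d d'
  rw [hd.2, hd'.2] at h2
  omega

theorem eq_of_inter_twelve {d d' : Finset Cfsg.GolayPt} (hd : d ∈ Cfsg.dodecads)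
    (hd' : d' ∈ Cfsg.dodecads) (h : (d ∩ d').card = 12) : d' = d := by
  have h1 : d ∩ d' = d := eq_of_subset_of_card_le inter_subset_left (by rw [h, hd.2])
  have h2 : d ∩ d' = d' := eq_of_subset_of_card_le inter_subset_right (by rw [h, hd'.2])
  rw [← h2, h1]

/-- dodecads meeting `d` in 8 points ↔ octads meeting `d` in 4 points. -/
theorem card_eight {d : Finset Cfsg.GolayPt} (hd : d ∈ Cfsg.dodecads) :
    ((blocksFin Cfsg.dodecads).filter (fun d' => (d ∩ d').card = 8)).card = 495 := by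
  rw [← (octads_meeting_dodecad hd).2.1]
  refine card_nbij' (fun x => symmDiff d x) (fun x => symmDiff d x) ?_ ?_ ?_ ?_
  · intro d' hd'
    rw [mem_coe, mem_filter, mem_blocksFin] at hd' ⊢
    beta_reduce
    obtain ⟨hd', h8⟩ := hd'
    have h2 := card_symmDiff_add d d'
    rw [hd.2, hd'.2, h8] at h2
    refine ⟨⟨symmDiff_mem_gsup hd.1 hd'.1, by omega⟩, ?_⟩
    rw [inter_symmDiff]
    have h3 := card_sdiff_add_card_inter d d'
    rw [hd.2, h8] at h3
    omega
  · intro o ho
    rw [mem_coe, mem_filter, mem_blocksFin] at ho ⊢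
    beta_reduce
    obtain ⟨ho, h4⟩ := ho
    have h2 := card_symmDiff_add d o
    rw [hd.2, ho.2, h4] at h2
    refine ⟨⟨symmDiff_mem_gsup hd.1 ho.1, by omega⟩, ?_⟩
    rw [inter_symmDiff]
    have h3 := card_sdiff_add_card_inter d o
    rw [hd.2, h4] at h3
    omega
  · intro d' _
    exact symmDiff_symmDiff_cancel_left d d'
  · intro o _
    exact symmDiff_symmDiff_cancel_left d o

/-- dodecads meeting `d` in 4 points ↔ octads meeting `d` in 4 points. -/
theorem card_four {d : Finset Cfsg.GolayPt} (hd : d ∈ Cfsg.dodecads) :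
    ((blocksFin Cfsg.dodecads).filter (fun d' => (d ∩ d').card = 4)).card = 495 := by
  rw [← (octads_meeting_dodecad hd).2.1]
  refine card_nbij' (fun x => (symmDiff d x)ᶜ) (fun x => symmDiff d xᶜ) ?_ ?_ ?_ ?_
  · intro d' hd'
    rw [mem_coe, mem_filter, mem_blocksFin] at hd' ⊢
    beta_reduce
    obtain ⟨hd', h4⟩ := hd'
    have h2 := card_symmDiff_add d d'
    rw [hd.2, hd'.2, h4] at h2
    refine ⟨⟨compl_mem_gsup (symmDiff_mem_gsup hd.1 hd'.1), ?_⟩, ?_⟩
    · rw [card_compl, golay_card_pt]; omega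
    · rw [inter_symmDiff_compl, h4]
  · intro o ho
    rw [mem_coe, mem_filter, mem_blocksFin] at ho ⊢
    beta_reduce
    obtain ⟨ho, h4⟩ := ho
    have hoc : oᶜ.card = 16 := by rw [card_compl, golay_card_pt, ho.2]
    have h5 : (d ∩ oᶜ).card = 8 := by
      have h3 := card_sdiff_add_card_inter d o
      rw [hd.2, h4] at h3
      have : d ∩ oᶜ = d \ o := by
        ext a; simp only [mem_inter, mem_compl, mem_sdiff]
      rw [this]; omega
    have h2 := card_symmDiff_add d oᶜ
    rw [hd.2, hoc, h5] at h2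
    refine ⟨⟨symmDiff_mem_gsup hd.1 (compl_mem_gsup ho.1), by omega⟩, ?_⟩
    rw [inter_symmDiff]
    have h3 := card_sdiff_add_card_inter d oᶜ
    rw [hd.2, h5] at h3
    omega
  · intro d' _
    show symmDiff d (symmDiff d d')ᶜᶜ = d'
    rw [compl_compl]
    exact symmDiff_symmDiff_cancel_left d d'
  · intro o _
    show (symmDiff d (symmDiff d oᶜ))ᶜ = o
    rw [symmDiff_symmDiff_cancel_left, compl_compl]

theorem card_zero {d : Finset Cfsg.GolayPt} (hd : d ∈ Cfsg.dodecads) :
    ((blocksFin Cfsg.dodecads).filter (fun d' => (d ∩ d').card = 0)).card = 1 := by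
  rw [card_eq_one]
  refine ⟨dᶜ, ?_⟩
  have hdc : dᶜ ∈ Cfsg.dodecads :=
    ⟨compl_mem_gsup hd.1, by rw [card_compl, golay_card_pt, hd.2]⟩
  ext d'
  simp only [mem_filter, mem_blocksFin, mem_singleton, card_eq_zero]
  constructor
  · rintro ⟨hd', h0⟩
    have hsub : d' ⊆ dᶜ := by
      intro a ha
      rw [mem_compl]
      intro had
      have : a ∈ d ∩ d' := mem_inter.mpr ⟨had, ha⟩
      rw [h0] at this
      simp at this
    exact eq_of_subset_of_card_le hsub (by rw [hdc.2, hd'.2])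
  · rintro rfl
    refine ⟨hdc, ?_⟩
    ext a
    simp

theorem card_twelve {d : Finset Cfsg.GolayPt} (hd : d ∈ Cfsg.dodecads) :
    ((blocksFin Cfsg.dodecads).filter (fun d' => (d ∩ d').card = 12)).card = 1 := by
  rw [card_eq_one]
  refine ⟨d, ?_⟩
  ext d'
  simp only [mem_filter, mem_blocksFin, mem_singleton]
  constructor
  · rintro ⟨hd', h12⟩
    exact eq_of_inter_twelve hd hd' h12
  · rintro rfl
    exact ⟨hd, by rw [inter_self, hd.2]⟩

theorem card_six {d : Finset Cfsg.GolayPt} (hd : d ∈ Cfsg.dodecads) :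
    ((blocksFin Cfsg.dodecads).filter (fun d' => (d ∩ d').card = 6)).card = 1584 := by
  have hD : (blocksFin Cfsg.dodecads).card = 2576 := by
    rw [← ncard_eq_card_blocksFin]; exact ncard_dodecads
  have hmaps : ∀ d' ∈ blocksFin Cfsg.dodecads,
      (d ∩ d').card ∈ ({0, 4, 6, 8, 12} : Finset ℕ) := by
    intro d' hd'
    rw [mem_blocksFin] at hd'
    have := inter_cases hd hd'
    simp only [mem_insert, mem_singleton]
    omega
  have key := card_eq_sum_card_fiberwise hmaps
  rw [hD] at key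
  have h5 : ({0, 4, 6, 8, 12} : Finset ℕ) = insert 0 (insert 4 (insert 6 (insert 8 {12}))) := rfl
  rw [h5, sum_insert (by decide), sum_insert (by decide), sum_insert (by decide),
    sum_insert (by decide), sum_singleton, card_zero hd, card_four hd, card_eight hd,
    card_twelve hd] at key
  omega

theorem set_eq (d : Finset Cfsg.GolayPt) (k : ℕ) :
    {d' : Finset Cfsg.GolayPt | d' ∈ Cfsg.dodecads ∧ (d ∩ d').card = k}
      = ↑((blocksFin Cfsg.dodecads).filter (fun d' => (d ∩ d').card = k)) := by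
  ext c
  simp [mem_blocksFin]

/-- Intersection numbers of dodecads: a dodecad meets every other dodecad in 0, 4, 6 or 8 points, meeting 495 of them in 4 points, 1584 in 6 points and 495 in 8 points. -/
theorem result (d : Finset Cfsg.GolayPt) (hd : d ∈ Cfsg.dodecads) : (∀ d' ∈ Cfsg.dodecads, d' ≠ d → (d ∩ d').card = 0 ∨ (d ∩ d').card = 4 ∨ (d ∩ d').card = 6 ∨ (d ∩ d').card = 8) ∧ {d' : Finset Cfsg.GolayPt | d' ∈ Cfsg.dodecads ∧ (d ∩ d').card = 4}.ncard = 495 ∧ {d' : Finset Cfsg.GolayPt | d' ∈ Cfsg.dodecads ∧ (d ∩ d').card = 6}.ncard = 1584 ∧ {d' : Finset Cfsg.GolayPt | d' ∈ Cfsg.dodecads ∧ (d ∩ d').card = 8}.ncard = 495 := by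
  refine ⟨?_, ?_, ?_, ?_⟩
  · intro d' hd' hne
    rcases inter_cases hd hd' with h | h | h | h | h
    · exact Or.inl h
    · exact Or.inr (Or.inl h)
    · exact Or.inr (Or.inr (Or.inl h))
    · exact Or.inr (Or.inr (Or.inr h))
    · exact absurd (eq_of_inter_twelve hd hd' h) hne
  · rw [set_eq, Set.ncard_coe_finset]; exact card_four hd
  · rw [set_eq, Set.ncard_coe_finset]; exact card_six hd
  · rw [set_eq, Set.ncard_coe_finset]; exact card_eight hd

end Cfsg.Agent.S1560
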