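import Cfsg.Statements.S3868
import Cfsg.Agent.Lib.Helper69.MinNonPClosed
-- import your own Cfsg.Agent.* helpers here

set_option autoImplicit false
open Cfsg

namespace Cfsg.Agent.S3868

open Cfsg.Agent.Lib.Helper69

/-- Structure of the non-simple minimal non-p-closed groups. Call a finite group p-closed when its Sylow p-subgroups are normal, and minimal non-p-closed when it is not p-closed but every proper subgroup and every proper quotient is. If such a group G is not simple, then there is a prime q ≠ p such that G has order p · q^e, where e is the multiplicative order of q modulo p, and G has a normal subgroup A of order q^e that is elementary abelian and is a minimal normal subgroup of G (so G is the semidirect product of A by a group of order p acting irreducibly). -/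
theorem result {G : Type*} [Group G] [Finite G] {p : ℕ} [Fact p.Prime]
    (hnc : ¬ Cfsg.IsPClosed p G) (hsub : ∀ H : Subgroup G, H ≠ ⊤ → Cfsg.IsPClosed p ↥H)
    (hquo : ∀ (N : Subgroup G) [N.Normal], N ≠ ⊥ → Cfsg.IsPClosed p (G ⧸ N)) (hns : ¬ IsSimpleGroup G) :
    ∃ q : ℕ, q.Prime ∧ q ≠ p ∧ Nat.card G = p * q ^ orderOf (q : ZMod p) ∧
      ∃ A : Subgroup G, A.Normal ∧ Nat.card ↥A = q ^ orderOf (q : ZMod p) ∧ Cfsg.IsElementaryAbelian q A ∧
        ∀ B : Subgroup G, B.Normal → B ≤ A → B = ⊥ ∨ B = A := by
  have hpp : p.Prime := Fact.out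
  obtain ⟨P, hP⟩ : ∃ P : Sylow p G, ¬ (P : Subgroup G).Normal := by
    by_contra h
    push Not at h
    exact hnc h
  obtain ⟨N, hNn, hN, hN'⟩ : ∃ N : Subgroup G, N.Normal ∧ N ≠ ⊥ ∧ N ≠ ⊤ := by
    by_contra h
    push Not at h
    apply hns
    have hnt : Nontrivial G := by
      by_contra hnt
      rw [not_nontrivial_iff_subsingleton] at hnt
      apply hP
      have h1 : (P : Subgroup G) = ⊤ := Subsingleton.elim _ _
      rw [h1]
      infer_instance
    exact @IsSimpleGroup.mk G _ hnt (fun H hH => by
      by_cases hb : H = ⊥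
      · exact Or.inl hb
      · exact Or.inr (h H hH hb))
  haveI := hNn
  obtain ⟨q, hq, hqp, hNq⟩ := exists_prime_isPGroup P hP hsub hquo N hN hN'
  haveI : Fact q.Prime := ⟨hq⟩
  have hmin := normal_le_eq P hP hsub hquo N hN hN'
  have hidx := index_normal_eq P hP hsub hquo N hN hN'
  have hNc : ∀ a ∈ N, ∀ b ∈ N, a * b = b * a := by
    have hZn : (N ⊓ Subgroup.centralizer (N : Set G)).Normal := inferInstance
    have hZb : N ⊓ Subgroup.centralizer (N : Set G) ≠ ⊥ := by
      haveI : Nontrivial ↥N := (Subgroup.nontrivial_iff_ne_bot N).mpr hN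
      haveI := hNq.center_nontrivial
      obtain ⟨z, hz⟩ := exists_ne (1 : ↥(Subgroup.center ↥N))
      intro hZ
      have hzZ : ((z : ↥N) : G) ∈ N ⊓ Subgroup.centralizer (N : Set G) := by
        refine ⟨(z : ↥N).2, ?_⟩
        apply Subgroup.mem_centralizer_iff.mpr
        intro n hn
        have h1 := (Subgroup.mem_center_iff.mp z.2) ⟨n, hn⟩
        exact congrArg Subtype.val h1
      rw [hZ, Subgroup.mem_bot] at hzZ
      apply hz
      apply Subtype.ext
      apply Subtype.ext
      exact hzZ
    rcases hmin _ hZn inf_le_left with h | h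
    · exact absurd h hZb
    · intro a ha b hb
      have hbZ : b ∈ N ⊓ Subgroup.centralizer (N : Set G) := by rw [h]; exact hb
      exact (Subgroup.mem_centralizer_iff.mp hbZ.2) a ha
  have hNq' : ∀ a ∈ N, a ^ q = 1 := by
    let Ω : Subgroup G :=
      { carrier := {n | n ∈ N ∧ n ^ q = 1}
        one_mem' := ⟨N.one_mem, one_pow q⟩
        mul_mem' := by
          rintro a b ⟨ha, ha'⟩ ⟨hb, hb'⟩
          refine ⟨N.mul_mem ha hb, ?_⟩
          rw [(show Commute a b from hNc a ha b hb).mul_pow, ha', hb', one_mul]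
        inv_mem' := by
          rintro a ⟨ha, ha'⟩
          exact ⟨N.inv_mem ha, by rw [inv_pow, ha', inv_one]⟩ }
    have hΩn : Ω.Normal := by
      constructor
      rintro n ⟨hn, hn'⟩ g
      refine ⟨hNn.conj_mem n hn g, ?_⟩
      rw [conj_pow, hn', mul_one, mul_inv_cancel]
    have hΩN : Ω ≤ N := fun n hn => hn.1
    have hΩb : Ω ≠ ⊥ := by
      have hqd : q ∣ Nat.card ↥N := by
        obtain ⟨k, hk⟩ := IsPGroup.iff_card.mp hNq
        have hk0 : k ≠ 0 := by
          rintro rfl
          rw [pow_zero] at hk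
          exact hN (Subgroup.card_eq_one.mp hk)
        rw [hk]
        exact dvd_pow_self q hk0
      obtain ⟨x, hx⟩ := exists_prime_orderOf_dvd_card' q hqd
      intro hΩ
      have hxΩ : (x : G) ∈ Ω := by
        refine ⟨x.2, ?_⟩
        rw [← Subgroup.orderOf_coe] at hx
        rw [← hx, pow_orderOf_eq_one]
      rw [hΩ, Subgroup.mem_bot] at hxΩ
      have h1 : x = 1 := Subtype.ext hxΩ
      rw [h1, orderOf_one] at hx
      exact hq.one_lt.ne hx
    rcases hmin Ω hΩn hΩN with h | h
    · exact absurd h hΩb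
    · intro a ha
      have haΩ : a ∈ Ω := by rw [h]; exact ha
      exact haΩ.2
  have hna : ¬ IsMulCommutative G := by
    intro hcomm
    exact hP (Subgroup.normal_of_isMulCommutative _)
  have hcard := card_of_min_normal hq hqp hna N hNc hNq' hidx hmin
  refine ⟨q, hq, hqp, ?_, N, hNn, hcard, ⟨?_, hNq'⟩, hmin⟩
  · rw [← Subgroup.card_mul_index N, hidx, hcard, mul_comm]
  · exact ⟨⟨fun a b => Subtype.ext (hNc a a.2 b b.2)⟩⟩

end Cfsg.Agent.S3868
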