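import Cfsg.Statements.S4342
import Mathlib

set_option autoImplicit false
open Cfsg

namespace Cfsg.Agent.S4342

theorem sylow_le_of_normal_of_not_dvd_index {G : Type*} [Group G] [Finite G]
    (p : ℕ) [Fact p.Prime] (H : Subgroup G) [H.Normal] (hp : ¬ p ∣ H.index) (P : Sylow p G) :
    (P : Subgroup G) ≤ H := by
  intro x hx
  obtain ⟨k, hk⟩ := P.2 ⟨x, hx⟩
  have hk' : x ^ (p ^ k) = 1 := by
    have := congrArg Subtype.val hk
    simpa using this
  have h1 : (QuotientGroup.mk x : G ⧸ H) ^ (p ^ k) = 1 := by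
    rw [← QuotientGroup.mk_pow, hk']; rfl
  have h2 : (QuotientGroup.mk x : G ⧸ H) ^ H.index = 1 := by
    rw [Subgroup.index_eq_card]; exact pow_card_eq_one'
  have hcop : Nat.gcd (p ^ k) H.index = 1 := by
    apply Nat.Coprime.pow_left
    exact (Nat.Prime.coprime_iff_not_dvd Fact.out).mpr hp
  have h3 : (QuotientGroup.mk x : G ⧸ H) ^ Nat.gcd (p ^ k) H.index = 1 :=
    pow_gcd_eq_one.mpr ⟨h1, h2⟩
  rw [hcop, pow_one] at h3
  exact (QuotientGroup.eq_one_iff x).mp h3

theorem card_sylow_subgroup_eq {G : Type*} [Group G] [Finite G]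
    (p : ℕ) [Fact p.Prime] (H : Subgroup G) [H.Normal] (hp : ¬ p ∣ H.index) :
    Nat.card (Sylow p H) = Nat.card (Sylow p G) := by
  symm
  apply Nat.card_eq_of_bijective
    (fun P : Sylow p G => P.subtype (sylow_le_of_normal_of_not_dvd_index p H hp P))
  constructor
  · intro P Q h
    exact Sylow.subtype_injective h
  · intro Q
    obtain ⟨P, hP⟩ := Q.exists_comap_subtype_eq
    refine ⟨P, ?_⟩
    apply Sylow.ext
    rw [Sylow.coe_subtype]
    exact hP

theorem card_sylow_quotient_center {K : Type*} [Group K] [Finite K]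
    (p : ℕ) [Fact p.Prime] :
    Nat.card (Sylow p (K ⧸ Subgroup.center K)) = Nat.card (Sylow p K) := by
  symm
  have hf : Function.Surjective (QuotientGroup.mk' (Subgroup.center K)) :=
    QuotientGroup.mk'_surjective _
  apply Nat.card_eq_of_bijective (Sylow.mapSurjective hf : Sylow p K → Sylow p (K ⧸ Subgroup.center K))
  refine ⟨?_, Sylow.mapSurjective_surjective hf p⟩
  intro P Q h
  have h1 : (P : Subgroup K).map (QuotientGroup.mk' (Subgroup.center K))
      = (Q : Subgroup K).map (QuotientGroup.mk' (Subgroup.center K)) := by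
    have := congrArg (fun S : Sylow p (K ⧸ Subgroup.center K) => (S : Subgroup (K ⧸ Subgroup.center K))) h
    simpa using this
  have h2 : (Q : Subgroup K) ≤ (P : Subgroup K) ⊔ Subgroup.center K := by
    have h3 : (Q : Subgroup K) ≤ ((Q : Subgroup K).map (QuotientGroup.mk' (Subgroup.center K))).comap
        (QuotientGroup.mk' (Subgroup.center K)) := Subgroup.le_comap_map _ _
    rw [← h1, Subgroup.comap_map_eq, QuotientGroup.ker_mk'] at h3
    exact h3
  have h4 : (P : Subgroup K) ⊔ Subgroup.center K ≤ Subgroup.normalizer (P : Subgroup K) :=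
    sup_le Subgroup.le_normalizer (Subgroup.center_le_normalizer _)
  have h5 : (Q : Subgroup K) ⊓ Subgroup.normalizer (P : Subgroup K) = (Q : Subgroup K) ⊓ (P : Subgroup K) :=
    IsPGroup.inf_normalizer_sylow Q.2 P
  have h6 : (Q : Subgroup K) ≤ (P : Subgroup K) := by
    have : (Q : Subgroup K) ≤ (Q : Subgroup K) ⊓ Subgroup.normalizer (P : Subgroup K) :=
      le_inf le_rfl (h2.trans h4)
    rw [h5] at this
    exact this.trans inf_le_right
  apply Sylow.ext
  exact Q.3 P.2 h6

/-- Let H be a normal subgroup of a finite group G and p a prime not dividing the index of H. Then the number of Sylow p-subgroups of H/Z(H) equals the number of Sylow p-subgroups of G. -/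
theorem result {G : Type*} [Group G] [Finite G]
    (p : ℕ) [Fact p.Prime] (H : Subgroup G) [H.Normal] (hp : ¬ p ∣ H.index) :
    Nat.card (Sylow p (H ⧸ Subgroup.center H)) = Nat.card (Sylow p G) := by
  rw [card_sylow_quotient_center, card_sylow_subgroup_eq p H hp]

end Cfsg.Agent.S4342
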