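import Cfsg.Statements.S4304
import Cfsg.Agent.S4342
import Cfsg.Agent.Lib.Helper23.Syl
import Mathlib

set_option autoImplicit false
open Cfsg

namespace Cfsg.Agent.S4304

open Subgroup

universe u

theorem card_mul_relIndex_of_le {G : Type*} [Group G] {H K : Subgroup G} (h : H ≤ K) :
    Nat.card H * H.relIndex K = Nat.card K := by
  have := Subgroup.relIndex_mul_relIndex ⊥ H K bot_le h
  rwa [Subgroup.relIndex_bot_left, Subgroup.relIndex_bot_left] at this

/-- the number of Sylow subgroups of a quotient divides that of the group -/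
theorem card_sylow_quotient_dvd {G : Type*} [Group G] [Finite G] (p : ℕ) [Fact p.Prime]
    (M : Subgroup G) [M.Normal] : Nat.card (Sylow p (G ⧸ M)) ∣ Nat.card (Sylow p G) := by
  obtain ⟨P⟩ : Nonempty (Sylow p G) := inferInstance
  have hf : Function.Surjective (QuotientGroup.mk' M) := QuotientGroup.mk'_surjective M
  rw [Sylow.card_eq_index_normalizer P, Sylow.card_eq_index_normalizer (Sylow.mapSurjective hf P)]
  have h1 : normalizer ((Sylow.mapSurjective hf P : Sylow p (G ⧸ M)) : Set (G ⧸ M)) =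
      normalizer (((P : Subgroup G).map (QuotientGroup.mk' M) : Subgroup (G ⧸ M)) : Set (G ⧸ M)) := by
    rw [← Sylow.coe_mapSurjective hf P]
    rfl
  rw [h1, ← Subgroup.index_comap_of_surjective _ hf]
  apply Subgroup.index_dvd_of_le
  rw [← Subgroup.map_le_iff_le_comap]
  exact Subgroup.le_normalizer_map _

theorem card_sylow_of_forall_le {G : Type*} [Group G] [Finite G] (p : ℕ) [Fact p.Prime]
    (L : Subgroup G) (h : ∀ P : Sylow p G, (P : Subgroup G) ≤ L) :
    Nat.card (Sylow p L) = Nat.card (Sylow p G) := by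
  symm
  apply Nat.card_eq_of_bijective (fun P : Sylow p G => P.subtype (h P))
  constructor
  · intro P Q h
    exact Sylow.subtype_injective h
  · intro Q
    obtain ⟨P, hP⟩ := Q.exists_comap_subtype_eq
    refine ⟨P, ?_⟩
    apply Sylow.ext
    rw [Sylow.coe_subtype]
    exact hP

theorem mem_smul_sylow {G : Type*} [Group G] {p : ℕ} (g x : G) (Q : Sylow p G) :
    x ∈ ((g • Q : Sylow p G) : Subgroup G) ↔ g⁻¹ * x * g ∈ (Q : Subgroup G) := by
  rw [Sylow.coe_subgroup_smul, Subgroup.mem_pointwise_smul_iff_inv_smul_mem, MulAut.smul_def,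
    ← map_inv, MulAut.conj_apply, inv_inv]

theorem sylow_eq_of_le {G : Type*} [Group G] {p : ℕ} {P Q : Sylow p G}
    (h : (P : Subgroup G) ≤ Q) : P = Q :=
  Sylow.ext (P.is_maximal' Q.2 h).symm

theorem sylow_card_eq {G : Type*} [Group G] [Finite G] {p : ℕ} [Fact p.Prime] (P Q : Sylow p G) :
    Nat.card (P : Subgroup G) = Nat.card (Q : Subgroup G) := by
  rw [Sylow.card_eq_multiplicity, Sylow.card_eq_multiplicity]

section main
variable {G : Type u} [Group G] [Finite G]

theorem sup_eq_top_of_normal [Fact (Nat.Prime 7)] (h15 : Nat.card (Sylow 7 G) = 15)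
    (hmin : ∀ (K : Type u) [Group K] [Finite K], Nat.card K < Nat.card G →
      Nat.card (Sylow 7 K) ≠ 15)
    (M : Subgroup G) [M.Normal] (hM : M ≠ ⊥) (P : Sylow 7 G) : (P : Subgroup G) ⊔ M = ⊤ := by
  have hf : Function.Surjective (QuotientGroup.mk' M) := QuotientGroup.mk'_surjective M
  have hdvd := card_sylow_quotient_dvd 7 M
  rw [h15] at hdvd
  have hmod : Nat.card (Sylow 7 (G ⧸ M)) % 7 = 1 := card_sylow_modEq_one 7 (G ⧸ M)
  have hlt : Nat.card (G ⧸ M) < Nat.card G := by
    rw [Subgroup.card_eq_card_quotient_mul_card_subgroup M]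
    have h1 : 1 < Nat.card M := by
      rw [Subgroup.one_lt_card_iff_ne_bot]; exact hM
    have h2 : 0 < Nat.card (G ⧸ M) := Nat.card_pos
    nlinarith
  have hne := hmin (G ⧸ M) hlt
  have h1 : Nat.card (Sylow 7 (G ⧸ M)) = 1 := by
    have hle : Nat.card (Sylow 7 (G ⧸ M)) ≤ 15 := Nat.le_of_dvd (by norm_num) hdvd
    generalize Nat.card (Sylow 7 (G ⧸ M)) = k at *
    interval_cases k <;> omega
  have hsub : Subsingleton (Sylow 7 (G ⧸ M)) := (Nat.card_eq_one_iff_unique.mp h1).1
  have hall : ∀ Q : Sylow 7 G, (Q : Subgroup G) ≤ (P : Subgroup G) ⊔ M := by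
    intro Q
    have h2 : Sylow.mapSurjective hf Q = Sylow.mapSurjective hf P := Subsingleton.elim _ _
    have h3 : (Q : Subgroup G).map (QuotientGroup.mk' M) =
        (P : Subgroup G).map (QuotientGroup.mk' M) := by
      have := congrArg (fun S : Sylow 7 (G ⧸ M) => (S : Subgroup (G ⧸ M))) h2
      simpa [Sylow.coe_mapSurjective] using this
    calc (Q : Subgroup G)
        ≤ ((Q : Subgroup G).map (QuotientGroup.mk' M)).comap (QuotientGroup.mk' M) :=
          Subgroup.le_comap_map _ _
      _ = ((P : Subgroup G).map (QuotientGroup.mk' M)).comap (QuotientGroup.mk' M) := by rw [h3]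
      _ = (P : Subgroup G) ⊔ M := by rw [Subgroup.comap_map_eq, QuotientGroup.ker_mk']
  have hL := card_sylow_of_forall_le 7 _ hall
  rw [h15] at hL
  by_contra hne'
  have hlt2 : Nat.card ((P : Subgroup G) ⊔ M : Subgroup G) < Nat.card G := by
    refine lt_of_le_of_ne (Subgroup.card_le_card_group _) ?_
    intro h
    exact hne' ((Subgroup.card_eq_iff_eq_top _).mp h)
  exact hmin _ hlt2 hL

theorem orbit_and_relIndex [Fact (Nat.Prime 7)] (h15 : Nat.card (Sylow 7 G) = 15)
    (P Q : Sylow 7 G) (hPQ : P ≠ Q) :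
    P ∉ MulAction.orbit (P : Subgroup G) Q ∧
    (MulAction.orbit (P : Subgroup G) Q).ncard = 7 ∧
      ((P : Subgroup G) ⊓ Q).relIndex P = 7 := by
  have hstab : MulAction.stabilizer (P : Subgroup G) Q =
      ((P : Subgroup G) ⊓ Q).subgroupOf P := by
    ext x
    rw [MulAction.mem_stabilizer_iff, Subgroup.mem_subgroupOf, Subgroup.smul_def,
      Sylow.smul_eq_iff_mem_normalizer, ← IsPGroup.inf_normalizer_sylow P.2 Q]
    constructor
    · intro h; exact ⟨x.2, h⟩
    · intro h; exact h.2
  have hidx : ((P : Subgroup G) ⊓ Q).relIndex P = (MulAction.orbit (P : Subgroup G) Q).ncard := by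
    rw [Subgroup.relIndex, ← hstab, MulAction.index_stabilizer]
  have hnotmem : P ∉ MulAction.orbit (P : Subgroup G) Q := by
    rintro ⟨x, hx⟩
    apply hPQ
    have h1 : (x : G)⁻¹ • P = P := by
      rw [Sylow.smul_eq_iff_mem_normalizer]
      exact Subgroup.le_normalizer (inv_mem x.2)
    have h2 : (x : G) • Q = P := hx
    calc P = (x : G)⁻¹ • P := h1.symm
      _ = (x : G)⁻¹ • ((x : G) • Q) := by rw [h2]
      _ = Q := inv_smul_smul _ _
  obtain ⟨n, hn⟩ := IsPGroup.card_orbit P.2 Q
  rw [Nat.card_coe_set_eq] at hn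
  have hle : (MulAction.orbit (P : Subgroup G) Q).ncard + 1 ≤ 15 := by
    rw [← Set.ncard_insert_of_notMem hnotmem (Set.toFinite _), ← h15]
    exact Set.ncard_le_card _
  have hne1 : (MulAction.orbit (P : Subgroup G) Q).ncard ≠ 1 := by
    intro h1
    rw [← hidx, Subgroup.relIndex_eq_one] at h1
    exact hPQ (sylow_eq_of_le (h1.trans inf_le_right))
  have h7 : (MulAction.orbit (P : Subgroup G) Q).ncard = 7 := by
    rw [hn] at hle hne1 ⊢
    rcases n with _ | _ | n
    · simp at hne1
    · simp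
    · have : 7 ^ 2 ≤ 7 ^ (n + 1 + 1) := Nat.pow_le_pow_right (by norm_num) (by omega)
      omega
  exact ⟨hnotmem, h7, hidx.trans h7⟩

theorem card_inf_mul [Fact (Nat.Prime 7)] (h15 : Nat.card (Sylow 7 G) = 15)
    (P Q : Sylow 7 G) (hPQ : P ≠ Q) :
    Nat.card ((P : Subgroup G) ⊓ Q : Subgroup G) * 7 = Nat.card (P : Subgroup G) := by
  have h := card_mul_relIndex_of_le (inf_le_left : (P : Subgroup G) ⊓ Q ≤ P)
  rwa [(orbit_and_relIndex h15 P Q hPQ).2.2] at h

theorem conj_mem_inf [Fact (Nat.Prime 7)] (h15 : Nat.card (Sylow 7 G) = 15)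
    (P Q : Sylow 7 G) (hPQ : P ≠ Q) (x d : G) (hx : x ∈ (P : Subgroup G))
    (hd : d ∈ (P : Subgroup G) ⊓ Q) : x⁻¹ * d * x ∈ (P : Subgroup G) ⊓ Q := by
  have hidx := (orbit_and_relIndex h15 P Q hPQ).2.2
  have hcard := card_inf_mul h15 P Q hPQ
  have hnorm : (((P : Subgroup G) ⊓ Q).subgroupOf P).Normal := by
    apply Subgroup.normal_of_index_eq_minFac_card
    have h1 : ((P : Subgroup G) ⊓ Q).relIndex P = (((P : Subgroup G) ⊓ Q).subgroupOf P).index := rfl
    rw [← h1, hidx]
    obtain ⟨n, hn⟩ := (IsPGroup.iff_card.mp P.2)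
    rw [hn]
    have hn0 : n ≠ 0 := by
      rintro rfl
      rw [hn] at hcard
      omega
    rw [Nat.Prime.pow_minFac (by norm_num) hn0]
  have := hnorm.conj_mem ⟨d, hd.1⟩ (Subgroup.mem_subgroupOf.mpr hd) ⟨x⁻¹, inv_mem hx⟩
  rw [Subgroup.mem_subgroupOf] at this
  simpa using this

theorem inf_le_of_ne [Fact (Nat.Prime 7)] (h15 : Nat.card (Sylow 7 G) = 15)
    (P Q R : Sylow 7 G) (hQ : Q ≠ P) (hR : R ≠ P) : (P : Subgroup G) ⊓ R ≤ Q := by
  by_contra hcon
  obtain ⟨x, hx, hxQ⟩ := SetLike.not_le_iff_exists.mp hcon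
  have hQR : Q ≠ R := by
    rintro rfl
    exact hxQ hx.2
  have hQ' : x • Q ≠ Q := by
    intro h
    rw [Sylow.smul_eq_iff_mem_normalizer] at h
    have h2 : x ∈ (P : Subgroup G) ⊓ normalizer (Q : Set G) := ⟨hx.1, h⟩
    rw [IsPGroup.inf_normalizer_sylow P.2 Q] at h2
    exact hxQ h2.2
  have c1 := card_inf_mul h15 P Q hQ.symm
  have c2 := card_inf_mul h15 Q (x • Q) hQ'.symm
  have c3 := card_inf_mul h15 R Q hQR.symm
  have c4 := card_inf_mul h15 P R hR.symm
  have e1 := sylow_card_eq P Q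
  have e2 := sylow_card_eq P R
  have hD1 : (P : Subgroup G) ⊓ Q = (Q : Subgroup G) ⊓ (x • Q : Sylow 7 G) := by
    apply Subgroup.eq_of_le_of_card_ge
    · intro d hd
      refine Subgroup.mem_inf.mpr ⟨hd.2, ?_⟩
      rw [mem_smul_sylow]
      exact (conj_mem_inf h15 P Q hQ.symm x d hx.1 hd).2
    · omega
  have hE : (R : Subgroup G) ⊓ Q = (Q : Subgroup G) ⊓ (x • Q : Sylow 7 G) := by
    apply Subgroup.eq_of_le_of_card_ge
    · intro d hd
      refine Subgroup.mem_inf.mpr ⟨hd.2, ?_⟩
      rw [mem_smul_sylow]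
      exact (conj_mem_inf h15 R Q hQR.symm x d hx.2 hd).2
    · omega
  have hD2 : (P : Subgroup G) ⊓ Q = (P : Subgroup G) ⊓ R := by
    apply Subgroup.eq_of_le_of_card_ge
    · intro d hd
      refine Subgroup.mem_inf.mpr ⟨hd.1, ?_⟩
      have : d ∈ (R : Subgroup G) ⊓ Q := by rw [hE, ← hD1]; exact hd
      exact this.1
    · omega
  rw [← hD2] at hx
  exact hxQ hx.2

theorem inf_eq_bot [Fact (Nat.Prime 7)] (h15 : Nat.card (Sylow 7 G) = 15)
    (hmin : ∀ (K : Type u) [Group K] [Finite K], Nat.card K < Nat.card G →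
      Nat.card (Sylow 7 K) ≠ 15)
    (P Q : Sylow 7 G) (hPQ : P ≠ Q) : (P : Subgroup G) ⊓ Q = ⊥ := by
  have hle : (P : Subgroup G) ⊓ Q ≤ (P : Subgroup G).normalCore := by
    intro x hx b
    have hxR : x ∈ ((b⁻¹ • P : Sylow 7 G) : Subgroup G) := by
      by_cases hR : b⁻¹ • P = P
      · rw [hR]; exact hx.1
      · exact inf_le_of_ne h15 P (b⁻¹ • P) Q hR hPQ.symm hx
    rw [mem_smul_sylow, inv_inv] at hxR
    exact hxR
  have hO : (P : Subgroup G).normalCore = ⊥ := by
    by_contra hne
    have h1 := sup_eq_top_of_normal h15 hmin (P : Subgroup G).normalCore hne P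
    rw [sup_eq_left.mpr (Subgroup.normalCore_le _)] at h1
    apply hPQ
    symm
    apply sylow_eq_of_le
    rw [h1]
    exact le_top
  rw [hO] at hle
  exact le_bot_iff.mp hle

theorem card_sylow_seven [Fact (Nat.Prime 7)] (h15 : Nat.card (Sylow 7 G) = 15)
    (hmin : ∀ (K : Type u) [Group K] [Finite K], Nat.card K < Nat.card G →
      Nat.card (Sylow 7 K) ≠ 15)
    (P : Sylow 7 G) : Nat.card (P : Subgroup G) = 7 := by
  have hnt : Nontrivial (Sylow 7 G) := by
    rw [← Finite.one_lt_card_iff_nontrivial, h15]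
    norm_num
  obtain ⟨Q, hQ⟩ := exists_ne P
  have h := card_inf_mul h15 P Q hQ.symm
  rw [inf_eq_bot h15 hmin P Q hQ.symm] at h
  simpa using h.symm

theorem eq_one_of_forall_smul [Fact (Nat.Prime 7)] (h15 : Nat.card (Sylow 7 G) = 15)
    (hmin : ∀ (K : Type u) [Group K] [Finite K], Nat.card K < Nat.card G →
      Nat.card (Sylow 7 K) ≠ 15)
    (g : G) (hg : ∀ Q : Sylow 7 G, g • Q = Q) : g = 1 := by
  have hmem : ∀ k : G, k ∈ (MulAction.toPermHom G (Sylow 7 G)).ker ↔
      ∀ Q : Sylow 7 G, k • Q = Q := by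
    intro k
    rw [MonoidHom.mem_ker, Equiv.Perm.ext_iff]
    rfl
  by_contra hg1
  have hK : (MulAction.toPermHom G (Sylow 7 G)).ker ≠ ⊥ := by
    intro hbot
    have : g ∈ (MulAction.toPermHom G (Sylow 7 G)).ker := (hmem g).mpr hg
    rw [hbot, Subgroup.mem_bot] at this
    exact hg1 this
  obtain ⟨P⟩ : Nonempty (Sylow 7 G) := inferInstance
  have htop := sup_eq_top_of_normal h15 hmin _ hK P
  have hle : (P : Subgroup G) ⊔ (MulAction.toPermHom G (Sylow 7 G)).ker ≤ normalizer (P : Set G) := by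
    refine sup_le Subgroup.le_normalizer ?_
    intro k hk
    exact Sylow.smul_eq_iff_mem_normalizer.mp ((hmem k).mp hk P)
  rw [htop] at hle
  have hidx := Sylow.card_eq_index_normalizer P
  rw [top_le_iff.mp hle, Subgroup.index_top, h15] at hidx
  omega

theorem pow_smul_eq_self {α : Type*} [MulAction G α] (g : G) (a : α) (h : g • a = a) (k : ℕ) :
    g ^ k • a = a := by
  induction k with
  | zero => simp
  | succ k ih => rw [pow_succ, mul_smul, h, ih]

theorem eq_of_centralizer_fix [Fact (Nat.Prime 7)] (h15 : Nat.card (Sylow 7 G) = 15)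
    (hmin : ∀ (K : Type u) [Group K] [Finite K], Nat.card K < Nat.card G →
      Nat.card (Sylow 7 K) ≠ 15)
    (P Q : Sylow 7 G) (y : G) (hy : y ∈ centralizer ((P : Subgroup G) : Set G)) (hy1 : y ≠ 1)
    (hyQ : y • Q = Q) : Q = P := by
  by_contra hQP
  have hcomm : ∀ k : ℕ, ∀ x ∈ (P : Subgroup G), x * y ^ k = y ^ k * x := by
    intro k x hx
    have h1 : x * y = y * x := Subgroup.mem_centralizer_iff.mp hy x hx
    exact (Commute.pow_right h1 k)
  have hyP : ∀ k : ℕ, y ^ k • P = P := by
    intro k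
    apply pow_smul_eq_self
    rw [Sylow.smul_eq_iff_mem_normalizer]
    exact Subgroup.centralizer_le_normalizer _ hy
  obtain ⟨hP1, h71, -⟩ := orbit_and_relIndex h15 P Q (Ne.symm hQP)
  have hne : insert P (MulAction.orbit (P : Subgroup G) Q) ≠ Set.univ := by
    intro h
    have := congrArg Set.ncard h
    rw [Set.ncard_insert_of_notMem hP1 (Set.toFinite _), Set.ncard_univ, h15, h71] at this
    omega
  obtain ⟨R, hR⟩ := (Set.ne_univ_iff_exists_notMem _).mp hne
  have hRP : R ≠ P := fun h => hR (h ▸ Set.mem_insert _ _)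
  have hRO : R ∉ MulAction.orbit (P : Subgroup G) Q := fun h => hR (Set.mem_insert_of_mem _ h)
  obtain ⟨hP2, h72, -⟩ := orbit_and_relIndex h15 P R (Ne.symm hRP)
  have hdisj : Disjoint (insert P (MulAction.orbit (P : Subgroup G) Q))
      (MulAction.orbit (P : Subgroup G) R) := by
    rw [Set.disjoint_left]
    intro z hz1 hz2
    rcases hz1 with rfl | hz1
    · exact hP2 hz2
    · apply hRO
      rw [← MulAction.orbit_eq_iff, ← MulAction.orbit_eq_iff.mpr hz1, MulAction.orbit_eq_iff.mpr hz2]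
  have hall : ∀ R' : Sylow 7 G, R' = P ∨ R' ∈ MulAction.orbit (P : Subgroup G) Q ∨
      R' ∈ MulAction.orbit (P : Subgroup G) R := by
    have huniv : insert P (MulAction.orbit (P : Subgroup G) Q) ∪
        MulAction.orbit (P : Subgroup G) R = Set.univ := by
      rw [Set.eq_univ_iff_ncard, Set.ncard_union_eq hdisj (Set.toFinite _) (Set.toFinite _),
        Set.ncard_insert_of_notMem hP1 (Set.toFinite _), h71, h72, h15]
    intro R'
    have : R' ∈ insert P (MulAction.orbit (P : Subgroup G) Q) ∪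
        MulAction.orbit (P : Subgroup G) R := by rw [huniv]; exact Set.mem_univ _
    rcases this with (rfl | h) | h
    · exact Or.inl rfl
    · exact Or.inr (Or.inl h)
    · exact Or.inr (Or.inr h)
  -- y • R lies in the orbit of R
  have hyR : y • R ∈ MulAction.orbit (P : Subgroup G) R := by
    rcases hall (y • R) with h | h | h
    · exfalso
      apply hRP
      have h2 := hyP 1
      rw [pow_one] at h2
      exact smul_left_cancel y (h.trans h2.symm)
    · exfalso
      obtain ⟨x, hx⟩ := h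
      have hx' : (x : G) • Q = y • R := hx
      have h2 : y • (y • R) = y • R := by
        rw [← hx', ← mul_smul, ← pow_one y, ← hcomm 1 x x.2, mul_smul, pow_one, hyQ]
      have h3 : y • R = R := smul_left_cancel y h2
      apply hRO
      rw [← h3]
      exact ⟨x, hx⟩
    · exact h
  obtain ⟨x₀, hx₀⟩ := hyR
  have hx₀' : (x₀ : G) • R = y • R := hx₀
  have hpow : ∀ k : ℕ, y ^ k • R = (x₀ : G) ^ k • R := by
    intro k
    induction k with
    | zero => simp
    | succ k ih =>
      rw [pow_succ, mul_smul, ← hx₀', ← mul_smul, ← hcomm k x₀ x₀.2, mul_smul, ih, ← mul_smul,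
        ← pow_succ']
  have hx7 : (x₀ : G) ^ 7 = 1 := by
    have h1 : x₀ ^ Nat.card (P : Subgroup G) = 1 := pow_card_eq_one'
    rw [card_sylow_seven h15 hmin P] at h1
    have := congrArg Subtype.val h1
    simpa using this
  have hy7R : y ^ 7 • R = R := by rw [hpow, hx7, one_smul]
  have hy7Q : y ^ 7 • Q = Q := pow_smul_eq_self y Q hyQ 7
  have hy7 : y ^ 7 = 1 := by
    apply eq_one_of_forall_smul h15 hmin
    intro R'
    rcases hall R' with rfl | ⟨x, rfl⟩ | ⟨x, rfl⟩
    · exact hyP 7
    · show y ^ 7 • ((x : G) • Q) = (x : G) • Q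
      rw [← mul_smul, ← hcomm 7 x x.2, mul_smul, hy7Q]
    · show y ^ 7 • ((x : G) • R) = (x : G) • R
      rw [← mul_smul, ← hcomm 7 x x.2, mul_smul, hy7R]
  have hp : IsPGroup 7 (zpowers y) := by
    rintro ⟨g, hg⟩
    obtain ⟨j, rfl⟩ := Subgroup.mem_zpowers_iff.mp hg
    refine ⟨1, Subtype.ext ?_⟩
    show (y ^ j) ^ 7 ^ 1 = 1
    rw [pow_one, ← zpow_natCast, ← zpow_mul, mul_comm, zpow_mul, zpow_natCast, hy7, one_zpow]
  have hyP' : y ∈ (P : Subgroup G) := by
    have h1 : y ∈ zpowers y ⊓ normalizer (P : Set G) :=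
      ⟨Subgroup.mem_zpowers y, Subgroup.centralizer_le_normalizer _ hy⟩
    rw [IsPGroup.inf_normalizer_sylow hp P] at h1
    exact h1.2
  have hyQ' : y ∈ (Q : Subgroup G) := by
    have h1 : y ∈ zpowers y ⊓ normalizer (Q : Set G) :=
      ⟨Subgroup.mem_zpowers y, Sylow.smul_eq_iff_mem_normalizer.mp hyQ⟩
    rw [IsPGroup.inf_normalizer_sylow hp Q] at h1
    exact h1.2
  have hbot : y ∈ (P : Subgroup G) ⊓ Q := ⟨hyP', hyQ'⟩
  rw [inf_eq_bot h15 hmin P Q (Ne.symm hQP), Subgroup.mem_bot] at hbot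
  exact hy1 hbot

theorem card_dvd_of_free [Fact (Nat.Prime 7)] (h15 : Nat.card (Sylow 7 G) = 15)
    (P : Sylow 7 G) (A : Subgroup G) (hA : A ≤ normalizer (P : Set G))
    (hfree : ∀ a ∈ A, a ≠ 1 → ∀ Q : Sylow 7 G, a • Q = Q → Q = P) : Nat.card A ∣ 14 := by
  classical
  haveI : Fintype A := Fintype.ofFinite _
  haveI : Fintype (Quotient (MulAction.orbitRel A (Sylow 7 G))) := Fintype.ofFinite _
  haveI : ∀ a : A, Fintype (MulAction.fixedBy (Sylow 7 G) a) := fun a => Fintype.ofFinite _
  have hb := MulAction.sum_card_fixedBy_eq_card_orbits_mul_card_group A (Sylow 7 G)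
  have hfix : ∀ a : A, Fintype.card (MulAction.fixedBy (Sylow 7 G) a) =
      1 + if a = 1 then 14 else 0 := by
    intro a
    rw [← Nat.card_eq_fintype_card, Nat.card_coe_set_eq]
    split_ifs with h
    · subst h
      have : MulAction.fixedBy (Sylow 7 G) (1 : A) = Set.univ := by
        ext Q
        simp
      rw [this, Set.ncard_univ, h15]
    · have : MulAction.fixedBy (Sylow 7 G) a = {P} := by
        ext Q
        simp only [MulAction.mem_fixedBy, Set.mem_singleton_iff]
        constructor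
        · intro hQ
          refine hfree a a.2 ?_ Q hQ
          intro h1
          exact h (Subtype.ext h1)
        · rintro rfl
          exact Sylow.smul_eq_iff_mem_normalizer.mpr (hA a.2)
      rw [this, Set.ncard_singleton]
  simp_rw [hfix] at hb
  rw [Finset.sum_add_distrib, Finset.sum_ite_eq' Finset.univ (1 : A)] at hb
  simp only [Finset.sum_const, Finset.card_univ, smul_eq_mul, mul_one, Finset.mem_univ,
    if_true] at hb
  rw [Nat.card_eq_fintype_card]
  exact (Nat.dvd_add_right (dvd_refl _)).mp ⟨_, by rw [hb, mul_comm]⟩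

theorem card_centralizer_dvd [Fact (Nat.Prime 7)] (h15 : Nat.card (Sylow 7 G) = 15)
    (hmin : ∀ (K : Type u) [Group K] [Finite K], Nat.card K < Nat.card G →
      Nat.card (Sylow 7 K) ≠ 15) (P : Sylow 7 G) :
    Nat.card (centralizer ((P : Subgroup G) : Set G)) ∣ 14 :=
  card_dvd_of_free h15 P _ (Subgroup.centralizer_le_normalizer _)
    (fun a ha ha1 Q hQ => eq_of_centralizer_fix h15 hmin P Q a ha ha1 hQ)

theorem card_dvd [Fact (Nat.Prime 7)] (h15 : Nat.card (Sylow 7 G) = 15)
    (hmin : ∀ (K : Type u) [Group K] [Finite K], Nat.card K < Nat.card G →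
      Nat.card (Sylow 7 K) ≠ 15) : Nat.card G ∣ 1260 := by
  obtain ⟨P⟩ : Nonempty (Sylow 7 G) := inferInstance
  have hN := Cfsg.Agent.Lib.Helper23.card_normalizer_sylow_mul P
  have hC := card_centralizer_dvd h15 hmin P
  have hrel := Cfsg.Agent.Lib.Helper23.relIndex_centralizer_normalizer_dvd_pred (p := 7)
    (P : Subgroup G) (card_sylow_seven h15 hmin P)
  have hmul := card_mul_relIndex_of_le
    (Subgroup.centralizer_le_normalizer ((P : Subgroup G) : Set G))
  rw [← hN, ← hmul, h15]
  exact Nat.mul_dvd_mul (Nat.mul_dvd_mul hC hrel) (dvd_refl 15)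

theorem relIndex_dvd_relIndex_of_normal {G : Type*} [Group G] (H K L : Subgroup G) (hKL : K ≤ L)
    (hn : (H.subgroupOf L).Normal) : H.relIndex K ∣ H.relIndex L := by
  rw [← Subgroup.relIndex_subgroupOf hKL]
  exact Subgroup.relIndex_dvd_index_of_normal _ _

theorem centralizer_subgroupOf_normalizer_normal {G : Type*} [Group G] (H : Subgroup G) :
    ((centralizer (H : Set G)).subgroupOf (normalizer (H : Set G))).Normal := by
  rw [← Subgroup.normalizerMonoidHom_ker]
  exact MonoidHom.normal_ker _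

theorem isSimpleGroup_of_min [Fact (Nat.Prime 7)] (h15 : Nat.card (Sylow 7 G) = 15)
    (hmin : ∀ (K : Type u) [Group K] [Finite K], Nat.card K < Nat.card G →
      Nat.card (Sylow 7 K) ≠ 15) : IsSimpleGroup G := by
  have hnt : Nontrivial G := by
    by_contra h
    rw [not_nontrivial_iff_subsingleton] at h
    have h1 : Nat.card (Sylow 7 G) ≤ 1 :=
      Finite.card_le_one_iff_subsingleton.mpr ⟨fun P Q => Sylow.ext (Subsingleton.elim _ _)⟩
    omega
  refine ⟨fun M hM => ?_⟩
  by_contra hcon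
  push Not at hcon
  obtain ⟨hbot, htop⟩ := hcon
  obtain ⟨P⟩ : Nonempty (Sylow 7 G) := inferInstance
  have hsup := sup_eq_top_of_normal h15 hmin M hbot P
  have hcP := card_sylow_seven h15 hmin P
  have hinf : (P : Subgroup G) ⊓ M = ⊥ := by
    have h1 : Nat.card ((P : Subgroup G) ⊓ M : Subgroup G) ∣ 7 := by
      have h0 := Subgroup.card_dvd_of_le (inf_le_left : (P : Subgroup G) ⊓ M ≤ P)
      rwa [hcP] at h0
    rcases (Nat.dvd_prime (by norm_num)).mp h1 with h | h
    · exact Subgroup.card_eq_one.mp h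
    · exfalso
      have h2 : (P : Subgroup G) ⊓ M = P := Subgroup.eq_of_le_of_card_ge inf_le_left (by omega)
      have h3 : (P : Subgroup G) ≤ M := inf_eq_left.mp h2
      rw [sup_eq_right.mpr h3] at hsup
      exact htop hsup
  have hidx : M.index = 7 := by
    rw [← Subgroup.relIndex_top_right, ← hsup, Subgroup.relIndex_sup_right,
      ← Subgroup.inf_relIndex_left, hinf, Subgroup.relIndex_bot_left, hcP]
  have hG : Nat.card M * 7 = Nat.card G := by rw [← hidx]; exact M.card_mul_index
  have h1260 := card_dvd h15 hmin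
  have hN := Cfsg.Agent.Lib.Helper23.card_normalizer_sylow_mul P
  rw [h15] at hN
  have h15G : 15 ∣ Nat.card G := ⟨_, by rw [← hN, mul_comm]⟩
  haveI : Fact (Nat.Prime 5) := ⟨by norm_num⟩
  have h5idx : ¬ 5 ∣ M.index := by rw [hidx]; norm_num
  have hn5 : Nat.card (Sylow 5 M) = Nat.card (Sylow 5 G) :=
    Cfsg.Agent.S4342.card_sylow_subgroup_eq 5 M h5idx
  have h7n5 : ¬ 7 ∣ Nat.card (Sylow 5 G) := by
    rw [← hn5]
    intro h
    obtain ⟨S⟩ : Nonempty (Sylow 5 M) := inferInstance
    have h2 : Nat.card (Sylow 5 M) ∣ Nat.card M :=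
      (Sylow.card_dvd_index S).trans (Subgroup.index_dvd_card _)
    obtain ⟨c, hc⟩ := h.trans h2
    rw [hc] at hG
    rw [← hG] at h1260
    have : 49 ∣ 1260 := dvd_trans ⟨c, by ring⟩ h1260
    omega
  obtain ⟨S, hS⟩ := IsPGroup.nonempty_fixed_point_of_prime_not_dvd_card P.2 (Sylow 5 G) h7n5
  rw [Subgroup.sylow_mem_fixedPoints_iff] at hS
  have hcS : Nat.card (S : Subgroup G) = 5 := by
    obtain ⟨m, hm⟩ : 5 ∣ Nat.card G := dvd_trans (by norm_num) h15G
    have hm5 : ¬ 5 ∣ m := by
      rintro ⟨c, rfl⟩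
      rw [hm] at h1260
      have : 25 ∣ 1260 := dvd_trans ⟨c, by ring⟩ h1260
      omega
    have := Cfsg.Agent.Lib.Helper23.sylow_card_of_eq (p := 5) (k := 1) (m := m)
      (by rw [hm, pow_one]) hm5 S
    simpa using this
  have hrel := Cfsg.Agent.Lib.Helper23.relIndex_centralizer_normalizer_dvd_pred (p := 5)
    (S : Subgroup G) hcS
  have hdvd := relIndex_dvd_relIndex_of_normal (centralizer ((S : Subgroup G) : Set G))
    (P : Subgroup G) (normalizer ((S : Subgroup G) : Set G)) hS
    (centralizer_subgroupOf_normalizer_normal _)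
  have h4 : (centralizer ((S : Subgroup G) : Set G)).relIndex (P : Subgroup G) ∣ 4 :=
    hdvd.trans hrel
  have h7 : (centralizer ((S : Subgroup G) : Set G)).relIndex (P : Subgroup G) ∣ 7 := by
    have h0 := Subgroup.relIndex_dvd_card (centralizer ((S : Subgroup G) : Set G)) (P : Subgroup G)
    rwa [hcP] at h0
  have h1 : (centralizer ((S : Subgroup G) : Set G)).relIndex (P : Subgroup G) = 1 := by
    have := Nat.dvd_gcd h4 h7
    simpa using this
  rw [Subgroup.relIndex_eq_one, Subgroup.le_centralizer_iff] at h1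
  have h5 : 5 ∣ 14 := by
    rw [← hcS]
    exact (Subgroup.card_dvd_of_le h1).trans (card_centralizer_dvd h15 hmin P)
  omega

theorem case_odd [IsSimpleGroup G] (hnc : ¬ IsMulCommutative G) (m : ℕ)
    (h : Nat.card G = 5 * m) (hm : ¬ 5 ∣ m) (hodd : ¬ 2 ∣ Nat.card G) : False := by
  haveI : Fact (Nat.Prime 5) := ⟨by norm_num⟩
  obtain ⟨S⟩ : Nonempty (Sylow 5 G) := inferInstance
  have hcS : Nat.card (S : Subgroup G) = 5 := by
    have := Cfsg.Agent.Lib.Helper23.sylow_card_of_eq (p := 5) (k := 1) (m := m)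
      (by rw [h, pow_one]) hm S
    simpa using this
  have hrel := Cfsg.Agent.Lib.Helper23.relIndex_centralizer_normalizer_dvd_pred (p := 5)
    (S : Subgroup G) hcS
  have hodd' : ¬ 2 ∣ (centralizer ((S : Subgroup G) : Set G)).relIndex
      (normalizer ((S : Subgroup G) : Set G)) := fun h2 =>
    hodd (h2.trans ((Subgroup.relIndex_dvd_card _ _).trans (Subgroup.card_subgroup_dvd_card _)))
  have h1 : (centralizer ((S : Subgroup G) : Set G)).relIndex
      (normalizer ((S : Subgroup G) : Set G)) = 1 := by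
    have hle := Nat.le_of_dvd (by norm_num) hrel
    generalize (centralizer ((S : Subgroup G) : Set G)).relIndex
      (normalizer ((S : Subgroup G) : Set G)) = r at hrel hodd' hle
    interval_cases r <;> omega
  have hS1 : (S : Subgroup G) ≠ ⊥ := by
    intro hb
    rw [hb] at hcS
    simp at hcS
  exact Cfsg.Agent.Lib.Helper23.simple_not_normalizer_le_centralizer hnc S hS1
    (Subgroup.relIndex_eq_one.mp h1)

theorem case_two [IsSimpleGroup G] (hnc : ¬ IsMulCommutative G) (m : ℕ)
    (h : Nat.card G = 2 * m) (hm : ¬ 2 ∣ m) : False := by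
  obtain ⟨S⟩ : Nonempty (Sylow 2 G) := inferInstance
  have hcS : Nat.card (S : Subgroup G) = 2 := by
    have := Cfsg.Agent.Lib.Helper23.sylow_card_of_eq (p := 2) (k := 1) (m := m)
      (by rw [h, pow_one]) hm S
    simpa using this
  have hrel := Cfsg.Agent.Lib.Helper23.relIndex_centralizer_normalizer_dvd_pred (p := 2)
    (S : Subgroup G) hcS
  have h1 : (centralizer ((S : Subgroup G) : Set G)).relIndex
      (normalizer ((S : Subgroup G) : Set G)) = 1 := by
    simpa using hrel
  have hS1 : (S : Subgroup G) ≠ ⊥ := by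
    intro hb
    rw [hb] at hcS
    simp at hcS
  exact Cfsg.Agent.Lib.Helper23.simple_not_normalizer_le_centralizer hnc S hS1
    (Subgroup.relIndex_eq_one.mp h1)

theorem false_of_involution_centralizer [Fact (Nat.Prime 7)] (h15 : Nat.card (Sylow 7 G) = 15)
    (hmin : ∀ (K : Type u) [Group K] [Finite K], Nat.card K < Nat.card G →
      Nat.card (Sylow 7 K) ≠ 15) [IsSimpleGroup G] (hcard : 2 < Nat.card G)
    (P : Sylow 7 G) (t : G) (ht : t ∈ centralizer ((P : Subgroup G) : Set G)) (ht1 : t ≠ 1)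
    (ht2 : t ^ 2 = 1) : False := by
  classical
  haveI : Fintype (Sylow 7 G) := Fintype.ofFinite _
  have hσ : ∀ Q, MulAction.toPermHom G (Sylow 7 G) t Q = t • Q := fun Q => rfl
  have hσ1 : MulAction.toPermHom G (Sylow 7 G) t ≠ 1 := by
    intro h
    apply ht1
    apply eq_one_of_forall_smul h15 hmin
    intro Q
    rw [← hσ, h]
    rfl
  have hσ2 : (MulAction.toPermHom G (Sylow 7 G) t) ^ 2 = 1 := by
    rw [← map_pow, ht2, map_one]
  have hord : orderOf (MulAction.toPermHom G (Sylow 7 G) t) = 2 := orderOf_eq_prime hσ2 hσ1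
  have hsupp : (MulAction.toPermHom G (Sylow 7 G) t).support.card = 14 := by
    have : (MulAction.toPermHom G (Sylow 7 G) t).support = Finset.univ.erase P := by
      ext Q
      rw [Equiv.Perm.mem_support, Finset.mem_erase, hσ]
      simp only [Finset.mem_univ, and_true]
      constructor
      · intro h hQP
        apply h
        rw [hQP, Sylow.smul_eq_iff_mem_normalizer]
        exact Subgroup.centralizer_le_normalizer _ ht
      · intro hQP h
        exact hQP (eq_of_centralizer_fix h15 hmin P Q t ht ht1 h)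
    rw [this, Finset.card_erase_of_mem (Finset.mem_univ _), Finset.card_univ,
      ← Nat.card_eq_fintype_card, h15]
  obtain ⟨n, hn⟩ := Equiv.Perm.cycleType_prime_order
    (σ := MulAction.toPermHom G (Sylow 7 G) t) (by rw [hord]; norm_num)
  have hsum := Equiv.Perm.sum_cycleType (MulAction.toPermHom G (Sylow 7 G) t)
  rw [hn, hord, Multiset.sum_replicate, hsupp] at hsum
  have hn6 : n = 6 := by
    simp only [smul_eq_mul] at hsum
    omega
  have hsign : Equiv.Perm.sign (MulAction.toPermHom G (Sylow 7 G) t) = -1 := by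
    rw [Equiv.Perm.sign_of_cycleType, hn, hord, hn6]
    simp only [Multiset.sum_replicate, Multiset.card_replicate, smul_eq_mul]
    exact Odd.neg_one_pow (by decide)
  have hker := ((Equiv.Perm.sign.comp (MulAction.toPermHom G (Sylow 7 G))).normal_ker)
  rcases hker.eq_bot_or_eq_top with hb | htop
  · have hinj : Function.Injective (Equiv.Perm.sign.comp (MulAction.toPermHom G (Sylow 7 G))) :=
      (MonoidHom.ker_eq_bot_iff _).mp hb
    have := Nat.card_le_card_of_injective _ hinj
    rw [Nat.card_eq_fintype_card (α := ℤˣ), Fintype.card_units_int] at this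
    omega
  · have : t ∈ (Equiv.Perm.sign.comp (MulAction.toPermHom G (Sylow 7 G))).ker := by
      rw [htop]; trivial
    rw [MonoidHom.mem_ker, MonoidHom.comp_apply, hsign] at this
    exact absurd this (by decide)

theorem arith_aux (c r : ℕ) (hc : c ∣ 14) (hr : r ∣ 6) (h2 : ¬ 2 ∣ c) : ¬ 4 ∣ c * r * 15 := by
  have hc' := Nat.le_of_dvd (by norm_num) hc
  have hr' := Nat.le_of_dvd (by norm_num) hr
  interval_cases c <;> interval_cases r <;> omega

theorem main_false [Fact (Nat.Prime 7)] (h15 : Nat.card (Sylow 7 G) = 15)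
    (hmin : ∀ (K : Type u) [Group K] [Finite K], Nat.card K < Nat.card G →
      Nat.card (Sylow 7 K) ≠ 15) : False := by
  haveI := isSimpleGroup_of_min h15 hmin
  obtain ⟨P⟩ : Nonempty (Sylow 7 G) := inferInstance
  have hN := Cfsg.Agent.Lib.Helper23.card_normalizer_sylow_mul P
  have hC := card_centralizer_dvd h15 hmin P
  have hrel := Cfsg.Agent.Lib.Helper23.relIndex_centralizer_normalizer_dvd_pred (p := 7)
    (P : Subgroup G) (card_sylow_seven h15 hmin P)
  have hmul := card_mul_relIndex_of_le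
    (Subgroup.centralizer_le_normalizer ((P : Subgroup G) : Set G))
  rw [h15, ← hmul] at hN
  have h15G : 15 ∣ Nat.card G := ⟨_, by rw [← hN, mul_comm]⟩
  have hnp : ¬ (Nat.card G).Prime := by
    intro hp
    have h3 := (Nat.prime_dvd_prime_iff_eq Nat.prime_three hp).mp
      (dvd_trans (by norm_num : 3 ∣ 15) h15G)
    have h5 := (Nat.prime_dvd_prime_iff_eq Nat.prime_five hp).mp
      (dvd_trans (by norm_num : 5 ∣ 15) h15G)
    omega
  have hnc := Cfsg.Agent.Lib.Helper23.not_comm_of_simple_of_not_prime hnp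
  have hGpos : 2 < Nat.card G := by
    have := Nat.le_of_dvd Nat.card_pos h15G
    omega
  by_cases h2 : 2 ∣ Nat.card (centralizer ((P : Subgroup G) : Set G))
  · obtain ⟨x, hx⟩ := exists_prime_orderOf_dvd_card' 2 h2
    refine false_of_involution_centralizer h15 hmin hGpos P (x : G) x.2 ?_ ?_
    · intro h
      have : x = 1 := Subtype.ext h
      rw [this, orderOf_one] at hx
      omega
    · have := pow_orderOf_eq_one x
      rw [hx] at this
      exact_mod_cast congrArg Subtype.val this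
  · have h4 : ¬ 4 ∣ Nat.card G := by
      rw [← hN]
      exact arith_aux _ _ hC hrel h2
    have h25 : ¬ 25 ∣ Nat.card G := fun h => by
      have := h.trans (card_dvd h15 hmin)
      omega
    by_cases h2G : 2 ∣ Nat.card G
    · obtain ⟨m, hm⟩ := h2G
      refine case_two hnc m hm ?_
      rintro ⟨k, rfl⟩
      exact h4 ⟨k, by rw [hm]; ring⟩
    · obtain ⟨m, hm⟩ : 5 ∣ Nat.card G := dvd_trans (by norm_num) h15G
      refine case_odd hnc m hm ?_ h2G
      rintro ⟨k, rfl⟩
      exact h25 ⟨k, by rw [hm]; ring⟩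

end main

theorem fact_prime_seven : Fact (Nat.Prime 7) := ⟨by norm_num⟩

/-- No finite group has exactly 15 Sylow 7-subgroups. -/
theorem result {G : Type*} [Group G] [Finite G] : Nat.card (Sylow 7 G) ≠ 15 := by
  haveI := fact_prime_seven
  suffices h : ∀ n : ℕ, ∀ (H : Type _) [Group H] [Finite H], Nat.card H = n →
      Nat.card (Sylow 7 H) ≠ 15 from h _ G rfl
  intro n
  induction n using Nat.strong_induction_on with
  | _ n ih =>
    intro H _ _ hn h15
    exact main_false h15 (fun K _ _ hK => ih _ (hn ▸ hK) K rfl)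

end Cfsg.Agent.S4304
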