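import Cfsg.Statements.S1010
import Cfsg.Agent.S4304
import Cfsg.Agent.S4342
import Cfsg.Agent.Lib.Helper23.Syl
import Mathlib

set_option autoImplicit false
open Cfsg

namespace Cfsg.Agent.S1010

open Subgroup

universe u

section main
variable {G : Type u} [Group G] [Finite G]

theorem sup_eq_top_of_normal [Fact (Nat.Prime 5)] (h21 : Nat.card (Sylow 5 G) = 21)
    (hmin : ∀ (K : Type u) [Group K] [Finite K], Nat.card K < Nat.card G →
      Nat.card (Sylow 5 K) ≠ 21)
    (M : Subgroup G) [M.Normal] (hM : M ≠ ⊥) (P : Sylow 5 G) : (P : Subgroup G) ⊔ M = ⊤ := by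
  have hf : Function.Surjective (QuotientGroup.mk' M) := QuotientGroup.mk'_surjective M
  have hdvd := S4304.card_sylow_quotient_dvd 5 M
  rw [h21] at hdvd
  have hmod : Nat.card (Sylow 5 (G ⧸ M)) % 5 = 1 := card_sylow_modEq_one 5 (G ⧸ M)
  have hlt : Nat.card (G ⧸ M) < Nat.card G := by
    rw [Subgroup.card_eq_card_quotient_mul_card_subgroup M]
    have h1 : 1 < Nat.card M := by
      rw [Subgroup.one_lt_card_iff_ne_bot]; exact hM
    have h2 : 0 < Nat.card (G ⧸ M) := Nat.card_pos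
    nlinarith
  have hne := hmin (G ⧸ M) hlt
  have h1 : Nat.card (Sylow 5 (G ⧸ M)) = 1 := by
    have hle : Nat.card (Sylow 5 (G ⧸ M)) ≤ 21 := Nat.le_of_dvd (by norm_num) hdvd
    generalize Nat.card (Sylow 5 (G ⧸ M)) = k at *
    interval_cases k <;> omega
  have hsub : Subsingleton (Sylow 5 (G ⧸ M)) := (Nat.card_eq_one_iff_unique.mp h1).1
  have hall : ∀ Q : Sylow 5 G, (Q : Subgroup G) ≤ (P : Subgroup G) ⊔ M := by
    intro Q
    have h2 : Sylow.mapSurjective hf Q = Sylow.mapSurjective hf P := Subsingleton.elim _ _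
    have h3 : (Q : Subgroup G).map (QuotientGroup.mk' M) =
        (P : Subgroup G).map (QuotientGroup.mk' M) := by
      have := congrArg (fun S : Sylow 5 (G ⧸ M) => (S : Subgroup (G ⧸ M))) h2
      simpa [Sylow.coe_mapSurjective] using this
    calc (Q : Subgroup G)
        ≤ ((Q : Subgroup G).map (QuotientGroup.mk' M)).comap (QuotientGroup.mk' M) :=
          Subgroup.le_comap_map _ _
      _ = ((P : Subgroup G).map (QuotientGroup.mk' M)).comap (QuotientGroup.mk' M) := by rw [h3]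
      _ = (P : Subgroup G) ⊔ M := by rw [Subgroup.comap_map_eq, QuotientGroup.ker_mk']
  have hL := S4304.card_sylow_of_forall_le 5 _ hall
  rw [h21] at hL
  by_contra hne'
  have hlt2 : Nat.card ((P : Subgroup G) ⊔ M : Subgroup G) < Nat.card G := by
    refine lt_of_le_of_ne (Subgroup.card_le_card_group _) ?_
    intro h
    exact hne' ((Subgroup.card_eq_iff_eq_top _).mp h)
  exact hmin _ hlt2 hL

theorem orbit_and_relIndex [Fact (Nat.Prime 5)] (h21 : Nat.card (Sylow 5 G) = 21)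
    (P Q : Sylow 5 G) (hPQ : P ≠ Q) :
    P ∉ MulAction.orbit (P : Subgroup G) Q ∧
    (MulAction.orbit (P : Subgroup G) Q).ncard = 5 ∧
      ((P : Subgroup G) ⊓ Q).relIndex P = 5 := by
  have hstab : MulAction.stabilizer (P : Subgroup G) Q =
      ((P : Subgroup G) ⊓ Q).subgroupOf P := by
    ext x
    rw [MulAction.mem_stabilizer_iff, Subgroup.mem_subgroupOf, Subgroup.smul_def,
      Sylow.smul_eq_iff_mem_normalizer, ← IsPGroup.inf_normalizer_sylow P.2 Q]
    constructor
    · intro h; exact ⟨x.2, h⟩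
    · intro h; exact h.2
  have hidx : ((P : Subgroup G) ⊓ Q).relIndex P = (MulAction.orbit (P : Subgroup G) Q).ncard := by
    rw [Subgroup.relIndex, ← hstab, MulAction.index_stabilizer]
  have hnotmem : P ∉ MulAction.orbit (P : Subgroup G) Q := by
    rintro ⟨x, hx⟩
    apply hPQ
    have h1 : (x : G)⁻¹ • P = P := by
      rw [Sylow.smul_eq_iff_mem_normalizer]
      exact Subgroup.le_normalizer (inv_mem x.2)
    have h2 : (x : G) • Q = P := hx
    calc P = (x : G)⁻¹ • P := h1.symm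
      _ = (x : G)⁻¹ • ((x : G) • Q) := by rw [h2]
      _ = Q := inv_smul_smul _ _
  obtain ⟨n, hn⟩ := IsPGroup.card_orbit P.2 Q
  rw [Nat.card_coe_set_eq] at hn
  have hle : (MulAction.orbit (P : Subgroup G) Q).ncard + 1 ≤ 21 := by
    rw [← Set.ncard_insert_of_notMem hnotmem (Set.toFinite _), ← h21]
    exact Set.ncard_le_card _
  have hne1 : (MulAction.orbit (P : Subgroup G) Q).ncard ≠ 1 := by
    intro h1
    rw [← hidx, Subgroup.relIndex_eq_one] at h1
    exact hPQ (S4304.sylow_eq_of_le (h1.trans inf_le_right))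
  have h5 : (MulAction.orbit (P : Subgroup G) Q).ncard = 5 := by
    rw [hn] at hle hne1 ⊢
    rcases n with _ | _ | n
    · simp at hne1
    · simp
    · have : 5 ^ 2 ≤ 5 ^ (n + 1 + 1) := Nat.pow_le_pow_right (by norm_num) (by omega)
      omega
  exact ⟨hnotmem, h5, hidx.trans h5⟩

theorem card_inf_mul [Fact (Nat.Prime 5)] (h21 : Nat.card (Sylow 5 G) = 21)
    (P Q : Sylow 5 G) (hPQ : P ≠ Q) :
    Nat.card ((P : Subgroup G) ⊓ Q : Subgroup G) * 5 = Nat.card (P : Subgroup G) := by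
  have h := S4304.card_mul_relIndex_of_le (inf_le_left : (P : Subgroup G) ⊓ Q ≤ P)
  rwa [(orbit_and_relIndex h21 P Q hPQ).2.2] at h

theorem conj_mem_inf [Fact (Nat.Prime 5)] (h21 : Nat.card (Sylow 5 G) = 21)
    (P Q : Sylow 5 G) (hPQ : P ≠ Q) (x d : G) (hx : x ∈ (P : Subgroup G))
    (hd : d ∈ (P : Subgroup G) ⊓ Q) : x⁻¹ * d * x ∈ (P : Subgroup G) ⊓ Q := by
  have hidx := (orbit_and_relIndex h21 P Q hPQ).2.2
  have hcard := card_inf_mul h21 P Q hPQ
  have hnorm : (((P : Subgroup G) ⊓ Q).subgroupOf P).Normal := by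
    apply Subgroup.normal_of_index_eq_minFac_card
    have h1 : ((P : Subgroup G) ⊓ Q).relIndex P = (((P : Subgroup G) ⊓ Q).subgroupOf P).index := rfl
    rw [← h1, hidx]
    obtain ⟨n, hn⟩ := (IsPGroup.iff_card.mp P.2)
    rw [hn]
    have hn0 : n ≠ 0 := by
      rintro rfl
      rw [hn] at hcard
      omega
    rw [Nat.Prime.pow_minFac (by norm_num) hn0]
  have := hnorm.conj_mem ⟨d, hd.1⟩ (Subgroup.mem_subgroupOf.mpr hd) ⟨x⁻¹, inv_mem hx⟩
  rw [Subgroup.mem_subgroupOf] at this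
  simpa using this

theorem inf_le_of_ne [Fact (Nat.Prime 5)] (h21 : Nat.card (Sylow 5 G) = 21)
    (P Q R : Sylow 5 G) (hQ : Q ≠ P) (hR : R ≠ P) : (P : Subgroup G) ⊓ R ≤ Q := by
  by_contra hcon
  obtain ⟨x, hx, hxQ⟩ := SetLike.not_le_iff_exists.mp hcon
  have hQR : Q ≠ R := by
    rintro rfl
    exact hxQ hx.2
  have hQ' : x • Q ≠ Q := by
    intro h
    rw [Sylow.smul_eq_iff_mem_normalizer] at h
    have h2 : x ∈ (P : Subgroup G) ⊓ normalizer (Q : Set G) := ⟨hx.1, h⟩
    rw [IsPGroup.inf_normalizer_sylow P.2 Q] at h2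
    exact hxQ h2.2
  have c1 := card_inf_mul h21 P Q hQ.symm
  have c2 := card_inf_mul h21 Q (x • Q) hQ'.symm
  have c3 := card_inf_mul h21 R Q hQR.symm
  have c4 := card_inf_mul h21 P R hR.symm
  have e1 := S4304.sylow_card_eq P Q
  have e2 := S4304.sylow_card_eq P R
  have hD1 : (P : Subgroup G) ⊓ Q = (Q : Subgroup G) ⊓ (x • Q : Sylow 5 G) := by
    apply Subgroup.eq_of_le_of_card_ge
    · intro d hd
      refine Subgroup.mem_inf.mpr ⟨hd.2, ?_⟩
      rw [S4304.mem_smul_sylow]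
      exact (conj_mem_inf h21 P Q hQ.symm x d hx.1 hd).2
    · omega
  have hE : (R : Subgroup G) ⊓ Q = (Q : Subgroup G) ⊓ (x • Q : Sylow 5 G) := by
    apply Subgroup.eq_of_le_of_card_ge
    · intro d hd
      refine Subgroup.mem_inf.mpr ⟨hd.2, ?_⟩
      rw [S4304.mem_smul_sylow]
      exact (conj_mem_inf h21 R Q hQR.symm x d hx.2 hd).2
    · omega
  have hD2 : (P : Subgroup G) ⊓ Q = (P : Subgroup G) ⊓ R := by
    apply Subgroup.eq_of_le_of_card_ge
    · intro d hd
      refine Subgroup.mem_inf.mpr ⟨hd.1, ?_⟩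
      have : d ∈ (R : Subgroup G) ⊓ Q := by rw [hE, ← hD1]; exact hd
      exact this.1
    · omega
  rw [← hD2] at hx
  exact hxQ hx.2

theorem inf_eq_bot [Fact (Nat.Prime 5)] (h21 : Nat.card (Sylow 5 G) = 21)
    (hmin : ∀ (K : Type u) [Group K] [Finite K], Nat.card K < Nat.card G →
      Nat.card (Sylow 5 K) ≠ 21)
    (P Q : Sylow 5 G) (hPQ : P ≠ Q) : (P : Subgroup G) ⊓ Q = ⊥ := by
  have hle : (P : Subgroup G) ⊓ Q ≤ (P : Subgroup G).normalCore := by
    intro x hx b
    have hxR : x ∈ ((b⁻¹ • P : Sylow 5 G) : Subgroup G) := by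
      by_cases hR : b⁻¹ • P = P
      · rw [hR]; exact hx.1
      · exact inf_le_of_ne h21 P (b⁻¹ • P) Q hR hPQ.symm hx
    rw [S4304.mem_smul_sylow, inv_inv] at hxR
    exact hxR
  have hO : (P : Subgroup G).normalCore = ⊥ := by
    by_contra hne
    have h1 := sup_eq_top_of_normal h21 hmin (P : Subgroup G).normalCore hne P
    rw [sup_eq_left.mpr (Subgroup.normalCore_le _)] at h1
    apply hPQ
    symm
    apply S4304.sylow_eq_of_le
    rw [h1]
    exact le_top
  rw [hO] at hle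
  exact le_bot_iff.mp hle

theorem card_sylow_five [Fact (Nat.Prime 5)] (h21 : Nat.card (Sylow 5 G) = 21)
    (hmin : ∀ (K : Type u) [Group K] [Finite K], Nat.card K < Nat.card G →
      Nat.card (Sylow 5 K) ≠ 21)
    (P : Sylow 5 G) : Nat.card (P : Subgroup G) = 5 := by
  have hnt : Nontrivial (Sylow 5 G) := by
    rw [← Finite.one_lt_card_iff_nontrivial, h21]
    norm_num
  obtain ⟨Q, hQ⟩ := exists_ne P
  have h := card_inf_mul h21 P Q hQ.symm
  rw [inf_eq_bot h21 hmin P Q hQ.symm] at h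
  simpa using h.symm

theorem eq_one_of_forall_smul [Fact (Nat.Prime 5)] (h21 : Nat.card (Sylow 5 G) = 21)
    (hmin : ∀ (K : Type u) [Group K] [Finite K], Nat.card K < Nat.card G →
      Nat.card (Sylow 5 K) ≠ 21)
    (g : G) (hg : ∀ Q : Sylow 5 G, g • Q = Q) : g = 1 := by
  have hmem : ∀ k : G, k ∈ (MulAction.toPermHom G (Sylow 5 G)).ker ↔
      ∀ Q : Sylow 5 G, k • Q = Q := by
    intro k
    rw [MonoidHom.mem_ker, Equiv.Perm.ext_iff]
    rfl
  by_contra hg1
  have hK : (MulAction.toPermHom G (Sylow 5 G)).ker ≠ ⊥ := by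
    intro hbot
    have : g ∈ (MulAction.toPermHom G (Sylow 5 G)).ker := (hmem g).mpr hg
    rw [hbot, Subgroup.mem_bot] at this
    exact hg1 this
  obtain ⟨P⟩ : Nonempty (Sylow 5 G) := inferInstance
  have htop := sup_eq_top_of_normal h21 hmin _ hK P
  have hle : (P : Subgroup G) ⊔ (MulAction.toPermHom G (Sylow 5 G)).ker ≤ normalizer (P : Set G) := by
    refine sup_le Subgroup.le_normalizer ?_
    intro k hk
    exact Sylow.smul_eq_iff_mem_normalizer.mp ((hmem k).mp hk P)
  rw [htop] at hle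
  have hidx := Sylow.card_eq_index_normalizer P
  rw [top_le_iff.mp hle, Subgroup.index_top, h21] at hidx
  omega

theorem twentyone_dvd_card [Fact (Nat.Prime 5)] (h21 : Nat.card (Sylow 5 G) = 21) :
    21 ∣ Nat.card G := by
  obtain ⟨P⟩ : Nonempty (Sylow 5 G) := inferInstance
  have hN := Cfsg.Agent.Lib.Helper23.card_normalizer_sylow_mul P
  rw [h21] at hN
  exact ⟨_, by rw [← hN, mul_comm]⟩

theorem pow_five_eq_one [Fact (Nat.Prime 5)] (h21 : Nat.card (Sylow 5 G) = 21)
    (hmin : ∀ (K : Type u) [Group K] [Finite K], Nat.card K < Nat.card G →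
      Nat.card (Sylow 5 K) ≠ 21)
    (P : Sylow 5 G) (x : G) (hx : x ∈ (P : Subgroup G)) : x ^ 5 = 1 := by
  have h1 : (⟨x, hx⟩ : (P : Subgroup G)) ^ Nat.card (P : Subgroup G) = 1 := pow_card_eq_one'
  rw [card_sylow_five h21 hmin P] at h1
  exact congrArg Subtype.val h1

/-- every element acts on the Sylow 5-subgroups as an even permutation; hence an involution
has a number of fixed points congruent to `1` mod `4` -/
theorem fix_mod_four [Fact (Nat.Prime 5)] (h21 : Nat.card (Sylow 5 G) = 21)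
    (hmin : ∀ (K : Type u) [Group K] [Finite K], Nat.card K < Nat.card G →
      Nat.card (Sylow 5 K) ≠ 21)
    (w : G) (hw1 : w ≠ 1) (hw2 : w ^ 2 = 1) :
    (MulAction.fixedBy (Sylow 5 G) w).ncard % 4 = 1 := by
  classical
  haveI : Fintype (Sylow 5 G) := Fintype.ofFinite _
  have hker : (Equiv.Perm.sign.comp (MulAction.toPermHom G (Sylow 5 G))).ker = ⊤ := by
    obtain ⟨P⟩ : Nonempty (Sylow 5 G) := inferInstance
    have hne : (Equiv.Perm.sign.comp (MulAction.toPermHom G (Sylow 5 G))).ker ≠ ⊥ := by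
      intro hb
      have hinj : Function.Injective (Equiv.Perm.sign.comp (MulAction.toPermHom G (Sylow 5 G))) :=
        (MonoidHom.ker_eq_bot_iff _).mp hb
      have h1 := Nat.card_le_card_of_injective _ hinj
      rw [Nat.card_eq_fintype_card (α := ℤˣ), Fintype.card_units_int] at h1
      have h2 := Nat.le_of_dvd Nat.card_pos (twentyone_dvd_card h21)
      omega
    have hsup := sup_eq_top_of_normal h21 hmin _ hne P
    have hle : (P : Subgroup G) ≤ (Equiv.Perm.sign.comp (MulAction.toPermHom G (Sylow 5 G))).ker := by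
      intro x hx
      rw [MonoidHom.mem_ker]
      have h5 : x ^ 5 = 1 := pow_five_eq_one h21 hmin P x hx
      have h6 : (Equiv.Perm.sign.comp (MulAction.toPermHom G (Sylow 5 G))) x ^ 5 = 1 := by
        rw [← map_pow, h5, map_one]
      rcases Int.units_eq_one_or ((Equiv.Perm.sign.comp (MulAction.toPermHom G (Sylow 5 G))) x)
        with h | h
      · exact h
      · rw [h] at h6; exact absurd h6 (by decide)
    rwa [sup_eq_right.mpr hle] at hsup
  have hsign : Equiv.Perm.sign (MulAction.toPermHom G (Sylow 5 G) w) = 1 := by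
    have : w ∈ (Equiv.Perm.sign.comp (MulAction.toPermHom G (Sylow 5 G))).ker := by
      rw [hker]; trivial
    exact MonoidHom.mem_ker.mp this
  have hσ : ∀ Q, MulAction.toPermHom G (Sylow 5 G) w Q = w • Q := fun Q => rfl
  have hσ1 : MulAction.toPermHom G (Sylow 5 G) w ≠ 1 := by
    intro h
    apply hw1
    apply eq_one_of_forall_smul h21 hmin
    intro Q
    rw [← hσ, h]
    rfl
  have hσ2 : (MulAction.toPermHom G (Sylow 5 G) w) ^ 2 = 1 := by
    rw [← map_pow, hw2, map_one]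
  have hord : orderOf (MulAction.toPermHom G (Sylow 5 G) w) = 2 := orderOf_eq_prime hσ2 hσ1
  have hsupp : (MulAction.toPermHom G (Sylow 5 G) w).support.card +
      (MulAction.fixedBy (Sylow 5 G) w).ncard = 21 := by
    have h1 : (MulAction.fixedBy (Sylow 5 G) w).ncard =
        (Finset.univ.filter (fun Q : Sylow 5 G => w • Q = Q)).card := by
      rw [← Set.ncard_coe_finset]
      congr 1
      ext Q
      simp [MulAction.mem_fixedBy]
    have h2 : (MulAction.toPermHom G (Sylow 5 G) w).support =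
        Finset.univ.filter (fun Q : Sylow 5 G => ¬ w • Q = Q) := by
      ext Q
      simp [Equiv.Perm.mem_support, hσ]
    rw [h1, h2, add_comm, Finset.card_filter_add_card_filter_not, Finset.card_univ,
      ← Nat.card_eq_fintype_card, h21]
  obtain ⟨n, hn⟩ := Equiv.Perm.cycleType_prime_order
    (σ := MulAction.toPermHom G (Sylow 5 G) w) (by rw [hord]; norm_num)
  have hsum := Equiv.Perm.sum_cycleType (MulAction.toPermHom G (Sylow 5 G) w)
  rw [hn, hord, Multiset.sum_replicate] at hsum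
  rw [Equiv.Perm.sign_of_cycleType, hn, hord] at hsign
  simp only [Multiset.sum_replicate, Multiset.card_replicate, smul_eq_mul] at hsign hsum
  have heven : Even (n + 1) := by
    by_contra hodd
    rw [Nat.not_even_iff_odd] at hodd
    have h3 : Odd ((n + 1) * 2 + (n + 1)) := by
      obtain ⟨m, hm⟩ := hodd
      exact ⟨3 * m + 1, by omega⟩
    rw [h3.neg_one_pow] at hsign
    exact absurd hsign (by decide)
  obtain ⟨m, hm⟩ := heven
  omega

/-- an element centralizing a Sylow 5-subgroup has `1` mod `5` fixed points -/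
theorem fix_mod_five [Fact (Nat.Prime 5)] (P : Sylow 5 G) (y : G)
    (hy : y ∈ centralizer ((P : Subgroup G) : Set G)) :
    (MulAction.fixedBy (Sylow 5 G) y).ncard % 5 = 1 := by
  have hPy : y • P = P := by
    rw [Sylow.smul_eq_iff_mem_normalizer]
    exact Subgroup.centralizer_le_normalizer _ hy
  let S : SubMulAction (P : Subgroup G) (Sylow 5 G) :=
    { carrier := MulAction.fixedBy (Sylow 5 G) y
      smul_mem' := by
        intro x R hR
        show y • ((x : G) • R) = (x : G) • R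
        have hxy : (x : G) * y = y * x := Subgroup.mem_centralizer_iff.mp hy x x.2
        have hR' : y • R = R := hR
        rw [← mul_smul, ← hxy, mul_smul, hR'] }
  have h := IsPGroup.card_modEq_card_fixedPoints (p := 5) P.2 S
  have hfp : MulAction.fixedPoints (P : Subgroup G) S = {⟨P, hPy⟩} := by
    ext ⟨R, hR⟩
    rw [Set.mem_singleton_iff, MulAction.mem_fixedPoints]
    constructor
    · intro hfix
      have h1 : R ∈ MulAction.fixedPoints (P : Subgroup G) (Sylow 5 G) := by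
        intro x
        have := congrArg Subtype.val (hfix x)
        exact this
      rw [P.2.sylow_mem_fixedPoints_iff] at h1
      have : P = R := S4304.sylow_eq_of_le h1
      subst this
      rfl
    · intro hRP x
      have hRP' : R = P := congrArg Subtype.val hRP
      subst hRP'
      apply Subtype.ext
      show (x : G) • R = R
      rw [Sylow.smul_eq_iff_mem_normalizer]
      exact Subgroup.le_normalizer x.2
  have h2 : Nat.card S = (MulAction.fixedBy (Sylow 5 G) y).ncard := Nat.card_coe_set_eq _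
  rw [hfp, Nat.card_coe_set_eq, Set.ncard_singleton, h2] at h
  exact h

/-- a `q`-element has as many fixed points as `21` mod `q` -/
theorem fix_modEq_of_pow (q : ℕ) [Fact q.Prime] (y : G) (k : ℕ) (hy : y ^ q ^ k = 1) :
    Nat.card (Sylow 5 G) ≡ (MulAction.fixedBy (Sylow 5 G) y).ncard [MOD q] := by
  have hp : IsPGroup q (zpowers y) := by
    rintro ⟨g, hg⟩
    obtain ⟨j, rfl⟩ := Subgroup.mem_zpowers_iff.mp hg
    refine ⟨k, Subtype.ext ?_⟩
    show (y ^ j) ^ q ^ k = 1
    rw [← zpow_natCast, ← zpow_mul, mul_comm, zpow_mul, zpow_natCast, hy, one_zpow]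
  have h := IsPGroup.card_modEq_card_fixedPoints hp (Sylow 5 G)
  have hfp : MulAction.fixedPoints (zpowers y) (Sylow 5 G) = MulAction.fixedBy (Sylow 5 G) y := by
    ext Q
    rw [MulAction.mem_fixedPoints, MulAction.mem_fixedBy]
    constructor
    · intro h; exact h ⟨y, Subgroup.mem_zpowers y⟩
    · rintro h ⟨g, hg⟩
      obtain ⟨j, rfl⟩ := Subgroup.mem_zpowers_iff.mp hg
      exact MulAction.mem_fixedBy_zpow h j
  rw [hfp, Nat.card_coe_set_eq] at h
  exact h

theorem fix_lt [Fact (Nat.Prime 5)] (h21 : Nat.card (Sylow 5 G) = 21)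
    (hmin : ∀ (K : Type u) [Group K] [Finite K], Nat.card K < Nat.card G →
      Nat.card (Sylow 5 K) ≠ 21)
    (y : G) (hy1 : y ≠ 1) : (MulAction.fixedBy (Sylow 5 G) y).ncard < 21 := by
  by_contra hcon
  push Not at hcon
  apply hy1
  apply eq_one_of_forall_smul h21 hmin
  have huniv : MulAction.fixedBy (Sylow 5 G) y = Set.univ := by
    rw [Set.eq_univ_iff_ncard, h21]
    have := Set.ncard_le_card (MulAction.fixedBy (Sylow 5 G) y)
    rw [h21] at this
    omega
  intro Q
  have : Q ∈ MulAction.fixedBy (Sylow 5 G) y := by rw [huniv]; trivial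
  exact this

theorem exists_pow_prime_order {y : G} (q k : ℕ) (hq : q.Prime) (hy1 : y ≠ 1)
    (hy : y ^ q ^ k = 1) : ∃ j : ℕ, y ^ j ≠ 1 ∧ (y ^ j) ^ q = 1 := by
  have hdvd : orderOf y ∣ q ^ k := orderOf_dvd_of_pow_eq_one hy
  obtain ⟨m, hm, hord⟩ := (Nat.dvd_prime_pow hq).mp hdvd
  have hm0 : m ≠ 0 := by
    rintro rfl
    rw [pow_zero, orderOf_eq_one_iff] at hord
    exact hy1 hord
  obtain ⟨m', rfl⟩ := Nat.exists_eq_succ_of_ne_zero hm0
  refine ⟨q ^ m', ?_, ?_⟩
  · apply pow_ne_one_of_lt_orderOf (pow_ne_zero _ hq.ne_zero)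
    rw [hord]
    exact Nat.pow_lt_pow_right hq.one_lt (Nat.lt_succ_self _)
  · rw [← pow_mul, ← pow_succ, ← hord, pow_orderOf_eq_one]

/-- a nontrivial `2`-element centralizing a Sylow 5-subgroup `P` fixes only `P` -/
theorem eq_of_two_fix [Fact (Nat.Prime 5)] (h21 : Nat.card (Sylow 5 G) = 21)
    (hmin : ∀ (K : Type u) [Group K] [Finite K], Nat.card K < Nat.card G →
      Nat.card (Sylow 5 K) ≠ 21)
    (P Q : Sylow 5 G) (y : G)
    (hy : y ∈ centralizer ((P : Subgroup G) : Set G)) (hy1 : y ≠ 1) (k : ℕ)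
    (hyk : y ^ 2 ^ k = 1) (hyQ : y • Q = Q) : Q = P := by
  obtain ⟨j, hj1, hj2⟩ := exists_pow_prime_order 2 k Nat.prime_two hy1 hyk
  have hjC : y ^ j ∈ centralizer ((P : Subgroup G) : Set G) := pow_mem hy j
  have h4 := fix_mod_four h21 hmin (y ^ j) hj1 hj2
  have h5 := fix_mod_five P (y ^ j) hjC
  have hlt := fix_lt h21 hmin (y ^ j) hj1
  have h1 : (MulAction.fixedBy (Sylow 5 G) (y ^ j)).ncard = 1 := by omega
  rw [Set.ncard_eq_one] at h1
  obtain ⟨R, hR⟩ := h1
  have hyP : y • P = P := by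
    rw [Sylow.smul_eq_iff_mem_normalizer]
    exact Subgroup.centralizer_le_normalizer _ hy
  have hP : P ∈ MulAction.fixedBy (Sylow 5 G) (y ^ j) := S4304.pow_smul_eq_self y P hyP j
  have hQ : Q ∈ MulAction.fixedBy (Sylow 5 G) (y ^ j) := S4304.pow_smul_eq_self y Q hyQ j
  rw [hR, Set.mem_singleton_iff] at hP hQ
  exact hQ.trans hP.symm

/-- a nontrivial `3`-element centralizing a Sylow 5-subgroup has exactly six fixed points -/
theorem fix_three [Fact (Nat.Prime 5)] (h21 : Nat.card (Sylow 5 G) = 21)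
    (hmin : ∀ (K : Type u) [Group K] [Finite K], Nat.card K < Nat.card G →
      Nat.card (Sylow 5 K) ≠ 21)
    (P : Sylow 5 G) (y : G)
    (hy : y ∈ centralizer ((P : Subgroup G) : Set G)) (hy1 : y ≠ 1) (k : ℕ)
    (hyk : y ^ 3 ^ k = 1) : (MulAction.fixedBy (Sylow 5 G) y).ncard = 6 := by
  haveI : Fact (Nat.Prime 3) := ⟨Nat.prime_three⟩
  have h3 := fix_modEq_of_pow 3 y k hyk
  rw [h21] at h3
  have h5 := fix_mod_five P y hy
  have hlt := fix_lt h21 hmin y hy1
  unfold Nat.ModEq at h3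
  omega

theorem prime_cases [Fact (Nat.Prime 5)] (h21 : Nat.card (Sylow 5 G) = 21)
    (hmin : ∀ (K : Type u) [Group K] [Finite K], Nat.card K < Nat.card G →
      Nat.card (Sylow 5 K) ≠ 21)
    (P : Sylow 5 G) (y : G)
    (hy : y ∈ centralizer ((P : Subgroup G) : Set G)) (hy1 : y ≠ 1) (r : ℕ) (hr : r.Prime)
    (hyr : y ^ r = 1) : r = 2 ∨ r = 3 ∨ r = 5 := by
  haveI : Fact r.Prime := ⟨hr⟩
  have h3 := fix_modEq_of_pow r y 1 (by rwa [pow_one])
  rw [h21] at h3
  have h5 := fix_mod_five P y hy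
  have hlt := fix_lt h21 hmin y hy1
  have hdvd : r ∣ 21 - (MulAction.fixedBy (Sylow 5 G) y).ncard :=
    (Nat.modEq_iff_dvd' hlt.le).mp h3.symm
  have h60 : 21 - (MulAction.fixedBy (Sylow 5 G) y).ncard ∣ 60 := by
    generalize (MulAction.fixedBy (Sylow 5 G) y).ncard = f at *
    have : f = 1 ∨ f = 6 ∨ f = 11 ∨ f = 16 := by omega
    rcases this with rfl | rfl | rfl | rfl <;> norm_num
  have hr60 : r ∣ 2 * 2 * 3 * 5 := hdvd.trans h60
  rcases (Nat.Prime.dvd_mul hr).mp hr60 with h | h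
  · rcases (Nat.Prime.dvd_mul hr).mp h with h | h
    · rcases (Nat.Prime.dvd_mul hr).mp h with h | h
      · exact Or.inl ((Nat.prime_dvd_prime_iff_eq hr Nat.prime_two).mp h)
      · exact Or.inl ((Nat.prime_dvd_prime_iff_eq hr Nat.prime_two).mp h)
    · exact Or.inr (Or.inl ((Nat.prime_dvd_prime_iff_eq hr Nat.prime_three).mp h))
  · exact Or.inr (Or.inr ((Nat.prime_dvd_prime_iff_eq hr Nat.prime_five).mp h))

/-- an element centralizing `P` and preserving every `P`-orbit lies in `P` -/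
theorem mem_of_orbit_fix [Fact (Nat.Prime 5)] (h21 : Nat.card (Sylow 5 G) = 21)
    (hmin : ∀ (K : Type u) [Group K] [Finite K], Nat.card K < Nat.card G →
      Nat.card (Sylow 5 K) ≠ 21)
    (P : Sylow 5 G) (y : G)
    (hy : y ∈ centralizer ((P : Subgroup G) : Set G))
    (h : ∀ R : Sylow 5 G, ∃ x ∈ (P : Subgroup G), y • R = x • R) : y ∈ (P : Subgroup G) := by
  have hcomm : ∀ k : ℕ, ∀ x ∈ (P : Subgroup G), x * y ^ k = y ^ k * x := by
    intro k x hx
    have h1 : x * y = y * x := Subgroup.mem_centralizer_iff.mp hy x hx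
    exact (Commute.pow_right h1 k)
  have hy5 : y ^ 5 = 1 := by
    apply eq_one_of_forall_smul h21 hmin
    intro R
    obtain ⟨x, hx, hxR⟩ := h R
    have hpow : ∀ k : ℕ, y ^ k • R = x ^ k • R := by
      intro k
      induction k with
      | zero => simp
      | succ k ih =>
        rw [pow_succ, mul_smul, hxR, ← mul_smul, ← hcomm k x hx, mul_smul, ih, ← mul_smul,
          ← pow_succ']
    rw [hpow, pow_five_eq_one h21 hmin P x hx, one_smul]
  have hp : IsPGroup 5 (zpowers y) := by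
    rintro ⟨g, hg⟩
    obtain ⟨j, rfl⟩ := Subgroup.mem_zpowers_iff.mp hg
    refine ⟨1, Subtype.ext ?_⟩
    show (y ^ j) ^ 5 ^ 1 = 1
    rw [pow_one, ← zpow_natCast, ← zpow_mul, mul_comm, zpow_mul, zpow_natCast, hy5, one_zpow]
  have h1 : y ∈ zpowers y ⊓ normalizer (P : Set G) :=
    ⟨Subgroup.mem_zpowers y, Subgroup.centralizer_le_normalizer _ hy⟩
  rw [IsPGroup.inf_normalizer_sylow hp P] at h1
  exact h1.2

/-- Burnside counting: if all nonidentity elements of `A` have exactly `c` fixed points,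
then `|A|` divides `21 - c` -/
theorem card_dvd_of_fix (h21 : Nat.card (Sylow 5 G) = 21) (A : Subgroup G) (c : ℕ)
    (hc : c ≤ 21)
    (hfix : ∀ a ∈ A, a ≠ 1 → (MulAction.fixedBy (Sylow 5 G) a).ncard = c) :
    Nat.card A ∣ 21 - c := by
  classical
  haveI : Fintype A := Fintype.ofFinite _
  haveI : Fintype (Quotient (MulAction.orbitRel A (Sylow 5 G))) := Fintype.ofFinite _
  haveI : ∀ a : A, Fintype (MulAction.fixedBy (Sylow 5 G) a) := fun a => Fintype.ofFinite _
  have hb := MulAction.sum_card_fixedBy_eq_card_orbits_mul_card_group A (Sylow 5 G)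
  have hfix' : ∀ a : A, Fintype.card (MulAction.fixedBy (Sylow 5 G) a) =
      c + if a = 1 then 21 - c else 0 := by
    intro a
    rw [← Nat.card_eq_fintype_card, Nat.card_coe_set_eq]
    split_ifs with h
    · subst h
      have : MulAction.fixedBy (Sylow 5 G) (1 : A) = Set.univ := by
        ext Q
        simp
      rw [this, Set.ncard_univ, h21]
      omega
    · have h1 : (a : G) ≠ 1 := fun h1 => h (Subtype.ext h1)
      have h2 := hfix a a.2 h1
      rw [add_zero]
      exact h2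
  simp_rw [hfix'] at hb
  rw [Finset.sum_add_distrib, Finset.sum_ite_eq' Finset.univ (1 : A)] at hb
  simp only [Finset.sum_const, Finset.card_univ, smul_eq_mul, Finset.mem_univ,
    if_true] at hb
  rw [Nat.card_eq_fintype_card]
  exact (Nat.dvd_add_right (Dvd.intro _ rfl)).mp ⟨_, by rw [hb, mul_comm]⟩

theorem card_centralizer_dvd [Fact (Nat.Prime 5)] (h21 : Nat.card (Sylow 5 G) = 21)
    (hmin : ∀ (K : Type u) [Group K] [Finite K], Nat.card K < Nat.card G →
      Nat.card (Sylow 5 K) ≠ 21) (P : Sylow 5 G) :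
    Nat.card (centralizer ((P : Subgroup G) : Set G)) ∣ 60 := by
  rw [Nat.dvd_iff_prime_pow_dvd_dvd]
  intro r k hr hdvd
  haveI : Fact r.Prime := ⟨hr⟩
  obtain ⟨K, hK⟩ := Sylow.exists_subgroup_card_pow_prime r hdvd
  have hAcard : Nat.card (K.map (centralizer ((P : Subgroup G) : Set G)).subtype) = r ^ k := by
    rw [Subgroup.card_map_of_injective (Subgroup.subtype_injective _)]
    exact hK
  have hAle : K.map (centralizer ((P : Subgroup G) : Set G)).subtype ≤
      centralizer ((P : Subgroup G) : Set G) := Subgroup.map_subtype_le K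
  generalize K.map (centralizer ((P : Subgroup G) : Set G)).subtype = A at hAcard hAle
  have hpow : ∀ a ∈ A, a ^ r ^ k = 1 := by
    intro a ha
    have h1 : (⟨a, ha⟩ : A) ^ Nat.card A = 1 := pow_card_eq_one'
    rw [hAcard] at h1
    exact congrArg Subtype.val h1
  rcases Nat.eq_zero_or_pos k with rfl | hkpos
  · simp
  have hrdvd : r ∣ Nat.card A := by rw [hAcard]; exact dvd_pow_self r hkpos.ne'
  obtain ⟨x, hx⟩ := exists_prime_orderOf_dvd_card' r hrdvd
  have hx1 : (x : G) ≠ 1 := by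
    intro h
    have : x = 1 := Subtype.ext h
    rw [this, orderOf_one] at hx
    exact hr.one_lt.ne hx
  have hxr : (x : G) ^ r = 1 := by
    have := pow_orderOf_eq_one x
    rw [hx] at this
    exact_mod_cast congrArg Subtype.val this
  rcases prime_cases h21 hmin P (x : G) (hAle x.2) hx1 r hr hxr with rfl | rfl | rfl
  · have h20 : Nat.card A ∣ 21 - 1 := by
      refine card_dvd_of_fix h21 A 1 (by norm_num) (fun a ha ha1 => ?_)
      have : MulAction.fixedBy (Sylow 5 G) a = {P} := by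
        ext Q
        rw [MulAction.mem_fixedBy, Set.mem_singleton_iff]
        constructor
        · intro hQ
          exact eq_of_two_fix h21 hmin P Q a (hAle ha) ha1 k (hpow a ha) hQ
        · rintro rfl
          rw [Sylow.smul_eq_iff_mem_normalizer]
          exact Subgroup.centralizer_le_normalizer _ (hAle ha)
      rw [this, Set.ncard_singleton]
    rw [hAcard] at h20
    exact h20.trans (by norm_num)
  · have h15 : Nat.card A ∣ 21 - 6 := by
      refine card_dvd_of_fix h21 A 6 (by norm_num) (fun a ha ha1 => ?_)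
      exact fix_three h21 hmin P a (hAle ha) ha1 k (hpow a ha)
    rw [hAcard] at h15
    exact h15.trans (by norm_num)
  · have hp : IsPGroup 5 A := IsPGroup.of_card hAcard
    obtain ⟨Q, hQ⟩ := hp.exists_le_sylow
    have := Subgroup.card_dvd_of_le hQ
    rw [hAcard, card_sylow_five h21 hmin Q] at this
    exact this.trans (by norm_num)

theorem card_dvd [Fact (Nat.Prime 5)] (h21 : Nat.card (Sylow 5 G) = 21)
    (hmin : ∀ (K : Type u) [Group K] [Finite K], Nat.card K < Nat.card G →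
      Nat.card (Sylow 5 K) ≠ 21) : Nat.card G ∣ 5040 := by
  obtain ⟨P⟩ : Nonempty (Sylow 5 G) := inferInstance
  have hN := Cfsg.Agent.Lib.Helper23.card_normalizer_sylow_mul P
  have hC := card_centralizer_dvd h21 hmin P
  have hrel := Cfsg.Agent.Lib.Helper23.relIndex_centralizer_normalizer_dvd_pred (p := 5)
    (P : Subgroup G) (card_sylow_five h21 hmin P)
  have hmul := S4304.card_mul_relIndex_of_le
    (Subgroup.centralizer_le_normalizer ((P : Subgroup G) : Set G))
  rw [← hN, ← hmul, h21]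
  exact Nat.mul_dvd_mul (Nat.mul_dvd_mul hC hrel) (dvd_refl 21)

theorem arith_n7 (n : ℕ) (hdvd : n ∣ 5040) (hmod : n % 7 = 1) (h5 : 5 ∣ n) :
    n = 15 ∨ n = 120 := by
  have hcop : Nat.Coprime n 7 := by
    rw [Nat.coprime_comm, Nat.Prime.coprime_iff_not_dvd (by norm_num)]
    omega
  have h720 : n ∣ 720 := hcop.dvd_of_dvd_mul_right (by norm_num; exact hdvd)
  have hle := Nat.le_of_dvd (by norm_num) h720
  obtain ⟨k, rfl⟩ : ∃ k, n = 35 * k + 15 := ⟨n / 35, by omega⟩
  have hk : k ≤ 20 := by omega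
  clear hdvd hcop hle h5 hmod
  interval_cases k <;> omega

theorem zpowers_eq_sylow [Fact (Nat.Prime 5)] (h21 : Nat.card (Sylow 5 G) = 21)
    (hmin : ∀ (K : Type u) [Group K] [Finite K], Nat.card K < Nat.card G →
      Nat.card (Sylow 5 K) ≠ 21)
    (P : Sylow 5 G) (x : G) (hx : x ∈ (P : Subgroup G)) (hx1 : x ≠ 1) :
    zpowers x = (P : Subgroup G) := by
  apply Subgroup.eq_of_le_of_card_ge
  · rw [Subgroup.zpowers_le]; exact hx
  · rw [card_sylow_five h21 hmin P, Nat.card_zpowers,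
      orderOf_eq_prime (pow_five_eq_one h21 hmin P x hx) hx1]

/-- an element of order five generates a Sylow 5-subgroup -/
theorem exists_sylow_eq_zpowers [Fact (Nat.Prime 5)] (h21 : Nat.card (Sylow 5 G) = 21)
    (hmin : ∀ (K : Type u) [Group K] [Finite K], Nat.card K < Nat.card G →
      Nat.card (Sylow 5 K) ≠ 21)
    (x : G) (hx1 : x ≠ 1) (hx5 : x ^ 5 = 1) :
    ∃ Q : Sylow 5 G, zpowers x = (Q : Subgroup G) := by
  have hp : IsPGroup 5 (zpowers x) := by
    rintro ⟨g, hg⟩
    obtain ⟨j, rfl⟩ := Subgroup.mem_zpowers_iff.mp hg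
    refine ⟨1, Subtype.ext ?_⟩
    show (x ^ j) ^ 5 ^ 1 = 1
    rw [pow_one, ← zpow_natCast, ← zpow_mul, mul_comm, zpow_mul, zpow_natCast, hx5, one_zpow]
  obtain ⟨Q, hQ⟩ := hp.exists_le_sylow
  exact ⟨Q, zpowers_eq_sylow h21 hmin Q x (hQ (Subgroup.mem_zpowers x)) hx1⟩

theorem eight_dvd_card [Fact (Nat.Prime 5)] (h21 : Nat.card (Sylow 5 G) = 21)
    (hmin : ∀ (K : Type u) [Group K] [Finite K], Nat.card K < Nat.card G →
      Nat.card (Sylow 5 K) ≠ 21) : 8 ∣ Nat.card G := by
  haveI : Fact (Nat.Prime 7) := ⟨by norm_num⟩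
  have h5040 := card_dvd h21 hmin
  have h21G := twentyone_dvd_card h21
  obtain ⟨m, hm⟩ : 7 ∣ Nat.card G := dvd_trans (by norm_num) h21G
  have hm7 : ¬ 7 ∣ m := by
    rintro ⟨c, rfl⟩
    rw [hm] at h5040
    have : 49 ∣ 5040 := dvd_trans ⟨c, by ring⟩ h5040
    omega
  obtain ⟨S⟩ : Nonempty (Sylow 7 G) := inferInstance
  have hcS : Nat.card (S : Subgroup G) = 7 := by
    have := Cfsg.Agent.Lib.Helper23.sylow_card_of_eq (p := 7) (k := 1) (m := m)
      (by rw [hm, pow_one]) hm7 S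
    simpa using this
  have hNS := Cfsg.Agent.Lib.Helper23.card_normalizer_sylow_mul S
  have h5N : ¬ 5 ∣ Nat.card (normalizer ((S : Subgroup G) : Set G)) := by
    intro h5
    obtain ⟨x, hx⟩ := exists_prime_orderOf_dvd_card' 5 h5
    have hx1 : (x : G) ≠ 1 := by
      intro h
      have : x = 1 := Subtype.ext h
      rw [this, orderOf_one] at hx
      omega
    have hx5 : (x : G) ^ 5 = 1 := by
      have := pow_orderOf_eq_one x
      rw [hx] at this
      exact_mod_cast congrArg Subtype.val this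
    obtain ⟨Q, hQeq⟩ := exists_sylow_eq_zpowers h21 hmin (x : G) hx1 hx5
    have hQN : (Q : Subgroup G) ≤ normalizer ((S : Subgroup G) : Set G) := by
      rw [← hQeq, Subgroup.zpowers_le]; exact x.2
    have hrel := Cfsg.Agent.Lib.Helper23.relIndex_centralizer_normalizer_dvd_pred (p := 7)
      (S : Subgroup G) hcS
    have hdvd := S4304.relIndex_dvd_relIndex_of_normal (centralizer ((S : Subgroup G) : Set G))
      (Q : Subgroup G) (normalizer ((S : Subgroup G) : Set G)) hQN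
      (S4304.centralizer_subgroupOf_normalizer_normal _)
    have h6 : (centralizer ((S : Subgroup G) : Set G)).relIndex (Q : Subgroup G) ∣ 6 :=
      hdvd.trans hrel
    have h5' : (centralizer ((S : Subgroup G) : Set G)).relIndex (Q : Subgroup G) ∣ 5 := by
      have h0 := Subgroup.relIndex_dvd_card (centralizer ((S : Subgroup G) : Set G))
        (Q : Subgroup G)
      rwa [card_sylow_five h21 hmin Q] at h0
    have h1 : (centralizer ((S : Subgroup G) : Set G)).relIndex (Q : Subgroup G) = 1 := by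
      have := Nat.dvd_gcd h6 h5'
      simpa using this
    rw [Subgroup.relIndex_eq_one, Subgroup.le_centralizer_iff] at h1
    have h7 : 7 ∣ 60 := by
      have h0 := (Subgroup.card_dvd_of_le h1).trans (card_centralizer_dvd h21 hmin Q)
      rwa [hcS] at h0
    omega
  have hmod : Nat.card (Sylow 7 G) % 7 = 1 := card_sylow_modEq_one 7 G
  have hne15 : Nat.card (Sylow 7 G) ≠ 15 := S4304.result
  have h5n : 5 ∣ Nat.card (Sylow 7 G) := by
    have h5G : 5 ∣ Nat.card G := by
      obtain ⟨P⟩ : Nonempty (Sylow 5 G) := inferInstance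
      have h0 := Subgroup.card_subgroup_dvd_card (P : Subgroup G)
      rwa [card_sylow_five h21 hmin P] at h0
    rw [← hNS] at h5G
    exact ((Nat.Prime.dvd_mul Nat.prime_five).mp h5G).resolve_left h5N
  have hn : Nat.card (Sylow 7 G) = 120 := by
    have hdvd : Nat.card (Sylow 7 G) ∣ 5040 := dvd_trans ⟨_, by rw [← hNS, mul_comm]⟩ h5040
    rcases arith_n7 _ hdvd hmod h5n with h | h
    · exact absurd h hne15
    · exact h
  rw [hn] at hNS
  exact dvd_trans (by norm_num : 8 ∣ 120) ⟨_, by rw [← hNS, mul_comm]⟩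

theorem exists_involution [Fact (Nat.Prime 5)] (h21 : Nat.card (Sylow 5 G) = 21)
    (hmin : ∀ (K : Type u) [Group K] [Finite K], Nat.card K < Nat.card G →
      Nat.card (Sylow 5 K) ≠ 21) :
    ∃ (P Q : Sylow 5 G) (w : G), Q ≠ P ∧ w ≠ 1 ∧ w ^ 2 = 1 ∧ w • P = P ∧ w • Q = Q := by
  haveI : Fact (Nat.Prime 2) := ⟨Nat.prime_two⟩
  obtain ⟨T, hT⟩ := Sylow.exists_subgroup_card_pow_prime 2 (n := 3)
    (by simpa using eight_dvd_card h21 hmin)
  have hp : IsPGroup 2 T := IsPGroup.of_card hT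
  obtain ⟨P, hP⟩ := hp.nonempty_fixed_point_of_prime_not_dvd_card (Sylow 5 G)
    (by rw [h21]; norm_num)
  rw [Subgroup.sylow_mem_fixedPoints_iff] at hP
  by_contra hcon
  push Not at hcon
  have hfree : ∀ a ∈ T, a ≠ 1 → (MulAction.fixedBy (Sylow 5 G) a).ncard = 1 := by
    intro a ha ha1
    have : MulAction.fixedBy (Sylow 5 G) a = {P} := by
      ext Q
      rw [MulAction.mem_fixedBy, Set.mem_singleton_iff]
      constructor
      · intro hQ
        by_contra hQP
        have ha8 : a ^ 2 ^ 3 = 1 := by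
          have h1 : (⟨a, ha⟩ : T) ^ Nat.card T = 1 := pow_card_eq_one'
          rw [hT] at h1
          exact congrArg Subtype.val h1
        obtain ⟨j, hj1, hj2⟩ := exists_pow_prime_order 2 3 Nat.prime_two ha1 ha8
        exact hcon P Q (a ^ j) hQP hj1 hj2
          (S4304.pow_smul_eq_self a P (Sylow.smul_eq_iff_mem_normalizer.mpr (hP ha)) j)
          (S4304.pow_smul_eq_self a Q hQ j)
      · rintro rfl
        exact Sylow.smul_eq_iff_mem_normalizer.mpr (hP ha)
    rw [this, Set.ncard_singleton]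
  have h20 := card_dvd_of_fix h21 T 1 (by norm_num) hfree
  rw [hT] at h20
  norm_num at h20

/-! ### An involution fixing two Sylow 5-subgroups -/

theorem conj_ne [Fact (Nat.Prime 5)] (h21 : Nat.card (Sylow 5 G) = 21)
    (hmin : ∀ (K : Type u) [Group K] [Finite K], Nat.card K < Nat.card G →
      Nat.card (Sylow 5 K) ≠ 21)
    (P Q : Sylow 5 G) (w : G) (hQP : Q ≠ P) (hw1 : w ≠ 1) (hw2 : w ^ 2 = 1)
    (hwQ : w • Q = Q) (x : G) (hx : x ∈ (P : Subgroup G)) (hx1 : x ≠ 1) :
    w * x * w⁻¹ ≠ x := by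
  intro h
  have hcomm : w * x = x * w := by
    have := congrArg (· * w) h
    simpa using this
  have hz := zpowers_eq_sylow h21 hmin P x hx hx1
  have hwC : w ∈ centralizer ((P : Subgroup G) : Set G) := by
    rw [Subgroup.mem_centralizer_iff]
    intro z hz'
    have hz'' : z ∈ zpowers x := by rw [hz]; exact hz'
    obtain ⟨j, rfl⟩ := Subgroup.mem_zpowers_iff.mp hz''
    exact (Commute.zpow_left (show Commute x w from hcomm.symm) j).eq
  exact hQP (eq_of_two_fix h21 hmin P Q w hwC hw1 1 (by rwa [pow_one]) hwQ)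

theorem conj_eq_inv [Fact (Nat.Prime 5)] (h21 : Nat.card (Sylow 5 G) = 21)
    (hmin : ∀ (K : Type u) [Group K] [Finite K], Nat.card K < Nat.card G →
      Nat.card (Sylow 5 K) ≠ 21)
    (P Q : Sylow 5 G) (w : G) (hQP : Q ≠ P) (hw1 : w ≠ 1) (hw2 : w ^ 2 = 1)
    (hwP : w • P = P) (hwQ : w • Q = Q) (x : G) (hx : x ∈ (P : Subgroup G)) :
    w * x * w⁻¹ = x⁻¹ := by
  have hww : w * w = 1 := by rw [← pow_two]; exact hw2
  have hwinv : w⁻¹ = w := by
    rw [inv_eq_iff_mul_eq_one]; exact hww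
  have hN : w ∈ normalizer (P : Set G) := Sylow.smul_eq_iff_mem_normalizer.mp hwP
  have hc : w * x * w⁻¹ ∈ (P : Subgroup G) := (Subgroup.mem_normalizer_iff.mp hN x).mp hx
  by_cases hx1 : x = 1
  · subst hx1; simp
  have hz := zpowers_eq_sylow h21 hmin P x hx hx1
  have hcomm : x * (w * x * w⁻¹) = (w * x * w⁻¹) * x := by
    have : w * x * w⁻¹ ∈ zpowers x := by rw [hz]; exact hc
    obtain ⟨j, hj⟩ := Subgroup.mem_zpowers_iff.mp this
    rw [← hj]
    exact (Commute.zpow_right (Commute.refl x) j).eq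
  have hu : x * (w * x * w⁻¹) ∈ (P : Subgroup G) := mul_mem hx hc
  by_contra hne
  have hu1 : x * (w * x * w⁻¹) ≠ 1 := by
    intro h
    exact hne (eq_inv_of_mul_eq_one_right h)
  apply conj_ne h21 hmin P Q w hQP hw1 hw2 hwQ _ hu hu1
  have key : w * (x * (w * x * w⁻¹)) * w⁻¹ = (w * x * w⁻¹) * x := by
    rw [hwinv]
    calc w * (x * (w * x * w)) * w = w * x * w * x * (w * w) := by group
      _ = w * x * w * x := by rw [hww, mul_one]
  exact key.trans hcomm.symm

theorem eq_one_of_fix_smul [Fact (Nat.Prime 5)] (h21 : Nat.card (Sylow 5 G) = 21)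
    (hmin : ∀ (K : Type u) [Group K] [Finite K], Nat.card K < Nat.card G →
      Nat.card (Sylow 5 K) ≠ 21)
    (P Q : Sylow 5 G) (w : G) (hQP : Q ≠ P) (hw1 : w ≠ 1) (hw2 : w ^ 2 = 1)
    (hwP : w • P = P) (hwQ : w • Q = Q) (R : Sylow 5 G) (hRP : R ≠ P) (hwR : w • R = R)
    (x : G) (hx : x ∈ (P : Subgroup G)) (hxR : w • (x • R) = x • R) : x = 1 := by
  have hinv := conj_eq_inv h21 hmin P Q w hQP hw1 hw2 hwP hwQ x hx
  have h1 : w • (x • R) = x⁻¹ • R := by
    rw [← mul_smul]
    have : w * x = x⁻¹ * w := by rw [← hinv]; group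
    rw [this, mul_smul, hwR]
  rw [h1] at hxR
  have h2 : (x * x) • R = R := by
    rw [mul_smul, ← hxR, smul_inv_smul]
  have h3 : x * x ∈ (P : Subgroup G) ⊓ normalizer (R : Set G) :=
    ⟨mul_mem hx hx, Sylow.smul_eq_iff_mem_normalizer.mp h2⟩
  rw [IsPGroup.inf_normalizer_sylow P.2 R, inf_eq_bot h21 hmin P R (Ne.symm hRP),
    Subgroup.mem_bot] at h3
  have h5 := pow_five_eq_one h21 hmin P x hx
  calc x = x ^ 5 * ((x * x)⁻¹ * (x * x)⁻¹) := by group
    _ = 1 := by rw [h5, h3]; simp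

theorem fix_eq_five [Fact (Nat.Prime 5)] (h21 : Nat.card (Sylow 5 G) = 21)
    (hmin : ∀ (K : Type u) [Group K] [Finite K], Nat.card K < Nat.card G →
      Nat.card (Sylow 5 K) ≠ 21)
    (P Q : Sylow 5 G) (w : G) (hQP : Q ≠ P) (hw1 : w ≠ 1) (hw2 : w ^ 2 = 1)
    (hwP : w • P = P) (hwQ : w • Q = Q) :
    (MulAction.fixedBy (Sylow 5 G) w).ncard = 5 ∧
    ∀ R : Sylow 5 G, ∃ R₀ : Sylow 5 G, w • R₀ = R₀ ∧ ∃ x ∈ (P : Subgroup G), R = x • R₀ := by
  have hPfix : P ∈ MulAction.fixedBy (Sylow 5 G) w := hwP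
  have hQfix : Q ∈ MulAction.fixedBy (Sylow 5 G) w := hwQ
  have hFcard : (MulAction.fixedBy (Sylow 5 G) w \ {P}).ncard + 1 =
      (MulAction.fixedBy (Sylow 5 G) w).ncard := by
    rw [Set.ncard_sdiff_singleton_of_mem hPfix]
    have : 0 < (MulAction.fixedBy (Sylow 5 G) w).ncard :=
      (Set.ncard_pos (Set.toFinite _)).mpr ⟨P, hPfix⟩
    omega
  have hF1 : 0 < (MulAction.fixedBy (Sylow 5 G) w \ {P}).ncard :=
    (Set.ncard_pos (Set.toFinite _)).mpr ⟨Q, hQfix, hQP⟩
  have hcompl : ({P}ᶜ : Set (Sylow 5 G)).ncard = 20 := by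
    have := Set.ncard_add_ncard_compl ({P} : Set (Sylow 5 G))
    rw [Set.ncard_singleton, h21] at this
    omega
  let φ : (MulAction.fixedBy (Sylow 5 G) w \ {P} : Set (Sylow 5 G)) × (P : Subgroup G) →
      ({P}ᶜ : Set (Sylow 5 G)) :=
    fun a => ⟨(a.2 : G) • (a.1 : Sylow 5 G), by
      intro h
      have h' : (a.2 : G) • (a.1 : Sylow 5 G) = P := h
      apply a.1.2.2
      have h2 : (a.1 : Sylow 5 G) = (a.2 : G)⁻¹ • P := eq_inv_smul_iff.mpr h'
      show (a.1 : Sylow 5 G) = P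
      exact h2.trans (Sylow.smul_eq_iff_mem_normalizer.mpr
        (Subgroup.le_normalizer (inv_mem a.2.2)))⟩
  have hφ : Function.Injective φ := by
    rintro ⟨⟨R, hR, hRP⟩, x⟩ ⟨⟨R', hR', hRP'⟩, x'⟩ h
    have h' : (x : G) • R = (x' : G) • R' := congrArg Subtype.val h
    have h2 : ((x' : G)⁻¹ * x) • R = R' := by rw [mul_smul, h', inv_smul_smul]
    have h3 : (x' : G)⁻¹ * x = 1 :=
      eq_one_of_fix_smul h21 hmin P Q w hQP hw1 hw2 hwP hwQ R hRP hR _
        (mul_mem (inv_mem x'.2) x.2) (by rw [h2]; exact hR')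
    have hxx : (x : G) = x' := by
      rw [inv_mul_eq_one] at h3; exact h3.symm
    have hRR : R = R' := by rw [← h2, h3, one_smul]
    subst hRR
    have : x = x' := Subtype.ext hxx
    subst this
    rfl
  have hle := Nat.card_le_card_of_injective φ hφ
  have hc1 : Nat.card ((MulAction.fixedBy (Sylow 5 G) w \ {P} : Set (Sylow 5 G)) ×
      (P : Subgroup G)) = (MulAction.fixedBy (Sylow 5 G) w \ {P}).ncard * 5 := by
    rw [Nat.card_prod, Nat.card_coe_set_eq, card_sylow_five h21 hmin P]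
  have hc2 : Nat.card ({P}ᶜ : Set (Sylow 5 G)) = 20 := by rw [Nat.card_coe_set_eq, hcompl]
  rw [hc1, hc2] at hle
  have h4 := fix_mod_four h21 hmin w hw1 hw2
  have h5 : (MulAction.fixedBy (Sylow 5 G) w).ncard = 5 := by omega
  refine ⟨h5, ?_⟩
  have hbij : Function.Bijective φ :=
    hφ.bijective_of_nat_card_le (by rw [hc1, hc2]; omega)
  intro R
  by_cases hRP : R = P
  · exact ⟨P, hwP, 1, one_mem _, by rw [hRP, one_smul]⟩
  · obtain ⟨⟨⟨R₀, hR₀, _⟩, x⟩, hx⟩ := hbij.2 ⟨R, hRP⟩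
    exact ⟨R₀, hR₀, x, x.2, (congrArg Subtype.val hx).symm⟩

theorem exists_smul_eq [Fact (Nat.Prime 5)] (h21 : Nat.card (Sylow 5 G) = 21)
    (hmin : ∀ (K : Type u) [Group K] [Finite K], Nat.card K < Nat.card G →
      Nat.card (Sylow 5 K) ≠ 21)
    (P Q : Sylow 5 G) (w : G) (hQP : Q ≠ P) (hw1 : w ≠ 1) (hw2 : w ^ 2 = 1)
    (hwP : w • P = P) (hwQ : w • Q = Q) (R : Sylow 5 G) :
    ∃ z ∈ (P : Subgroup G), w • R = z • R := by
  obtain ⟨R₀, hR₀, x, hx, rfl⟩ := (fix_eq_five h21 hmin P Q w hQP hw1 hw2 hwP hwQ).2 R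
  refine ⟨x⁻¹ * x⁻¹, mul_mem (inv_mem hx) (inv_mem hx), ?_⟩
  have hinv := conj_eq_inv h21 hmin P Q w hQP hw1 hw2 hwP hwQ x hx
  have : w * x = x⁻¹ * w := by rw [← hinv]; group
  rw [← mul_smul, this, mul_smul, hR₀, ← mul_smul, inv_mul_cancel_right]

/-- a conjugate of `w` normalizing `P` is conjugate to `w` under `P` -/
theorem conj_of_fix [Fact (Nat.Prime 5)] (h21 : Nat.card (Sylow 5 G) = 21)
    (hmin : ∀ (K : Type u) [Group K] [Finite K], Nat.card K < Nat.card G →
      Nat.card (Sylow 5 K) ≠ 21)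
    (P Q : Sylow 5 G) (w : G) (hQP : Q ≠ P) (hw1 : w ≠ 1) (hw2 : w ^ 2 = 1)
    (hwP : w • P = P) (hwQ : w • Q = Q) (g : G) (hg : (g⁻¹ * w * g) • P = P) :
    ∃ x ∈ (P : Subgroup G), g⁻¹ * w * g = x * w * x⁻¹ := by
  obtain ⟨w', hw'⟩ : ∃ w' : G, w' = g⁻¹ * w * g := ⟨_, rfl⟩
  rw [← hw'] at hg ⊢
  have hw'1 : w' ≠ 1 := by
    intro h
    apply hw1
    have : w = g * w' * g⁻¹ := by rw [hw']; group
    rw [this, h]; group
  have hw'2 : w' ^ 2 = 1 := by
    rw [hw', pow_two]
    calc g⁻¹ * w * g * (g⁻¹ * w * g) = g⁻¹ * (w * w) * g := by group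
      _ = 1 := by rw [← pow_two, hw2]; group
  have hfixg : ∀ R : Sylow 5 G, w • R = R → w' • (g⁻¹ • R) = g⁻¹ • R := by
    intro R hR
    rw [hw', ← mul_smul, mul_assoc, mul_inv_cancel, mul_one, mul_smul, hR]
  obtain ⟨Q', hQ'P, hwQ'⟩ : ∃ Q' : Sylow 5 G, Q' ≠ P ∧ w' • Q' = Q' := by
    by_cases h : g⁻¹ • P = P
    · refine ⟨g⁻¹ • Q, ?_, hfixg Q hwQ⟩
      intro h2
      apply hQP
      exact smul_left_cancel g⁻¹ (h2.trans h.symm)
    · exact ⟨g⁻¹ • P, h, hfixg P hwP⟩
  obtain ⟨c, hc⟩ : ∃ c : G, c = w * w' := ⟨_, rfl⟩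
  have hcC : c ∈ centralizer ((P : Subgroup G) : Set G) := by
    rw [Subgroup.mem_centralizer_iff]
    intro x hx
    have h1 := conj_eq_inv h21 hmin P Q w hQP hw1 hw2 hwP hwQ x⁻¹ (inv_mem hx)
    have h2 := conj_eq_inv h21 hmin P Q' w' hQ'P hw'1 hw'2 hg hwQ' x hx
    rw [inv_inv] at h1
    rw [hc]
    calc x * (w * w') = (w * x⁻¹ * w⁻¹) * w * w' := by rw [h1]; group
      _ = w * (w' * x * w'⁻¹) * w' := by rw [h2]; group
      _ = w * w' * x := by group
  have hcP : c ∈ (P : Subgroup G) := by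
    apply mem_of_orbit_fix h21 hmin P _ hcC
    intro R
    obtain ⟨z₁, hz₁, h1⟩ := exists_smul_eq h21 hmin P Q' w' hQ'P hw'1 hw'2 hg hwQ' R
    obtain ⟨z₂, hz₂, h2⟩ := exists_smul_eq h21 hmin P Q w hQP hw1 hw2 hwP hwQ (z₁ • R)
    exact ⟨z₂ * z₁, mul_mem hz₂ hz₁, by rw [hc, mul_smul, h1, h2, mul_smul]⟩
  refine ⟨c ^ 2, pow_mem hcP 2, ?_⟩
  have hc5 : c ^ 5 = 1 := pow_five_eq_one h21 hmin P c hcP
  have hw'c : w' = w * c := by rw [hc, ← mul_assoc, ← pow_two, hw2, one_mul]
  have h3 := conj_eq_inv h21 hmin P Q w hQP hw1 hw2 hwP hwQ ((c ^ 2)⁻¹)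
    (inv_mem (pow_mem hcP 2))
  have h4 := conj_eq_inv h21 hmin P Q w hQP hw1 hw2 hwP hwQ c hcP
  rw [hw'c]
  calc w * c = (w * c * w⁻¹) * w := by group
    _ = c⁻¹ * w := by rw [h4]
    _ = c ^ 5 * c⁻¹ * w := by rw [hc5, one_mul]
    _ = c ^ 2 * ((c ^ 2)⁻¹)⁻¹ * w := by group
    _ = c ^ 2 * (w * (c ^ 2)⁻¹ * w⁻¹) * w := by rw [h3]
    _ = c ^ 2 * w * (c ^ 2)⁻¹ := by group

theorem main_false [Fact (Nat.Prime 5)] (h21 : Nat.card (Sylow 5 G) = 21)
    (hmin : ∀ (K : Type u) [Group K] [Finite K], Nat.card K < Nat.card G →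
      Nat.card (Sylow 5 K) ≠ 21) : False := by
  obtain ⟨P, Q, w, hQP, hw1, hw2, hwP, hwQ⟩ := exists_involution h21 hmin
  have h5 := (fix_eq_five h21 hmin P Q w hQP hw1 hw2 hwP hwQ).1
  have horb : MulAction.orbit (centralizer ({w} : Set G)) P =
      MulAction.fixedBy (Sylow 5 G) w := by
    ext R
    constructor
    · rintro ⟨h, rfl⟩
      have hh : w * (h : G) = h * w := Subgroup.mem_centralizer_iff.mp h.2 w rfl
      show w • ((h : G) • P) = (h : G) • P
      rw [← mul_smul, hh, mul_smul, hwP]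
    · intro hR
      have hR' : w • R = R := hR
      obtain ⟨g, hg⟩ := MulAction.exists_smul_eq G P R
      have hfix : (g⁻¹ * w * g) • P = P := by
        rw [mul_smul, mul_smul, hg, hR', ← hg, inv_smul_smul]
      obtain ⟨x, hx, hxw⟩ := conj_of_fix h21 hmin P Q w hQP hw1 hw2 hwP hwQ g hfix
      have hcomm : w * (g * x) = (g * x) * w := by
        calc w * (g * x) = g * (g⁻¹ * w * g) * x := by group
          _ = g * (x * w * x⁻¹) * x := by rw [hxw]
          _ = g * x * w := by group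
      refine ⟨⟨g * x, ?_⟩, ?_⟩
      · rw [Subgroup.mem_centralizer_iff]
        intro z hz
        rw [Set.mem_singleton_iff] at hz
        rw [hz]
        exact hcomm
      · show (g * x) • P = R
        rw [mul_smul, Sylow.smul_eq_iff_mem_normalizer.mpr (Subgroup.le_normalizer hx), hg]
  have hdvd : 5 ∣ Nat.card (centralizer ({w} : Set G)) := by
    have h1 := MulAction.index_stabilizer (centralizer ({w} : Set G)) P
    rw [horb, h5] at h1
    rw [← h1]
    exact Subgroup.index_dvd_card _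
  obtain ⟨x', hx'⟩ := exists_prime_orderOf_dvd_card' 5 hdvd
  have hx'1 : (x' : G) ≠ 1 := by
    intro h
    have : x' = 1 := Subtype.ext h
    rw [this, orderOf_one] at hx'
    omega
  have hx'5 : (x' : G) ^ 5 = 1 := by
    have := pow_orderOf_eq_one x'
    rw [hx'] at this
    exact_mod_cast congrArg Subtype.val this
  obtain ⟨Q', hQ'⟩ := exists_sylow_eq_zpowers h21 hmin (x' : G) hx'1 hx'5
  have hwC : w ∈ centralizer ((Q' : Subgroup G) : Set G) := by
    rw [Subgroup.mem_centralizer_iff]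
    intro z hz
    have hz' : z ∈ zpowers (x' : G) := by rw [hQ']; exact hz
    obtain ⟨j, rfl⟩ := Subgroup.mem_zpowers_iff.mp hz'
    have hcomm : Commute (x' : G) w := (Subgroup.mem_centralizer_iff.mp x'.2 w rfl).symm
    exact (hcomm.zpow_left j).eq
  have hsub : MulAction.fixedBy (Sylow 5 G) w ⊆ {Q'} := by
    intro R hR
    exact eq_of_two_fix h21 hmin Q' R w hwC hw1 1 (by rwa [pow_one]) hR
  have := Set.ncard_le_ncard hsub (Set.toFinite _)
  rw [h5, Set.ncard_singleton] at this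
  omega

end main

theorem fact_prime_five : Fact (Nat.Prime 5) := ⟨by norm_num⟩

/-- No finite group has exactly twenty-one Sylow 5-subgroups. -/
theorem result {G : Type*} [Group G] [Finite G] : Nat.card (Sylow 5 G) ≠ 21 := by
  haveI := fact_prime_five
  suffices h : ∀ n : ℕ, ∀ (H : Type _) [Group H] [Finite H], Nat.card H = n →
      Nat.card (Sylow 5 H) ≠ 21 from h _ G rfl
  intro n
  induction n using Nat.strong_induction_on with
  | _ n ih =>
    intro H _ _ hn h21
    exact main_false h21 (fun K _ _ hK => ih _ (hn ▸ hK) K rfl)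

end Cfsg.Agent.S1010
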