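import Cfsg.Statements.S0114
import Cfsg.Agent.Lib.Helper3.MaxClass
import Mathlib

set_option autoImplicit false
open Cfsg

namespace Cfsg.Agent.S0114

open Cfsg.Agent.Lib.Helper3

theorem dmap_key {Q : Type*} [Group Q] (m : ℕ) (g : Q) (hg : g ^ m = 1) (k : ℤ) (i : ZMod m)
    (hk : (k : ZMod m) = i) : g ^ (ZMod.cast i : ℤ) = g ^ k := by
  have h1 : ((ZMod.cast i : ℤ) : ZMod m) = (k : ZMod m) := by
    rw [ZMod.intCast_zmod_cast, hk]
  obtain ⟨d, hd⟩ := (ZMod.intCast_eq_intCast_iff_dvd_sub _ _ _).mp h1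
  have h2 : k = (ZMod.cast i : ℤ) + (m : ℤ) * d := by omega
  rw [h2, zpow_add, zpow_mul, zpow_natCast, hg, one_zpow, mul_one]

theorem dmap_swap {Q : Type*} [Group Q] (g t : Q) (hconj : t * g * t⁻¹ = g⁻¹) (k : ℤ) :
    g ^ k * t = t * (g ^ k)⁻¹ := by
  have h1 : t * g ^ k * t⁻¹ = (g ^ k)⁻¹ := by rw [← conj_zpow, hconj, inv_zpow]
  have h2 : t * (g ^ k)⁻¹ * t⁻¹ = g ^ k := by
    have := congrArg (·⁻¹) h1
    simpa [mul_assoc] using this
  calc g ^ k * t = (t * (g ^ k)⁻¹ * t⁻¹) * t := by rw [h2]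
    _ = t * (g ^ k)⁻¹ := by group

/-- The candidate isomorphism from the dihedral group. -/
noncomputable def dmap {Q : Type*} [Group Q] (m : ℕ) (g t : Q) : DihedralGroup m → Q
  | DihedralGroup.r i => g ^ (ZMod.cast i : ℤ)
  | DihedralGroup.sr i => t * g ^ (ZMod.cast i : ℤ)

theorem dmap_mul {Q : Type*} [Group Q] (m : ℕ) (g t : Q) (hg : g ^ m = 1) (ht : t * t = 1)
    (hconj : t * g * t⁻¹ = g⁻¹) (a b : DihedralGroup m) :
    dmap m g t (a * b) = dmap m g t a * dmap m g t b := by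
  have hadd : ∀ i j : ZMod m, g ^ (ZMod.cast (i + j) : ℤ) =
      g ^ (ZMod.cast i : ℤ) * g ^ (ZMod.cast j : ℤ) := by
    intro i j
    rw [dmap_key m g hg ((ZMod.cast i : ℤ) + (ZMod.cast j : ℤ)) (i + j)
      (by rw [Int.cast_add, ZMod.intCast_zmod_cast, ZMod.intCast_zmod_cast]), zpow_add]
  have hsub : ∀ i j : ZMod m, g ^ (ZMod.cast (j - i) : ℤ) =
      (g ^ (ZMod.cast i : ℤ))⁻¹ * g ^ (ZMod.cast j : ℤ) := by
    intro i j
    rw [dmap_key m g hg (-(ZMod.cast i : ℤ) + (ZMod.cast j : ℤ)) (j - i)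
      (by rw [Int.cast_add, Int.cast_neg, ZMod.intCast_zmod_cast, ZMod.intCast_zmod_cast]; ring),
      zpow_add, zpow_neg]
  rcases a with i | i <;> rcases b with j | j
  · rw [DihedralGroup.r_mul_r]
    exact hadd i j
  · rw [DihedralGroup.r_mul_sr]
    show t * g ^ (ZMod.cast (j - i) : ℤ) = g ^ (ZMod.cast i : ℤ) * (t * g ^ (ZMod.cast j : ℤ))
    rw [hsub, ← mul_assoc (g ^ (ZMod.cast i : ℤ)) t, dmap_swap g t hconj, mul_assoc]
  · rw [DihedralGroup.sr_mul_r]
    show t * g ^ (ZMod.cast (i + j) : ℤ) = t * g ^ (ZMod.cast i : ℤ) * g ^ (ZMod.cast j : ℤ)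
    rw [hadd, mul_assoc]
  · rw [DihedralGroup.sr_mul_sr]
    show g ^ (ZMod.cast (j - i) : ℤ) =
      t * g ^ (ZMod.cast i : ℤ) * (t * g ^ (ZMod.cast j : ℤ))
    rw [hsub, mul_assoc t, ← mul_assoc (g ^ (ZMod.cast i : ℤ)) t, dmap_swap g t hconj,
      mul_assoc t, ← mul_assoc t t, ht, one_mul]

/-- The central quotient of a 2-group of maximal class is dihedral. -/
theorem result {X : Type*} [Group X] [Finite X] (n : ℕ) (hn : 3 ≤ n) (hX : Nat.card X = 2 ^ n) (hc : Group.nilpotencyClass X = n - 1) : Nonempty (X ⧸ Subgroup.center X ≃* DihedralGroup (2 ^ (n - 2))) := by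
  have hidx := index_commutator_of_class n hn hX hc
  obtain ⟨h, hH2⟩ := theoremT n hn X hX hidx
  have hcard' : Nat.card X = 2 ^ (n - 3 + 3) := by rw [hX]; congr 1; omega
  obtain ⟨hZcard, hZH, hZX'⟩ := center_data (n - 3) hcard' hidx h hH2
  have hHc : ∀ a ∈ Subgroup.zpowers h, ∀ b ∈ Subgroup.zpowers h, a * b = b * a := by
    intro a ha b hb
    obtain ⟨i, rfl⟩ := Subgroup.mem_zpowers_iff.mp ha
    obtain ⟨j, rfl⟩ := Subgroup.mem_zpowers_iff.mp hb
    rw [← zpow_add, ← zpow_add, add_comm]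
  have hHn : (Subgroup.zpowers h).Normal := Subgroup.normal_of_index_eq_two hH2
  have hHtop : Subgroup.zpowers h ≠ ⊤ := by
    intro h1
    rw [h1, Subgroup.index_top] at hH2
    omega
  obtain ⟨t, ht⟩ : ∃ t : X, t ∉ Subgroup.zpowers h := by
    by_contra hall
    push Not at hall
    exact hHtop (eq_top_iff.mpr (fun x _ => hall x))
  have htt : t * t ∈ Subgroup.center X := by
    have h1 : t * t ∈ Subgroup.zpowers h := (Subgroup.mul_mem_iff_of_index_two hH2).mpr Iff.rfl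
    exact mem_center_of_index2 _ hHc hH2 t ht _ h1 (mul_assoc t t t)
  have hnorm : h * (t * h * t⁻¹) ∈ Subgroup.center X := by
    have ha : t * h * t⁻¹ ∈ Subgroup.zpowers h := hHn.conj_mem h (Subgroup.mem_zpowers h) t
    have f1 : h * (t * h * t⁻¹) = (t * h * t⁻¹) * h := hHc _ (Subgroup.mem_zpowers h) _ ha
    have f2 : h * (t * t) = t * t * h := Subgroup.mem_center_iff.mp htt h
    apply mem_center_of_index2 _ hHc hH2 t ht _ (Subgroup.mul_mem _ (Subgroup.mem_zpowers h) ha)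
    calc h * (t * h * t⁻¹) * t = h * t * h := by group
      _ = (h * (t * t)) * t⁻¹ * h := by group
      _ = (t * t * h) * t⁻¹ * h := by rw [f2]
      _ = t * ((t * h * t⁻¹) * h) := by group
      _ = t * (h * (t * h * t⁻¹)) := by rw [f1]
  have R2 : (QuotientGroup.mk t : X ⧸ Subgroup.center X) * QuotientGroup.mk t = 1 := by
    rw [← QuotientGroup.mk_mul]
    exact (QuotientGroup.eq_one_iff _).mpr htt
  have R3 : (QuotientGroup.mk t : X ⧸ Subgroup.center X) * QuotientGroup.mk h *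
      (QuotientGroup.mk t)⁻¹ = (QuotientGroup.mk h)⁻¹ := by
    have h1 : (QuotientGroup.mk h : X ⧸ Subgroup.center X) *
        (QuotientGroup.mk t * QuotientGroup.mk h * (QuotientGroup.mk t)⁻¹) = 1 := by
      rw [← QuotientGroup.mk_inv, ← QuotientGroup.mk_mul, ← QuotientGroup.mk_mul,
        ← QuotientGroup.mk_mul]
      exact (QuotientGroup.eq_one_iff _).mpr hnorm
    exact eq_inv_of_mul_eq_one_right h1
  have hQcard : Nat.card (X ⧸ Subgroup.center X) = 2 * 2 ^ (n - 2) := by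
    have h1 := Subgroup.card_eq_card_quotient_mul_card_subgroup (Subgroup.center X)
    rw [hX, hZcard] at h1
    have h2 : 2 ^ n = 2 * 2 ^ (n - 2) * 2 := by
      obtain ⟨k, rfl⟩ : ∃ k, n = k + 2 := ⟨n - 2, by omega⟩
      rw [Nat.add_sub_cancel]; ring
    omega
  have R1 : (QuotientGroup.mk h : X ⧸ Subgroup.center X) ^ (2 ^ (n - 2)) = 1 := by
    have h1 : (Subgroup.zpowers (QuotientGroup.mk h : X ⧸ Subgroup.center X)).index = 2 := by
      have h0 : Subgroup.zpowers (QuotientGroup.mk h : X ⧸ Subgroup.center X) =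
          (Subgroup.zpowers h).map (QuotientGroup.mk' (Subgroup.center X)) := by
        rw [MonoidHom.map_zpowers]; rfl
      rw [h0, Subgroup.index_map_eq _ (QuotientGroup.mk'_surjective _)
        (by rw [QuotientGroup.ker_mk']; exact hZH), hH2]
    have h2 := (Subgroup.zpowers (QuotientGroup.mk h : X ⧸ Subgroup.center X)).card_mul_index
    rw [h1, hQcard, Nat.card_zpowers] at h2
    have h3 : orderOf (QuotientGroup.mk h : X ⧸ Subgroup.center X) = 2 ^ (n - 2) := by omega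
    rw [← h3]
    exact pow_orderOf_eq_one _
  have hmul := dmap_mul (2 ^ (n - 2)) (QuotientGroup.mk h : X ⧸ Subgroup.center X)
    (QuotientGroup.mk t) R1 R2 R3
  let f : DihedralGroup (2 ^ (n - 2)) →* X ⧸ Subgroup.center X :=
    MonoidHom.mk' (dmap (2 ^ (n - 2)) (QuotientGroup.mk h) (QuotientGroup.mk t)) hmul
  have hsurj : Function.Surjective f := by
    intro q
    obtain ⟨x, rfl⟩ := QuotientGroup.mk_surjective q
    rcases cases_index2 _ hH2 t ht x with hx | hx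
    · obtain ⟨k, rfl⟩ := Subgroup.mem_zpowers_iff.mp hx
      refine ⟨DihedralGroup.r (k : ZMod _), ?_⟩
      show (QuotientGroup.mk h : X ⧸ Subgroup.center X) ^
        (ZMod.cast ((k : ℤ) : ZMod (2 ^ (n - 2))) : ℤ) = _
      rw [dmap_key _ _ R1 k _ rfl, QuotientGroup.mk_zpow]
    · obtain ⟨k, hk⟩ := Subgroup.mem_zpowers_iff.mp hx
      refine ⟨DihedralGroup.sr ((-k : ℤ) : ZMod _), ?_⟩
      show (QuotientGroup.mk t : X ⧸ Subgroup.center X) * (QuotientGroup.mk h) ^
        (ZMod.cast ((-k : ℤ) : ZMod (2 ^ (n - 2))) : ℤ) = _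
      rw [dmap_key _ _ R1 (-k) _ rfl]
      have hxe : x = h ^ k * t := by rw [hk]; group
      rw [hxe, QuotientGroup.mk_mul, QuotientGroup.mk_zpow, zpow_neg, ← dmap_swap _ _ R3 k]
  have hbij : Function.Bijective f :=
    hsurj.bijective_of_nat_card_le (by rw [DihedralGroup.nat_card, hQcard])
  exact ⟨(MulEquiv.ofBijective f hbij).symm⟩

end Cfsg.Agent.S0114
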