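import Cfsg.Statements.S0046
import Mathlib

set_option autoImplicit false
open Cfsg

namespace Cfsg.Agent.S0046

universe u

theorem card_ne_one_subtype {α : Type u} [Finite α] (a : α) :
    Nat.card {b : α // b ≠ a} = Nat.card α - 1 := by
  classical
  have h1 := Nat.card_congr (Equiv.optionSubtypeNe a)
  rw [Finite.card_option] at h1
  omega

theorem card_U {G : Type u} [Group G] [Finite G] (M : Subgroup G)
    (hTI : ∀ g : G, g ∉ M → ∀ x ∈ M, g * x * g⁻¹ ∈ M → x = 1) :
    Nat.card {x : G // x ≠ 1 ∧ ∃ g : G, g⁻¹ * x * g ∈ M} = M.index * (Nat.card M - 1) := by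
  classical
  let f : (G ⧸ M) × {m : M // m ≠ 1} → {x : G // x ≠ 1 ∧ ∃ g : G, g⁻¹ * x * g ∈ M} :=
    fun qm => ⟨qm.1.out * (qm.2.1 : G) * qm.1.out⁻¹, by
      refine ⟨fun h1 => qm.2.2 ?_, qm.1.out, ?_⟩
      · have h2 : ((qm.2.1 : M) : G) = 1 := by
          have := congrArg (fun y => qm.1.out⁻¹ * y * qm.1.out) h1
          simpa [mul_assoc] using this
        exact Subtype.ext h2
      · have : (qm.1.out)⁻¹ * (qm.1.out * (qm.2.1 : G) * qm.1.out⁻¹) * qm.1.out = (qm.2.1 : G) := by
          group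
        rw [this]
        exact qm.2.1.2⟩
  have hinj : Function.Injective f := by
    rintro ⟨q, m⟩ ⟨q', m'⟩ hqm
    have h1 : q.out * (m.1 : G) * q.out⁻¹ = q'.out * (m'.1 : G) * q'.out⁻¹ :=
      congrArg Subtype.val hqm
    have h2 : (q'.out⁻¹ * q.out) * (m.1 : G) * (q'.out⁻¹ * q.out)⁻¹ = (m'.1 : G) := by
      have := congrArg (fun y => q'.out⁻¹ * y * q'.out) h1
      simp only [mul_assoc, inv_mul_cancel_left, inv_mul_cancel, mul_one] at this
      rw [← this]
      group
    have h3 : q'.out⁻¹ * q.out ∈ M := by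
      by_contra hnot
      have h4 := hTI _ hnot (m.1 : G) m.1.2 (by rw [h2]; exact m'.1.2)
      exact m.2 (Subtype.ext h4)
    have hq : q' = q := by
      rw [← QuotientGroup.out_eq' q', ← QuotientGroup.out_eq' q]
      exact QuotientGroup.eq.2 h3
    subst hq
    have h5 : (m.1 : G) = (m'.1 : G) := by
      have := congrArg (fun y => q'.out⁻¹ * y * q'.out) h1
      simpa [mul_assoc] using this
    have h6 : m = m' := Subtype.ext (Subtype.ext h5)
    rw [h6]
  have hsurj : Function.Surjective f := by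
    rintro ⟨x, hx1, g, hg⟩
    obtain ⟨m₀, hm₀⟩ := QuotientGroup.mk_out_eq_mul M g
    have hmem : ((g : G ⧸ M).out)⁻¹ * x * (g : G ⧸ M).out ∈ M := by
      rw [hm₀]
      have : (g * (m₀ : G))⁻¹ * x * (g * (m₀ : G)) = (m₀ : G)⁻¹ * (g⁻¹ * x * g) * (m₀ : G) := by group
      rw [this]
      exact M.mul_mem (M.mul_mem (M.inv_mem m₀.2) hg) m₀.2
    have hne : (⟨_, hmem⟩ : M) ≠ 1 := by
      intro h1
      have h2 : ((g : G ⧸ M).out)⁻¹ * x * (g : G ⧸ M).out = 1 := congrArg Subtype.val h1
      apply hx1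
      have := congrArg (fun y => (g : G ⧸ M).out * y * ((g : G ⧸ M).out)⁻¹) h2
      simpa [mul_assoc] using this
    refine ⟨⟨(g : G ⧸ M), ⟨⟨_, hmem⟩, hne⟩⟩, ?_⟩
    apply Subtype.ext
    show (g : G ⧸ M).out * (((g : G ⧸ M).out)⁻¹ * x * (g : G ⧸ M).out) * ((g : G ⧸ M).out)⁻¹ = x
    group
  rw [← Nat.card_eq_of_bijective f ⟨hinj, hsurj⟩, Nat.card_prod, card_ne_one_subtype]
  rfl


theorem card_lt_of_lt {G : Type u} [Group G] [Finite G] {H K : Subgroup G} (h : H < K) :
    Nat.card H < Nat.card K := by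
  have h1 : Nat.card H ≤ Nat.card K := Subgroup.card_le_of_le h.le
  rcases Nat.lt_or_ge (Nat.card H) (Nat.card K) with h2 | h2
  · exact h2
  · exact absurd (Subgroup.eq_of_le_of_card_ge h.le h2) h.ne

theorem simple_case {G : Type u} [Group G] [Finite G]
    (h : ∀ M : Subgroup G, IsCoatom M → Group.IsNilpotent M)
    (hsimple : ∀ N : Subgroup G, N.Normal → N = ⊥ ∨ N = ⊤)
    (hnc : ¬ ∀ a b : G, a * b = b * a) : False := by
  classical
  -- S1: not cyclic
  have S1 : ∀ x : G, Subgroup.zpowers x ≠ ⊤ := by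
    intro x hx
    apply hnc
    intro a b
    have ha : a ∈ Subgroup.zpowers x := hx ▸ Subgroup.mem_top a
    have hb : b ∈ Subgroup.zpowers x := hx ▸ Subgroup.mem_top b
    obtain ⟨i, rfl⟩ := Subgroup.mem_zpowers_iff.1 ha
    obtain ⟨j, rfl⟩ := Subgroup.mem_zpowers_iff.1 hb
    rw [← zpow_add, ← zpow_add, add_comm]
  -- S2: coatoms are nontrivial
  have S2 : ∀ K : Subgroup G, IsCoatom K → K ≠ ⊥ := by
    intro K hK hbot
    apply hnc
    intro a b
    by_cases ha : a = 1
    · rw [ha, one_mul, mul_one]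
    · exfalso
      have h1 : (⊥ : Subgroup G) < Subgroup.zpowers a := by
        rw [bot_lt_iff_ne_bot]
        intro h2
        exact ha (Subgroup.zpowers_eq_bot.1 h2)
      rw [← hbot] at h1
      exact S1 a (hK.2 _ h1)
  -- S3: coatoms are self-normalizing
  have S3 : ∀ K : Subgroup G, IsCoatom K → Subgroup.normalizer (K : Set G) = K := by
    intro K hK
    by_contra hne
    have hlt : K < Subgroup.normalizer (K : Set G) := lt_of_le_of_ne Subgroup.le_normalizer (Ne.symm hne)
    have htop := hK.2 _ hlt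
    have hn : K.Normal := Subgroup.normalizer_eq_top_iff.1 htop
    rcases hsimple K hn with h1 | h1
    · exact S2 K hK h1
    · exact hK.1 h1
  -- coatoms are comparable only if equal
  have hcoeq : ∀ K₁ K₂ : Subgroup G, IsCoatom K₁ → IsCoatom K₂ → K₁ ≤ K₂ → K₁ = K₂ := by
    intro K₁ K₂ h1 h2 hle
    by_contra hne
    exact h2.1 (h1.2 _ (lt_of_le_of_ne hle hne))
  -- S4: distinct coatoms meet trivially
  have S4 : ∀ d : ℕ, ∀ M₁ M₂ : Subgroup G, IsCoatom M₁ → IsCoatom M₂ → M₁ ≠ M₂ →
      Nat.card G - Nat.card (M₁ ⊓ M₂ : Subgroup G) = d → M₁ ⊓ M₂ = ⊥ := by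
    intro d
    induction d using Nat.strong_induction_on with
    | _ d ih =>
      intro M₁ M₂ hM₁ hM₂ hne hd
      by_contra hDne
      set D := M₁ ⊓ M₂ with hD
      have hDtop : D ≠ ⊤ := by
        intro h1
        apply hM₁.1
        rw [eq_top_iff, ← h1]
        exact inf_le_left
      have hNtop : Subgroup.normalizer (D : Set G) ≠ ⊤ := by
        intro h1
        have hn : D.Normal := Subgroup.normalizer_eq_top_iff.1 h1
        rcases hsimple D hn with h2 | h2
        · exact hDne h2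
        · exact hDtop h2
      obtain ⟨M, hM, hNM⟩ := (eq_top_or_exists_le_coatom (Subgroup.normalizer (D : Set G))).resolve_left hNtop
      have key : ∀ M' : Subgroup G, IsCoatom M' → D ≤ M' → D ≠ M' → M = M' := by
        intro M' hM' hDM' hDneM'
        have hnil : Group.IsNilpotent M' := h M' hM'
        have hnc' := Group.normalizerCondition_of_isNilpotent (G := M')
        have hlt : D.subgroupOf M' < ⊤ := by
          rw [lt_top_iff_ne_top]
          intro h1
          rw [Subgroup.subgroupOf_eq_top] at h1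
          exact hDneM' (le_antisymm hDM' h1)
        have h2 := hnc' _ hlt
        rw [← Subgroup.subgroupOf_normalizer_eq hDM'] at h2
        obtain ⟨y, hy1, hy2⟩ := SetLike.exists_of_lt h2
        rw [Subgroup.mem_subgroupOf] at hy1 hy2
        by_contra hMM'
        have hlt2 : D < M ⊓ M' := by
          refine lt_of_le_of_ne (le_inf (Subgroup.le_normalizer.trans hNM) hDM') ?_
          intro h3
          apply hy2
          rw [h3]
          exact ⟨hNM hy1, y.2⟩
        have hc := card_lt_of_lt hlt2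
        have hcG : Nat.card (M ⊓ M' : Subgroup G) ≤ Nat.card G := Subgroup.card_le_card_group _
        have h4 := ih (Nat.card G - Nat.card (M ⊓ M' : Subgroup G)) (by omega) M M' hM hM' hMM' rfl
        rw [h4] at hlt2
        exact not_lt_bot hlt2
      have hD1 : D ≠ M₁ := by
        intro h1
        apply hne
        apply hcoeq M₁ M₂ hM₁ hM₂
        rw [← h1]
        exact inf_le_right
      have hD2 : D ≠ M₂ := by
        intro h1
        apply hne
        symm
        apply hcoeq M₂ M₁ hM₂ hM₁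
        rw [← h1]
        exact inf_le_left
      have e1 := key M₁ hM₁ inf_le_left hD1
      have e2 := key M₂ hM₂ inf_le_right hD2
      exact hne (e1.symm.trans e2)
  have S4' : ∀ M₁ M₂ : Subgroup G, IsCoatom M₁ → IsCoatom M₂ → ∀ x : G, x ∈ M₁ → x ∈ M₂ → x ≠ 1 →
      M₁ = M₂ := by
    intro M₁ M₂ h1 h2 x hx1 hx2 hx
    by_contra hne
    have := S4 _ M₁ M₂ h1 h2 hne rfl
    have hx3 : x ∈ M₁ ⊓ M₂ := ⟨hx1, hx2⟩
    rw [this, Subgroup.mem_bot] at hx3
    exact hx hx3
  -- conjugates of coatoms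
  have hconj : ∀ (M : Subgroup G) (g : G), IsCoatom M → IsCoatom (M.map (MulAut.conj g).toMonoidHom) := by
    intro M g hM
    exact (OrderIso.isCoatom_iff (MulEquiv.mapSubgroup (MulAut.conj g)) M).2 hM
  have hmemconj : ∀ (M : Subgroup G) (g x : G), x ∈ M.map (MulAut.conj g).toMonoidHom ↔ g⁻¹ * x * g ∈ M := by
    intro M g x
    rw [Subgroup.mem_map_equiv]
    simp [MulAut.conj_symm_apply]
  -- S5: TI
  have S5 : ∀ M : Subgroup G, IsCoatom M → ∀ g : G, g ∉ M → ∀ x ∈ M, g * x * g⁻¹ ∈ M → x = 1 := by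
    intro M hM g hg x hx hgx
    by_contra hx1
    have h1 : x ∈ M.map (MulAut.conj g⁻¹).toMonoidHom := by
      rw [hmemconj, inv_inv]; exact hgx
    have h2 := S4' M _ hM (hconj M g⁻¹ hM) x hx h1 hx1
    apply hg
    have h3 : g⁻¹ ∈ Subgroup.normalizer (M : Set G) := by
      rw [Subgroup.mem_normalizer_iff_map_conj_eq]
      exact h2.symm
    rw [S3 M hM] at h3
    simpa using M.inv_mem h3
  -- counting
  have hntriv : (⊥ : Subgroup G) ≠ ⊤ := by
    intro h1
    apply hnc
    intro a b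
    have ha : a ∈ (⊥ : Subgroup G) := h1 ▸ Subgroup.mem_top a
    have hb : b ∈ (⊥ : Subgroup G) := h1 ▸ Subgroup.mem_top b
    rw [Subgroup.mem_bot] at ha hb
    rw [ha, hb]
  obtain ⟨M, hM, -⟩ := (eq_top_or_exists_le_coatom (⊥ : Subgroup G)).resolve_left hntriv
  have hcard : ∀ K : Subgroup G, IsCoatom K →
      Nat.card {x : G // x ≠ 1 ∧ ∃ g : G, g⁻¹ * x * g ∈ K} = Nat.card G - K.index ∧ 2 * K.index ≤ Nat.card G
        ∧ 2 ≤ K.index := by
    intro K hK
    have h1 := card_U K (S5 K hK)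
    have h2 := K.card_mul_index
    have h3 : 2 ≤ Nat.card K := by
      have := (Subgroup.one_lt_card_iff_ne_bot K).2 (S2 K hK)
      omega
    have h4 : K.index ≠ 1 := fun h5 => hK.1 (Subgroup.index_eq_one.1 h5)
    have h5 : K.index ≠ 0 := Subgroup.index_ne_zero_of_finite
    refine ⟨?_, ?_, by omega⟩
    · rw [h1, ← h2]
      have : Nat.card K = (Nat.card K - 1) + 1 := by omega
      nth_rewrite 2 [this]
      rw [Nat.add_mul, one_mul, Nat.add_sub_cancel, mul_comm]
    · rw [← h2]
      nlinarith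
  obtain ⟨hc1, hc2, hc3⟩ := hcard M hM
  have hG1 := card_ne_one_subtype (1 : G)
  -- an element outside all conjugates of M
  have hx₀ : ∃ x₀ : G, x₀ ≠ 1 ∧ ¬ ∃ g : G, g⁻¹ * x₀ * g ∈ M := by
    by_contra hall
    push Not at hall
    have hbij : Function.Bijective (fun x : {x : G // x ≠ 1 ∧ ∃ g : G, g⁻¹ * x * g ∈ M} =>
        (⟨x.1, x.2.1⟩ : {x : G // x ≠ 1})) := by
      refine ⟨fun a b hab => Subtype.ext (congrArg (fun z : {x : G // x ≠ 1} => (z : G)) hab), fun y => ⟨⟨y.1, y.2, hall y.1 y.2⟩, rfl⟩⟩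
    have := Nat.card_eq_of_bijective _ hbij
    rw [hc1, hG1] at this
    omega
  obtain ⟨x₀, hx₀1, hx₀M⟩ := hx₀
  obtain ⟨M', hM', hxM'⟩ := (eq_top_or_exists_le_coatom (Subgroup.zpowers x₀)).resolve_left (S1 x₀)
  have hx₀M' : x₀ ∈ M' := hxM' (Subgroup.mem_zpowers x₀)
  obtain ⟨hc1', hc2', hc3'⟩ := hcard M' hM'
  -- the two families are disjoint
  have hdisj : ∀ x : G, x ≠ 1 → (∃ g : G, g⁻¹ * x * g ∈ M) → (∃ g : G, g⁻¹ * x * g ∈ M') → False := by
    rintro x hx ⟨g, hg⟩ ⟨g', hg'⟩
    have h1 : x ∈ M.map (MulAut.conj g).toMonoidHom := (hmemconj M g x).2 hg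
    have h2 : x ∈ M'.map (MulAut.conj g').toMonoidHom := (hmemconj M' g' x).2 hg'
    have h3 := S4' _ _ (hconj M g hM) (hconj M' g' hM') x h1 h2 hx
    apply hx₀M
    refine ⟨g'⁻¹ * g, ?_⟩
    have h4 : g' * x₀ * g'⁻¹ ∈ M'.map (MulAut.conj g').toMonoidHom := by
      rw [hmemconj]
      have : g'⁻¹ * (g' * x₀ * g'⁻¹) * g' = x₀ := by group
      rw [this]
      exact hx₀M'
    rw [← h3, hmemconj] at h4
    have : (g'⁻¹ * g)⁻¹ * x₀ * (g'⁻¹ * g) = g⁻¹ * (g' * x₀ * g'⁻¹) * g := by group
    rw [this]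
    exact h4
  -- injection of the disjoint union into nonidentity elements
  let F : {x : G // x ≠ 1 ∧ ∃ g : G, g⁻¹ * x * g ∈ M} ⊕ {x : G // x ≠ 1 ∧ ∃ g : G, g⁻¹ * x * g ∈ M'} →
      {x : G // x ≠ 1} := Sum.elim (fun x => ⟨x.1, x.2.1⟩) (fun x => ⟨x.1, x.2.1⟩)
  have hF : Function.Injective F := by
    rintro (a | a) (b | b) hab
    · have : a.1 = b.1 := congrArg (fun z : {x : G // x ≠ 1} => (z : G)) hab
      rw [Subtype.ext this]
    · exfalso
      have : a.1 = b.1 := congrArg (fun z : {x : G // x ≠ 1} => (z : G)) hab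
      exact hdisj a.1 a.2.1 a.2.2 (this ▸ b.2.2)
    · exfalso
      have : a.1 = b.1 := congrArg (fun z : {x : G // x ≠ 1} => (z : G)) hab
      exact hdisj b.1 b.2.1 b.2.2 (this ▸ a.2.2)
    · have : a.1 = b.1 := congrArg (fun z : {x : G // x ≠ 1} => (z : G)) hab
      rw [Subtype.ext this]
  have hle := Nat.card_le_card_of_injective F hF
  rw [Nat.card_sum, hc1, hc1', hG1] at hle
  have hGpos : 0 < Nat.card G := Nat.card_pos
  omega


theorem aux : ∀ (n : ℕ) (G : Type u) [Group G] [Finite G], Nat.card G = n →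
    (∀ M : Subgroup G, IsCoatom M → Group.IsNilpotent M) → Group.IsSolvable G := by
  intro n
  induction n using Nat.strong_induction_on with
  | _ n ih =>
    intro G _ _ hcard h
    by_cases hN : ∃ N : Subgroup G, N.Normal ∧ N ≠ ⊥ ∧ N ≠ ⊤
    · obtain ⟨N, hNn, hNbot, hNtop⟩ := hN
      obtain ⟨M, hM, hNM⟩ := (eq_top_or_exists_le_coatom N).resolve_left hNtop
      have hMnil := h M hM
      have hNnil : Group.IsNilpotent N := by
        have h1 : Group.IsNilpotent (N.subgroupOf M) := inferInstance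
        exact (Group.isNilpotent_congr (Subgroup.subgroupOfEquivOfLe hNM)).1 h1
      have hNs : Group.IsSolvable N := inferInstance
      set π := QuotientGroup.mk' N with hπdef
      have hπ : Function.Surjective π := QuotientGroup.mk'_surjective N
      have hlt : Nat.card (G ⧸ N) < n := by
        have h1 := Subgroup.card_eq_card_quotient_mul_card_subgroup N
        have h2 : 1 < Nat.card N := (Subgroup.one_lt_card_iff_ne_bot N).2 hNbot
        have h3 : 0 < Nat.card (G ⧸ N) := Nat.card_pos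
        rw [hcard] at h1
        nlinarith
      have hQ : Group.IsSolvable (G ⧸ N) := by
        refine ih (Nat.card (G ⧸ N)) hlt (G ⧸ N) rfl ?_
        intro Mb hMb
        have h1 := Subgroup.isCoatom_comap_of_surjective hπ hMb
        have h2 := h _ h1
        have h3 : Group.IsNilpotent ((Mb.comap π).map π) :=
          Group.nilpotent_of_surjective (π.subgroupMap _) (π.subgroupMap_surjective _)
        rw [Subgroup.map_comap_eq_self_of_surjective hπ] at h3
        exact h3
      exact Group.isSolvable_of_ker_le_range N.subtype π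
        (by rw [hπdef, QuotientGroup.ker_mk', Subgroup.range_subtype])
    · by_cases hc : ∀ a b : G, a * b = b * a
      · exact Group.isSolvable_of_comm hc
      · exfalso
        refine simple_case h (fun N hNn => ?_) hc
        by_contra hcon
        push Not at hcon
        exact hN ⟨N, hNn, hcon.1, hcon.2⟩

theorem result {G : Type*} [Group G] [Finite G]
    (h : ∀ M : Subgroup G, IsCoatom M → Group.IsNilpotent M) : Group.IsSolvable G :=
  aux _ G rfl h

end Cfsg.Agent.S0046
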