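import Cfsg.Statements.S0609
import Cfsg.Agent.Lib.Helper14.Coprime
import Cfsg.Agent.Lib.Helper14.Thompson
import Cfsg.Agent.Lib.Helper30.PLayer
import Cfsg.Agent.Lib.Helper31.PComp
import Mathlib

set_option autoImplicit false
open Cfsg

namespace Cfsg.Agent.S0609

section transport
variable {G H : Type*} [Group G] [Group H] (f : G →* H) {p : ℕ}

/-- the Thompson subgroup is natural under isomorphisms -/
theorem thompson_map_le {P P' : Type*} [Group P] [Group P'] (e : P ≃* P') :
    (thompsonSubgroup p P).map e.toMonoidHom ≤ thompsonSubgroup p P' := by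
  rw [Subgroup.map_le_iff_le_comap]
  unfold thompsonSubgroup
  apply sSup_le
  intro A hA
  rw [← Subgroup.map_le_iff_le_comap]
  exact le_sSup (Cfsg.Agent.Lib.Helper14.maxEA_map_equiv e hA)

theorem thompson_map {P P' : Type*} [Group P] [Group P'] (e : P ≃* P') :
    (thompsonSubgroup p P).map e.toMonoidHom = thompsonSubgroup p P' := by
  apply le_antisymm (thompson_map_le e)
  have h := Subgroup.map_mono (f := e.toMonoidHom) (thompson_map_le (p := p) e.symm)
  rw [Subgroup.map_map] at h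
  have h2 : e.toMonoidHom.comp e.symm.toMonoidHom = MonoidHom.id P' := by
    ext x; simp
  rwa [h2, Subgroup.map_id] at h

theorem thompsonOf_map {S : Subgroup G} (hinj : ∀ s ∈ S, f s = 1 → s = 1) :
    thompsonSubgroupOf p (S.map f) = (thompsonSubgroupOf p S).map f := by
  have hbij : Function.Bijective (f.subgroupMap S) := by
    refine ⟨?_, f.subgroupMap_surjective S⟩
    rw [injective_iff_map_eq_one]
    intro s hs
    exact Subtype.ext (hinj s.1 s.2 (congrArg Subtype.val hs))
  have e := thompson_map (p := p) (MulEquiv.ofBijective (f.subgroupMap S) hbij)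
  unfold thompsonSubgroupOf
  rw [← e, Subgroup.map_map, Subgroup.map_map]
  rfl

theorem center_map {S : Subgroup G} (hinj : ∀ s ∈ S, f s = 1 → s = 1) :
    S.map f ⊓ Subgroup.centralizer ((S.map f : Subgroup H) : Set H) =
      (S ⊓ Subgroup.centralizer (S : Set G)).map f := by
  apply le_antisymm
  · rintro y ⟨⟨s, hs, rfl⟩, hy⟩
    refine ⟨s, ⟨hs, ?_⟩, rfl⟩
    intro t ht
    have h1 := hy (f t) ⟨t, ht, rfl⟩
    have h2 : f (t * s * (s * t)⁻¹) = 1 := by
      rw [map_mul, map_mul, map_inv, map_mul, h1]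
      group
    have h3 := hinj _ (S.mul_mem (S.mul_mem ht hs) (S.inv_mem (S.mul_mem hs ht))) h2
    exact mul_inv_eq_one.mp h3
  · rintro _ ⟨s, ⟨hs, hc⟩, rfl⟩
    refine ⟨⟨s, hs, rfl⟩, ?_⟩
    rintro _ ⟨t, ht, rfl⟩
    rw [← map_mul, ← map_mul, hc t ht]

theorem omegaOne_map {S X : Subgroup G} (hXS : X ≤ S) (hinj : ∀ s ∈ S, f s = 1 → s = 1) :
    omegaOne p (X.map f) = (omegaOne p X).map f := by
  unfold omegaOne
  rw [MonoidHom.map_closure]
  congr 1
  ext y
  constructor
  · rintro ⟨⟨x, hx, rfl⟩, hy⟩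
    refine ⟨x, ⟨hx, ?_⟩, rfl⟩
    rw [← map_pow] at hy
    exact hinj _ (S.pow_mem (hXS hx) p) hy
  · rintro ⟨x, ⟨hx, hxp⟩, rfl⟩
    exact ⟨⟨x, hx, rfl⟩, by rw [← map_pow, hxp, map_one]⟩

end transport


/-- Thompson factorizability passes to and from the quotient by the largest normal subgroup of order prime to p. -/
theorem result {G : Type*} [Group G] [Finite G] {p : ℕ} [Fact p.Prime] : Cfsg.IsThompsonFactorizable p G ↔ Cfsg.IsThompsonFactorizable p (G ⧸ Cfsg.pPrimeCore p G) := by
  have hsurj := QuotientGroup.mk'_surjective (pPrimeCore p G)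
  have hcop : (Nat.card (pPrimeCore p G)).Coprime p := Cfsg.Agent.Lib.Helper31.pPrimeCore_coprime p
  -- the quotient map is injective on every Sylow subgroup
  have hinj : ∀ S : Sylow p G, ∀ s ∈ (S : Subgroup G), QuotientGroup.mk' (pPrimeCore p G) s = 1 → s = 1 := by
    intro S s hs h1
    rw [QuotientGroup.mk'_apply, QuotientGroup.eq_one_iff] at h1
    obtain ⟨k, hk⟩ := S.isPGroup' ⟨s, hs⟩
    have hk' : s ^ p ^ k = 1 := congrArg Subtype.val hk
    have h2 : orderOf s ∣ p ^ k := orderOf_dvd_of_pow_eq_one hk'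
    have h3 : orderOf s ∣ Nat.card (pPrimeCore p G) := by
      have := orderOf_dvd_natCard (⟨s, h1⟩ : pPrimeCore p G)
      rwa [Subgroup.orderOf_mk] at this
    have h4 : orderOf s ∣ 1 := by
      have hc : (Nat.card (pPrimeCore p G)).Coprime (p ^ k) := Nat.Coprime.pow_right k hcop
      rw [← hc]
      exact Nat.dvd_gcd h3 h2
    exact orderOf_eq_one_iff.mp (Nat.dvd_one.mp h4)
  have hΩ : ∀ S : Sylow p G,
      omegaOne p ((S.map (QuotientGroup.mk' (pPrimeCore p G)) : Subgroup (G ⧸ pPrimeCore p G)) ⊓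
        Subgroup.centralizer ((S.map (QuotientGroup.mk' (pPrimeCore p G)) :
          Subgroup (G ⧸ pPrimeCore p G)) : Set (G ⧸ pPrimeCore p G))) =
      (omegaOne p ((S : Subgroup G) ⊓ Subgroup.centralizer ((S : Subgroup G) : Set G))).map
        (QuotientGroup.mk' (pPrimeCore p G)) := by
    intro S
    rw [center_map _ (hinj S), omegaOne_map _ inf_le_left (hinj S)]
  have hJ : ∀ S : Sylow p G,
      thompsonSubgroupOf p (S.map (QuotientGroup.mk' (pPrimeCore p G)) : Subgroup (G ⧸ pPrimeCore p G)) =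
      (thompsonSubgroupOf p (S : Subgroup G)).map (QuotientGroup.mk' (pPrimeCore p G)) :=
    fun S => thompsonOf_map _ (hinj S)
  constructor
  · intro hTF Sbar gbar
    obtain ⟨S, rfl⟩ := Sylow.mapSurjective_surjective hsurj p Sbar
    obtain ⟨g, rfl⟩ := hsurj gbar
    obtain ⟨x, hx, c, hc, n, hn, rfl⟩ := hTF S g
    rw [Sylow.coe_mapSurjective, hΩ S, hJ S]
    refine ⟨1, one_mem _, QuotientGroup.mk' _ c, ?_, QuotientGroup.mk' _ n, ?_, ?_⟩
    · rintro _ ⟨w, hw, rfl⟩
      rw [← map_mul, ← map_mul, hc w hw]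
    · exact Subgroup.le_normalizer_map _ (Subgroup.mem_map_of_mem _ hn)
    · rw [map_mul, map_mul, one_mul]
      have : QuotientGroup.mk' (pPrimeCore p G) x = 1 := by
        rw [QuotientGroup.mk'_apply, QuotientGroup.eq_one_iff]; exact hx
      rw [this, one_mul]
  · intro hTF S g
    obtain ⟨xbar, hxbar, cbar, hcbar, nbar, hnbar, hg⟩ :=
      hTF (S.mapSurjective hsurj) (QuotientGroup.mk' _ g)
    rw [Cfsg.Agent.Lib.Helper31.pPrimeCore_quotient_eq_bot, Subgroup.mem_bot] at hxbar
    rw [Sylow.coe_mapSurjective, hΩ S] at hcbar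
    rw [Sylow.coe_mapSurjective, hJ S] at hnbar
    have hΩp : IsPGroup p (omegaOne p ((S : Subgroup G) ⊓ Subgroup.centralizer ((S : Subgroup G) : Set G))) := by
      apply S.isPGroup'.to_le
      unfold omegaOne
      rw [Subgroup.closure_le]
      intro x hx
      exact hx.1.1
    obtain ⟨c, hc, hcc⟩ := Cfsg.Agent.Lib.Helper30.exists_lift_centralizer p
      (Cfsg.Agent.Lib.Helper30.not_dvd_card_pPrimeCore p) hΩp hcbar
    obtain ⟨m, rfl⟩ := hsurj nbar
    have hJp : IsPGroup p (thompsonSubgroupOf p (S : Subgroup G)) :=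
      S.isPGroup'.to_le (Cfsg.Agent.Lib.Helper14.thompsonOf_le _)
    have hm : ∀ x ∈ thompsonSubgroupOf p (S : Subgroup G),
        m * x * m⁻¹ ∈ thompsonSubgroupOf p (S : Subgroup G) ⊔ pPrimeCore p G := by
      intro x hx
      have h1 := (Subgroup.mem_normalizer_iff.mp hnbar (QuotientGroup.mk' _ x)).mp
        (Subgroup.mem_map_of_mem _ hx)
      rw [← map_inv, ← map_mul, ← map_mul] at h1
      have h2 : m * x * m⁻¹ ∈ ((thompsonSubgroupOf p (S : Subgroup G)).map
          (QuotientGroup.mk' (pPrimeCore p G))).comap (QuotientGroup.mk' (pPrimeCore p G)) := h1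
      rwa [Subgroup.comap_map_eq, QuotientGroup.ker_mk'] at h2
    obtain ⟨y, hy, hyn⟩ := Cfsg.Agent.Lib.Helper14.sylow_conj_mod_normal (pPrimeCore p G) hcop
      (thompsonSubgroupOf p (S : Subgroup G)) hJp m hm
    refine ⟨g * (c * (y⁻¹ * m))⁻¹, ?_, c, hc, y⁻¹ * m, hyn, by group⟩
    rw [← QuotientGroup.eq_one_iff, ← QuotientGroup.mk'_apply, map_mul, map_inv, hg, hxbar, one_mul,
      map_mul, map_mul, map_inv, hcc]
    have : QuotientGroup.mk' (pPrimeCore p G) y = 1 := by
      rw [QuotientGroup.mk'_apply, QuotientGroup.eq_one_iff]; exact hy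
    rw [this, inv_one, one_mul, mul_inv_cancel]

end Cfsg.Agent.S0609
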