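import Cfsg.Statements.S0600
import Cfsg.Agent.Lib.Helper14.PCore

set_option autoImplicit false
open Cfsg

namespace Cfsg.Agent.S0600

open Cfsg.Agent.Lib.Helper14

/-- A normal elementary abelian p-subgroup generated by the fixed points of the Sylow p-subgroups admits no nontrivial normal p-subgroup of G modulo its centralizer. -/
theorem result {G : Type*} [Group G] [Finite G] {p : ℕ} [Fact p.Prime] (V : Subgroup G) [V.Normal] (hV : Cfsg.IsElementaryAbelian p V) (hgen : V = ⨆ S : Sylow p G, V ⊓ Subgroup.centralizer ((S : Subgroup G) : Set G)) : Cfsg.pCore p (G ⧸ Subgroup.centralizer (V : Set G)) = ⊥ := by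
  set C := Subgroup.centralizer (V : Set G) with hC
  have hsurj : Function.Surjective (QuotientGroup.mk' C) := QuotientGroup.mk'_surjective C
  have hPn : (pCore p (G ⧸ C)).Normal := inferInstance
  set D := (pCore p (G ⧸ C)).comap (QuotientGroup.mk' C) with hD
  have hDn : D.Normal := Subgroup.Normal.comap hPn _
  have hDmap : D.map (QuotientGroup.mk' C) = pCore p (G ⧸ C) :=
    Subgroup.map_comap_eq_self_of_surjective hsurj _
  have hDp : IsPGroup p (D.map (QuotientGroup.mk' C)) := by
    rw [hDmap]; exact pCore_isPGroup
  have hDC : D ≤ C := by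
    intro d hd
    have hVZ : V ≤ Subgroup.centralizer ({d} : Set G) := by
      calc V = ⨆ S : Sylow p G, V ⊓ Subgroup.centralizer ((S : Subgroup G) : Set G) := hgen
        _ ≤ Subgroup.centralizer ({d} : Set G) := by
          apply iSup_le
          intro S v hv
          obtain ⟨s, hs, c, hc, rfl⟩ := exists_sylow_mul_of_map_isPGroup C D hDp S d hd
          have hv1 : v ∈ V := (Subgroup.mem_inf.mp hv).1
          have hv2 : v ∈ Subgroup.centralizer ((S : Subgroup G) : Set G) := (Subgroup.mem_inf.mp hv).2
          have e1 : s * v = v * s := Subgroup.mem_centralizer_iff.mp hv2 s hs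
          have e2 : v * c = c * v := Subgroup.mem_centralizer_iff.mp hc v hv1
          rw [Subgroup.mem_centralizer_iff]
          intro h hh
          rw [Set.mem_singleton_iff] at hh
          subst hh
          rw [mul_assoc, ← e2, ← mul_assoc, e1, mul_assoc]
    rw [hC, Subgroup.mem_centralizer_iff]
    intro v hv
    have := Subgroup.mem_centralizer_iff.mp (hVZ hv) d (Set.mem_singleton d)
    exact this.symm
  rw [eq_bot_iff]
  intro x hx
  obtain ⟨d, rfl⟩ := hsurj x
  have hd : d ∈ D := hx
  have : d ∈ (QuotientGroup.mk' C).ker := by rw [QuotientGroup.ker_mk']; exact hDC hd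
  exact Subgroup.mem_bot.mpr (MonoidHom.mem_ker.mp this)

end Cfsg.Agent.S0600
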