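import Cfsg.Statements.S0608
import Cfsg.Agent.Lib.Helper14.Thompson
import Cfsg.Agent.Lib.Helper14.Replacement2
import Cfsg.Agent.S0604

set_option autoImplicit false
open Cfsg

namespace Cfsg.Agent.S0608

open Cfsg.Agent.Lib.Helper14

/-- With trivial p'-core, Thompson factorizability is equivalent to J(G) centralizing the subgroup generated by all Ω₁(Z(S)), S Sylow. -/
theorem result {G : Type*} [Group G] [Finite G] {p : ℕ} [Fact p.Prime] (hO : Cfsg.pPrimeCore p G = ⊥) : Cfsg.IsThompsonFactorizable p G ↔ Cfsg.thompsonSubgroup p G ≤ Subgroup.centralizer ((⨆ S : Sylow p G, Cfsg.omegaOne p (((S : Subgroup G)) ⊓ Subgroup.centralizer ((S : Subgroup G) : Set G)) : Subgroup G) : Set G) := by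
  have hVn := iSup_omegaZ_normal (G := G) (p := p)
  set V := ⨆ S : Sylow p G, Cfsg.omegaOne p (((S : Subgroup G)) ⊓ Subgroup.centralizer ((S : Subgroup G) : Set G)) with hV
  constructor
  · intro hTF
    rw [Subgroup.le_centralizer_iff]
    apply iSup_le
    intro S z hz
    have hzS : z ∈ Subgroup.centralizer ((S : Subgroup G) : Set G) := omegaZ_le_centralizer _ hz
    have hJ : thompsonSubgroup p G ≤ Subgroup.centralizer ({z} : Set G) := by
      rw [Cfsg.Agent.S0604.result]
      apply iSup_le
      intro T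
      obtain ⟨g, rfl⟩ := MulAction.exists_smul_eq G S T
      refine (thompsonOf_sylow_smul_le g S).trans ?_
      rintro _ ⟨j, hj, rfl⟩
      obtain ⟨x, hx, c, hc, n, hn, hg⟩ := hTF S g
      rw [hO] at hx
      have hx1 : x = 1 := Subgroup.mem_bot.mp hx
      rw [hx1, one_mul] at hg
      have hj' : n * j * n⁻¹ ∈ thompsonSubgroupOf p (S : Subgroup G) :=
        conj_mem_of_normalizer hj hn
      have e1 : (n * j * n⁻¹) * z = z * (n * j * n⁻¹) :=
        Subgroup.mem_centralizer_iff.mp hzS _ (thompsonOf_le _ hj')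
      have e2 : z * c = c * z := Subgroup.mem_centralizer_iff.mp hc z hz
      rw [Subgroup.mem_centralizer_iff]
      intro y hy
      rw [Set.mem_singleton_iff] at hy
      subst hy
      show y * (g * j * g⁻¹) = (g * j * g⁻¹) * y
      have e3 : g * j * g⁻¹ = c * (n * j * n⁻¹) * c⁻¹ := by rw [hg]; group
      have e2' : y * c⁻¹ = c⁻¹ * y := by
        have : c⁻¹ * (y * c) * c⁻¹ = c⁻¹ * (c * y) * c⁻¹ := by rw [e2]
        calc y * c⁻¹ = c⁻¹ * (c * y) * c⁻¹ := by group
          _ = c⁻¹ * (y * c) * c⁻¹ := this.symm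
          _ = c⁻¹ * y := by group
      rw [e3]
      calc y * (c * (n * j * n⁻¹) * c⁻¹) = (y * c) * (n * j * n⁻¹) * c⁻¹ := by group
        _ = c * (y * (n * j * n⁻¹)) * c⁻¹ := by rw [e2]; group
        _ = c * ((n * j * n⁻¹) * y) * c⁻¹ := by rw [e1]
        _ = c * (n * j * n⁻¹) * (y * c⁻¹) := by group
        _ = c * (n * j * n⁻¹) * c⁻¹ * y := by rw [e2']; group
    rw [Subgroup.mem_centralizer_iff]
    intro y hy
    exact (Subgroup.mem_centralizer_iff.mp (hJ hy) z (Set.mem_singleton z)).symm
  · intro hJ S g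
    set C := Subgroup.centralizer (V : Set G) with hC
    have hfr := normalizer_inf_sup_eq_top C S
    obtain ⟨c, hc, n, hn, hg⟩ := exists_mul_of_sup_normal_eq_top hfr g
    refine ⟨1, Subgroup.one_mem _, c, ?_, n, ?_, by rw [one_mul]; exact hg⟩
    · refine Subgroup.centralizer_le ?_ hc
      exact le_iSup (fun S : Sylow p G =>
        Cfsg.omegaOne p (((S : Subgroup G)) ⊓ Subgroup.centralizer ((S : Subgroup G) : Set G))) S
    · have hK : Subgroup.normalizer (((S : Subgroup G) ⊓ C : Subgroup G) : Set G) ≤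
          Subgroup.normalizer (thompsonSubgroupOf p (S : Subgroup G) : Set G) := by
        apply le_normalizer_of_conj_mem
        intro m hm x hx
        have hmap : (thompsonSubgroupOf p (S : Subgroup G)).map (MulAut.conj m).toMonoidHom ≤
            thompsonSubgroupOf p (S : Subgroup G) := by
          rw [Subgroup.map_le_iff_le_comap]
          conv_lhs => rw [thompsonOf_sylow_eq_sSup S]
          apply sSup_le
          rintro A ⟨hA, hAS⟩
          rw [← Subgroup.map_le_iff_le_comap]
          apply maxEA_le_thompsonOf (maxEA_conj m hA)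
          rintro _ ⟨a, ha, rfl⟩
          have haSC : a ∈ (S : Subgroup G) ⊓ C :=
            Subgroup.mem_inf.mpr ⟨hAS ha, hJ (maxEA_le_thompson hA ha)⟩
          exact (Subgroup.mem_inf.mp (conj_mem_of_normalizer haSC hm)).1
        exact hmap (Subgroup.mem_map_of_mem (MulAut.conj m).toMonoidHom hx)
      exact hK hn

end Cfsg.Agent.S0608
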