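import Cfsg.Statements.S0618
import Cfsg.Agent.Lib.Helper14.Holo
import Cfsg.Agent.Lib.Helper14.FF3
import Cfsg.Agent.Lib.Helper14.QuadSylow
import Cfsg.Agent.Lib.Helper40.HallHigman
import Cfsg.Agent.S0600
import Cfsg.Agent.S0601
import Cfsg.Agent.S0602
import Cfsg.Agent.S0606
import Cfsg.Agent.S0608

set_option autoImplicit false
open Cfsg

namespace Cfsg.Agent.S0618

open Cfsg.Agent.Lib.Helper14

/-- the image of `J(G)` in the holomorph of `V` has trivial `p`-core when
`O_p(G / C_G(V)) = 1`. -/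
theorem pCore_map_thompson {G : Type*} [Group G] [Finite G] {p : ℕ} [Fact p.Prime]
    (V : Subgroup G) [V.Normal]
    (hO : Cfsg.pCore p (G ⧸ Subgroup.centralizer (V : Set G)) = ⊥) :
    Cfsg.pCore p ↥((Cfsg.thompsonSubgroup p G).map (holoHom V)) = ⊥ := by
  set τ := holoHom V with hτ
  set R := τ.range with hR
  set J := Cfsg.thompsonSubgroup p G with hJ
  set ℍ := J.map τ with hℍ
  have hJn : J.Normal := by
    have : J.Characteristic := (Cfsg.Agent.S0602.result (G := G) (p := p)).1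
    exact Subgroup.normal_of_characteristic J
  let e : G ⧸ Subgroup.centralizer (V : Set G) ≃* ↥R :=
    (QuotientGroup.quotientMulEquivOfEq (holoHom_ker V).symm).trans
      (QuotientGroup.quotientKerEquivRange τ)
  have hcoreR : Cfsg.pCore p ↥R = ⊥ := by
    rw [← Cfsg.Agent.Lib.Helper31.pCore_map p e, hO, Subgroup.map_bot]
  have hℍR : ℍ ≤ R := Subgroup.map_le_range _ _
  have hRℍ : R ≤ Subgroup.normalizer (ℍ : Set (Holo V)) := by
    rintro _ ⟨g, rfl⟩
    apply mem_normalizer_of_conj_mem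
    rintro _ ⟨j, hj, rfl⟩
    refine ⟨g * j * g⁻¹, hJn.conj_mem j hj g, ?_⟩
    rw [map_mul, map_mul, map_inv]
  set P : Subgroup (Holo V) := (Cfsg.pCore p ↥ℍ).map ℍ.subtype with hP
  have hPℍ : P ≤ ℍ := Subgroup.map_subtype_le _
  have hPp : IsPGroup p P := (pCore_isPGroup (p := p) (G := ↥ℍ)).map ℍ.subtype
  have hPn : ∀ r ∈ R, ∀ y ∈ P, r * y * r⁻¹ ∈ P := by
    rintro r hr _ ⟨x, hx, rfl⟩
    have h1 := Cfsg.Agent.Lib.Helper31.pCore_map p (conjHom ℍ R hRℍ ⟨r, hr⟩)
    have h2 : conjHom ℍ R hRℍ ⟨r, hr⟩ x ∈ Cfsg.pCore p ↥ℍ := by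
      rw [← h1]; exact ⟨x, hx, rfl⟩
    exact ⟨_, h2, rfl⟩
  have hPRn : (P.subgroupOf R).Normal := by
    refine ⟨fun x hx g => ?_⟩
    rw [Subgroup.mem_subgroupOf] at hx ⊢
    exact hPn g g.2 x hx
  have hPRp : IsPGroup p ↥(P.subgroupOf R) := hPp.comap_of_injective R.subtype R.subtype_injective
  have hPRbot : P.subgroupOf R = ⊥ := by
    have := le_pCore hPRn hPRp
    rw [hcoreR] at this
    exact le_bot_iff.mp this
  have hPbot : P = ⊥ := by
    rw [eq_bot_iff]
    intro y hy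
    have h1 : (⟨y, hℍR (hPℍ hy)⟩ : ↥R) ∈ P.subgroupOf R := Subgroup.mem_subgroupOf.mpr hy
    rw [hPRbot, Subgroup.mem_bot] at h1
    exact Subgroup.mem_bot.mpr (congrArg Subtype.val h1)
  exact (Subgroup.map_eq_bot_iff_of_injective _ ℍ.subtype_injective).mp hPbot

/-- centralizer of a union of subgroups is the centralizer of their join. -/
theorem centralizer_iSup_set {G : Type*} [Group G] {ι : Type*} (H : ι → Subgroup G) :
    Subgroup.centralizer (⨆ i, (H i : Set G)) =
      Subgroup.centralizer ((⨆ i, H i : Subgroup G) : Set G) := by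
  apply le_antisymm
  · intro x hx
    have h1 : (⨆ i, H i : Subgroup G) ≤ Subgroup.centralizer ({x} : Set G) := by
      refine iSup_le fun i y hy => ?_
      rw [Subgroup.mem_centralizer_iff]
      intro z hz
      rw [Set.mem_singleton_iff] at hz
      subst hz
      have h2 : y ∈ (⨆ i, (H i : Set G)) := by
        rw [Set.iSup_eq_iUnion]
        exact Set.mem_iUnion.mpr ⟨i, hy⟩
      exact (Subgroup.mem_centralizer_iff.mp hx y h2).symm
    rw [Subgroup.mem_centralizer_iff]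
    intro y hy
    exact (Subgroup.mem_centralizer_iff.mp (h1 hy) x rfl).symm
  · apply Subgroup.centralizer_le
    rw [Set.iSup_eq_iUnion]
    exact Set.iUnion_subset fun i => SetLike.coe_subset_coe.mpr (le_iSup H i)

/-- Let G be p-separable with O_p'(G) = 1 and not Thompson factorizable, and let V be generated by the groups Ω₁(Z(S)), S Sylow. Then p is 2 or 3, and J(G)C_G(V)/C_G(V) has a normal subgroup isomorphic to SL(2,p). -/
theorem result {G : Type*} [Group G] [Finite G] {p : ℕ} [Fact p.Prime] (hsep : Cfsg.IsPSolvable p G) (hO : Cfsg.pPrimeCore p G = ⊥) (hnf : ¬ Cfsg.IsThompsonFactorizable p G) : (p = 2 ∨ p = 3) ∧ ∃ E : Subgroup G, Subgroup.centralizer ((⨆ S : Sylow p G, Cfsg.omegaOne p ((S : Subgroup G) ⊓ Subgroup.centralizer ((S : Subgroup G) : Set G))) : Set G) ≤ E ∧ E ≤ Cfsg.thompsonSubgroup p G ⊔ Subgroup.centralizer ((⨆ S : Sylow p G, Cfsg.omegaOne p ((S : Subgroup G) ⊓ Subgroup.centralizer ((S : Subgroup G) : Set G))) : Set G) ∧ Cfsg.thompsonSubgroup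 p G ⊔ Subgroup.centralizer ((⨆ S : Sylow p G, Cfsg.omegaOne p ((S : Subgroup G) ⊓ Subgroup.centralizer ((S : Subgroup G) : Set G))) : Set G) ≤ Subgroup.normalizer (E : Set G) ∧ ∃ hn : ((Subgroup.centralizer ((⨆ S : Sylow p G, Cfsg.omegaOne p ((S : Subgroup G) ⊓ Subgroup.centralizer ((S : Subgroup G) : Set G))) : Set G)).subgroupOf E).Normal, Nonempty ((↥E ⧸ (Subgroup.centralizer ((⨆ S : Sylow p G, Cfsg.omegaOne p ((S : Subgroup G) ⊓ Subgroup.centralizer ((S : Subgroup G) : Set G))) : Set G)).subgroupOf E) ≃* Matrix.SpecialLinearGroup (Fin 2) (ZMod p)) := by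
  have hc : Subgroup.centralizer (Cfsg.pCore p G : Set G) ≤ Cfsg.pCore p G :=
    Cfsg.Agent.Lib.Helper40.centralizer_pCore_le hsep hO
  obtain ⟨hVn, hVea, -⟩ := Cfsg.Agent.S0601.result (G := G) (p := p) hc
  set V : Subgroup G := ⨆ S : Sylow p G,
    Cfsg.omegaOne p ((S : Subgroup G) ⊓ Subgroup.centralizer ((S : Subgroup G) : Set G)) with hV
  haveI : V.Normal := hVn
  set C := Subgroup.centralizer (V : Set G) with hC
  set J := Cfsg.thompsonSubgroup p G with hJ
  have hgen : V = ⨆ S : Sylow p G, V ⊓ Subgroup.centralizer ((S : Subgroup G) : Set G) := by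
    apply le_antisymm
    · rw [hV]
      refine iSup_le fun S => ?_
      refine le_trans ?_ (le_iSup (fun S : Sylow p G =>
        V ⊓ Subgroup.centralizer ((S : Subgroup G) : Set G)) S)
      refine le_inf (le_iSup (fun S : Sylow p G => Cfsg.omegaOne p ((S : Subgroup G) ⊓
        Subgroup.centralizer ((S : Subgroup G) : Set G))) S) ?_
      exact (omegaOne_le _).trans inf_le_right
    · exact iSup_le fun S => inf_le_left
  have hOq : Cfsg.pCore p (G ⧸ C) = ⊥ := Cfsg.Agent.S0600.result V hVea hgen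
  have hJC : ¬ J ≤ C := by
    intro h
    exact hnf ((Cfsg.Agent.S0608.result hO).mpr h)
  -- transfer to the holomorph
  set τ := holoHom V with hτ
  set ℍ : Subgroup (Holo V) := J.map τ with hℍ
  have hHV : ℍ ≤ Subgroup.normalizer (holoV V : Set (Holo V)) := by
    rw [Subgroup.normalizer_eq_top_iff.mpr (holoV_normal V)]
    exact le_top
  have hf : ℍ ⊓ Subgroup.centralizer (holoV V : Set (Holo V)) = ⊥ := by
    rw [eq_bot_iff, ← holo_faithful V]
    exact inf_le_inf_right _ (Subgroup.map_le_range _ _)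
  have hsol : Cfsg.IsPSolvable p ↥ℍ :=
    isPSolvable_map (τ.subgroupMap J) (τ.subgroupMap_surjective J) (isPSolvable_subgroup hsep J)
  have hS1 : Subgroup.centralizer (Cfsg.pPrimeCore p ↥ℍ : Set ↥ℍ) ≤ Cfsg.pPrimeCore p ↥ℍ :=
    centralizer_pPrimeCore_le hsol (pCore_map_thompson V hOq)
  have hS3 : ℍ = ⨆ A : {A : Subgroup (Holo V) // A ≤ ℍ ∧ Cfsg.IsBestOffenderOn p (holoV V) A},
      (A : Subgroup (Holo V)) := by
    apply le_antisymm
    · rw [hℍ, Subgroup.map_le_iff_le_comap, hJ]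
      unfold Cfsg.thompsonSubgroup
      apply sSup_le
      intro A hA
      rw [← Subgroup.map_le_iff_le_comap]
      exact le_iSup (fun A : {A : Subgroup (Holo V) // A ≤ ℍ ∧
        Cfsg.IsBestOffenderOn p (holoV V) A} => (A : Subgroup (Holo V)))
        ⟨A.map τ, Subgroup.map_mono (le_sSup hA),
          holo_bo V A (Cfsg.Agent.S0606.result V hVea A hA)⟩
    · exact iSup_le fun A => A.2.1
  have hH1 : ℍ ≠ ⊥ := by
    intro h
    apply hJC
    intro x hx
    have h1 : τ x ∈ ℍ := ⟨x, hx, rfl⟩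
    rw [h, Subgroup.mem_bot] at h1
    rw [hC, ← holoHom_ker V]
    exact h1
  obtain ⟨hp23, hcomp, -, hsup, -, -⟩ :=
    ff_structure (holoV V) ℍ (holoV_ea V hVea) hHV hf hS1 hS3 hH1
  refine ⟨hp23, ?_⟩
  -- a component
  obtain ⟨E₁⟩ : Nonempty {E : Subgroup (Holo V) // IsMinComp p (holoV V) ℍ E} := by
    by_contra hemp
    rw [not_nonempty_iff] at hemp
    apply hH1
    rw [← hsup, iSup_of_empty]
  obtain ⟨hE₁n, ⟨iso⟩, -⟩ := hcomp E₁
  have hE₁ℍ : (E₁ : Subgroup (Holo V)) ≤ ℍ :=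
    (le_iSup (fun E : {E : Subgroup (Holo V) // IsMinComp p (holoV V) ℍ E} =>
      (E : Subgroup (Holo V))) E₁).trans hsup.le
  set E : Subgroup G := (E₁ : Subgroup (Holo V)).comap τ with hE
  have hCker : C = τ.ker := by rw [hC, holoHom_ker]
  have hCE : C ≤ E := by
    intro x hx
    rw [hCker] at hx
    rw [hE, Subgroup.mem_comap, MonoidHom.mem_ker.mp hx]
    exact one_mem _
  have hEJC : E ≤ J ⊔ C := by
    rw [hCker, ← Subgroup.comap_map_eq]
    exact Subgroup.comap_mono hE₁ℍ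
  have hnorm : J ⊔ C ≤ Subgroup.normalizer (E : Set G) := by
    intro g hg
    have h1 : τ g ∈ ℍ := by
      have h2 : τ g ∈ (J ⊔ C).map τ := ⟨g, hg, rfl⟩
      rw [Subgroup.map_sup, hCker, (τ.ker).map_eq_bot_iff.mpr le_rfl, sup_bot_eq] at h2
      exact h2
    have h3 := hE₁n h1
    rw [Subgroup.mem_normalizer_iff] at h3 ⊢
    intro x
    rw [hE, Subgroup.mem_comap, Subgroup.mem_comap, map_mul, map_mul, map_inv]
    exact h3 (τ x)
  haveI hCn : C.Normal := by rw [hCker]; infer_instance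
  have key : ∃ E : Subgroup G, C ≤ E ∧ E ≤ J ⊔ C ∧ J ⊔ C ≤ Subgroup.normalizer (E : Set G) ∧
      ∃ hn : (C.subgroupOf E).Normal,
        Nonempty ((↥E ⧸ C.subgroupOf E) ≃* Matrix.SpecialLinearGroup (Fin 2) (ZMod p)) := by
    refine ⟨E, hCE, hEJC, hnorm, inferInstance, ?_⟩
    -- the isomorphism
    let f : ↥E →* ↥(E₁ : Subgroup (Holo V)) := τ.subgroupComap (E₁ : Subgroup (Holo V))
    have hfsurj : Function.Surjective f := by
      rintro ⟨y, hy⟩
      obtain ⟨x, -, rfl⟩ := hE₁ℍ hy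
      exact ⟨⟨x, hy⟩, rfl⟩
    have hker : C.subgroupOf E = f.ker := by
      ext x
      rw [Subgroup.mem_subgroupOf, MonoidHom.mem_ker, hCker, MonoidHom.mem_ker]
      constructor
      · intro h
        exact Subtype.ext h
      · intro h
        exact congrArg Subtype.val h
    exact ⟨((QuotientGroup.quotientMulEquivOfEq hker).trans
      (QuotientGroup.quotientKerEquivOfSurjective f hfsurj)).trans iso⟩
  rw [centralizer_iSup_set]
  exact key

end Cfsg.Agent.S0618
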