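import Cfsg.Statements.S1422
import Cfsg.Agent.Lib.Helper3.BG12c
import Cfsg.Agent.S1412
import Cfsg.Agent.S1414
import Cfsg.Agent.S1416
import Cfsg.Agent.S1420

set_option autoImplicit false
open Cfsg

namespace Cfsg.Agent.S1422

/-- Let G be a minimal simple group of odd order, p a prime and P a non-abelian p-subgroup of G. Then P lies in exactly one maximal subgroup of G. -/
theorem result {G : Type*} [Group G] [Finite G] (hG : Cfsg.IsMinSimpleOddOrder G) (p : ℕ) [Fact p.Prime] (P : Subgroup G) (hP : IsPGroup p P) (hPna : ¬ IsMulCommutative P) :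
    Cfsg.InUniqueMaximal P := by
  have hc := Cfsg.Agent.Lib.Helper3.BG12S.exCompl_of hG
  have h20 : Cfsg.Agent.Lib.Helper3.BG12.H20 G := fun M hM E hE => Cfsg.Agent.S1420.result hG M hM E hE
  exact Cfsg.Agent.Lib.Helper3.BG12.bg12_13 hG (Cfsg.Agent.Lib.Helper3.BG12.nilAb_of hc h20) (Cfsg.Agent.Lib.Helper3.BG12.normNC_of hc h20)
    (fun p _ P hr => Cfsg.Agent.S1412.result hG p P hr)
    (fun M hM => Cfsg.Agent.S1414.result hG M hM)
    (fun M hM p _ A hA => Cfsg.Agent.S1416.result hG M hM p A hA) p P hP hPna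

end Cfsg.Agent.S1422
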