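import Cfsg.Statements.S1463
import Mathlib
import Cfsg.Agent.Lib.Helper34.Mat2

set_option autoImplicit false
open Cfsg

namespace Cfsg.Agent.S1463

open Cfsg.Agent.Lib.Helper34

universe u

theorem odd_sq_eq_one {G : Type*} [Group G] [Finite G] (hodd : Odd (Nat.card G)) {g : G}
    (h : g ^ 2 = 1) : g = 1 := by
  have h1 : orderOf g ∣ 2 := orderOf_dvd_of_pow_eq_one h
  have h2 : orderOf g ∣ Nat.card G := orderOf_dvd_natCard g
  have h3 : orderOf g ∣ 1 := by
    have := Nat.dvd_gcd h1 h2
    rwa [Nat.Coprime.gcd_eq_one (Nat.coprime_two_left.mpr hodd)] at this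
  exact orderOf_eq_one_iff.mp (Nat.dvd_one.mp h3)

theorem odd_conj_inv {G : Type*} [Group G] [Finite G] (hodd : Odd (Nat.card G)) {g y : G}
    (h : g * y * g⁻¹ = y⁻¹) : y = 1 := by
  have e : g * y = y⁻¹ * g := by rw [← h]; group
  have e' : g * y⁻¹ = y * g := by
    have h' : g * y⁻¹ * g⁻¹ = y := by
      have := congrArg (fun t => t⁻¹) h
      simpa [mul_assoc] using this
    calc g * y⁻¹ = (g * y⁻¹ * g⁻¹) * g := by group
      _ = y * g := by rw [h']
  have h2 : (g ^ 2) * y = y * (g ^ 2) := by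
    calc g ^ 2 * y = g * (g * y) := by rw [pow_two, mul_assoc]
      _ = g * (y⁻¹ * g) := by rw [e]
      _ = (g * y⁻¹) * g := by rw [mul_assoc]
      _ = y * g * g := by rw [e']
      _ = y * g ^ 2 := by rw [pow_two, mul_assoc]
  have hg : ∃ k : ℕ, g = (g ^ 2) ^ k := by
    obtain ⟨m, hm⟩ : Odd (orderOf g) := Odd.of_dvd_nat hodd (orderOf_dvd_natCard g)
    refine ⟨m + 1, ?_⟩
    rw [← pow_mul]
    have : 2 * (m + 1) = orderOf g + 1 := by omega
    rw [this, pow_succ, pow_orderOf_eq_one, one_mul]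
  obtain ⟨k, hk⟩ := hg
  have h3 : g * y = y * g := by
    rw [hk]
    exact ((Commute.pow_left (show Commute (g ^ 2) y from h2) k)).eq
  have h4 : y⁻¹ = y := by
    rw [← h, h3]; group
  apply odd_sq_eq_one hodd
  rw [pow_two]
  nth_rewrite 1 [← h4]
  exact inv_mul_cancel y

theorem core {F : Type u} [Field F] (p : ℕ) [Fact p.Prime] [CharP F p] (hp : p ≠ 2) :
    ∀ (n : ℕ) (G : Type u) [Group G] [Finite G] (φ : G →* GL (Fin 2) F), Nat.card G = n →
      Function.Injective φ → Odd (Nat.card G) →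
      (∀ g : G, ((φ g : GL (Fin 2) F) : Matrix (Fin 2) (Fin 2) F).det = 1) →
      ∀ g₁ g₂ : G, g₁ ^ p = 1 → g₂ ^ p = 1 → g₁ * g₂ = g₂ * g₁ := by
  intro n
  induction n using Nat.strong_induction_on with
  | _ n ih =>
  intro G _ _ φ hn hinj hodd hdet g₁ g₂ h₁ h₂
  have h2F : (2 : F) ≠ 0 := by
    intro h
    have h' : ((2 : ℕ) : F) = 0 := by exact_mod_cast h
    rw [CharP.cast_eq_zero_iff F p] at h'
    exact hp ((Nat.prime_dvd_prime_iff_eq Fact.out Nat.prime_two).mp h')
  set M : G → Matrix (Fin 2) (Fin 2) F :=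
    fun g => ((φ g : GL (Fin 2) F) : Matrix (Fin 2) (Fin 2) F) with hM
  have hMmul : ∀ a b : G, M (a * b) = M a * M b := fun a b => by simp [hM]
  have hMone : M 1 = 1 := by simp [hM]
  have hMinj : ∀ a b : G, M a = M b → a = b := fun a b h => hinj (Units.ext h)
  have hMpow : ∀ (a : G) (k : ℕ), M (a ^ k) = M a ^ k := fun a k => by simp [hM]
  have hns : ∀ g : G, g ≠ 1 → ¬ IsScalar2 (M g) := by
    rintro g hg ⟨h01, h10, h00⟩
    apply hg
    apply odd_sq_eq_one hodd
    apply hMinj
    rw [hMpow, hMone, pow_two]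
    have hd : (M g).det = 1 := hdet g
    rw [Matrix.det_fin_two, h01, h00] at hd
    rw [← Matrix.ext_iff]
    simp only [Fin.forall_fin_two, Matrix.mul_apply, Fin.sum_univ_two, Matrix.one_apply, h01, h10,
      h00]
    simp only [if_true, Fin.isValue, Fin.reduceEq, if_false]
    refine ⟨⟨by linear_combination hd, by ring⟩, by ring, by linear_combination hd⟩
  have hT : ∀ a b c : G, b ≠ 1 → a * b = b * a → b * c = c * b → a * c = c * a := by
    intro a b c hb hab hbc
    apply hMinj
    rw [hMmul, hMmul]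
    apply mat2_comm_trans (M a) (M b) (M c) (hns b hb)
    · rw [← hMmul, ← hMmul, hab]
    · rw [← hMmul, ← hMmul, hbc]
  by_cases hP : IsPGroup p G
  · by_cases hsub : Subsingleton G
    · exact Subsingleton.elim _ _
    · have : Nontrivial G := not_subsingleton_iff_nontrivial.mp hsub
      have := hP.center_nontrivial
      obtain ⟨z, hz, hz1⟩ := (Subgroup.nontrivial_iff_exists_ne_one _).mp
        (inferInstance : Nontrivial (Subgroup.center G))
      have hzc := Subgroup.mem_center_iff.mp hz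
      exact hT g₁ z g₂ hz1 (hzc g₁) (hzc g₂).symm
  · unfold IsPGroup at hP
    push Not at hP
    obtain ⟨x, hx⟩ := hP
    have hox : orderOf x ≠ 0 := (orderOf_pos x).ne'
    obtain ⟨q, hq, hqd, hqp⟩ : ∃ q : ℕ, q.Prime ∧ q ∣ orderOf x ∧ q ≠ p := by
      by_contra hcon
      push Not at hcon
      have := Nat.eq_prime_pow_of_unique_prime_dvd hox (fun {d} hd1 hd2 => hcon d hd1 hd2)
      apply hx (orderOf x).primeFactorsList.length
      rw [← this, pow_orderOf_eq_one]
    have : Fact q.Prime := ⟨hq⟩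
    set y := x ^ (orderOf x / q) with hy
    have hyo : orderOf y = q := orderOf_pow_orderOf_div hox hqd
    have hy1 : y ≠ 1 := by
      intro h; rw [h, orderOf_one] at hyo; exact hq.one_lt.ne hyo
    have hq2 : q ≠ 2 := by
      intro h
      have : (2 : ℕ) ∣ Nat.card G := by rw [← h, ← hyo]; exact orderOf_dvd_natCard y
      exact (Nat.not_even_iff_odd.mpr hodd) (even_iff_two_dvd.mpr this)
    have ht : (M y).trace ^ 2 ≠ 4 := by
      intro h
      have h' : ((M y).trace - 2) * ((M y).trace + 2) = 0 := by linear_combination h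
      rcases mul_eq_zero.mp h' with h'' | h''
      · have e := mat2_unipotent_pow p (M y) (by linear_combination h'') (hdet y)
        rw [← hMpow, ← hMone] at e
        have e' := hMinj _ _ e
        have hd : q ∣ p := by rw [← hyo]; exact orderOf_dvd_of_pow_eq_one e'
        exact hqp ((Nat.prime_dvd_prime_iff_eq hq Fact.out).mp hd)
      · have e := mat2_neg_unipotent_pow p (M y) (by linear_combination h'') (hdet y)
        rw [← hMpow, ← hMone] at e
        have e' := hMinj _ _ e
        have hd : q ∣ 2 * p := by rw [← hyo]; exact orderOf_dvd_of_pow_eq_one e'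
        rcases (Nat.Prime.dvd_mul hq).mp hd with hd | hd
        · exact hq2 ((Nat.prime_dvd_prime_iff_eq hq Nat.prime_two).mp hd)
        · exact hqp ((Nat.prime_dvd_prime_iff_eq hq Fact.out).mp hd)
    have hyp : IsPGroup q (Subgroup.zpowers y) :=
      IsPGroup.of_card (n := 1) (by rw [Nat.card_zpowers, hyo, pow_one])
    obtain ⟨Q, hQ⟩ := hyp.exists_le_sylow
    have hyQ : y ∈ (Q : Subgroup G) := hQ (Subgroup.mem_zpowers y)
    have : Nontrivial (Q : Subgroup G) :=
      ⟨⟨⟨y, hyQ⟩, 1, fun h => hy1 (congrArg Subtype.val h)⟩⟩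
    have := (Q.isPGroup').center_nontrivial
    obtain ⟨z, hz, hz1⟩ := (Subgroup.nontrivial_iff_exists_ne_one _).mp
      (inferInstance : Nontrivial (Subgroup.center (Q : Subgroup G)))
    have hzc := Subgroup.mem_center_iff.mp hz
    have hz1' : (z : G) ≠ 1 := fun h => hz1 (Subtype.ext h)
    have hzQ : ∀ w ∈ (Q : Subgroup G), w * (z : G) = (z : G) * w :=
      fun w hw => congrArg Subtype.val (hzc ⟨w, hw⟩)
    have hQy : ∀ w ∈ (Q : Subgroup G), w * y = y * w :=
      fun w hw => hT w z y hz1' (hzQ w hw) (hzQ y hyQ).symm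
    have hNC : Subgroup.normalizer ((Q : Subgroup G) : Set G) ≤
        Subgroup.centralizer ((Q : Subgroup G) : Set G) := by
      intro g hg
      have hy'Q : g * y * g⁻¹ ∈ (Q : Subgroup G) := (Subgroup.mem_normalizer_iff.mp hg y).mp hyQ
      have hcomm : (g * y * g⁻¹) * y = y * (g * y * g⁻¹) := hQy _ hy'Q
      have htr : (M (g * y * g⁻¹)).trace = (M y).trace := by
        rw [hMmul, hMmul, Matrix.trace_mul_comm, ← mul_assoc, ← hMmul, inv_mul_cancel, hMone,
          one_mul]
      have hcases := mat2_conj_cases (M y) (M (g * y * g⁻¹)) h2F (hdet y) (hdet _) htr ht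
        (by rw [← hMmul, ← hMmul, hcomm])
      have hgy : g * y = y * g := by
        rcases hcases with h | h
        · have h' := hMinj _ _ h
          calc g * y = (g * y * g⁻¹) * g := by group
            _ = y * g := by rw [h']
        · exfalso
          rw [← hMmul, ← hMone] at h
          have h' := hMinj _ _ h
          have h'' : g * y * g⁻¹ = y⁻¹ := eq_inv_of_mul_eq_one_left h'
          exact hy1 (odd_conj_inv hodd h'')
      rw [Subgroup.mem_centralizer_iff]
      intro w hw
      exact (hT g y w hy1 hgy (hQy w hw).symm).symm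
    set f := MonoidHom.transferSylow Q hNC with hf
    set K := f.ker with hK
    have hcompl : Subgroup.IsComplement' K (Q : Subgroup G) :=
      MonoidHom.ker_transferSylow_isComplement' Q hNC
    have hcard : Nat.card K * Nat.card (Q : Subgroup G) = Nat.card G := hcompl.card_mul_card
    have hQcard : 1 < Nat.card (Q : Subgroup G) := Finite.one_lt_card
    have hKlt : Nat.card K < n := by
      rw [← hn, ← hcard]; nlinarith [Nat.card_pos (α := K)]
    have hKodd : Odd (Nat.card K) := Odd.of_dvd_nat hodd (Dvd.intro _ hcard)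
    have hmemK : ∀ u : G, u ^ p = 1 → u ∈ K := by
      intro u hu
      rw [hK, MonoidHom.mem_ker]
      have h1 : (f u) ^ p = 1 := by rw [← map_pow, hu, map_one]
      obtain ⟨k, hk⟩ := Q.isPGroup' (f u)
      have d1 : orderOf (f u) ∣ p := orderOf_dvd_of_pow_eq_one h1
      have d2 : orderOf (f u) ∣ q ^ k := orderOf_dvd_of_pow_eq_one hk
      have hcop : Nat.Coprime p (q ^ k) :=
        Nat.Coprime.pow_right k ((Nat.coprime_primes Fact.out hq).mpr (Ne.symm hqp))
      exact orderOf_eq_one_iff.mp (Nat.eq_one_of_dvd_coprimes hcop d1 d2)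
    have key := ih (Nat.card K) hKlt K (φ.comp K.subtype) rfl
      (hinj.comp K.subtype_injective) hKodd (fun g => hdet g.1) ⟨g₁, hmemK g₁ h₁⟩
      ⟨g₂, hmemK g₂ h₂⟩ (Subtype.ext h₁) (Subtype.ext h₂)
    exact congrArg Subtype.val key

/-- Let F be a field of odd characteristic p and H a finite subgroup of odd order of GL(2, F) that leaves no 1-dimensional subspace of F² invariant. Then p does not divide the order of H. -/
theorem result {F : Type*} [Field F] (p : ℕ) [Fact p.Prime] [CharP F p] (hp : p ≠ 2)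
    (H : Subgroup (GL (Fin 2) F)) [Finite H] (hodd : Odd (Nat.card H))
    (hirr : ∀ v : Fin 2 → F, v ≠ 0 → ∃ g ∈ H, (g : Matrix (Fin 2) (Fin 2) F).mulVec v ∉ Submodule.span F {v}) :
    ¬ p ∣ Nat.card H := by
  intro hdiv
  obtain ⟨g₀, hg₀⟩ := exists_prime_orderOf_dvd_card' (G := H) p hdiv
  set g : GL (Fin 2) F := (g₀ : GL (Fin 2) F) with hg
  have hgH : g ∈ H := g₀.2
  have hgo : orderOf g = p := by rw [hg, Subgroup.orderOf_coe]; exact hg₀
  have hgp : g ^ p = 1 := by rw [← hgo]; exact pow_orderOf_eq_one g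
  have hg1 : g ≠ 1 := by
    intro h; rw [h, orderOf_one] at hgo; exact (Fact.out : p.Prime).one_lt.ne hgo
  have hp0 : p ≠ 0 := (Fact.out : p.Prime).ne_zero
  have hunit : ∀ u : Fˣ, u ^ p = 1 → u = 1 := by
    intro u hu
    have hu' : (u : F) ^ p = 1 := by
      have h0 := congrArg Units.val hu
      rwa [Units.val_pow_eq_pow_val, Units.val_one] at h0
    have h1 : ((u : F) - 1) ^ p = 0 := by
      rw [sub_pow_char_of_commute p (Commute.one_right (u : F)), one_pow, hu', sub_self]
    have h2 : (u : F) - 1 = 0 := (pow_eq_zero_iff hp0).mp h1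
    exact Units.ext (sub_eq_zero.mp h2)
  set H₁ : Subgroup (GL (Fin 2) F) :=
    H ⊓ (Matrix.GeneralLinearGroup.det (n := Fin 2) (R := F)).ker with hH₁
  have : Finite H₁ := Finite.of_injective (Subgroup.inclusion (inf_le_left : H₁ ≤ H))
    (Subgroup.inclusion_injective _)
  have hodd₁ : Odd (Nat.card H₁) := Odd.of_dvd_nat hodd (Subgroup.card_dvd_of_le inf_le_left)
  have hdet₁ : ∀ x : H₁, ((H₁.subtype x : GL (Fin 2) F) : Matrix (Fin 2) (Fin 2) F).det = 1 := by
    intro x
    have h1 : (x : GL (Fin 2) F) ∈ (Matrix.GeneralLinearGroup.det (n := Fin 2) (R := F)).ker :=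
      (Subgroup.mem_inf.mp x.2).2
    rw [MonoidHom.mem_ker] at h1
    have h2 := congrArg Units.val h1
    simpa using h2
  have hcore := core p hp (Nat.card H₁) H₁ H₁.subtype rfl H₁.subtype_injective hodd₁ hdet₁
  have hmem₁ : ∀ x ∈ H, x ^ p = 1 → x ∈ H₁ := by
    intro x hx hxp
    refine Subgroup.mem_inf.mpr ⟨hx, ?_⟩
    rw [MonoidHom.mem_ker]
    apply hunit
    rw [← map_pow, hxp, map_one]
  have hcomm : ∀ x y : GL (Fin 2) F, x ∈ H → y ∈ H → x ^ p = 1 → y ^ p = 1 → x * y = y * x := by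
    intro x y hx hy hxp hyp
    have h1 := hcore ⟨x, hmem₁ x hx hxp⟩ ⟨y, hmem₁ y hy hyp⟩ (Subtype.ext hxp) (Subtype.ext hyp)
    exact congrArg Subtype.val h1
  set A : Matrix (Fin 2) (Fin 2) F := (g : Matrix (Fin 2) (Fin 2) F) with hA
  have hAp : A ^ p = 1 := by
    have h1 := congrArg Units.val hgp
    simpa using h1
  have hNp : ∀ B : Matrix (Fin 2) (Fin 2) F, B ^ p = 1 → (B - 1) ^ p = 0 := by
    intro B hB
    rw [sub_pow_char_of_commute p (Commute.one_right B), one_pow, hB, sub_self]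
  have hNdet : (A - 1).det = 0 := by
    have h1 := congrArg Matrix.det (hNp A hAp)
    rw [Matrix.det_pow, Matrix.det_zero] at h1
    exact (pow_eq_zero_iff hp0).mp h1
  obtain ⟨v, hv0, hv⟩ := Matrix.exists_mulVec_eq_zero_iff.mpr hNdet
  obtain ⟨h, hhH, hhv⟩ := hirr v hv0
  apply hhv
  set g' := h * g * h⁻¹ with hg'
  have hg'H : g' ∈ H := H.mul_mem (H.mul_mem hhH hgH) (H.inv_mem hhH)
  have hg'p : g' ^ p = 1 := by rw [hg', conj_pow, hgp, mul_one, mul_inv_cancel]
  have hg'1 : g' ≠ 1 := by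
    intro h1; apply hg1
    have h2 : g = h⁻¹ * g' * h := by rw [hg']; group
    rw [h2, h1]; group
  have hc := hcomm g g' hgH hg'H hgp hg'p
  set A' : Matrix (Fin 2) (Fin 2) F := (g' : Matrix (Fin 2) (Fin 2) F) with hA'
  set B : Matrix (Fin 2) (Fin 2) F := (h : Matrix (Fin 2) (Fin 2) F) with hB
  have hA'B : A' * B = B * A := by
    have h1 : g' * h = h * g := by rw [hg']; group
    have h2 := congrArg Units.val h1
    simpa using h2
  have hAA' : A * A' = A' * A := by
    have h1 := congrArg Units.val hc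
    simpa using h1
  have hA'p : A' ^ p = 1 := by
    have h1 := congrArg Units.val hg'p
    simpa using h1
  have hN'0 : A' - 1 ≠ 0 := by
    intro h0
    apply hg'1
    apply Units.ext
    rw [Units.val_one]
    exact sub_eq_zero.mp h0
  have hA1 : A - 1 ≠ 0 := by
    intro h0
    apply hg1
    apply Units.ext
    rw [Units.val_one]
    exact sub_eq_zero.mp h0
  have hNN' : (A - 1) * (A' - 1) = (A' - 1) * (A - 1) := by
    simp only [sub_mul, mul_sub, mul_one, one_mul, hAA']
    abel
  have h1 : (A - 1).mulVec ((A' - 1).mulVec v) = 0 := by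
    rw [Matrix.mulVec_mulVec, hNN', ← Matrix.mulVec_mulVec, hv, Matrix.mulVec_zero]
  have h2 := mat2_ker_dep (A - 1) hA1 v ((A' - 1).mulVec v) hv h1 hv0
  obtain ⟨μ, hμ⟩ := Submodule.mem_span_singleton.mp h2
  have h3 : ∀ k : ℕ, ((A' - 1) ^ k).mulVec v = μ ^ k • v := by
    intro k
    induction k with
    | zero => simp
    | succ k ih =>
      rw [pow_succ, ← Matrix.mulVec_mulVec, ← hμ, Matrix.mulVec_smul, ih, smul_smul, pow_succ,
        mul_comm]
  have h4 : μ ^ p • v = 0 := by rw [← h3, hNp A' hA'p, Matrix.zero_mulVec]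
  have hμ0 : μ = 0 := by
    rcases smul_eq_zero.mp h4 with h | h
    · exact (pow_eq_zero_iff hp0).mp h
    · exact absurd h hv0
  have h5 : (A' - 1).mulVec v = 0 := by rw [← hμ, hμ0, zero_smul]
  have h6 : (A' - 1).mulVec (B.mulVec v) = 0 := by
    rw [Matrix.mulVec_mulVec, sub_mul, one_mul, hA'B]
    have h7 : B * A - B = B * (A - 1) := by rw [mul_sub, mul_one]
    rw [h7, ← Matrix.mulVec_mulVec, hv, Matrix.mulVec_zero]
  exact mat2_ker_dep (A' - 1) hN'0 v (B.mulVec v) h5 h6 hv0

end Cfsg.Agent.S1463
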