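import Cfsg.Statements.S0093
import Mathlib

set_option autoImplicit false
open Cfsg

namespace Cfsg.Agent.S0093

open scoped commutatorElement

theorem frattini_le_of_elementary {H : Type*} [Group H] [Finite H] {p : ℕ} [Fact p.Prime]
    (N : Subgroup H) (hcomm : commutator H ≤ N) (hpow : ∀ y : H, y ^ p ∈ N) :
    frattini H ≤ N := by
  have hpp : p.Prime := Fact.out
  intro x hx
  by_contra hxN
  have hne : Nonempty {K : Subgroup H // N ≤ K ∧ x ∉ K} := ⟨⟨N, le_rfl, hxN⟩⟩
  obtain ⟨⟨K, hNK, hxK⟩, hmax⟩ :=
    Finite.exists_max (fun K : {K : Subgroup H // N ≤ K ∧ x ∉ K} => Nat.card K.1)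
  have hmax' : ∀ L : Subgroup H, K < L → x ∈ L := by
    intro L hKL
    by_contra hxL
    have h1 := hmax ⟨L, hNK.trans hKL.le, hxL⟩
    have h2 : K = L := Subgroup.eq_of_le_of_card_ge hKL.le h1
    exact hKL.ne h2
  have hKn : K.Normal := Subgroup.Normal.of_commutator_le H (hcomm.trans hNK)
  have hcoatom : IsCoatom K := by
    refine ⟨fun h => hxK (h ▸ Subgroup.mem_top x), fun L hKL => ?_⟩
    have hxL := hmax' L hKL
    rw [eq_top_iff]
    intro y _
    by_cases hyK : y ∈ K
    · exact hKL.le hyK
    · have hlt : K < K ⊔ Subgroup.zpowers y := by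
        refine lt_of_le_of_ne le_sup_left (fun h => hyK ?_)
        rw [h]; exact Subgroup.mem_sup_right (Subgroup.mem_zpowers y)
      have hx' := hmax' _ hlt
      rw [Subgroup.mem_sup_of_normal_left] at hx'
      obtain ⟨k, hk, z, hz, hkz⟩ := hx'
      obtain ⟨i, rfl⟩ := Subgroup.mem_zpowers_iff.mp hz
      have hyiL : y ^ i ∈ L := by
        have h3 : y ^ i = k⁻¹ * x := by rw [← hkz]; group
        rw [h3]; exact L.mul_mem (L.inv_mem (hKL.le hk)) hxL
      have hnd : ¬ (p : ℤ) ∣ i := by
        rintro ⟨j, rfl⟩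
        apply hxK
        rw [← hkz]
        apply K.mul_mem hk
        rw [zpow_mul, zpow_natCast]
        exact K.zpow_mem (hNK (hpow y)) j
      have hcop : IsCoprime i (p : ℤ) := by
        rw [Int.isCoprime_iff_gcd_eq_one, Int.gcd_comm]
        have h1 : ¬ p ∣ i.natAbs := fun h => hnd (Int.natCast_dvd.mpr h)
        have h2 : Nat.Coprime p i.natAbs := (Nat.Prime.coprime_iff_not_dvd hpp).mpr h1
        simpa [Int.gcd] using h2
      obtain ⟨u, v, huv⟩ := hcop
      have h4 : y = (y ^ i) ^ u * (y ^ p) ^ v := by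
        rw [← zpow_mul, ← zpow_natCast y p, ← zpow_mul, ← zpow_add, mul_comm i u,
          mul_comm (p : ℤ) v, huv, zpow_one]
      rw [h4]
      exact L.mul_mem (L.zpow_mem hyiL u) (L.zpow_mem (hKL.le (hNK (hpow y))) v)
  exact hxK (frattini_le_coatom hcoatom hx)

/-- A nontrivial normal subgroup of a finite `p`-group contains a central element of order `p`. -/
theorem exists_central_order_p {Q : Type*} [Group Q] [Finite Q] {p : ℕ} [Fact p.Prime]
    (hQ : IsPGroup p Q) (N : Subgroup Q) [hNn : N.Normal] (hN : N ≠ ⊥) :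
    ∃ z ∈ N, z ∈ Subgroup.center Q ∧ orderOf z = p := by
  have hpp : p.Prime := Fact.out
  let _ : MulAction Q N := MulAction.compHom N (MulAut.conjNormal (H := N))
  have hsmul : ∀ (g : Q) (n : N), ((g • n : N) : Q) = g * n * g⁻¹ := fun g n => rfl
  have hmod := hQ.card_modEq_card_fixedPoints N
  have hfix : (MulAction.fixedPoints Q N) = ((Subgroup.center Q).subgroupOf N : Set N) := by
    ext n
    simp only [MulAction.mem_fixedPoints, SetLike.mem_coe, Subgroup.mem_subgroupOf,
      Subgroup.mem_center_iff]
    constructor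
    · intro h g
      have h1 := congrArg Subtype.val (h g)
      rw [hsmul] at h1
      calc g * (n : Q) = (g * n * g⁻¹) * g := by group
        _ = n * g := by rw [h1]
    · intro h g
      apply Subtype.ext
      rw [hsmul, h g]; group
  have hcard : Nat.card (MulAction.fixedPoints Q N) =
      Nat.card ((Subgroup.center Q).subgroupOf N) := Nat.card_congr (Equiv.setCongr hfix)
  rw [hcard] at hmod
  obtain ⟨k, hk⟩ := IsPGroup.iff_card.mp (hQ.to_subgroup N)
  have hk0 : k ≠ 0 := by
    rintro rfl
    rw [pow_zero] at hk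
    exact hN (Subgroup.card_eq_one.mp hk)
  have hdvd : p ∣ Nat.card ((Subgroup.center Q).subgroupOf N) := by
    have h1 : p ∣ Nat.card N := by rw [hk]; exact dvd_pow_self p hk0
    exact (Nat.modEq_zero_iff_dvd.mp ((hmod.symm.trans (Nat.modEq_zero_iff_dvd.mpr h1))))
  obtain ⟨z, hz⟩ := exists_prime_orderOf_dvd_card' (G := (Subgroup.center Q).subgroupOf N) p hdvd
  refine ⟨((z : N) : Q), (z : N).2, Subgroup.mem_subgroupOf.mp z.2, ?_⟩
  rw [Subgroup.orderOf_coe, Subgroup.orderOf_coe]
  exact hz


/-- The central elements of order dividing `p`. -/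
def omegaCenter (Q : Type*) [Group Q] (p : ℕ) : Subgroup Q where
  carrier := {z | z ∈ Subgroup.center Q ∧ z ^ p = 1}
  mul_mem' := fun {a b} ha hb => ⟨Subgroup.mul_mem _ ha.1 hb.1, by
    have hc : Commute a b := (Subgroup.mem_center_iff.mp ha.1 b).symm
    rw [hc.mul_pow, ha.2, hb.2, one_mul]⟩
  one_mem' := ⟨Subgroup.one_mem _, one_pow p⟩
  inv_mem' := fun {a} ha => ⟨Subgroup.inv_mem _ ha.1, by rw [inv_pow, ha.2, inv_one]⟩

/-- Every finite p-group has a critical subgroup: a characteristic subgroup H whose Frattini subgroup and whose commutator with the whole group lie in the centre of H, and whose centralizer is contained in H. -/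
theorem result {P : Type*} [Group P] [Finite P] {p : ℕ} [Fact p.Prime] (hP : IsPGroup p P) : ∃ H : Subgroup P, H.Characteristic ∧ (frattini H).map H.subtype ≤ Subgroup.centralizer (H : Set P) ∧ ⁅H, (⊤ : Subgroup P)⁆ ≤ H ⊓ Subgroup.centralizer (H : Set P) ∧ Subgroup.centralizer (H : Set P) ≤ H := by
  have hpp : p.Prime := Fact.out
  have hne : Nonempty {M : Subgroup P // M.Characteristic ∧ IsMulCommutative M} :=
    ⟨⟨⊥, Subgroup.botCharacteristic, Subgroup.le_centralizer_iff_isMulCommutative.mp bot_le⟩⟩
  obtain ⟨⟨M, hMchar, hMcomm⟩, hmax⟩ := Finite.exists_max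
    (fun M : {M : Subgroup P // M.Characteristic ∧ IsMulCommutative M} => Nat.card M.1)
  have hMmax : ∀ B : Subgroup P, B.Characteristic → IsMulCommutative B → M ≤ B → B = M := by
    intro B hB1 hB2 hMB
    exact (Subgroup.eq_of_le_of_card_ge hMB (hmax ⟨B, hB1, hB2⟩)).symm
  have hMn : M.Normal := inferInstance
  have hMC : M ≤ Subgroup.centralizer (M : Set P) :=
    Subgroup.le_centralizer_iff_isMulCommutative.mpr hMcomm
  have hCchar : (Subgroup.centralizer (M : Set P)).Characteristic := inferInstance
  by_cases hCM : Subgroup.centralizer (M : Set P) = M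
  · refine ⟨M, hMchar, ?_, ?_, ?_⟩
    · exact (Subgroup.map_subtype_le _).trans hMC
    · exact le_inf (Subgroup.commutator_le_left M ⊤) ((Subgroup.commutator_le_left M ⊤).trans hMC)
    · exact hCM.le
  · let π := QuotientGroup.mk' M
    let W := omegaCenter (P ⧸ M) p
    let H : Subgroup P := W.comap π ⊓ Subgroup.centralizer (M : Set P)
    have hmemH : ∀ x, x ∈ H ↔ (∀ g, ⁅x, g⁆ ∈ M) ∧ x ^ p ∈ M ∧
        x ∈ Subgroup.centralizer (M : Set P) := by
      intro x
      constructor
      · rintro ⟨⟨h1, h2⟩, h3⟩
        refine ⟨fun g => ?_, ?_, h3⟩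
        · have h4 : π ⁅x, g⁆ = 1 := by
            rw [map_commutatorElement]
            exact commutatorElement_eq_one_iff_commute.mpr
              ((Subgroup.mem_center_iff.mp h1 (π g)).symm)
          exact (QuotientGroup.eq_one_iff _).mp h4
        · have h4 : π (x ^ p) = 1 := by rw [map_pow]; exact h2
          exact (QuotientGroup.eq_one_iff _).mp h4
      · rintro ⟨h1, h2, h3⟩
        refine ⟨⟨?_, ?_⟩, h3⟩
        · rw [Subgroup.mem_center_iff]
          intro q
          obtain ⟨g, rfl⟩ := QuotientGroup.mk'_surjective M q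
          have h4 : π ⁅x, g⁆ = 1 := (QuotientGroup.eq_one_iff _).mpr (h1 g)
          rw [map_commutatorElement] at h4
          exact (commutatorElement_eq_one_iff_commute.mp h4).eq.symm
        · show (π x) ^ p = 1
          rw [← map_pow]
          exact (QuotientGroup.eq_one_iff _).mpr h2
    have hMH : M ≤ H := by
      intro x hx
      rw [hmemH]
      refine ⟨fun g => ?_, M.pow_mem hx p, hMC hx⟩
      have h1 := hMn.conj_mem x⁻¹ (M.inv_mem hx) g
      have h2 : ⁅x, g⁆ = x * (g * x⁻¹ * g⁻¹) := by rw [commutatorElement_def]; group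
      rw [h2]
      exact M.mul_mem hx h1
    have hHchar : H.Characteristic := by
      rw [Subgroup.characteristic_iff_le_comap]
      intro φ x hx
      rw [Subgroup.mem_comap, hmemH]
      rw [hmemH] at hx
      obtain ⟨h1, h2, h3⟩ := hx
      have hMφ : ∀ y, φ y ∈ M ↔ y ∈ M := fun y => by
        have h4 := hMchar.fixed φ
        constructor
        · intro hy; rw [← h4]; exact hy
        · intro hy; rw [← h4] at hy; exact hy
      have hCφ : ∀ y, φ y ∈ Subgroup.centralizer (M : Set P) ↔
          y ∈ Subgroup.centralizer (M : Set P) := fun y => by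
        have h4 := hCchar.fixed φ
        constructor
        · intro hy; rw [← h4]; exact hy
        · intro hy; rw [← h4] at hy; exact hy
      refine ⟨fun g => ?_, ?_, (hCφ x).mpr h3⟩
      · have h5 : ⁅φ x, g⁆ = φ ⁅x, φ.symm g⁆ := by
          rw [map_commutatorElement, MulEquiv.apply_symm_apply]
        show ⁅φ x, g⁆ ∈ M
        rw [h5]
        exact (hMφ _).mpr (h1 _)
      · show (φ x) ^ p ∈ M
        rw [← map_pow]
        exact (hMφ _).mpr h2
    have hHC : H ≤ Subgroup.centralizer (M : Set P) := inf_le_right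
    have hMCH : M ≤ Subgroup.centralizer (H : Set P) := Subgroup.le_centralizer_iff.mp hHC
    have hZH : H ⊓ Subgroup.centralizer (H : Set P) = M := by
      apply hMmax
      · exact inferInstance
      · rw [← Subgroup.le_centralizer_iff_isMulCommutative]
        exact inf_le_right.trans (Subgroup.centralizer_le inf_le_left)
      · exact le_inf hMH hMCH
    have hcomm : ⁅H, (⊤ : Subgroup P)⁆ ≤ M := by
      rw [Subgroup.commutator_le]
      intro x hx g _
      exact ((hmemH x).mp hx).1 g
    have hfr : (frattini H).map H.subtype ≤ M := by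
      have h1 : frattini H ≤ M.subgroupOf H := by
        apply frattini_le_of_elementary (p := p)
        · rw [commutator_def, Subgroup.commutator_le]
          intro a _ b _
          rw [Subgroup.mem_subgroupOf]
          exact ((hmemH a).mp a.2).1 b
        · intro y
          rw [Subgroup.mem_subgroupOf]
          exact ((hmemH y).mp y.2).2.1
      rintro _ ⟨y, hy, rfl⟩
      exact Subgroup.mem_subgroupOf.mp (h1 hy)
    have hcent : Subgroup.centralizer (H : Set P) ≤ H := by
      by_contra hnot
      have hDn : (Subgroup.centralizer (H : Set P)).Normal := inferInstance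
      have hDC : Subgroup.centralizer (H : Set P) ≤ Subgroup.centralizer (M : Set P) :=
        Subgroup.centralizer_le hMH
      have hDne : (Subgroup.centralizer (H : Set P)).map π ≠ ⊥ := by
        intro h
        apply hnot
        intro d hd
        apply hMH
        have h1 : π d ∈ (Subgroup.centralizer (H : Set P)).map π := ⟨d, hd, rfl⟩
        rw [h, Subgroup.mem_bot] at h1
        exact (QuotientGroup.eq_one_iff d).mp h1
      have hDmn : ((Subgroup.centralizer (H : Set P)).map π).Normal :=
        Subgroup.Normal.map hDn π (QuotientGroup.mk'_surjective M)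
      obtain ⟨z, hz, hzc, hzo⟩ := exists_central_order_p (hP.to_quotient M)
        ((Subgroup.centralizer (H : Set P)).map π) hDne
      obtain ⟨d, hd, rfl⟩ := hz
      have hdH : d ∈ H := ⟨⟨hzc, by rw [← hzo]; exact pow_orderOf_eq_one _⟩, hDC hd⟩
      have hdM : d ∈ M := by rw [← hZH]; exact ⟨hdH, hd⟩
      have h2 : π d = 1 := (QuotientGroup.eq_one_iff d).mpr hdM
      rw [h2, orderOf_one] at hzo
      exact hpp.one_lt.ne hzo
    exact ⟨H, hHchar, hfr.trans hMCH, hcomm.trans hZH.symm.le, hcent⟩

end Cfsg.Agent.S0093
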