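import Cfsg.Statements.S0096
import Mathlib

set_option autoImplicit false
open Cfsg

namespace Cfsg.Agent.S0096

open scoped commutatorElement

section
variable {P : Type*} [Group P]

theorem comm_central (h2 : ⁅commutator P, (⊤ : Subgroup P)⁆ = ⊥) (x y g : P) :
    ⁅x, y⁆ * g = g * ⁅x, y⁆ := by
  have h1 : ⁅x, y⁆ ∈ commutator P :=
    Subgroup.commutator_mem_commutator (Subgroup.mem_top x) (Subgroup.mem_top y)
  have h3 : ⁅⁅x, y⁆, g⁆ ∈ ⁅commutator P, (⊤ : Subgroup P)⁆ :=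
    Subgroup.commutator_mem_commutator h1 (Subgroup.mem_top g)
  rw [h2, Subgroup.mem_bot] at h3
  exact (commutatorElement_eq_one_iff_commute.mp h3).eq

theorem pow_mul_comm2 (x y : P) (hc : ∀ g, ⁅y, x⁆ * g = g * ⁅y, x⁆) (n : ℕ) :
    y ^ n * x = ⁅y, x⁆ ^ n * x * y ^ n := by
  have hyx : y * x = ⁅y, x⁆ * x * y := by rw [commutatorElement_def]; group
  induction n with
  | zero => simp
  | succ n ih =>
    calc y ^ (n + 1) * x = y ^ n * (y * x) := by rw [pow_succ, mul_assoc]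
      _ = y ^ n * (⁅y, x⁆ * x * y) := by rw [hyx]
      _ = ⁅y, x⁆ * (y ^ n * x) * y := by
        rw [mul_assoc ⁅y, x⁆ x y, ← mul_assoc (y ^ n), ← hc (y ^ n)]; simp only [mul_assoc]
      _ = ⁅y, x⁆ * (⁅y, x⁆ ^ n * x * y ^ n) * y := by rw [ih]
      _ = ⁅y, x⁆ ^ (n + 1) * x * y ^ (n + 1) := by
        rw [pow_succ' ⁅y, x⁆, pow_succ y]; simp only [mul_assoc]

theorem comm_pow_left2 (x y : P) (hc : ∀ g, ⁅y, x⁆ * g = g * ⁅y, x⁆) (n : ℕ) :
    ⁅y ^ n, x⁆ = ⁅y, x⁆ ^ n := by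
  rw [commutatorElement_def (y ^ n) x, pow_mul_comm2 x y hc n]
  simp only [mul_assoc, mul_inv_cancel, mul_one]

theorem mul_pow_class2 (x y : P) (hc : ∀ g, ⁅y, x⁆ * g = g * ⁅y, x⁆) (n : ℕ) :
    (x * y) ^ n = x ^ n * y ^ n * ⁅y, x⁆ ^ (n.choose 2) := by
  induction n with
  | zero => simp
  | succ n ih =>
    have hcn : ∀ (k : ℕ) (g : P), ⁅y, x⁆ ^ k * g = g * ⁅y, x⁆ ^ k := fun k g =>
      ((show Commute ⁅y, x⁆ g from hc g).pow_left k).eq
    calc (x * y) ^ (n + 1) = x ^ n * y ^ n * ⁅y, x⁆ ^ (n.choose 2) * (x * y) := by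
          rw [pow_succ, ih]
      _ = x ^ n * (y ^ n * x) * y * ⁅y, x⁆ ^ (n.choose 2) := by
          rw [mul_assoc (x ^ n * y ^ n), hcn (n.choose 2) (x * y)]; simp only [mul_assoc]
      _ = x ^ n * (⁅y, x⁆ ^ n * x * y ^ n) * y * ⁅y, x⁆ ^ (n.choose 2) := by
          rw [pow_mul_comm2 x y hc n]
      _ = x ^ (n + 1) * y ^ (n + 1) * (⁅y, x⁆ ^ (n.choose 2) * ⁅y, x⁆ ^ n) := by
          rw [hcn n x, pow_succ x, pow_succ y]
          simp only [mul_assoc]
          rw [hcn n (y ^ n * (y * ⁅y, x⁆ ^ (n.choose 2)))]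
          simp only [mul_assoc]
      _ = x ^ (n + 1) * y ^ (n + 1) * ⁅y, x⁆ ^ ((n + 1).choose 2) := by
          have : (n + 1).choose 2 = n.choose 2 + n := by
            rw [Nat.choose_succ_succ' n 1, Nat.choose_one_right, add_comm]
          rw [← pow_add, this]

end


/-- For odd p, in a p-group of class at most two the elements of order dividing p generate a subgroup of exponent dividing p. -/
theorem result {P : Type*} [Group P] [Finite P] {p : ℕ} [Fact p.Prime] (hp : p ≠ 2) (hP : IsPGroup p P) (h2 : ⁅commutator P, (⊤ : Subgroup P)⁆ = ⊥) (g : P) (hg : g ∈ Subgroup.closure {x : P | x ^ p = 1}) : g ^ p = 1 := by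
  have hpp : p.Prime := Fact.out
  have hdvd : p ∣ p.choose 2 :=
    hpp.dvd_choose_self (by norm_num) (lt_of_le_of_ne hpp.two_le (Ne.symm hp))
  induction hg using Subgroup.closure_induction with
  | mem x hx => exact hx
  | one => simp
  | mul x y _ _ hx hy =>
    have hc := fun g => comm_central h2 y x g
    rw [mul_pow_class2 x y hc p, hx, hy, one_mul, one_mul]
    obtain ⟨k, hk⟩ := hdvd
    rw [hk, pow_mul, ← comm_pow_left2 x y hc p, hy]
    simp
  | inv x _ hx => rw [inv_pow, hx, inv_one]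

end Cfsg.Agent.S0096
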