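import Cfsg.Statements.S0120
import Mathlib

set_option autoImplicit false
open Cfsg

namespace Cfsg.Agent.S0120

open scoped commutatorElement

universe u

section
variable {P : Type*} [Group P]

theorem pow_mul_comm2 (x y : P) (hc : ∀ g, ⁅y, x⁆ * g = g * ⁅y, x⁆) (n : ℕ) :
    y ^ n * x = ⁅y, x⁆ ^ n * x * y ^ n := by
  have hyx : y * x = ⁅y, x⁆ * x * y := by rw [commutatorElement_def]; group
  induction n with
  | zero => simp
  | succ n ih =>
    calc y ^ (n + 1) * x = y ^ n * (y * x) := by rw [pow_succ, mul_assoc]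
      _ = y ^ n * (⁅y, x⁆ * x * y) := by rw [hyx]
      _ = ⁅y, x⁆ * (y ^ n * x) * y := by
        rw [mul_assoc ⁅y, x⁆ x y, ← mul_assoc (y ^ n), ← hc (y ^ n)]; simp only [mul_assoc]
      _ = ⁅y, x⁆ * (⁅y, x⁆ ^ n * x * y ^ n) * y := by rw [ih]
      _ = ⁅y, x⁆ ^ (n + 1) * x * y ^ (n + 1) := by
        rw [pow_succ' ⁅y, x⁆, pow_succ y]; simp only [mul_assoc]

theorem comm_pow_left2 (x y : P) (hc : ∀ g, ⁅y, x⁆ * g = g * ⁅y, x⁆) (n : ℕ) :
    ⁅y ^ n, x⁆ = ⁅y, x⁆ ^ n := by
  rw [commutatorElement_def (y ^ n) x, pow_mul_comm2 x y hc n]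
  simp only [mul_assoc, mul_inv_cancel, mul_one]

theorem mul_pow_class2 (x y : P) (hc : ∀ g, ⁅y, x⁆ * g = g * ⁅y, x⁆) (n : ℕ) :
    (x * y) ^ n = x ^ n * y ^ n * ⁅y, x⁆ ^ (n.choose 2) := by
  induction n with
  | zero => simp
  | succ n ih =>
    have hcn : ∀ (k : ℕ) (g : P), ⁅y, x⁆ ^ k * g = g * ⁅y, x⁆ ^ k := fun k g =>
      ((show Commute ⁅y, x⁆ g from hc g).pow_left k).eq
    calc (x * y) ^ (n + 1) = x ^ n * y ^ n * ⁅y, x⁆ ^ (n.choose 2) * (x * y) := by
          rw [pow_succ, ih]
      _ = x ^ n * (y ^ n * x) * y * ⁅y, x⁆ ^ (n.choose 2) := by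
          rw [mul_assoc (x ^ n * y ^ n), hcn (n.choose 2) (x * y)]; simp only [mul_assoc]
      _ = x ^ n * (⁅y, x⁆ ^ n * x * y ^ n) * y * ⁅y, x⁆ ^ (n.choose 2) := by
          rw [pow_mul_comm2 x y hc n]
      _ = x ^ (n + 1) * y ^ (n + 1) * (⁅y, x⁆ ^ (n.choose 2) * ⁅y, x⁆ ^ n) := by
          rw [hcn n x, pow_succ x, pow_succ y]
          simp only [mul_assoc]
          rw [hcn n (y ^ n * (y * ⁅y, x⁆ ^ (n.choose 2)))]
          simp only [mul_assoc]
      _ = x ^ (n + 1) * y ^ (n + 1) * ⁅y, x⁆ ^ ((n + 1).choose 2) := by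
          have : (n + 1).choose 2 = n.choose 2 + n := by
            rw [Nat.choose_succ_succ' n 1, Nat.choose_one_right, add_comm]
          rw [← pow_add, this]

end

theorem coatom_normal_index {P : Type*} [Group P] [Finite P] {p : ℕ} [Fact p.Prime]
    (hP : IsPGroup p P) (M : Subgroup P) (hM : IsCoatom M) : M.Normal ∧ M.index = p := by
  have hpp : p.Prime := Fact.out
  have hnil : Group.IsNilpotent P := hP.isNilpotent
  have hn : M.Normal :=
    Subgroup.NormalizerCondition.normal_of_coatom M Group.normalizerCondition_of_isNilpotent hM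
  refine ⟨hn, ?_⟩
  obtain ⟨N, hN⟩ := IsPGroup.iff_card.mp hP
  obtain ⟨n, hn'⟩ := IsPGroup.iff_card.mp (hP.to_subgroup M)
  have hlt : n < N := by
    have h1 : Nat.card M < Nat.card P :=
      lt_of_le_of_ne (Subgroup.card_le_card_group M)
        (fun h => hM.1 ((Subgroup.card_eq_iff_eq_top M).mp h))
    rw [hn', hN] at h1
    exact (Nat.pow_lt_pow_iff_right hpp.one_lt).mp h1
  obtain ⟨K, hK, hMK⟩ := Sylow.exists_subgroup_card_pow_succ (p := p) (n := n)
    (by rw [hN]; exact pow_dvd_pow p hlt) hn'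
  have hKtop : K = ⊤ := by
    rcases hM.le_iff.mp hMK with h | h
    · exact h
    · exfalso
      rw [h, hn'] at hK
      have := Nat.pow_right_injective hpp.two_le hK
      omega
  have hcard : Nat.card P = p ^ (n + 1) := by rw [← hK, hKtop, Subgroup.card_top]
  have h2 := M.card_mul_index
  rw [hn', hcard, pow_succ] at h2
  exact Nat.eq_of_mul_eq_mul_left (pow_pos hpp.pos n) h2

theorem pow_mem_frattini {P : Type*} [Group P] [Finite P] {p : ℕ} [Fact p.Prime]
    (hP : IsPGroup p P) (x : P) : x ^ p ∈ frattini P := by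
  simp only [frattini, Order.radical, Subgroup.mem_iInf]
  intro M hM
  obtain ⟨hn, hi⟩ := coatom_normal_index hP M hM
  have h1 : (QuotientGroup.mk' M x) ^ p = 1 := by
    have h := pow_card_eq_one' (G := P ⧸ M) (x := QuotientGroup.mk' M x)
    rwa [← Subgroup.index_eq_card, hi] at h
  rw [← map_pow] at h1
  exact (QuotientGroup.eq_one_iff _).mp h1

theorem comm_mem_frattini {P : Type*} [Group P] [Finite P] {p : ℕ} [Fact p.Prime]
    (hP : IsPGroup p P) (x y : P) : ⁅x, y⁆ ∈ frattini P := by
  have hpp : p.Prime := Fact.out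
  simp only [frattini, Order.radical, Subgroup.mem_iInf]
  intro M hM
  obtain ⟨hn, hi⟩ := coatom_normal_index hP M hM
  have hcard : Nat.card (P ⧸ M) = p := by rw [← Subgroup.index_eq_card, hi]
  have hcyc : IsCyclic (P ⧸ M) := isCyclic_of_prime_card hcard
  have hcomm : ∀ a b : P ⧸ M, a * b = b * a := fun a b => by
    obtain ⟨g, hg⟩ := hcyc.exists_generator
    obtain ⟨i, rfl⟩ := Subgroup.mem_zpowers_iff.mp (hg a)
    obtain ⟨j, rfl⟩ := Subgroup.mem_zpowers_iff.mp (hg b)
    rw [← zpow_add, ← zpow_add, add_comm]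
  have h1 : QuotientGroup.mk' M ⁅x, y⁆ = 1 := by
    rw [commutatorElement_def, map_mul, map_mul, map_mul, map_inv, map_inv,
      hcomm (QuotientGroup.mk' M x) (QuotientGroup.mk' M y)]
    group
  exact (QuotientGroup.eq_one_iff _).mp h1

/-- If `f` has finite order `m` on `g` and fixes `g⁻¹ * f g`, then `(g⁻¹ * f g) ^ m = 1`. -/
theorem fin_step {G : Type*} [Group G] (f : G →* G) (m : ℕ) (g : G)
    (hm : f^[m] g = g) (hc : f (g⁻¹ * f g) = g⁻¹ * f g) : (g⁻¹ * f g) ^ m = 1 := by
  have key : ∀ k : ℕ, f^[k] g = g * (g⁻¹ * f g) ^ k := by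
    intro k
    induction k with
    | zero => simp
    | succ k ih =>
      rw [Function.iterate_succ_apply', ih, map_mul, map_pow, hc, pow_succ']
      simp only [mul_assoc, mul_inv_cancel_left]
  have h1 := key m
  rw [hm] at h1
  exact (mul_eq_left.mp h1.symm)

theorem main (p : ℕ) [Fact p.Prime] (hp : p ≠ 2) :
    ∀ (n : ℕ) (G : Type u) [Group G] [Finite G], Nat.card G = n → IsPGroup p G →
      ∀ (f : G →* G) (m : ℕ), m.Coprime p → (∀ x, f^[m] x = x) →
        (∀ x : G, x ^ p = 1 → f x = x) → ∀ x, f x = x := by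
  have hpp : p.Prime := Fact.out
  intro n
  induction n using Nat.strong_induction_on with
  | _ n ih =>
  intro G _ _ hn hG f m hmp hfm hfix
  -- restriction principle
  have hres : ∀ H : Subgroup G, H ≠ ⊤ → (∀ x ∈ H, f x ∈ H) → ∀ x ∈ H, f x = x := by
    intro H hH hinv x hx
    have hlt : Nat.card H < n := by
      rw [← hn]
      exact lt_of_le_of_ne (Subgroup.card_le_card_group H)
        (fun h => hH ((Subgroup.card_eq_iff_eq_top H).mp h))
    let fH : H →* H := (f.comp H.subtype).codRestrict H (fun y => hinv y y.2)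
    have hfH : ∀ y : H, ((fH y : H) : G) = f y := fun y => rfl
    have hiter : ∀ (k : ℕ) (y : H), ((fH^[k] y : H) : G) = f^[k] y := by
      intro k
      induction k with
      | zero => intro y; rfl
      | succ k ihk =>
        intro y
        rw [Function.iterate_succ_apply', Function.iterate_succ_apply', hfH, ihk]
    have := ih (Nat.card H) hlt H rfl (hG.to_subgroup H) fH m hmp
      (fun y => Subtype.ext (by rw [hiter, hfm]))
      (fun y hy => Subtype.ext (by
        rw [hfH]
        apply hfix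
        have := congrArg Subtype.val hy
        simpa using this))
      ⟨x, hx⟩
    exact congrArg Subtype.val this
  -- final step
  have hfinal : ∀ g : G, f (g⁻¹ * f g) = g⁻¹ * f g → f g = g := by
    intro g hc
    have h1 := fin_step f m g (hfm g) hc
    obtain ⟨k, hk⟩ := hG (g⁻¹ * f g)
    have h2 := pow_gcd_eq_one.mpr ⟨h1, hk⟩
    rw [Nat.Coprime.pow_right k hmp, pow_one] at h2
    exact (inv_mul_eq_one.mp h2).symm
  intro x
  by_cases htriv : Subsingleton G
  · exact Subsingleton.elim _ _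
  have hnt : Nontrivial G := not_subsingleton_iff_nontrivial.mp htriv
  -- f is bijective
  have hm0 : m ≠ 0 := by
    rintro rfl
    rw [Nat.coprime_zero_left] at hmp
    exact hpp.one_lt.ne' hmp
  have hinj : Function.Injective f := by
    intro y z hyz
    have h1 : f^[m] y = f^[m] z := by
      obtain ⟨k, rfl⟩ := Nat.exists_eq_succ_of_ne_zero hm0
      rw [Function.iterate_succ_apply, Function.iterate_succ_apply, hyz]
    rwa [hfm, hfm] at h1
  have hbij : Function.Bijective f := ⟨hinj, Finite.injective_iff_surjective.mp hinj⟩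
  let e : G ≃* G := MulEquiv.ofBijective f hbij
  -- Frattini is proper and invariant
  have hFne : frattini G ≠ ⊤ := by
    rcases eq_top_or_exists_le_coatom (⊥ : Subgroup G) with h | ⟨M, hM, -⟩
    · exact absurd h bot_ne_top
    · intro h
      have := frattini_le_coatom hM
      rw [h] at this
      exact hM.1 (top_le_iff.mp this)
  have hFinv : ∀ y ∈ frattini G, f y ∈ frattini G := by
    intro y hy
    have h1 : (frattini G).map e.toMonoidHom = frattini G :=
      Subgroup.characteristic_iff_map_eq.mp inferInstance e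
    rw [← h1]
    exact ⟨y, hy, rfl⟩
  have hF := hres (frattini G) hFne hFinv
  -- generators g⁻¹ f g centralize Frattini
  have hcent : ∀ g : G, g⁻¹ * f g ∈ Subgroup.centralizer (frattini G : Set G) := by
    intro g
    rw [Subgroup.mem_centralizer_iff]
    intro d hd
    have h1 : g * d * g⁻¹ ∈ frattini G := (inferInstance : (frattini G).Normal).conj_mem d hd g
    have h2 := hF _ h1
    rw [map_mul, map_mul, map_inv, hF d hd] at h2
    calc d * (g⁻¹ * f g) = g⁻¹ * (g * d * g⁻¹) * f g := by group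
      _ = g⁻¹ * (f g * d * (f g)⁻¹) * f g := by rw [h2]
      _ = g⁻¹ * f g * d := by group
  have hKinv : ∀ y ∈ Subgroup.centralizer (frattini G : Set G),
      f y ∈ Subgroup.centralizer (frattini G : Set G) := by
    intro y hy
    rw [Subgroup.mem_centralizer_iff] at hy ⊢
    intro d hd
    have := congrArg f (hy d hd)
    rwa [map_mul, map_mul, hF d hd] at this
  by_cases hK : Subgroup.centralizer (frattini G : Set G) = ⊤
  · -- Frattini central: class 2, p-th power map is a hom
    have hcen : ∀ d ∈ frattini G, ∀ g : G, d * g = g * d := by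
      intro d hd g
      have hg : g ∈ Subgroup.centralizer (frattini G : Set G) := hK ▸ Subgroup.mem_top g
      rw [Subgroup.mem_centralizer_iff] at hg
      exact hg d hd
    apply hfinal
    apply hfix
    have hc : ∀ g', ⁅f x, x⁻¹⁆ * g' = g' * ⁅f x, x⁻¹⁆ :=
      fun g' => hcen _ (comm_mem_frattini hG _ _) g'
    rw [mul_pow_class2 x⁻¹ (f x) hc p]
    have h1 : ⁅f x, x⁻¹⁆ ^ p = 1 := by
      rw [← comm_pow_left2 x⁻¹ (f x) hc p, commutatorElement_eq_one_iff_commute]
      exact hcen _ (pow_mem_frattini hG _) _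
    have h2 : p ∣ p.choose 2 := hpp.dvd_choose_self (by norm_num)
      (lt_of_le_of_ne hpp.two_le (Ne.symm hp))
    obtain ⟨c, hc2⟩ := h2
    rw [hc2, pow_mul, h1, one_pow, mul_one, ← map_pow, hF _ (pow_mem_frattini hG x), inv_pow,
      inv_mul_cancel]
  · apply hfinal
    exact hres _ hK hKinv _ (hcent x)

/-- For odd p, a p'-automorphism of a p-group acting trivially on the elements of order dividing p is trivial. -/
theorem result {G : Type*} [Group G] [Finite G] {p : ℕ} [Fact p.Prime] (hp : p ≠ 2) (hG : IsPGroup p G) (a : MulAut G) (ha : Nat.Coprime (orderOf a) p) (h : ∀ x : G, x ^ p = 1 → a x = x) : a = 1 := by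
  have hiter : ∀ (k : ℕ) (x : G), (a ^ k) x = (a.toMonoidHom)^[k] x := by
    intro k
    induction k with
    | zero => intro x; rfl
    | succ k ih =>
      intro x
      rw [pow_succ', MulAut.mul_apply, ih, Function.iterate_succ_apply']
      rfl
  have hm : ∀ x, (a.toMonoidHom)^[orderOf a] x = x := by
    intro x
    rw [← hiter, pow_orderOf_eq_one]
    rfl
  have := main p hp (Nat.card G) G rfl hG a.toMonoidHom (orderOf a) ha hm h
  ext x
  exact this x

end Cfsg.Agent.S0120
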