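import Cfsg.Statements.S0121
import Mathlib

set_option autoImplicit false
open Cfsg

namespace Cfsg.Agent.S0121

/-- A p'-automorphism of a p-group acting trivially on a critical subgroup is trivial. -/
theorem result {G : Type*} [Group G] [Finite G] {p : ℕ} [Fact p.Prime] (hG : IsPGroup p G) (H : Subgroup G) (hH : H.Characteristic) (h1 : (frattini H).map H.subtype ≤ Subgroup.centralizer (H : Set G)) (h2 : ⁅H, (⊤ : Subgroup G)⁆ ≤ H ⊓ Subgroup.centralizer (H : Set G)) (h3 : Subgroup.centralizer (H : Set G) ≤ H) (a : MulAut G) (ha : Nat.Coprime (orderOf a) p) (h : ∀ x ∈ H, a x = x) : a = 1 := by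
  have hnorm : H.Normal := inferInstance
  have key : ∀ g : G, g⁻¹ * a g ∈ H := by
    intro g
    apply h3
    rw [Subgroup.mem_centralizer_iff]
    intro x hx
    have e1 : a (g * x * g⁻¹) = g * x * g⁻¹ := h _ (hnorm.conj_mem x hx g)
    rw [map_mul, map_mul, map_inv, h x hx] at e1
    have e2 : x * (g⁻¹ * a g) = g⁻¹ * (g * x * g⁻¹) * a g := by group
    rw [e2, ← e1]; group
  have hpow : ∀ (k : ℕ) (g : G), (a ^ k) g = g * (g⁻¹ * a g) ^ k := by
    intro k
    induction k with
    | zero => intro g; simp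
    | succ k ih =>
      intro g
      rw [pow_succ, MulAut.mul_apply, ih (a g)]
      have hc : a (g⁻¹ * a g) = g⁻¹ * a g := h _ (key g)
      have e3 : (a g)⁻¹ * a (a g) = g⁻¹ * a g := by
        rw [← map_inv, ← map_mul]; exact hc
      rw [e3, pow_succ', ← mul_assoc, mul_inv_cancel_left]
  have hcard : a ^ Nat.card G = 1 := by
    ext g
    rw [hpow]
    simp
  obtain ⟨n, hn⟩ := IsPGroup.iff_card.mp hG
  have hdvd : orderOf a ∣ p ^ n := hn ▸ orderOf_dvd_of_pow_eq_one hcard
  have h1' : orderOf a = 1 := Nat.Coprime.eq_one_of_dvd (Nat.Coprime.pow_right n ha) hdvd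
  exact orderOf_eq_one_iff.mp h1'

end Cfsg.Agent.S0121
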