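import Cfsg.Statements.S3771
import Mathlib

set_option autoImplicit false
open Cfsg

namespace Cfsg.Agent.S3771

lemma card_mul_le_of_lt {G : Type*} [Group G] [Finite G] {p : ℕ} [Fact p.Prime]
    (hG : IsPGroup p G) {H K : Subgroup G} (h : H < K) : Nat.card H * p ≤ Nat.card K := by
  obtain ⟨a, ha⟩ := IsPGroup.iff_card.mp (hG.to_subgroup H)
  obtain ⟨b, hb⟩ := IsPGroup.iff_card.mp (hG.to_subgroup K)
  have hlt : Nat.card H < Nat.card K := by
    by_contra hcon
    push Not at hcon
    exact absurd (Subgroup.eq_of_le_of_card_ge h.le hcon) (ne_of_lt h)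
  rw [ha, hb] at hlt ⊢
  have hp : 1 < p := (Fact.out : p.Prime).one_lt
  have hab : a < b := (Nat.pow_lt_pow_iff_right hp).mp hlt
  rw [← pow_succ]
  exact Nat.pow_le_pow_right (by omega) hab

/-- Let p be a prime and R a finite p-group of p-rank at most 2 (no elementary abelian subgroup of order p³) in which every element has order dividing p. Then R has order at most p³. -/
theorem result {R : Type*} [Group R] [Finite R] {p : ℕ} [Fact p.Prime] (hR : IsPGroup p R) (hrank : Cfsg.PRankLE p 2 R) (hexp : ∀ x : R, x ^ p = 1) : Nat.card R ≤ p ^ 3 := by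
  classical
  by_contra hcon
  push Not at hcon
  have hp : p.Prime := Fact.out
  have hp2 : 2 ≤ p := hp.two_le
  obtain ⟨m, hm⟩ := IsPGroup.iff_card.mp hR
  have hm4 : 4 ≤ m := by
    rw [hm] at hcon
    have h1 := (Nat.pow_lt_pow_iff_right hp.one_lt).mp hcon
    omega
  have hcard4 : p ^ 4 ≤ Nat.card R := by
    rw [hm]
    exact Nat.pow_le_pow_right hp.pos hm4
  have hnt : Nontrivial R := by
    rw [← Finite.one_lt_card_iff_nontrivial]
    calc 1 < p ^ 3 := Nat.one_lt_pow (by norm_num) hp.one_lt
      _ < Nat.card R := hcon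
  have hcn := hR.center_nontrivial
  obtain ⟨⟨z, hz⟩, hz1⟩ := exists_ne (1 : Subgroup.center R)
  have hz1' : z ≠ 1 := fun h => hz1 (Subtype.ext h)
  set Z : Subgroup R := Subgroup.zpowers z with hZ
  have hZcard : Nat.card Z = p := by
    rw [Nat.card_zpowers]
    exact orderOf_eq_prime (hexp z) hz1'
  have hZcenter : Z ≤ Subgroup.center R := by
    rw [Subgroup.zpowers_le]
    exact hz
  haveI hZn : Z.Normal := by
    refine ⟨fun a ha g => ?_⟩
    have h1 : g * a = a * g := Subgroup.mem_center_iff.mp (hZcenter ha) g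
    have h2 : g * a * g⁻¹ = a := by rw [h1]; group
    rw [h2]
    exact ha
  have hQ : IsPGroup p (R ⧸ Z) := hR.to_quotient Z
  have hQnt : Nontrivial (R ⧸ Z) := by
    rw [← Finite.one_lt_card_iff_nontrivial, ← Subgroup.index_eq_card]
    have h1 := Subgroup.card_mul_index Z
    rw [hZcard] at h1
    by_contra h2
    push Not at h2
    have h3 : Nat.card R ≤ p := by
      calc Nat.card R = p * Z.index := h1.symm
        _ ≤ p * 1 := Nat.mul_le_mul_left _ h2
        _ = p := mul_one p
    have h4 : p ≤ p ^ 3 := Nat.le_self_pow (by norm_num) p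
    omega
  have hQcn := hQ.center_nontrivial
  obtain ⟨⟨c, hc⟩, hc1⟩ := exists_ne (1 : Subgroup.center (R ⧸ Z))
  have hc1' : c ≠ 1 := fun h => hc1 (Subtype.ext h)
  obtain ⟨n, rfl⟩ := QuotientGroup.mk_surjective c
  have hnZ : n ∉ Z := fun h => hc1' ((QuotientGroup.eq_one_iff n).mpr h)
  have hcomm : ∀ g : R, n * g * n⁻¹ * g⁻¹ ∈ Z := by
    intro g
    rw [← QuotientGroup.eq_one_iff]
    have h1 := Subgroup.mem_center_iff.mp hc (QuotientGroup.mk g)
    simp only [QuotientGroup.mk_mul, QuotientGroup.mk_inv]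
    rw [← h1]
    group
  let φ : R →* Z :=
    { toFun := fun g => ⟨n * g * n⁻¹ * g⁻¹, hcomm g⟩
      map_one' := by
        apply Subtype.ext
        simp
      map_mul' := by
        intro g h
        apply Subtype.ext
        show n * (g * h) * n⁻¹ * (g * h)⁻¹ = (n * g * n⁻¹ * g⁻¹) * (n * h * n⁻¹ * h⁻¹)
        have h1 : g⁻¹ * (n * h * n⁻¹ * h⁻¹) = (n * h * n⁻¹ * h⁻¹) * g⁻¹ :=
          Subgroup.mem_center_iff.mp (hZcenter (hcomm h)) g⁻¹
        calc n * (g * h) * n⁻¹ * (g * h)⁻¹
            = n * g * n⁻¹ * ((n * h * n⁻¹ * h⁻¹) * g⁻¹) := by group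
          _ = n * g * n⁻¹ * (g⁻¹ * (n * h * n⁻¹ * h⁻¹)) := by rw [h1]
          _ = (n * g * n⁻¹ * g⁻¹) * (n * h * n⁻¹ * h⁻¹) := by group }
  have hker : ∀ g ∈ φ.ker, n * g = g * n := by
    intro g hg
    have h1 : (φ g : R) = 1 := by
      rw [MonoidHom.mem_ker.mp hg]
      rfl
    have h2 : n * g * n⁻¹ * g⁻¹ = 1 := h1
    calc n * g = (n * g * n⁻¹ * g⁻¹) * (g * n) := by group
      _ = g * n := by rw [h2, one_mul]
  have hKcard : p ^ 3 ≤ Nat.card φ.ker := by
    have h1 := Subgroup.card_mul_index φ.ker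
    rw [Subgroup.index_ker] at h1
    have h2 : Nat.card φ.range ≤ p := by
      rw [← hZcard]
      exact Subgroup.card_le_card_group _
    have h3 : p ^ 3 * p ≤ Nat.card φ.ker * p := by
      calc p ^ 3 * p = p ^ 4 := by ring
        _ ≤ Nat.card R := hcard4
        _ = Nat.card φ.ker * Nat.card φ.range := h1.symm
        _ ≤ Nat.card φ.ker * p := Nat.mul_le_mul_left _ h2
    exact Nat.le_of_mul_le_mul_right h3 hp.pos
  have hzc : ∀ g : R, g * z = z * g := fun g => Subgroup.mem_center_iff.mp hz g
  have hN₂comm : IsMulCommutative (Subgroup.closure ({z, n} : Set R)) := by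
    apply Subgroup.isMulCommutative_closure
    intro a ha b hb
    simp only [Set.mem_insert_iff, Set.mem_singleton_iff] at ha hb
    rcases ha with rfl | rfl <;> rcases hb with rfl | rfl
    · rfl
    · exact (hzc _).symm
    · exact hzc _
    · rfl
  have hZN₂ : Z < Subgroup.closure ({z, n} : Set R) := by
    refine lt_of_le_of_ne ?_ ?_
    · rw [Subgroup.zpowers_le]
      exact Subgroup.subset_closure (by simp)
    · intro h
      apply hnZ
      rw [h]
      exact Subgroup.subset_closure (by simp)
  have hN₂card : p * p ≤ Nat.card (Subgroup.closure ({z, n} : Set R)) := by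
    have h1 := card_mul_le_of_lt hR hZN₂
    rw [hZcard] at h1
    exact h1
  have hp23 : p ^ 2 < p ^ 3 := Nat.pow_lt_pow_right hp.one_lt (by norm_num)
  by_cases hK : φ.ker ≤ Subgroup.closure ({z, n} : Set R)
  · have h1 := hrank _ hN₂comm (fun a _ => hexp a)
    have h2 := Subgroup.card_le_of_le hK
    omega
  · obtain ⟨x, hxK, hxN⟩ : ∃ x, x ∈ φ.ker ∧ x ∉ Subgroup.closure ({z, n} : Set R) := by
      by_contra h
      push Not at h
      exact hK (fun x hx => h x hx)
    have hAcomm : IsMulCommutative (Subgroup.closure ({z, n, x} : Set R)) := by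
      apply Subgroup.isMulCommutative_closure
      intro a ha b hb
      simp only [Set.mem_insert_iff, Set.mem_singleton_iff] at ha hb
      rcases ha with rfl | rfl | rfl <;> rcases hb with rfl | rfl | rfl
      · rfl
      · exact (hzc _).symm
      · exact (hzc _).symm
      · exact hzc _
      · rfl
      · exact hker _ hxK
      · exact hzc _
      · exact (hker _ hxK).symm
      · rfl
    have hN₂A : Subgroup.closure ({z, n} : Set R) < Subgroup.closure ({z, n, x} : Set R) := by
      refine lt_of_le_of_ne (Subgroup.closure_mono ?_) ?_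
      · intro y hy
        simp only [Set.mem_insert_iff, Set.mem_singleton_iff] at hy ⊢
        tauto
      · intro h
        apply hxN
        rw [h]
        exact Subgroup.subset_closure (by simp)
    have h1 := card_mul_le_of_lt hR hN₂A
    have h2 := hrank _ hAcomm (fun a _ => hexp a)
    have h3 : p ^ 3 = p * p * p := by ring
    have h4 : p * p * p ≤ Nat.card (Subgroup.closure ({z, n} : Set R)) * p :=
      Nat.mul_le_mul_right _ hN₂card
    omega

end Cfsg.Agent.S3771
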