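import Cfsg.Statements.S4364
import Cfsg.Agent.Lib.Helper77.KazCor

set_option autoImplicit false
open Cfsg

namespace Cfsg.Agent.S4364

open Cfsg.Agent.Lib.Helper77 Cfsg.Agent.Lib.Helper55 in
/-- Let G be a finite group, p a prime and x an element whose conjugacy class has p-power size. Then for any two conjugates y and z of x, the commutator y z y⁻¹ z⁻¹ lies in O_p(G), the largest normal p-subgroup of G. -/
theorem result {G : Type*} [Group G] [Finite G] (p : ℕ) [Fact p.Prime]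
    (x : G) (hx : ∃ a : ℕ, (Subgroup.centralizer ({x} : Set G)).index = p ^ a) (g h : G) :
    (g * x * g⁻¹) * (h * x * h⁻¹) * (g * x * g⁻¹)⁻¹ * (h * x * h⁻¹)⁻¹ ∈ Cfsg.pCore p G := by
  have hp : p.Prime := Fact.out
  have hNn : (Cfsg.pCore p G).Normal := Cfsg.Agent.Lib.Helper55.pCore_normal
  obtain ⟨a, ha⟩ := hx
  -- the quotient has trivial `p`-core
  have hO : Cfsg.pCore p (G ⧸ Cfsg.pCore p G) = ⊥ := by
    rw [pCore_quotient_eq_bot_iff]
    intro D hD hpow
    apply le_pCore hD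
    rintro ⟨d, hd⟩
    obtain ⟨k, hk⟩ := hpow d hd
    obtain ⟨l, hl⟩ := (pCore_isPGroup (G := G) (p := p)) ⟨_, hk⟩
    refine ⟨k + l, Subtype.ext ?_⟩
    have := congrArg Subtype.val hl
    simp only [SubmonoidClass.mk_pow, OneMemClass.coe_one] at this
    simp only [SubmonoidClass.mk_pow, OneMemClass.coe_one]
    rw [pow_add, pow_mul, this]
  -- the image of `x` has `p`-power class size
  have hidx : ∃ b : ℕ, (Subgroup.centralizer
      ({(QuotientGroup.mk' (Cfsg.pCore p G)) x} : Set (G ⧸ Cfsg.pCore p G))).index = p ^ b := by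
    have h1 : (Subgroup.centralizer ({x} : Set G)).map (QuotientGroup.mk' (Cfsg.pCore p G)) ≤
        Subgroup.centralizer
          ({(QuotientGroup.mk' (Cfsg.pCore p G)) x} : Set (G ⧸ Cfsg.pCore p G)) := by
      rintro _ ⟨z, hz', rfl⟩
      have hz : z ∈ Subgroup.centralizer ({x} : Set G) := hz'
      rw [Subgroup.mem_centralizer_iff] at hz ⊢
      intro c hc
      rw [Set.mem_singleton_iff.mp hc, ← map_mul, ← map_mul, hz x rfl]
    have h2 := (Subgroup.index_dvd_of_le h1).trans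
      (Subgroup.index_map_dvd (Subgroup.centralizer ({x} : Set G))
        (QuotientGroup.mk'_surjective (Cfsg.pCore p G)))
    rw [ha] at h2
    obtain ⟨b, -, hb⟩ := (Nat.dvd_prime_pow hp).mp h2
    exact ⟨b, hb⟩
  obtain ⟨b, hb⟩ := hidx
  have hsol := kazarin_index ((QuotientGroup.mk' (Cfsg.pCore p G)) x) hp b hb
  have hab := kc_abelian p hO ((QuotientGroup.mk' (Cfsg.pCore p G)) x) b hb hsol
  have hmem : ∀ c : G, (QuotientGroup.mk' (Cfsg.pCore p G)) (c * x * c⁻¹) ∈
      Subgroup.normalClosure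
        ({(QuotientGroup.mk' (Cfsg.pCore p G)) x} : Set (G ⧸ Cfsg.pCore p G)) := by
    intro c
    rw [map_mul, map_mul, map_inv]
    exact Subgroup.normalClosure_normal.conj_mem _
      (Subgroup.subset_normalClosure (Set.mem_singleton _)) _
  have hcomm := hab _ (hmem g) _ (hmem h)
  rw [← QuotientGroup.eq_one_iff]
  have e : ((g * x * g⁻¹ * (h * x * h⁻¹) * (g * x * g⁻¹)⁻¹ * (h * x * h⁻¹)⁻¹ : G) :
      G ⧸ Cfsg.pCore p G) =
      (QuotientGroup.mk' (Cfsg.pCore p G)) (g * x * g⁻¹) *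
        (QuotientGroup.mk' (Cfsg.pCore p G)) (h * x * h⁻¹) *
        ((QuotientGroup.mk' (Cfsg.pCore p G)) (g * x * g⁻¹))⁻¹ *
        ((QuotientGroup.mk' (Cfsg.pCore p G)) (h * x * h⁻¹))⁻¹ := by
    simp only [QuotientGroup.mk'_apply, QuotientGroup.mk_mul, QuotientGroup.mk_inv]
  rw [e, hcomm, mul_inv_cancel_right, mul_inv_cancel]

end Cfsg.Agent.S4364
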