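import Cfsg.Statements.S0646
import Cfsg.Agent.Lib.Helper15.CyclicIndexP

set_option autoImplicit false
open Cfsg

namespace Cfsg.Agent.S0646

open Cfsg.Agent.Lib.Helper15

theorem two_adic (m : ℕ) (hm : 2 ≤ m) (k : ℤ) (h : (2:ℤ) ^ m ∣ k ^ 2 - 1) :
    (2:ℤ) ^ m ∣ k - 1 ∨ (2:ℤ) ^ m ∣ k + 1 ∨ (3 ≤ m ∧ (2:ℤ) ^ m ∣ k - 1 - 2 ^ (m - 1)) ∨
      (3 ≤ m ∧ (2:ℤ) ^ m ∣ k + 1 - 2 ^ (m - 1)) := by
  have h2m : (2:ℤ) ^ m = 2 * 2 ^ (m - 1) := by rw [← pow_succ']; congr 1; omega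
  have hPeven : (2:ℤ) ∣ 2 ^ (m - 1) := dvd_pow_self 2 (by omega)
  have hP3 : 3 ≤ m ∨ (2:ℤ) ^ (m - 1) = 2 := by
    rcases Nat.lt_or_ge m 3 with h3 | h3
    · right
      have h4 : m = 2 := by omega
      subst h4; norm_num
    · left; exact h3
  have hcop : ∀ j : ℤ, IsCoprime ((2:ℤ) ^ (m - 1)) (2 * j + 1) :=
    fun j => IsCoprime.pow_left ⟨-j, 1, by ring⟩
  rw [h2m] at h ⊢
  generalize (2:ℤ) ^ (m - 1) = P at *
  have hodd : k % 2 = 1 := by
    by_contra hk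
    obtain ⟨j, rfl⟩ : ∃ j, k = 2 * j := ⟨k / 2, by omega⟩
    obtain ⟨c, hc⟩ := h
    obtain ⟨d, rfl⟩ := hPeven
    have h1 : (2:ℤ) ∣ 1 := ⟨2 * (j * j) - (2 * d) * c, by linear_combination (-1 : ℤ) * hc⟩
    omega
  have hk4 : k % 4 = 1 ∨ k % 4 = 3 := by omega
  rcases hk4 with h1 | h3
  · obtain ⟨j, rfl⟩ : ∃ j, k = 4 * j + 1 := ⟨k / 4, by omega⟩
    have hX : 2 * P ∣ 2 * (4 * j * (2 * j + 1)) := by
      have h5 : (4 * j + 1) ^ 2 - 1 = 2 * (4 * j * (2 * j + 1)) := by ring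
      rwa [h5] at h
    have hX' : P ∣ 4 * j * (2 * j + 1) := Int.dvd_of_mul_dvd_mul_left (by norm_num) hX
    have hPj : P ∣ 4 * j := (hcop j).dvd_of_dvd_mul_right hX'
    obtain ⟨r, hr⟩ := hPj
    rcases Int.emod_two_eq_zero_or_one r with hr0 | hr1
    · left
      obtain ⟨i, rfl⟩ : ∃ i, r = 2 * i := ⟨r / 2, by omega⟩
      exact ⟨i, by linear_combination hr⟩
    · right; right; left
      obtain ⟨i, rfl⟩ : ∃ i, r = 2 * i + 1 := ⟨r / 2, by omega⟩
      refine ⟨?_, ⟨i, by linear_combination hr⟩⟩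
      rcases hP3 with h | h
      · exact h
      · exfalso; rw [h] at hr; omega
  · obtain ⟨j, rfl⟩ : ∃ j, k = 4 * j + 3 := ⟨k / 4, by omega⟩
    have hX : 2 * P ∣ 2 * (4 * (j + 1) * (2 * j + 1)) := by
      have h5 : (4 * j + 3) ^ 2 - 1 = 2 * (4 * (j + 1) * (2 * j + 1)) := by ring
      rwa [h5] at h
    have hX' : P ∣ 4 * (j + 1) * (2 * j + 1) := Int.dvd_of_mul_dvd_mul_left (by norm_num) hX
    have hPj : P ∣ 4 * (j + 1) := (hcop j).dvd_of_dvd_mul_right hX'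
    obtain ⟨r, hr⟩ := hPj
    rcases Int.emod_two_eq_zero_or_one r with hr0 | hr1
    · right; left
      obtain ⟨i, rfl⟩ : ∃ i, r = 2 * i := ⟨r / 2, by omega⟩
      exact ⟨i, by linear_combination hr⟩
    · right; right; right
      obtain ⟨i, rfl⟩ : ∃ i, r = 2 * i + 1 := ⟨r / 2, by omega⟩
      refine ⟨?_, ⟨i, by linear_combination hr⟩⟩
      rcases hP3 with h | h
      · exact h
      · exfalso; rw [h] at hr; omega

theorem comm_of_commute_gen {G : Type*} [Group G] {p : ℕ} (hp : p.Prime) {a x : G}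
    (hi : (Subgroup.zpowers a).index = p) (hx : x ∉ Subgroup.zpowers a)
    (hcomm : x * a = a * x) : ∀ g h : G, g * h = h * g := by
  have htop : Subgroup.closure ({a, x} : Set G) = ⊤ := by
    have h1 : Subgroup.zpowers a ≤ Subgroup.closure ({a, x} : Set G) := by
      rw [Subgroup.zpowers_le]; exact Subgroup.subset_closure (by simp)
    have h2 := Subgroup.relIndex_mul_index h1
    rw [hi] at h2
    have h3 : (Subgroup.closure ({a, x} : Set G)).index ∣ p := Dvd.intro_left _ h2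
    rcases (Nat.dvd_prime hp).mp h3 with h4 | h4
    · exact Subgroup.index_eq_one.mp h4
    · exfalso
      rw [h4] at h2
      have h5 : (Subgroup.zpowers a).relIndex (Subgroup.closure ({a, x} : Set G)) = 1 :=
        Nat.eq_of_mul_eq_mul_right hp.pos (by rw [one_mul]; exact h2)
      have h6 := Subgroup.relIndex_eq_one.mp h5
      exact hx (h6 (Subgroup.subset_closure (by simp)))
  have hcommG : IsMulCommutative (Subgroup.closure ({a, x} : Set G)) := by
    apply Subgroup.isMulCommutative_closure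
    intro y hy z hz
    simp only [Set.mem_insert_iff, Set.mem_singleton_iff] at hy hz
    rcases hy with rfl | rfl <;> rcases hz with rfl | rfl
    · rfl
    · exact hcomm.symm
    · exact hcomm
    · rfl
  intro g h
  have hg : g ∈ Subgroup.closure ({a, x} : Set G) := by rw [htop]; trivial
  have hh : h ∈ Subgroup.closure ({a, x} : Set G) := by rw [htop]; trivial
  exact setLike_mul_comm hg hh

/-- Classification of non-abelian 2-groups with a cyclic maximal subgroup: dihedral, generalized quaternion, and for order at least 16 the modular group and the semidihedral group, each given by generators a (of index 2) and b with the stated relations. -/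
theorem result {G : Type*} [Group G] [Finite G] (n : ℕ) (hn : 3 ≤ n) (hG : Nat.card G = 2 ^ n) (C : Subgroup G) (hC : IsCyclic C) (hCi : C.index = 2) (hna : ∃ x y : G, x * y ≠ y * x) : ∃ a b : G, orderOf a = 2 ^ (n - 1) ∧ b ∉ Subgroup.zpowers a ∧ ((b ^ 2 = 1 ∧ b * a * b⁻¹ = a⁻¹) ∨ (b ^ 2 = a ^ (2 ^ (n - 2)) ∧ b * a * b⁻¹ = a⁻¹) ∨ (4 ≤ n ∧ b ^ 2 = 1 ∧ b * a * b⁻¹ = a ^ (1 + 2 ^ (n - 2))) ∨ (4 ≤ n ∧ b ^ 2 = 1 ∧ b * a * b⁻¹ = a ^ (2 ^ (n - 2) - 1))) := by
  classical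
  obtain ⟨a, rfl⟩ := exists_zpowers_eq C hC
  have ha : orderOf a = 2 ^ (n - 1) := by
    have h1 := Subgroup.card_mul_index (Subgroup.zpowers a)
    rw [Nat.card_zpowers, hCi, hG] at h1
    have h2 : 2 ^ n = 2 ^ (n - 1) * 2 := by rw [← pow_succ]; congr 1; omega
    rw [h2] at h1
    exact Nat.eq_of_mul_eq_mul_right (by norm_num) h1
  have hnorm : (Subgroup.zpowers a).Normal := Subgroup.normal_of_index_eq_two hCi
  obtain ⟨x, hx⟩ : ∃ x : G, x ∉ Subgroup.zpowers a := by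
    by_contra hcon
    push Not at hcon
    have h1 : Subgroup.zpowers a = ⊤ := by rw [eq_top_iff]; intro y _; exact hcon y
    rw [h1, Subgroup.index_top] at hCi
    norm_num at hCi
  obtain ⟨k, hk⟩ := Subgroup.mem_zpowers_iff.mp (hnorm.conj_mem a (Subgroup.mem_zpowers a) x)
  obtain ⟨s, hs⟩ := Subgroup.mem_zpowers_iff.mp (Subgroup.sq_mem_of_index_two hCi x)
  have hk2 : a ^ (k ^ 2) = a := by
    have h1 : x ^ 2 * a * (x ^ 2)⁻¹ = a := by rw [← hs]; group
    have h2 : x ^ 2 * a * (x ^ 2)⁻¹ = x * (x * a * x⁻¹) * x⁻¹ := by rw [pow_two]; group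
    rw [h2, ← hk, ← conj_zpow, ← hk, ← zpow_mul, ← pow_two] at h1
    exact h1
  have hdvd : (2:ℤ) ^ (n - 1) ∣ k ^ 2 - 1 := by
    have h1 : a ^ (k ^ 2 - 1) = 1 := by rw [zpow_sub, zpow_one, hk2, mul_inv_cancel]
    have h2 := orderOf_dvd_iff_zpow_eq_one.mpr h1
    rw [ha] at h2; exact_mod_cast h2
  have hzpow : ∀ i j : ℤ, (2:ℤ) ^ (n - 1) ∣ j - i → a ^ i = a ^ j := by
    intro i j hij
    rw [zpow_eq_zpow_iff_modEq, ha, Int.modEq_iff_dvd]; exact_mod_cast hij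
  have hzpow' : ∀ i j : ℤ, a ^ i = a ^ j → (2:ℤ) ^ (n - 1) ∣ j - i := by
    intro i j hij
    rw [zpow_eq_zpow_iff_modEq, ha, Int.modEq_iff_dvd] at hij; exact_mod_cast hij
  have hxk : ∀ i : ℤ, x * a ^ i * x⁻¹ = a ^ (k * i) := by
    intro i; rw [← conj_zpow, ← hk, ← zpow_mul]
  have hxk' : ∀ i : ℤ, x⁻¹ * a ^ i * x = a ^ (k * i) := by
    intro i
    have h1 : x * a ^ (k * i) * x⁻¹ = a ^ i := by
      rw [hxk]
      apply hzpow
      obtain ⟨c, hc⟩ := hdvd
      exact ⟨-i * c, by linear_combination (-i) * hc⟩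
    calc x⁻¹ * a ^ i * x = x⁻¹ * (x * a ^ (k * i) * x⁻¹) * x := by rw [h1]
      _ = a ^ (k * i) := by group
  have hs2 : (2:ℤ) ^ (n - 1) ∣ s - k * s := by
    apply hzpow'
    rw [← hxk, hs]; group
  have hm2 : 2 ≤ n - 1 := by omega
  have hn2 : n - 1 - 1 = n - 2 := by omega
  have h2n : (2:ℤ) ^ (n - 1) = 2 * 2 ^ (n - 2) := by rw [← pow_succ']; congr 1; omega
  have hxa : x * a * x⁻¹ = a ^ k := hk.symm
  have hnotmem : ∀ t : ℤ, x * a ^ t ∉ Subgroup.zpowers a := by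
    intro t hmem
    apply hx
    have h1 : x = x * a ^ t * (a ^ t)⁻¹ := by group
    rw [h1]
    exact Subgroup.mul_mem _ hmem (Subgroup.inv_mem _ (Subgroup.zpow_mem _ (Subgroup.mem_zpowers a) t))
  have hsq : ∀ t : ℤ, (x * a ^ t) ^ 2 = a ^ (s + k * t + t) := by
    intro t
    have h1 : (x * a ^ t) ^ 2 = x ^ 2 * (x⁻¹ * a ^ t * x) * a ^ t := by
      rw [pow_two, pow_two]; group
    rw [h1, ← hs, hxk', ← zpow_add, ← zpow_add]
  have hconjt : ∀ t : ℤ, (x * a ^ t) * a * (x * a ^ t)⁻¹ = a ^ k := by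
    intro t
    rw [← hxa]; group
  rcases two_adic (n - 1) hm2 k hdvd with h | h | ⟨h3, h⟩ | ⟨h3, h⟩
  · exfalso
    have hcomm : x * a = a * x := by
      have h1 : x * a * x⁻¹ = a := by
        rw [hxa]
        conv_rhs => rw [← zpow_one a]
        exact (hzpow 1 k h).symm
      calc x * a = x * a * x⁻¹ * x := by group
        _ = a * x := by rw [h1]
    obtain ⟨y, z, hyz⟩ := hna
    exact hyz (comm_of_commute_gen Nat.prime_two hCi hx hcomm y z)
  · have hinv : x * a * x⁻¹ = a⁻¹ := by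
      rw [hxa, ← zpow_neg_one]
      exact (hzpow (-1) k (by simpa using h)).symm
    have hs3 : (2:ℤ) ^ (n - 2) ∣ s := by
      obtain ⟨c, hc⟩ := h
      obtain ⟨d, hd⟩ := hs2
      have h5 : (2:ℤ) * 2 ^ (n - 2) ∣ 2 * s := by
        rw [← h2n]
        exact ⟨d + c * s, by linear_combination hd + s * hc⟩
      exact Int.dvd_of_mul_dvd_mul_left (by norm_num) h5
    obtain ⟨r, hr⟩ := hs3
    refine ⟨a, x, ha, hx, ?_⟩
    rcases Int.emod_two_eq_zero_or_one r with hr0 | hr1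
    · left
      refine ⟨?_, hinv⟩
      rw [← hs]
      obtain ⟨i, rfl⟩ : ∃ i, r = 2 * i := ⟨r / 2, by omega⟩
      have h6 := hzpow 0 s ⟨i, by rw [h2n, hr]; ring⟩
      simpa using h6.symm
    · right; left
      refine ⟨?_, hinv⟩
      rw [← hs, ← zpow_natCast]
      apply hzpow
      obtain ⟨i, rfl⟩ : ∃ i, r = 2 * i + 1 := ⟨r / 2, by omega⟩
      exact ⟨-i, by push_cast; rw [h2n, hr]; ring⟩
  · rw [hn2] at h
    have hn4 : 4 ≤ n := by omega
    have hE : (2:ℤ) ^ (n - 2) = 4 * 2 ^ (n - 4) := by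
      have h7 : n - 2 = (n - 4) + 2 := by omega
      rw [h7, pow_add]; ring
    rw [h2n, hE] at h hs2
    obtain ⟨c, hc⟩ := h
    obtain ⟨d, hd⟩ := hs2
    generalize (2:ℤ) ^ (n - 4) = E at *
    have hE0 : E ≠ 0 := by
      intro h0
      rw [h0] at hE
      have h8 : (2:ℤ) ^ (n - 2) ≠ 0 := by positivity
      exact h8 (by rw [hE]; ring)
    have hk' : k = 1 + 4 * E + 8 * E * c := by linear_combination hc
    -- s is even
    have hs' : s = 2 * (-d - c * s) := by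
      have h9 : (4 * E) * s = (4 * E) * (2 * (-d - c * s)) := by
        rw [hk'] at hd
        linear_combination (-1 : ℤ) * hd
      exact mul_left_cancel₀ (by intro h0; apply hE0; linarith) h9
    obtain ⟨r, hr⟩ : ∃ r, s = 2 * r := ⟨_, hs'⟩
    refine ⟨a, x * a ^ (-r * (1 + 2 * E)), ha, hnotmem _, ?_⟩
    right; right; left
    refine ⟨hn4, ?_, ?_⟩
    · rw [hsq]
      have h6 := hzpow 0 (s + k * (-r * (1 + 2 * E)) + -r * (1 + 2 * E))
        ⟨-r * (1 + c + E + 2 * E * c), by rw [h2n, hE, hk', hr]; ring⟩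
      simpa using h6.symm
    · rw [hconjt, ← zpow_natCast]
      apply hzpow
      refine ⟨-c, ?_⟩
      push_cast
      rw [h2n, hE, hk']; ring
  · rw [hn2] at h
    have hn4 : 4 ≤ n := by omega
    have hE : (2:ℤ) ^ (n - 2) = 4 * 2 ^ (n - 4) := by
      have h7 : n - 2 = (n - 4) + 2 := by omega
      rw [h7, pow_add]; ring
    have hcop : IsCoprime ((2:ℤ) ^ (n - 2)) (1 - 2 * 2 ^ (n - 4) - 4 * 2 ^ (n - 4) * ((k + 1 - 2 ^ (n - 2)) / 2 ^ (n - 1))) :=
      IsCoprime.pow_left ⟨2 ^ (n - 4) + 2 * 2 ^ (n - 4) * ((k + 1 - 2 ^ (n - 2)) / 2 ^ (n - 1)), 1, by ring⟩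
    obtain ⟨c, hc⟩ := h
    have hcdiv : (k + 1 - 2 ^ (n - 2)) / 2 ^ (n - 1) = c := by
      rw [hc]; exact Int.mul_ediv_cancel_left _ (by positivity)
    rw [hcdiv] at hcop
    obtain ⟨d, hd⟩ := hs2
    have hk' : k = -1 + 2 ^ (n - 2) + 2 ^ (n - 1) * c := by linear_combination hc
    have hs3 : (2:ℤ) ^ (n - 2) ∣ s := by
      have h9 : (2:ℤ) ^ (n - 2) ∣ s * (1 - 2 * 2 ^ (n - 4) - 4 * 2 ^ (n - 4) * c) := by
        refine ⟨d, ?_⟩
        have h10 : (2:ℤ) * (s * (1 - 2 * 2 ^ (n - 4) - 4 * 2 ^ (n - 4) * c)) =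
            2 * (2 ^ (n - 2) * d) := by
          rw [hk', h2n, hE] at hd
          rw [hE]
          linear_combination hd
        exact mul_left_cancel₀ (by norm_num) h10
      exact hcop.dvd_of_dvd_mul_right h9
    obtain ⟨r, hr⟩ := hs3
    rcases Int.emod_two_eq_zero_or_one r with hr0 | hr1
    · refine ⟨a, x, ha, hx, ?_⟩
      right; right; right
      refine ⟨hn4, ?_, ?_⟩
      · rw [← hs]
        obtain ⟨i, rfl⟩ : ∃ i, r = 2 * i := ⟨r / 2, by omega⟩
        have h6 := hzpow 0 s ⟨i, by rw [h2n, hr]; ring⟩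
        simpa using h6.symm
      · rw [hxa, ← zpow_natCast]
        apply hzpow
        refine ⟨-c, ?_⟩
        rw [Nat.cast_sub Nat.one_le_two_pow]
        push_cast
        rw [hk']; ring
    · refine ⟨a, x * a ^ (1 : ℤ), ha, hnotmem _, ?_⟩
      right; right; right
      refine ⟨hn4, ?_, ?_⟩
      · rw [hsq]
        obtain ⟨i, rfl⟩ : ∃ i, r = 2 * i + 1 := ⟨r / 2, by omega⟩
        have h6 := hzpow 0 (s + k * 1 + 1) ⟨i + 1 + c, by rw [hk', hr, h2n]; ring⟩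
        simpa using h6.symm
      · rw [hconjt, ← zpow_natCast]
        apply hzpow
        refine ⟨-c, ?_⟩
        rw [Nat.cast_sub Nat.one_le_two_pow]
        push_cast
        rw [hk']; ring

end Cfsg.Agent.S0646
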