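import Cfsg.Statements.S1894
import Mathlib

set_option autoImplicit false
open Cfsg

namespace Cfsg.Agent.S1894

/-- A nontrivial normal subgroup of a finite `p`-group meets the centre nontrivially. -/
theorem exists_central_in_normal {G : Type*} [Group G] [Finite G] {p : ℕ} [Fact p.Prime]
    (hG : IsPGroup p G) (N : Subgroup G) [N.Normal] (hN : N ≠ ⊥) :
    ∃ z ∈ N, z ≠ 1 ∧ z ∈ Subgroup.center G := by
  have hNp : IsPGroup p N := hG.to_subgroup N
  haveI : Nontrivial N := (Subgroup.nontrivial_iff_ne_bot N).mpr hN
  obtain ⟨n, hn0, hn⟩ := hNp.nontrivial_iff_card.mp inferInstance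
  have dvd : p ∣ Nat.card N := hn ▸ dvd_pow_self _ hn0.ne'
  have h1 : (1 : N) ∈ MulAction.fixedPoints (ConjAct G) N := fun g => smul_one g
  obtain ⟨b, hb, hne⟩ :=
    (hG.of_equiv ConjAct.toConjAct).exists_fixed_point_of_prime_dvd_card_of_fixed_point N dvd h1
  refine ⟨b, b.2, ?_, ?_⟩
  · intro h
    exact hne (Subtype.ext h.symm)
  · rw [Subgroup.mem_center_iff]
    intro g
    have h2 := hb (ConjAct.toConjAct g)
    have h3 := congrArg Subtype.val h2
    rw [ConjAct.Subgroup.val_conj_smul, ConjAct.toConjAct_smul] at h3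
    calc g * (b : G) = (g * b * g⁻¹) * g := by group
      _ = b * g := by rw [h3]

/-- Let P be a finite p-group, A a normal subgroup of P and B an abelian subgroup of A that is normal in P. Then some subgroup C of A containing B is normal in P and is self-centralizing and normal in A (C ∈ SCN(A)). -/
theorem result {P : Type*} [Group P] [Finite P] {p : ℕ} [Fact p.Prime] (hP : IsPGroup p P)
    (A : Subgroup P) [A.Normal] (B : Subgroup P) [B.Normal] (hBA : B ≤ A) (hB : IsMulCommutative B) :
    ∃ C : Subgroup P, C.Normal ∧ B ≤ C ∧ Cfsg.IsSCN A C := by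
  classical
  let 𝒮 : Set (Subgroup P) := {C | C.Normal ∧ B ≤ C ∧ C ≤ A ∧ IsMulCommutative C}
  have hfin : 𝒮.Finite := Set.toFinite _
  have hne : 𝒮.Nonempty := ⟨B, inferInstance, le_rfl, hBA, hB⟩
  obtain ⟨C, hC⟩ := hfin.exists_maximal hne
  obtain ⟨hCn, hBC, hCA, hCc⟩ := hC.prop
  have := hCn
  have hCcomm : ∀ a ∈ C, ∀ b ∈ C, a * b = b * a := by
    intro a ha b hb
    have := (isMulCommutative_iff.mp hCc) ⟨a, ha⟩ ⟨b, hb⟩
    exact congrArg Subtype.val this
  refine ⟨C, hCn, hBC, hCA, ?_, ?_⟩
  · rw [Subgroup.normalizer_eq_top]; exact le_top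
  · apply le_antisymm
    swap
    · refine le_inf hCA ?_
      intro c hc
      rw [Subgroup.mem_centralizer_iff]
      intro h hh
      exact hCcomm h hh c hc
    · by_contra hnot
      set D : Subgroup P := A ⊓ Subgroup.centralizer (C : Set P) with hD
      have hDn : D.Normal := by rw [hD]; infer_instance
      -- the image of D in P ⧸ C is a nontrivial normal subgroup
      let π := QuotientGroup.mk' C
      have hπs : Function.Surjective π := QuotientGroup.mk'_surjective C
      have hDbarn : (D.map π).Normal := hDn.map π hπs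
      have hDbar : D.map π ≠ ⊥ := by
        intro h
        rw [Subgroup.map_eq_bot_iff, QuotientGroup.ker_mk'] at h
        exact hnot h
      have hPC : IsPGroup p (P ⧸ C) := hP.to_quotient C
      obtain ⟨z, hzD, hz1, hzcen⟩ := exists_central_in_normal hPC (D.map π) hDbar
      obtain ⟨x, hxD, rfl⟩ := Subgroup.mem_map.mp hzD
      have hxA : x ∈ A := (Subgroup.mem_inf.mp hxD).1
      have hxcen : x ∈ Subgroup.centralizer (C : Set P) := (Subgroup.mem_inf.mp hxD).2
      have hxC : x ∉ C := by
        intro hx
        apply hz1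
        exact (QuotientGroup.eq_one_iff x).mpr hx
      -- E = preimage of ⟨x̄⟩
      have hZn : (Subgroup.zpowers (π x)).Normal := by
        constructor
        intro n hn g
        have hle : Subgroup.zpowers (π x) ≤ Subgroup.center (P ⧸ C) := by
          rw [Subgroup.zpowers_le]; exact hzcen
        have hncen := hle hn
        rw [Subgroup.mem_center_iff] at hncen
        have : g * n * g⁻¹ = n := by
          rw [hncen g]; group
        rw [this]; exact hn
      set E : Subgroup P := (Subgroup.zpowers (π x)).comap π with hE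
      have hEn : E.Normal := hZn.comap π
      have hCE : C ≤ E := by
        intro c hc
        rw [hE, Subgroup.mem_comap]
        have : π c = 1 := (QuotientGroup.eq_one_iff c).mpr hc
        rw [this]; exact Subgroup.one_mem _
      have hxE : x ∈ E := by
        rw [hE, Subgroup.mem_comap]; exact Subgroup.mem_zpowers _
      have hEdesc : ∀ g ∈ E, ∃ k : ℤ, ∃ c ∈ C, g = x ^ k * c := by
        intro g hg
        rw [hE, Subgroup.mem_comap, Subgroup.mem_zpowers_iff] at hg
        obtain ⟨k, hk⟩ := hg
        refine ⟨k, (x ^ k)⁻¹ * g, ?_, by group⟩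
        have : π (x ^ k) = π g := by rw [map_zpow, hk]
        exact QuotientGroup.eq.mp this
      have hEA : E ≤ A := by
        intro g hg
        obtain ⟨k, c, hc, rfl⟩ := hEdesc g hg
        exact A.mul_mem (A.zpow_mem hxA k) (hCA hc)
      have hxc : ∀ c ∈ C, Commute x c := by
        intro c hc
        rw [Subgroup.mem_centralizer_iff] at hxcen
        exact (hxcen c hc).symm
      have hEc : IsMulCommutative E := by
        rw [isMulCommutative_iff]
        rintro ⟨g, hg⟩ ⟨g', hg'⟩
        apply Subtype.ext
        obtain ⟨k, c, hc, rfl⟩ := hEdesc g hg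
        obtain ⟨l, c', hc', rfl⟩ := hEdesc g' hg'
        have h1 : Commute (x ^ k) (x ^ l) := (Commute.refl x).zpow_zpow k l
        have h2 : Commute (x ^ k) c' := (hxc c' hc').zpow_left k
        have h3 : Commute c (x ^ l) := ((hxc c hc).zpow_left l).symm
        have h4 : Commute c c' := hCcomm c hc c' hc'
        exact ((h1.mul_right h2).mul_left (h3.mul_right h4)).eq
      have hES : E ∈ 𝒮 := ⟨hEn, hBC.trans hCE, hEA, hEc⟩
      exact hxC (hC.le_of_ge hES hCE hxE)

end Cfsg.Agent.S1894
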