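import Cfsg.Statements.S0519
import Cfsg.Agent.Lib.Helper12.NormAbCyc2
import Cfsg.Agent.S0636
import Cfsg.Agent.S0646
import Cfsg.Agent.S1894

set_option autoImplicit false
open Cfsg

namespace Cfsg.Agent.S0519

open Cfsg.Agent.Lib.Helper12


/-- Let P be a finite p-group in which every abelian normal subgroup is cyclic, but which has a non-cyclic abelian
subgroup. Then p = 2 and P is generalized quaternion, dihedral of order at least 16, or quasi-dihedral. -/
theorem result {P : Type*} [Group P] [Finite P] (p : ℕ) [Fact p.Prime]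
    (hP : IsPGroup p P) (hn : ∀ A : Subgroup P, A.Normal → IsMulCommutative A → IsCyclic A)
    (hm : ∃ B : Subgroup P, IsMulCommutative B ∧ ¬ IsCyclic B) :
    p = 2 ∧ ((∃ n : ℕ, Nonempty (P ≃* QuaternionGroup n)) ∨ (∃ n : ℕ, 8 ≤ n ∧ Nonempty (P ≃* DihedralGroup n)) ∨
      Cfsg.IsQuasiDihedral P) := by
  classical
  obtain ⟨B, hBc, hBnc⟩ := hm
  have hPnc : ¬ IsCyclic P := by
    intro h
    exact hBnc (Subgroup.isCyclic B)
  -- the prime is 2
  have hp2 : p = 2 := by
    by_contra hp
    have htop : ¬ IsCyclic (⊤ : Subgroup P) := by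
      intro h
      apply hPnc
      exact (Subgroup.topEquiv : (⊤ : Subgroup P) ≃* P).isCyclic.mp h
    obtain ⟨A, -, hAn, hAe, hAcard⟩ := Cfsg.Agent.S0636.result hp hP ⊤ htop
    have hAcyc := hn A hAn hAe.1
    obtain ⟨g, hg⟩ := hAcyc.exists_generator
    have h1 : orderOf g = Nat.card A := orderOf_eq_card_of_forall_mem_zpowers hg
    have h2 : g ^ p = 1 := Subtype.ext (hAe.2 g.1 g.2)
    have h3 := orderOf_dvd_of_pow_eq_one h2
    rw [h1, hAcard] at h3
    have h4 := Nat.le_of_dvd (Fact.out : p.Prime).pos h3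
    have hp1 := (Fact.out : p.Prime).one_lt
    nlinarith
  subst hp2
  refine ⟨rfl, ?_⟩
  -- a cyclic normal self-centralizing subgroup
  obtain ⟨U, hUn, -, hUscn⟩ := Cfsg.Agent.S1894.result hP (⊤ : Subgroup P) (⊥ : Subgroup P)
    bot_le (inferInstance : IsMulCommutative (⊥ : Subgroup P))
  have hCU : Subgroup.centralizer (U : Set P) = U := by
    have h0 := hUscn.2.2
    rwa [top_inf_eq] at h0
  have hUc : IsMulCommutative U := by
    refine ⟨⟨fun x y => Subtype.ext ?_⟩⟩
    have hx : (x : P) ∈ Subgroup.centralizer (U : Set P) := by rw [hCU]; exact x.2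
    exact (Subgroup.mem_centralizer_iff.mp hx y y.2).symm
  have hUcyc : IsCyclic U := hn U hUn hUc
  obtain ⟨a, haU⟩ := Cfsg.Agent.Lib.Helper15.exists_zpowers_eq U hUcyc
  subst haU
  obtain ⟨n, hn'⟩ := IsPGroup.iff_card.mp (hP.to_subgroup (Subgroup.zpowers a))
  have ha : orderOf a = 2 ^ n := by rw [← Nat.card_zpowers]; exact hn'
  have hne : Subgroup.zpowers a ≠ ⊤ := by
    intro h
    apply hPnc
    refine ⟨⟨a, fun x => ?_⟩⟩
    have hx : x ∈ (⊤ : Subgroup P) := trivial
    rw [← h] at hx
    exact hx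
  have hn2 : 2 ≤ n := by
    by_contra hlt
    push Not at hlt
    have ha2 : a ^ 2 = 1 := by
      have h1 : orderOf a ∣ 2 := by
        rw [ha]
        have h0 : n = 0 ∨ n = 1 := by omega
        rcases h0 with h0 | h0 <;> rw [h0] <;> norm_num
      exact orderOf_dvd_iff_pow_eq_one.mp h1
    have hsq : ∀ u ∈ Subgroup.zpowers a, u ^ 2 = 1 := by
      intro u hu
      obtain ⟨i, rfl⟩ := Subgroup.mem_zpowers_iff.mp hu
      rw [← zpow_natCast, ← zpow_mul, mul_comm, zpow_mul, zpow_natCast, ha2, one_zpow]
    apply hne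
    rw [← hCU, eq_top_iff]
    intro g _
    rw [Subgroup.mem_centralizer_iff]
    intro u hu
    by_cases hu1 : u = 1
    · rw [hu1, one_mul, mul_one]
    · have hgu : g * u * g⁻¹ ∈ Subgroup.zpowers a := hUn.conj_mem u hu g
      have hgu2 : (g * u * g⁻¹) ^ 2 = 1 := by rw [conj_pow, hsq u hu]; group
      rcases eq_one_or_eq_of_sq_eq_one_of_mem_zpowers hgu hu hgu2 (hsq u hu) hu1 with h | h
      · exfalso
        apply hu1
        have h0 : u = g⁻¹ * (g * u * g⁻¹) * g := by group
        rw [h0, h]; group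
      · calc u * g = (g * u * g⁻¹) * g := by rw [h]
          _ = g * u := by group
  have hidx := index_zpowers_eq_two_of_normal_abelian_cyclic hP hn a n hn2 ha hUn hCU hne
  have hcard : Nat.card P = 2 ^ (n + 1) := by
    have h0 := (Subgroup.zpowers a).card_mul_index
    rw [hidx, hn'] at h0
    rw [← h0, pow_succ]
  by_cases hn3 : n = 2
  · -- order 8: every subgroup of order 4 is normal
    exfalso
    subst hn3
    have hBdvd : Nat.card B ∣ 2 ^ 3 := hcard ▸ Subgroup.card_subgroup_dvd_card B
    obtain ⟨j, hj3, hj⟩ := (Nat.dvd_prime_pow Nat.prime_two).mp hBdvd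
    apply hBnc
    have hj4 : j = 0 ∨ j = 1 ∨ j = 2 ∨ j = 3 := by omega
    rcases hj4 with rfl | rfl | rfl | rfl
    · have h1 : Nat.card B = 1 := by rw [hj]; norm_num
      have : Subsingleton B := (Nat.card_eq_one_iff_unique.mp h1).1
      exact isCyclic_of_subsingleton
    · exact isCyclic_of_prime_card (p := 2) (by rw [hj]; norm_num)
    · have hBi : B.index = 2 := by
        have h0 := B.card_mul_index
        rw [hj, hcard] at h0
        norm_num at h0
        omega
      exact hn B (Subgroup.normal_of_index_eq_two hBi) hBc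
    · have hBtop : B = ⊤ := Subgroup.eq_top_of_card_eq B (by rw [hj, hcard])
      have hBn : B.Normal := by rw [hBtop]; infer_instance
      exact hn B hBn hBc
  · have hn3' : 3 ≤ n := by omega
    have hna : ∃ x y : P, x * y ≠ y * x := by
      by_contra hall
      push Not at hall
      apply hne
      rw [← hCU, eq_top_iff]
      intro g _
      rw [Subgroup.mem_centralizer_iff]
      intro u _
      exact hall u g
    obtain ⟨a', b', ha', hb', hcases⟩ := Cfsg.Agent.S0646.result (n + 1) (by omega) hcard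
      (Subgroup.zpowers a) inferInstance hidx hna
    rw [Nat.add_sub_cancel] at ha'
    have e2 : n + 1 - 2 = n - 1 := by omega
    rw [e2] at hcases
    have hpos : 0 < 2 ^ n := by positivity
    rcases hcases with ⟨hb2, hconj⟩ | ⟨hb2, hconj⟩ | ⟨-, hb2, hconj⟩ | ⟨-, hb2, hconj⟩
    · right; left
      refine ⟨2 ^ n, ?_, ?_⟩
      · calc 8 = 2 ^ 3 := by norm_num
          _ ≤ 2 ^ n := Nat.pow_le_pow_right (by norm_num) hn3'
      · exact nonempty_mulEquiv_dihedral hpos a' b' (by rw [hcard, pow_succ, mul_comm]) ha' hb'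
          hb2 hconj
    · left
      refine ⟨2 ^ (n - 1), ?_⟩
      have h2n : 2 ^ n = 2 * 2 ^ (n - 1) := by
        rw [← pow_succ']; congr 1; omega
      refine nonempty_mulEquiv_quaternion ?_ a' b' ?_ (by rw [ha', h2n]) hb2 hconj
      · calc 2 = 2 ^ 1 := by norm_num
          _ ≤ 2 ^ (n - 1) := Nat.pow_le_pow_right (by norm_num) (by omega)
      · rw [hcard, pow_succ, h2n]; ring
    · exfalso
      have hidx' : (Subgroup.zpowers a').index = 2 := by
        have h1 := (Subgroup.zpowers a').card_mul_index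
        rw [Nat.card_zpowers, ha', hcard, pow_succ] at h1
        exact Nat.eq_of_mul_eq_mul_left hpos h1
      obtain ⟨W, hWn, hWc, hWnc⟩ := exists_normal_noncyclic_of_modular (⊤ : Subgroup P) a' b' n
        hn3' ha' trivial trivial
        (fun t _ => by
          by_cases ht : t ∈ Subgroup.zpowers a'
          · left; exact ht
          · right
            rw [Subgroup.mul_mem_iff_of_index_two hidx', Subgroup.inv_mem_iff]
            exact ⟨fun h => absurd h hb', fun h => absurd h ht⟩)
        hb' (by rw [hb2]; exact Subgroup.one_mem _) (by rw [hconj, pow_add, pow_one])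
      exact hWnc (hn W hWn hWc)
    · right; right
      refine ⟨n, hn3', hcard, a', b', ha', ?_, hconj⟩
      exact orderOf_eq_prime hb2 (fun h => hb' (h ▸ Subgroup.one_mem _))

end Cfsg.Agent.S0519
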