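import Mathlib
import Cfsg.Statements.S4034
import Cfsg.Agent.Lib.Helper72.Basic
import Cfsg.Agent.Lib.Helper4.Burnside
import Cfsg.Agent.Lib.Helper1.Hall

set_option autoImplicit false
set_option linter.style.haveILetI false
open Cfsg

namespace Cfsg.Agent.S4034

open Cfsg.Agent.Lib.Helper72
open Pointwise

universe u

theorem ncard_carrier_eq_index {G : Type*} [Group G] (x : G) :
    (ConjClasses.mk x).carrier.ncard = (Subgroup.centralizer ({x} : Set G)).index := by
  have h1 := Subgroup.index_comap_of_surjective (MulAction.stabilizer (ConjAct G) x)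
    (f := (ConjAct.toConjAct (G := G)).toMonoidHom) (MulEquiv.surjective _)
  rw [← ConjAct.orbit_eq_carrier_conjClasses, ← MulAction.index_stabilizer,
    Subgroup.centralizer_eq_comap_stabilizer]
  exact h1.symm

/-- `p`-regular elements have centralizers of `p`-power index. -/
def PRegPow (p : ℕ) (G : Type*) [Group G] : Prop :=
  ∀ x : G, (orderOf x).Coprime p → ∃ k : ℕ, (Subgroup.centralizer ({x} : Set G)).index = p ^ k

theorem exists_coprime_lift {G : Type*} [Group G] [Finite G] (N : Subgroup G) [N.Normal] {p : ℕ}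
    (hp : p.Prime) (y : G ⧸ N) (hy : (orderOf y).Coprime p) :
    ∃ x : G, (x : G ⧸ N) = y ∧ (orderOf x).Coprime p := by
  obtain ⟨g, rfl⟩ := QuotientGroup.mk_surjective y
  have hn0 : orderOf g ≠ 0 := (orderOf_pos g).ne'
  have hcop : Nat.Coprime (p ^ (orderOf g).factorization p) (orderOf (g : G ⧸ N)) :=
    Nat.Coprime.pow_left _ hy.symm
  obtain ⟨t, ht⟩ := exists_pow_eq_self_of_coprime hcop
  refine ⟨(g ^ (p ^ (orderOf g).factorization p)) ^ t, ?_, ?_⟩
  · rw [QuotientGroup.mk_pow, QuotientGroup.mk_pow]; exact ht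
  · have hdvd : orderOf ((g ^ (p ^ (orderOf g).factorization p)) ^ t) ∣
        orderOf g / p ^ (orderOf g).factorization p := by
      apply orderOf_dvd_of_pow_eq_one
      rw [← pow_mul, ← pow_mul]
      have he : p ^ (orderOf g).factorization p * (t * (orderOf g / p ^ (orderOf g).factorization p))
          = orderOf g * t := by
        rw [mul_left_comm, Nat.mul_div_cancel' (Nat.ordProj_dvd _ _), mul_comm]
      rw [he, pow_mul, pow_orderOf_eq_one, one_pow]
    exact Nat.Coprime.coprime_dvd_left hdvd (Nat.coprime_ordCompl hp hn0).symm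

theorem relIndex_dvd_index_normal {G : Type*} [Group G] [Finite G] (H N : Subgroup G)
    [N.Normal] : H.relIndex N ∣ H.index := by
  have h1 : H.relIndex (H ⊔ N) * Nat.card H = Nat.card (H ⊔ N : Subgroup G) := by
    rw [← Subgroup.relIndex_bot_left, mul_comm, ← Subgroup.relIndex_bot_left]
    exact Subgroup.relIndex_mul_relIndex ⊥ H (H ⊔ N) bot_le le_sup_left
  have h2 : N.relIndex (H ⊔ N) * Nat.card N = Nat.card (H ⊔ N : Subgroup G) := by
    rw [← Subgroup.relIndex_bot_left, mul_comm, ← Subgroup.relIndex_bot_left]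
    exact Subgroup.relIndex_mul_relIndex ⊥ N (H ⊔ N) bot_le le_sup_right
  rw [Subgroup.relIndex_sup_right] at h2
  have h3 : H.relIndex N * Nat.card (H ⊓ N : Subgroup G) = Nat.card N := by
    rw [← Subgroup.inf_relIndex_right, ← Subgroup.relIndex_bot_left, mul_comm,
      ← Subgroup.relIndex_bot_left]
    exact Subgroup.relIndex_mul_relIndex ⊥ (H ⊓ N) N bot_le inf_le_right
  have h4 : N.relIndex H * Nat.card (H ⊓ N : Subgroup G) = Nat.card H := by
    rw [← Subgroup.inf_relIndex_left, ← Subgroup.relIndex_bot_left, mul_comm,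
      ← Subgroup.relIndex_bot_left]
    exact Subgroup.relIndex_mul_relIndex ⊥ (H ⊓ N) H bot_le inf_le_left
  have hpos : 0 < Nat.card H := Nat.card_pos
  have heq : H.relIndex (H ⊔ N) * Nat.card H = H.relIndex N * Nat.card H := by
    rw [h1, ← h2, ← h3, ← h4]; ring
  rw [← Nat.eq_of_mul_eq_mul_right hpos heq]
  exact Subgroup.relIndex_dvd_index_of_le le_sup_left

theorem PRegPow.quotient {G : Type*} [Group G] [Finite G] {p : ℕ} (hp : p.Prime)
    (h : PRegPow p G) (N : Subgroup G) [N.Normal] : PRegPow p (G ⧸ N) := by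
  intro y hy
  obtain ⟨x, rfl, hx⟩ := exists_coprime_lift N hp y hy
  obtain ⟨k, hk⟩ := h x hx
  have hle : (Subgroup.centralizer ({x} : Set G)).map (QuotientGroup.mk' N) ≤
      Subgroup.centralizer ({(x : G ⧸ N)} : Set (G ⧸ N)) := by
    rintro _ ⟨c, hc, rfl⟩
    rw [SetLike.mem_coe] at hc
    rw [mem_centralizer_singleton_iff'] at hc ⊢
    rw [QuotientGroup.mk'_apply, ← QuotientGroup.mk_mul, ← QuotientGroup.mk_mul, hc]
  have hdvd : (Subgroup.centralizer ({(x : G ⧸ N)} : Set (G ⧸ N))).index ∣ p ^ k := by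
    rw [← hk]
    exact (Subgroup.index_dvd_of_le hle).trans
      (Subgroup.index_map_dvd _ (QuotientGroup.mk'_surjective N))
  obtain ⟨j, -, hj⟩ := (Nat.dvd_prime_pow hp).1 hdvd
  exact ⟨j, hj⟩

theorem PRegPow.normal {G : Type*} [Group G] [Finite G] {p : ℕ} (hp : p.Prime)
    (h : PRegPow p G) (N : Subgroup G) [N.Normal] : PRegPow p N := by
  intro x hx
  rw [← Subgroup.orderOf_coe] at hx
  obtain ⟨k, hk⟩ := h (x : G) hx
  have heq : Subgroup.centralizer ({x} : Set N) =
      (Subgroup.centralizer ({(x : G)} : Set G)).subgroupOf N := by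
    ext n
    rw [Subgroup.mem_subgroupOf, mem_centralizer_singleton_iff', mem_centralizer_singleton_iff']
    constructor
    · intro hn; exact congrArg Subtype.val hn
    · intro hn; exact Subtype.ext hn
  have hdvd : (Subgroup.centralizer ({x} : Set N)).index ∣ p ^ k := by
    rw [heq, ← hk]
    exact relIndex_dvd_index_normal _ N
  obtain ⟨j, -, hj⟩ := (Nat.dvd_prime_pow hp).1 hdvd
  exact ⟨j, hj⟩


theorem isPGroup_of_no_regular {G : Type*} [Group G] [Finite G] {p : ℕ} (hp : p.Prime)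
    (h : ∀ x : G, (orderOf x).Coprime p → x = 1) : IsPGroup p G := by
  intro g
  have hn0 : orderOf g ≠ 0 := (orderOf_pos g).ne'
  refine ⟨(orderOf g).factorization p, ?_⟩
  apply h
  have hdvd : orderOf (g ^ (p ^ (orderOf g).factorization p)) ∣
      orderOf g / p ^ (orderOf g).factorization p := by
    apply orderOf_dvd_of_pow_eq_one
    rw [← pow_mul, Nat.mul_div_cancel' (Nat.ordProj_dvd _ _), pow_orderOf_eq_one]
  exact Nat.Coprime.coprime_dvd_left hdvd (Nat.coprime_ordCompl hp hn0).symm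

theorem isSolvable_of_pRegPow {p : ℕ} (hp : p.Prime) :
    ∀ (n : ℕ) (G : Type u) [Group G] [Finite G], Nat.card G = n → PRegPow p G →
      Group.IsSolvable G := by
  intro n
  induction n using Nat.strong_induction_on with
  | _ n ih =>
    intro G _ _ hn h
    haveI : Fact p.Prime := ⟨hp⟩
    by_cases hnt : Nontrivial G
    swap
    · rw [not_nontrivial_iff_subsingleton] at hnt
      exact Group.isSolvable_of_comm (fun a b => Subsingleton.elim _ _)
    by_cases hs : ∀ N : Subgroup G, N.Normal → N = ⊥ ∨ N = ⊤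
    · haveI : IsSimpleGroup G := ⟨fun N hN => hs N hN⟩
      by_cases hx : ∃ x : G, x ≠ 1 ∧ (orderOf x).Coprime p
      · obtain ⟨x, hx1, hxc⟩ := hx
        obtain ⟨k, hk⟩ := h x hxc
        have hprime := Cfsg.Agent.Lib.Helper4.prime_card_of_simple_of_index p k hp x hx1 hk
        haveI : Fact (Nat.card G).Prime := ⟨hprime⟩
        haveI : IsCyclic G := isCyclic_of_prime_card rfl
        exact Group.isSolvable_of_comm (fun a b => (isMulCommutative_iff.1 IsCyclic.isMulCommutative) a b)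
      · push Not at hx
        have hP : IsPGroup p G := isPGroup_of_no_regular hp (fun x hxc => by
          by_contra hx1; exact hx x hx1 hxc)
        haveI := hP.isNilpotent
        infer_instance
    · push Not at hs
      obtain ⟨N, hN, hNbot, hNtop⟩ := hs
      haveI := hN
      haveI : Group.IsSolvable N :=
        ih _ (hn ▸ Cfsg.Agent.Lib.Helper1.card_lt_of_index_ne_one hNtop) N rfl (h.normal hp N)
      haveI : Group.IsSolvable (G ⧸ N) :=
        ih _ (hn ▸ Cfsg.Agent.Lib.Helper1.card_quotient_lt hNbot) (G ⧸ N) rfl (h.quotient hp N)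
      exact Group.isSolvable_of_ker_le_range N.subtype (QuotientGroup.mk' N) (by simp)


theorem conj_pow' {G : Type*} [Group G] (m x : G) (i : ℕ) :
    (m⁻¹ * x * m) ^ i = m⁻¹ * x ^ i * m := by
  have := conj_pow (a := m⁻¹) (b := x) (i := i)
  rwa [inv_inv] at this

theorem orderOf_conj' {G : Type*} [Group G] (m x : G) : orderOf (m⁻¹ * x * m) = orderOf x := by
  simpa using orderOf_conj_eq m⁻¹ x

theorem mem_of_pow_mem_of_coprime {G : Type*} [Group G] (N : Subgroup G) (g : G) {a b : ℕ}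
    (hab : Nat.Coprime a b) (ha : g ^ a ∈ N) (hb : g ^ b ∈ N) : g ∈ N := by
  obtain ⟨u, v, huv⟩ := Nat.isCoprime_iff_coprime.2 hab
  have : g = (g ^ a) ^ u * (g ^ b) ^ v := by
    rw [← zpow_natCast, ← zpow_natCast, ← zpow_mul, ← zpow_mul, ← zpow_add, mul_comm _ u,
      mul_comm _ v, huv, zpow_one]
  rw [this]
  exact N.mul_mem (N.zpow_mem ha u) (N.zpow_mem hb v)

theorem coprime_orderOf_pow_ordProj {G : Type*} [Group G] [Finite G] {p : ℕ} (hp : p.Prime)
    (g : G) : (orderOf (g ^ (p ^ (orderOf g).factorization p))).Coprime p := by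
  have hn0 : orderOf g ≠ 0 := (orderOf_pos g).ne'
  have hdvd : orderOf (g ^ (p ^ (orderOf g).factorization p)) ∣
      orderOf g / p ^ (orderOf g).factorization p := by
    apply orderOf_dvd_of_pow_eq_one
    rw [← pow_mul, Nat.mul_div_cancel' (Nat.ordProj_dvd _ _), pow_orderOf_eq_one]
  exact Nat.Coprime.coprime_dvd_left hdvd (Nat.coprime_ordCompl hp hn0).symm

theorem card_sup_dvd_of_commute {G : Type*} [Group G] [Finite G] (A B : Subgroup G)
    (h : ∀ a ∈ A, ∀ b ∈ B, a * b = b * a) :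
    Nat.card (A ⊔ B : Subgroup G) ∣ Nat.card A * Nat.card B := by
  have hc : ∀ (a : A) (b : B), Commute (A.subtype a) (B.subtype b) := fun a b => h a a.2 b b.2
  have hr : (MonoidHom.noncommCoprod A.subtype B.subtype hc).range = A ⊔ B := by
    rw [MonoidHom.noncommCoprod_range, Subgroup.range_subtype, Subgroup.range_subtype]
  rw [← hr, ← Nat.card_prod]
  exact Subgroup.card_range_dvd _

/-- Wielandt: with an abelian Hall `p'`-subgroup `H`, every `p`-regular element is conjugate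
into `H`. -/
theorem exists_conj_mem_of_abelian_hall {p : ℕ} (hp : p.Prime) :
    ∀ (n : ℕ) (G : Type u) [Group G] [Finite G], Nat.card G = n →
      ∀ H : Subgroup G, (∀ a ∈ H, ∀ b ∈ H, a * b = b * a) → (∃ k : ℕ, H.index = p ^ k) →
      ∀ x : G, (orderOf x).Coprime p → ∃ g : G, g⁻¹ * x * g ∈ H := by
  intro n
  induction n using Nat.strong_induction_on with
  | _ n ih =>
    intro G _ _ hn H hab hidx x hx
    obtain ⟨k, hk⟩ := hidx
    by_cases hx1 : x = 1
    · exact ⟨1, by rw [hx1]; simp⟩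
    have ho1 : orderOf x ≠ 1 := by rwa [Ne, orderOf_eq_one_iff]
    obtain ⟨q, hq, hqd⟩ := Nat.exists_prime_and_dvd ho1
    haveI : Fact q.Prime := ⟨hq⟩
    have hqp : q ≠ p := by
      rintro rfl
      exact hq.one_lt.ne' (Nat.Coprime.eq_one_of_dvd hx.symm hqd)
    have hyo : orderOf (x ^ (orderOf x / q)) = q :=
      orderOf_pow_orderOf_div (orderOf_pos x).ne' hqd
    let S : Sylow q H := default
    let X : Subgroup G := (S : Subgroup H).map H.subtype
    have hXH : X ≤ H := by rintro _ ⟨s, _, rfl⟩; exact s.2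
    have hXq : IsPGroup q X := S.2.map _
    have hYq : IsPGroup q (Subgroup.zpowers (x ^ (orderOf x / q))) :=
      IsPGroup.of_card (n := 1) (by rw [Nat.card_zpowers, hyo, pow_one])
    have hXidx : ¬ q ∣ X.relIndex ⊤ := by
      rw [Subgroup.relIndex_top_right, Subgroup.index_map_subtype, hk]
      intro hd
      rcases (Nat.Prime.dvd_mul hq).1 hd with h1 | h1
      · exact S.not_dvd_index h1
      · exact hqp ((Nat.prime_dvd_prime_iff_eq hq hp).1 (hq.dvd_of_dvd_pow h1))
    obtain ⟨m, -, hm⟩ := exists_conj_mem_of_isPGroup (M := ⊤) le_top hXq hYq hXidx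
    have hy1 : m⁻¹ * x ^ (orderOf x / q) * m ∈ H := hXH (hm _ (Subgroup.mem_zpowers _))
    obtain ⟨x₁, hx₁⟩ : ∃ x₁, x₁ = m⁻¹ * x * m := ⟨_, rfl⟩
    have hx₁o : orderOf x₁ = orderOf x := by rw [hx₁, orderOf_conj']
    suffices hsuff : ∃ g : G, g⁻¹ * x₁ * g ∈ H by
      obtain ⟨g, hg⟩ := hsuff
      refine ⟨m * g, ?_⟩
      have : (m * g)⁻¹ * x * (m * g) = g⁻¹ * x₁ * g := by rw [hx₁]; group
      rw [this]; exact hg
    obtain ⟨y₁, hy₁⟩ : ∃ y₁, y₁ = x₁ ^ (orderOf x / q) := ⟨_, rfl⟩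
    have hy₁H : y₁ ∈ H := by rw [hy₁, hx₁, conj_pow']; exact hy1
    have hy₁o : orderOf y₁ = q := by rw [hy₁, hx₁, conj_pow', orderOf_conj', hyo]
    have hy₁ne : y₁ ≠ 1 := by
      intro h1; rw [h1, orderOf_one] at hy₁o; exact hq.one_lt.ne hy₁o
    have hx₁c : (orderOf x₁).Coprime p := by rw [hx₁o]; exact hx
    have hHC : H ≤ Subgroup.centralizer ({y₁} : Set G) :=
      fun a ha => mem_centralizer_singleton_iff'.2 (hab y₁ hy₁H a ha)
    have hxC : x₁ ∈ Subgroup.centralizer ({y₁} : Set G) := by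
      rw [mem_centralizer_singleton_iff', hy₁, ← pow_succ, ← pow_succ']
    by_cases hC : Subgroup.centralizer ({y₁} : Set G) = ⊤
    · have hcomm : ∀ g : G, y₁ * g = g * y₁ := fun g =>
        mem_centralizer_singleton_iff'.1 (hC ▸ Subgroup.mem_top g)
      haveI hZn : (Subgroup.zpowers y₁).Normal := by
        constructor
        intro a ha g
        obtain ⟨i, rfl⟩ := Subgroup.mem_zpowers_iff.1 ha
        have : g * y₁ ^ i * g⁻¹ = y₁ ^ i := by
          rw [← conj_zpow, ← hcomm g, mul_inv_cancel_right]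
        rw [this]; exact ha
      have hZH : Subgroup.zpowers y₁ ≤ H := (Subgroup.zpowers_le).2 hy₁H
      have hZbot : Subgroup.zpowers y₁ ≠ ⊥ := by
        rw [Ne, Subgroup.zpowers_eq_bot]; exact hy₁ne
      have hlt : Nat.card (G ⧸ Subgroup.zpowers y₁) < n :=
        hn ▸ Cfsg.Agent.Lib.Helper1.card_quotient_lt hZbot
      have habq : ∀ a ∈ H.map (QuotientGroup.mk' (Subgroup.zpowers y₁)),
          ∀ b ∈ H.map (QuotientGroup.mk' (Subgroup.zpowers y₁)), a * b = b * a := by
        rintro _ ⟨a, ha, rfl⟩ _ ⟨b, hb, rfl⟩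
        rw [← map_mul, ← map_mul, hab a ha b hb]
      have hidxq : ∃ j : ℕ, (H.map (QuotientGroup.mk' (Subgroup.zpowers y₁))).index = p ^ j := by
        have hd : (H.map (QuotientGroup.mk' (Subgroup.zpowers y₁))).index ∣ p ^ k :=
          hk ▸ Subgroup.index_map_dvd _ (QuotientGroup.mk'_surjective _)
        obtain ⟨j, -, hj⟩ := (Nat.dvd_prime_pow hp).1 hd
        exact ⟨j, hj⟩
      have hxq : (orderOf ((QuotientGroup.mk' (Subgroup.zpowers y₁)) x₁)).Coprime p :=
        Nat.Coprime.coprime_dvd_left (orderOf_map_dvd _ x₁) hx₁c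
      obtain ⟨g', hg'⟩ := ih _ hlt (G ⧸ Subgroup.zpowers y₁) rfl _ habq hidxq _ hxq
      obtain ⟨g, rfl⟩ := QuotientGroup.mk_surjective g'
      refine ⟨g, ?_⟩
      obtain ⟨h, hh, hhe⟩ := hg'
      have hmem : h⁻¹ * (g⁻¹ * x₁ * g) ∈ Subgroup.zpowers y₁ := by
        rw [← QuotientGroup.eq]
        exact hhe
      have : g⁻¹ * x₁ * g = h * (h⁻¹ * (g⁻¹ * x₁ * g)) := by group
      rw [this]
      exact H.mul_mem hh (hZH hmem)
    · have hlt : Nat.card (Subgroup.centralizer ({y₁} : Set G)) < n :=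
        hn ▸ Cfsg.Agent.Lib.Helper1.card_lt_of_index_ne_one hC
      have habc : ∀ a ∈ H.subgroupOf (Subgroup.centralizer ({y₁} : Set G)),
          ∀ b ∈ H.subgroupOf (Subgroup.centralizer ({y₁} : Set G)), a * b = b * a := by
        intro a ha b hb
        exact Subtype.ext (hab a ha b hb)
      have hidxc : ∃ j : ℕ, (H.subgroupOf (Subgroup.centralizer ({y₁} : Set G))).index = p ^ j := by
        have hd : H.relIndex (Subgroup.centralizer ({y₁} : Set G)) ∣ p ^ k :=
          hk ▸ Subgroup.relIndex_dvd_index_of_le hHC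
        obtain ⟨j, -, hj⟩ := (Nat.dvd_prime_pow hp).1 hd
        exact ⟨j, hj⟩
      have hxc : (orderOf (⟨x₁, hxC⟩ : Subgroup.centralizer ({y₁} : Set G))).Coprime p := by
        rw [Subgroup.orderOf_mk]; exact hx₁c
      obtain ⟨c, hc⟩ := ih _ hlt (Subgroup.centralizer ({y₁} : Set G)) rfl _ habc hidxc _ hxc
      exact ⟨(c : G), hc⟩


theorem card_mul_relIndex_of_le {G : Type*} [Group G] {M N : Subgroup G} (h : M ≤ N) :
    Nat.card M * M.relIndex N = Nat.card N := by
  rw [← Subgroup.relIndex_bot_left, ← Subgroup.relIndex_bot_left]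
  exact Subgroup.relIndex_mul_relIndex ⊥ M N bot_le h

/-- A solvable group whose `p`-regular classes have `p`-power size has an abelian
`p`-complement. -/
theorem exists_abelian_hall {p : ℕ} (hp : p.Prime) :
    ∀ (n : ℕ) (G : Type u) [Group G] [Finite G] [Group.IsSolvable G], Nat.card G = n →
      PRegPow p G →
      ∃ H : Subgroup G, (∀ a ∈ H, ∀ b ∈ H, a * b = b * a) ∧ ¬ p ∣ Nat.card H ∧
        ∃ k : ℕ, H.index = p ^ k := by
  intro n
  induction n using Nat.strong_induction_on with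
  | _ n ih =>
    intro G _ _ _ hn h
    by_cases hnt : Nontrivial G
    swap
    · rw [not_nontrivial_iff_subsingleton] at hnt
      refine ⟨⊥, ?_, ?_, 0, ?_⟩
      · intro a _ b _; exact Subsingleton.elim _ _
      · rw [Subgroup.card_bot]; exact fun hd => hp.one_lt.ne' (Nat.dvd_one.1 hd)
      · rw [pow_zero, Subgroup.index_bot]; exact Nat.card_of_subsingleton 1
    obtain ⟨N, hNn, hNr⟩ := Cfsg.Agent.Lib.Helper1.exists_normal_prime_index G
    haveI := hNn
    have hNtop : N ≠ ⊤ := by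
      rintro rfl; rw [Subgroup.index_top] at hNr; exact Nat.not_prime_one hNr
    obtain ⟨H₀', hab₀, hpc₀, k, hk⟩ :=
      ih _ (hn ▸ Cfsg.Agent.Lib.Helper1.card_lt_of_index_ne_one hNtop) N rfl (h.normal hp N)
    have hcardN : Nat.card N = Nat.card H₀' * p ^ k := by
      rw [← hk]; exact (Subgroup.card_mul_index H₀').symm
    have hmp : (Nat.card H₀').Coprime p := ((Nat.Prime.coprime_iff_not_dvd hp).2 hpc₀).symm
    by_cases hrp : N.index = p
    · refine ⟨H₀'.map N.subtype, ?_, ?_, k + 1, ?_⟩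
      · rintro _ ⟨a, ha, rfl⟩ _ ⟨b, hb, rfl⟩
        rw [← map_mul, ← map_mul, hab₀ a ha b hb]
      · rw [Subgroup.card_map_of_injective N.subtype_injective]; exact hpc₀
      · rw [Subgroup.index_map_subtype, hk, hrp, pow_succ]
    obtain ⟨g, hg⟩ : ∃ g : G, g ∉ N := by
      by_contra hcon
      push Not at hcon
      exact hNtop (eq_top_iff.2 fun g _ => hcon g)
    obtain ⟨y, hyc, hyN⟩ : ∃ y : G, (orderOf y).Coprime p ∧ y ∉ N := by
      refine ⟨g ^ (p ^ (orderOf g).factorization p), coprime_orderOf_pow_ordProj hp g, ?_⟩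
      intro hmem
      apply hg
      have h1 : g ^ N.index ∈ N := N.pow_index_mem g
      have hcop : Nat.Coprime (p ^ (orderOf g).factorization p) N.index :=
        Nat.Coprime.pow_left _ ((Nat.coprime_primes hp hNr).2 (Ne.symm hrp))
      exact mem_of_pow_mem_of_coprime N g hcop hmem h1
    obtain ⟨j, hj⟩ := h y hyc
    obtain ⟨C, hC⟩ : ∃ C : Subgroup G, C = Subgroup.centralizer ({y} : Set G) := ⟨_, rfl⟩
    rw [← hC] at hj
    have hMrel : ∃ i, (N ⊓ C).relIndex N = p ^ i := by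
      have hd : (N ⊓ C).relIndex N ∣ p ^ j := by
        rw [Subgroup.inf_relIndex_left, ← hj]; exact relIndex_dvd_index_normal C N
      obtain ⟨i, -, hi⟩ := (Nat.dvd_prime_pow hp).1 hd
      exact ⟨i, hi⟩
    obtain ⟨i, hi⟩ := hMrel
    have hMN : Nat.card (N ⊓ C : Subgroup G) * p ^ i = Nat.card H₀' * p ^ k := by
      rw [← hi, card_mul_relIndex_of_le inf_le_left, hcardN]
    have hik : i ≤ k := by
      have hd : p ^ i ∣ Nat.card H₀' * p ^ k := ⟨_, hMN.symm.trans (mul_comm _ _)⟩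
      have hd2 : p ^ i ∣ p ^ k :=
        Nat.Coprime.dvd_of_dvd_mul_left (Nat.Coprime.pow_left i hmp.symm) hd
      exact (Nat.pow_dvd_pow_iff_le_right hp.one_lt).1 hd2
    have hcardM : Nat.card (N ⊓ C : Subgroup G) = Nat.card H₀' * p ^ (k - i) := by
      have h2 : Nat.card H₀' * p ^ k = Nat.card H₀' * p ^ (k - i) * p ^ i := by
        rw [mul_assoc, ← pow_add, Nat.sub_add_cancel hik]
      rw [h2] at hMN
      exact Nat.eq_of_mul_eq_mul_right (pow_pos hp.pos i) hMN
    obtain ⟨H₂', hH₂'⟩ := Cfsg.Agent.Lib.Helper1.hall_exists (G := (N ⊓ C : Subgroup G))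
      (Nat.card H₀') (p ^ (k - i)) hcardM (Nat.Coprime.pow_right _ hmp)
    obtain ⟨H₂, hH₂⟩ : ∃ H₂ : Subgroup G, H₂ = H₂'.map (N ⊓ C).subtype := ⟨_, rfl⟩
    have hH₂M : H₂ ≤ N ⊓ C := by
      rw [hH₂]; rintro _ ⟨s, _, rfl⟩; exact s.2
    have hH₂N : H₂ ≤ N := hH₂M.trans inf_le_left
    have hH₂C : H₂ ≤ C := hH₂M.trans inf_le_right
    have hcard₂ : Nat.card H₂ = Nat.card H₀' := by
      rw [hH₂, Subgroup.card_map_of_injective (Subgroup.subtype_injective _), hH₂']
    obtain ⟨c, hc⟩ := Cfsg.Agent.Lib.Helper1.hall_conj (G := N) (Nat.card H₀') (p ^ k) hcardN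
      (Nat.Coprime.pow_right _ hmp) H₀' (H₂.subgroupOf N) rfl
      (by rw [Cfsg.Agent.Lib.Helper1.card_subgroupOf_of_le hH₂N, hcard₂])
    have hab₂ : ∀ a ∈ H₂, ∀ b ∈ H₂, a * b = b * a := by
      intro a ha b hb
      have ha' : (⟨a, hH₂N ha⟩ : N) ∈ MulAut.conj c • H₀' := by
        rw [hc, Subgroup.mem_subgroupOf]; exact ha
      have hb' : (⟨b, hH₂N hb⟩ : N) ∈ MulAut.conj c • H₀' := by
        rw [hc, Subgroup.mem_subgroupOf]; exact hb
      rw [Cfsg.Agent.Lib.Helper1.mem_conj_smul_iff] at ha' hb'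
      have hcomm := hab₀ _ ha' _ hb'
      have e1 : (⟨a, hH₂N ha⟩ : N) * ⟨b, hH₂N hb⟩ =
          c * ((c⁻¹ * ⟨a, hH₂N ha⟩ * c) * (c⁻¹ * ⟨b, hH₂N hb⟩ * c)) * c⁻¹ := by group
      have e2 : (⟨b, hH₂N hb⟩ : N) * ⟨a, hH₂N ha⟩ =
          c * ((c⁻¹ * ⟨b, hH₂N hb⟩ * c) * (c⁻¹ * ⟨a, hH₂N ha⟩ * c)) * c⁻¹ := by group
      have e3 : (⟨a, hH₂N ha⟩ : N) * ⟨b, hH₂N hb⟩ = ⟨b, hH₂N hb⟩ * ⟨a, hH₂N ha⟩ := by
        rw [e1, e2, hcomm]
      exact congrArg Subtype.val e3
    have hyH₂ : ∀ a ∈ H₂, ∀ b ∈ Subgroup.zpowers y, a * b = b * a := by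
      intro a ha b hb
      obtain ⟨t, rfl⟩ := Subgroup.mem_zpowers_iff.1 hb
      have hay : y * a = a * y := mem_centralizer_singleton_iff'.1 (hC ▸ hH₂C ha)
      have hcm : Commute a y := hay.symm
      exact (hcm.zpow_right t).eq
    obtain ⟨H, hH⟩ : ∃ H : Subgroup G, H = H₂ ⊔ Subgroup.zpowers y := ⟨_, rfl⟩
    have hH₂H : H₂ ≤ H := hH ▸ le_sup_left
    have hyH : y ∈ H := hH ▸ (le_sup_right : Subgroup.zpowers y ≤ _) (Subgroup.mem_zpowers y)
    have hHab : ∀ a ∈ H, ∀ b ∈ H, a * b = b * a := by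
      have h1 : H₂ ≤ Subgroup.centralizer (H₂ : Set G) :=
        fun a ha => Subgroup.mem_centralizer_iff.2 (fun b hb => hab₂ b hb a ha)
      have h2 : Subgroup.zpowers y ≤ Subgroup.centralizer (H₂ : Set G) :=
        fun b hb => Subgroup.mem_centralizer_iff.2 (fun a ha => hyH₂ a ha b hb)
      have h3 : H₂ ≤ Subgroup.centralizer (Subgroup.zpowers y : Set G) :=
        Subgroup.le_centralizer_iff.1 h2
      have h4 : Subgroup.zpowers y ≤ Subgroup.centralizer (Subgroup.zpowers y : Set G) := by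
        intro b hb
        rw [Subgroup.mem_centralizer_iff]
        intro a ha
        obtain ⟨s, rfl⟩ := Subgroup.mem_zpowers_iff.1 ha
        obtain ⟨t, rfl⟩ := Subgroup.mem_zpowers_iff.1 hb
        rw [← zpow_add, ← zpow_add, add_comm]
      have h5 : H ≤ Subgroup.centralizer (H₂ : Set G) := hH ▸ sup_le h1 h2
      have h6 : H ≤ Subgroup.centralizer (Subgroup.zpowers y : Set G) := hH ▸ sup_le h3 h4
      have h7 : H₂ ≤ Subgroup.centralizer (H : Set G) := Subgroup.le_centralizer_iff.1 h5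
      have h8 : Subgroup.zpowers y ≤ Subgroup.centralizer (H : Set G) :=
        Subgroup.le_centralizer_iff.1 h6
      have h9 : H ≤ Subgroup.centralizer (H : Set G) := by
        rw [hH] at h7 h8 ⊢; exact sup_le h7 h8
      intro a ha b hb
      exact (Subgroup.mem_centralizer_iff.1 (h9 hb) a ha)
    have hHcard : ¬ p ∣ Nat.card H := by
      intro hd
      have hd2 : Nat.card H ∣ Nat.card H₂ * Nat.card (Subgroup.zpowers y) :=
        hH ▸ card_sup_dvd_of_commute H₂ (Subgroup.zpowers y) hyH₂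
      rw [hcard₂, Nat.card_zpowers] at hd2
      have hcop : (Nat.card H₀' * orderOf y).Coprime p := Nat.Coprime.mul_left hmp hyc
      exact hp.one_lt.ne' (Nat.Coprime.eq_one_of_dvd hcop.symm (hd.trans hd2))
    refine ⟨H, hHab, hHcard, k, ?_⟩
    have hidx₂ : H₂.index = p ^ k * N.index := by
      have h1 := Subgroup.card_mul_index H₂
      have h2 := Subgroup.card_mul_index N
      rw [hcard₂] at h1
      rw [hcardN] at h2
      have h3 : Nat.card H₀' * H₂.index = Nat.card H₀' * (p ^ k * N.index) := by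
        rw [h1, ← h2, mul_assoc]
      exact Nat.eq_of_mul_eq_mul_left Nat.card_pos h3
    have ht1 : H₂.relIndex H * H.index = p ^ k * N.index := by
      rw [Subgroup.relIndex_mul_index hH₂H, hidx₂]
    have ht2 : H₂.relIndex H ∣ Nat.card H := ⟨Nat.card H₂, by
      rw [mul_comm]; exact (card_mul_relIndex_of_le hH₂H).symm⟩
    have ht3 : (H₂.relIndex H).Coprime (p ^ k) := by
      apply Nat.Coprime.pow_right
      exact ((Nat.Prime.coprime_iff_not_dvd hp).2 (fun hd => hHcard (hd.trans ht2))).symm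
    have ht4 : H₂.relIndex H ∣ N.index :=
      Nat.Coprime.dvd_of_dvd_mul_left ht3 ⟨_, ht1.symm⟩
    rcases (Nat.dvd_prime hNr).1 ht4 with ht5 | ht5
    · exfalso
      rw [Subgroup.relIndex_eq_one] at ht5
      exact hyN (hH₂N (ht5 hyH))
    · rw [ht5, mul_comm] at ht1
      exact Nat.eq_of_mul_eq_mul_right hNr.pos ht1

/-- Let G be a finite group and p a prime. Every conjugacy class of p-regular elements of G (elements of order prime to p) has p-power size if and only if G has an abelian p-complement, i.e. an abelian subgroup of order prime to p and p-power index. -/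
theorem result {G : Type*} [Group G] [Finite G] {p : ℕ} (hp : p.Prime) :
    (∀ x : G, (orderOf x).Coprime p → ∃ k : ℕ, (ConjClasses.mk x).carrier.ncard = p ^ k) ↔
    (∃ H : Subgroup G, IsMulCommutative H ∧ ¬ p ∣ Nat.card H ∧ ∃ k : ℕ, H.index = p ^ k) := by
  constructor
  · intro h
    have hP : PRegPow p G := fun x hx => by
      obtain ⟨k, hk⟩ := h x hx
      exact ⟨k, by rw [← ncard_carrier_eq_index, hk]⟩
    haveI := isSolvable_of_pRegPow hp _ G rfl hP
    obtain ⟨H, hab, hpc, hidx⟩ := exists_abelian_hall hp _ G rfl hP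
    exact ⟨H, isMulCommutative_iff.2 (fun a b => Subtype.ext (hab a a.2 b b.2)), hpc, hidx⟩
  · rintro ⟨H, hab, hpc, k, hk⟩ x hx
    have hab' : ∀ a ∈ H, ∀ b ∈ H, a * b = b * a := fun a ha b hb =>
      congrArg Subtype.val ((isMulCommutative_iff.1 hab) ⟨a, ha⟩ ⟨b, hb⟩)
    obtain ⟨g, hg⟩ := exists_conj_mem_of_abelian_hall hp _ G rfl H hab' ⟨k, hk⟩ x hx
    have hle : H ≤ Subgroup.centralizer ({g⁻¹ * x * g} : Set G) :=
      fun a ha => mem_centralizer_singleton_iff'.2 (hab' _ hg a ha)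
    have hdvd : (Subgroup.centralizer ({g⁻¹ * x * g} : Set G)).index ∣ p ^ k :=
      hk ▸ Subgroup.index_dvd_of_le hle
    obtain ⟨j, -, hj⟩ := (Nat.dvd_prime_pow hp).1 hdvd
    refine ⟨j, ?_⟩
    have hconj : ConjClasses.mk x = ConjClasses.mk (g⁻¹ * x * g) := by
      rw [ConjClasses.mk_eq_mk_iff_isConj, isConj_iff]
      exact ⟨g⁻¹, by simp⟩
    rw [hconj, ncard_carrier_eq_index, hj]

end Cfsg.Agent.S4034
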