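import Mathlib
import Cfsg.Statements.S4035
import Cfsg.Agent.Lib.Helper72.Basic

set_option autoImplicit false
open Cfsg

namespace Cfsg.Agent.S4035

open Cfsg.Agent.Lib.Helper72

/-- A subgroup of a finite group meeting every conjugacy class is the whole group. -/
theorem eq_top_of_forall_conj_mem {G : Type*} [Group G] [Finite G] (X : Subgroup G)
    (hX : ∀ y : G, ∃ g : G, g⁻¹ * y * g ∈ X) : X = ⊤ := by
  classical
  let f : (G ⧸ X) × X → G := fun q => q.1.out * (q.2 : G) * (q.1.out)⁻¹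
  have hsurj : Function.Surjective f := by
    intro y
    obtain ⟨g, hg⟩ := hX y
    obtain ⟨x₀, hx₀⟩ := QuotientGroup.mk_out_eq_mul X g
    refine ⟨(QuotientGroup.mk g, ⟨(x₀ : G)⁻¹ * (g⁻¹ * y * g) * (x₀ : G), ?_⟩), ?_⟩
    · exact X.mul_mem (X.mul_mem (X.inv_mem x₀.2) hg) x₀.2
    · simp only [f]
      rw [hx₀]
      group
  have hcard : Nat.card ((G ⧸ X) × X) = Nat.card G := by
    rw [Nat.card_prod, ← Subgroup.card_eq_card_quotient_mul_card_subgroup]
  have hbij : Function.Bijective f := (Nat.bijective_iff_surjective_and_card f).2 ⟨hsurj, hcard⟩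
  rw [eq_top_iff]
  intro g _
  have h1 : f (QuotientGroup.mk g, 1) = f (QuotientGroup.mk 1, 1) := by simp [f]
  have h2 := hbij.1 h1
  have h3 : (QuotientGroup.mk g : G ⧸ X) = QuotientGroup.mk 1 := (Prod.ext_iff.1 h2).1
  rw [QuotientGroup.eq] at h3
  simpa using X.inv_mem h3

theorem exists_conj_centralized {G : Type*} [Group G] [Finite G] {p : ℕ} [Fact p.Prime]
    (P : Sylow p G) (x : G) (hx : ¬ p ∣ (ConjClasses.mk x).carrier.ncard) :
    ∃ g : G, ∀ q ∈ (P : Subgroup G), q * (g * x * g⁻¹) = (g * x * g⁻¹) * q := by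
  classical
  let P' : Subgroup (ConjAct G) := (P : Subgroup G).map (ConjAct.toConjAct (G := G)).toMonoidHom
  have hP' : IsPGroup p P' := P.2.map _
  have hcard : ¬ p ∣ Nat.card (MulAction.orbit (ConjAct G) x) := by
    rw [ConjAct.orbit_eq_carrier_conjClasses, Nat.card_coe_set_eq]
    exact hx
  obtain ⟨a, ha⟩ := hP'.nonempty_fixed_point_of_prime_not_dvd_card
    (MulAction.orbit (ConjAct G) x) hcard
  obtain ⟨c, hc⟩ := a.2
  refine ⟨ConjAct.ofConjAct c, ?_⟩
  intro q hq
  have h1 := ha ⟨ConjAct.toConjAct q, Subgroup.mem_map_of_mem _ hq⟩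
  have h2 : ConjAct.toConjAct q • (a : G) = a := congrArg Subtype.val h1
  have hc' : (a : G) = ConjAct.ofConjAct c * x * (ConjAct.ofConjAct c)⁻¹ := by
    rw [← ConjAct.smul_def]; exact hc.symm
  rw [ConjAct.smul_def, ConjAct.ofConjAct_toConjAct, hc'] at h2
  exact mul_inv_eq_iff_eq_mul.1 h2

theorem exists_conj_mem_sup {G : Type*} [Group G] [Finite G] {p : ℕ} [hp : Fact p.Prime]
    (h : ∀ x : G, (orderOf x).Coprime p → ¬ p ∣ (ConjClasses.mk x).carrier.ncard)
    (P : Sylow p G) (y : G) :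
    ∃ g : G, g⁻¹ * y * g ∈ (P : Subgroup G) ⊔ Subgroup.centralizer ((P : Subgroup G) : Set G) := by
  obtain ⟨e, m, hm, hn⟩ := Nat.exists_eq_pow_mul_and_not_dvd (orderOf_pos y).ne' p hp.out.ne_one
  have hcop : Nat.Coprime m p := (Nat.Coprime.symm ((Nat.Prime.coprime_iff_not_dvd hp.out).2 hm))
  have hxo : orderOf (y ^ (p ^ e)) = m := by
    rw [orderOf_pow_of_dvd (pow_ne_zero _ hp.out.ne_zero) (hn ▸ dvd_mul_right _ _), hn,
      Nat.mul_div_cancel_left _ (pow_pos hp.out.pos e)]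
  obtain ⟨g, hg⟩ := exists_conj_centralized P (y ^ (p ^ e)) (h _ (hxo ▸ hcop))
  have hx' : g * y ^ (p ^ e) * g⁻¹ = (g * y * g⁻¹) ^ (p ^ e) := by rw [conj_pow]
  rw [hx'] at hg
  obtain ⟨y', hy'⟩ : ∃ y', y' = g * y * g⁻¹ := ⟨_, rfl⟩
  rw [← hy'] at hg
  obtain ⟨x', hx'def⟩ : ∃ x', x' = y' ^ (p ^ e) := ⟨_, rfl⟩
  rw [← hx'def] at hg
  obtain ⟨z', hz'def⟩ : ∃ z', z' = y' ^ m := ⟨_, rfl⟩
  have hz'pow : z' ^ (p ^ e) = 1 := by
    rw [hz'def, ← pow_mul, mul_comm, ← hn, hy', conj_pow, pow_orderOf_eq_one]; group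
  have hxz : x' * z' = z' * x' := by
    rw [hx'def, hz'def, ← pow_add, ← pow_add, add_comm]
  let M := Subgroup.centralizer ({x'} : Set G)
  have hPM : (P : Subgroup G) ≤ M := by
    intro q hq
    rw [mem_centralizer_singleton_iff']
    exact (hg q hq).symm
  have hzM : Subgroup.zpowers z' ≤ M := by
    rw [Subgroup.zpowers_le]
    rw [mem_centralizer_singleton_iff']; exact hxz
  have hzp : IsPGroup p (Subgroup.zpowers z') := by
    rintro ⟨w, hw⟩
    obtain ⟨k, rfl⟩ := Subgroup.mem_zpowers_iff.1 hw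
    refine ⟨e, ?_⟩
    apply Subtype.ext
    simp only [Subgroup.coe_pow, Subgroup.coe_one]
    rw [← zpow_natCast, ← zpow_mul, mul_comm, zpow_mul, zpow_natCast, hz'pow, one_zpow]
  have hidx : ¬ p ∣ (P : Subgroup G).relIndex M := by
    intro hd
    exact P.not_dvd_index (hd.trans ⟨M.index, (Subgroup.relIndex_mul_index hPM).symm⟩)
  obtain ⟨m₀, hm₀, hconj⟩ := exists_conj_mem_of_isPGroup hzM P.2 hzp hidx
  have hzP : m₀⁻¹ * z' * m₀ ∈ (P : Subgroup G) := hconj z' (Subgroup.mem_zpowers z')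
  have hm₀x : x' * m₀ = m₀ * x' := mem_centralizer_singleton_iff'.1 hm₀
  have hxC : x' ∈ Subgroup.centralizer ((P : Subgroup G) : Set G) := by
    rw [Subgroup.mem_centralizer_iff]; exact fun q hq => hg q hq
  have hcop2 : IsCoprime ((p ^ e : ℕ) : ℤ) (m : ℤ) := by
    rw [Nat.isCoprime_iff_coprime]; exact (Nat.Coprime.pow_left e hcop.symm)
  obtain ⟨a, b, hab⟩ := hcop2
  have hy'eq : y' = x' ^ a * z' ^ b := by
    rw [hx'def, hz'def, ← zpow_natCast, ← zpow_natCast, ← zpow_mul, ← zpow_mul, ← zpow_add,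
      mul_comm _ a, mul_comm _ b, hab, zpow_one]
  refine ⟨g⁻¹ * m₀, ?_⟩
  have key : (g⁻¹ * m₀)⁻¹ * y * (g⁻¹ * m₀) = x' ^ a * (m₀⁻¹ * z' * m₀) ^ b := by
    have e1 : (g⁻¹ * m₀)⁻¹ * y * (g⁻¹ * m₀) = m₀⁻¹ * y' * m₀ := by rw [hy']; group
    have e2 : m₀⁻¹ * x' ^ a * m₀ = x' ^ a := by
      have hc : Commute x' m₀ := hm₀x
      have hc2 := (hc.zpow_left a).eq
      rw [mul_assoc, hc2, inv_mul_cancel_left]
    have e3 : m₀⁻¹ * z' ^ b * m₀ = (m₀⁻¹ * z' * m₀) ^ b := by
      have := conj_zpow (i := b) (a := m₀⁻¹) (b := z')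
      rw [inv_inv] at this; exact this.symm
    rw [e1, ← e3]
    conv_rhs => rw [← e2]
    rw [hy'eq]
    group
  rw [key]
  exact Subgroup.mul_mem _ (Subgroup.zpow_mem _ (Subgroup.mem_sup_right hxC) a)
    (Subgroup.zpow_mem _ (Subgroup.mem_sup_left hzP) b)

/-- Let G be a finite group and p a prime such that p divides the size of no conjugacy class of p-regular elements (elements of order prime to p). Then G is the internal direct product of a Sylow p-subgroup P and a normal subgroup H of order prime to p: P is normal, P ⊓ H = 1 and PH = G. -/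
theorem result {G : Type*} [Group G] [Finite G] {p : ℕ} [Fact p.Prime]
    (h : ∀ x : G, (orderOf x).Coprime p → ¬ p ∣ (ConjClasses.mk x).carrier.ncard) (P : Sylow p G) :
    (P : Subgroup G).Normal ∧ ∃ H : Subgroup G, H.Normal ∧ ¬ p ∣ Nat.card H ∧
      (P : Subgroup G) ⊓ H = ⊥ ∧ (P : Subgroup G) ⊔ H = ⊤ := by
  classical
  have htop : (P : Subgroup G) ⊔ Subgroup.centralizer ((P : Subgroup G) : Set G) = ⊤ :=
    eq_top_of_forall_conj_mem _ (exists_conj_mem_sup h P)
  have hPn : (P : Subgroup G).Normal := by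
    rw [← Subgroup.normalizer_eq_top_iff, eq_top_iff, ← htop]
    exact sup_le Subgroup.le_normalizer (Subgroup.centralizer_le_normalizer _)
  refine ⟨hPn, ?_⟩
  obtain ⟨C, hC⟩ : ∃ C : Subgroup G, C = Subgroup.centralizer ((P : Subgroup G) : Set G) :=
    ⟨_, rfl⟩
  rw [← hC] at htop
  let S : Sylow p C := default
  have hSP : (S : Subgroup C).map C.subtype ≤ (P : Subgroup G) := by
    have hS' : IsPGroup p ((S : Subgroup C).map C.subtype) := S.2.map _
    obtain ⟨Q, hQ⟩ := hS'.exists_le_sylow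
    have := Sylow.unique_of_normal P hPn
    rw [Subsingleton.elim P Q]; exact hQ
  have hScent : ∀ s ∈ (S : Subgroup C), ∀ c : C, c * s = s * c := by
    intro s hs c
    apply Subtype.ext
    have hsP : (s : G) ∈ (P : Subgroup G) := hSP (Subgroup.mem_map_of_mem _ hs)
    have hcc : (c : G) ∈ Subgroup.centralizer ((P : Subgroup G) : Set G) := hC ▸ c.2
    have := Subgroup.mem_centralizer_iff.1 hcc (s : G) hsP
    simpa using this.symm
  have hNC : Subgroup.normalizer ((S : Subgroup C) : Set C)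
      ≤ Subgroup.centralizer ((S : Subgroup C) : Set C) := by
    intro c _
    rw [Subgroup.mem_centralizer_iff]
    intro s hs
    exact (hScent s hs c).symm
  have hcompl : Subgroup.IsComplement' (MonoidHom.transferSylow S hNC).ker (S : Subgroup C) :=
    MonoidHom.ker_transferSylow_isComplement' S hNC
  have hKcard : ¬ p ∣ Nat.card (MonoidHom.transferSylow S hNC).ker :=
    MonoidHom.not_dvd_card_ker_transferSylow S hNC
  obtain ⟨K, hK⟩ : ∃ K : Subgroup C, K = (MonoidHom.transferSylow S hNC).ker := ⟨_, rfl⟩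
  have hKn : K.Normal := by rw [hK]; infer_instance
  rw [← hK] at hcompl hKcard
  let H := K.map C.subtype
  have hHcard : Nat.card H = Nat.card K :=
    Subgroup.card_map_of_injective (Subgroup.subtype_injective C)
  have hHC : H ≤ C := by
    rintro _ ⟨k, _, rfl⟩; exact k.2
  have hCH : C = H ⊔ (S : Subgroup C).map C.subtype := by
    rw [← Subgroup.map_sup, hcompl.sup_eq_top, ← MonoidHom.range_eq_map, Subgroup.range_subtype]
  refine ⟨H, ?_, ?_, ?_, ?_⟩
  · rw [← Subgroup.normalizer_eq_top_iff, eq_top_iff, ← htop]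
    refine sup_le ?_ ?_
    · have h1 : (P : Subgroup G) ≤ Subgroup.centralizer (C : Set G) := by
        rw [hC]; exact Subgroup.le_centralizer_iff.1 le_rfl
      exact h1.trans ((Subgroup.centralizer_le hHC).trans (Subgroup.centralizer_le_normalizer _))
    · have := Subgroup.le_normalizer_map (H := K) C.subtype
      rw [Subgroup.normalizer_eq_top_iff.2 hKn, ← MonoidHom.range_eq_map,
        Subgroup.range_subtype] at this
      exact this
  · rw [hHcard]; exact hKcard
  · apply disjoint_iff.1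
    apply Subgroup.disjoint_of_coprime_natCard
    obtain ⟨n, hn⟩ := IsPGroup.iff_card.1 P.2
    rw [hn, hHcard]
    exact Nat.Coprime.pow_left n ((Nat.Prime.coprime_iff_not_dvd (Fact.out)).2 hKcard)
  · rw [eq_top_iff, ← htop]
    refine sup_le le_sup_left ?_
    intro c hc
    rw [hCH] at hc
    exact (sup_le le_sup_right (hSP.trans le_sup_left)) hc

end Cfsg.Agent.S4035
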