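import Cfsg.Statements.S0800
import Mathlib

set_option autoImplicit false
open Cfsg

namespace Cfsg.Agent.S0800

open Polynomial Matrix

theorem card_eq_pow {F : Type*} [Field F] [Fintype F] (p : ℕ) [CharP F p] :
    ∃ k : ℕ, 0 < k ∧ Fintype.card F = p ^ k := by
  obtain ⟨n, _, hn⟩ := FiniteField.card F p
  exact ⟨n, n.pos, hn⟩

theorem irreducible_case {F : Type*} [Field F] [Fintype F] (p : ℕ) [Fact p.Prime] [CharP F p]
    (τ : F) (hirr : Irreducible (X ^ 2 - C τ * X + 1 : F[X]))
    (hnd : ¬ (X ^ 2 - C τ * X + 1 : F[X]) ∣ X ^ (Fintype.card F) - X) :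
    (X ^ 2 - C τ * X + 1 : F[X]) ∣ X ^ (Fintype.card F + 1) - 1 := by
  obtain ⟨k, _, hk⟩ := card_eq_pow (F := F) p
  have : Fact (Irreducible (X ^ 2 - C τ * X + 1 : F[X])) := ⟨hirr⟩
  rw [← AdjoinRoot.mk_eq_zero] at hnd ⊢
  set χ := (X ^ 2 - C τ * X + 1 : F[X]) with hχ
  have hr : (AdjoinRoot.root χ) ^ 2 - AdjoinRoot.of χ τ * AdjoinRoot.root χ + 1 = 0 := by
    have h := AdjoinRoot.eval₂_root χ
    simpa [hχ, eval₂_sub, eval₂_add, eval₂_mul, eval₂_pow] using h
  have : CharP (AdjoinRoot χ) p :=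
    charP_of_injective_algebraMap (algebraMap F (AdjoinRoot χ)).injective p
  have hτ : (AdjoinRoot.of χ τ) ^ (Fintype.card F) = AdjoinRoot.of χ τ := by
    rw [← map_pow, FiniteField.pow_card]
  have hq : ((AdjoinRoot.root χ) ^ (Fintype.card F)) ^ 2
      - AdjoinRoot.of χ τ * (AdjoinRoot.root χ) ^ (Fintype.card F) + 1 = 0 := by
    have h : ((AdjoinRoot.root χ) ^ 2 - AdjoinRoot.of χ τ * AdjoinRoot.root χ + 1)
        ^ (Fintype.card F) = 0 := by
      rw [hr, zero_pow Fintype.card_ne_zero]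
    rw [← h]
    conv_rhs => rw [hk, add_pow_char_pow, sub_pow_char_pow, mul_pow, one_pow, ← hk, hτ]
    ring
  have hprod : ((AdjoinRoot.root χ) ^ (Fintype.card F) - AdjoinRoot.root χ) *
      ((AdjoinRoot.root χ) ^ (Fintype.card F) - (AdjoinRoot.of χ τ - AdjoinRoot.root χ)) = 0 := by
    linear_combination hq - hr
  rcases mul_eq_zero.1 hprod with h | h
  · exfalso
    apply hnd
    simpa using h
  · simp only [map_sub, map_pow, AdjoinRoot.mk_X, map_one]
    rw [pow_succ]
    linear_combination (AdjoinRoot.root χ) * h - hr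

theorem reducible_case {F : Type*} [Field F] [Fintype F] (τ : F) (hred : ¬ Irreducible (X ^ 2 - C τ * X + 1 : F[X]))
    (hnd : ¬ (X ^ 2 - C τ * X + 1 : F[X]) ∣ X ^ (Fintype.card F) - X) :
    ∃ a : F, a ^ 2 = 1 ∧ (X ^ 2 - C τ * X + 1 : F[X]) = (X - C a) ^ 2 := by
  have hdeg : (X ^ 2 - C τ * X + 1 : F[X]).natDegree = 2 := by
    have h : (X ^ 2 - C τ * X + 1 : F[X]) = X ^ 2 + (C (-τ) * X + C 1) := by
      simp only [C_neg, C_1]; ring
    rw [h]
    compute_degree!
  have hroots : (X ^ 2 - C τ * X + 1 : F[X]).roots ≠ 0 := by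
    intro h
    exact hred ((Polynomial.irreducible_iff_roots_eq_zero_of_degree_le_three (by omega)
      (by omega)).2 h)
  obtain ⟨a, ha⟩ := Multiset.exists_mem_of_ne_zero hroots
  have hne : (X ^ 2 - C τ * X + 1 : F[X]) ≠ 0 := by
    intro h; rw [h] at hdeg; simp at hdeg
  rw [mem_roots hne, IsRoot.def] at ha
  simp only [eval_add, eval_sub, eval_pow, eval_X, eval_mul, eval_C, eval_one] at ha
  have hfac : (X ^ 2 - C τ * X + 1 : F[X]) = (X - C a) * (X - C (τ - a)) := by
    have h1 : (1 : F[X]) = C a * C (τ - a) := by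
      rw [← C_mul, ← C_1]; congr 1; linear_combination ha
    rw [h1]; simp only [C_sub]; ring
  by_cases hab : a = τ - a
  · refine ⟨a, ?_, ?_⟩
    · linear_combination -ha + a * hab
    · rw [hfac, ← hab]; ring
  · exfalso
    apply hnd
    rw [hfac]
    have hrt : ∀ c : F, (X - C c : F[X]) ∣ X ^ (Fintype.card F) - X := by
      intro c
      rw [dvd_iff_isRoot, IsRoot.def]
      simp [FiniteField.pow_card]
    exact IsCoprime.mul_dvd
      (isCoprime_X_sub_C_of_isUnit_sub (sub_ne_zero_of_ne hab).isUnit) (hrt a) (hrt _)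

/-- Tori of SL_2(q): if g ∈ SL_2(q) has order coprime to the characteristic p, then the order of g divides q − 1 or q + 1. -/
theorem result {F : Type*} [Field F] [Fintype F] {q : ℕ} (hF : Fintype.card F = q) (p : ℕ) [Fact p.Prime] [CharP F p] (g : Matrix.SpecialLinearGroup (Fin 2) F) (hg : Nat.Coprime (orderOf g) p) : orderOf g ∣ q - 1 ∨ orderOf g ∣ q + 1 := by
  subst hF
  obtain ⟨k, hk0, hk⟩ := card_eq_pow (F := F) p
  have hχ : (g : Matrix (Fin 2) (Fin 2) F).charpoly
      = X ^ 2 - C (g : Matrix (Fin 2) (Fin 2) F).trace * X + 1 := by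
    rw [Matrix.charpoly_fin_two, g.det_coe, C_1]
  have hCH : aeval (g : Matrix (Fin 2) (Fin 2) F)
      (X ^ 2 - C (g : Matrix (Fin 2) (Fin 2) F).trace * X + 1 : F[X]) = 0 := by
    rw [← hχ]; exact Matrix.aeval_self_charpoly _
  have hdvd : ∀ P : F[X], (X ^ 2 - C (g : Matrix (Fin 2) (Fin 2) F).trace * X + 1 : F[X]) ∣ P →
      aeval (g : Matrix (Fin 2) (Fin 2) F) P = 0 := by
    rintro P ⟨Q, rfl⟩
    rw [map_mul, hCH, zero_mul]
  have hpow : ∀ n : ℕ, (g : Matrix (Fin 2) (Fin 2) F) ^ n = 1 → orderOf g ∣ n := by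
    intro n hn
    apply orderOf_dvd_of_pow_eq_one
    apply Subtype.ext
    rw [Matrix.SpecialLinearGroup.coe_pow, hn]
    rfl
  by_cases hA : (X ^ 2 - C (g : Matrix (Fin 2) (Fin 2) F).trace * X + 1 : F[X]) ∣
      X ^ (Fintype.card F) - X
  · left
    have h1 := hdvd _ hA
    simp only [map_sub, map_pow, aeval_X] at h1
    have h2 : g ^ (Fintype.card F) = g := by
      apply Subtype.ext
      rw [Matrix.SpecialLinearGroup.coe_pow]
      exact sub_eq_zero.1 h1
    apply orderOf_dvd_of_pow_eq_one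
    have h3 : g ^ (Fintype.card F - 1) * g = 1 * g := by
      rw [← pow_succ, Nat.sub_add_cancel Fintype.card_pos, h2, one_mul]
    exact mul_right_cancel h3
  · by_cases hirr : Irreducible (X ^ 2 - C (g : Matrix (Fin 2) (Fin 2) F).trace * X + 1 : F[X])
    · right
      have h1 := hdvd _ (irreducible_case p _ hirr hA)
      simp only [map_sub, map_pow, aeval_X, map_one] at h1
      exact hpow _ (sub_eq_zero.1 h1)
    · left
      obtain ⟨a, ha2, hfac⟩ := reducible_case _ hirr hA
      have hN : ((g : Matrix (Fin 2) (Fin 2) F) - algebraMap F _ a) ^ 2 = 0 := by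
        have h := hCH
        rw [hfac] at h
        simpa using h
      have hcomm : Commute ((g : Matrix (Fin 2) (Fin 2) F) - algebraMap F _ a)
          (algebraMap F (Matrix (Fin 2) (Fin 2) F) a) :=
        (Algebra.commutes a _).symm
      have hq2 : 2 ≤ Fintype.card F := Fintype.one_lt_card
      have hNq : ((g : Matrix (Fin 2) (Fin 2) F) - algebraMap F _ a) ^ (Fintype.card F) = 0 := by
        rw [← Nat.sub_add_cancel hq2, pow_add, hN, mul_zero]
      have hgq : (g : Matrix (Fin 2) (Fin 2) F) ^ (Fintype.card F)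
          = algebraMap F (Matrix (Fin 2) (Fin 2) F) a := by
        have h : (g : Matrix (Fin 2) (Fin 2) F)
            = ((g : Matrix (Fin 2) (Fin 2) F) - algebraMap F _ a) + algebraMap F _ a := by abel
        conv_lhs => rw [h]
        rw [hk, add_pow_char_pow_of_commute p k hcomm, ← hk, hNq, zero_add, ← map_pow,
          FiniteField.pow_card]
      have hg2q : (g : Matrix (Fin 2) (Fin 2) F) ^ (Fintype.card F * 2) = 1 := by
        rw [pow_mul, hgq, ← map_pow, ha2, map_one]
      have hd := hpow _ hg2q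
      have hco : Nat.Coprime (orderOf g) (Fintype.card F) := by
        rw [hk]; exact Nat.Coprime.pow_right k hg
      have hd2 : orderOf g ∣ 2 := hco.dvd_of_dvd_mul_left hd
      rcases (Nat.dvd_prime Nat.prime_two).1 hd2 with h1 | h2
      · rw [h1]; exact one_dvd _
      · rw [h2] at hg ⊢
        have hp2 : p ≠ 2 := by
          rintro rfl
          simp at hg
        have hodd : Odd (Fintype.card F) := by
          rw [hk]
          exact ((Fact.out : p.Prime).odd_of_ne_two hp2).pow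
        obtain ⟨m, hm⟩ := hodd
        exact ⟨m, by omega⟩

end Cfsg.Agent.S0800
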