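import Cfsg.Statements.S0809
import Mathlib

set_option autoImplicit false
open Cfsg

namespace Cfsg.Agent.S0809

open Matrix Polynomial

section Basic

variable {F : Type*} [Field F]

/-- Build an element of `SL₂` from its entries. -/
def mk2 (a b c d : F) (h : a * d - b * c = 1) : Matrix.SpecialLinearGroup (Fin 2) F :=
  ⟨!![a, b; c, d], by rw [Matrix.det_fin_two_of]; exact h⟩

@[simp] theorem mk2_00 (a b c d : F) (h : a * d - b * c = 1) : (mk2 a b c d h) 0 0 = a := rfl
@[simp] theorem mk2_01 (a b c d : F) (h : a * d - b * c = 1) : (mk2 a b c d h) 0 1 = b := rfl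
@[simp] theorem mk2_10 (a b c d : F) (h : a * d - b * c = 1) : (mk2 a b c d h) 1 0 = c := rfl
@[simp] theorem mk2_11 (a b c d : F) (h : a * d - b * c = 1) : (mk2 a b c d h) 1 1 = d := rfl

theorem ext2 (g h : Matrix.SpecialLinearGroup (Fin 2) F) (h00 : g 0 0 = h 0 0)
    (h01 : g 0 1 = h 0 1) (h10 : g 1 0 = h 1 0) (h11 : g 1 1 = h 1 1) : g = h := by
  apply Subtype.ext
  ext i j
  fin_cases i <;> fin_cases j <;> assumption

theorem det2 (g : Matrix.SpecialLinearGroup (Fin 2) F) :
    g 0 0 * g 1 1 - g 0 1 * g 1 0 = 1 := by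
  have h := g.det_coe
  rw [Matrix.det_fin_two] at h
  exact h

theorem mul00 (g h : Matrix.SpecialLinearGroup (Fin 2) F) :
    (g * h) 0 0 = g 0 0 * h 0 0 + g 0 1 * h 1 0 := by
  simp [Matrix.mul_apply, Fin.sum_univ_two]

theorem mul01 (g h : Matrix.SpecialLinearGroup (Fin 2) F) :
    (g * h) 0 1 = g 0 0 * h 0 1 + g 0 1 * h 1 1 := by
  simp [Matrix.mul_apply, Fin.sum_univ_two]

theorem mul10 (g h : Matrix.SpecialLinearGroup (Fin 2) F) :
    (g * h) 1 0 = g 1 0 * h 0 0 + g 1 1 * h 1 0 := by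
  simp [Matrix.mul_apply, Fin.sum_univ_two]

theorem mul11 (g h : Matrix.SpecialLinearGroup (Fin 2) F) :
    (g * h) 1 1 = g 1 0 * h 0 1 + g 1 1 * h 1 1 := by
  simp [Matrix.mul_apply, Fin.sum_univ_two]

theorem one00 : (1 : Matrix.SpecialLinearGroup (Fin 2) F) 0 0 = 1 := by simp
theorem one01 : (1 : Matrix.SpecialLinearGroup (Fin 2) F) 0 1 = 0 := by simp
theorem one10 : (1 : Matrix.SpecialLinearGroup (Fin 2) F) 1 0 = 0 := by simp
theorem one11 : (1 : Matrix.SpecialLinearGroup (Fin 2) F) 1 1 = 1 := by simp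

theorem inv00 (g : Matrix.SpecialLinearGroup (Fin 2) F) : (g⁻¹) 0 0 = g 1 1 := by
  simp [Matrix.SpecialLinearGroup.coe_inv, Matrix.adjugate_fin_two]
theorem inv01 (g : Matrix.SpecialLinearGroup (Fin 2) F) : (g⁻¹) 0 1 = - g 0 1 := by
  simp [Matrix.SpecialLinearGroup.coe_inv, Matrix.adjugate_fin_two]
theorem inv10 (g : Matrix.SpecialLinearGroup (Fin 2) F) : (g⁻¹) 1 0 = - g 1 0 := by
  simp [Matrix.SpecialLinearGroup.coe_inv, Matrix.adjugate_fin_two]
theorem inv11 (g : Matrix.SpecialLinearGroup (Fin 2) F) : (g⁻¹) 1 1 = g 0 0 := by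
  simp [Matrix.SpecialLinearGroup.coe_inv, Matrix.adjugate_fin_two]

/-- The element `-1` of `SL₂`. -/
def negOne : Matrix.SpecialLinearGroup (Fin 2) F := mk2 (-1) 0 0 (-1) (by ring)

/-- The element `J` of `SL₂`. -/
def Jm : Matrix.SpecialLinearGroup (Fin 2) F := mk2 0 (-1) 1 0 (by ring)

theorem negOne_mul (g : Matrix.SpecialLinearGroup (Fin 2) F) : negOne * g = g * negOne := by
  apply ext2 <;> simp [mul00, mul01, mul10, mul11, negOne]

theorem negOne_sq : (negOne : Matrix.SpecialLinearGroup (Fin 2) F) * negOne = 1 := by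
  apply ext2 <;> simp [mul00, mul01, mul10, mul11, negOne]

theorem sq_eq_one (h2 : (2 : F) ≠ 0) (g : Matrix.SpecialLinearGroup (Fin 2) F)
    (hg : g * g = 1) : g = 1 ∨ g = negOne := by
  have e00 := congrArg (fun x : Matrix.SpecialLinearGroup (Fin 2) F => x 0 0) hg
  have e01 := congrArg (fun x : Matrix.SpecialLinearGroup (Fin 2) F => x 0 1) hg
  have e10 := congrArg (fun x : Matrix.SpecialLinearGroup (Fin 2) F => x 1 0) hg
  have e11 := congrArg (fun x : Matrix.SpecialLinearGroup (Fin 2) F => x 1 1) hg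
  simp only [mul00, mul01, mul10, mul11, one00, one01, one10, one11] at e00 e01 e10 e11
  have hd := det2 g
  have htr : g 0 0 + g 1 1 ≠ 0 := by
    intro h
    apply h2
    have h11 : g 1 1 = - g 0 0 := by linear_combination h
    rw [h11] at hd
    linear_combination -e00 - hd
  have h01 : g 0 1 = 0 := by
    have : g 0 1 * (g 0 0 + g 1 1) = 0 := by linear_combination e01
    rcases mul_eq_zero.1 this with h | h
    · exact h
    · exact absurd h htr
  have h10 : g 1 0 = 0 := by
    have : g 1 0 * (g 0 0 + g 1 1) = 0 := by linear_combination e10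
    rcases mul_eq_zero.1 this with h | h
    · exact h
    · exact absurd h htr
  rw [h01, h10] at hd e00
  have hsq : (g 0 0 - 1) * (g 0 0 + 1) = 0 := by linear_combination e00
  have h1100 : g 1 1 = g 0 0 := by
    have : g 0 0 * (g 1 1 - g 0 0) = 0 := by linear_combination hd - e00
    rcases mul_eq_zero.1 this with h | h
    · rw [h] at e00; simp at e00
    · linear_combination h
  rcases mul_eq_zero.1 hsq with h | h
  · left
    apply ext2
    · rw [one00]; linear_combination h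
    · rw [one01]; exact h01
    · rw [one10]; exact h10
    · rw [one11, h1100]; linear_combination h
  · right
    apply ext2 <;> simp only [negOne, mk2_00, mk2_01, mk2_10, mk2_11]
    · linear_combination h
    · exact h01
    · exact h10
    · rw [h1100]; linear_combination h

theorem tr_zero_of_sq (g : Matrix.SpecialLinearGroup (Fin 2) F)
    (hg : g * g = negOne) : g 1 1 = - g 0 0 := by
  have e00 := congrArg (fun x : Matrix.SpecialLinearGroup (Fin 2) F => x 0 0) hg
  have e01 := congrArg (fun x : Matrix.SpecialLinearGroup (Fin 2) F => x 0 1) hg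
  have e10 := congrArg (fun x : Matrix.SpecialLinearGroup (Fin 2) F => x 1 0) hg
  have e11 := congrArg (fun x : Matrix.SpecialLinearGroup (Fin 2) F => x 1 1) hg
  simp only [mul00, mul01, mul10, mul11, negOne, mk2_00, mk2_01, mk2_10, mk2_11] at e00 e01 e10 e11
  have hd := det2 g
  by_contra htr
  have htr' : g 0 0 + g 1 1 ≠ 0 := fun h => htr (by linear_combination h)
  have h01 : g 0 1 = 0 := by
    have : g 0 1 * (g 0 0 + g 1 1) = 0 := by linear_combination e01
    rcases mul_eq_zero.1 this with h | h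
    · exact h
    · exact absurd h htr'
  rw [h01] at hd e00 e11
  have : (g 0 0 + g 1 1) ^ 2 = 0 := by linear_combination e00 + e11 + 2 * hd
  exact htr' (pow_eq_zero_iff two_ne_zero |>.1 this)

theorem sq_of_tr_zero (g : Matrix.SpecialLinearGroup (Fin 2) F)
    (hg : g 1 1 = - g 0 0) : g * g = negOne := by
  have hd := det2 g
  rw [hg] at hd
  apply ext2 <;> simp only [mul00, mul01, mul10, mul11, negOne, mk2_00, mk2_01, mk2_10, mk2_11, hg]
  · linear_combination -hd
  · ring
  · ring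
  · linear_combination -hd

end Basic

section Conj

variable {F : Type*} [Field F] [Fintype F]

theorem exists_sq_sum (h2 : (2 : F) ≠ 0) (a₀ a₁ c : F)
    (h₀ : a₀ ≠ 0) (h₁ : a₁ ≠ 0) : ∃ s t : F, a₀ * s ^ 2 + a₁ * t ^ 2 = c := by
  have hchar : ringChar F ≠ 2 := by
    intro h
    apply h2
    have := CharP.cast_eq_zero F (ringChar F)
    rw [h] at this
    exact_mod_cast this
  have hodd := FiniteField.odd_card_of_char_ne_two hchar
  have hf : (C a₀ * X ^ 2 : F[X]).degree = 2 := by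
    rw [degree_C_mul h₀, degree_X_pow]; rfl
  have hg : (C a₁ * X ^ 2 - C c : F[X]).degree = 2 := by
    rw [degree_sub_eq_left_of_degree_lt]
    · rw [degree_C_mul h₁, degree_X_pow]; rfl
    · rw [degree_C_mul h₁, degree_X_pow]
      exact lt_of_le_of_lt degree_C_le (by norm_num)
  obtain ⟨s, t, hst⟩ := FiniteField.exists_root_sum_quadratic hf hg hodd
  refine ⟨s, t, ?_⟩
  simp only [eval_mul, eval_C, eval_pow, eval_X, eval_sub] at hst
  linear_combination hst

theorem exists_conj_J (h2 : (2 : F) ≠ 0) (g : Matrix.SpecialLinearGroup (Fin 2) F)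
    (hg : g 1 1 = - g 0 0) : ∃ P : Matrix.SpecialLinearGroup (Fin 2) F, g * P = P * Jm := by
  have hd := det2 g
  rw [hg] at hd
  obtain ⟨x, y, hxy⟩ : ∃ x y : F, g 1 0 * x ^ 2 - 2 * g 0 0 * x * y - g 0 1 * y ^ 2 = 1 := by
    by_cases hc : g 1 0 = 0
    · have ha : g 0 0 ≠ 0 := by
        intro h; rw [hc, h] at hd; simp at hd
      have hai : 2 * g 0 0 * (2 * g 0 0)⁻¹ = 1 := mul_inv_cancel₀ (mul_ne_zero h2 ha)
      refine ⟨-(1 + g 0 1) * (2 * g 0 0)⁻¹, 1, ?_⟩
      rw [hc]
      linear_combination (1 + g 0 1) * hai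
    · obtain ⟨X', Y', hXY⟩ := exists_sq_sum h2 (g 1 0) (g 1 0)⁻¹ 1 hc (inv_ne_zero hc)
      have hci : g 1 0 * (g 1 0)⁻¹ = 1 := mul_inv_cancel₀ hc
      refine ⟨X' + g 0 0 * (g 1 0)⁻¹ * Y', Y', ?_⟩
      linear_combination hXY + (g 1 0)⁻¹ * Y' ^ 2 * hd
        + (2 * g 0 0 * X' * Y' + (g 0 0) ^ 2 * (g 1 0)⁻¹ * Y' ^ 2 + g 0 1 * Y' ^ 2) * hci
  refine ⟨mk2 x (g 0 0 * x + g 0 1 * y) y (g 1 0 * x - g 0 0 * y)
    (by linear_combination hxy), ?_⟩
  apply ext2 <;>
    simp only [mul00, mul01, mul10, mul11, Jm, mk2_00, mk2_01, mk2_10, mk2_11, hg]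
  · ring
  · linear_combination -x * hd
  · ring
  · linear_combination -y * hd

theorem conj_of_tr_zero (h2 : (2 : F) ≠ 0) (g h : Matrix.SpecialLinearGroup (Fin 2) F)
    (hg : g 1 1 = - g 0 0) (hh : h 1 1 = - h 0 0) :
    ∃ P : Matrix.SpecialLinearGroup (Fin 2) F, h = P * g * P⁻¹ := by
  obtain ⟨P₁, h1⟩ := exists_conj_J h2 g hg
  obtain ⟨P₂, h2'⟩ := exists_conj_J h2 h hh
  have e1 : g = P₁ * Jm * P₁⁻¹ := eq_mul_inv_of_mul_eq h1
  have e2 : h = P₂ * Jm * P₂⁻¹ := eq_mul_inv_of_mul_eq h2'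
  refine ⟨P₂ * P₁⁻¹, ?_⟩
  rw [e1, e2]
  group

theorem exists_gen (h2 : (2 : F) ≠ 0) (A : Subgroup (Matrix.SpecialLinearGroup (Fin 2) F))
    (hA : Nat.card A = 4) :
    ∃ g : Matrix.SpecialLinearGroup (Fin 2) F, g 1 1 = - g 0 0 ∧ A = Subgroup.zpowers g := by
  have hfin : Finite A := Nat.finite_of_card_ne_zero (by omega)
  obtain ⟨g, hgA, hg1⟩ : ∃ g ∈ A, g * g ≠ 1 := by
    by_contra hcon
    push Not at hcon
    have hsub : (A : Set (Matrix.SpecialLinearGroup (Fin 2) F)) ⊆ {1, negOne} := fun g hg => by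
      rcases sq_eq_one h2 g (hcon g hg) with h | h <;> simp [h]
    have h1 : Nat.card A ≤ 2 := by
      have h3 := Set.ncard_le_ncard hsub (Set.toFinite _)
      have h4 : ({1, negOne} : Set (Matrix.SpecialLinearGroup (Fin 2) F)).ncard ≤ 2 :=
        (Set.ncard_insert_le _ _).trans (by rw [Set.ncard_singleton])
      have h5 : Nat.card A = (A : Set (Matrix.SpecialLinearGroup (Fin 2) F)).ncard := rfl
      omega
    omega
  have hg4 : g ^ 4 = 1 := by
    have h := pow_card_eq_one' (G := A) (x := ⟨g, hgA⟩)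
    rw [hA] at h
    have h' := congrArg Subtype.val h
    simpa using h'
  have hgg : g * g = negOne := by
    have h : (g * g) * (g * g) = 1 := by rw [← hg4]; simp [pow_succ, mul_assoc]
    rcases sq_eq_one h2 _ h with h | h
    · exact absurd h hg1
    · exact h
  refine ⟨g, tr_zero_of_sq g hgg, ?_⟩
  have hord : orderOf g = 4 := by
    have h := orderOf_eq_prime_pow (x := g) (p := 2) (n := 1)
      (by rw [pow_one, pow_two]; exact hg1) (by norm_num; exact hg4)
    simpa using h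
  symm
  apply Subgroup.eq_of_le_of_card_ge (Subgroup.zpowers_le.2 hgA)
  rw [Nat.card_zpowers, hord, hA]

theorem conj_subgroups (h2 : (2 : F) ≠ 0)
    (A B : Subgroup (Matrix.SpecialLinearGroup (Fin 2) F))
    (hA : Nat.card A = 4) (hB : Nat.card B = 4) :
    ∃ P : Matrix.SpecialLinearGroup (Fin 2) F, B = A.map (MulAut.conj P).toMonoidHom := by
  obtain ⟨g, hg, rfl⟩ := exists_gen h2 A hA
  obtain ⟨h, hh, rfl⟩ := exists_gen h2 B hB
  obtain ⟨P, hP⟩ := conj_of_tr_zero h2 g h hg hh
  refine ⟨P, ?_⟩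
  rw [MonoidHom.map_zpowers]
  simp [MulAut.conj_apply, hP]

end Conj

section Count

variable {F : Type*} [Field F] [Fintype F]

/-- number of solutions of `x² + y² = c` -/
noncomputable def cnt (c : F) : ℕ := Nat.card {p : F × F // p.1 ^ 2 + p.2 ^ 2 = c}

omit [Fintype F] in
theorem cnt_scale (s t c : F) (hc : c ≠ 0) (hst : s ^ 2 + t ^ 2 = c) : cnt c = cnt (1 : F) := by
  have hcc : c * c⁻¹ = 1 := mul_inv_cancel₀ hc
  apply Nat.card_congr
  refine
    { toFun := fun p => ⟨((p.1.1 * s + p.1.2 * t) * c⁻¹, (p.1.2 * s - p.1.1 * t) * c⁻¹), ?_⟩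
      invFun := fun p => ⟨(p.1.1 * s - p.1.2 * t, p.1.1 * t + p.1.2 * s), ?_⟩
      left_inv := ?_
      right_inv := ?_ }
  · have hp := p.2
    show ((p.1.1 * s + p.1.2 * t) * c⁻¹) ^ 2 + ((p.1.2 * s - p.1.1 * t) * c⁻¹) ^ 2 = 1
    linear_combination (c⁻¹) ^ 2 * (s ^ 2 + t ^ 2) * hp + (c⁻¹) ^ 2 * c * hst
      + (c * c⁻¹ + 1) * hcc
  · have hp := p.2
    show (p.1.1 * s - p.1.2 * t) ^ 2 + (p.1.1 * t + p.1.2 * s) ^ 2 = c
    linear_combination (s ^ 2 + t ^ 2) * hp + hst
  · rintro ⟨⟨a, b⟩, hp⟩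
    apply Subtype.ext
    apply Prod.ext
    · show ((a * s + b * t) * c⁻¹) * s - ((b * s - a * t) * c⁻¹) * t = a
      linear_combination a * c⁻¹ * hst + a * hcc
    · show ((a * s + b * t) * c⁻¹) * t + ((b * s - a * t) * c⁻¹) * s = b
      linear_combination b * c⁻¹ * hst + b * hcc
  · rintro ⟨⟨a, b⟩, hp⟩
    apply Subtype.ext
    apply Prod.ext
    · show ((a * s - b * t) * s + (a * t + b * s) * t) * c⁻¹ = a
      linear_combination a * c⁻¹ * hst + a * hcc
    · show ((a * t + b * s) * s - (a * s - b * t) * t) * c⁻¹ = b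
      linear_combination b * c⁻¹ * hst + b * hcc

theorem cnt_eq_one (h2 : (2 : F) ≠ 0) (c : F) (hc : c ≠ 0) : cnt c = cnt (1 : F) := by
  obtain ⟨s, t, hst⟩ := exists_sq_sum h2 1 1 c one_ne_zero one_ne_zero
  exact cnt_scale s t c hc (by linear_combination hst)

theorem sum_cnt : ∑ c : F, cnt c = Fintype.card F ^ 2 := by
  classical
  have h1 : ∀ c : F, cnt c
      = ((Finset.univ : Finset (F × F)).filter (fun p => p.1 ^ 2 + p.2 ^ 2 = c)).card := by
    intro c
    rw [cnt, Nat.card_eq_fintype_card, Fintype.card_subtype]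
  simp_rw [h1]
  rw [← Finset.card_eq_sum_card_fiberwise (f := fun p : F × F => p.1 ^ 2 + p.2 ^ 2)
    (s := Finset.univ) (t := Finset.univ) (fun _ _ => Finset.mem_univ _)]
  rw [Finset.card_univ, Fintype.card_prod, pow_two]

omit [Fintype F] in
theorem cnt_zero_nonsq (hns : ¬ IsSquare (-1 : F)) : cnt (0 : F) = 1 := by
  rw [cnt, Nat.card_eq_one_iff_unique]
  refine ⟨⟨?_⟩, ⟨⟨(0, 0), by simp⟩⟩⟩
  rintro ⟨⟨a, b⟩, hp⟩ ⟨⟨a', b'⟩, hp'⟩
  have key : ∀ a b : F, a ^ 2 + b ^ 2 = 0 → a = 0 ∧ b = 0 := by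
    intro a b hab
    have hb : b = 0 := by
      by_contra hb
      apply hns
      refine ⟨a * b⁻¹, ?_⟩
      have hbb : b * b⁻¹ = 1 := mul_inv_cancel₀ hb
      linear_combination (-(b⁻¹) ^ 2) * hab + (b * b⁻¹ + 1) * hbb
    refine ⟨?_, hb⟩
    rw [hb] at hab
    simpa using hab
  obtain ⟨rfl, rfl⟩ := key a b hp
  obtain ⟨rfl, rfl⟩ := key a' b' hp'
  rfl

theorem cnt_one_nonsq (h2 : (2 : F) ≠ 0) (hns : ¬ IsSquare (-1 : F)) :
    cnt (1 : F) = Fintype.card F + 1 := by
  classical
  have hsum := sum_cnt (F := F)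
  rw [← Finset.add_sum_erase Finset.univ _ (Finset.mem_univ (0 : F)), cnt_zero_nonsq hns] at hsum
  have hrest : ∑ c ∈ (Finset.univ : Finset F).erase 0, cnt c
      = (Fintype.card F - 1) * cnt (1 : F) := by
    rw [Finset.sum_congr rfl (fun c hc => cnt_eq_one h2 c (Finset.ne_of_mem_erase hc)),
      Finset.sum_const, Finset.card_erase_of_mem (Finset.mem_univ _), Finset.card_univ,
      smul_eq_mul]
  rw [hrest] at hsum
  have hq : 1 < Fintype.card F := Fintype.one_lt_card
  obtain ⟨m, hm⟩ : ∃ m, Fintype.card F = m + 2 := ⟨Fintype.card F - 2, by omega⟩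
  rw [hm] at hsum ⊢
  have h3 : (m + 1) * cnt (1 : F) = (m + 1) * (m + 3) := by
    have : m + 2 - 1 = m + 1 := by omega
    rw [this] at hsum
    nlinarith
  have := Nat.eq_of_mul_eq_mul_left (by omega) h3
  omega

theorem cnt_one_sq (h2 : (2 : F) ≠ 0) (i : F) (hi : i ^ 2 = -1) :
    cnt (1 : F) = Fintype.card F - 1 := by
  classical
  have hh : 2 * (2 : F)⁻¹ = 1 := mul_inv_cancel₀ h2
  rw [← Fintype.card_units, ← Nat.card_eq_fintype_card, cnt]
  apply Nat.card_congr
  refine
    { toFun := fun p => Units.mk0 (p.1.1 + i * p.1.2) ?_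
      invFun := fun u => ⟨(((u : F) + (u : F)⁻¹) * 2⁻¹, -i * ((u : F) - (u : F)⁻¹) * 2⁻¹), ?_⟩
      left_inv := ?_
      right_inv := ?_ }
  · have hp := p.2
    intro h0
    have : (p.1.1 + i * p.1.2) * (p.1.1 - i * p.1.2) = 1 := by
      linear_combination hp - (p.1.2) ^ 2 * hi
    rw [h0, zero_mul] at this
    exact zero_ne_one this
  · have huw : (u : F) * (u : F)⁻¹ = 1 := mul_inv_cancel₀ u.ne_zero
    show (((u : F) + (u : F)⁻¹) * 2⁻¹) ^ 2 + (-i * ((u : F) - (u : F)⁻¹) * 2⁻¹) ^ 2 = 1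
    linear_combination ((2 : F)⁻¹ ^ 2 * ((u : F) - (u : F)⁻¹) ^ 2) * hi
      + 4 * (2 : F)⁻¹ ^ 2 * huw + (2 * (2 : F)⁻¹ + 1) * hh
  · rintro ⟨⟨a, b⟩, hp⟩
    have hinv : (a + i * b)⁻¹ = a - i * b := by
      apply inv_eq_of_mul_eq_one_right
      linear_combination hp - b ^ 2 * hi
    apply Subtype.ext
    apply Prod.ext
    · show ((a + i * b) + (a + i * b)⁻¹) * 2⁻¹ = a
      rw [hinv]
      linear_combination a * hh
    · show -i * ((a + i * b) - (a + i * b)⁻¹) * 2⁻¹ = b
      rw [hinv]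
      linear_combination (-2 * b * (2 : F)⁻¹) * hi + b * hh
  · intro u
    apply Units.ext
    show ((u : F) + (u : F)⁻¹) * 2⁻¹ + i * (-i * ((u : F) - (u : F)⁻¹) * 2⁻¹) = (u : F)
    linear_combination (u : F) * hh - (((u : F) - (u : F)⁻¹) * (2 : F)⁻¹) * hi

end Count

section Normalizer

variable {F : Type*} [Field F] [Fintype F]

omit [Fintype F] in
theorem mem_zpowers_of_tr_zero (g : Matrix.SpecialLinearGroup (Fin 2) F)
    (hg : g * g = negOne) (x : Matrix.SpecialLinearGroup (Fin 2) F)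
    (hx : x ∈ Subgroup.zpowers g) : x = 1 ∨ x = g ∨ x = negOne ∨ x = g * negOne := by
  obtain ⟨k, rfl⟩ := Subgroup.mem_zpowers_iff.1 hx
  have hg4 : g ^ (4 : ℤ) = 1 := by
    have : g ^ (4 : ℕ) = 1 := by
      rw [show (4 : ℕ) = 2 + 2 from rfl, pow_add, pow_two, hg, negOne_sq]
    exact_mod_cast this
  rw [zpow_eq_zpow_emod k hg4]
  have h0 : 0 ≤ k % 4 := Int.emod_nonneg k (by norm_num)
  have h4 : k % 4 < 4 := Int.emod_lt_of_pos k (by norm_num)
  obtain ⟨n, hn⟩ := Int.eq_ofNat_of_zero_le h0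
  rw [hn] at h4 ⊢
  have hn4 : n < 4 := by exact_mod_cast h4
  rw [zpow_natCast]
  interval_cases n
  · left; simp
  · right; left; simp
  · right; right; left; rw [pow_two, hg]
  · right; right; right; rw [pow_succ, pow_two, hg, negOne_mul]

omit [Fintype F] in
theorem Jm_sq : (Jm : Matrix.SpecialLinearGroup (Fin 2) F) * Jm = negOne :=
  sq_of_tr_zero Jm (by simp [Jm])

omit [Fintype F] in
theorem Jm_inv : (Jm : Matrix.SpecialLinearGroup (Fin 2) F)⁻¹ = Jm * negOne := by
  apply inv_eq_of_mul_eq_one_right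
  rw [← mul_assoc, Jm_sq, negOne_sq]

omit [Fintype F] in
theorem mem_normalizer_J (x : Matrix.SpecialLinearGroup (Fin 2) F) :
    x ∈ Subgroup.normalizer
      ((Subgroup.zpowers (Jm : Matrix.SpecialLinearGroup (Fin 2) F) :
        Subgroup (Matrix.SpecialLinearGroup (Fin 2) F)) :
        Set (Matrix.SpecialLinearGroup (Fin 2) F)) ↔
      (x * Jm = Jm * x ∨ x * Jm = Jm⁻¹ * x) := by
  rw [Subgroup.mem_normalizer_iff_map_conj_eq]
  have hmap : (Subgroup.zpowers (Jm : Matrix.SpecialLinearGroup (Fin 2) F)).map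
      (MulAut.conj x : Matrix.SpecialLinearGroup (Fin 2) F →* _)
      = Subgroup.zpowers (x * Jm * x⁻¹) := by
    rw [MonoidHom.map_zpowers]
    rfl
  rw [hmap]
  constructor
  · intro h
    have hmem : x * Jm * x⁻¹ ∈ Subgroup.zpowers (Jm : Matrix.SpecialLinearGroup (Fin 2) F) := by
      rw [← h]; exact Subgroup.mem_zpowers _
    have hmul : ∀ y : Matrix.SpecialLinearGroup (Fin 2) F, x * Jm * x⁻¹ = y → x * Jm = y * x := by
      intro y hy
      rw [← hy]; simp
    rcases mem_zpowers_of_tr_zero Jm Jm_sq _ hmem with h1 | h1 | h1 | h1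
    · exfalso
      have h3 : x * Jm = x * 1 := by rw [hmul 1 h1, one_mul, mul_one]
      have h4 : (Jm : Matrix.SpecialLinearGroup (Fin 2) F) = 1 := mul_left_cancel h3
      have h00 := congrArg (fun y : Matrix.SpecialLinearGroup (Fin 2) F => y 0 0) h4
      simp [Jm] at h00
    · left
      exact hmul _ h1
    · exfalso
      have h3 : x * Jm = x * negOne := by rw [hmul _ h1, negOne_mul]
      have h4 : (Jm : Matrix.SpecialLinearGroup (Fin 2) F) = negOne := mul_left_cancel h3
      have h01 := congrArg (fun y : Matrix.SpecialLinearGroup (Fin 2) F => y 0 1) h4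
      simp [Jm, negOne] at h01
    · right
      rw [Jm_inv]
      exact hmul _ h1
  · rintro (h | h)
    · have : x * Jm * x⁻¹ = Jm := by rw [h]; group
      rw [this]
    · have : x * Jm * x⁻¹ = Jm⁻¹ := by rw [h]; group
      rw [this, Subgroup.zpowers_inv]

omit [Fintype F] in
theorem Jm_ne_inv (h2 : (2 : F) ≠ 0) :
    (Jm : Matrix.SpecialLinearGroup (Fin 2) F) ≠ Jm⁻¹ := by
  intro h
  have h01 := congrArg (fun y : Matrix.SpecialLinearGroup (Fin 2) F => y 0 1) h
  simp only [inv01, Jm, mk2_01] at h01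
  apply h2
  linear_combination -h01

/-- centraliser of `J` -/
noncomputable def equivC :
    {x : Matrix.SpecialLinearGroup (Fin 2) F // x * Jm = Jm * x} ≃
      {p : F × F // p.1 ^ 2 + p.2 ^ 2 = 1} where
  toFun x := ⟨(x.1 0 0, x.1 0 1), by
    have h00 := congrArg (fun y : Matrix.SpecialLinearGroup (Fin 2) F => y 0 0) x.2
    have h01 := congrArg (fun y : Matrix.SpecialLinearGroup (Fin 2) F => y 0 1) x.2
    simp only [mul00, mul01, Jm, mk2_00, mk2_01, mk2_10, mk2_11] at h00 h01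
    have hd := det2 x.1
    show (x.1 0 0) ^ 2 + (x.1 0 1) ^ 2 = 1
    linear_combination hd - (x.1 0 0) * h01 + (x.1 0 1) * h00⟩
  invFun p := ⟨mk2 p.1.1 p.1.2 (-p.1.2) p.1.1 (by linear_combination p.2), by
    apply ext2 <;> simp [mul00, mul01, mul10, mul11, Jm]⟩
  left_inv x := by
    have h00 := congrArg (fun y : Matrix.SpecialLinearGroup (Fin 2) F => y 0 0) x.2
    have h01 := congrArg (fun y : Matrix.SpecialLinearGroup (Fin 2) F => y 0 1) x.2
    simp only [mul00, mul01, Jm, mk2_00, mk2_01, mk2_10, mk2_11] at h00 h01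
    apply Subtype.ext
    apply ext2 <;> simp only [mk2_00, mk2_01, mk2_10, mk2_11]
    · linear_combination -h00
    · linear_combination -h01
  right_inv p := by
    apply Subtype.ext
    rfl

/-- elements inverting `J` -/
noncomputable def equivA :
    {x : Matrix.SpecialLinearGroup (Fin 2) F // x * Jm = Jm⁻¹ * x} ≃
      {p : F × F // p.1 ^ 2 + p.2 ^ 2 = -1} where
  toFun x := ⟨(x.1 0 0, x.1 0 1), by
    have h00 := congrArg (fun y : Matrix.SpecialLinearGroup (Fin 2) F => y 0 0) x.2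
    have h01 := congrArg (fun y : Matrix.SpecialLinearGroup (Fin 2) F => y 0 1) x.2
    simp only [mul00, mul01, inv00, inv01, Jm, mk2_00, mk2_01, mk2_10, mk2_11] at h00 h01
    have hd := det2 x.1
    show (x.1 0 0) ^ 2 + (x.1 0 1) ^ 2 = -1
    linear_combination -hd - (x.1 0 0) * h01 + (x.1 0 1) * h00⟩
  invFun p := ⟨mk2 p.1.1 p.1.2 p.1.2 (-p.1.1) (by linear_combination -p.2), by
    apply ext2 <;> simp [mul00, mul01, mul10, mul11, inv00, inv01, inv10, inv11, Jm]⟩
  left_inv x := by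
    have h00 := congrArg (fun y : Matrix.SpecialLinearGroup (Fin 2) F => y 0 0) x.2
    have h01 := congrArg (fun y : Matrix.SpecialLinearGroup (Fin 2) F => y 0 1) x.2
    simp only [mul00, mul01, inv00, inv01, Jm, mk2_00, mk2_01, mk2_10, mk2_11] at h00 h01
    apply Subtype.ext
    apply ext2 <;> simp only [mk2_00, mk2_01, mk2_10, mk2_11]
    · linear_combination h00
    · linear_combination h01
  right_inv p := by
    apply Subtype.ext
    rfl

theorem card_normalizer_J (h2 : (2 : F) ≠ 0) :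
    Nat.card ↥(Subgroup.normalizer
      ((Subgroup.zpowers (Jm : Matrix.SpecialLinearGroup (Fin 2) F) :
        Subgroup (Matrix.SpecialLinearGroup (Fin 2) F)) :
        Set (Matrix.SpecialLinearGroup (Fin 2) F))) = 2 * cnt (1 : F) := by
  classical
  have e1 : ↥(Subgroup.normalizer
      ((Subgroup.zpowers (Jm : Matrix.SpecialLinearGroup (Fin 2) F) :
        Subgroup (Matrix.SpecialLinearGroup (Fin 2) F)) :
        Set (Matrix.SpecialLinearGroup (Fin 2) F))) ≃
      {x : Matrix.SpecialLinearGroup (Fin 2) F // x * Jm = Jm * x ∨ x * Jm = Jm⁻¹ * x} :=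
    Equiv.subtypeEquivRight mem_normalizer_J
  have hdisj : Disjoint (fun x : Matrix.SpecialLinearGroup (Fin 2) F => x * Jm = Jm * x)
      (fun x => x * Jm = Jm⁻¹ * x) := by
    rw [disjoint_iff_inf_le]
    rintro x ⟨h1, h2'⟩
    exact Jm_ne_inv h2 (mul_right_cancel (h1.symm.trans h2'))
  rw [Nat.card_congr e1, Nat.card_congr (subtypeOrEquiv _ _ hdisj), Nat.card_sum,
    Nat.card_congr equivC, Nat.card_congr equivA]
  have hc1 : Nat.card {p : F × F // p.1 ^ 2 + p.2 ^ 2 = 1} = cnt (1 : F) := rfl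
  have hc2 : Nat.card {p : F × F // p.1 ^ 2 + p.2 ^ 2 = -1} = cnt (-1 : F) := rfl
  rw [hc1, hc2, cnt_eq_one h2 (-1) (by simp)]
  ring

theorem card_normalizer (h2 : (2 : F) ≠ 0)
    (A : Subgroup (Matrix.SpecialLinearGroup (Fin 2) F)) (hA : Nat.card A = 4) :
    Nat.card ↥(Subgroup.normalizer (A : Set (Matrix.SpecialLinearGroup (Fin 2) F)))
      = 2 * cnt (1 : F) := by
  obtain ⟨g, hg, rfl⟩ := exists_gen h2 A hA
  obtain ⟨P, hP⟩ := exists_conj_J h2 g hg
  have e1 : g = P * Jm * P⁻¹ := eq_mul_inv_of_mul_eq hP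
  have hz : Subgroup.zpowers g = (Subgroup.zpowers
      (Jm : Matrix.SpecialLinearGroup (Fin 2) F)).map (MulAut.conj P).toMonoidHom := by
    rw [MonoidHom.map_zpowers, e1]
    rfl
  rw [hz, ← Subgroup.map_equiv_normalizer_eq,
    Subgroup.card_map_of_injective (MulAut.conj P).injective]
  exact card_normalizer_J h2

end Normalizer

/-- In SL_2(q), q odd: any two subgroups of order 4 are conjugate, and the normaliser of a subgroup of order 4 has order 2(q − 1) if q ≡ 1 (mod 4) and 2(q + 1) if q ≡ 3 (mod 4); consequently all involutions of PSL_2(q) are conjugate. -/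
theorem result {F : Type*} [Field F] [Fintype F] {q : ℕ} (hF : Fintype.card F = q) (hodd : Odd q) (A : Subgroup (Matrix.SpecialLinearGroup (Fin 2) F)) (hA : Nat.card A = 4) : (∀ B : Subgroup (Matrix.SpecialLinearGroup (Fin 2) F), Nat.card B = 4 → ∃ g : Matrix.SpecialLinearGroup (Fin 2) F, B = A.map (MulAut.conj g).toMonoidHom) ∧ (q % 4 = 1 → Nat.card ↥(Subgroup.normalizer (A : Set (Matrix.SpecialLinearGroup (Fin 2) F))) = 2 * (q - 1)) ∧ (q % 4 = 3 → Nat.card ↥(Subgroup.normalizer (A : Set (Matrix.SpecialLinearGroup (Fin 2) F))) = 2 * (q + 1)) ∧ (∀ x y : Matrix.ProjectiveSpecialLinearGroup (Fin 2) F, orderOf x = 2 → orderOf y = 2 → IsConj x y) := by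
  subst hF
  have h2 : (2 : F) ≠ 0 := by
    intro h
    have hchar : ringChar F = 2 :=
      CharP.ringChar_of_prime_eq_zero Nat.prime_two (by exact_mod_cast h)
    have := FiniteField.even_card_iff_char_two.1 hchar
    obtain ⟨m, hm⟩ := hodd
    omega
  refine ⟨fun B hB => conj_subgroups h2 A B hA hB, ?_, ?_, ?_⟩
  · intro hq
    have hsq : IsSquare (-1 : F) := FiniteField.isSquare_neg_one_iff.2 (by omega)
    obtain ⟨i, hi⟩ := hsq
    rw [card_normalizer h2 A hA, cnt_one_sq h2 i (by rw [pow_two, ← hi])]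
  · intro hq
    have hns : ¬ IsSquare (-1 : F) := fun h => FiniteField.isSquare_neg_one_iff.1 h hq
    rw [card_normalizer h2 A hA, cnt_one_nonsq h2 hns]
  · have key : ∀ x : Matrix.ProjectiveSpecialLinearGroup (Fin 2) F, orderOf x = 2 →
        ∃ s : Matrix.SpecialLinearGroup (Fin 2) F, s 1 1 = - s 0 0 ∧ QuotientGroup.mk s = x := by
      intro x hx
      obtain ⟨s, rfl⟩ := QuotientGroup.mk_surjective x
      refine ⟨s, ?_, rfl⟩
      have hx2 : (QuotientGroup.mk s : Matrix.ProjectiveSpecialLinearGroup (Fin 2) F) ^ 2 = 1 := by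
        have h := pow_orderOf_eq_one
          (QuotientGroup.mk s : Matrix.ProjectiveSpecialLinearGroup (Fin 2) F)
        rw [hx] at h
        exact h
      have hs2 : s ^ 2 ∈ Subgroup.center (Matrix.SpecialLinearGroup (Fin 2) F) := by
        rwa [← QuotientGroup.mk_pow, QuotientGroup.eq_one_iff] at hx2
      obtain ⟨r, hr, hrs⟩ := Matrix.SpecialLinearGroup.mem_center_iff.1 hs2
      have hr2 : (r - 1) * (r + 1) = 0 := by
        have : r ^ 2 = 1 := by simpa using hr
        linear_combination this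
      have hss : s * s = 1 ∨ s * s = negOne := by
        rcases mul_eq_zero.1 hr2 with h | h
        · left
          have hr1 : r = 1 := by linear_combination h
          rw [hr1] at hrs
          apply Subtype.ext
          rw [← pow_two, ← hrs]
          simp
        · right
          have hr1 : r = -1 := by linear_combination h
          rw [hr1] at hrs
          have h00 := congrFun (congrFun hrs 0) 0
          have h01 := congrFun (congrFun hrs 0) 1
          have h10 := congrFun (congrFun hrs 1) 0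
          have h11 := congrFun (congrFun hrs 1) 1
          rw [pow_two] at h00 h01 h10 h11
          apply ext2 <;> simp only [negOne, mk2_00, mk2_01, mk2_10, mk2_11]
          · rw [← h00]; simp
          · rw [← h01]; simp
          · rw [← h10]; simp
          · rw [← h11]; simp
      rcases hss with h | h
      · exfalso
        have hmk : (QuotientGroup.mk s : Matrix.ProjectiveSpecialLinearGroup (Fin 2) F) = 1 := by
          rcases sq_eq_one h2 s h with h' | h'
          · rw [h']; rfl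
          · rw [QuotientGroup.eq_one_iff, h', Subgroup.mem_center_iff]
            intro g
            exact (negOne_mul g).symm
        rw [hmk, orderOf_one] at hx
        omega
      · exact tr_zero_of_sq s h
    intro x y hx hy
    obtain ⟨s, hs, rfl⟩ := key x hx
    obtain ⟨t, ht, rfl⟩ := key y hy
    obtain ⟨P, hP⟩ := conj_of_tr_zero h2 s t hs ht
    have hc : IsConj s t := isConj_iff.2 ⟨P, hP.symm⟩
    exact MonoidHom.map_isConj
      (QuotientGroup.mk' (Subgroup.center (Matrix.SpecialLinearGroup (Fin 2) F))) hc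

end Cfsg.Agent.S0809
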