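import Cfsg.Statements.S0206
import Cfsg.Agent.Lib.Helper6.Dih

set_option autoImplicit false
open Cfsg

namespace Cfsg.Agent.S0206

open Cfsg.Agent.Lib.Helper6

section aux

variable {G : Type*} [Group G]

theorem pow_val_add (ρ : G) [NeZero (orderOf ρ)] (i j : ZMod (orderOf ρ)) :
    ρ ^ ((i + j).val : ℤ) = ρ ^ (i.val : ℤ) * ρ ^ (j.val : ℤ) := by
  rw [zpow_natCast, zpow_natCast, zpow_natCast, ZMod.val_add, pow_mod_orderOf, pow_add]

theorem pow_val_sub (ρ : G) [NeZero (orderOf ρ)] (i j : ZMod (orderOf ρ)) :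
    ρ ^ ((j - i).val : ℤ) = ρ ^ (-(i.val : ℤ) + (j.val : ℤ)) := by
  have h := pow_val_add ρ (j - i) i
  rw [sub_add_cancel] at h
  rw [zpow_add, zpow_neg, h]
  have hc : Commute (ρ ^ ((j - i).val : ℤ)) (ρ ^ (i.val : ℤ)) :=
    ((Commute.refl ρ).zpow_left _).zpow_right _
  rw [hc.eq, inv_mul_cancel_left]

/-- The underlying map of the isomorphism. -/
noncomputable def toFun (x y : G) : DihedralGroup (orderOf (x * y)) → G
  | DihedralGroup.r i => (x * y) ^ (i.val : ℤ)
  | DihedralGroup.sr i => x * (x * y) ^ (i.val : ℤ)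

theorem toFun_mul {x y : G} [NeZero (orderOf (x * y))] (hx : orderOf x = 2) (hy : orderOf y = 2)
    (a b : DihedralGroup (orderOf (x * y))) :
    toFun x y (a * b) = toFun x y a * toFun x y b := by
  rcases a with i | i <;> rcases b with j | j
  · rw [DihedralGroup.r_mul_r]
    simp only [toFun]
    exact pow_val_add _ i j
  · rw [DihedralGroup.r_mul_sr]
    simp only [toFun]
    rw [pow_val_sub, ← mul_assoc, rot_mul_refl hx hy, mul_assoc, ← zpow_add]
  · rw [DihedralGroup.sr_mul_r]
    simp only [toFun]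
    rw [pow_val_add, mul_assoc]
  · rw [DihedralGroup.sr_mul_sr]
    simp only [toFun]
    rw [pow_val_sub, refl_mul_refl hx hy]

/-- The homomorphism from the dihedral group. -/
noncomputable def hom {x y : G} [NeZero (orderOf (x * y))] (hx : orderOf x = 2) (hy : orderOf y = 2) :
    DihedralGroup (orderOf (x * y)) →* G :=
  MonoidHom.mk' (toFun x y) (toFun_mul hx hy)

theorem val_eq_of_zpow_eq (ρ : G) [NeZero (orderOf ρ)] (i j : ZMod (orderOf ρ))
    (h : ρ ^ (i.val : ℤ) = ρ ^ (j.val : ℤ)) : i = j := by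
  rw [zpow_natCast, zpow_natCast, pow_eq_pow_iff_modEq] at h
  apply ZMod.val_injective
  have h1 := ZMod.val_lt i
  have h2 := ZMod.val_lt j
  unfold Nat.ModEq at h
  rwa [Nat.mod_eq_of_lt h1, Nat.mod_eq_of_lt h2] at h

theorem hom_injective {x y : G} [NeZero (orderOf (x * y))] (hx : orderOf x = 2)
    (hy : orderOf y = 2) : Function.Injective (hom hx hy) := by
  intro a b h
  change toFun x y a = toFun x y b at h
  rcases a with i | i <;> rcases b with j | j
  · simp only [toFun] at h
    rw [val_eq_of_zpow_eq _ i j h]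
  · exfalso
    simp only [toFun] at h
    apply not_mem_zpowers hx hy
    have h1 : x = (x * y) ^ (i.val : ℤ) * ((x * y) ^ (j.val : ℤ))⁻¹ := by
      rw [h, mul_inv_cancel_right]
    have h2 : (x * y) ^ (i.val : ℤ) * ((x * y) ^ (j.val : ℤ))⁻¹ ∈ Subgroup.zpowers (x * y) :=
      Subgroup.mul_mem _ (Subgroup.zpow_mem_zpowers _ _)
        (Subgroup.inv_mem _ (Subgroup.zpow_mem_zpowers _ _))
    rwa [← h1] at h2
  · exfalso
    simp only [toFun] at h
    apply not_mem_zpowers hx hy
    have h1 : x = (x * y) ^ (j.val : ℤ) * ((x * y) ^ (i.val : ℤ))⁻¹ := by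
      rw [← h, mul_inv_cancel_right]
    have h2 : (x * y) ^ (j.val : ℤ) * ((x * y) ^ (i.val : ℤ))⁻¹ ∈ Subgroup.zpowers (x * y) :=
      Subgroup.mul_mem _ (Subgroup.zpow_mem_zpowers _ _)
        (Subgroup.inv_mem _ (Subgroup.zpow_mem_zpowers _ _))
    rwa [← h1] at h2
  · simp only [toFun] at h
    rw [val_eq_of_zpow_eq _ i j (mul_left_cancel h)]

theorem hom_range {x y : G} [NeZero (orderOf (x * y))] (hx : orderOf x = 2)
    (hy : orderOf y = 2) (hxy : x ≠ y) :
    (hom hx hy).range = Subgroup.closure ({x, y} : Set G) := by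
  apply le_antisymm
  · rintro _ ⟨a, rfl⟩
    change toFun x y a ∈ _
    rcases a with i | i
    · exact (mem_closure_pair_iff hx hy _).mpr (Or.inl ⟨_, rfl⟩)
    · exact (mem_closure_pair_iff hx hy _).mpr (Or.inr ⟨_, rfl⟩)
  · rw [Subgroup.closure_le]
    rintro a (rfl | rfl)
    · refine ⟨DihedralGroup.sr 0, ?_⟩
      change toFun a y (DihedralGroup.sr 0) = a
      simp [toFun]
    · refine ⟨DihedralGroup.sr 1, ?_⟩
      change toFun x a (DihedralGroup.sr 1) = a
      have hn : 1 < orderOf (x * a) := by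
        have h0 : 0 < orderOf (x * a) := Nat.pos_of_ne_zero (NeZero.ne _)
        have h1 : orderOf (x * a) ≠ 1 := by
          intro h
          rw [orderOf_eq_one_iff] at h
          apply hxy
          have h2 := eq_inv_of_mul_eq_one_left h
          rw [h2, inv_of_orderOf_two hy]
        omega
      simp only [toFun]
      rw [ZMod.val_one_eq_one_mod, Nat.mod_eq_of_lt hn]
      exact (y_eq_refl hx).symm

end aux

/-- Two distinct involutions x, y of a finite group generate a subgroup isomorphic to the dihedral group of order 2·|xy|. -/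
theorem result {G : Type*} [Group G] [Finite G] (x y : G) (hx : orderOf x = 2) (hy : orderOf y = 2) (hxy : x ≠ y) : Nonempty (↥(Subgroup.closure ({x, y} : Set G)) ≃* DihedralGroup (orderOf (x * y))) := by
  have : NeZero (orderOf (x * y)) := ⟨(orderOf_pos _).ne'⟩
  exact ⟨((MonoidHom.ofInjective (hom_injective hx hy)).trans
    (MulEquiv.subgroupCongr (hom_range hx hy hxy))).symm⟩

end Cfsg.Agent.S0206
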