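import Cfsg.Statements.S0807
import Mathlib
import Cfsg.Agent.S0809

set_option autoImplicit false
open Cfsg

namespace Cfsg.Agent.S0807

open Cfsg.Agent.S0809

abbrev SLF (F : Type*) [Field F] : Type _ := Matrix.SpecialLinearGroup (Fin 2) F
abbrev PSLF (F : Type*) [Field F] : Type _ := Matrix.ProjectiveSpecialLinearGroup (Fin 2) F

variable {F : Type*} [Field F]

theorem negOne_ne_one (h2 : (2 : F) ≠ 0) : (negOne : SLF F) ≠ 1 := by
  intro h
  have h00 := congrArg (fun x : SLF F => x 0 0) h
  simp only [negOne, mk2_00, one00] at h00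
  apply h2
  linear_combination -h00

theorem center_iff (h2 : (2 : F) ≠ 0) (z : SLF F) :
    z ∈ Subgroup.center (SLF F) ↔ z = 1 ∨ z = negOne := by
  constructor
  · intro hz
    obtain ⟨r, hr, hrs⟩ := Matrix.SpecialLinearGroup.mem_center_iff.1 hz
    have hr2 : (r - 1) * (r + 1) = 0 := by
      have : r ^ 2 = 1 := by simpa using hr
      linear_combination this
    have h00 := congrFun (congrFun hrs 0) 0
    have h01 := congrFun (congrFun hrs 0) 1
    have h10 := congrFun (congrFun hrs 1) 0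
    have h11 := congrFun (congrFun hrs 1) 1
    rcases mul_eq_zero.1 hr2 with h | h
    · left
      have hr1 : r = 1 := by linear_combination h
      rw [hr1] at h00 h01 h10 h11
      apply ext2
      · rw [← h00]; simp
      · rw [← h01]; simp
      · rw [← h10]; simp
      · rw [← h11]; simp
    · right
      have hr1 : r = -1 := by linear_combination h
      rw [hr1] at h00 h01 h10 h11
      apply ext2 <;> simp only [negOne, mk2_00, mk2_01, mk2_10, mk2_11]
      · rw [← h00]; simp
      · rw [← h01]; simp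
      · rw [← h10]; simp
      · rw [← h11]; simp
  · rintro (rfl | rfl)
    · exact Subgroup.one_mem _
    · rw [Subgroup.mem_center_iff]
      intro g
      exact (negOne_mul g).symm

theorem mk_eq_one_iff (h2 : (2 : F) ≠ 0) (g : SLF F) :
    (QuotientGroup.mk g : PSLF F) = 1 ↔ g = 1 ∨ g = negOne := by
  rw [QuotientGroup.eq_one_iff, center_iff h2]

theorem mk_eq_iff (h2 : (2 : F) ≠ 0) (g g' : SLF F) :
    (QuotientGroup.mk g : PSLF F) = QuotientGroup.mk g' ↔ g' = g ∨ g' = g * negOne := by
  rw [QuotientGroup.eq, center_iff h2, inv_mul_eq_one, inv_mul_eq_iff_eq_mul]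
  constructor
  · rintro (h | h)
    · exact Or.inl h.symm
    · exact Or.inr h
  · rintro (h | h)
    · exact Or.inl h.symm
    · exact Or.inr h

theorem mk_negOne (h2 : (2 : F) ≠ 0) : (QuotientGroup.mk (negOne : SLF F) : PSLF F) = 1 :=
  (mk_eq_one_iff h2 _).2 (Or.inr rfl)

theorem fiber_card [Fintype F] (h2 : (2 : F) ≠ 0) (x : PSLF F) :
    Nat.card {g : SLF F // (QuotientGroup.mk g : PSLF F) = x} = 2 := by
  classical
  obtain ⟨g₀, rfl⟩ := QuotientGroup.mk_surjective x
  rw [Nat.card_eq_fintype_card, Fintype.card_subtype]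
  have : Finset.univ.filter (fun g : SLF F => (QuotientGroup.mk g : PSLF F) = QuotientGroup.mk g₀)
      = {g₀, g₀ * negOne} := by
    ext g
    simp only [Finset.mem_filter, Finset.mem_univ, true_and, Finset.mem_insert,
      Finset.mem_singleton]
    rw [eq_comm, mk_eq_iff h2]
  rw [this, Finset.card_pair]
  intro h
  apply negOne_ne_one h2
  have := mul_left_cancel (a := g₀) (b := 1) (c := negOne) (by rw [mul_one]; exact h)
  exact this.symm

section count1
variable [Fintype F]

omit [Fintype F] in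
theorem Jm_tr : (Jm : SLF F) 1 1 = - (Jm : SLF F) 0 0 := by simp [Jm]

omit [Fintype F] in
theorem conj_sq (P g : SLF F) (hg : g * g = negOne) :
    (P * g * P⁻¹) * (P * g * P⁻¹) = negOne := by
  calc (P * g * P⁻¹) * (P * g * P⁻¹) = P * (g * g) * P⁻¹ := by group
    _ = P * negOne * P⁻¹ := by rw [hg]
    _ = negOne * P * P⁻¹ := by rw [negOne_mul P]
    _ = negOne := by group

theorem card_anti (h2 : (2 : F) ≠ 0) (g : SLF F) (hg : g * g = negOne) :
    Nat.card {h : SLF F // h * g = g⁻¹ * h} = cnt (1 : F) := by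
  obtain ⟨P, rfl⟩ := conj_of_tr_zero h2 Jm g Jm_tr (tr_zero_of_sq g hg)
  have e : {h : SLF F // h * (P * Jm * P⁻¹) = (P * Jm * P⁻¹)⁻¹ * h} ≃
      {x : SLF F // x * Jm = Jm⁻¹ * x} :=
    { toFun := fun h => ⟨P⁻¹ * h.1 * P, by
        calc (P⁻¹ * h.1 * P) * Jm = P⁻¹ * (h.1 * (P * Jm * P⁻¹)) * P := by group
          _ = P⁻¹ * ((P * Jm * P⁻¹)⁻¹ * h.1) * P := by rw [h.2]
          _ = Jm⁻¹ * (P⁻¹ * h.1 * P) := by group⟩
      invFun := fun x => ⟨P * x.1 * P⁻¹, by
        calc (P * x.1 * P⁻¹) * (P * Jm * P⁻¹) = P * (x.1 * Jm) * P⁻¹ := by group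
          _ = P * (Jm⁻¹ * x.1) * P⁻¹ := by rw [x.2]
          _ = (P * Jm * P⁻¹)⁻¹ * (P * x.1 * P⁻¹) := by group⟩
      left_inv := fun h => Subtype.ext (by
        change P * (P⁻¹ * h.1 * P) * P⁻¹ = h.1
        group)
      right_inv := fun x => Subtype.ext (by
        change P⁻¹ * (P * x.1 * P⁻¹) * P = x.1
        group) }
  rw [Nat.card_congr e, Nat.card_congr equivA]
  exact cnt_eq_one h2 (-1) (neg_ne_zero.2 one_ne_zero)

theorem card_conj_fiber (h2 : (2 : F) ≠ 0) (g : SLF F) (hg : g * g = negOne) :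
    Nat.card {P : SLF F // P * Jm * P⁻¹ = g} = cnt (1 : F) := by
  obtain ⟨P₀, rfl⟩ := conj_of_tr_zero h2 Jm g Jm_tr (tr_zero_of_sq g hg)
  have e : {P : SLF F // P * Jm * P⁻¹ = P₀ * Jm * P₀⁻¹} ≃ {x : SLF F // x * Jm = Jm * x} :=
    { toFun := fun P => ⟨P₀⁻¹ * P.1, by
        calc (P₀⁻¹ * P.1) * Jm = P₀⁻¹ * (P.1 * Jm * P.1⁻¹) * P.1 := by group
          _ = P₀⁻¹ * (P₀ * Jm * P₀⁻¹) * P.1 := by rw [P.2]
          _ = Jm * (P₀⁻¹ * P.1) := by group⟩
      invFun := fun x => ⟨P₀ * x.1, by
        calc (P₀ * x.1) * Jm * (P₀ * x.1)⁻¹ = P₀ * (x.1 * Jm) * x.1⁻¹ * P₀⁻¹ := by group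
          _ = P₀ * (Jm * x.1) * x.1⁻¹ * P₀⁻¹ := by rw [x.2]
          _ = P₀ * Jm * P₀⁻¹ := by group⟩
      left_inv := fun P => Subtype.ext (by
        change P₀ * (P₀⁻¹ * P.1) = P.1
        group)
      right_inv := fun x => Subtype.ext (by
        change P₀⁻¹ * (P₀ * x.1) = x.1
        group) }
  rw [Nat.card_congr e, Nat.card_congr equivC]
  rfl

theorem card_T (h2 : (2 : F) ≠ 0) :
    Nat.card (SLF F) = Nat.card {g : SLF F // g * g = negOne} * cnt (1 : F) := by
  classical
  rw [Nat.card_eq_fintype_card, Nat.card_eq_fintype_card, Fintype.card_subtype,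
    ← Finset.card_univ]
  have hmaps : ∀ P ∈ (Finset.univ : Finset (SLF F)),
      P * Jm * P⁻¹ ∈ Finset.univ.filter (fun g : SLF F => g * g = negOne) := by
    intro P _
    simp only [Finset.mem_filter, Finset.mem_univ, true_and]
    exact conj_sq P Jm Jm_sq
  rw [Finset.card_eq_sum_card_fiberwise hmaps]
  rw [Finset.sum_congr rfl (g := fun _ => cnt (1 : F))]
  · rw [Finset.sum_const, smul_eq_mul]
  · intro g hg
    simp only [Finset.mem_filter, Finset.mem_univ, true_and] at hg
    rw [← card_conj_fiber h2 g hg, Nat.card_eq_fintype_card, Fintype.card_subtype]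

theorem card_pairs (h2 : (2 : F) ≠ 0) :
    Nat.card {p : SLF F × SLF F // p.1 * p.1 = negOne ∧ p.2 * p.1 = p.1⁻¹ * p.2} =
      Nat.card {g : SLF F // g * g = negOne} * cnt (1 : F) := by
  classical
  rw [Nat.card_eq_fintype_card, Nat.card_eq_fintype_card, Fintype.card_subtype,
    Fintype.card_subtype]
  have hmaps : ∀ p ∈ Finset.univ.filter (fun p : SLF F × SLF F =>
      p.1 * p.1 = negOne ∧ p.2 * p.1 = p.1⁻¹ * p.2),
      p.1 ∈ Finset.univ.filter (fun g : SLF F => g * g = negOne) := by
    intro p hp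
    simp only [Finset.mem_filter, Finset.mem_univ, true_and] at hp ⊢
    exact hp.1
  rw [Finset.card_eq_sum_card_fiberwise hmaps]
  rw [Finset.sum_congr rfl (g := fun _ => cnt (1 : F))]
  · rw [Finset.sum_const, smul_eq_mul]
  · intro g hg
    simp only [Finset.mem_filter, Finset.mem_univ, true_and] at hg
    rw [← card_anti h2 g hg, Nat.card_eq_fintype_card, Fintype.card_subtype]
    apply Finset.card_nbij' (fun p => p.2) (fun h => (g, h))
    · intro p hp
      simp only [Finset.coe_filter, Finset.mem_filter, Finset.mem_univ, true_and,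
        Set.mem_ofPred_eq] at hp ⊢
      obtain ⟨⟨-, h1⟩, h3⟩ := hp
      rw [h3] at h1
      exact h1
    · intro h hh
      simp only [Finset.coe_filter, Finset.mem_filter, Finset.mem_univ, true_and,
        Set.mem_ofPred_eq] at hh ⊢
      exact ⟨⟨hg, hh⟩, trivial⟩
    · intro p hp
      simp only [Finset.coe_filter, Finset.mem_filter, Finset.mem_univ, true_and,
        Set.mem_ofPred_eq] at hp
      exact Prod.ext hp.2.symm rfl
    · intro h _
      rfl

theorem card_pairs_eq (h2 : (2 : F) ≠ 0) :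
    Nat.card {p : SLF F × SLF F // p.1 * p.1 = negOne ∧ p.2 * p.1 = p.1⁻¹ * p.2} =
      Nat.card (SLF F) := by
  rw [card_pairs h2, card_T h2]

end count1

section klein

def kleinSub {H : Type*} [Group H] (a b : H) (ha : a * a = 1) (hb : b * b = 1)
    (hab : a * b = b * a) : Subgroup H where
  carrier := {x | x = 1 ∨ x = a ∨ x = b ∨ x = a * b}
  one_mem' := Or.inl rfl
  mul_mem' := by
    have ha' : ∀ x, a * (a * x) = x := fun x => by rw [← mul_assoc, ha, one_mul]
    have hb' : ∀ x, b * (b * x) = x := fun x => by rw [← mul_assoc, hb, one_mul]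
    have hba : b * a = a * b := hab.symm
    have hba' : ∀ x, b * (a * x) = a * (b * x) := fun x => by
      rw [← mul_assoc, hba, mul_assoc]
    intro x y hx hy
    simp only [Set.mem_ofPred_eq] at hx hy ⊢
    rcases hx with hx | hx | hx | hx <;> rcases hy with hy | hy | hy | hy <;> rw [hx, hy] <;>
      simp [mul_assoc, ha, hb, hba, ha', hba']
  inv_mem' := by
    have hai : a⁻¹ = a := inv_eq_of_mul_eq_one_right ha
    have hbi : b⁻¹ = b := inv_eq_of_mul_eq_one_right hb
    intro x hx
    simp only [Set.mem_ofPred_eq] at hx ⊢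
    rcases hx with hx | hx | hx | hx <;> rw [hx] <;> simp [hai, hbi, hab]

theorem mem_kleinSub {H : Type*} [Group H] (a b : H) (ha : a * a = 1) (hb : b * b = 1)
    (hab : a * b = b * a) (x : H) :
    x ∈ kleinSub a b ha hb hab ↔ x = 1 ∨ x = a ∨ x = b ∨ x = a * b := Iff.rfl

theorem kleinSub_isKleinFour {H : Type*} [Group H] (a b : H) (ha : a * a = 1) (hb : b * b = 1)
    (hab : a * b = b * a) (ha1 : a ≠ 1) (hb1 : b ≠ 1) (hne : a ≠ b) :
    IsKleinFour ↥(kleinSub a b ha hb hab) := by
  classical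
  have hcard : Nat.card ↥(kleinSub a b ha hb hab) = 4 := by
    have hset : ((kleinSub a b ha hb hab : Subgroup H) : Set H) =
        ((({1, a, b, a * b} : Finset H)) : Set H) := by
      ext x
      simp [mem_kleinSub]
    rw [← SetLike.coe_sort_coe, Nat.card_coe_set_eq, hset, Set.ncard_coe_finset]
    have h1 : a * b ≠ 1 := by
      intro h
      apply hne
      have : a⁻¹ = b := inv_eq_of_mul_eq_one_right h
      rw [← this, inv_eq_of_mul_eq_one_right ha]
    have h2 : a * b ≠ a := by
      intro h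
      exact hb1 (by simpa using h)
    have h3 : a * b ≠ b := by
      intro h
      exact ha1 (by simpa using h)
    rw [Finset.card_insert_of_notMem, Finset.card_insert_of_notMem, Finset.card_pair]
    · exact fun h => h3 h.symm
    · simp only [Finset.mem_insert, Finset.mem_singleton, not_or]
      exact ⟨hne, fun h => h2 h.symm⟩
    · simp only [Finset.mem_insert, Finset.mem_singleton, not_or]
      exact ⟨fun h => ha1 h.symm, fun h => hb1 h.symm, fun h => h1 h.symm⟩
  refine ⟨hcard, ?_⟩
  have hdvd : Monoid.exponent ↥(kleinSub a b ha hb hab) ∣ 2 := by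
    apply Monoid.exponent_dvd_of_forall_pow_eq_one
    rintro ⟨x, hx⟩
    apply Subtype.ext
    change x ^ 2 = 1
    rw [pow_two]
    rcases (mem_kleinSub a b ha hb hab x).1 hx with h | h | h | h <;> rw [h]
    · simp
    · exact ha
    · exact hb
    · calc a * b * (a * b) = a * (b * a) * b := by group
        _ = a * (a * b) * b := by rw [← hab]
        _ = (a * a) * (b * b) := by group
        _ = 1 := by rw [ha, hb, one_mul]
  rcases (Nat.dvd_prime Nat.prime_two).1 hdvd with h | h
  · exfalso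
    rw [Monoid.exp_eq_one_iff] at h
    have := h.elim (1 : ↥(kleinSub a b ha hb hab))
      ⟨a, (mem_kleinSub a b ha hb hab a).2 (Or.inr (Or.inl rfl))⟩
    exact ha1 (congrArg Subtype.val this).symm
  · exact h

theorem klein_facts {H : Type*} [Group H] (V : Subgroup H) (hV : IsKleinFour ↥V) :
    (∀ x ∈ V, x * x = 1) ∧ (∀ x ∈ V, ∀ y ∈ V, x * y = y * x) := by
  have h1 : ∀ x ∈ V, x * x = 1 := by
    intro x hx
    have := IsKleinFour.mul_self (⟨x, hx⟩ : ↥V)
    exact congrArg Subtype.val this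
  refine ⟨h1, ?_⟩
  intro x hx y hy
  have hxy := h1 (x * y) (V.mul_mem hx hy)
  have hxi : x⁻¹ = x := inv_eq_of_mul_eq_one_right (h1 x hx)
  have hyi : y⁻¹ = y := inv_eq_of_mul_eq_one_right (h1 y hy)
  have : (x * y)⁻¹ = x * y := inv_eq_of_mul_eq_one_right hxy
  rw [mul_inv_rev, hxi, hyi] at this
  exact this.symm

end klein

section pairs
variable [Fintype F]

theorem anti_sq (h2 : (2 : F) ≠ 0) (g h : SLF F) (hg : g * g = negOne)
    (hgh : h * g = g⁻¹ * h) : h * h = negOne := by
  obtain ⟨P, rfl⟩ := conj_of_tr_zero h2 Jm g Jm_tr (tr_zero_of_sq g hg)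
  have hx : (P⁻¹ * h * P) * Jm = Jm⁻¹ * (P⁻¹ * h * P) := by
    calc (P⁻¹ * h * P) * Jm = P⁻¹ * (h * (P * Jm * P⁻¹)) * P := by group
      _ = P⁻¹ * ((P * Jm * P⁻¹)⁻¹ * h) * P := by rw [hgh]
      _ = Jm⁻¹ * (P⁻¹ * h * P) := by group
  have htr : (P⁻¹ * h * P) 1 1 = - (P⁻¹ * h * P) 0 0 := by
    have h01 := congrArg (fun y : SLF F => y 0 1) hx
    simp only [mul01 (P⁻¹ * h * P) Jm, mul01 Jm⁻¹ (P⁻¹ * h * P), inv00, inv01] at h01
    simp [Jm] at h01
    linear_combination -h01
  have hsq := sq_of_tr_zero (P⁻¹ * h * P) htr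
  have := conj_sq P (P⁻¹ * h * P) hsq
  have e : P * (P⁻¹ * h * P) * P⁻¹ = h := by group
  rwa [e] at this

theorem pair_facts (h2 : (2 : F) ≠ 0) (g h : SLF F) (hg : g * g = negOne)
    (hgh : h * g = g⁻¹ * h) :
    (QuotientGroup.mk g : PSLF F) ≠ 1 ∧ (QuotientGroup.mk h : PSLF F) ≠ 1 ∧
      (QuotientGroup.mk g : PSLF F) ≠ QuotientGroup.mk h ∧
      (QuotientGroup.mk g : PSLF F) * QuotientGroup.mk g = 1 ∧
      (QuotientGroup.mk h : PSLF F) * QuotientGroup.mk h = 1 ∧
      (QuotientGroup.mk g : PSLF F) * QuotientGroup.mk h =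
        QuotientGroup.mk h * QuotientGroup.mk g := by
  have hh := anti_sq h2 g h hg hgh
  have hne := negOne_ne_one (F := F) h2
  have key : ∀ x : SLF F, x * x = negOne → (QuotientGroup.mk x : PSLF F) ≠ 1 := by
    intro x hx h1
    rcases (mk_eq_one_iff h2 x).1 h1 with h | h
    · rw [h, mul_one] at hx; exact hne hx.symm
    · rw [h, negOne_sq] at hx; exact hne hx.symm
  have hgg : (QuotientGroup.mk g : PSLF F) * QuotientGroup.mk g = 1 := by
    rw [← QuotientGroup.mk_mul, hg, mk_negOne h2]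
  have hhh : (QuotientGroup.mk h : PSLF F) * QuotientGroup.mk h = 1 := by
    rw [← QuotientGroup.mk_mul, hh, mk_negOne h2]
  refine ⟨key g hg, key h hh, ?_, hgg, hhh, ?_⟩
  · intro heq
    rcases (mk_eq_iff h2 g h).1 heq with h' | h'
    · rw [h', hg, inv_mul_cancel] at hgh
      exact hne hgh
    · rw [h'] at hgh
      have e1 : g * negOne * g = 1 := by
        rw [mul_assoc, negOne_mul g, ← mul_assoc, hg, negOne_sq]
      have e2 : g⁻¹ * (g * negOne) = negOne := by group
      rw [e1, e2] at hgh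
      exact hne hgh.symm
  · have hgi : (QuotientGroup.mk g : PSLF F)⁻¹ = QuotientGroup.mk g :=
      inv_eq_of_mul_eq_one_right hgg
    have : (QuotientGroup.mk h : PSLF F) * QuotientGroup.mk g =
        (QuotientGroup.mk g : PSLF F)⁻¹ * QuotientGroup.mk h := by
      rw [← QuotientGroup.mk_mul, hgh, QuotientGroup.mk_mul, QuotientGroup.mk_inv]
    rw [this, hgi]

theorem pair_of_klein (h2 : (2 : F) ≠ 0) (g h : SLF F)
    (hx : (QuotientGroup.mk g : PSLF F) * QuotientGroup.mk g = 1)
    (hy : (QuotientGroup.mk h : PSLF F) * QuotientGroup.mk h = 1)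
    (hc : (QuotientGroup.mk g : PSLF F) * QuotientGroup.mk h =
      QuotientGroup.mk h * QuotientGroup.mk g)
    (hx1 : (QuotientGroup.mk g : PSLF F) ≠ 1) (hy1 : (QuotientGroup.mk h : PSLF F) ≠ 1)
    (hxy : (QuotientGroup.mk g : PSLF F) ≠ QuotientGroup.mk h) :
    g * g = negOne ∧ h * g = g⁻¹ * h := by
  have key : ∀ x : SLF F, (QuotientGroup.mk x : PSLF F) * QuotientGroup.mk x = 1 →
      (QuotientGroup.mk x : PSLF F) ≠ 1 → x * x = negOne := by
    intro x hxx hx1
    rw [← QuotientGroup.mk_mul] at hxx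
    rcases (mk_eq_one_iff h2 (x * x)).1 hxx with h | h
    · exfalso
      apply hx1
      rcases sq_eq_one h2 x h with h' | h'
      · rw [h']; rfl
      · rw [h']; exact mk_negOne h2
    · exact h
  have hg := key g hx hx1
  have hh := key h hy hy1
  refine ⟨hg, ?_⟩
  have hgi : g⁻¹ = g * negOne := by
    apply inv_eq_of_mul_eq_one_right
    rw [← mul_assoc, hg, negOne_sq]
  rw [← QuotientGroup.mk_mul, ← QuotientGroup.mk_mul] at hc
  rcases (mk_eq_iff h2 (g * h) (h * g)).1 hc with h' | h'
  · exfalso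
    apply hxy
    have hsq : (g * h) * (g * h) = 1 := by
      calc (g * h) * (g * h) = g * (h * g) * h := by group
        _ = g * (g * h) * h := by rw [h']
        _ = (g * g) * (h * h) := by group
        _ = 1 := by rw [hg, hh, negOne_sq]
    have h1 : (QuotientGroup.mk g : PSLF F) * QuotientGroup.mk h = 1 := by
      rw [← QuotientGroup.mk_mul]
      rcases sq_eq_one h2 (g * h) hsq with h'' | h''
      · rw [h'']; rfl
      · rw [h'']; exact mk_negOne h2
    have h3 : (QuotientGroup.mk g : PSLF F)⁻¹ = QuotientGroup.mk h :=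
      inv_eq_of_mul_eq_one_right h1
    rw [← h3, inv_eq_of_mul_eq_one_right hx]
  · rw [h', hgi, mul_assoc, mul_assoc, negOne_mul h]

end pairs

/-- For q odd, twelve times the number of Klein four-subgroups of PSL_2(q) equals the order of PSL_2(q). -/
theorem result {F : Type*} [Field F] [Fintype F] {q : ℕ} (hF : Fintype.card F = q) (hodd : Odd q) : 12 * Nat.card {V : Subgroup (Matrix.ProjectiveSpecialLinearGroup (Fin 2) F) // IsKleinFour V} = Nat.card (Matrix.ProjectiveSpecialLinearGroup (Fin 2) F) := by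
  classical
  subst hF
  have h2 : (2 : F) ≠ 0 := by
    intro h
    have hchar : ringChar F = 2 :=
      CharP.ringChar_of_prime_eq_zero Nat.prime_two (by exact_mod_cast h)
    have := FiniteField.even_card_iff_char_two.1 hchar
    obtain ⟨m, hm⟩ := hodd
    omega
  haveI : Fintype (Subgroup (PSLF F)) := Fintype.ofFinite _
  have hG : Nat.card (SLF F) = 2 * Nat.card (PSLF F) := by
    rw [Nat.card_eq_fintype_card, Nat.card_eq_fintype_card, ← Finset.card_univ]
    rw [Finset.card_eq_sum_card_fiberwise (f := fun g : SLF F => (QuotientGroup.mk g : PSLF F))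
      (t := Finset.univ) (fun _ _ => Finset.mem_coe.2 (Finset.mem_univ _))]
    rw [Finset.sum_congr rfl (g := fun _ => 2)]
    · rw [Finset.sum_const, smul_eq_mul, Finset.card_univ, mul_comm]
    · intro x _
      have e := fiber_card h2 x
      rw [Nat.card_eq_fintype_card, Fintype.card_subtype] at e
      exact e
  have hP := card_pairs_eq (F := F) h2
  rw [Nat.card_eq_fintype_card, Fintype.card_subtype] at hP
  rw [Nat.card_eq_fintype_card (α := {V : Subgroup (PSLF F) // IsKleinFour V}),
    Fintype.card_subtype]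
  set s := Finset.univ.filter (fun p : SLF F × SLF F =>
    p.1 * p.1 = negOne ∧ p.2 * p.1 = p.1⁻¹ * p.2) with hs
  set t := Finset.univ.filter (fun V : Subgroup (PSLF F) => IsKleinFour V) with ht
  have key := Finset.card_mul_eq_card_mul
    (fun (p : SLF F × SLF F) (V : Subgroup (PSLF F)) =>
      (QuotientGroup.mk p.1 : PSLF F) ∈ V ∧ (QuotientGroup.mk p.2 : PSLF F) ∈ V)
    (s := s) (t := t) (m := 1) (n := 24) ?_ ?_
  · rw [hP, hG, mul_one] at key
    change 12 * t.card = Nat.card (PSLF F)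
    generalize Nat.card (PSLF F) = N at key ⊢
    omega
  · rintro ⟨g, h⟩ hp
    simp only [hs, Finset.mem_filter, Finset.mem_univ, true_and] at hp
    obtain ⟨hg, hgh⟩ := hp
    obtain ⟨ha1, hb1, hne, ha, hb, hab⟩ := pair_facts h2 g h hg hgh
    rw [Finset.card_eq_one]
    refine ⟨kleinSub _ _ ha hb hab, ?_⟩
    ext V
    simp only [Finset.bipartiteAbove, Finset.mem_filter, Finset.mem_singleton, ht,
      Finset.mem_univ, true_and]
    constructor
    · rintro ⟨hVt, haV, hbV⟩
      symm
      apply Subgroup.eq_of_le_of_card_ge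
      · intro x hx
        rcases (mem_kleinSub _ _ ha hb hab x).1 hx with h | h | h | h <;> rw [h]
        · exact V.one_mem
        · exact haV
        · exact hbV
        · exact V.mul_mem haV hbV
      · rw [hVt.card_four, (kleinSub_isKleinFour _ _ ha hb hab ha1 hb1 hne).card_four]
    · rintro rfl
      exact ⟨kleinSub_isKleinFour _ _ ha hb hab ha1 hb1 hne,
        (mem_kleinSub _ _ ha hb hab _).2 (Or.inr (Or.inl rfl)),
        (mem_kleinSub _ _ ha hb hab _).2 (Or.inr (Or.inr (Or.inl rfl)))⟩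
  · intro V hV
    simp only [ht, Finset.mem_filter, Finset.mem_univ, true_and] at hV
    obtain ⟨hsq, hcomm⟩ := klein_facts V hV
    set W := Finset.univ.filter (fun x : PSLF F => x ∈ V ∧ x ≠ 1) with hW
    have hWc : W.card = 3 := by
      have h4 : (Finset.univ.filter (fun x : PSLF F => x ∈ V)).card = 4 := by
        rw [← hV.card_four, Nat.card_eq_fintype_card]
        exact (Fintype.card_of_subtype _ (by simp)).symm
      have : W = (Finset.univ.filter (fun x : PSLF F => x ∈ V)).erase 1 := by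
        ext x
        simp only [hW, Finset.mem_filter, Finset.mem_univ, true_and, Finset.mem_erase]
        tauto
      rw [this, Finset.card_erase_of_mem (by simp [V.one_mem]), h4]
    have hfib : s.bipartiteBelow (fun (p : SLF F × SLF F) (V : Subgroup (PSLF F)) =>
        (QuotientGroup.mk p.1 : PSLF F) ∈ V ∧ (QuotientGroup.mk p.2 : PSLF F) ∈ V) V =
        Finset.univ.filter (fun p : SLF F × SLF F =>
          ((QuotientGroup.mk p.1 : PSLF F), (QuotientGroup.mk p.2 : PSLF F)) ∈ W.offDiag) := by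
      ext ⟨g, h⟩
      simp only [Finset.bipartiteBelow, hs, hW, Finset.mem_filter, Finset.mem_univ, true_and,
        Finset.mem_offDiag]
      constructor
      · rintro ⟨⟨hg, hgh⟩, hgV, hhV⟩
        obtain ⟨ha1, hb1, hne, -, -, -⟩ := pair_facts h2 g h hg hgh
        exact ⟨⟨hgV, ha1⟩, ⟨hhV, hb1⟩, hne⟩
      · rintro ⟨⟨hgV, ha1⟩, ⟨hhV, hb1⟩, hne⟩
        exact ⟨pair_of_klein h2 g h (hsq _ hgV) (hsq _ hhV) (hcomm _ hgV _ hhV) ha1 hb1 hne,
          hgV, hhV⟩
    rw [hfib]
    have hmaps : ∀ p ∈ Finset.univ.filter (fun p : SLF F × SLF F =>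
        ((QuotientGroup.mk p.1 : PSLF F), (QuotientGroup.mk p.2 : PSLF F)) ∈ W.offDiag),
        ((QuotientGroup.mk p.1 : PSLF F), (QuotientGroup.mk p.2 : PSLF F)) ∈ W.offDiag := by
      intro p hp
      simpa using hp
    rw [Finset.card_eq_sum_card_fiberwise hmaps]
    rw [Finset.sum_congr rfl (g := fun _ => 4)]
    · rw [Finset.sum_const, smul_eq_mul, Finset.offDiag_card, hWc]
    · rintro ⟨x, y⟩ hxy
      have : (Finset.univ.filter (fun p : SLF F × SLF F =>
          ((QuotientGroup.mk p.1 : PSLF F), (QuotientGroup.mk p.2 : PSLF F)) ∈ W.offDiag)).filter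
          (fun p => ((QuotientGroup.mk p.1 : PSLF F), (QuotientGroup.mk p.2 : PSLF F)) = (x, y))
          = (Finset.univ.filter (fun g : SLF F => (QuotientGroup.mk g : PSLF F) = x)) ×ˢ
            (Finset.univ.filter (fun g : SLF F => (QuotientGroup.mk g : PSLF F) = y)) := by
        ext ⟨g, h⟩
        simp only [Finset.mem_filter, Finset.mem_univ, true_and, Finset.mem_product,
          Prod.mk.injEq]
        constructor
        · rintro ⟨-, h1, h3⟩; exact ⟨h1, h3⟩
        · rintro ⟨h1, h3⟩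
          refine ⟨?_, h1, h3⟩
          rw [h1, h3]; exact hxy
      rw [this, Finset.card_product]
      have e1 := fiber_card h2 x
      have e2 := fiber_card h2 y
      rw [Nat.card_eq_fintype_card, Fintype.card_subtype] at e1 e2
      rw [e1, e2]

end Cfsg.Agent.S0807
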