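import Cfsg.Statements.S0802
import Mathlib
import Cfsg.Agent.S0807

set_option autoImplicit false
open Cfsg

namespace Cfsg.Agent.S0802

open Cfsg.Agent.S0809 Cfsg.Agent.S0807
open scoped Pointwise

section abstract

/-- a group of order 12 with a non-normal subgroup of order 3 is `A₄` -/
theorem recog {K : Type*} [Group K] [Finite K] (hK : Nat.card K = 12) (T : Subgroup K)
    (hT : Nat.card T = 3) (hTn : ¬ T.Normal) : Nonempty (K ≃* alternatingGroup (Fin 4)) := by
  classical
  have hcore : T.normalCore = ⊥ := by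
    have hle := Subgroup.normalCore_le T
    have hdvd := Subgroup.card_dvd_of_le hle
    rw [hT] at hdvd
    rcases (Nat.dvd_prime Nat.prime_three).1 hdvd with h | h
    · exact Subgroup.card_eq_one.1 h
    · exfalso
      apply hTn
      have : T.normalCore = T := Subgroup.eq_of_le_of_card_ge hle (by rw [h, hT])
      rw [← this]
      exact Subgroup.normalCore_normal T
  have hinj : Function.Injective (MulAction.toPermHom K (K ⧸ T)) := by
    rw [← MonoidHom.ker_eq_bot_iff, ← Subgroup.normalCore_eq_ker, hcore]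
  have hquot : Nat.card (K ⧸ T) = 4 := by
    have := Subgroup.card_eq_card_quotient_mul_card_subgroup T
    rw [hK, hT] at this
    omega
  let e : (K ⧸ T) ≃ Fin 4 := Finite.equivFinOfCardEq hquot
  let ψ : K →* Equiv.Perm (Fin 4) :=
    (e.permCongrHom : Equiv.Perm (K ⧸ T) ≃* Equiv.Perm (Fin 4)).toMonoidHom.comp
      (MulAction.toPermHom K (K ⧸ T))
  have hψ : Function.Injective ψ := by
    intro x y hxy
    apply hinj
    exact (e.permCongrHom).injective hxy
  have hcard : Nat.card ψ.range = 12 := by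
    rw [← Nat.card_congr (MonoidHom.ofInjective hψ).toEquiv, hK]
  have hidx : ψ.range.index = 2 := by
    have h1 := Subgroup.card_mul_index ψ.range
    rw [hcard, Nat.card_perm, Nat.card_eq_fintype_card, Fintype.card_fin] at h1
    have : Nat.factorial 4 = 24 := by decide
    omega
  have hrange := Equiv.Perm.eq_alternatingGroup_of_index_eq_two hidx
  exact ⟨(MonoidHom.ofInjective hψ).trans (MulEquiv.subgroupCongr hrange)⟩

theorem A4gen {G : Type*} [Group G] [Finite G] (a b c : G) (ha : a * a = 1) (hb : b * b = 1)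
    (hab : a * b = b * a) (hc : c * c * c = 1) (hca : c * a * c⁻¹ = b)
    (hcb : c * b * c⁻¹ = a * b) (ha1 : a ≠ 1) :
    ∃ H : Subgroup G, Nonempty (H ≃* alternatingGroup (Fin 4)) := by
  have hb1 : b ≠ 1 := by
    intro h
    apply ha1
    rw [h] at hca
    have : a = c⁻¹ * (c * a * c⁻¹) * c := by group
    rw [this, hca]; group
  have hne : a ≠ b := by
    intro h
    apply ha1
    rw [← h, hca, ha] at hcb
    exact absurd hcb hb1
  have hc1 : c ≠ 1 := by
    intro h
    apply hne
    rw [h] at hca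
    simpa using hca
  have hcab : c * (a * b) * c⁻¹ = a := by
    calc c * (a * b) * c⁻¹ = (c * a * c⁻¹) * (c * b * c⁻¹) := by group
      _ = b * (a * b) := by rw [hca, hcb]
      _ = a * (b * b) := by rw [← mul_assoc, ← hab, mul_assoc]
      _ = a := by rw [hb, mul_one]
  set V := kleinSub a b ha hb hab with hV
  have hVk : IsKleinFour ↥V := kleinSub_isKleinFour a b ha hb hab ha1 hb1 hne
  have hVcard : Nat.card V = 4 := hVk.card_four
  set T := Subgroup.zpowers c with hT
  have hTcard : Nat.card T = 3 := by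
    rw [hT, Nat.card_zpowers]
    exact orderOf_eq_prime (by rw [pow_succ, pow_two]; exact hc) hc1
  have hcN : c ∈ Subgroup.normalizer (V : Set G) := by
    rw [Subgroup.mem_normalizer_iff]
    intro h
    constructor
    · intro hh
      rcases (mem_kleinSub a b ha hb hab h).1 hh with h' | h' | h' | h' <;> rw [h']
      · simp only [mul_one, mul_inv_cancel]; exact V.one_mem
      · rw [hca]; exact (mem_kleinSub a b ha hb hab _).2 (Or.inr (Or.inr (Or.inl rfl)))
      · rw [hcb]; exact (mem_kleinSub a b ha hb hab _).2 (Or.inr (Or.inr (Or.inr rfl)))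
      · rw [hcab]; exact (mem_kleinSub a b ha hb hab _).2 (Or.inr (Or.inl rfl))
    · intro hh
      have e : h = c⁻¹ * (c * h * c⁻¹) * c := by group
      rw [e]
      rcases (mem_kleinSub a b ha hb hab _).1 hh with h' | h' | h' | h' <;> rw [h']
      · simp only [mul_one, inv_mul_cancel]; exact V.one_mem
      · have : c⁻¹ * a * c = a * b := by
          have h5 : c⁻¹ * (c * (a * b) * c⁻¹) * c = a * b := by group
          rw [hcab] at h5; exact h5
        rw [this]; exact (mem_kleinSub a b ha hb hab _).2 (Or.inr (Or.inr (Or.inr rfl)))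
      · have : c⁻¹ * b * c = a := by
          have h5 : c⁻¹ * (c * a * c⁻¹) * c = a := by group
          rw [hca] at h5; exact h5
        rw [this]; exact (mem_kleinSub a b ha hb hab _).2 (Or.inr (Or.inl rfl))
      · have : c⁻¹ * (a * b) * c = b := by
          have h5 : c⁻¹ * (c * b * c⁻¹) * c = b := by group
          rw [hcb] at h5; exact h5
        rw [this]; exact (mem_kleinSub a b ha hb hab _).2 (Or.inr (Or.inr (Or.inl rfl)))
  have hTN : T ≤ Subgroup.normalizer (V : Set G) := by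
    rw [hT, Subgroup.zpowers_le]
    exact hcN
  have hinf : T ⊓ V = ⊥ :=
    Subgroup.inf_eq_bot_of_coprime (H := T) (K := V) (by rw [hTcard, hVcard]; decide)
  have hKcard : Nat.card ↥(T ⊔ V) = 12 := by
    have h1 : Nat.card ↥(T ⊔ V) ≤ 12 := by
      have hset := Subgroup.coe_mul_of_left_le_normalizer_right T V hTN
      have h2 : Nat.card ↥(T ⊔ V) = Nat.card ((T : Set G) * (V : Set G) : Set G) := by
        rw [← hset]; rfl
      rw [h2]
      refine le_trans Set.natCard_mul_le ?_
      have e1 : Nat.card (T : Set G) = 3 := hTcard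
      have e2 : Nat.card (V : Set G) = 4 := hVcard
      rw [e1, e2]
    have h3 : 3 ∣ Nat.card ↥(T ⊔ V) := by
      rw [← hTcard]; exact Subgroup.card_dvd_of_le le_sup_left
    have h4 : 4 ∣ Nat.card ↥(T ⊔ V) := by
      rw [← hVcard]; exact Subgroup.card_dvd_of_le le_sup_right
    have hpos : 0 < Nat.card ↥(T ⊔ V) := Nat.card_pos
    omega
  refine ⟨T ⊔ V, ?_⟩
  refine recog hKcard (T.subgroupOf (T ⊔ V)) ?_ ?_
  · rw [Nat.card_congr (Subgroup.subgroupOfEquivOfLe (le_sup_left : T ≤ T ⊔ V)).toEquiv, hTcard]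
  · intro hnorm
    have haK : a ∈ T ⊔ V :=
      (le_sup_right : V ≤ T ⊔ V) ((mem_kleinSub a b ha hb hab _).2 (Or.inr (Or.inl rfl)))
    have hcK : c ∈ T ⊔ V := (le_sup_left : T ≤ T ⊔ V) (Subgroup.mem_zpowers c)
    have hmem := hnorm.conj_mem ⟨c, hcK⟩ (Subgroup.mem_subgroupOf.2 (Subgroup.mem_zpowers c))
      ⟨a, haK⟩
    rw [Subgroup.mem_subgroupOf] at hmem
    have hval : a * c * a⁻¹ ∈ T := hmem
    have hai : a⁻¹ = a := inv_eq_of_mul_eq_one_right ha
    have e : a * c * a⁻¹ = (a * b) * c := by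
      have : c * a = b * c := by rw [← hca]; group
      rw [hai, mul_assoc, this, ← mul_assoc]
    rw [e] at hval
    have habT : a * b ∈ T := by
      have := T.mul_mem hval (T.inv_mem (Subgroup.mem_zpowers c))
      simpa using this
    have habV : a * b ∈ V := (mem_kleinSub a b ha hb hab _).2 (Or.inr (Or.inr (Or.inr rfl)))
    have : a * b ∈ T ⊓ V := Subgroup.mem_inf.2 ⟨habT, habV⟩
    rw [hinf, Subgroup.mem_bot] at this
    apply hne
    have : a⁻¹ = b := inv_eq_of_mul_eq_one_right this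
    rw [← this, hai]

end abstract

section odd
variable {F : Type*} [Field F] [Fintype F]

theorem exists_A4_odd (h2 : (2 : F) ≠ 0) :
    ∃ H : Subgroup (PSLF F), Nonempty (H ≃* alternatingGroup (Fin 4)) := by
  classical
  obtain ⟨x, y, hxy⟩ := exists_sq_sum h2 1 1 (-1) one_ne_zero one_ne_zero
  have hxy' : x ^ 2 + y ^ 2 = -1 := by simpa using hxy
  have hdh : x * (-x) - y * y = 1 := by linear_combination -hxy'
  have hdt : ((1 + x - y) / 2) * ((1 - x + y) / 2) - ((x + y - 1) / 2) * ((x + y + 1) / 2) = 1 := by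
    grind
  have hg : (Jm : SLF F) * Jm = negOne := Jm_sq
  have hgh : (mk2 x y y (-x) hdh : SLF F) * Jm = Jm⁻¹ * mk2 x y y (-x) hdh := by
    apply ext2 <;> simp [mul00, mul01, mul10, mul11, inv00, inv01, inv10, inv11, Jm]
  have r1 : (mk2 ((1 + x - y) / 2) ((x + y - 1) / 2) ((x + y + 1) / 2) ((1 - x + y) / 2) hdt : SLF F)
      * Jm = mk2 x y y (-x) hdh *
        mk2 ((1 + x - y) / 2) ((x + y - 1) / 2) ((x + y + 1) / 2) ((1 - x + y) / 2) hdt := by
    apply ext2 <;> simp only [mul00, mul01, mul10, mul11, Jm, mk2_00, mk2_01, mk2_10, mk2_11] <;>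
      grind
  have r2 : (mk2 ((1 + x - y) / 2) ((x + y - 1) / 2) ((x + y + 1) / 2) ((1 - x + y) / 2) hdt : SLF F)
      * mk2 x y y (-x) hdh = (Jm * mk2 x y y (-x) hdh) *
        mk2 ((1 + x - y) / 2) ((x + y - 1) / 2) ((x + y + 1) / 2) ((1 - x + y) / 2) hdt := by
    apply ext2 <;> simp only [mul00, mul01, mul10, mul11, Jm, mk2_00, mk2_01, mk2_10, mk2_11] <;>
      grind
  have r3 : (mk2 ((1 + x - y) / 2) ((x + y - 1) / 2) ((x + y + 1) / 2) ((1 - x + y) / 2) hdt : SLF F)
      * mk2 ((1 + x - y) / 2) ((x + y - 1) / 2) ((x + y + 1) / 2) ((1 - x + y) / 2) hdt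
      * mk2 ((1 + x - y) / 2) ((x + y - 1) / 2) ((x + y + 1) / 2) ((1 - x + y) / 2) hdt = negOne := by
    apply ext2 <;>
      simp only [mul00, mul01, mul10, mul11, negOne, mk2_00, mk2_01, mk2_10, mk2_11] <;>
      grind
  obtain ⟨ha1, hb1, hne, ha, hb, hab⟩ := pair_facts h2 _ _ hg hgh
  refine A4gen (QuotientGroup.mk (Jm : SLF F) : PSLF F) (QuotientGroup.mk (mk2 x y y (-x) hdh))
    (QuotientGroup.mk (mk2 ((1 + x - y) / 2) ((x + y - 1) / 2) ((x + y + 1) / 2)
      ((1 - x + y) / 2) hdt)) ha hb hab ?_ ?_ ?_ ha1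
  · rw [← QuotientGroup.mk_mul, ← QuotientGroup.mk_mul, r3, mk_negOne h2]
  · rw [← QuotientGroup.mk_inv, ← QuotientGroup.mk_mul, ← QuotientGroup.mk_mul]
    congr 1
    rw [r1]; group
  · rw [← QuotientGroup.mk_inv, ← QuotientGroup.mk_mul, ← QuotientGroup.mk_mul,
      ← QuotientGroup.mk_mul]
    congr 1
    rw [r2]; group

end odd

section even
variable {F : Type*} [Field F]

theorem center2 (h2 : (2 : F) = 0) (z : SLF F) (hz : z ∈ Subgroup.center (SLF F)) : z = 1 := by
  obtain ⟨r, hr, hrs⟩ := Matrix.SpecialLinearGroup.mem_center_iff.1 hz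
  have hr2 : (r - 1) ^ 2 = 0 := by
    have : r ^ 2 = 1 := by simpa using hr
    linear_combination this - (r - 1) * h2
  have hr1 : r = 1 := by
    have := pow_eq_zero_iff (two_ne_zero) |>.1 hr2
    linear_combination this
  have h00 := congrFun (congrFun hrs 0) 0
  have h01 := congrFun (congrFun hrs 0) 1
  have h10 := congrFun (congrFun hrs 1) 0
  have h11 := congrFun (congrFun hrs 1) 1
  rw [hr1] at h00 h01 h10 h11
  apply ext2
  · rw [← h00]; simp
  · rw [← h01]; simp
  · rw [← h10]; simp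
  · rw [← h11]; simp

theorem mk_inj2 (h2 : (2 : F) = 0) (x y : SLF F)
    (h : (QuotientGroup.mk x : PSLF F) = QuotientGroup.mk y) : x = y := by
  rw [QuotientGroup.eq] at h
  have := center2 h2 _ h
  rw [inv_mul_eq_one] at this
  exact this

theorem exists_A4_even [Finite F] (h2 : (2 : F) = 0) (ω : F) (hω : ω ^ 2 + ω + 1 = 0) :
    ∃ H : Subgroup (PSLF F), Nonempty (H ≃* alternatingGroup (Fin 4)) := by
  classical
  haveI : Fintype F := Fintype.ofFinite F
  have hω3 : ω ^ 3 = 1 := by linear_combination (ω - 1) * hω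
  have hdC : ω * ω ^ 2 - 0 * 0 = 1 := by linear_combination hω3
  have rA : (mk2 1 1 0 1 (by ring) : SLF F) * mk2 1 1 0 1 (by ring) = 1 := by
    apply ext2 <;> simp [mul00, mul01, mul10, mul11, one00, one01, one10, one11]
    linear_combination h2
  have rB : (mk2 1 (ω ^ 2) 0 1 (by ring) : SLF F) * mk2 1 (ω ^ 2) 0 1 (by ring) = 1 := by
    apply ext2 <;> simp [mul00, mul01, mul10, mul11, one00, one01, one10, one11]
    linear_combination (ω ^ 2) * h2
  have rAB : (mk2 1 1 0 1 (by ring) : SLF F) * mk2 1 (ω ^ 2) 0 1 (by ring) =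
      mk2 1 (ω ^ 2) 0 1 (by ring) * mk2 1 1 0 1 (by ring) := by
    apply ext2 <;> simp [mul00, mul01, mul10, mul11]
    ring
  have rC : (mk2 ω 0 0 (ω ^ 2) hdC : SLF F) * mk2 ω 0 0 (ω ^ 2) hdC * mk2 ω 0 0 (ω ^ 2) hdC = 1 := by
    apply ext2 <;> simp only [mul00, mul01, mul10, mul11, one00, one01, one10, one11, mk2_00,
      mk2_01, mk2_10, mk2_11] <;> grind
  have rCA : (mk2 ω 0 0 (ω ^ 2) hdC : SLF F) * mk2 1 1 0 1 (by ring) =
      mk2 1 (ω ^ 2) 0 1 (by ring) * mk2 ω 0 0 (ω ^ 2) hdC := by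
    apply ext2 <;> simp only [mul00, mul01, mul10, mul11, mk2_00, mk2_01, mk2_10, mk2_11] <;>
      grind
  have rCB : (mk2 ω 0 0 (ω ^ 2) hdC : SLF F) * mk2 1 (ω ^ 2) 0 1 (by ring) =
      (mk2 1 1 0 1 (by ring) * mk2 1 (ω ^ 2) 0 1 (by ring)) * mk2 ω 0 0 (ω ^ 2) hdC := by
    apply ext2 <;> simp only [mul00, mul01, mul10, mul11, mk2_00, mk2_01, mk2_10, mk2_11] <;>
      grind
  refine A4gen (QuotientGroup.mk (mk2 1 1 0 1 (by ring) : SLF F) : PSLF F)
    (QuotientGroup.mk (mk2 1 (ω ^ 2) 0 1 (by ring) : SLF F))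
    (QuotientGroup.mk (mk2 ω 0 0 (ω ^ 2) hdC : SLF F)) ?_ ?_ ?_ ?_ ?_ ?_ ?_
  · rw [← QuotientGroup.mk_mul, rA]; rfl
  · rw [← QuotientGroup.mk_mul, rB]; rfl
  · rw [← QuotientGroup.mk_mul, ← QuotientGroup.mk_mul, rAB]
  · rw [← QuotientGroup.mk_mul, ← QuotientGroup.mk_mul, rC]; rfl
  · rw [← QuotientGroup.mk_inv, ← QuotientGroup.mk_mul, ← QuotientGroup.mk_mul]
    congr 1
    rw [rCA]; group
  · rw [← QuotientGroup.mk_inv, ← QuotientGroup.mk_mul, ← QuotientGroup.mk_mul,
      ← QuotientGroup.mk_mul]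
    congr 1
    rw [rCB]; group
  · intro h
    have := mk_inj2 h2 _ 1 h
    have h01 := congrArg (fun z : SLF F => z 0 1) this
    simp only [mk2_01, one01] at h01
    exact one_ne_zero h01

theorem prop_of_comm (h2 : (2 : F) = 0) (A B : SLF F) (hA : A * A = 1) (hB : B * B = 1)
    (hAB : A * B = B * A) (hA1 : A ≠ 1) :
    ∃ κ : F, B 0 0 + 1 = κ * (A 0 0 + 1) ∧ B 0 1 = κ * A 0 1 ∧ B 1 0 = κ * A 1 0 ∧
      B 1 1 + 1 = κ * (A 1 1 + 1) := by
  have sq_inj : ∀ u v : F, u ^ 2 = v ^ 2 → u = v := by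
    intro u v huv
    have : (u - v) ^ 2 = 0 := by linear_combination huv + (v ^ 2 - u * v) * h2
    have := pow_eq_zero_iff (two_ne_zero) |>.1 this
    linear_combination this
  have tr0 : ∀ M : SLF F, M * M = 1 → M 1 1 = M 0 0 ∧ (M 0 0) ^ 2 + M 0 1 * M 1 0 = 1 := by
    intro M hM
    have h00 := congrArg (fun z : SLF F => z 0 0) hM
    have h11 := congrArg (fun z : SLF F => z 1 1) hM
    simp only [mul00, mul11, one00, one11] at h00 h11
    have hd := det2 M
    have : M 1 1 = M 0 0 := by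
      apply sq_inj
      linear_combination h11 - h00
    refine ⟨this, ?_⟩
    linear_combination h00
  obtain ⟨a11, ha⟩ := tr0 A hA
  obtain ⟨b11, hb⟩ := tr0 B hB
  have hc := congrArg (fun z : SLF F => z 0 0) hAB
  simp only [mul00] at hc
  have hc' : A 0 1 * B 1 0 = B 0 1 * A 1 0 := by linear_combination hc
  by_cases h01 : A 0 1 = 0
  · have ha00 : A 0 0 = 1 := by
      apply sq_inj
      rw [h01] at ha
      linear_combination ha
    have h10 : A 1 0 ≠ 0 := by
      intro h10
      apply hA1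
      apply ext2
      · rw [one00]; exact ha00
      · rw [one01]; exact h01
      · rw [one10]; exact h10
      · rw [one11, a11]; exact ha00
    have hb01 : B 0 1 = 0 := by
      rw [h01, zero_mul] at hc'
      rcases mul_eq_zero.1 hc'.symm with h | h
      · exact h
      · exact absurd h h10
    have hb00 : B 0 0 = 1 := by
      apply sq_inj
      rw [hb01] at hb
      linear_combination hb
    refine ⟨B 1 0 / A 1 0, ?_, ?_, ?_, ?_⟩
    · rw [hb00, ha00]; linear_combination (1 - B 1 0 / A 1 0) * h2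
    · rw [hb01, h01]; ring
    · field_simp
    · rw [b11, a11, hb00, ha00]; linear_combination (1 - B 1 0 / A 1 0) * h2
  · have e10 : B 1 0 = B 0 1 / A 0 1 * A 1 0 := by
      field_simp
      linear_combination hc'
    have e00 : B 0 0 + 1 = B 0 1 / A 0 1 * (A 0 0 + 1) := by
      apply sq_inj
      have h1 : (B 0 0 + 1) ^ 2 = B 0 1 * B 1 0 := by
        linear_combination -hb + (B 0 0 ^ 2 + B 0 0) * h2
      have h3 : (A 0 0 + 1) ^ 2 = A 0 1 * A 1 0 := by
        linear_combination -ha + (A 0 0 ^ 2 + A 0 0) * h2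
      rw [h1, mul_pow, h3, e10]
      field_simp
    refine ⟨B 0 1 / A 0 1, e00, ?_, e10, ?_⟩
    · field_simp
    · rw [b11, a11]; exact e00

theorem kappa_eq {R : Type*} [Ring R] [Algebra F R] (h2R : ∀ Y : R, Y + Y = 0) (κ : F)
    (X A B C C' : R) (hA : A = X + 1) (hB : B = κ • X + 1) (hXX : X * X = 0)
    (hCC : C * C' = 1) (hCA : C * A * C' = B) (hCB : C * B * C' = A * B) :
    (κ ^ 2 + κ + 1) • X = 0 := by
  have h1 : C * X * C' = κ • X := by
    rw [hA, hB, mul_add, add_mul, mul_one, hCC] at hCA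
    exact add_right_cancel hCA
  have h3 : C * B * C' = κ • (κ • X) + 1 := by
    rw [hB, mul_add, add_mul, mul_one, hCC, mul_smul_comm, smul_mul_assoc, h1]
  have h4 : A * B = X + κ • X + 1 := by
    rw [hA, hB, add_mul, mul_add, mul_add, one_mul, mul_one, mul_one, mul_smul_comm, hXX,
      smul_zero, zero_add]
    abel
  have h5 : κ • (κ • X) = X + κ • X := by
    rw [h3, h4] at hCB
    exact add_right_cancel hCB
  have e : (κ ^ 2 + κ + 1) • X = κ • (κ • X) + (X + κ • X) := by module
  rw [e, h5]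
  exact h2R _

end even

theorem A4_elts : ∃ a c : alternatingGroup (Fin 4), a * a = 1 ∧ a ≠ 1 ∧
    a * (c * a * c⁻¹) = (c * a * c⁻¹) * a ∧ c * (c * a * c⁻¹) * c⁻¹ = a * (c * a * c⁻¹) := by
  refine ⟨⟨Equiv.swap 0 1 * Equiv.swap 2 3, Equiv.Perm.mem_alternatingGroup.2 (by decide)⟩,
    ⟨Equiv.swap 0 1 * Equiv.swap 1 2, Equiv.Perm.mem_alternatingGroup.2 (by decide)⟩, ?_⟩
  decide

section numtheory
variable {F : Type*} [Field F] [Fintype F]

theorem no_omega (n : ℕ) (hF : Fintype.card F = 2 ^ n) (hn : Odd n) (h2 : (2 : F) = 0) (κ : F)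
    (hκ : κ ^ 2 + κ + 1 = 0) : False := by
  have hκ3 : κ ^ 3 = 1 := by linear_combination (κ - 1) * hκ
  have hκ1 : κ ≠ 1 := by
    rintro rfl
    have : (1 : F) = 0 := by linear_combination hκ - h2
    exact one_ne_zero this
  have hκ0 : κ ≠ 0 := by
    rintro rfl
    simp at hκ3
  haveI : Fact (Nat.Prime 3) := ⟨Nat.prime_three⟩
  have hord : orderOf κ = 3 := orderOf_eq_prime hκ3 hκ1
  have h1 := FiniteField.pow_card_sub_one_eq_one κ hκ0
  have hdvd : 3 ∣ Fintype.card F - 1 := by rw [← hord]; exact orderOf_dvd_of_pow_eq_one h1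
  rw [hF] at hdvd
  have hmod : 2 ^ n % 3 = 2 := by
    obtain ⟨k, rfl⟩ := hn
    rw [pow_succ, pow_mul, Nat.mul_mod, Nat.pow_mod]
    norm_num
  have hpos : 0 < 2 ^ n := by positivity
  obtain ⟨j, hj⟩ := hdvd
  generalize 2 ^ n = N at *
  omega

theorem exists_omega (n : ℕ) (hF : Fintype.card F = 2 ^ n) (hn : Even n) :
    ∃ ω : F, ω ^ 2 + ω + 1 = 0 := by
  classical
  haveI : Fact (Nat.Prime 3) := ⟨Nat.prime_three⟩
  have hmod : 2 ^ n % 3 = 1 := by
    obtain ⟨k, rfl⟩ := hn
    rw [← two_mul, pow_mul, Nat.pow_mod]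
    norm_num
  have hdvd : 3 ∣ Fintype.card Fˣ := by
    rw [Fintype.card_units, hF]
    have hpos : 0 < 2 ^ n := by positivity
    generalize 2 ^ n = N at *
    omega
  obtain ⟨x, hx⟩ := exists_prime_orderOf_dvd_card 3 hdvd
  refine ⟨(x : F), ?_⟩
  have hx3 : (x : F) ^ 3 = 1 := by
    have : x ^ 3 = 1 := by rw [← hx]; exact pow_orderOf_eq_one x
    have h := congrArg Units.val this
    simpa using h
  have hx1 : (x : F) ≠ 1 := by
    intro h
    have : x = 1 := Units.ext h
    rw [this, orderOf_one] at hx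
    omega
  have : ((x : F) - 1) * ((x : F) ^ 2 + x + 1) = 0 := by linear_combination hx3
  rcases mul_eq_zero.1 this with h | h
  · exact absurd (sub_eq_zero.1 h) hx1
  · exact h

end numtheory

/-- PSL_2(p^n) has a subgroup isomorphic to A_4 if and only if it is not the case that p = 2 and n is odd. -/
theorem result {F : Type*} [Field F] [Fintype F] (p n : ℕ) [Fact p.Prime] [CharP F p] (hF : Fintype.card F = p ^ n) : (∃ H : Subgroup (Matrix.ProjectiveSpecialLinearGroup (Fin 2) F), Nonempty (H ≃* alternatingGroup (Fin 4))) ↔ ¬ (p = 2 ∧ Odd n) := by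
  constructor
  · rintro ⟨H, ⟨e⟩⟩ ⟨hp, hn⟩
    subst hp
    have h2 : (2 : F) = 0 := by exact_mod_cast CharP.cast_eq_zero F 2
    obtain ⟨a', c', r1, r2, r3, r4⟩ := A4_elts
    obtain ⟨A, hA⟩ := QuotientGroup.mk_surjective ((e.symm a' : H) : PSLF F)
    obtain ⟨C, hC⟩ := QuotientGroup.mk_surjective ((e.symm c' : H) : PSLF F)
    have hAA : A * A = 1 := by
      apply mk_inj2 h2
      have := congrArg (fun u => ((e.symm u : H) : PSLF F)) r1
      simp only [map_mul, map_one, Subgroup.coe_mul, Subgroup.coe_one] at this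
      rw [QuotientGroup.mk_mul, hA]
      exact this
    have hA1 : A ≠ 1 := by
      intro h
      apply r2
      apply e.symm.injective
      apply Subtype.ext
      rw [← hA, h, map_one]
      rfl
    have hcomm : A * (C * A * C⁻¹) = (C * A * C⁻¹) * A := by
      apply mk_inj2 h2
      have := congrArg (fun u => ((e.symm u : H) : PSLF F)) r3
      simp only [map_mul, map_inv, Subgroup.coe_mul, Subgroup.coe_inv] at this
      simp only [QuotientGroup.mk_mul, QuotientGroup.mk_inv, hA, hC]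
      exact this
    have hconj : C * (C * A * C⁻¹) * C⁻¹ = A * (C * A * C⁻¹) := by
      apply mk_inj2 h2
      have := congrArg (fun u => ((e.symm u : H) : PSLF F)) r4
      simp only [map_mul, map_inv, Subgroup.coe_mul, Subgroup.coe_inv] at this
      simp only [QuotientGroup.mk_mul, QuotientGroup.mk_inv, hA, hC]
      exact this
    have hBB : (C * A * C⁻¹) * (C * A * C⁻¹) = 1 := by
      calc (C * A * C⁻¹) * (C * A * C⁻¹) = C * (A * A) * C⁻¹ := by group
        _ = 1 := by rw [hAA]; group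
    obtain ⟨κ, k00, k01, k10, k11⟩ := prop_of_comm h2 A (C * A * C⁻¹) hAA hBB hcomm hA1
    have h2R : ∀ Y : Matrix (Fin 2) (Fin 2) F, Y + Y = 0 := by
      intro Y
      ext i j
      simp only [Matrix.add_apply, Matrix.zero_apply]
      linear_combination (Y i j) * h2
    have hAAm : A.val * A.val = 1 := by
      rw [← Matrix.SpecialLinearGroup.coe_mul, hAA]; rfl
    have key := kappa_eq (R := Matrix (Fin 2) (Fin 2) F) h2R κ (A.val + 1) A.val
      (C * A * C⁻¹).val C.val (C⁻¹).val ?_ ?_ ?_ ?_ ?_ ?_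
    · rcases smul_eq_zero.1 key with h | h
      · exact no_omega n hF hn h2 κ h
      · apply hA1
        apply Subtype.ext
        calc A.val = (A.val + 1) + 1 := by rw [add_assoc, h2R 1, add_zero]
          _ = 1 := by rw [h, zero_add]
    · rw [add_assoc, h2R 1, add_zero]
    · ext i j
      fin_cases i <;> fin_cases j <;>
        simp only [Fin.zero_eta, Fin.mk_one, Matrix.add_apply, Matrix.smul_apply, smul_eq_mul,
          Matrix.one_apply_eq, Matrix.one_apply_ne, ne_eq, zero_ne_one, one_ne_zero,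
          not_false_eq_true, add_zero]
      · linear_combination k00 - h2
      · exact k01
      · exact k10
      · linear_combination k11 - h2
    · calc (A.val + 1) * (A.val + 1) = A.val * A.val + (A.val + A.val) + 1 := by noncomm_ring
        _ = 0 := by rw [hAAm, h2R, add_zero, h2R]
    · rw [← Matrix.SpecialLinearGroup.coe_mul, mul_inv_cancel]; rfl
    · rw [← Matrix.SpecialLinearGroup.coe_mul, ← Matrix.SpecialLinearGroup.coe_mul]
    · rw [← Matrix.SpecialLinearGroup.coe_mul, ← Matrix.SpecialLinearGroup.coe_mul,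
        ← Matrix.SpecialLinearGroup.coe_mul, hconj]
  · intro h
    by_cases hp : p = 2
    · subst hp
      have hn : Even n := by
        rcases Nat.even_or_odd n with h' | h'
        · exact h'
        · exact absurd ⟨rfl, h'⟩ h
      have h2 : (2 : F) = 0 := by exact_mod_cast CharP.cast_eq_zero F 2
      obtain ⟨ω, hω⟩ := exists_omega n hF hn
      exact exists_A4_even h2 ω hω
    · have h2 : (2 : F) ≠ 0 := by
        intro h2
        have h3 : (p : ℕ) ∣ 2 := (CharP.cast_eq_zero_iff F p 2).1 (by exact_mod_cast h2)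
        have := (Nat.prime_dvd_prime_iff_eq (Fact.out) Nat.prime_two).1 h3
        exact hp this
      exact exists_A4_odd h2

end Cfsg.Agent.S0802
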