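import Cfsg.Statements.S0265
import Mathlib

set_option autoImplicit false
open Cfsg

namespace Cfsg.Agent.S0265

open Matrix in
/-- |PGL_n(q)| = |SL_n(q)|: GL_n modulo its centre (the q-1 non-zero scalars) has the same order as the kernel of det. -/
theorem result {F : Type*} [Field F] [Fintype F] (n : ℕ) : Nat.card (Matrix.ProjGenLinGroup (Fin n) F) = Nat.card (Matrix.SpecialLinearGroup (Fin n) F) := by
  classical
  rcases Nat.eq_zero_or_pos n with rfl | hn
  · have h1 : Subsingleton (Matrix.ProjGenLinGroup (Fin 0) F) :=
      Matrix.ProjGenLinGroup.mk_surjective.subsingleton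
    have h2 : Subsingleton (Matrix.SpecialLinearGroup (Fin 0) F) := by
      constructor
      intro a b
      apply Subtype.ext
      ext i j
      exact i.elim0
    rw [Nat.card_unique, Nat.card_unique]
  · have : Nonempty (Fin n) := ⟨⟨0, hn⟩⟩
    have h1 : Nat.card (GL (Fin n) F) = Nat.card (Matrix.ProjGenLinGroup (Fin n) F) *
        Nat.card (Subgroup.center (GL (Fin n) F)) :=
      Subgroup.card_eq_card_quotient_mul_card_subgroup _
    have hinj : Function.Injective (Matrix.GeneralLinearGroup.scalar (Fin n) : Fˣ →* GL (Fin n) F) := by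
      intro a b hab
      have := congrArg (fun g : GL (Fin n) F => (g : Matrix (Fin n) (Fin n) F) ⟨0, hn⟩ ⟨0, hn⟩) hab
      simp [Matrix.GeneralLinearGroup.coe_scalar] at this
      exact Units.ext this
    have h2 : Nat.card (Subgroup.center (GL (Fin n) F)) = Nat.card Fˣ := by
      rw [Matrix.GeneralLinearGroup.center_eq_range_scalar]
      exact (Nat.card_congr (Equiv.ofInjective _ hinj)).symm
    have h3 : Nat.card (GL (Fin n) F) = Nat.card Fˣ *
        Nat.card (Matrix.GeneralLinearGroup.det : GL (Fin n) F →* Fˣ).ker := by
      rw [Subgroup.card_eq_card_quotient_mul_card_subgroup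
        (Matrix.GeneralLinearGroup.det : GL (Fin n) F →* Fˣ).ker]
      congr 1
      exact Nat.card_congr (QuotientGroup.quotientKerEquivOfSurjective _
        Matrix.GeneralLinearGroup.det_surjective).toEquiv
    have h4 : Nat.card (Matrix.GeneralLinearGroup.det : GL (Fin n) F →* Fˣ).ker =
        Nat.card (Matrix.SpecialLinearGroup (Fin n) F) := by
      have hr : (Matrix.GeneralLinearGroup.det : GL (Fin n) F →* Fˣ).ker =
          (Matrix.SpecialLinearGroup.toGL : Matrix.SpecialLinearGroup (Fin n) F →* GL (Fin n) F).range := by
        ext g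
        constructor
        · intro hg
          rw [MonoidHom.mem_ker] at hg
          have hd : (g : Matrix (Fin n) (Fin n) F).det = 1 := by
            have := congrArg Units.val hg
            simpa using this
          exact ⟨⟨g.val, hd⟩, Units.ext rfl⟩
        · rintro ⟨s, rfl⟩
          rw [MonoidHom.mem_ker]
          apply Units.ext
          simp
      rw [hr]
      exact (Nat.card_congr (Equiv.ofInjective _ Matrix.SpecialLinearGroup.toGL_injective)).symm
    have hpos : 0 < Nat.card Fˣ := Nat.card_pos
    rw [h2, h3, h4, mul_comm] at h1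
    exact (Nat.eq_of_mul_eq_mul_right hpos h1).symm

end Cfsg.Agent.S0265
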