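import Cfsg.Statements.S0805
import Mathlib
import Cfsg.Agent.S0242
import Cfsg.Agent.S0243
import Cfsg.Agent.S0265

set_option autoImplicit false
open Cfsg

namespace Cfsg.Agent.S0805

open Matrix

theorem exists_sub {A B C : Type*} [Group A] [Group B] [Group C] (f : A →* C) (j : B →* C)
    (hf : Function.Injective f) (hj : Function.Injective j) (h : f.range ≤ j.range) :
    ∃ H : Subgroup B, Nonempty (H ≃* A) := by
  refine ⟨f.range.comap j, ⟨?_⟩⟩
  have e1 : (f.range.comap j) ≃* (f.range.comap j).map j := Subgroup.equivMapOfInjective _ j hj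
  have e2 : (f.range.comap j).map j = f.range := Subgroup.map_comap_eq_self h
  exact e1.trans ((MulEquiv.subgroupCongr e2).trans (MonoidHom.ofInjective hf).symm)

theorem exists_hom {F K : Type*} [Field F] [Fintype F] [Field K] [Fintype K] (m : ℕ) (hm : 1 ≤ m)
    (hK : Fintype.card K ^ m = Fintype.card F) : Nonempty (K →+* F) := by
  obtain ⟨p, hp⟩ := CharP.exists K
  obtain ⟨p', hp'⟩ := CharP.exists F
  obtain ⟨a, hpprime, ha⟩ := FiniteField.card K p
  obtain ⟨b, hp'prime, hb⟩ := FiniteField.card F p'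
  have hpp : p' = p := by
    have h1 : p' ∣ Fintype.card K ^ m := by
      rw [hK, hb]; exact dvd_pow_self _ b.ne_zero
    have h2 : p' ∣ Fintype.card K := hp'prime.dvd_of_dvd_pow h1
    rw [ha] at h2
    exact (Nat.prime_dvd_prime_iff_eq hp'prime hpprime).1 (hp'prime.dvd_of_dvd_pow h2)
  subst hpp
  haveI : Fact p'.Prime := ⟨hpprime⟩
  letI := ZMod.algebra K p'
  letI := ZMod.algebra F p'
  have hcK : Fintype.card K = p' ^ Module.finrank (ZMod p') K := by
    rw [Module.card_eq_pow_finrank (K := ZMod p') (V := K)]; simp [ZMod.card]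
  have hcF : Fintype.card F = p' ^ Module.finrank (ZMod p') F := by
    rw [Module.card_eq_pow_finrank (K := ZMod p') (V := F)]; simp [ZMod.card]
  have hdvd : Module.finrank (ZMod p') K ∣ Module.finrank (ZMod p') F := by
    rw [hcK, hcF, ← pow_mul] at hK
    have := Nat.pow_right_injective hpprime.two_le hK
    exact ⟨m, this.symm⟩
  obtain ⟨f⟩ := FiniteField.nonempty_algHom_of_finrank_dvd (F := ZMod p') hdvd
  exact ⟨f.toRingHom⟩

theorem pglmap_inj {F K : Type*} [Field F] [Field K] (φ : K →+* F) :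
    Function.Injective (ProjGenLinGroup.map (n := Fin 2) φ) := by
  rw [injective_iff_map_eq_one]
  intro g hg
  induction g using Matrix.ProjGenLinGroup.induction_on with | mk g =>
  rw [ProjGenLinGroup.map_mk, ProjGenLinGroup.mk_eq_one,
    GeneralLinearGroup.center_eq_range_scalar] at hg
  obtain ⟨u, hu⟩ := hg
  rw [ProjGenLinGroup.mk_eq_one, GeneralLinearGroup.center_eq_range_scalar]
  have hinj := φ.injective
  have key : ∀ i j, (if i = j then (u : F) else 0) = φ (g.1 i j) := by
    intro i j
    have := congrArg (fun M : GL (Fin 2) F => M.1 i j) hu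
    simpa [GeneralLinearGroup.coe_scalar, Matrix.diagonal_apply] using this
  have h01 : g.1 0 1 = 0 := by
    have := key 0 1
    simp at this
    exact hinj (by rw [← this, map_zero])
  have h10 : g.1 1 0 = 0 := by
    have := key 1 0
    simp at this
    exact hinj (by rw [← this, map_zero])
  have h11 : g.1 1 1 = g.1 0 0 := by
    have h1 := key 0 0
    have h2 := key 1 1
    simp at h1 h2
    exact hinj (by rw [← h1, ← h2])
  have h00 : g.1 0 0 ≠ 0 := by
    intro h
    have h1 := key 0 0
    simp [h] at h1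
  refine ⟨Units.mk0 (g.1 0 0) h00, ?_⟩
  ext i j
  fin_cases i <;> fin_cases j <;> simp [GeneralLinearGroup.coe_scalar, Matrix.diagonal_apply, h01, h10, h11]


theorem rangeA {F K : Type*} [Field F] [Field K] (φ : K →+* F) :
    ((ProjGenLinGroup.map (n := Fin 2) φ).comp (ProjectiveSpecialLinearGroup.toPGL)).range ≤
      (ProjectiveSpecialLinearGroup.toPGL (n := Fin 2) (R := F)).range := by
  rintro _ ⟨g, rfl⟩
  induction g using QuotientGroup.induction_on with | H g =>
  refine ⟨QuotientGroup.mk (SpecialLinearGroup.map φ g), ?_⟩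
  change ProjGenLinGroup.mk (SpecialLinearGroup.toGL (SpecialLinearGroup.map φ g)) =
    ProjGenLinGroup.mk (GeneralLinearGroup.map φ (SpecialLinearGroup.toGL g))
  congr 1
  ext i j
  simp [GeneralLinearGroup.map_apply]

theorem rangeB {F K : Type*} [Field F] [Field K] (φ : K →+* F)
    (hsq : ∀ d : K, d ≠ 0 → ∃ r : F, r * r = φ d) :
    (ProjGenLinGroup.map (n := Fin 2) φ).range ≤
      (ProjectiveSpecialLinearGroup.toPGL (n := Fin 2) (R := F)).range := by
  rintro _ ⟨g, rfl⟩
  induction g using Matrix.ProjGenLinGroup.induction_on with | mk g =>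
  have hdet : g.1.det ≠ 0 := (GeneralLinearGroup.det g).ne_zero
  obtain ⟨r, hr⟩ := hsq g.1.det hdet
  have hr0 : r ≠ 0 := by
    rintro rfl
    simp only [mul_zero] at hr
    exact hdet (φ.injective (by rw [← hr, map_zero]))
  have hS : (r⁻¹ • (g.1.map φ)).det = 1 := by
    have h1 : (g.1.map φ).det = φ g.1.det := by
      rw [RingHom.map_det]; rfl
    rw [Matrix.det_smul, Fintype.card_fin, h1, ← hr]
    field_simp
  let S : SpecialLinearGroup (Fin 2) F := ⟨r⁻¹ • (g.1.map φ), hS⟩
  refine ⟨QuotientGroup.mk S, ?_⟩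
  rw [ProjGenLinGroup.map_mk]
  change ProjGenLinGroup.mk (SpecialLinearGroup.toGL S) = _
  rw [ProjGenLinGroup.mk_eq_mk_iff]
  refine ⟨Units.mk0 r hr0, ?_⟩
  ext i j
  simp [GeneralLinearGroup.coe_scalar, S, GeneralLinearGroup.map_apply, Matrix.mul_apply, Matrix.diagonal_apply]
  change (r⁻¹ • (g.1.map φ)) i j * r = _
  simp [Matrix.smul_apply]
  field_simp

theorem pow_succ_form (a : ℕ) (ha : Even a) (m : ℕ) :
    ∃ S, (a + 1) ^ m = 1 + a * S ∧ S % 2 = m % 2 := by
  induction m with
  | zero => exact ⟨0, by simp, rfl⟩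
  | succ n ih =>
    obtain ⟨S, hS, hpar⟩ := ih
    refine ⟨1 + (a + 1) * S, ?_, ?_⟩
    · rw [pow_succ, hS]; ring
    · obtain ⟨c, rfl⟩ := ha
      have : (1 + (c + c + 1) * S) = 2 * (c * S) + (S + 1) := by ring
      omega

/-- Subfield subgroups: let F be a finite field of odd order q and K a finite field with |K|^m = q, m ≥ 1. Then PSL_2(F) has a subgroup isomorphic to PSL_2(K), and has a subgroup isomorphic to PGL_2(K) if and only if m is even. -/
theorem result {F K : Type*} [Field F] [Fintype F] [Field K] [Fintype K] {q : ℕ} (hF : Fintype.card F = q) (hodd : Odd q) (m : ℕ) (hm : 1 ≤ m) (hK : Fintype.card K ^ m = q) : (∃ H : Subgroup (Matrix.ProjectiveSpecialLinearGroup (Fin 2) F), Nonempty (H ≃* Matrix.ProjectiveSpecialLinearGroup (Fin 2) K)) ∧ ((∃ H : Subgroup (Matrix.ProjectiveSpecialLinearGroup (Fin 2) F), Nonempty (H ≃* Matrix.ProjGenLinGroup (Fin 2) K)) ↔ Even m) := by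
  classical
  subst hF
  obtain ⟨φ⟩ := exists_hom (F := F) (K := K) m hm hK
  have hk2 : 2 ≤ Fintype.card K := Fintype.one_lt_card
  have hkodd : Odd (Fintype.card K) := by
    rw [← hK] at hodd
    by_contra h
    rw [Nat.not_odd_iff_even] at h
    have h2 : Even (Fintype.card K ^ m) := (Nat.even_pow.2 ⟨h, by omega⟩)
    exact (Nat.not_odd_iff_even.2 h2) hodd
  obtain ⟨c, hc⟩ := hkodd
  have hc1 : 1 ≤ c := by omega
  have hk1 : Fintype.card K - 1 = 2 * c := by omega
  have hasq : Fintype.card K ^ 2 = 4 * c * (c + 1) + 1 := by rw [hc]; ring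
  have haeven : Even (4 * c * (c + 1)) := ⟨2 * c * (c + 1), by ring⟩
  refine ⟨exists_sub ((ProjGenLinGroup.map (n := Fin 2) φ).comp
    ProjectiveSpecialLinearGroup.toPGL) ProjectiveSpecialLinearGroup.toPGL
    ((pglmap_inj φ).comp ProjectiveSpecialLinearGroup.toPGL_injective)
    ProjectiveSpecialLinearGroup.toPGL_injective (rangeA φ), ?_⟩
  constructor
  · rintro ⟨H, ⟨e⟩⟩
    by_contra hmo
    have hmodd : m % 2 = 1 := by
      rcases Nat.even_or_odd m with h | h
      · exact absurd h hmo
      · exact Nat.odd_iff.1 h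
    have hP := Cfsg.Agent.S0243.result (F := F) rfl 2 le_rfl
    have hS := Cfsg.Agent.S0242.result (F := K) rfl 2 (by norm_num)
    have hPGL := Cfsg.Agent.S0265.result (F := K) 2
    have hdvd : Nat.card (ProjGenLinGroup (Fin 2) K) ∣
        Nat.card (ProjectiveSpecialLinearGroup (Fin 2) F) := by
      rw [← Nat.card_congr e.toEquiv]; exact Subgroup.card_subgroup_dvd_card H
    rw [hPGL] at hdvd
    obtain ⟨t, ht⟩ := hdvd
    obtain ⟨S, hSq, hSpar⟩ := pow_succ_form (4 * c * (c + 1)) haeven m
    rw [← hasq, ← pow_mul] at hSq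
    have hq2 : Fintype.card F ^ 2 = 1 + 4 * c * (c + 1) * S := by
      rw [← hK, ← pow_mul, mul_comm]; exact hSq
    obtain ⟨q', hq'⟩ : ∃ q', Fintype.card F = q' + 1 :=
      ⟨Fintype.card F - 1, by have : 2 ≤ Fintype.card F := Fintype.one_lt_card; omega⟩
    have hq'pos : 1 ≤ q' := by have : 2 ≤ Fintype.card F := Fintype.one_lt_card; omega
    have hq'even : q' % 2 = 0 := by
      rw [hq'] at hodd
      have := Nat.odd_iff.1 hodd
      omega
    rw [Fin.prod_univ_two] at hP hS
    simp only [Fin.val_zero, Fin.val_one, pow_zero, pow_one] at hP hS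
    -- G = a * k
    have hG : Nat.card (SpecialLinearGroup (Fin 2) K) = 4 * c * (c + 1) * (2 * c + 1) := by
      rw [hk1, hasq, hc] at hS
      have h1 : 4 * c * (c + 1) + 1 - 1 = 4 * c * (c + 1) := by omega
      have h2 : 4 * c * (c + 1) + 1 - (2 * c + 1) = (2 * c + 1) * (2 * c) := by
        have : 4 * c * (c + 1) + 1 = (2 * c + 1) * (2 * c) + (2 * c + 1) := by ring
        omega
      rw [h1, h2] at hS
      have h3 : (2 * c) * Nat.card (SpecialLinearGroup (Fin 2) K) =
          (2 * c) * (4 * c * (c + 1) * (2 * c + 1)) := by rw [hS]; ring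
      exact Nat.eq_of_mul_eq_mul_left (by omega) h3
    have hgcd : Nat.gcd 2 (Fintype.card F - 1) = 2 := by
      rw [hq', Nat.add_sub_cancel]
      exact Nat.gcd_eq_left (Nat.dvd_of_mod_eq_zero hq'even)
    rw [hgcd, hq2] at hP
    have h4 : 1 + 4 * c * (c + 1) * S - 1 = 4 * c * (c + 1) * S := by omega
    have h5 : 1 + 4 * c * (c + 1) * S - Fintype.card F = (q' + 1) * q' := by
      rw [← hq2, hq']
      have : (q' + 1) ^ 2 = (q' + 1) * q' + (q' + 1) := by ring
      omega
    rw [h4, h5, hq', Nat.add_sub_cancel, ht, hG] at hP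
    have h6 : (q' * (4 * c * (c + 1))) * (2 * ((2 * c + 1) * t)) =
        (q' * (4 * c * (c + 1))) * (S * (q' + 1)) := by
      linarith
    have h7 : 2 * ((2 * c + 1) * t) = S * (q' + 1) :=
      Nat.eq_of_mul_eq_mul_left (by positivity) h6
    have h8 : (S * (q' + 1)) % 2 = 1 := by
      rw [Nat.mul_mod]
      have : (q' + 1) % 2 = 1 := by omega
      rw [this, hSpar, hmodd]
    omega
  · rintro ⟨j, hj⟩
    have hsq : ∀ d : K, d ≠ 0 → ∃ r : F, r * r = φ d := by
      intro d hd
      have hchar : ringChar F ≠ 2 := by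
        intro h
        have h1 := FiniteField.even_card_of_char_two h
        have h2 := Nat.odd_iff.1 hodd
        omega
      have hφd : φ d ≠ 0 := by
        intro h
        exact hd (φ.injective (by rw [h, map_zero]))
      have := (FiniteField.isSquare_iff hchar hφd).2 ?_
      · obtain ⟨r, hr⟩ := this; exact ⟨r, hr.symm⟩
      · have h1 : d ^ (Fintype.card K - 1) = 1 := FiniteField.pow_card_sub_one_eq_one d hd
        obtain ⟨S, hSq, -⟩ := pow_succ_form (4 * c * (c + 1)) haeven j
        rw [← hasq, ← pow_mul] at hSq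
        have hq : Fintype.card F = 1 + 4 * c * (c + 1) * S := by
          rw [← hK, hj, ← two_mul]; exact hSq
        have ht : Fintype.card F / 2 = (Fintype.card K - 1) * ((c + 1) * S) := by
          rw [hq, hk1]
          have : 1 + 4 * c * (c + 1) * S = 1 + 2 * (2 * c * ((c + 1) * S)) := by ring
          omega
        rw [ht, pow_mul, ← map_pow, h1, map_one, one_pow]
    exact exists_sub (ProjGenLinGroup.map (n := Fin 2) φ) ProjectiveSpecialLinearGroup.toPGL
      (pglmap_inj φ) ProjectiveSpecialLinearGroup.toPGL_injective (rangeB φ hsq)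

end Cfsg.Agent.S0805
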