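import Cfsg.Statements.S0804
import Mathlib
import Cfsg.Agent.Lib.Helper19.DkJ
import Cfsg.Agent.Lib.Helper19.A5P

set_option autoImplicit false
open Cfsg

namespace Cfsg.Agent.S0804

open Cfsg.Agent.Lib.Helper19.Dk Cfsg.Agent.S0809 Cfsg.Agent.Lib.Helper19.A5P

section Mat

variable {F : Type*} [Field F]

theorem isSc_sq_of_tr (a : S2 F) (h : tr a = 0) : IsSc (a * a) := by
  unfold tr at h
  have h11 : a 1 1 = - a 0 0 := by linear_combination h
  refine ⟨?_, ?_, ?_⟩ <;> simp only [mul00, mul01, mul10, mul11, h11] <;> ring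

theorem isSc_cube_of_tr (m : S2 F) (h : tr m = 1) : IsSc (m * m * m) := by
  unfold tr at h
  have hd := det2 m
  refine ⟨?_, ?_, ?_⟩ <;> simp only [mul00, mul01, mul10, mul11]
  · linear_combination m 0 1 * (m 0 0 + m 1 1 + 1) * h - m 0 1 * hd
  · linear_combination m 1 0 * (m 0 0 + m 1 1 + 1) * h - m 1 0 * hd
  · linear_combination (m 0 0 - m 1 1) * (m 0 0 + m 1 1 + 1) * h - (m 0 0 - m 1 1) * hd

theorem exists_conj_10 (x : S2 F) (hx : ¬ IsSc x) : ∃ g : S2 F, (g * x * g⁻¹) 1 0 ≠ 0 := by
  by_cases h10 : x 1 0 = 0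
  · by_cases h01 : x 0 1 = 0
    · refine ⟨ll 1, ?_⟩
      have hne : x 0 0 ≠ x 1 1 := fun h => hx ⟨h01, h10, h⟩
      rw [ll_inv]
      simp only [mul10, mul00, mul01, mul11, ll_00, ll_01, ll_10, ll_11, h10, h01]
      intro h
      apply hne
      linear_combination h
    · refine ⟨Jm, ?_⟩
      simp only [mul10, mul00, mul01, mul11, inv00, inv10, Jm, mk2_00, mk2_01, mk2_10, mk2_11]
      intro h
      apply h01
      linear_combination -h
  · exact ⟨1, by simpa using h10⟩

theorem uu_pow (b : F) (n : ℕ) : uu b ^ n = uu (n * b) := by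
  induction n with
  | zero => simp [uu_zero]
  | succ k ih => rw [pow_succ, ih, uu_mul]; congr 1; push_cast; ring

/-- solving the conic -/
theorem exists_a [Fintype F] (x : S2 F) (hx : tr x ^ 2 ≠ 4) (h10 : x 1 0 ≠ 0) :
    ∃ a : S2 F, tr a = 0 ∧ tr (a * x) = 1 := by
  have hd := det2 x
  by_cases h2 : (2 : F) = 0
  · have hneg : (-1 : F) = 1 := by linear_combination -h2
    refine ⟨mk2 1 ((1 - (x 0 0 - x 1 1)) / x 1 0) 0 (-1) (by rw [hneg]; ring), ?_, ?_⟩
    · unfold tr; simp
    · unfold tr
      simp only [mul00, mul11, mk2_00, mk2_01, mk2_10, mk2_11]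
      field_simp
      ring
  · set r := x 1 0 with hr
    set δ := x 0 0 - x 1 1 with hδ
    set Δ := tr x ^ 2 - 4 with hΔ
    have hΔ0 : Δ ≠ 0 := sub_ne_zero.2 hx
    have hΔ' : Δ = δ ^ 2 + 4 * x 0 1 * r := by
      rw [hΔ, hδ, hr]; unfold tr; linear_combination 4 * hd
    have hodd : Fintype.card F % 2 = 1 := by
      obtain ⟨p, hp⟩ := CharP.exists F
      haveI : Fact p.Prime := ⟨CharP.char_is_prime F p⟩
      exact Nat.odd_iff.1 (q_odd p h2)
    obtain ⟨A, G, hAG⟩ := FiniteField.exists_root_sum_quadratic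
      (f := Polynomial.C Δ * Polynomial.X ^ 2 + Polynomial.C 0 * Polynomial.X
        + Polynomial.C (4 * r ^ 2 * (1 + Δ)))
      (g := Polynomial.C (-1) * Polynomial.X ^ 2 + Polynomial.C 0 * Polynomial.X + Polynomial.C 0)
      (Polynomial.degree_quadratic hΔ0) (Polynomial.degree_quadratic (by norm_num)) hodd
    simp only [Polynomial.eval_add, Polynomial.eval_mul, Polynomial.eval_C, Polynomial.eval_pow,
      Polynomial.eval_X] at hAG
    set γ := (G + 2 * r) / Δ with hγ
    set α := (A + δ * γ) / (2 * r) with hα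
    set β := (1 - α * δ - γ * x 0 1) / r with hβ
    have hGe : G = Δ * γ - 2 * r := by rw [hγ]; field_simp; ring
    have hAe : A = 2 * r * α - δ * γ := by rw [hα]; field_simp; ring
    have hβe : β * r = 1 - α * δ - γ * x 0 1 := by rw [hβ]; field_simp
    have hE : r * α ^ 2 - δ * α * γ - x 0 1 * γ ^ 2 + γ + r = 0 := by
      have h4 : (4 : F) ≠ 0 := by
        have : (4 : F) = 2 * 2 := by norm_num
        rw [this]; exact mul_ne_zero h2 h2
      have : 4 * r * Δ * (r * α ^ 2 - δ * α * γ - x 0 1 * γ ^ 2 + γ + r) = 0 := by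
        rw [hGe, hAe] at hAG
        linear_combination hAG + (Δ * γ ^ 2) * hΔ'
      rcases mul_eq_zero.1 this with h | h
      · exact absurd h (mul_ne_zero (mul_ne_zero h4 h10) hΔ0)
      · exact h
    have hdet : α * (-α) - β * γ = 1 := by
      have : r * (α * (-α) - β * γ - 1) = 0 := by
        linear_combination -hE - γ * hβe
      rcases mul_eq_zero.1 this with h | h
      · exact absurd h h10
      · linear_combination h
    refine ⟨mk2 α β γ (-α) hdet, ?_, ?_⟩
    · unfold tr; simp
    · unfold tr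
      simp only [mul00, mul11, mk2_00, mk2_01, mk2_10, mk2_11]
      linear_combination hβe

end Mat

/-- PSL_2(q) has a subgroup isomorphic to A_5 iff 5 ∣ q(q² − 1). -/
theorem result {F : Type*} [Field F] [Fintype F] {q : ℕ} (hF : Fintype.card F = q) : (∃ H : Subgroup (Matrix.ProjectiveSpecialLinearGroup (Fin 2) F), Nonempty (H ≃* alternatingGroup (Fin 5))) ↔ 5 ∣ q * (q ^ 2 - 1) := by
  classical
  obtain ⟨p, hp⟩ := CharP.exists F
  haveI : Fact p.Prime := ⟨CharP.char_is_prime F p⟩
  have hN := card_P2 (F := F)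
  rw [hF] at hN
  constructor
  · rintro ⟨H, ⟨e⟩⟩
    have hc : Nat.card H = 60 := by
      rw [Nat.card_congr e.toEquiv, nat_card_alternatingGroup]
      simp
      decide
    have h1 : Nat.card H ∣ Nat.card (P2 F) := Subgroup.card_subgroup_dvd_card H
    rw [hc] at h1
    rw [← hN]
    exact Dvd.dvd.mul_left (dvd_trans (by norm_num) h1) _
  · intro h5
    -- it suffices to produce the generators
    suffices hs : ∃ a x : S2 F, IsSc (a * a) ∧ x ^ 5 = 1 ∧ IsSc (a * x * (a * x) * (a * x)) ∧
        ¬ IsSc x by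
      obtain ⟨a, x, h1, h2, h3, h4⟩ := hs
      refine ⟨Subgroup.closure {prj F a, prj F x}, ?_⟩
      apply a5_of_rel
      · rw [← map_mul]; exact (prj_eq_one_iff _).2 h1
      · rw [← map_pow, h2, map_one]
      · have : prj F a * prj F x * prj F a * prj F x * prj F a * prj F x
            = prj F (a * x * (a * x) * (a * x)) := by
          simp only [map_mul, mul_assoc]
        rw [this]; exact (prj_eq_one_iff _).2 h3
      · intro h; exact h4 ((prj_eq_one_iff _).1 h)
    by_cases hp5 : p = 5
    · -- characteristic 5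
      have h5F : (5 : F) = 0 := by
        have := CharP.cast_eq_zero F p
        rw [hp5] at this
        exact_mod_cast this
      refine ⟨Jm, uu 1, ?_, ?_, ?_, not_isSc_uu 1 one_ne_zero⟩
      · refine ⟨?_, ?_, ?_⟩ <;> simp [mul00, mul01, mul10, mul11, Jm]
      · rw [uu_pow]
        have : ((5 : ℕ) : F) * 1 = 0 := by push_cast; rw [h5F]; ring
        rw [this, uu_zero]
      · apply isSc_cube_of_tr
        unfold tr
        simp [mul00, mul11, Jm]
    · -- 5 ∣ q² - 1
      have hcS := card_S2 (K := F)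
      rw [hF] at hcS
      have h5S : 5 ∣ Nat.card (S2 F) := by rw [hcS]; exact h5
      haveI : Fact (Nat.Prime 5) := ⟨by norm_num⟩
      obtain ⟨x, hx⟩ := exists_prime_orderOf_dvd_card' 5 h5S
      have hx5 : x ^ 5 = 1 := by rw [← hx]; exact pow_orderOf_eq_one x
      have hx1 : x ≠ 1 := by
        intro h; rw [h, orderOf_one] at hx; norm_num at hx
      have hp5' : ¬ (5 ∣ 2 * p) := by
        intro h
        rcases (Nat.Prime.dvd_mul (by norm_num)).1 h with h | h
        · norm_num at h
        · exact hp5 ((Nat.prime_dvd_prime_iff_eq (by norm_num) (Fact.out : p.Prime)).1 h).symm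
      have htr : tr x ^ 2 ≠ 4 := by
        intro h4
        have h22 : (tr x - 2) * (tr x + 2) = 0 := by linear_combination h4
        have hxp : x ^ (2 * p) = 1 := by
          rcases mul_eq_zero.1 h22 with h | h
          · have := pow_char_of_tr p x (by linear_combination h)
            rw [mul_comm, pow_mul, this, one_pow]
          · have htn : tr (negOne * x) = 2 := by
              unfold tr at h ⊢
              simp only [mul00, mul11, negOne, mk2_00, mk2_01, mk2_10, mk2_11]
              linear_combination -h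
            have h1 := pow_char_of_tr p (negOne * x) htn
            have hcomm : Commute (negOne : S2 F) x := negOne_mul x
            have h2 : (negOne * x) ^ (2 * p) = 1 := by rw [mul_comm, pow_mul, h1, one_pow]
            rw [hcomm.mul_pow, pow_mul, pow_two, negOne_sq, one_pow, one_mul] at h2
            exact h2
        have := orderOf_dvd_of_pow_eq_one hxp
        rw [hx] at this
        exact hp5' this
      have hns : ¬ IsSc x := not_isSc_of_tr x htr
      obtain ⟨g, hg⟩ := exists_conj_10 x hns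
      have htr' : tr (g * x * g⁻¹) ^ 2 ≠ 4 := by rw [tr_conj]; exact htr
      obtain ⟨a, ha0, ha1⟩ := exists_a (g * x * g⁻¹) htr' hg
      refine ⟨a, g * x * g⁻¹, isSc_sq_of_tr a ha0, ?_, isSc_cube_of_tr _ ha1,
        not_isSc_of_tr _ htr'⟩
      rw [conj_pow, hx5, mul_one, mul_inv_cancel]

end Cfsg.Agent.S0804
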