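import Cfsg.Statements.S0799
import Mathlib
import Cfsg.Agent.Lib.Helper19.DkJ

set_option autoImplicit false
open Cfsg

namespace Cfsg.Agent.S0799

open Cfsg.Agent.Lib.Helper19.Dk

/-- the isomorphism between `H` and the image of the transformed preimage -/
theorem transfer {F : Type*} [Field F] (H : Subgroup (P2 F)) (θ : S2 F ≃* S2 F) :
    Nonempty (H ≃* ↥(((Lof H).map θ.toMonoidHom).map (prj F))) := by
  have hmap : (Subgroup.center (S2 F)).map θ.toMonoidHom = Subgroup.center (S2 F) :=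
    Subgroup.characteristic_iff_map_eq.1 inferInstance θ
  let Θ : P2 F ≃* P2 F :=
    QuotientGroup.congr (Subgroup.center (S2 F)) (Subgroup.center (S2 F)) θ hmap
  have hcomp : (prj F).comp θ.toMonoidHom = Θ.toMonoidHom.comp (prj F) := by
    ext g
    rfl
  have heq : ((Lof H).map θ.toMonoidHom).map (prj F) = H.map Θ.toMonoidHom := by
    rw [Subgroup.map_map, hcomp, ← Subgroup.map_map, map_Lof]
  exact ⟨(Subgroup.equivMapOfInjective H Θ.toMonoidHom Θ.injective).trans
    (MulEquiv.subgroupCongr heq.symm)⟩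

/-- Dickson's classification of the subgroups of PSL_2(q), q a power of the prime p, d = gcd(2, q − 1): every subgroup H is (a) cyclic or dihedral with k dividing (q+1)/d or (q−1)/d (cyclic of order k, or dihedral of order 2k), (b) isomorphic to a subgroup of the normaliser of a Sylow p-subgroup, (c) isomorphic to A_4, S_4 or A_5, or (d) isomorphic to PSL_2(K) or PGL_2(K) for a finite field K with |K|^m = q. -/
theorem result {F : Type*} [Field F] [Fintype F] {q : ℕ} (hF : Fintype.card F = q) (p : ℕ) [Fact p.Prime] [CharP F p] (H : Subgroup (Matrix.ProjectiveSpecialLinearGroup (Fin 2) F)) : (∃ k : ℕ, (k ∣ (q + 1) / Nat.gcd 2 (q - 1) ∨ k ∣ (q - 1) / Nat.gcd 2 (q - 1)) ∧ ((IsCyclic H ∧ Nat.card H = k) ∨ Nonempty (H ≃* DihedralGroup k))) ∨ (∃ (P : Sylow p (Matrix.ProjectiveSpecialLinearGroup (Fin 2) F)) (K : Subgroup (Matrix.ProjectiveSpecialLinearGroup (Fin 2) F)), K ≤ Subgroup.normalizer ((P : Subgroup (Matrix.ProjectiveSpecialLinearGroup (Fin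 2) F)) : Set (Matrix.ProjectiveSpecialLinearGroup (Fin 2) F)) ∧ Nonempty (H ≃* K)) ∨ Nonempty (H ≃* alternatingGroup (Fin 4)) ∨ Nonempty (H ≃* Equiv.Perm (Fin 4)) ∨ Nonempty (H ≃* alternatingGroup (Fin 5)) ∨ (∃ (K : Type) (_ : Field K) (_ : Fintype K) (m : ℕ), Fintype.card K ^ m = q ∧ (Nonempty (H ≃* Matrix.ProjectiveSpecialLinearGroup (Fin 2) K) ∨ Nonempty (H ≃* Matrix.ProjGenLinGroup (Fin 2) K))) := by
  classical
  subst hF
  have hz := z_gcd (F := F) p
  have hout := main_cases p (Lof H) (center_le_Lof H)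
  unfold Outcome at hout
  rcases hout with h | ⟨x, hx, hss, hall⟩ | ⟨x, hx, hss, hcard⟩ | ⟨g, hg⟩ |
    ⟨hcard, x, hx, hxs, hA, hN⟩ | ⟨hcard, ⟨x, hx, hxs, hA⟩, hall⟩ | ⟨hcard, hall⟩ |
    ⟨x₀, hx₀, hsc, h4, q', k, hq3, hcA, hcN, hcard, hk⟩
  · left
    obtain ⟨hc, h1⟩ := out_triv H h
    exact ⟨1, Or.inl (one_dvd _), Or.inl ⟨hc, h1⟩⟩
  · left
    obtain ⟨hc, hd⟩ := out_cyc p H x hss hall
    refine ⟨Nat.card H, ?_, Or.inl ⟨hc, rfl⟩⟩
    rw [← hz]
    rcases hd with hd | hd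
    · right; exact Nat.dvd_div_of_mul_dvd hd
    · left; exact Nat.dvd_div_of_mul_dvd hd
  · left
    obtain ⟨n, hd, hiso⟩ := out_dih p H x hx hss hcard
    refine ⟨n, ?_, Or.inr hiso⟩
    rw [← hz]
    rcases hd with hd | hd
    · right; exact Nat.dvd_div_of_mul_dvd hd
    · left; exact Nat.dvd_div_of_mul_dvd hd
  · right; left
    exact out_bor p H g hg
  · right; right; left
    exact out_A4 H hcard x hx hA hN
  · right; right; right; left
    exact out_S4 H hcard x hx hxs hA hall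
  · right; right; right; right; left
    exact out_A5 H hcard hall
  · right; right; right; right; right
    have hk1 : 1 ≤ k := by omega
    obtain ⟨θ, hNF, hcard'⟩ := exists_nf (Lof H) (center_le_Lof H) x₀ hx₀ hsc h4 q' k
      (by omega) hk1 hcA hcN hcard
    obtain ⟨K, iK, fK, m, hm, hiso⟩ :=
      field_std p ((Lof H).map θ.toMonoidHom) q' k hNF hq3 hcard' hk
    obtain ⟨e₀⟩ := transfer H θ
    refine ⟨K, iK, fK, m, hm, ?_⟩
    rcases hiso with ⟨⟨e⟩⟩ | ⟨⟨e⟩⟩
    · left; exact ⟨e₀.trans e⟩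
    · right; exact ⟨e₀.trans e⟩

end Cfsg.Agent.S0799
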