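import Mathlib
import Cfsg.Statements.S0862
import Cfsg.Agent.Lib.Helper20.DetChar
import Cfsg.Agent.Lib.Helper20.Gallagher

set_option autoImplicit false
open Cfsg

namespace Cfsg.Agent.S0862

open Cfsg.Agent.Lib Cfsg.Agent.Lib.Helper20

/-- Let N be a normal subgroup of the finite group G and ϑ an irreducible character of N of degree d coprime to the index of N, which is the restriction of some irreducible character of G. Let μ be a character of G of degree 1 whose restriction to N is the determinantal character of ϑ. Then there is exactly one irreducible character χ of G restricting to ϑ whose determinantal character is μ. -/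
theorem result {G : Type*} [Group G] [Finite G] (N : Subgroup G) [N.Normal] (ϑ : N → ℂ) (hϑ : Cfsg.IsIrrCharacter N ϑ) (d : ℕ) (hd : ϑ 1 = d) (hcop : Nat.Coprime N.index d) (hext : ∃ η : G → ℂ, Cfsg.IsIrrCharacter G η ∧ (∀ n : N, η n = ϑ n)) (μ : G → ℂ) (hμ : Cfsg.IsCharacter G μ ∧ μ 1 = 1) (hμN : ∀ n : N, μ n = Cfsg.detChar ϑ n) : ∃! χ : G → ℂ, Cfsg.IsIrrCharacter G χ ∧ (∀ n : N, χ n = ϑ n) ∧ Cfsg.detChar χ = μ := by
  classical
  let _ : Fintype G := Fintype.ofFinite G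
  obtain ⟨η, hη, hηN⟩ := hext
  have hηchar := Helper35.isChar_of_irr hη
  have hη1 : η 1 = d := by
    rw [← hd]; exact hηN 1
  obtain ⟨μH, hμH⟩ := exists_hom_of_linear μ hμ.1 hμ.2
  obtain ⟨δ, hδ⟩ := exists_detHom η
  set m := N.index with hm
  have hgm : ∀ g : G, g ^ m ∈ N := fun g => N.pow_index_mem g
  have hpow : ∀ β : G →* ℂˣ, (∀ n : N, β (n : G) = 1) → ∀ g, β g ^ m = 1 := by
    intro β hβ g
    rw [← map_pow]
    exact hβ ⟨g ^ m, hgm g⟩
  have hresη : (fun n : N => η n) = ϑ := funext hηN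
  have hνN : ∀ n : N, (μH / δ) (n : G) = 1 := by
    intro n
    rw [MonoidHom.div_apply, div_eq_one]
    apply Units.ext
    rw [hμH, hδ, hμN, ← detChar_res N hηchar n, hresη]
  obtain ⟨u, v, huv⟩ : ∃ u v : ℤ, u * m + v * d = 1 := Nat.isCoprime_iff_coprime.mpr hcop
  let β : G →* ℂˣ := (μH / δ) ^ v
  have hβN : ∀ n : N, β (n : G) = 1 := by
    intro n
    show ((μH / δ) (n : G)) ^ v = 1
    rw [hνN, one_zpow]
  have hβd : ∀ g, β g ^ d = (μH / δ) g := by
    intro g
    show (((μH / δ) g) ^ v) ^ d = (μH / δ) g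
    rw [← zpow_natCast, ← zpow_mul, show v * (d : ℤ) = 1 - u * m by linarith, zpow_sub,
      zpow_one, zpow_mul', zpow_natCast, hpow _ hνN g, one_zpow, inv_one, mul_one]
  have key : ∀ β' : G →* ℂˣ, (∀ n : N, β' (n : G) = 1) →
      IsIrrCharacter G (fun g => ((β' g : ℂˣ) : ℂ) * η g) ∧
      (∀ n : N, (fun g => ((β' g : ℂˣ) : ℂ) * η g) n = ϑ n) ∧
      ∀ g, detChar (fun g => ((β' g : ℂˣ) : ℂ) * η g) g =
        ((β' g : ℂˣ) : ℂ) ^ d * detChar η g := by
    intro β' hβ'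
    refine ⟨?_, ?_, ?_⟩
    · exact irr_linear_mul_irr (Helper83.isIrr_of_hom β') (by simp) hη
    · intro n
      show ((β' (n : G) : ℂˣ) : ℂ) * η n = ϑ n
      rw [hβ' n, hηN]
      simp
    · intro g
      exact detChar_linear_mul β' hηchar d hη1 g
  obtain ⟨h1, h2, h3⟩ := key β hβN
  refine ⟨fun g => ((β g : ℂˣ) : ℂ) * η g, ⟨h1, h2, ?_⟩, ?_⟩
  · funext g
    rw [h3, ← Units.val_pow_eq_pow_val, hβd, ← hδ, ← Units.val_mul, MonoidHom.div_apply,
      div_mul_cancel, hμH]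
  · rintro χ' ⟨hχ'irr, hχ'N, hχ'det⟩
    obtain ⟨β₁, hβ₁N, hβ₁⟩ := exists_linear_of_extensions N hϑ hη hχ'irr hηN hχ'N
    obtain ⟨-, -, h4⟩ := key β₁ hβ₁N
    have h5 : ∀ g, β₁ g ^ d = (μH / δ) g := by
      intro g
      have h6 := h4 g
      rw [← hβ₁, hχ'det] at h6
      rw [MonoidHom.div_apply, eq_div_iff_mul_eq']
      apply Units.ext
      rw [Units.val_mul, Units.val_pow_eq_pow_val, hμH, hδ]
      exact h6.symm
    have h7 : ∀ g, β₁ g = β g := by
      intro g
      have hr1 : (β₁ g / β g) ^ m = 1 := by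
        rw [div_pow, hpow β₁ hβ₁N, hpow β hβN, div_one]
      have hr2 : (β₁ g / β g) ^ d = 1 := by
        rw [div_pow, h5, hβd, div_self']
      have h8 : orderOf (β₁ g / β g) ∣ 1 := by
        rw [← hcop]
        exact Nat.dvd_gcd (orderOf_dvd_of_pow_eq_one hr1) (orderOf_dvd_of_pow_eq_one hr2)
      exact div_eq_one.mp (orderOf_eq_one_iff.mp (Nat.dvd_one.mp h8))
    rw [hβ₁]
    funext g
    rw [h7]

end Cfsg.Agent.S0862
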