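import Mathlib
import Cfsg.Statements.S0863
import Cfsg.Agent.S0862
import Cfsg.Agent.Lib.Helper20.ExtPrime
import Cfsg.Agent.Lib.Helper20.DetChar

set_option autoImplicit false
open Cfsg

namespace Cfsg.Agent.S0863

open Cfsg.Agent.Lib Cfsg.Agent.Lib.Helper20

universe u

theorem backward : ∀ (n : ℕ) (G : Type u) [Group G] [Finite G], Nat.card G = n →
    ∀ (N : Subgroup G) [hN : N.Normal], Group.IsSolvable (G ⧸ N) → ∀ (ϑ : N → ℂ),
    IsIrrCharacter N ϑ →
    (∀ (g : G) (n : N), ϑ ⟨g * n * g⁻¹, hN.conj_mem (n : G) n.2 g⟩ = ϑ n) →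
    ∀ d : ℕ, ϑ 1 = d → Nat.Coprime N.index d → ∀ μ : G → ℂ, IsCharacter G μ → μ 1 = 1 →
    (∀ n : N, μ n = detChar ϑ n) → ∃ χ : G → ℂ, IsIrrCharacter G χ ∧ ∀ n : N, χ n = ϑ n := by
  intro n
  induction n using Nat.strong_induction_on with
  | _ n ih =>
  intro G _ _ hn N hN hsolv ϑ hϑ hinv d hd hcop μ hμ hμ1 hμN
  classical
  let _ : Fintype G := Fintype.ofFinite G
  by_cases hNtop : N = ⊤
  · subst hNtop
    refine ⟨fun g => ϑ ⟨g, Subgroup.mem_top g⟩, ?_, fun n => rfl⟩
    exact irr_comp_surjective (Subgroup.topEquiv : (⊤ : Subgroup G) ≃* G).symm.toMonoidHom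
      Subgroup.topEquiv.symm.surjective hϑ
  · obtain ⟨M, p, hMn, hNM, hp, hMidx, hcomm⟩ := exists_normal_prime_index N hNtop hsolv
    have hMlt : Nat.card M < n := by
      rw [← hn]
      have h1 := Subgroup.card_mul_index M
      have h4 : 0 < Nat.card M := Nat.card_pos
      have h5 : 2 ≤ M.index := by rw [hMidx]; exact hp.two_le
      calc Nat.card M < Nat.card M * 2 := by omega
        _ ≤ Nat.card M * M.index := Nat.mul_le_mul_left _ h5
        _ = Nat.card G := h1
    have he : ∀ x : N.subgroupOf M,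
        ((Subgroup.subgroupOfEquivOfLe hNM x : N) : G) = ((x : M) : G) :=
      fun x => Subgroup.subgroupOfEquivOfLe_apply_coe hNM x
    have hϑ'irr : IsIrrCharacter (N.subgroupOf M)
        (fun x => ϑ (Subgroup.subgroupOfEquivOfLe hNM x)) :=
      irr_comp_surjective (Subgroup.subgroupOfEquivOfLe hNM).toMonoidHom
        (Subgroup.subgroupOfEquivOfLe hNM).surjective hϑ
    have hN'norm : (N.subgroupOf M).Normal := Subgroup.normal_subgroupOf
    have hinv' : ∀ (g : M) (x : N.subgroupOf M),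
        (fun x => ϑ (Subgroup.subgroupOfEquivOfLe hNM x))
          ⟨g * x * g⁻¹, hN'norm.conj_mem (x : M) x.2 g⟩ =
        (fun x => ϑ (Subgroup.subgroupOfEquivOfLe hNM x)) x := by
      intro g x
      show ϑ (Subgroup.subgroupOfEquivOfLe hNM _) = ϑ (Subgroup.subgroupOfEquivOfLe hNM x)
      rw [← hinv (g : G) (Subgroup.subgroupOfEquivOfLe hNM x)]
      congr 1
    have hd' : (fun x => ϑ (Subgroup.subgroupOfEquivOfLe hNM x)) (1 : N.subgroupOf M) = d := by
      show ϑ (Subgroup.subgroupOfEquivOfLe hNM 1) = d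
      rw [map_one]; exact hd
    have hcop' : Nat.Coprime (N.subgroupOf M).index d :=
      Nat.Coprime.coprime_dvd_left (Subgroup.relIndex_dvd_index_of_le hNM) hcop
    have hμ'N : ∀ x : N.subgroupOf M, (fun m : M => μ m) x =
        detChar (fun x => ϑ (Subgroup.subgroupOfEquivOfLe hNM x)) x := by
      intro x
      show μ ((x : M) : G) = _
      have h3 : detChar (fun x => ϑ (Subgroup.subgroupOfEquivOfLe hNM x)) x =
          detChar ϑ (Subgroup.subgroupOfEquivOfLe hNM x) :=
        detChar_comp (Subgroup.subgroupOfEquivOfLe hNM).toMonoidHom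
          (Helper35.isChar_of_irr hϑ) x
      rw [h3, ← he x]
      exact hμN (Subgroup.subgroupOfEquivOfLe hNM x)
    have hsolv' : Group.IsSolvable (M ⧸ N.subgroupOf M) := solvable_quotient_subgroupOf N M
    obtain ⟨η₀, hη₀, hη₀N⟩ := ih (Nat.card M) hMlt M rfl (N.subgroupOf M) hsolv' _ hϑ'irr hinv'
      d hd' hcop' (fun m : M => μ m) (Helper35.isCharacter_res M hμ) hμ1 hμ'N
    obtain ⟨η, ⟨hη, hηN, hηdet⟩, hηuniq⟩ := Cfsg.Agent.S0862.result (N.subgroupOf M) _ hϑ'irr
      d hd' hcop' ⟨η₀, hη₀, hη₀N⟩ (fun m : M => μ m) ⟨Helper35.isCharacter_res M hμ, hμ1⟩ hμ'N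
    have hμcf : IsClassFunction G μ := Helper35.isClassFunction_of_isCharacter hμ
    have hηinv : ∀ (g : G) (m : M), η ⟨g * m * g⁻¹, hMn.conj_mem (m : G) m.2 g⟩ = η m := by
      intro g m
      have h1 : conjFun M η g = η := by
        apply hηuniq
        refine ⟨conjFun_irr M hη g, ?_, ?_⟩
        · intro x
          rw [conjFun_apply]
          have hmem : g * ((x : M) : G) * g⁻¹ ∈ N :=
            hN.conj_mem _ (Subgroup.mem_subgroupOf.mp x.2) g
          have h2 := hηN ⟨⟨g * ((x : M) : G) * g⁻¹, hMn.conj_mem _ (x : M).2 g⟩,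
            Subgroup.mem_subgroupOf.mpr hmem⟩
          rw [show η ⟨g * ((x : M) : G) * g⁻¹, hMn.conj_mem _ (x : M).2 g⟩ = _ from h2]
          show ϑ (Subgroup.subgroupOfEquivOfLe hNM _) = ϑ (Subgroup.subgroupOfEquivOfLe hNM x)
          rw [← hinv g (Subgroup.subgroupOfEquivOfLe hNM x)]
          congr 1
        · funext m
          rw [conjFun_eq_comp]
          have h3 : detChar (fun h => η ((MulAut.conjNormal g : M ≃* M) h)) m =
              detChar η ((MulAut.conjNormal g : M ≃* M) m) :=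
            detChar_comp (MulAut.conjNormal g : M ≃* M).toMonoidHom (Helper35.isChar_of_irr hη) m
          rw [h3, hηdet]
          exact hμcf (m : G) g
      exact congrFun h1 m
    obtain ⟨χ, hχ, hχM⟩ := extends_of_prime_index M p hp hMidx hcomm η hη hηinv
    refine ⟨χ, hχ, fun x => ?_⟩
    have h1 := hχM ⟨(x : G), hNM x.2⟩
    have h2 := hηN ⟨⟨(x : G), hNM x.2⟩, Subgroup.mem_subgroupOf.mpr x.2⟩
    rw [show χ (x : G) = η ⟨(x : G), hNM x.2⟩ from h1,
      show η ⟨(x : G), hNM x.2⟩ = _ from h2]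
    show ϑ (Subgroup.subgroupOfEquivOfLe hNM _) = ϑ x
    congr 1

/-- Let N be a normal subgroup of the finite group G with G / N solvable, and ϑ an irreducible character of N, invariant under conjugation by G, of degree d coprime to the index of N. Then ϑ is the restriction of an irreducible character of G if and only if the determinantal character of ϑ is the restriction of a character of G of degree 1. -/
theorem result {G : Type*} [Group G] [Finite G] (N : Subgroup G) [hN : N.Normal] (hsolv : Group.IsSolvable (G ⧸ N)) (ϑ : N → ℂ) (hϑ : Cfsg.IsIrrCharacter N ϑ) (hinv : ∀ (g : G) (n : N), ϑ ⟨g * n * g⁻¹, hN.conj_mem (n : G) n.2 g⟩ = ϑ n) (d : ℕ) (hd : ϑ 1 = d) (hcop : Nat.Coprime N.index d) : (∃ χ : G → ℂ, Cfsg.IsIrrCharacter G χ ∧ (∀ n : N, χ n = ϑ n)) ↔ ∃ μ : G → ℂ, Cfsg.IsCharacter G μ ∧ μ 1 = 1 ∧ ∀ n : N, μ n = Cfsg.detChar ϑ n := by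
  constructor
  · rintro ⟨χ, hχ, hχN⟩
    refine ⟨detChar χ, (detChar_isCharacter χ).1, (detChar_isCharacter χ).2, fun n => ?_⟩
    rw [← detChar_res N (Helper35.isChar_of_irr hχ) n]
    have h1 : (fun h : N => χ h) = ϑ := funext hχN
    rw [h1]
  · rintro ⟨μ, hμ, hμ1, hμN⟩
    exact backward (Nat.card G) G rfl N hsolv ϑ hϑ hinv d hd hcop μ hμ hμ1 hμN

end Cfsg.Agent.S0863
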