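import Mathlib
import Cfsg.Statements.S0868
import Cfsg.Agent.Lib.Helper83.Quot
import Cfsg.Agent.Lib.Helper35.Ind
import Cfsg.Agent.Lib.Helper4.CharDecomp

set_option autoImplicit false
open scoped ComplexConjugate
open Cfsg

namespace Cfsg.Agent.S0868

open Cfsg.Agent.Lib

section

variable {G : Type*} [Group G]

/-- an irreducible character with `N` in its kernel is constant on cosets of `N` -/
theorem irr_mul_ker (N : Subgroup G) [Finite G] {ξ : G → ℂ} (hξ : IsIrrCharacter G ξ)
    (hker : ∀ n : N, ξ n = ξ 1) (g : G) (n : N) : ξ (g * n) = ξ g := by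
  obtain ⟨m, ρ, hρ, rfl⟩ := hξ
  have h1 : ρ (n : G) = 1 := (Helper83.char_eq_iff_rho_eq_one ρ n).mp (hker n)
  simp only [Representation.character, map_mul, h1, mul_one]

theorem irr_ker_mul (N : Subgroup G) [Finite G] {ξ : G → ℂ} (hξ : IsIrrCharacter G ξ)
    (hker : ∀ n : N, ξ n = ξ 1) (g : G) (n : N) : ξ (n * g) = ξ g := by
  obtain ⟨m, ρ, hρ, rfl⟩ := hξ
  have h1 : ρ (n : G) = 1 := (Helper83.char_eq_iff_rho_eq_one ρ n).mp (hker n)
  simp only [Representation.character, map_mul, h1, one_mul]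

variable [Fintype G] (N : Subgroup G) [N.Normal] [Fintype N]

omit [Fintype G] [N.Normal] in
theorem card_N_ne_zero : (Fintype.card N : ℂ) ≠ 0 := by
  have : 0 < Fintype.card N := Fintype.card_pos
  exact_mod_cast this.ne'

/-- a function constant on cosets of `N` is orthogonal to the irreducible characters whose
kernel does not contain `N` -/
theorem classInner_eq_zero_of_not_ker {f : G → ℂ} (hf : ∀ (g : G) (n : N), f (g * n) = f g)
    {ξ : G → ℂ} (hξ : IsIrrCharacter G ξ) (x : N) (hx : ξ x ≠ ξ 1) : classInner f ξ = 0 := by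
  have h0 := Helper83.irr_sum_normal_eq_zero N hξ x x.2 hx
  unfold classInner
  have h1 : ∀ n : N, ∑ g : G, f g * conj (ξ g) = ∑ g : G, f g * conj (ξ (g * n)) := by
    intro n
    rw [← Equiv.sum_comp (Equiv.mulRight (n : G))]
    apply Finset.sum_congr rfl
    intro g _
    simp only [Equiv.coe_mulRight, hf]
  have h2 : (Fintype.card N : ℂ) * ∑ g : G, f g * conj (ξ g) = 0 := by
    calc (Fintype.card N : ℂ) * ∑ g : G, f g * conj (ξ g)
        = ∑ _n : N, ∑ g : G, f g * conj (ξ g) := by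
          rw [Finset.sum_const, Finset.card_univ, nsmul_eq_mul]
      _ = ∑ n : N, ∑ g : G, f g * conj (ξ (g * n)) := Finset.sum_congr rfl (fun n _ => h1 n)
      _ = ∑ g : G, f g * conj (∑ n : N, ξ (g * n)) := by
          rw [Finset.sum_comm]
          apply Finset.sum_congr rfl
          intro g _
          rw [map_sum, Finset.mul_sum]
      _ = 0 := by
          apply Finset.sum_eq_zero
          intro g _
          rw [h0 g, map_zero, mul_zero]
  rw [(mul_eq_zero.mp h2).resolve_left (card_N_ne_zero N), mul_zero]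

/-- the coset average -/
noncomputable def eta (ψ χ : G → ℂ) : G → ℂ :=
  fun g => (Nat.card N : ℂ)⁻¹ * ∑ n : N, ψ ((n : G) * g) * conj (χ ((n : G) * g))

theorem eta_mul_right {ψ χ : G → ℂ} (hψ : IsClassFunction G ψ) (hχ : IsClassFunction G χ)
    (g : G) (m : N) : eta N ψ χ (g * m) = eta N ψ χ g := by
  unfold eta
  congr 1
  have h1 : ∀ n : N, ψ ((n : G) * (g * m)) * conj (χ ((n : G) * (g * m))) =
      ψ (((m * n : N) : G) * g) * conj (χ (((m * n : N) : G) * g)) := by
    intro n
    have h : ((m * n : N) : G) * g = (m : G) * ((n : G) * (g * m)) * (m : G)⁻¹ := by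
      simp [mul_assoc]
    rw [h, hψ, hχ]
  rw [Finset.sum_congr rfl (fun n _ => h1 n)]
  exact Equiv.sum_comp (Equiv.mulLeft m) (fun n : N => ψ ((n : G) * g) * conj (χ ((n : G) * g)))

theorem eta_mul_left (ψ χ : G → ℂ) (g : G) (m : N) : eta N ψ χ (m * g) = eta N ψ χ g := by
  unfold eta
  congr 1
  have h1 : ∀ n : N, ψ ((n : G) * ((m : G) * g)) * conj (χ ((n : G) * ((m : G) * g))) =
      ψ (((n * m : N) : G) * g) * conj (χ (((n * m : N) : G) * g)) := by
    intro n
    simp [mul_assoc]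
  rw [Finset.sum_congr rfl (fun n _ => h1 n)]
  exact Equiv.sum_comp (Equiv.mulRight m) (fun n : N => ψ ((n : G) * g) * conj (χ ((n : G) * g)))

omit [Fintype G] in
theorem eta_classFunction {ψ χ : G → ℂ} (hψ : IsClassFunction G ψ) (hχ : IsClassFunction G χ) :
    IsClassFunction G (eta N ψ χ) := by
  intro g h
  unfold eta
  congr 1
  rw [← Equiv.sum_comp (MulAut.conjNormal h : N ≃* N).toEquiv]
  apply Finset.sum_congr rfl
  intro n _
  simp only [MulEquiv.toEquiv_eq_coe, EquivLike.coe_coe, MulAut.conjNormal_apply]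
  have h1 : h * (n : G) * h⁻¹ * (h * g * h⁻¹) = h * ((n : G) * g) * h⁻¹ := by group
  rw [h1, hψ, hχ]

omit [Fintype G] [N.Normal] in
theorem eta_one (ψ χ : G → ℂ) :
    eta N ψ χ 1 = classInner (fun n : N => ψ n) (fun n : N => χ n) := by
  unfold eta classInner
  simp only [mul_one]

/-- Fourier coefficients of the coset average -/
theorem classInner_eta (ψ χ : G → ℂ) {ξ : G → ℂ} (hξ : ∀ (g : G) (n : N), ξ (n * g) = ξ g) :
    classInner (eta N ψ χ) ξ = classInner ψ (ξ * χ) := by
  unfold classInner eta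
  congr 1
  have h1 : ∀ n : N, ∑ g : G, ψ ((n : G) * g) * conj (χ ((n : G) * g)) * conj (ξ g) =
      ∑ g : G, ψ g * conj ((ξ * χ) g) := by
    intro n
    rw [← Equiv.sum_comp (Equiv.mulLeft (n : G)) (fun g => ψ g * conj ((ξ * χ) g))]
    apply Finset.sum_congr rfl
    intro g _
    simp only [Equiv.coe_mulLeft, Pi.mul_apply, map_mul, hξ]
    ring
  calc ∑ g : G, (Nat.card N : ℂ)⁻¹ * (∑ n : N, ψ ((n : G) * g) * conj (χ ((n : G) * g))) * conj (ξ g)
      = (Nat.card N : ℂ)⁻¹ * ∑ n : N, ∑ g : G, ψ ((n : G) * g) * conj (χ ((n : G) * g)) * conj (ξ g) := by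
        rw [Finset.sum_comm, Finset.mul_sum]
        apply Finset.sum_congr rfl
        intro g _
        rw [mul_assoc, Finset.sum_mul]
    _ = (Nat.card N : ℂ)⁻¹ * ∑ _n : N, ∑ g : G, ψ g * conj ((ξ * χ) g) := by
        congr 1
        exact Finset.sum_congr rfl (fun n _ => h1 n)
    _ = ∑ g : G, ψ g * conj ((ξ * χ) g) := by
        rw [Finset.sum_const, Finset.card_univ, nsmul_eq_mul, ← mul_assoc, Nat.card_eq_fintype_card,
          inv_mul_cancel₀ (card_N_ne_zero N), one_mul]

/-- averaging a sum over left translates by `N` -/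
theorem sum_eq_avg (h : G → ℂ) :
    ∑ g : G, h g = (Nat.card N : ℂ)⁻¹ * ∑ n : N, ∑ g : G, h ((n : G) * g) := by
  have h1 : ∀ n : N, ∑ g : G, h ((n : G) * g) = ∑ g : G, h g := by
    intro n
    exact Equiv.sum_comp (Equiv.mulLeft (n : G)) h
  rw [Finset.sum_congr rfl (fun n _ => h1 n), Finset.sum_const, Finset.card_univ, nsmul_eq_mul,
    ← mul_assoc, Nat.card_eq_fintype_card, inv_mul_cancel₀ (card_N_ne_zero N), one_mul]

/-- if `χ` restricts irreducibly to `N` then the coset averages of `|χ|²` are all `1` -/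
theorem eta_self {χ : G → ℂ} (hχ : IsIrrCharacter G χ)
    (hχN : IsIrrCharacter N (fun n : N => χ n)) : eta N χ χ = fun _ => 1 := by
  classical
  have := Helper4.irr_finite (G := G)
  let _ : Fintype (IrrCharacter G) := Fintype.ofFinite _
  have hcf : IsClassFunction G χ := Helper35.isClassFunction_of_isCharacter (Helper35.isChar_of_irr hχ)
  have hη := eta_classFunction N hcf hcf
  have hexp := Helper4.classFunction_expansion (eta N χ χ) hη
  set triv : IrrCharacter G := ⟨fun _ => 1, Helper83.isIrr_one⟩ with htriv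
  -- coefficients times degrees are natural numbers
  have hnat : ∀ ξ : IrrCharacter G, ∃ k : ℕ,
      classInner (eta N χ χ) (ξ : G → ℂ) * (ξ : G → ℂ) 1 = (k : ℂ) := by
    intro ξ
    by_cases hker : ∀ n : N, (ξ : G → ℂ) n = (ξ : G → ℂ) 1
    · rw [classInner_eta N χ χ (fun g n => irr_ker_mul N ξ.2 hker g n)]
      obtain ⟨k, hk⟩ := Helper35.classInner_char_nat (Helper35.isChar_of_irr hχ)
        (Helper35.isCharacter_mul (Helper35.isChar_of_irr ξ.2) (Helper35.isChar_of_irr hχ))
      obtain ⟨hd, hd1⟩ := Helper83.irr_degree ξ.2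
      refine ⟨k * charDegree (ξ : G → ℂ), ?_⟩
      rw [hk, hd1]
      push_cast
      ring
    · push Not at hker
      obtain ⟨x, hx⟩ := hker
      refine ⟨0, ?_⟩
      rw [classInner_eq_zero_of_not_ker N (eta_mul_right N hcf hcf) ξ.2 x hx]
      simp
  choose k hk using hnat
  have h1 : eta N χ χ 1 = 1 := by
    rw [eta_one, Helper35.classInner_irr' hχN hχN, if_pos rfl]
  have hsum : ∑ ξ : IrrCharacter G, k ξ = 1 := by
    have h2 := congrFun hexp 1
    rw [h1, Finset.sum_apply] at h2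
    simp only [Pi.smul_apply, smul_eq_mul, hk] at h2
    have h3 : ((∑ ξ : IrrCharacter G, k ξ : ℕ) : ℂ) = ((1 : ℕ) : ℂ) := by
      push_cast
      exact h2.symm
    exact Nat.cast_injective h3
  have htriv1 : k triv = 1 := by
    have h2 := hk triv
    have hker : ∀ (g : G) (n : N), (triv : G → ℂ) (n * g) = (triv : G → ℂ) g := fun _ _ => rfl
    rw [classInner_eta N χ χ hker] at h2
    have h3 : (triv : G → ℂ) * χ = χ := by
      funext g
      simp [htriv]
    rw [h3, Helper35.classInner_irr' hχ hχ, if_pos rfl] at h2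
    have h4 : (triv : G → ℂ) 1 = 1 := rfl
    rw [h4, mul_one] at h2
    exact_mod_cast h2.symm
  have hzero : ∀ ξ : IrrCharacter G, ξ ≠ triv → classInner (eta N χ χ) (ξ : G → ℂ) = 0 := by
    intro ξ hne
    have h2 : k ξ = 0 := by
      by_contra h0
      have h3 : k triv + k ξ ≤ ∑ ξ : IrrCharacter G, k ξ := by
        have := Finset.sum_le_sum_of_subset (f := k)
          (Finset.subset_univ ({triv, ξ} : Finset (IrrCharacter G)))
        rwa [Finset.sum_pair hne.symm] at this
      omega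
    have h3 := hk ξ
    rw [h2, Nat.cast_zero] at h3
    exact (mul_eq_zero.mp h3).resolve_right (Helper83.irr_one_ne_zero ξ.2)
  have hone : classInner (eta N χ χ) (triv : G → ℂ) = 1 := by
    have h2 := hk triv
    rw [htriv1] at h2
    have h4 : (triv : G → ℂ) 1 = 1 := rfl
    rw [h4, mul_one] at h2
    exact_mod_cast h2
  rw [hexp, Finset.sum_eq_single triv]
  · rw [hone, one_smul]
  · intro ξ _ hne
    rw [hzero ξ hne, zero_smul]
  · intro h
    exact absurd (Finset.mem_univ _) h

/-- Gallagher orthogonality -/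
theorem classInner_mul_ext {χ : G → ℂ} (hχ : IsIrrCharacter G χ)
    (hχN : IsIrrCharacter N (fun n : N => χ n)) {ξ ξ' : G → ℂ}
    (hξ : ∀ (g : G) (n : N), ξ (n * g) = ξ g) (hξ' : ∀ (g : G) (n : N), ξ' (n * g) = ξ' g) :
    classInner (ξ * χ) (ξ' * χ) = classInner ξ ξ' := by
  have hF := eta_self N hχ hχN
  unfold classInner
  congr 1
  rw [sum_eq_avg N, Finset.sum_comm, Finset.mul_sum]
  apply Finset.sum_congr rfl
  intro g _
  have h1 : ∀ n : N, (ξ * χ) ((n : G) * g) * conj ((ξ' * χ) ((n : G) * g)) =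
      ξ g * conj (ξ' g) * (χ ((n : G) * g) * conj (χ ((n : G) * g))) := by
    intro n
    simp only [Pi.mul_apply, map_mul, hξ, hξ']
    ring
  rw [Finset.sum_congr rfl (fun n _ => h1 n), ← Finset.mul_sum]
  have h2 := congrFun hF g
  unfold eta at h2
  rw [mul_left_comm, h2, mul_one]

end

/-- Let N be a normal subgroup of the finite group G, χ an irreducible character of G whose restriction ϑ to N is irreducible, and ψ an irreducible character of G. Define η on G by η g = (1 / order of N) * Σ over n in N of ψ (n * g) * conj (χ (n * g)). Then: if the restriction of ψ to N has nonzero inner product with ϑ, η is an irreducible character of G; if that inner product is zero, η vanishes identically; and if ψ = χ then η is identically 1. -/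
theorem result {G : Type*} [Group G] [Fintype G] (N : Subgroup G) [N.Normal] [Fintype N] (χ : G → ℂ) (hχ : Cfsg.IsIrrCharacter G χ) (hχN : Cfsg.IsIrrCharacter N (fun n : N => χ n)) (ψ : G → ℂ) (hψ : Cfsg.IsIrrCharacter G ψ) (η : G → ℂ) (hη : η = fun g => (Nat.card N : ℂ)⁻¹ * ∑ n : N, ψ ((n : G) * g) * conj (χ ((n : G) * g))) : (Cfsg.classInner (fun n : N => ψ n) (fun n : N => χ n) ≠ 0 → Cfsg.IsIrrCharacter G η) ∧ (Cfsg.classInner (fun n : N => ψ n) (fun n : N => χ n) = 0 → η = 0) ∧ (ψ = χ → η = fun _ => 1) := by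
  classical
  have hηdef : η = eta N ψ χ := hη
  have := Helper4.irr_finite (G := G)
  let _ : Fintype (IrrCharacter G) := Fintype.ofFinite _
  have hcfχ : IsClassFunction G χ := Helper35.isClassFunction_of_isCharacter (Helper35.isChar_of_irr hχ)
  have hcfψ : IsClassFunction G ψ := Helper35.isClassFunction_of_isCharacter (Helper35.isChar_of_irr hψ)
  have hcfη := eta_classFunction N hcfψ hcfχ
  have hexp := Helper4.classFunction_expansion (eta N ψ χ) hcfη
  -- the coefficients
  have hcoef : ∀ ξ : IrrCharacter G, classInner (eta N ψ χ) (ξ : G → ℂ) =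
      if ((∀ n : N, (ξ : G → ℂ) n = (ξ : G → ℂ) 1) ∧ ψ = (ξ : G → ℂ) * χ) then 1 else 0 := by
    intro ξ
    by_cases hker : ∀ n : N, (ξ : G → ℂ) n = (ξ : G → ℂ) 1
    · have hξ : ∀ (g : G) (n : N), (ξ : G → ℂ) (n * g) = (ξ : G → ℂ) g :=
        fun g n => irr_ker_mul N ξ.2 hker g n
      rw [classInner_eta N ψ χ hξ]
      have hirr : IsIrrCharacter G ((ξ : G → ℂ) * χ) := by
        apply Helper4.isIrrCharacter_of_norm_one _
          (Helper35.isCharacter_mul (Helper35.isChar_of_irr ξ.2) (Helper35.isChar_of_irr hχ))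
        rw [classInner_mul_ext N hχ hχN hξ hξ, Helper35.classInner_irr' ξ.2 ξ.2, if_pos rfl]
      rw [Helper35.classInner_irr' hψ hirr]
      by_cases h : ψ = (ξ : G → ℂ) * χ
      · rw [if_pos h, if_pos ⟨hker, h⟩]
      · rw [if_neg h, if_neg (fun h' => h h'.2)]
    · rw [if_neg (fun h' => hker h'.1)]
      push Not at hker
      obtain ⟨x, hx⟩ := hker
      exact classInner_eq_zero_of_not_ker N (eta_mul_right N hcfψ hcfχ) ξ.2 x hx
  -- uniqueness
  have huniq : ∀ ξ ξ' : IrrCharacter G, (∀ n : N, (ξ : G → ℂ) n = (ξ : G → ℂ) 1) →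
      (∀ n : N, (ξ' : G → ℂ) n = (ξ' : G → ℂ) 1) → ψ = (ξ : G → ℂ) * χ → ψ = (ξ' : G → ℂ) * χ →
      ξ = ξ' := by
    intro ξ ξ' hker hker' h1 h2
    have hξ : ∀ (g : G) (n : N), (ξ : G → ℂ) (n * g) = (ξ : G → ℂ) g :=
      fun g n => irr_ker_mul N ξ.2 hker g n
    have hξ' : ∀ (g : G) (n : N), (ξ' : G → ℂ) (n * g) = (ξ' : G → ℂ) g :=
      fun g n => irr_ker_mul N ξ'.2 hker' g n
    have h3 := classInner_mul_ext N hχ hχN hξ hξ'
    rw [← h1, ← h2, Helper35.classInner_irr' hψ hψ, if_pos rfl,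
      Helper35.classInner_irr' ξ.2 ξ'.2] at h3
    by_contra hne
    rw [if_neg (fun h => hne (Subtype.ext h))] at h3
    exact one_ne_zero h3
  -- dichotomy
  have hdich : (∃ ξ : IrrCharacter G, eta N ψ χ = (ξ : G → ℂ)) ∨ eta N ψ χ = 0 := by
    by_cases hex : ∃ ξ : IrrCharacter G, (∀ n : N, (ξ : G → ℂ) n = (ξ : G → ℂ) 1) ∧
        ψ = (ξ : G → ℂ) * χ
    · obtain ⟨ξ₀, hker₀, h₀⟩ := hex
      left
      refine ⟨ξ₀, ?_⟩
      rw [hexp, Finset.sum_eq_single ξ₀]
      · rw [hcoef ξ₀, if_pos ⟨hker₀, h₀⟩, one_smul]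
      · intro ξ _ hne
        rw [hcoef ξ, if_neg, zero_smul]
        rintro ⟨hker, h⟩
        exact hne (huniq ξ ξ₀ hker hker₀ h h₀)
      · intro h
        exact absurd (Finset.mem_univ _) h
    · right
      rw [hexp]
      apply Finset.sum_eq_zero
      intro ξ _
      rw [hcoef ξ, if_neg, zero_smul]
      intro h
      exact hex ⟨ξ, h⟩
  have h1 : eta N ψ χ 1 = classInner (fun n : N => ψ n) (fun n : N => χ n) := eta_one N ψ χ
  rw [hηdef]
  refine ⟨?_, ?_, ?_⟩
  · intro hne
    rcases hdich with ⟨ξ, hξ⟩ | h0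
    · rw [hξ]; exact ξ.2
    · exfalso
      apply hne
      rw [← h1, h0]
      rfl
  · intro h0
    rcases hdich with ⟨ξ, hξ⟩ | h0'
    · exfalso
      rw [hξ] at h1
      exact Helper83.irr_one_ne_zero ξ.2 (h1.trans h0)
    · exact h0'
  · intro hψχ
    rw [hψχ]
    exact eta_self N hχ hχN

end Cfsg.Agent.S0868
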