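import Cfsg.Statements.S0920
import Mathlib
import Cfsg.Agent.Lib.Helper22.FMT

set_option autoImplicit false
open Cfsg
open scoped ComplexConjugate

namespace Cfsg.Agent.S0920

open Cfsg.Agent.Lib.Helper22

theorem result {G : Type*} [Group G] [Finite G] (p : ℕ) [Fact p.Prime] (M : Ideal Cfsg.AlgInt) (hM : Cfsg.IsPModular p M) (D : Subgroup G) (hD : IsPGroup p D) : (∀ b : Set (Cfsg.IrrCharacter (Subgroup.normalizer (D : Set G))), Cfsg.IsPBlock M b → Cfsg.IsDefectGroup p M b (D.subgroupOf (Subgroup.normalizer (D : Set G))) → ∃ B : Set (Cfsg.IrrCharacter G), Cfsg.IsPBlock M B ∧ Cfsg.IsDefectGroup p M B D ∧ Cfsg.IsInducedBlock M (Subgroup.normalizer (D : Set G)) b B) ∧ (∀ B : Set (Cfsg.IrrCharacter G), Cfsg.IsPBlock M B → Cfsg.IsDefectGroup p M B D → ∃! b : Set (Cfsg.IrrCharacter (Subgroup.normalizer (D : Set G))), Cfsg.IsPBlock M b ∧ Cfsg.IsDefectGroup p M b (D.subgroupOf (Subgroup.normalizer (D : Set G))) ∧ Cfsg.IsInducedBlock M (Subgroup.normalizer (D : Set G)) b B) := by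
  classical
  letI := Fintype.ofFinite G
  letI : Fintype (Subgroup.normalizer (D : Set G)) := Fintype.ofFinite _
  constructor
  · intro b hb hDb
    obtain ⟨B, hind⟩ := Cfsg.Agent.S0919.result p M hM D (Subgroup.normalizer (D : Set G)) hD
      Subgroup.le_normalizer (Subgroup.centralizer_le_normalizer (D : Set G)) le_rfl b hb
    exact ⟨B, hind.2.1, fmt_defectGroup_induced hM D hD b hDb B hind, hind⟩
  · intro B hB hDB
    have hex : ∃ b : Set (Cfsg.IrrCharacter (Subgroup.normalizer (D : Set G))),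
        Cfsg.IsInducedBlock M (Subgroup.normalizer (D : Set G)) b B := by
      refine (Cfsg.Agent.S0958.result p M hM D (Subgroup.normalizer (D : Set G)) hD
        (sup_le Subgroup.le_normalizer (Subgroup.centralizer_le_normalizer (D : Set G))) le_rfl
        B hB).mpr ⟨D, hDB, 1, ?_⟩
      intro z hz
      rw [mem_conj_map_iff] at hz
      simpa using hz
    obtain ⟨b, hind⟩ := hex
    have hDb := fmt_defectGroup_of_induced hM D hD B hDB b hind
    refine ⟨b, ⟨hind.1, hDb, hind⟩, ?_⟩
    rintro b' ⟨hb', hDb', hind'⟩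
    exact fmt_unique hM D hD B b' b hind' hind hDb' hDb

end Cfsg.Agent.S0920
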