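import Cfsg.Statements.S0959
import Mathlib
import Cfsg.Agent.Lib.Helper21.MinMax2

set_option autoImplicit false
open Cfsg
open scoped ComplexConjugate

namespace Cfsg.Agent.S0959

open Cfsg.Agent.Lib.Helper4 Cfsg.Agent.Lib.Helper21

theorem result {G : Type*} [Group G] [Finite G] (p : ℕ) [Fact p.Prime] (M : Ideal Cfsg.AlgInt) (hM : Cfsg.IsPModular p M) (B : Set (Cfsg.IrrCharacter G)) (hB : Cfsg.IsPBlock M B) (D : Subgroup G) (hD : Cfsg.IsDefectGroup p M B D) (P : Subgroup G) (hP : IsPGroup p P) : (∃ g : G, Cfsg.MemLocalRing M (Cfsg.blockCoeff B g) ∧ ¬ Cfsg.MemLocalIdeal M (Cfsg.blockCoeff B g) ∧ ∃ c : G, IsConj g c ∧ c ∈ Subgroup.centralizer (P : Set G)) ↔ ∃ x : G, P.map (MulAut.conj x).toMonoidHom ≤ D := by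
  classical
  have := Fintype.ofFinite G
  obtain ⟨y, hy, Q, rfl⟩ := hD
  obtain ⟨χ₀, rfl⟩ := hB
  constructor
  · rintro ⟨g, -, hunit, c, hgc, hc⟩
    obtain ⟨t, ht⟩ := isConj_iff.mp hgc
    have hcoef : blockCoeff (blockOf M (χ₀ : G → ℂ)) c = blockCoeff (blockOf M (χ₀ : G → ℂ)) g := by
      rw [← ht]
      exact blockCoeff_isClassFunction _ g t
    have hh : ¬ MemLocalIdeal M (blockCoeff (blockOf M (χ₀ : G → ℂ)) c) := by
      rw [hcoef]
      exact hunit
    have hRh : P ≤ Subgroup.centralizer ({c} : Set G) := by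
      intro u hu
      rw [Subgroup.mem_centralizer_iff]
      intro z hz
      rw [Set.mem_singleton_iff] at hz
      rw [hz]
      exact (Subgroup.mem_centralizer_iff.mp hc u hu).symm
    obtain ⟨s, hs⟩ := subConj_of_blockCoeff_unit hM χ₀ y Q hy.2.2 c hh P hP hRh
    refine ⟨s⁻¹, ?_⟩
    rintro _ ⟨u, hu, rfl⟩
    obtain ⟨d, hd, hdu⟩ := hs hu
    have hdu' : s * d * s⁻¹ = u := by simpa using hdu
    have e : (MulAut.conj s⁻¹).toMonoidHom u = d := by
      rw [← hdu']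
      simp only [MulEquiv.coe_toMonoidHom, MulAut.conj_apply]
      group
    rw [e]
    exact hd
  · rintro ⟨x, hx⟩
    refine ⟨y, hy.1, hy.2.1, x⁻¹ * y * x, isConj_iff.mpr ⟨x⁻¹, by simp⟩, ?_⟩
    rw [Subgroup.mem_centralizer_iff]
    intro u hu
    have h1 : (MulAut.conj x).toMonoidHom u ∈ (Q : Subgroup (Subgroup.centralizer ({y} : Set G))).map
        (Subgroup.centralizer ({y} : Set G)).subtype := hx ⟨u, hu, rfl⟩
    obtain ⟨d, -, hd⟩ := h1
    have h2 : y * (x * u * x⁻¹) = (x * u * x⁻¹) * y := by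
      have h3 := Subgroup.mem_centralizer_iff.mp d.2 y (Set.mem_singleton y)
      have h4 : (d : G) = x * u * x⁻¹ := by simpa using hd
      rw [← h4]
      exact h3
    calc u * (x⁻¹ * y * x) = x⁻¹ * ((x * u * x⁻¹) * y) * x := by group
      _ = x⁻¹ * (y * (x * u * x⁻¹)) * x := by rw [h2]
      _ = x⁻¹ * y * x * u := by group

end Cfsg.Agent.S0959
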