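import Cfsg.Statements.S4438
import Mathlib
import Cfsg.Agent.Lib.Helper33.CoverGU
import Cfsg.Agent.Lib.Helper22.IndDefect
import Cfsg.Agent.S0959
import Cfsg.Agent.S0911
import Cfsg.Agent.S0906

set_option autoImplicit false
open Cfsg

namespace Cfsg.Agent.S4438

open Cfsg.Agent.Lib Cfsg.Agent.Lib.Helper4 Cfsg.Agent.Lib.Helper21 Cfsg.Agent.Lib.Helper22 Cfsg.Agent.Lib.Helper20 Cfsg.Agent.Lib.Helper33
open scoped ComplexConjugate

/-- Let N be a normal subgroup of the finite group G, b a block of N with defect group Q, and B a block of G covering b (some member of B has a constituent in b on restriction to N), all relative to a maximal ideal M of the algebraic integers containing p. Then B has a defect group P with P ⊓ N = Q. -/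
theorem result {G : Type*} [Group G] [Fintype G] (p : ℕ) [Fact p.Prime] (M : Ideal Cfsg.AlgInt) (hM : Cfsg.IsPModular p M) (N : Subgroup G) [hN : N.Normal] [Fintype N] (b : Set (Cfsg.IrrCharacter N)) (hb : Cfsg.IsPBlock M b) (Q : Subgroup G) (hQN : Q ≤ N) (hQ : Cfsg.IsDefectGroup p M b (Q.subgroupOf N)) (B : Set (Cfsg.IrrCharacter G)) (hB : Cfsg.IsPBlock M B) (hcov : (∃ χ ∈ B, ∃ θ ∈ b, Cfsg.classInner (fun n : N => (χ : G → ℂ) n) (θ : N → ℂ) ≠ 0)) : ∃ P : Subgroup G, Cfsg.IsDefectGroup p M B P ∧ P ⊓ N = Q := by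
  classical
  have hBcf := blockCoeff_isClassFunction B
  have hBloc := osima hM B hB
  have hBinv : NInv N (blockCoeff B) := fun n _ g => hBcf g n
  have hbGinv : NInv N (bG N b) := ext_nInv N (blockCoeff_isClassFunction b)
  have hbGloc : ∀ g, MemLocalRing M (bG N b g) := bG_loc N hM b (osima hM b hb)
  -- Q is a p-group
  have hQp : IsPGroup p Q := by
    obtain ⟨g₀, -, P₀, hP₀⟩ := hQ
    have h1 : IsPGroup p (Q.subgroupOf N) := by
      rw [hP₀]
      exact P₀.isPGroup'.map _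
    exact h1.of_equiv (Subgroup.subgroupOfEquivOfLe hQN)
  -- Step β: the Brauer map at `Q` does not kill the idempotent of `B`
  have hβ : ∃ g ∈ Subgroup.centralizer (Q : Set G), ¬ MemLocalIdeal M (blockCoeff B g) := by
    by_contra hall
    push Not at hall
    apply cover_unit N hM b hb B hB hcov
    intro w u hu hul hus θ hθ
    have htinv : NInv N (trunc N w (blockCoeff B)) := trunc_nInv N w hBinv
    have htloc : ∀ g, MemLocalRing M (trunc N w (blockCoeff B) g) := trunc_loc N hM w hBloc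
    have hcinv : NInv N (conv (bG N b) (trunc N w (blockCoeff B))) := nInv_conv N hbGinv htinv
    have hcloc : ∀ g, MemLocalRing M (conv (bG N b) (trunc N w (blockCoeff B)) g) :=
      fun g => conv_locRing hM hbGloc htloc g
    have hyinv : NInv N (conv (conv (bG N b) (trunc N w (blockCoeff B))) u) :=
      nInv_conv N hcinv hu
    have hyloc : ∀ g, MemLocalRing M (conv (conv (bG N b) (trunc N w (blockCoeff B))) u g) :=
      fun g => conv_locRing hM hcloc hul g
    have hfcf : IsClassFunction N (resF N (conv (conv (bG N b) (trunc N w (blockCoeff B))) u)) :=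
      resF_isClassFunction N hyinv
    have hval : ∀ g ∈ Subgroup.centralizer (Q : Set G),
        MemLocalIdeal M (conv (conv (bG N b) (trunc N w (blockCoeff B))) u g) := by
      intro g hg
      refine conv_locIdeal_of_pgroup_inv hM _ _ hcloc hul g Q hQp hg
        (fun r hr h => hcinv r (hQN hr) h) (fun r hr h => hu r (hQN hr) h) (fun h hh => ?_)
      refine locIdeal_mul_right hM ?_ (hul _)
      refine conv_locIdeal_of_pgroup_inv hM _ _ hbGloc htloc h Q hQp hh
        (fun r hr k => hbGinv r (hQN hr) k) (fun r hr k => htinv r (hQN hr) k) (fun k hk => ?_)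
      refine locIdeal_mul_left hM (hbGloc k) ?_
      have hk' : k⁻¹ * h ∈ Subgroup.centralizer (Q : Set G) := mul_mem (inv_mem hk) hh
      unfold trunc
      split_ifs
      · exact hall _ hk'
      · exact locIdeal_zero hM
    refine omega_locIdeal_of_forall hM _ hfcf θ (fun n => ?_)
    by_cases hcc : MemLocalIdeal M (centralChar (θ : N → ℂ) n)
    · exact locIdeal_mul_left hM (hyloc n) hcc
    · obtain ⟨g₀, hg₀, P₀, hP₀⟩ := hQ
      obtain ⟨x, S, hS⟩ := (Cfsg.Agent.S0911.result p M hM b hb g₀ hg₀ P₀ n).2 ⟨θ, hθ, hcc⟩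
      rw [← hP₀] at hS
      have hn' : ((x⁻¹ * n * x : N) : G) ∈ Subgroup.centralizer (Q : Set G) := by
        rw [Subgroup.mem_centralizer_iff]
        intro q hq
        have h1 : (MulAut.conj x).toMonoidHom ⟨q, hQN hq⟩ ∈
            (Q.subgroupOf N).map (MulAut.conj x).toMonoidHom :=
          Subgroup.mem_map_of_mem _ (Subgroup.mem_subgroupOf.mpr hq)
        obtain ⟨z, -, hz⟩ := hS h1
        have h3 : n * (x * ⟨q, hQN hq⟩ * x⁻¹) = (x * ⟨q, hQN hq⟩ * x⁻¹) * n := by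
          have h4 := Subgroup.mem_centralizer_iff.mp z.2 n (Set.mem_singleton n)
          have hz' : (z : N) = x * ⟨q, hQN hq⟩ * x⁻¹ := by
            simpa [MulAut.conj_apply] using hz
          rw [hz'] at h4
          exact h4
        have h5 : (⟨q, hQN hq⟩ : N) * (x⁻¹ * n * x) = (x⁻¹ * n * x) * ⟨q, hQN hq⟩ := by
          calc (⟨q, hQN hq⟩ : N) * (x⁻¹ * n * x)
              = x⁻¹ * ((x * ⟨q, hQN hq⟩ * x⁻¹) * n) * x := by group
            _ = x⁻¹ * (n * (x * ⟨q, hQN hq⟩ * x⁻¹)) * x := by rw [h3]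
            _ = (x⁻¹ * n * x) * ⟨q, hQN hq⟩ := by group
        exact congrArg Subtype.val h5
      have hfn : resF N (conv (conv (bG N b) (trunc N w (blockCoeff B))) u) n =
          resF N (conv (conv (bG N b) (trunc N w (blockCoeff B))) u) (x⁻¹ * n * x) := by
        have h6 := hfcf n x⁻¹
        rw [inv_inv] at h6
        exact h6.symm
      rw [hfn]
      exact locIdeal_mul_right hM (hval _ hn') (centralChar_locRing hM θ n)
  obtain ⟨g, hgQ, hg⟩ := hβ
  -- a defect group of `B` containing `Q`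
  obtain ⟨g₀, hg₀⟩ := Cfsg.Agent.S0906.result p M hM B hB
  obtain ⟨P₀⟩ : Nonempty (Sylow p (Subgroup.centralizer ({g₀} : Set G))) := inferInstance
  have hD₀ : IsDefectGroup p M B ((P₀ : Subgroup (Subgroup.centralizer ({g₀} : Set G))).map
      (Subgroup.centralizer ({g₀} : Set G)).subtype) := ⟨g₀, hg₀, P₀, rfl⟩
  have hD₀p : IsPGroup p ((P₀ : Subgroup (Subgroup.centralizer ({g₀} : Set G))).map
      (Subgroup.centralizer ({g₀} : Set G)).subtype) := P₀.isPGroup'.map _
  generalize (P₀ : Subgroup (Subgroup.centralizer ({g₀} : Set G))).map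
      (Subgroup.centralizer ({g₀} : Set G)).subtype = D₀ at hD₀ hD₀p
  obtain ⟨x, hx⟩ := (Cfsg.Agent.S0959.result p M hM B hB D₀ hD₀ Q hQp).mp
    ⟨g, hBloc g, hg, g, IsConj.refl g, hgQ⟩
  have hD' : IsDefectGroup p M B (D₀.map (MulAut.conj x⁻¹).toMonoidHom) :=
    isDefectGroup_conj B D₀ x⁻¹ hD₀
  have hD'p : IsPGroup p (D₀.map (MulAut.conj x⁻¹).toMonoidHom) := hD₀p.map _
  have hQD' : Q ≤ D₀.map (MulAut.conj x⁻¹).toMonoidHom := by
    intro q hq
    have h1 : x * q * x⁻¹ ∈ D₀ := hx (Subgroup.mem_map.mpr ⟨q, hq, by simp [MulAut.conj_apply]⟩)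
    refine Subgroup.mem_map.mpr ⟨x * q * x⁻¹, h1, ?_⟩
    simp only [MulEquiv.coe_toMonoidHom, MulAut.conj_apply]
    group
  generalize D₀.map (MulAut.conj x⁻¹).toMonoidHom = D' at hD' hD'p hQD'
  refine ⟨D', hD', ?_⟩
  -- Step α: the order of `D' ⊓ N` is at most the order of `Q`
  have hP₁p : IsPGroup p (D' ⊓ N : Subgroup G) := hD'p.to_le inf_le_left
  have hQP₁ : Q ≤ D' ⊓ N := le_inf hQD' hQN
  suffices hcard : Nat.card (D' ⊓ N : Subgroup G) ≤ Nat.card Q from
    (Subgroup.eq_of_le_of_card_ge hQP₁ hcard).symm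
  obtain ⟨g₁, -, hg₁, c, hgc, hc⟩ :=
    (Cfsg.Agent.S0959.result p M hM B hB D' hD' (D' ⊓ N) hP₁p).mpr ⟨1, by
      intro y hy
      obtain ⟨z, hz, rfl⟩ := Subgroup.mem_map.mp hy
      simpa using hz.1⟩
  have hc' : ¬ MemLocalIdeal M (blockCoeff B c) := by
    obtain ⟨s, hs⟩ := isConj_iff.mp hgc
    rw [← hs, hBcf g₁ s]
    exact hg₁
  -- the idempotent of the union of the conjugates of `b`
  have hSst : ∀ φ ∈ Cfsg.Agent.S0964.conjUnion N b, ∀ g : G,
      irrConjFun N φ g ∈ Cfsg.Agent.S0964.conjUnion N b :=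
    Cfsg.Agent.S0964.conjUnion_stable N b
  have hSsat := Cfsg.Agent.S0964.conjUnion_saturated N hM b hb
  have hSloc : ∀ n, MemLocalRing M (blockCoeff (Cfsg.Agent.S0964.conjUnion N b) n) :=
    blockCoeff_locRing_of_saturated hM _ hSsat
  have hbS : b ⊆ Cfsg.Agent.S0964.conjUnion N b :=
    fun θ hθ => ⟨1, θ, hθ, (irrConjFun_one N θ).symm⟩
  have hSmem : ∀ φ ∈ Cfsg.Agent.S0964.conjUnion N b, ∃ g : G, ∃ θ' ∈ b,
      φ = irrConjFun N θ' g := fun φ h => h
  generalize Cfsg.Agent.S0964.conjUnion N b = S at hSst hSsat hSloc hbS hSmem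
  have hecf : IsClassFunction G (bG N S) :=
    isClassFunction_extendByZero N _ (blockCoeff_conj_invariant N S hSst)
  have heloc : ∀ g, MemLocalRing M (bG N S g) := bG_loc N hM S hSloc
  obtain ⟨χ₀, hχ₀, θ₀, hθ₀, hne⟩ := hcov
  have hidem : ∀ ψ : IrrCharacter G, omega (ψ : G → ℂ) (bG N S) * omega (ψ : G → ℂ) (bG N S) =
      omega (ψ : G → ℂ) (bG N S) := by
    intro ψ
    rw [← omega_conv ψ _ _ hecf hecf, conv_bG]
  have hω₀ : omega (χ₀ : G → ℂ) (bG N S) = 1 := by
    have hne0 : omega (χ₀ : G → ℂ) (bG N S) ≠ 0 := by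
      rw [omega_def]
      exact div_ne_zero (sum_bG_mul_irr_ne_zero N S χ₀ θ₀ (hbS hθ₀) hne)
        (Helper4.irr_one_ne_zero χ₀)
    have h3 : omega (χ₀ : G → ℂ) (bG N S) * omega (χ₀ : G → ℂ) (bG N S) =
        1 * omega (χ₀ : G → ℂ) (bG N S) := by rw [hidem, one_mul]
    exact mul_right_cancel₀ hne0 h3
  have hω : ∀ ψ ∈ B, omega (ψ : G → ℂ) (bG N S) = 1 := by
    intro ψ hψ
    have hsame : SameBlock M (χ₀ : G → ℂ) (ψ : G → ℂ) := by
      obtain ⟨χ₁, rfl⟩ := hB
      exact sameBlock_trans hM (sameBlock_symm hχ₀) hψ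
    have h1 := omega_sub_locIdeal hM _ hecf heloc χ₀ ψ hsame
    rw [hω₀] at h1
    have h2 := hidem ψ
    have h3 : omega (ψ : G → ℂ) (bG N S) * (omega (ψ : G → ℂ) (bG N S) - 1) = 0 := by
      rw [mul_sub, h2, mul_one, sub_self]
    rcases mul_eq_zero.mp h3 with h | h
    · rw [h, sub_zero] at h1
      exact absurd h1 (locIdeal_one_not hM)
    · exact sub_eq_zero.mp h
  have heB : conv (bG N S) (blockCoeff B) = blockCoeff B := by
    refine Helper22.eq_of_omega_eq _ _ (conv_isClassFunction hecf hBcf) hBcf (fun ψ => ?_)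
    rw [omega_conv ψ _ _ hecf hBcf, omega_blockCoeff]
    by_cases hψ : ψ ∈ B
    · rw [if_pos hψ, hω ψ hψ, one_mul]
    · rw [if_neg hψ, mul_zero]
  have hP₁c : (D' ⊓ N : Subgroup G) ≤ Subgroup.centralizer ({c} : Set G) := by
    intro r hr
    rw [Subgroup.mem_centralizer_iff]
    intro y hy
    rw [Set.mem_singleton_iff] at hy
    subst hy
    exact (Subgroup.mem_centralizer_iff.mp hc r hr).symm
  have hex : ∃ x₁ : G, (D' ⊓ N : Subgroup G) ≤ Subgroup.centralizer ({x₁} : Set G) ∧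
      ¬ MemLocalIdeal M (bG N S x₁) := by
    by_contra hcon
    push Not at hcon
    apply hc'
    rw [← heB]
    exact conv_locIdeal_of_pgroup hM _ _ hecf hBcf heloc hBloc c (D' ⊓ N) hP₁p hP₁c hcon
  obtain ⟨x₁, hx₁c, hx₁e⟩ := hex
  have hx₁N : x₁ ∈ N := by
    by_contra hxN
    apply hx₁e
    unfold bG
    rw [Helper46.extendByZero_of_not_mem N _ hxN]
    exact locIdeal_zero hM
  have hx₁e' : ¬ MemLocalIdeal M (blockCoeff S ⟨x₁, hx₁N⟩) := by
    intro h
    apply hx₁e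
    unfold bG
    rw [Helper46.extendByZero_of_mem N _ hx₁N]
    exact h
  obtain ⟨φ₀, hφ₀, hφ₀e⟩ := exists_blockOf_unit_of_saturated hM S hSsat _ hx₁e'
  obtain ⟨g₂, θ₂, hθ₂, rfl⟩ := hSmem φ₀ hφ₀
  have hbθ₂ : blockOf M (θ₂ : N → ℂ) = b := by
    obtain ⟨θ₃, rfl⟩ := hb
    exact blockOf_eq_of_sameBlock hM hθ₂
  rw [blockCoeff_blockOf_irrConjFun N θ₂ g₂, hbθ₂, conjFun_apply] at hφ₀e
  -- the conjugate of `D' ⊓ N` centralizes the conjugate of `x₁`
  have hle : (D' ⊓ N : Subgroup G).map (MulAut.conj g₂).toMonoidHom ≤ N := by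
    rintro _ ⟨z, hz, rfl⟩
    exact hN.conj_mem z hz.2 g₂
  have hRp : IsPGroup p (((D' ⊓ N : Subgroup G).map (MulAut.conj g₂).toMonoidHom).subgroupOf N) :=
    (hP₁p.map _).comap_of_injective N.subtype N.subtype_injective
  have hRcent : (⟨g₂ * x₁ * g₂⁻¹, hN.conj_mem x₁ hx₁N g₂⟩ : N) ∈ Subgroup.centralizer
      ((((D' ⊓ N : Subgroup G).map (MulAut.conj g₂).toMonoidHom).subgroupOf N : Subgroup N) :
        Set N) := by
    rw [Subgroup.mem_centralizer_iff]
    intro r hr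
    obtain ⟨z, hz, hzr⟩ := Subgroup.mem_map.mp (Subgroup.mem_subgroupOf.mp hr)
    have h1 : x₁ * z = z * x₁ :=
      Subgroup.mem_centralizer_iff.mp (hx₁c hz) x₁ (Set.mem_singleton x₁)
    apply Subtype.ext
    have hzr' : (r : G) = g₂ * z * g₂⁻¹ := by
      rw [← hzr]
      simp [MulAut.conj_apply]
    show (r : G) * (g₂ * x₁ * g₂⁻¹) = (g₂ * x₁ * g₂⁻¹) * (r : G)
    rw [hzr']
    calc g₂ * z * g₂⁻¹ * (g₂ * x₁ * g₂⁻¹) = g₂ * (z * x₁) * g₂⁻¹ := by group
      _ = g₂ * (x₁ * z) * g₂⁻¹ := by rw [h1]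
      _ = g₂ * x₁ * g₂⁻¹ * (g₂ * z * g₂⁻¹) := by group
  obtain ⟨y, hy⟩ := (Cfsg.Agent.S0959.result p M hM b hb (Q.subgroupOf N) hQ _ hRp).mp
    ⟨_, osima hM b hb _, hφ₀e, _, IsConj.refl _, hRcent⟩
  have h1 : Nat.card (((D' ⊓ N : Subgroup G).map (MulAut.conj g₂).toMonoidHom).subgroupOf N) ≤
      Nat.card (Q.subgroupOf N) := by
    have h2 := Subgroup.card_le_of_le hy
    rwa [Subgroup.card_map_of_injective (MulAut.conj y).injective] at h2
  have h2 : Nat.card (Q.subgroupOf N) = Nat.card Q :=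
    Nat.card_congr (Subgroup.subgroupOfEquivOfLe hQN).toEquiv
  have h3 : Nat.card (((D' ⊓ N : Subgroup G).map (MulAut.conj g₂).toMonoidHom).subgroupOf N) =
      Nat.card (D' ⊓ N : Subgroup G) := by
    rw [Nat.card_congr (Subgroup.subgroupOfEquivOfLe hle).toEquiv]
    exact Subgroup.card_map_of_injective (MulAut.conj g₂).injective
  omega

end Cfsg.Agent.S4438
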