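import Cfsg.Statements.S0917
import Mathlib
import Cfsg.Agent.Lib.Helper22.IndDefect

set_option autoImplicit false
open Cfsg
open scoped ComplexConjugate

namespace Cfsg.Agent.S0917

open Cfsg.Agent.Lib.Helper22

theorem result {G : Type*} [Group G] [Finite G] (p : ℕ) [Fact p.Prime] (M : Ideal Cfsg.AlgInt) (hM : Cfsg.IsPModular p M) (H : Subgroup G) (b : Set (Cfsg.IrrCharacter H)) (hb : Cfsg.IsPBlock M b) (B : Set (Cfsg.IrrCharacter G)) (hB : Cfsg.IsPBlock M B) (hind : Cfsg.IsInducedBlock M H b B) (D : Subgroup H) (hD : Cfsg.IsDefectGroup p M b D) : ∃ E : Subgroup G, Cfsg.IsDefectGroup p M B E ∧ D.map H.subtype ≤ E := by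
  classical
  letI := Fintype.ofFinite G
  letI := Fintype.ofFinite H
  obtain ⟨y, hy, P, rfl⟩ := hD
  refine exists_defectGroup_ge_of_induced hM H b B hind y hy _ (P.isPGroup'.map _) ?_
  rintro _ ⟨z, _, rfl⟩
  exact z.2

end Cfsg.Agent.S0917
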