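import Cfsg.Statements.S4435
import Mathlib
import Cfsg.Agent.Lib.Helper33.FRChar
import Cfsg.Agent.S0933
import Cfsg.Agent.S0964

set_option autoImplicit false
open Cfsg
open scoped ComplexConjugate

namespace Cfsg.Agent.S4435

open Cfsg.Agent.Lib Cfsg.Agent.Lib.Helper4 Cfsg.Agent.Lib.Helper21 Cfsg.Agent.Lib.Helper22
  Cfsg.Agent.Lib.Helper20 Cfsg.Agent.Lib.Helper33

section Aux

variable {G : Type*} [Group G] [Fintype G] {p : ℕ} {M : Ideal AlgInt}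

omit [Fintype G] in
/-- The stabilizer of a block of a normal subgroup is a stabilizer in the sense of `IsStab`. -/
theorem isStab_of_block (hM : IsPModular p M) (N : Subgroup G) [hN : N.Normal]
    (b : Set (IrrCharacter N)) (hb : IsPBlock M b) (T : Subgroup G)
    (hT : ∀ g : G, g ∈ T ↔ ∀ θ ∈ b, ∀ θ' : IrrCharacter N,
      (∀ n : N, (θ' : N → ℂ) n = (θ : N → ℂ) ⟨g * n * g⁻¹, hN.conj_mem n n.2 g⟩) → θ' ∈ b) :
    IsStab N T b := by
  have hT' : ∀ g : G, g ∈ T ↔ ∀ θ ∈ b, irrConjFun N θ g ∈ b := by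
    intro g
    constructor
    · intro hg θ hθ
      exact (hT g).mp hg θ hθ (irrConjFun N θ g) (fun n => rfl)
    · intro h
      rw [hT]
      intro θ hθ θ' hθ'
      have e : θ' = irrConjFun N θ g := Subtype.ext (funext hθ')
      rw [e]
      exact h θ hθ
  refine ⟨fun x hx φ => ⟨fun h => ?_, fun h => ?_⟩, fun x hx φ hφ hφ' => ?_⟩
  · have h1 := (hT' x).mp hx _ h
    rwa [irrConjFun_irrConjFun, inv_mul_cancel, irrConjFun_one] at h1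
  · exact (hT' x⁻¹).mp (T.inv_mem hx) φ h
  · apply hx
    rw [hT']
    intro θ hθ
    obtain ⟨θ₁, rfl⟩ := hb
    have h1 : SameBlock M (irrConjFun N φ x⁻¹ : N → ℂ) (θ : N → ℂ) :=
      sameBlock_trans hM (sameBlock_symm hφ') hθ
    have h2 := sameBlock_conjFun N h1 x
    rw [irrConjFun_coe, conjFun_conjFun, inv_mul_cancel, conjFun_one] at h2
    exact sameBlock_trans hM hφ h2

omit [Fintype G] in
theorem blockOf_of_mem {K : Type*} [Group K] (hM : IsPModular p M) {B : Set (IrrCharacter K)}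
    (hB : IsPBlock M B) {ψ : IrrCharacter K} (hψ : ψ ∈ B) : B = blockOf M (ψ : K → ℂ) := by
  obtain ⟨ξ, rfl⟩ := hB
  exact (blockOf_eq_of_sameBlock hM hψ).symm

omit [Fintype G] in
/-- The induced block is unique. -/
theorem inducedBlock_unique (hM : IsPModular p M) (T : Subgroup G) {B' : Set (IrrCharacter T)}
    {B₁ B₂ : Set (IrrCharacter G)} (h₁ : IsInducedBlock M T B' B₁)
    (h₂ : IsInducedBlock M T B' B₂) (ξ : IrrCharacter T) (hξ : ξ ∈ B') : B₁ = B₂ := by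
  obtain ⟨χ₁, rfl⟩ := h₁.2.1
  obtain ⟨χ₂, rfl⟩ := h₂.2.1
  apply blockOf_eq_of_sameBlock hM
  intro g
  have e₁ := h₁.2.2 ξ hξ χ₁ (mem_blockOf_self hM χ₁) g
  have e₂ := h₂.2.2 ξ hξ χ₂ (mem_blockOf_self hM χ₂) g
  have h3 := locIdeal_sub hM e₁ e₂
  have h4 : inducedCentralChar T (ξ : T → ℂ) g - centralChar (χ₁ : G → ℂ) g -
      (inducedCentralChar T (ξ : T → ℂ) g - centralChar (χ₂ : G → ℂ) g) =
      centralChar (χ₂ : G → ℂ) g - centralChar (χ₁ : G → ℂ) g := by ring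
  rw [h4] at h3
  exact h3

variable (N : Subgroup G) [hN : N.Normal] [Fintype N] (T : Subgroup G) [Fintype T] (hNT : N ≤ T)

/-- Every member of a block of `T` covering `b` lies over `b`. -/
theorem over_of_mem (hM : IsPModular p M) {b : Set (IrrCharacter N)} (hst : IsStab N T b)
    (hb : IsPBlock M b) (B' : Set (IrrCharacter T)) (hB' : IsPBlock M B')
    (hcov : ∃ ψ ∈ B', OverB N T hNT b (ψ : T → ℂ)) (ψ : IrrCharacter T) (hψ : ψ ∈ B') :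
    OverB N T hNT b (ψ : T → ℂ) := by
  by_contra hno
  obtain ⟨ψ₀, hψ₀, hov⟩ := hcov
  have h1 := omega_bT_of_over N T hNT hst ψ₀ hov
  have h0 := omega_bT_of_not_over N T hNT b ψ hno
  obtain ⟨ξ, rfl⟩ := hB'
  have hsame : SameBlock M (ψ₀ : T → ℂ) (ψ : T → ℂ) :=
    sameBlock_trans hM (sameBlock_symm hψ₀) hψ
  have h3 := omega_sub_locIdeal hM (bT N T b) (bT_isClassFunction N T hst)
    (bT_locRing N T hM b hb) ψ₀ ψ hsame
  rw [h1, h0, sub_zero] at h3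
  exact locIdeal_one_not hM h3

/-- Distinct blocks of `T` covering `b` induce distinct blocks of `G`. -/
theorem induced_injective (hM : IsPModular p M) {b : Set (IrrCharacter N)}
    (hst : IsStab N T b) (hb : IsPBlock M b) (B'₁ B'₂ : Set (IrrCharacter T))
    (hB₁ : IsPBlock M B'₁) (hB₂ : IsPBlock M B'₂)
    (hc₁ : ∃ ψ ∈ B'₁, OverB N T hNT b (ψ : T → ℂ))
    (hc₂ : ∃ ψ ∈ B'₂, OverB N T hNT b (ψ : T → ℂ)) (B : Set (IrrCharacter G))
    (hi₁ : IsInducedBlock M T B'₁ B) (hi₂ : IsInducedBlock M T B'₂ B) : B'₁ = B'₂ := by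
  classical
  obtain ⟨ψ₁, hψ₁, ho₁⟩ := hc₁
  obtain ⟨ψ₂, hψ₂, ho₂⟩ := hc₂
  have hccf : IsClassFunction T (blockCoeff B'₁) := blockCoeff_isClassFunction B'₁
  have hcloc : ∀ t, MemLocalRing M (blockCoeff B'₁ t) := fun t => osima hM B'₁ hB₁ t
  have hZcf : IsClassFunction G (indFun T (conv (bT N T b) (blockCoeff B'₁))) :=
    Helper35.isClassFunction_indFun T _
  have hZloc : ∀ g, MemLocalRing M (indFun T (conv (bT N T b) (blockCoeff B'₁)) g) :=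
    fun g => indFun_locRing T hM _ (conv_isClassFunction (bT_isClassFunction N T hst) hccf)
      (fun t => conv_locRing hM (bT_locRing N T hM b hb) hcloc t) g
  obtain ⟨χ, hχ⟩ : ∃ χ, χ ∈ B := by
    obtain ⟨χ₀, h⟩ := hi₁.2.1
    exact ⟨χ₀, h ▸ mem_blockOf_self hM χ₀⟩
  have e₁ := omega_indFun_sub_locIdeal hM T B'₁ B hi₁ ψ₁ hψ₁ χ hχ _ hZcf hZloc
  have e₂ := omega_indFun_sub_locIdeal hM T B'₂ B hi₂ ψ₂ hψ₂ χ hχ _ hZcf hZloc
  rw [omega_ind_ind N T hNT hst ψ₁ ho₁ _ hccf, omega_blockCoeff, if_pos hψ₁] at e₁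
  rw [omega_ind_ind N T hNT hst ψ₂ ho₂ _ hccf, omega_blockCoeff] at e₂
  have hψ₂' : ψ₂ ∈ B'₁ := by
    by_contra hno
    rw [if_neg hno] at e₂
    have h3 := locIdeal_sub hM e₁ e₂
    have h4 : (1 - omega (χ : G → ℂ) (indFun T (conv (bT N T b) (blockCoeff B'₁)))) -
        (0 - omega (χ : G → ℂ) (indFun T (conv (bT N T b) (blockCoeff B'₁)))) = 1 := by ring
    rw [h4] at h3
    exact locIdeal_one_not hM h3
  rw [blockOf_of_mem hM hB₁ hψ₂', blockOf_of_mem hM hB₂ hψ₂]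

end Aux

/-- Let N be a normal subgroup of the finite group G, b a block of N (relative to a maximal ideal M of the algebraic integers containing p), and T the stabilizer of b in G (the elements g such that conjugating any member of b by g gives a member of b); N ≤ T. Say that a block of T (or of G) covers b when some member has a constituent in b on restriction to N. Then: (i) every block B′ of T covering b induces a block B of G, B covers b, every ψ ∈ B′ induces to an irreducible character of G, and B consists exactly of the characters induced from members of B′; (ii) distinct blocks of T covering b induce distinct blocks of G; (iii) every block of G covering b is induced by some block of T covering b. -/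
theorem result {G : Type*} [Group G] [Fintype G] (p : ℕ) [Fact p.Prime] (M : Ideal Cfsg.AlgInt) (hM : Cfsg.IsPModular p M) (N : Subgroup G) [hN : N.Normal] [Fintype N] (b : Set (Cfsg.IrrCharacter N)) (hb : Cfsg.IsPBlock M b) (T : Subgroup G) [Fintype T] (hT : ∀ g : G, g ∈ T ↔ ∀ θ ∈ b, ∀ θ' : Cfsg.IrrCharacter N, (∀ n : N, (θ' : N → ℂ) n = (θ : N → ℂ) ⟨g * n * g⁻¹, hN.conj_mem n n.2 g⟩) → θ' ∈ b) (hNT : N ≤ T) : (∀ B' : Set (Cfsg.IrrCharacter T), Cfsg.IsPBlock M B' → (∃ ψ ∈ B', ∃ θ ∈ b, Cfsg.classInner (fun n : N => (ψ : T → ℂ) ⟨(n : G), hNT n.2⟩) (θ : N → ℂ) ≠ 0) → ∃ B : Set (Cfsg.IrrCharacter G), Cfsg.IsInducedBlock M T B' B ∧ (∃ χ ∈ B, ∃ θ ∈ b, Cfsg.classInner (fun n : N => (χ : G → ℂ) n) (θ : N → ℂ) ≠ 0) ∧ (∀ ψ ∈ B', Cfsg.IsIrrCharacter G (Cfsg.indFun T (ψ : T → ℂ))) ∧ ∀ χ : Cfsg.IrrCharacter G, χ ∈ B ↔ ∃ ψ ∈ B', (χ : G → ℂ) = Cfsg.indFun T (ψ : T → ℂ)) ∧ (∀ B'₁ B'₂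 : Set (Cfsg.IrrCharacter T), Cfsg.IsPBlock M B'₁ → Cfsg.IsPBlock M B'₂ → (∃ ψ ∈ B'₁, ∃ θ ∈ b, Cfsg.classInner (fun n : N => (ψ : T → ℂ) ⟨(n : G), hNT n.2⟩) (θ : N → ℂ) ≠ 0) → (∃ ψ ∈ B'₂, ∃ θ ∈ b, Cfsg.classInner (fun n : N => (ψ : T → ℂ) ⟨(n : G), hNT n.2⟩) (θ : N → ℂ) ≠ 0) → ∀ B : Set (Cfsg.IrrCharacter G), Cfsg.IsInducedBlock M T B'₁ B → Cfsg.IsInducedBlock M T B'₂ B → B'₁ = B'₂) ∧ (∀ B : Set (Cfsg.IrrCharacter G), Cfsg.IsPBlock M B → (∃ χ ∈ B, ∃ θ ∈ b, Cfsg.classInner (fun n : N => (χ : G → ℂ) n) (θ : N → ℂ) ≠ 0) → ∃ B' : Set (Cfsg.IrrCharacter T), Cfsg.IsPBlock M B' ∧ (∃ ψ ∈ B', ∃ θ ∈ b, Cfsg.classInner (fun n : N => (ψ : T → ℂ) ⟨(n : G), hNT n.2⟩) (θ : N → ℂ) ≠ 0) ∧ Cfsg.IsInducedBlock M T B' B) := by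
  classical
  have hst : IsStab N T b := isStab_of_block hM N b hb T hT
  have hindirr : ∀ ψ : IrrCharacter T, OverB N T hNT b (ψ : T → ℂ) →
      IsIrrCharacter G (indFun T (ψ : T → ℂ)) := fun ψ h => ind_irr N T hNT hst ψ h
  have hindblk : ∀ ψ : IrrCharacter T, OverB N T hNT b (ψ : T → ℂ) →
      IsInducedBlock M T (blockOf M (ψ : T → ℂ)) (blockOf M (indFun T (ψ : T → ℂ))) :=
    fun ψ h => Cfsg.Agent.S0933.result p M hM T ψ (hindirr ψ h)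
  refine ⟨?_, ?_, ?_⟩
  · intro B' hB' hcov
    have hcov' : ∃ ψ ∈ B', OverB N T hNT b (ψ : T → ℂ) := hcov
    have hov : ∀ ψ ∈ B', OverB N T hNT b (ψ : T → ℂ) :=
      fun ψ hψ => over_of_mem N T hNT hM hst hb B' hB' hcov' ψ hψ
    obtain ⟨ψ₀, hψ₀, hov₀⟩ := hcov'
    have hB'ind : IsInducedBlock M T B' (blockOf M (indFun T (ψ₀ : T → ℂ))) := by
      have h1 := hindblk ψ₀ hov₀
      rwa [← blockOf_of_mem hM hB' hψ₀] at h1
    let χ₀ : IrrCharacter G := ⟨indFun T (ψ₀ : T → ℂ), hindirr ψ₀ hov₀⟩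
    have hχ₀ : χ₀ ∈ blockOf M (indFun T (ψ₀ : T → ℂ)) := mem_blockOf_self hM χ₀
    obtain ⟨θ₀, hθ₀, hne₀⟩ := hov₀
    have hcon₀ : classInner (fun n : N => (χ₀ : G → ℂ) n) (θ₀ : N → ℂ) ≠ 0 :=
      classInner_resG_ne_zero N T hNT χ₀ ψ₀ θ₀
        (classInner_res_ind_ne_zero N T hNT hst ψ₀ ⟨θ₀, hθ₀, hne₀⟩) hne₀
    refine ⟨blockOf M (indFun T (ψ₀ : T → ℂ)), hB'ind, ⟨χ₀, hχ₀, θ₀, hθ₀, hcon₀⟩,
      fun ψ hψ => hindirr ψ (hov ψ hψ), fun χ => ⟨fun hχ => ?_, ?_⟩⟩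
    · obtain ⟨μ, hμ⟩ := exists_constituent_resN N χ
      obtain ⟨g, θ', hθ', hconj⟩ := Cfsg.Agent.S0964.result p M hM N
        (blockOf M (indFun T (ψ₀ : T → ℂ))) ⟨χ₀, rfl⟩ b hb χ₀ hχ₀ θ₀ hθ₀ hcon₀ χ hχ μ hμ
      have hμeq : (μ : N → ℂ) = conjFun N (θ' : N → ℂ) g := funext hconj
      have hne' : classInner (fun n : N => (χ : G → ℂ) n) (θ' : N → ℂ) ≠ 0 := by
        rw [← classInner_res_conjFun N (isClassFunction_irr χ) (θ' : N → ℂ) g, ← hμeq]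
        exact hμ
      obtain ⟨ξ, hξ1, hξ2⟩ := exists_ind_eq N T hNT hst χ θ' hθ' hne'
      have hξind := hindblk ξ ⟨θ', hθ', hξ1⟩
      rw [← hξ2] at hξind
      have hblk : blockOf M (χ : G → ℂ) = blockOf M (indFun T (ψ₀ : T → ℂ)) :=
        blockOf_eq_of_sameBlock hM hχ
      rw [hblk] at hξind
      have heq := induced_injective N T hNT hM hst hb (blockOf M (ξ : T → ℂ)) B' ⟨ξ, rfl⟩ hB'
        ⟨ξ, mem_blockOf_self hM ξ, θ', hθ', hξ1⟩ ⟨ψ₀, hψ₀, θ₀, hθ₀, hne₀⟩ _ hξind hB'ind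
      exact ⟨ξ, heq ▸ mem_blockOf_self hM ξ, hξ2⟩
    · rintro ⟨ψ, hψ, hχψ⟩
      have h1 := hindblk ψ (hov ψ hψ)
      rw [← blockOf_of_mem hM hB' hψ] at h1
      have h2 := inducedBlock_unique hM T h1 hB'ind ψ hψ
      rw [← h2, ← hχψ]
      exact mem_blockOf_self hM χ
  · intro B'₁ B'₂ hB₁ hB₂ hc₁ hc₂ B hi₁ hi₂
    exact induced_injective N T hNT hM hst hb B'₁ B'₂ hB₁ hB₂ hc₁ hc₂ B hi₁ hi₂
  · intro B hB hcovB
    obtain ⟨χ, hχ, θ, hθ, hne⟩ := hcovB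
    obtain ⟨ξ, hξ1, hξ2⟩ := exists_ind_eq N T hNT hst χ θ hθ hne
    have hξind := hindblk ξ ⟨θ, hθ, hξ1⟩
    rw [← hξ2, ← blockOf_of_mem hM hB hχ] at hξind
    exact ⟨blockOf M (ξ : T → ℂ), ⟨ξ, rfl⟩, ⟨ξ, mem_blockOf_self hM ξ, θ, hθ, hξ1⟩, hξind⟩

end Cfsg.Agent.S4435
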