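import Cfsg.Statements.S4551
import Cfsg.Agent.Lib.Helper84.AD4
import Cfsg.Agent.Lib.Helper20.Ito

set_option autoImplicit false
open Cfsg

namespace Cfsg.Agent.S4551

/-- Let N be a normal subgroup of the finite group G of index prime to p, P a Sylow p-subgroup of G with G = N·C_G(P), and M a maximal ideal of the algebraic integers containing p. Then restriction to N is a bijection from the principal p-block of G onto the principal p-block of N: every member of the principal block of G restricts to a member of the principal block of N, and every member of the principal block of N is the restriction of exactly one member of the principal block of G. -/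
theorem result {G : Type*} [Group G] [Finite G] (p : ℕ) [Fact p.Prime] (M : Ideal Cfsg.AlgInt) (hM : Cfsg.IsPModular p M) (N : Subgroup G) [N.Normal] (hidx : ¬ p ∣ N.index) (P : Sylow p G) (hsup : N ⊔ Subgroup.centralizer ((P : Subgroup G) : Set G) = ⊤) : (∀ χ ∈ Cfsg.principalBlock M G, ∃ θ ∈ Cfsg.principalBlock M ↥N, ∀ n : N, (χ : G → ℂ) n = (θ : N → ℂ) n) ∧ ∀ θ ∈ Cfsg.principalBlock M ↥N, ∃! χ : Cfsg.IrrCharacter G, χ ∈ Cfsg.principalBlock M G ∧ ∀ n : N, (χ : G → ℂ) n = (θ : N → ℂ) n := by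
  classical
  letI : Fintype G := Fintype.ofFinite G
  letI : Fintype N := Fintype.ofFinite N
  have key := fun (θ : Cfsg.IrrCharacter N) (hθ : θ ∈ Cfsg.principalBlock M ↥N) =>
    Cfsg.Agent.Lib.Helper84.AD.main_unique hM N hidx P hsup θ hθ
  constructor
  · intro χ hχ
    obtain ⟨θ, hθ, hover⟩ := Cfsg.Agent.Lib.Helper20.exists_constituent N χ.2
    have hθB : (⟨θ, hθ⟩ : Cfsg.IrrCharacter N) ∈ Cfsg.principalBlock M ↥N := by
      apply Cfsg.Agent.Lib.Helper82.mem_principal_of_resMult N hM χ hχ ⟨θ, hθ⟩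
      intro h0
      apply hover
      have h1 := Cfsg.Agent.Lib.Helper82.resMult_spec N χ (⟨θ, hθ⟩ : Cfsg.IrrCharacter N)
      rw [h0] at h1
      simpa using h1
    obtain ⟨χ₀, hχ₀, huniq⟩ := key ⟨θ, hθ⟩ hθB
    have hχeq := huniq χ hχ hover
    refine ⟨⟨θ, hθ⟩, hθB, fun n => ?_⟩
    rw [hχeq]; exact hχ₀ n
  · intro θ hθ
    obtain ⟨χ₀, hχ₀, huniq⟩ := key θ hθ
    obtain ⟨χ, hχ, hres⟩ := Cfsg.Agent.Lib.Helper82.exists_over_principal N hM θ hθ
    have hover : Cfsg.classInner (fun n : N => (χ : G → ℂ) n) (θ : N → ℂ) ≠ 0 := by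
      rw [Cfsg.Agent.Lib.Helper82.resMult_spec]; exact_mod_cast hres
    have hχeq := huniq χ hχ hover
    refine ⟨χ₀, ⟨hχeq ▸ hχ, hχ₀⟩, ?_⟩
    rintro χ' ⟨hχ', hχ'N⟩
    apply huniq χ' hχ'
    have h1 : (fun n : N => (χ' : G → ℂ) n) = (θ : N → ℂ) := funext hχ'N
    rw [h1, Cfsg.Agent.Lib.Helper35.classInner_irr' θ.2 θ.2, if_pos rfl]
    exact one_ne_zero

end Cfsg.Agent.S4551
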