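import Mathlib
import Cfsg.Statements.S0864
import Cfsg.Agent.Lib.Helper20.LinChar

set_option autoImplicit false
open Cfsg

namespace Cfsg.Agent.S0864

open Cfsg.Agent.Lib Cfsg.Agent.Lib.Helper20

/-- Let N be a normal subgroup of the finite group G and λ a character of N of degree 1 invariant under conjugation by G. Suppose that for every prime p dividing the order of λ (in the group of functions under pointwise multiplication) there is a subgroup H containing N, of index prime to p and with the index of N in H a power of p, together with a character of H of degree 1 restricting to λ. Then λ is the restriction of a character of G of degree 1. -/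
theorem result {G : Type*} [Group G] [Finite G] (N : Subgroup G) [hN : N.Normal] (lam : N → ℂ) (hlam : Cfsg.IsCharacter N lam ∧ lam 1 = 1) (hinv : ∀ (g : G) (n : N), lam ⟨g * n * g⁻¹, hN.conj_mem (n : G) n.2 g⟩ = lam n) (hsyl : ∀ p : ℕ, p.Prime → p ∣ orderOf lam → ∃ (H : Subgroup G) (hNH : N ≤ H) (ν : H → ℂ), Nat.Coprime H.index p ∧ (∃ k : ℕ, N.relIndex H = p ^ k) ∧ Cfsg.IsCharacter H ν ∧ ν 1 = 1 ∧ ∀ n : N, ν ⟨(n : G), hNH n.2⟩ = lam n) : ∃ μ : G → ℂ, Cfsg.IsCharacter G μ ∧ μ 1 = 1 ∧ ∀ n : N, μ n = lam n := by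
  classical
  obtain ⟨l, hl⟩ := exists_hom_of_linear lam hlam.1 hlam.2
  have hlinv : ∀ (g : G) (n : N), l ⟨g * n * g⁻¹, hN.conj_mem (n : G) n.2 g⟩ = l n := by
    intro g n
    apply Units.ext
    rw [hl, hl]; exact hinv g n
  let E : AddSubgroup ℤ :=
    { carrier := {j | ∃ μ : G →* ℂˣ, ∀ n : N, μ (n : G) = l n ^ j}
      add_mem' := by
        rintro a b ⟨μ₁, h₁⟩ ⟨μ₂, h₂⟩
        exact ⟨μ₁ * μ₂, fun n => by rw [MonoidHom.mul_apply, h₁, h₂, zpow_add]⟩
      zero_mem' := ⟨1, fun n => by simp⟩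
      neg_mem' := by
        rintro a ⟨μ₁, h₁⟩
        exact ⟨μ₁⁻¹, fun n => by rw [MonoidHom.inv_apply, h₁, zpow_neg]⟩ }
  set k := orderOf lam with hk
  have hlk : ∀ n : N, l n ^ k = 1 := by
    intro n
    have h1 : lam ^ k = 1 := pow_orderOf_eq_one lam
    have h2 := congrFun h1 n
    apply Units.ext
    rw [Units.val_pow_eq_pow_val, hl]
    simpa using h2
  have hkE : (k : ℤ) ∈ E := ⟨1, fun n => by rw [zpow_natCast, hlk]; rfl⟩
  have hpE : ∀ p : ℕ, p.Prime → p ∣ k → ∃ m : ℕ, Nat.Coprime m p ∧ (m : ℤ) ∈ E := by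
    intro p hp hpk
    obtain ⟨H, hNH, ν, hcop, -, hν, hν1, hνN⟩ := hsyl p hp hpk
    obtain ⟨νH, hνH⟩ := exists_hom_of_linear ν hν hν1
    refine ⟨H.index, hcop, MonoidHom.transfer νH, fun n => ?_⟩
    rw [zpow_natCast]
    apply transfer_normal N H hNH νH l _ hlinv n
    intro n
    apply Units.ext
    rw [hνH, hl]; exact hνN n
  have h1E : (1 : ℤ) ∈ E := by
    obtain ⟨d, hd⟩ := Int.subgroup_cyclic E
    rw [← AddSubgroup.zmultiples_eq_closure] at hd
    have hdk : d ∣ (k : ℤ) := by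
      have := hkE; rw [hd] at this; exact Int.mem_zmultiples_iff.mp this
    by_cases hd1 : d.natAbs = 1
    · rw [hd, Int.mem_zmultiples_iff]
      exact Int.natAbs_dvd_natAbs.mp (by rw [hd1]; exact one_dvd _)
    · exfalso
      obtain ⟨q, hq, hqd⟩ := Nat.exists_prime_and_dvd hd1
      have hqk : q ∣ k := by
        have h2 : d.natAbs ∣ (k : ℤ).natAbs := Int.natAbs_dvd_natAbs.mpr hdk
        rw [Int.natAbs_natCast] at h2
        exact dvd_trans hqd h2
      obtain ⟨m, hcop, hm⟩ := hpE q hq hqk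
      rw [hd, Int.mem_zmultiples_iff] at hm
      have h3 : d.natAbs ∣ (m : ℤ).natAbs := Int.natAbs_dvd_natAbs.mpr hm
      rw [Int.natAbs_natCast] at h3
      have h4 : q ∣ m := dvd_trans hqd h3
      have h5 : q ∣ Nat.gcd m q := Nat.dvd_gcd h4 (dvd_refl q)
      rw [hcop] at h5
      exact hq.one_lt.ne' (Nat.dvd_one.mp h5)
  obtain ⟨μ, hμ⟩ := h1E
  refine ⟨fun g => ((μ g : ℂˣ) : ℂ), (isCharacter_of_hom μ).1, (isCharacter_of_hom μ).2,
    fun n => ?_⟩
  show ((μ (n : G) : ℂˣ) : ℂ) = lam n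
  rw [hμ n, zpow_one, hl]

end Cfsg.Agent.S0864
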