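import Mathlib
import Cfsg.Statements.S0865
import Cfsg.Agent.S0864
import Cfsg.Agent.Lib.Helper20.LinChar

set_option autoImplicit false
open Cfsg

namespace Cfsg.Agent.S0865

open Cfsg.Agent.Lib Cfsg.Agent.Lib.Helper20

/-- Let N be a normal subgroup of the finite group G and λ a character of N of degree 1, invariant under conjugation by G, whose order (under pointwise multiplication) is coprime to the index of N. Then there is a character μ of G of degree 1 restricting to λ with the same order as λ, and μ is the only degree-1 character of G restricting to λ whose order is coprime to the index of N. -/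
theorem result {G : Type*} [Group G] [Finite G] (N : Subgroup G) [hN : N.Normal] (lam : N → ℂ) (hlam : Cfsg.IsCharacter N lam ∧ lam 1 = 1) (hinv : ∀ (g : G) (n : N), lam ⟨g * n * g⁻¹, hN.conj_mem (n : G) n.2 g⟩ = lam n) (hcop : Nat.Coprime N.index (orderOf lam)) : ∃ μ : G → ℂ, (Cfsg.IsCharacter G μ ∧ μ 1 = 1 ∧ (∀ n : N, μ n = lam n) ∧ orderOf μ = orderOf lam) ∧ ∀ μ' : G → ℂ, Cfsg.IsCharacter G μ' ∧ μ' 1 = 1 → (∀ n : N, μ' n = lam n) → Nat.Coprime N.index (orderOf μ') → μ' = μ := by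
  classical
  obtain ⟨l, hl⟩ := exists_hom_of_linear lam hlam.1 hlam.2
  set k := orderOf lam with hk
  set m := N.index with hm
  have hlk : ∀ n : N, l n ^ k = 1 := by
    intro n
    have h1 : lam ^ k = 1 := pow_orderOf_eq_one lam
    have h2 := congrFun h1 n
    apply Units.ext
    rw [Units.val_pow_eq_pow_val, hl]
    simpa using h2
  obtain ⟨μ₀, hμ₀, hμ₀1, hμ₀N⟩ := Cfsg.Agent.S0864.result N lam hlam hinv (by
    intro p hp hpk
    refine ⟨N, le_refl N, lam, ?_, ⟨0, ?_⟩, hlam.1, hlam.2, fun n => rfl⟩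
    · exact Nat.Coprime.coprime_dvd_right hpk hcop
    · rw [Subgroup.relIndex_self, pow_zero])
  obtain ⟨f₀, hf₀⟩ := exists_hom_of_linear μ₀ hμ₀ hμ₀1
  have hf₀N : ∀ n : N, f₀ (n : G) = l n := fun n => Units.ext (by rw [hf₀, hl]; exact hμ₀N n)
  have hgm : ∀ g : G, g ^ m ∈ N := fun g => N.pow_index_mem g
  have hf₀km : ∀ g : G, f₀ g ^ (m * k) = 1 := by
    intro g
    rw [pow_mul, ← map_pow]
    have h1 := hf₀N ⟨g ^ m, hgm g⟩
    rw [show f₀ (g ^ m) = l ⟨g ^ m, hgm g⟩ from h1, hlk]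
  obtain ⟨u, v, huv⟩ : ∃ u v : ℤ, u * m + v * k = 1 := Nat.isCoprime_iff_coprime.mpr hcop
  have hfN : ∀ n : N, f₀ (n : G) ^ (u * (m : ℤ)) = l n := by
    intro n
    rw [hf₀N, show u * (m : ℤ) = 1 - v * k by linarith, zpow_sub, zpow_one, zpow_mul',
      zpow_natCast, hlk, one_zpow, inv_one, mul_one]
  have hfk : ∀ g : G, (f₀ g ^ (u * (m : ℤ))) ^ k = 1 := by
    intro g
    rw [← zpow_natCast, ← zpow_mul,
      show u * (m : ℤ) * (k : ℤ) = ((m * k : ℕ) : ℤ) * u by push_cast; ring, zpow_mul,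
      zpow_natCast, hf₀km, one_zpow]
  let f : G →* ℂˣ := f₀ ^ (u * (m : ℤ))
  have hfapp : ∀ g : G, f g = f₀ g ^ (u * (m : ℤ)) := fun g => rfl
  set μ : G → ℂ := fun g => ((f g : ℂˣ) : ℂ) with hμdef
  have hμk : μ ^ k = 1 := by
    funext g
    simp only [Pi.pow_apply, Pi.one_apply, hμdef]
    rw [← Units.val_pow_eq_pow_val, hfapp, hfk]; rfl
  have hμN : ∀ n : N, μ n = lam n := fun n => by
    show ((f (n : G) : ℂˣ) : ℂ) = lam n
    rw [hfapp, hfN, hl]
  have hord : orderOf μ = k := by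
    apply Nat.dvd_antisymm (orderOf_dvd_of_pow_eq_one hμk)
    rw [hk]
    apply orderOf_dvd_of_pow_eq_one
    funext n
    have h1 := congrFun (pow_orderOf_eq_one μ) (n : G)
    simp only [Pi.pow_apply, Pi.one_apply] at h1 ⊢
    rw [← hμN]; exact h1
  refine ⟨μ, ⟨(isCharacter_of_hom f).1, (isCharacter_of_hom f).2, hμN, hord⟩, ?_⟩
  intro μ' hμ' hμ'N hcop'
  obtain ⟨f', hf'⟩ := exists_hom_of_linear μ' hμ'.1 hμ'.2
  funext g
  rw [← hf' g]
  show ((f' g : ℂˣ) : ℂ) = ((f g : ℂˣ) : ℂ)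
  congr 1
  have hr1 : (f' g / f g) ^ m = 1 := by
    rw [div_pow, ← map_pow, ← map_pow]
    have h1 : f' (g ^ m) = l ⟨g ^ m, hgm g⟩ :=
      Units.ext (by rw [hf', hl]; exact hμ'N ⟨g ^ m, hgm g⟩)
    have h2 : f (g ^ m) = l ⟨g ^ m, hgm g⟩ := by
      rw [hfapp]; exact hfN ⟨g ^ m, hgm g⟩
    rw [h1, h2, div_self']
  have hr2 : (f' g / f g) ^ (k * orderOf μ') = 1 := by
    have h1 : f' g ^ (orderOf μ') = 1 := by
      have h2 := congrFun (pow_orderOf_eq_one μ') g
      simp only [Pi.pow_apply, Pi.one_apply] at h2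
      apply Units.ext
      rw [Units.val_pow_eq_pow_val, hf']
      simpa using h2
    have h3 : f g ^ k = 1 := by rw [hfapp]; exact hfk g
    rw [div_pow, mul_comm k, pow_mul, h1, one_pow, mul_comm, pow_mul, h3, one_pow, div_one]
  have hgcd : Nat.gcd m (k * orderOf μ') = 1 := Nat.Coprime.mul_right hcop hcop'
  have h3 : orderOf (f' g / f g) ∣ 1 := by
    rw [← hgcd]
    exact Nat.dvd_gcd (orderOf_dvd_of_pow_eq_one hr1) (orderOf_dvd_of_pow_eq_one hr2)
  have h4 : f' g / f g = 1 := orderOf_eq_one_iff.mp (Nat.dvd_one.mp h3)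
  exact div_eq_one.mp h4

end Cfsg.Agent.S0865
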