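import Cfsg.Statements.S0107
import Mathlib

set_option autoImplicit false
open Cfsg

namespace Cfsg.Agent.S0107

/-- The Thompson transfer lemma states that an involution of a Sylow 2-subgroup P lying outside a subgroup Q of index 2 in P either lies outside some normal subgroup of index 2 in G or is conjugate to an element of Q. -/
theorem thompson_transfer {G : Type*} [Group G] [Finite G] (P : Sylow 2 G) (Q : Subgroup G) (hQP : Q ≤ (P : Subgroup G)) (hQi : Q.relIndex (P : Subgroup G) = 2) (u : G) (hu : orderOf u = 2) (huP : u ∈ (P : Subgroup G)) (huQ : u ∉ Q) : (∃ M : Subgroup G, M.Normal ∧ M.index = 2 ∧ u ∉ M) ∨ ∃ g : G, g * u * g⁻¹ ∈ Q := by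
  classical
  by_cases hconj : ∃ g : G, g * u * g⁻¹ ∈ Q
  · exact Or.inr hconj
  · left
    push Not at hconj
    let _ : Fintype (G ⧸ Q) := Fintype.ofFinite _
    let f : G →* ℤˣ := (Equiv.Perm.sign).comp (MulAction.toPermHom G (G ⧸ Q))
    have hu2 : u ^ 2 = 1 := by rw [← hu]; exact pow_orderOf_eq_one u
    have hσ : (MulAction.toPermHom G (G ⧸ Q) u) ^ 2 = 1 := by rw [← map_pow, hu2, map_one]
    have hfix : IsEmpty (Function.fixedPoints (MulAction.toPermHom G (G ⧸ Q) u)) := by
      constructor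
      rintro ⟨q, hq⟩
      induction q using QuotientGroup.induction_on with
      | H g =>
        have h1 : ((u * g : G) : G ⧸ Q) = (g : G ⧸ Q) := hq
        rw [QuotientGroup.eq] at h1
        apply hconj g⁻¹
        have h2 := Q.inv_mem h1
        have h3 : g⁻¹ * u * g⁻¹⁻¹ = ((u * g)⁻¹ * g)⁻¹ := by group
        rw [h3]; exact h2
    have hcard : Fintype.card (G ⧸ Q) = 2 * (P : Subgroup G).index := by
      rw [← Nat.card_eq_fintype_card, ← Subgroup.index_eq_card, ← Subgroup.relIndex_mul_index hQP, hQi]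
    have hodd : Odd (P : Subgroup G).index := by
      rw [← Nat.not_even_iff_odd, even_iff_two_dvd]; exact P.not_dvd_index
    have hfu : f u = -1 := by
      show Equiv.Perm.sign (MulAction.toPermHom G (G ⧸ Q) u) = -1
      have h0 : Fintype.card (Function.fixedPoints (MulAction.toPermHom G (G ⧸ Q) u)) = 0 :=
        Fintype.card_eq_zero
      rw [Equiv.Perm.sign_of_pow_two_eq_one hσ, h0, Nat.sub_zero, hcard,
        Nat.mul_div_cancel_left _ two_pos, hodd.neg_one_pow]
    refine ⟨f.ker, inferInstance, ?_, ?_⟩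
    · rw [Subgroup.index_ker]
      have hr : f.range = ⊤ := by
        rw [eq_top_iff]; intro x _
        rcases Int.units_eq_one_or x with rfl | rfl
        · exact Subgroup.one_mem _
        · exact ⟨u, hfu⟩
      rw [hr, Subgroup.card_top]
      simp
    · rw [MonoidHom.mem_ker, hfu]; decide


theorem r_order_two (n : ℕ) (hn : 1 ≤ n) (k : ZMod (2 ^ n))
    (hk : orderOf (DihedralGroup.r k : DihedralGroup (2 ^ n)) = 2) :
    (DihedralGroup.r k : DihedralGroup (2 ^ n)) = DihedralGroup.r ((2 ^ (n - 1) : ℕ) : ZMod (2 ^ n)) := by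
  have hne : NeZero (2 ^ n) := ⟨by positivity⟩
  have h1 : (DihedralGroup.r k : DihedralGroup (2 ^ n)) ^ 2 = 1 := by
    have h0 := pow_orderOf_eq_one (DihedralGroup.r k : DihedralGroup (2 ^ n))
    rwa [hk] at h0
  rw [pow_two, DihedralGroup.r_mul_r, DihedralGroup.one_def] at h1
  have h2 : k + k = 0 := by
    injection h1
  have hk0 : k ≠ 0 := by
    rintro rfl
    rw [DihedralGroup.r_zero, orderOf_one] at hk
    norm_num at hk
  have h3 : ((k.val + k.val : ℕ) : ZMod (2 ^ n)) = 0 := by
    rw [Nat.cast_add, ZMod.natCast_zmod_val, h2]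
  rw [ZMod.natCast_eq_zero_iff] at h3
  have hlt : k.val < 2 ^ n := ZMod.val_lt k
  have hpos : k.val ≠ 0 := by
    intro h
    apply hk0
    rw [← ZMod.natCast_zmod_val k, h, Nat.cast_zero]
  have hpow : 2 ^ n = 2 * 2 ^ (n - 1) := by
    rw [← pow_succ']
    congr 1
    omega
  have h4 : k.val = 2 ^ (n - 1) := by
    obtain ⟨m, hm⟩ := h3
    rcases m with _ | _ | m
    · rw [mul_zero] at hm
      omega
    · have hm' : k.val + k.val = 2 ^ n := by rw [hm]; ring
      omega
    · exfalso
      have h5 : 2 ^ n * 2 ≤ 2 ^ n * (m + 1 + 1) := Nat.mul_le_mul_left _ (by omega)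
      omega
  rw [← ZMod.natCast_zmod_val k, h4]

/-- A finite group with no nontrivial 2-group quotient and dihedral Sylow 2-subgroups of order at least 8 has a single class of involutions. -/
theorem result {G : Type*} [Group G] [Finite G] (T : Sylow 2 G) (n : ℕ) (hn : 2 ≤ n) (hT : Nonempty ((T : Subgroup G) ≃* DihedralGroup (2 ^ n))) (hO : Cfsg.pResidual 2 G = ⊤) (x y : G) (hx : orderOf x = 2) (hy : orderOf y = 2) : ∃ g : G, g * x * g⁻¹ = y := by
  obtain ⟨e⟩ := hT
  have hno : ∀ M : Subgroup G, M.Normal → M.index = 2 → False := by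
    intro M hMn hM2
    have hle : Cfsg.pResidual 2 G ≤ M := by
      unfold Cfsg.pResidual
      rw [Subgroup.closure_le]
      intro g hg
      have h1 : orderOf (QuotientGroup.mk' M g) ∣ orderOf g := orderOf_map_dvd _ g
      have h2 : orderOf (QuotientGroup.mk' M g) ∣ 2 := by
        have h2' := orderOf_dvd_natCard (QuotientGroup.mk' M g)
        rwa [← Subgroup.index_eq_card, hM2] at h2'
      have h3 : orderOf (QuotientGroup.mk' M g) = 1 :=
        Nat.Coprime.eq_one_of_dvd (Nat.Coprime.coprime_dvd_left h1 hg) h2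
      exact (QuotientGroup.eq_one_iff g).mp (orderOf_eq_one_iff.mp h3)
    rw [hO, top_le_iff] at hle
    rw [hle, Subgroup.index_top] at hM2
    norm_num at hM2
  let R : Subgroup (DihedralGroup (2 ^ n)) :=
    Subgroup.zpowers (DihedralGroup.r 1 : DihedralGroup (2 ^ n))
  let Q : Subgroup G := (R.comap e.toMonoidHom).map (T : Subgroup G).subtype
  have hQT : Q ≤ (T : Subgroup G) := Subgroup.map_subtype_le _
  have hRidx : R.index = 2 := by
    have h1 := R.card_mul_index
    rw [Nat.card_zpowers, DihedralGroup.orderOf_r_one, DihedralGroup.nat_card] at h1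
    have hpos : 0 < 2 ^ n := by positivity
    have h2 : 2 ^ n * R.index = 2 ^ n * 2 := by rw [h1]; ring
    exact Nat.eq_of_mul_eq_mul_left hpos h2
  have hQi : Q.relIndex (T : Subgroup G) = 2 := by
    show (((R.comap e.toMonoidHom).map (T : Subgroup G).subtype).comap
      (T : Subgroup G).subtype).index = 2
    rw [Subgroup.comap_map_eq_self_of_injective (T : Subgroup G).subtype_injective,
      Subgroup.index_comap_of_surjective R e.surjective]
    exact hRidx
  let z : G := ((e.symm (DihedralGroup.r ((2 ^ (n - 1) : ℕ) : ZMod (2 ^ n))) : (T : Subgroup G)) : G)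
  have hord : ∀ w : (T : Subgroup G), orderOf (e w) = orderOf (w : G) := by
    intro w
    rw [MulEquiv.orderOf_eq, Subgroup.orderOf_coe]
  have key : ∀ u : G, orderOf u = 2 → ∃ g, g * u * g⁻¹ = z := by
    intro u hu
    have hpg : IsPGroup 2 (Subgroup.zpowers u) :=
      IsPGroup.of_card (n := 1) (by rw [Nat.card_zpowers, hu, pow_one])
    obtain ⟨T', hT'⟩ := hpg.exists_le_sylow
    obtain ⟨g, rfl⟩ := MulAction.exists_smul_eq G T T'
    have hu' : g⁻¹ * u * g ∈ (T : Subgroup G) := by
      have h1 : u ∈ ((g • T : Sylow 2 G) : Subgroup G) := hT' (Subgroup.mem_zpowers u)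
      rw [Sylow.coe_subgroup_smul, Subgroup.mem_pointwise_smul_iff_inv_smul_mem] at h1
      simpa [MulAut.smul_def] using h1
    have hu'o : orderOf (g⁻¹ * u * g) = 2 := by
      have h2 : g⁻¹ * u * g = MulAut.conj g⁻¹ u := by simp
      rw [h2, MulEquiv.orderOf_eq]; exact hu
    have hcase : ∀ d : DihedralGroup (2 ^ n), e ⟨g⁻¹ * u * g, hu'⟩ = d →
        ∃ h, h * (g⁻¹ * u * g) * h⁻¹ = z := by
      intro d hd
      cases d with
      | r k =>
        refine ⟨1, ?_⟩
        have h3 : orderOf (DihedralGroup.r k : DihedralGroup (2 ^ n)) = 2 := by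
          rw [← hd, hord]; exact hu'o
        have h4 := r_order_two n (by omega) k h3
        have h5 : (⟨g⁻¹ * u * g, hu'⟩ : (T : Subgroup G)) =
            e.symm (DihedralGroup.r ((2 ^ (n - 1) : ℕ) : ZMod (2 ^ n))) := by
          rw [← h4, ← hd, MulEquiv.symm_apply_apply]
        have h6 : g⁻¹ * u * g = z := congrArg Subtype.val h5
        rw [one_mul, inv_one, mul_one]
        exact h6
      | sr i =>
        have huQ : g⁻¹ * u * g ∉ Q := by
          rintro ⟨w, hw, hw'⟩
          have hw2 : w = ⟨g⁻¹ * u * g, hu'⟩ := Subtype.ext hw'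
          rw [hw2] at hw
          have h7 : e ⟨g⁻¹ * u * g, hu'⟩ ∈ R := hw
          rw [hd] at h7
          obtain ⟨j, hj⟩ := Subgroup.mem_zpowers_iff.mp h7
          rw [DihedralGroup.r_one_zpow] at hj
          exact absurd hj (by simp)
        rcases thompson_transfer T Q hQT hQi (g⁻¹ * u * g) hu'o hu' huQ with ⟨M, hMn, hM2, -⟩ | ⟨h, hh⟩
        · exact absurd hM2 (fun h2 => hno M hMn h2)
        · refine ⟨h, ?_⟩
          obtain ⟨w, hw, hw'⟩ := hh
          have h7 : e w ∈ R := hw
          obtain ⟨j, hj⟩ := Subgroup.mem_zpowers_iff.mp h7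
          rw [DihedralGroup.r_one_zpow] at hj
          have hwo : orderOf (w : G) = 2 := by
            have h8 : (w : G) = h * (g⁻¹ * u * g) * h⁻¹ := hw'
            have h9 : h * (g⁻¹ * u * g) * h⁻¹ = MulAut.conj h (g⁻¹ * u * g) := by
              simp [MulAut.conj_apply]
            rw [h8, h9, MulEquiv.orderOf_eq]; exact hu'o
          have h3 : orderOf (DihedralGroup.r (j : ZMod (2 ^ n)) : DihedralGroup (2 ^ n)) = 2 := by
            rw [hj, hord]; exact hwo
          have h4 := r_order_two n (by omega) _ h3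
          have h5 : w = e.symm (DihedralGroup.r ((2 ^ (n - 1) : ℕ) : ZMod (2 ^ n))) := by
            rw [← h4, hj, MulEquiv.symm_apply_apply]
          have h6 := congrArg Subtype.val h5
          have h8 : (w : G) = h * (g⁻¹ * u * g) * h⁻¹ := hw'
          rw [← h8]
          exact h6
    obtain ⟨h, hh⟩ := hcase _ rfl
    refine ⟨h * g⁻¹, ?_⟩
    rw [← hh]; group
  obtain ⟨g₁, h₁⟩ := key x hx
  obtain ⟨g₂, h₂⟩ := key y hy
  refine ⟨g₂⁻¹ * g₁, ?_⟩
  have h3 : g₂⁻¹ * g₁ * x * (g₂⁻¹ * g₁)⁻¹ = g₂⁻¹ * (g₁ * x * g₁⁻¹) * g₂ := by group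
  rw [h3, h₁, ← h₂]; group

end Cfsg.Agent.S0107
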