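import Cfsg.Statements.S0495
import Cfsg.Agent.Lib.Helper23.PSL2Main
import Cfsg.Agent.Lib.Helper23.PSL2Cert7
import Cfsg.Agent.Lib.Helper23.G168b

set_option autoImplicit false
open Cfsg

namespace Cfsg.Agent.S0495

/-- A simple group of order 168 is isomorphic to the projective special linear group of dimension 2 over the field with
7 elements. -/
theorem result {G : Type*} [Group G] [Finite G] [IsSimpleGroup G]
    (h : Nat.card G = 168) {F : Type*} [Field F] [Fintype F] (hF : Fintype.card F = 7) :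
    Nonempty (G ≃* Matrix.ProjectiveSpecialLinearGroup (Fin 2) F) := by
  have : Fact (Nat.Prime 7) := ⟨by norm_num⟩
  have hn : Nat.card (Sylow 7 G) = 7 + 1 := Cfsg.Agent.Lib.Helper23.g168_n7 h
  refine Cfsg.Agent.Lib.Helper23.psl2_recog 3 2 3 Cfsg.Agent.Lib.Helper23.psl2_arith_7
    (h.trans (by norm_num)) hn (Or.inr ⟨Cfsg.Agent.Lib.Helper23.psl2_cert_7, ?_⟩) hF
  intro b t hb1 hb3 hcomm
  have hb : orderOf b = 3 := orderOf_eq_prime hb3 hb1
  have hcent := Cfsg.Agent.Lib.Helper23.g168_centralizer_three h b hb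
  have ht : t ∈ Subgroup.centralizer ({b} : Set G) := by
    rw [Subgroup.mem_centralizer_iff]
    intro m hm
    rw [Set.mem_singleton_iff] at hm
    rw [hm]
    exact hcomm.symm
  rw [hcent, ← mem_powers_iff_mem_zpowers] at ht
  obtain ⟨k, hk⟩ := ht
  exact ⟨k, hk.symm⟩

end Cfsg.Agent.S0495
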