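import Cfsg.Statements.S1242
import Mathlib

set_option autoImplicit false
open Cfsg

namespace Cfsg.Agent.S1242

open scoped IsMulCommutative

theorem mem_of_pow_mem {G : Type*} [Group G] (K : Subgroup G) (g : G) (n m : ℕ)
    (hg : g ^ m = 1) (hcop : Nat.Coprime n m) (h : g ^ n ∈ K) : g ∈ K := by
  obtain ⟨u, v, huv⟩ := (Nat.isCoprime_iff_coprime.mpr hcop)
  have : g = (g ^ n) ^ u := by
    have h1 : g = g ^ (u * (n : ℤ) + v * (m : ℤ)) := by rw [huv, zpow_one]
    rw [zpow_add, zpow_mul' g v, zpow_natCast, hg, one_zpow, mul_one, mul_comm, zpow_mul,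
      zpow_natCast] at h1
    exact h1
  rw [this]
  exact K.zpow_mem h u

theorem mem_of_pow_mem_of_pow_mem {G : Type*} [Group G] (K : Subgroup G) (g : G) (n m : ℕ)
    (hcop : Nat.Coprime n m) (h : g ^ n ∈ K) (h' : g ^ m ∈ K) : g ∈ K := by
  obtain ⟨u, v, huv⟩ := (Nat.isCoprime_iff_coprime.mpr hcop)
  have : g = (g ^ n) ^ u * (g ^ m) ^ v := by
    have h1 : g = g ^ (u * (n : ℤ) + v * (m : ℤ)) := by rw [huv, zpow_one]
    rw [zpow_add, zpow_mul' g v, zpow_natCast, mul_comm u, zpow_mul, zpow_natCast] at h1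
    exact h1
  rw [this]
  exact K.mul_mem (K.zpow_mem h u) (K.zpow_mem h' v)

theorem transfer_eq_pow_of_conj {G : Type*} [Group G] {H : Subgroup G} [H.FiniteIndex]
    {A : Type*} [CommGroup A] (ϕ : H →* A) (g : G) (hg : g ∈ H)
    (key : ∀ (k : ℕ) (a : G) (hk : a⁻¹ * g ^ k * a ∈ H),
      ϕ ⟨a⁻¹ * g ^ k * a, hk⟩ = ϕ (⟨g, hg⟩ ^ k)) :
    MonoidHom.transfer ϕ g = ϕ ⟨g, hg⟩ ^ H.index := by
  classical
  have : Fintype (Quotient (MulAction.orbitRel (Subgroup.zpowers g) (G ⧸ H))) :=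
    Fintype.ofFinite _
  rw [Subgroup.index_eq_sum_minimalPeriod H g, ← Finset.prod_pow_eq_pow_sum,
    MonoidHom.transfer_eq_prod_quotient_orbitRel_zpowers_quot]
  apply Finset.prod_congr rfl
  intro q _
  rw [← map_pow]
  exact key _ _ _

/-- the quotient by a subgroup containing the `p`-residual is a `p`-group -/
theorem isPGroup_quot {G : Type*} [Group G] [Finite G] {p : ℕ} [Fact p.Prime]
    (K : Subgroup G) [K.Normal] (hK : Cfsg.pResidual p G ≤ K) : IsPGroup p (G ⧸ K) := by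
  intro x
  obtain ⟨g, rfl⟩ := QuotientGroup.mk_surjective x
  have hn : orderOf g ≠ 0 := (orderOf_pos g).ne'
  obtain ⟨e, m, hm, hnm⟩ := Nat.exists_eq_pow_mul_and_not_dvd hn p (Fact.out : p.Prime).ne_one
  refine ⟨e, ?_⟩
  rw [← QuotientGroup.mk_pow, QuotientGroup.eq_one_iff]
  apply hK
  apply Subgroup.subset_closure
  show Nat.Coprime (orderOf (g ^ p ^ e)) p
  have h1 : (g ^ p ^ e) ^ m = 1 := by
    rw [← pow_mul, ← hnm]; exact pow_orderOf_eq_one g
  have h2 : orderOf (g ^ p ^ e) ∣ m := orderOf_dvd_of_pow_eq_one h1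
  have h3 : Nat.Coprime m p := ((Nat.Prime.coprime_iff_not_dvd (Fact.out : p.Prime)).mpr hm).symm
  exact Nat.Coprime.coprime_dvd_left h2 h3

/-- Let G be a finite group, p a prime and H a subgroup of index prime to p such that any two elements of H of p-power order that are conjugate in G are conjugate in H. Then (O^p(G)·G') ∩ H = O^p(H)·H', where O^p denotes the subgroup generated by the elements of order prime to p. -/
theorem result {G : Type*} [Group G] [Finite G] {p : ℕ} [Fact p.Prime] (H : Subgroup G) (hidx : Nat.Coprime p H.index) (hfus : ∀ g ∈ H, (∃ k : ℕ, orderOf g = p ^ k) → ∀ a : G, a * g * a⁻¹ ∈ H → ∃ h ∈ H, h * g * h⁻¹ = a * g * a⁻¹) : (Cfsg.pResidual p G ⊔ commutator G) ⊓ H = (Cfsg.pResidual p ↥H ⊔ commutator ↥H).map H.subtype := by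
  have hp : p.Prime := Fact.out
  set K' : Subgroup H := Cfsg.pResidual p ↥H ⊔ commutator ↥H with hK'
  haveI : K'.Normal := Subgroup.Normal.of_commutator_le _ le_sup_right
  haveI : IsMulCommutative (H ⧸ K') :=
    Subgroup.Normal.quotient_commutative_iff_commutator_le.mpr le_sup_right
  have hPG : IsPGroup p (H ⧸ K') := isPGroup_quot K' le_sup_left
  let ϕ : H →* H ⧸ K' := QuotientGroup.mk' K'
  let V : G →* H ⧸ K' := MonoidHom.transfer ϕ
  apply le_antisymm
  · -- ⊆
    have hker : Cfsg.pResidual p G ⊔ commutator G ≤ V.ker := by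
      apply sup_le
      · rw [Cfsg.pResidual, Subgroup.closure_le]
        intro x hx
        have hx' : Nat.Coprime (orderOf x) p := hx
        rw [SetLike.mem_coe, MonoidHom.mem_ker]
        obtain ⟨k, hk⟩ := hPG (V x)
        have h1 : orderOf (V x) ∣ p ^ k := orderOf_dvd_of_pow_eq_one hk
        have h2 : orderOf (V x) ∣ orderOf x := orderOf_map_dvd V x
        have h3 : Nat.Coprime (orderOf x) (p ^ k) := Nat.Coprime.pow_right k hx'
        have h4 : orderOf (V x) = 1 := Nat.eq_one_of_dvd_coprimes h3 h2 h1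
        exact orderOf_eq_one_iff.mp h4
      · exact Abelianization.commutator_subset_ker V
    rintro x ⟨hx1, hx2⟩
    have hVx : V x = 1 := hker hx1
    have hxH : x ∈ H := hx2
    refine ⟨⟨x, hxH⟩, ?_, rfl⟩
    have hn : orderOf x ≠ 0 := (orderOf_pos x).ne'
    obtain ⟨e, m, hm, hnm⟩ := Nat.exists_eq_pow_mul_and_not_dvd hn p hp.ne_one
    have hcop : Nat.Coprime m (p ^ e) :=
      Nat.Coprime.pow_right e (((Nat.Prime.coprime_iff_not_dvd hp).mpr hm).symm)
    -- p'-part
    have hA : (⟨x, hxH⟩ : H) ^ (p ^ e) ∈ K' := by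
      apply (le_sup_left : Cfsg.pResidual p ↥H ≤ K')
      apply Subgroup.subset_closure
      show Nat.Coprime (orderOf ((⟨x, hxH⟩ : H) ^ p ^ e)) p
      have h1 : ((⟨x, hxH⟩ : H) ^ p ^ e) ^ m = 1 := by
        rw [← pow_mul, ← hnm]
        apply Subtype.ext
        simp [pow_orderOf_eq_one]
      have h2 : orderOf ((⟨x, hxH⟩ : H) ^ p ^ e) ∣ m := orderOf_dvd_of_pow_eq_one h1
      exact Nat.Coprime.coprime_dvd_left h2 (((Nat.Prime.coprime_iff_not_dvd hp).mpr hm).symm)
    -- p-part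
    have hB : (⟨x, hxH⟩ : H) ^ m ∈ K' := by
      set y : G := x ^ m with hy
      have hyH : y ∈ H := H.pow_mem hxH m
      have hyp : y ^ p ^ e = 1 := by
        rw [hy, ← pow_mul, mul_comm, ← hnm]; exact pow_orderOf_eq_one x
      have hVy : V y = 1 := by rw [hy, map_pow, hVx, one_pow]
      have key : V y = ϕ ⟨y, hyH⟩ ^ H.index := by
        apply transfer_eq_pow_of_conj
        intro k a hk
        have hyk : ∃ c : ℕ, orderOf (y ^ k) = p ^ c := by
          have h1 : (y ^ k) ^ p ^ e = 1 := by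
            rw [← pow_mul, mul_comm, pow_mul, hyp, one_pow]
          obtain ⟨c, -, hc⟩ := (Nat.dvd_prime_pow hp).mp (orderOf_dvd_of_pow_eq_one h1)
          exact ⟨c, hc⟩
        have hk' : a⁻¹ * y ^ k * a⁻¹⁻¹ ∈ H := by rwa [inv_inv]
        obtain ⟨h, hh, hh2⟩ := hfus (y ^ k) (H.pow_mem hyH k) hyk a⁻¹ hk'
        rw [inv_inv] at hh2
        have e1 : (⟨a⁻¹ * y ^ k * a, hk⟩ : H) = ⟨h, hh⟩ * ⟨y, hyH⟩ ^ k * ⟨h, hh⟩⁻¹ := by
          apply Subtype.ext
          simp [hh2]
        rw [e1, map_mul, map_mul, map_inv, mul_comm, inv_mul_cancel_left]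
      rw [key, ← map_pow] at hVy
      have h2 : (⟨y, hyH⟩ : H) ^ H.index ∈ K' := by simpa [ϕ] using hVy
      have h3 : (⟨y, hyH⟩ : H) ∈ K' := by
        refine mem_of_pow_mem K' _ H.index (p ^ e) ?_ ?_ h2
        · apply Subtype.ext; simpa using hyp
        · exact (Nat.Coprime.pow_left e hidx).symm
      have : (⟨x, hxH⟩ : H) ^ m = ⟨y, hyH⟩ := by
        apply Subtype.ext; simp [hy]
      rw [this]; exact h3
    exact mem_of_pow_mem_of_pow_mem K' _ m (p ^ e) hcop hB hA
  · -- ⊇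
    apply le_inf
    · rw [Subgroup.map_sup]
      apply sup_le_sup
      · rw [Cfsg.pResidual, Cfsg.pResidual, MonoidHom.map_closure]
        apply Subgroup.closure_mono
        rintro _ ⟨x, hx, rfl⟩
        have hx' : Nat.Coprime (orderOf x) p := hx
        show Nat.Coprime (orderOf (H.subtype x)) p
        rwa [Subgroup.coe_subtype, Subgroup.orderOf_coe]
      · rw [commutator_def, Subgroup.map_commutator, commutator_def]
        exact Subgroup.commutator_mono le_top le_top
    · exact Subgroup.map_subtype_le _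

end Cfsg.Agent.S1242
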