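import Cfsg.Statements.S1458
import Cfsg.Agent.Lib.Helper3.ZJ6
import Cfsg.Agent.Lib.Helper34.Quad3

set_option autoImplicit false
open Cfsg

namespace Cfsg.Agent.S1458

/-- Let G be a solvable group of odd order, p a prime and S a Sylow p-subgroup of G. Then the subgroup generated by the centre of the Thompson subgroup of S and O_{p'}(G) is normal in G. -/
theorem result {G : Type*} [Group G] [Finite G] [Group.IsSolvable G] (hodd : Odd (Nat.card G)) (p : ℕ) [Fact p.Prime] (S : Sylow p G) :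
    (Cfsg.centerThompsonOf p (S : Subgroup G) ⊔ Cfsg.pPrimeCore p G).Normal := by
  classical
  have hp : p.Prime := Fact.out
  have hYn : (pPrimeCore p G).Normal := Cfsg.Agent.Lib.Helper30.pPrimeCore_normal p G
  have hYc : (Nat.card (pPrimeCore p G)).Coprime p := Cfsg.Agent.Lib.Helper30.pPrimeCore_coprime p
  by_cases hp2 : p = 2
  · subst hp2
    have hS : (S : Subgroup G) = ⊥ := by
      obtain ⟨k, hk⟩ := IsPGroup.iff_card.mp S.isPGroup'
      have hdvd : Nat.card (S : Subgroup G) ∣ Nat.card G := Subgroup.card_subgroup_dvd_card _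
      rw [hk] at hdvd
      have hk0 : k = 0 := by
        by_contra h
        have h2 : 2 ∣ Nat.card G := (dvd_pow_self 2 h).trans hdvd
        exact (Nat.not_even_iff_odd.mpr hodd) (even_iff_two_dvd.mpr h2)
      rw [hk0, pow_zero] at hk
      exact Subgroup.card_eq_one.mp hk
    have hZ : centerThompsonOf 2 (S : Subgroup G) = ⊥ :=
      le_bot_iff.mp (hS ▸ Cfsg.Agent.Lib.Helper3.ZJ.ctO_le _)
    rw [hZ, bot_sup_eq]; exact hYn
  · have hπ := QuotientGroup.mk'_surjective (pPrimeCore p G)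
    have hbot : pPrimeCore p (G ⧸ pPrimeCore p G) = ⊥ :=
      Cfsg.Agent.Lib.Helper30.pPrimeCore_quotient_eq_bot p
    have hc := Cfsg.Agent.Lib.Helper34.solv_centralizer_pCore_le (H := G ⧸ pPrimeCore p G) p hbot
    have hoddq : Odd (Nat.card (G ⧸ pPrimeCore p G)) := by
      have h1 : Nat.card (G ⧸ pPrimeCore p G) ∣ Nat.card G :=
        Subgroup.card_quotient_dvd_card _
      exact hodd.of_dvd_nat h1
    have hab : Cfsg.Agent.S0626.AbSyl (G ⧸ pPrimeCore p G) := by
      intro T x hx y _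
      obtain ⟨j, hj⟩ := T.isPGroup' ⟨x, hx⟩
      have hj' : x ^ 2 ^ j = 1 := congrArg Subtype.val hj
      have h1 : orderOf x ∣ 2 ^ j := orderOf_dvd_of_pow_eq_one hj'
      have h2 : orderOf x ∣ Nat.card (G ⧸ pPrimeCore p G) := orderOf_dvd_natCard x
      have h3 : Nat.Coprime (2 ^ j) (Nat.card (G ⧸ pPrimeCore p G)) :=
        Nat.Coprime.pow_left j (Nat.coprime_two_left.mpr hoddq)
      have h4 : orderOf x = 1 := Nat.Coprime.eq_one_of_dvd (Nat.Coprime.coprime_dvd_left h1 h3) h2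
      rw [orderOf_eq_one_iff.mp h4, one_mul, mul_one]
    have hinj : ∀ u ∈ (S : Subgroup G), QuotientGroup.mk' (pPrimeCore p G) u = 1 → u = 1 := by
      intro u hu hu1
      have huY : u ∈ pPrimeCore p G := Cfsg.Agent.Lib.Helper26.mem_of_mk'_eq_one _ hu1
      exact Cfsg.Agent.Lib.Helper26.eq_one_of_mem_pgroup_of_coprime S.isPGroup' hu
        (Nat.Coprime.coprime_dvd_left (Subgroup.orderOf_dvd_natCard _ huY) hYc)
    have hcoe : ((S.mapSurjective hπ : Sylow p (G ⧸ pPrimeCore p G)) :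
        Subgroup (G ⧸ pPrimeCore p G)) =
        (S : Subgroup G).map (QuotientGroup.mk' (pPrimeCore p G)) := Sylow.coe_mapSurjective hπ S
    have hn := (Cfsg.Agent.Lib.Helper3.ZJ.zj_normal hp2 (S.mapSurjective hπ)
      ((S.mapSurjective hπ : Sylow p (G ⧸ pPrimeCore p G)) : Subgroup (G ⧸ pPrimeCore p G))
      ⟨le_rfl, fun _ _ _ h => h⟩ (Cfsg.Agent.Lib.Helper3.ZJ.hst_of_abSyl hp2 hab) hc).2.1
    rw [hcoe, Cfsg.Agent.Lib.Helper3.ZJ.ctO_map _ _ hinj] at hn
    have h2 : ((centerThompsonOf p (S : Subgroup G)).map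
        (QuotientGroup.mk' (pPrimeCore p G))).comap (QuotientGroup.mk' (pPrimeCore p G)) =
        centerThompsonOf p (S : Subgroup G) ⊔ pPrimeCore p G := by
      rw [Subgroup.comap_map_eq, QuotientGroup.ker_mk']
    rw [← h2]
    exact hn.comap _

end Cfsg.Agent.S1458
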