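import Mathlib
import Cfsg.Statements.S1477
import Cfsg.Agent.Lib.Helper34.CN

set_option autoImplicit false
open Cfsg

namespace Cfsg.Agent.S1477

open Cfsg.Agent.Lib.Helper34

/-- In a finite CN-group, every maximal nilpotent subgroup H is a Hall subgroup; if the order of H is not a prime power (and H ≠ 1) then H is a TI-subgroup; and if H is a TI-subgroup then H contains the centralizer of each of its non-identity elements. -/
theorem result {G : Type*} [Group G] [Finite G] (hCN : Cfsg.IsCNGroup G) (H : Subgroup G) (hH : Group.IsNilpotent H)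
    (hmax : ∀ L : Subgroup G, Group.IsNilpotent L → H ≤ L → L = H) :
    (Nat.card H).Coprime H.index ∧
      (¬ IsPrimePow (Nat.card H) → Nat.card H ≠ 1 → ∀ g : G, H.map (MulAut.conj g).toMonoidHom ≠ H → H ⊓ H.map (MulAut.conj g).toMonoidHom = ⊥) ∧
      ((∀ g : G, H.map (MulAut.conj g).toMonoidHom ≠ H → H ⊓ H.map (MulAut.conj g).toMonoidHom = ⊥) → ∀ x ∈ H, x ≠ 1 → Subgroup.centralizer ({x} : Set G) ≤ H) := by
  refine ⟨?_, ?_, ?_⟩
  · apply Nat.coprime_of_dvd
    intro p hp hpH hpI
    haveI := Fact.mk hp
    obtain ⟨P, hP⟩ := exists_sylow_le_of_maxNilp hCN hH hmax p hpH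
    exact P.not_dvd_index (dvd_trans hpI (Subgroup.index_dvd_of_le hP))
  · intro hnpp hne1 g hgne
    rw [eq_bot_iff]
    intro x0 hx0
    rw [Subgroup.mem_bot]
    by_contra hx01
    obtain ⟨hx0H, hx0Hg⟩ := Subgroup.mem_inf.mp hx0
    obtain ⟨s, m, hs, hxo⟩ := exists_pow_prime_order hx01
    set x : G := x0 ^ m with hxdef
    have hxH : x ∈ H := H.pow_mem hx0H m
    have hxHg : x ∈ H.map (MulAut.conj g).toMonoidHom := Subgroup.pow_mem _ hx0Hg m
    have hx1 : x ≠ 1 := ne_one_of_orderOf_prime hs hxo
    have hsd : s ∣ Nat.card H := by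
      have := orderOf_dvd_natCard (⟨x, hxH⟩ : H)
      rwa [← Subgroup.orderOf_coe, hxo] at this
    have hnpg : ¬ IsPGroup s H := by
      intro hpg
      haveI := Fact.mk hs
      obtain ⟨n, hn⟩ := IsPGroup.iff_card.mp hpg
      apply hnpp
      rw [isPrimePow_nat_iff]
      refine ⟨s, n, hs, ?_, hn.symm⟩
      rcases Nat.eq_zero_or_pos n with h0 | h0
      · rw [h0, pow_zero] at hn; exact absurd hn hne1
      · exact h0
    obtain ⟨t, ht, htd, hts⟩ := exists_other_prime_of_not_isPGroup hnpg
    obtain ⟨z, hzH, hzo, hzc⟩ := exists_central_of_prime_dvd hH ht htd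
    obtain ⟨w, hwH, hwo, hwc⟩ := exists_central_of_prime_dvd hH hs hsd
    have hz1 : z ≠ 1 := ne_one_of_orderOf_prime ht hzo
    have hw1 : w ≠ 1 := ne_one_of_orderOf_prime hs hwo
    have hCz := centralizer_eq_of_central hCN hmax hz1 hzc
    have hCw := centralizer_eq_of_central hCN hmax hw1 hwc
    have hC : Group.IsNilpotent (Subgroup.centralizer ({x} : Set G)) := hCN x hx1
    have hy : g⁻¹ * x * g ∈ H := mem_map_conj.mp hxHg
    -- conjugates
    have hoz' : orderOf (g * z * g⁻¹) = t := by
      have := MulEquiv.orderOf_eq (MulAut.conj g) z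
      rw [MulAut.conj_apply] at this
      rw [this, hzo]
    have how' : orderOf (g * w * g⁻¹) = s := by
      have := MulEquiv.orderOf_eq (MulAut.conj g) w
      rw [MulAut.conj_apply] at this
      rw [this, hwo]
    have hzC : z ∈ Subgroup.centralizer ({x} : Set G) := by
      rw [mem_centralizer_singleton]; exact hzc x hxH
    have hwC : w ∈ Subgroup.centralizer ({x} : Set G) := by
      rw [mem_centralizer_singleton]; exact hwc x hxH
    have hz'C : g * z * g⁻¹ ∈ Subgroup.centralizer ({x} : Set G) := by
      rw [mem_centralizer_singleton]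
      have h1 := hzc _ hy
      calc x * (g * z * g⁻¹) = g * ((g⁻¹ * x * g) * z) * g⁻¹ := by group
        _ = g * (z * (g⁻¹ * x * g)) * g⁻¹ := by rw [h1]
        _ = g * z * g⁻¹ * x := by group
    have hw'C : g * w * g⁻¹ ∈ Subgroup.centralizer ({x} : Set G) := by
      rw [mem_centralizer_singleton]
      have h1 := hwc _ hy
      calc x * (g * w * g⁻¹) = g * ((g⁻¹ * x * g) * w) * g⁻¹ := by group
        _ = g * (w * (g⁻¹ * x * g)) * g⁻¹ := by rw [h1]
        _ = g * w * g⁻¹ * x := by group
    have hcop : Nat.Coprime t s := (Nat.coprime_primes ht hs).mpr hts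
    have hw'H : g * w * g⁻¹ ∈ H := by
      rw [← hCz, mem_centralizer_singleton]
      apply commute_of_mem_nilpotent hC hzC hw'C
      rw [hzo, how']; exact hcop
    have hz'H : g * z * g⁻¹ ∈ H := by
      rw [← hCw, mem_centralizer_singleton]
      apply commute_of_mem_nilpotent hC hwC hz'C
      rw [hwo, hoz']; exact hcop.symm
    have hle : H ≤ H.map (MulAut.conj g).toMonoidHom := by
      intro h hh
      apply mem_of_prime_pow_mem'
      rintro c hc ⟨r, k, hr, hck⟩
      have hcH : c ∈ H := (Subgroup.zpowers_le.mpr hh) hc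
      rw [mem_map_conj]
      by_cases hrt : r = t
      · have hrs : r ≠ s := by rw [hrt]; exact hts
        have h1 : c * (g * w * g⁻¹) = (g * w * g⁻¹) * c := by
          apply commute_of_mem_nilpotent hH hcH hw'H
          rw [hck, how']
          exact Nat.Coprime.pow_left k ((Nat.coprime_primes hr hs).mpr hrs)
        rw [← hCw, mem_centralizer_singleton]
        calc w * (g⁻¹ * c * g) = g⁻¹ * ((g * w * g⁻¹) * c) * g := by group
          _ = g⁻¹ * (c * (g * w * g⁻¹)) * g := by rw [h1]
          _ = g⁻¹ * c * g * w := by group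
      · have h1 : c * (g * z * g⁻¹) = (g * z * g⁻¹) * c := by
          apply commute_of_mem_nilpotent hH hcH hz'H
          rw [hck, hoz']
          exact Nat.Coprime.pow_left k ((Nat.coprime_primes hr ht).mpr hrt)
        rw [← hCz, mem_centralizer_singleton]
        calc z * (g⁻¹ * c * g) = g⁻¹ * ((g * z * g⁻¹) * c) * g := by group
          _ = g⁻¹ * (c * (g * z * g⁻¹)) * g := by rw [h1]
          _ = g⁻¹ * c * g * z := by group
    apply hgne
    symm
    apply Subgroup.eq_of_le_of_card_ge hle
    rw [Subgroup.card_map_of_injective (MulAut.conj g).injective]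
  · intro hTI x hxH hx1 a ha
    apply mem_of_prime_pow_mem'
    rintro c hc ⟨r, k, hr, hck⟩
    have hcC : c ∈ Subgroup.centralizer ({x} : Set G) := (Subgroup.zpowers_le.mpr ha) hc
    have hcx : x * c = c * x := mem_centralizer_singleton.mp hcC
    have hC : Group.IsNilpotent (Subgroup.centralizer ({x} : Set G)) := hCN x hx1
    have hmap : H.map (MulAut.conj c).toMonoidHom = H := by
      by_contra hne
      have h1 := hTI c hne
      have hxin : x ∈ H ⊓ H.map (MulAut.conj c).toMonoidHom := by
        refine Subgroup.mem_inf.mpr ⟨hxH, ?_⟩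
        rw [mem_map_conj]
        have : c⁻¹ * x * c = x := by rw [mul_assoc, hcx, ← mul_assoc, inv_mul_cancel, one_mul]
        rw [this]; exact hxH
      rw [h1] at hxin
      exact hx1 (Subgroup.mem_bot.mp hxin)
    by_cases hpg : IsPGroup r H
    · haveI := Fact.mk hr
      have hcp : IsPGroup r (Subgroup.zpowers c) :=
        IsPGroup.of_card (n := k) (by rw [Nat.card_zpowers, hck])
      have hnorm : Subgroup.zpowers c ≤ Subgroup.normalizer (H : Set G) := by
        rw [Subgroup.zpowers_le, Subgroup.mem_normalizer_iff]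
        intro h
        constructor
        · intro hh
          have : c * h * c⁻¹ ∈ H.map (MulAut.conj c).toMonoidHom := by
            rw [mem_map_conj]
            have : c⁻¹ * (c * h * c⁻¹) * c = h := by group
            rw [this]; exact hh
          rwa [hmap] at this
        · intro hh
          rw [← hmap, mem_map_conj] at hh
          have : c⁻¹ * (c * h * c⁻¹) * c = h := by group
          rwa [this] at hh
      have hsup : IsPGroup r (H ⊔ Subgroup.zpowers c : Subgroup G) :=
        IsPGroup.to_sup_of_normal_left' hpg hcp hnorm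
      have := hmax _ hsup.isNilpotent le_sup_left
      rw [← this]
      exact le_sup_right (a := H) (Subgroup.mem_zpowers c)
    · obtain ⟨t, ht, htd, htr⟩ := exists_other_prime_of_not_isPGroup hpg
      obtain ⟨z, hzH, hzo, hzc⟩ := exists_central_of_prime_dvd hH ht htd
      have hz1 : z ≠ 1 := ne_one_of_orderOf_prime ht hzo
      have hCz := centralizer_eq_of_central hCN hmax hz1 hzc
      have hzC : z ∈ Subgroup.centralizer ({x} : Set G) := by
        rw [mem_centralizer_singleton]; exact hzc x hxH
      rw [← hCz, mem_centralizer_singleton]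
      apply commute_of_mem_nilpotent hC hzC hcC
      rw [hzo, hck]
      exact Nat.Coprime.pow_right k ((Nat.coprime_primes ht hr).mpr htr)

end Cfsg.Agent.S1477
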