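import Cfsg.Statements.S1484
import Mathlib
import Cfsg.Agent.Lib.Helper34.MS6

set_option autoImplicit false
open Cfsg

namespace Cfsg.Agent.S1484

/-- Let G be a minimal simple group of odd order in which every non-identity element has nilpotent centralizer, and M₁, …, M_k maximal subgroups, pairwise non-conjugate, such that every maximal subgroup is conjugate to some M_i. Let H_i be the largest normal nilpotent Hall subgroup of M_i. Then the orders of the H_i are pairwise coprime, their product is the order of G, and every element of G is conjugate to an element of some H_i. -/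
theorem result {G : Type*} [Group G] [Finite G] (hG : Cfsg.IsMinSimpleOddOrder G) (hCN : Cfsg.IsCNGroup G) (k : ℕ) (Mrep : Fin k → Subgroup G) (hmax : ∀ i, IsCoatom (Mrep i))
    (hnc : ∀ i j, i ≠ j → ∀ g : G, Mrep j ≠ (Mrep i).map (MulAut.conj g).toMonoidHom) (hall : ∀ M : Subgroup G, IsCoatom M → ∃ i, ∃ g : G, M = (Mrep i).map (MulAut.conj g).toMonoidHom) :
    (∀ i j, i ≠ j → (Nat.card (Cfsg.fittingHallOf (Mrep i))).Coprime (Nat.card (Cfsg.fittingHallOf (Mrep j)))) ∧
      ∏ i, Nat.card (Cfsg.fittingHallOf (Mrep i)) = Nat.card G ∧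
      ∀ x : G, ∃ i, ∃ g : G, g * x * g⁻¹ ∈ Cfsg.fittingHallOf (Mrep i) := by
  have hcop : ∀ i j, i ≠ j → (Nat.card (fittingHallOf (Mrep i))).Coprime
      (Nat.card (fittingHallOf (Mrep j))) := by
    intro i j hij
    apply Nat.coprime_of_dvd
    intro s hs h1 h2
    obtain ⟨g, hg⟩ := Cfsg.Agent.Lib.Helper34.conj_of_common_prime hCN
      (Cfsg.Agent.Lib.Helper34.ms_fho_nilpotent hG hCN (hmax i))
      (Cfsg.Agent.Lib.Helper34.ms_fho_maxNilp hG hCN (hmax i))
      (Cfsg.Agent.Lib.Helper34.ms_fho_nilpotent hG hCN (hmax j))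
      (Cfsg.Agent.Lib.Helper34.ms_fho_maxNilp hG hCN (hmax j)) hs h1 h2
    rw [← Cfsg.Agent.Lib.Helper34.ms_fho_map_conj hG hCN (hmax i) g] at hg
    apply hnc i j hij g
    rw [← Cfsg.Agent.Lib.Helper34.ms_normalizer_fho hG hCN (hmax j), hg,
      Cfsg.Agent.Lib.Helper34.ms_normalizer_fho hG hCN
        (Cfsg.Agent.Lib.Helper34.isCoatom_map_conj (hmax i) g)]
  have hcover : ∀ x : G, ∃ i, ∃ g : G, g * x * g⁻¹ ∈ fittingHallOf (Mrep i) := by
    intro x
    obtain ⟨L, hxL, hLnil, hLmax⟩ := Cfsg.Agent.Lib.Helper34.exists_maxNilp_ge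
      (Cfsg.Agent.Lib.Helper34.zpowers_isNilpotent x)
    obtain ⟨M, hM, hLM⟩ := Cfsg.Agent.Lib.Helper34.ms_maxNilp_eq_fho hG hCN hLnil hLmax
    obtain ⟨i, g, hMi⟩ := hall M hM
    refine ⟨i, g⁻¹, ?_⟩
    have h1 : x ∈ fittingHallOf M := by
      rw [← hLM]
      exact hxL (Subgroup.mem_zpowers x)
    rw [hMi, Cfsg.Agent.Lib.Helper34.ms_fho_map_conj hG hCN (hmax i) g,
      Cfsg.Agent.Lib.Helper34.mem_map_conj] at h1
    rw [inv_inv]
    exact h1
  refine ⟨hcop, ?_, hcover⟩
  apply Nat.dvd_antisymm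
  · apply Cfsg.Agent.Lib.Helper34.prod_dvd_of_pairwise_coprime
    · intro i _
      exact Subgroup.card_subgroup_dvd_card _
    · intro i _ j _ hij
      exact hcop i j hij
  · rw [Nat.dvd_iff_prime_pow_dvd_dvd]
    intro q m hq hqm
    haveI : Fact q.Prime := ⟨hq⟩
    by_cases hm : m = 0
    · subst hm
      simp
    let Q : Sylow q G := default
    have hn0 : Nat.card G ≠ 0 := Nat.card_pos.ne'
    have hQcard : q ^ m ∣ Nat.card (Q : Subgroup G) := by
      rw [Q.card_eq_multiplicity]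
      exact pow_dvd_pow q ((Nat.Prime.pow_dvd_iff_le_factorization hq hn0).mp hqm)
    have hQ1 : (Q : Subgroup G) ≠ ⊥ := by
      intro h
      rw [h, Subgroup.card_bot] at hQcard
      have h1 := Nat.dvd_one.mp hQcard
      exact hm ((Nat.pow_eq_one.mp h1).resolve_left hq.ne_one)
    have hNtop := Cfsg.Agent.Lib.Helper34.ms_normalizer_ne_top hG
      (Cfsg.Agent.Lib.Helper34.ctO_ne_bot q Q.isPGroup' hQ1)
      (Cfsg.Agent.Lib.Helper34.ctO_comm q (Q : Subgroup G))
    obtain ⟨M, hM, hNM⟩ := (eq_top_or_exists_le_coatom _).resolve_left hNtop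
    have hQM := Cfsg.Agent.Lib.Helper34.ms_sylow_le_fho hG hCN hM q Q hNM
    obtain ⟨i, g, hMi⟩ := hall M hM
    have hcard : Nat.card (fittingHallOf M) = Nat.card (fittingHallOf (Mrep i)) := by
      rw [hMi, Cfsg.Agent.Lib.Helper34.ms_fho_map_conj hG hCN (hmax i) g]
      exact Subgroup.card_map_of_injective (MulAut.conj g).injective
    refine dvd_trans hQcard (dvd_trans (Subgroup.card_dvd_of_le hQM) ?_)
    rw [hcard]
    exact Finset.dvd_prod_of_mem _ (Finset.mem_univ i)

end Cfsg.Agent.S1484
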