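import Cfsg.Statements.S1527
import Mathlib

set_option autoImplicit false
open Cfsg

namespace Cfsg.Agent.S1527

theorem card_ne_one_add {α : Type*} [Finite α] (a : α) : Nat.card {b : α // b ≠ a} + 1 = Nat.card α := by
  classical
  rw [← Nat.card_congr (Equiv.optionSubtypeNe a), Finite.card_option]

/-- Let G be a finite group and H i (i in a finite index type) subgroups of pairwise coprime orders, each of whose underlying sets is a TI-subset of G, such that every non-identity element of G is conjugate to an element of some H i. Then Nat.card G − 1 = Σ_i [G : N_G(H i)] · (Nat.card (H i) − 1). -/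
theorem result {G : Type*} [Group G] [Finite G] {ι : Type*} [Fintype ι] (H : ι → Subgroup G) (hcop : ∀ i j, i ≠ j → Nat.Coprime (Nat.card (H i)) (Nat.card (H j))) (hTI : ∀ i, Cfsg.IsTISubset (H i : Set G)) (hcover : ∀ g : G, g ≠ 1 → ∃ i, ∃ x : G, x * g * x⁻¹ ∈ H i) : Nat.card G - 1 = ∑ i, (Subgroup.normalizer (H i : Set G)).index * (Nat.card (H i) - 1) := by
  classical
  let N : ι → Subgroup G := fun i => Subgroup.normalizer (H i : Set G)
  let F : (Σ i : ι, (G ⧸ N i) × {h : H i // h ≠ 1}) → G :=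
    fun z => Quotient.out z.2.1 * (z.2.2.1 : G) * (Quotient.out z.2.1)⁻¹
  have hout : ∀ (i : ι) (q : G ⧸ N i), ((Quotient.out q : G) : G ⧸ N i) = q := fun i q => QuotientGroup.out_eq' q
  have hFne : ∀ z, F z ≠ 1 := by
    rintro ⟨i, q, h⟩ hz
    apply h.2
    apply Subtype.ext
    have : (h.1 : G) = (Quotient.out q)⁻¹ * (Quotient.out q * (h.1 : G) * (Quotient.out q)⁻¹) * Quotient.out q := by
      group
    rw [this]
    show (Quotient.out q)⁻¹ * F ⟨i, q, h⟩ * Quotient.out q = ((1 : H i) : G)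
    rw [hz]; simp
  have hFpow : ∀ z : (Σ i : ι, (G ⧸ N i) × {h : H i // h ≠ 1}), F z ^ Nat.card (H z.1) = 1 := by
    rintro ⟨i, q, h⟩
    show (Quotient.out q * (h.1 : G) * (Quotient.out q)⁻¹) ^ Nat.card (H i) = 1
    rw [conj_pow]
    have : ((h.1 : H i) : G) ^ Nat.card (H i) = 1 := by
      have h1 : (h.1 : H i) ^ Nat.card (H i) = 1 := pow_card_eq_one'
      have h2 := congrArg Subtype.val h1
      rw [Subgroup.coe_pow, Subgroup.coe_one] at h2
      exact h2
    rw [this]; group
  have hF : Function.Injective F := by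
    rintro ⟨i, q, h⟩ ⟨i', q', h'⟩ hfe
    have hii : i = i' := by
      by_contra hne
      have h1 := hFpow ⟨i, q, h⟩
      have h2 := hFpow ⟨i', q', h'⟩
      rw [← hfe] at h2
      have h3 := pow_gcd_eq_one.mpr ⟨h1, h2⟩
      have h4 : Nat.gcd (Nat.card (H i)) (Nat.card (H i')) = 1 := hcop i i' hne
      simp only at h3
      rw [h4, pow_one] at h3
      exact hFne _ h3
    subst hii
    simp only [F] at hfe
    set g := Quotient.out q with hg
    set g' := Quotient.out q' with hg'
    have ht : g'⁻¹ * g ∈ N i := by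
      by_contra ht
      apply h.2
      apply Subtype.ext
      apply hTI i (g'⁻¹ * g) ht (h.1 : G) h.1.2
      have : g'⁻¹ * g * (h.1 : G) * (g'⁻¹ * g)⁻¹ = g'⁻¹ * (g * (h.1 : G) * g⁻¹) * g' := by group
      rw [this, hfe]
      have : g'⁻¹ * (g' * (h'.1 : G) * g'⁻¹) * g' = (h'.1 : G) := by group
      rw [this]
      exact h'.1.2
    have hq : q' = q := by
      rw [← hout i q, ← hout i q']
      exact QuotientGroup.eq.mpr ht
    have hgg : g = g' := by rw [hg, hg', hq]
    rw [hgg] at hfe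
    have hh : (h.1 : G) = (h'.1 : G) := mul_left_cancel (mul_right_cancel hfe)
    have hh' : h = h' := Subtype.ext (Subtype.ext hh)
    rw [hq, hh']
  have hrange : Set.range F = {g : G | g ≠ 1} := by
    ext x
    constructor
    · rintro ⟨z, rfl⟩
      exact hFne z
    · intro hx
      obtain ⟨i, y, hy⟩ := hcover x hx
      set q : G ⧸ N i := ((y⁻¹ : G) : G ⧸ N i) with hq
      set g' := Quotient.out q with hg'
      have hn : g'⁻¹ * y⁻¹ ∈ N i := by
        rw [← QuotientGroup.eq]
        exact hout i q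
      set n := g'⁻¹ * y⁻¹ with hndef
      have hmem : n * (y * x * y⁻¹) * n⁻¹ ∈ H i := (Subgroup.mem_set_normalizer_iff.mp hn _).mp hy
      have hxe : g' * (n * (y * x * y⁻¹) * n⁻¹) * g'⁻¹ = x := by
        rw [hndef]; group
      have hne : (⟨n * (y * x * y⁻¹) * n⁻¹, hmem⟩ : H i) ≠ 1 := by
        intro h1
        apply hx
        have h2 : n * (y * x * y⁻¹) * n⁻¹ = 1 := congrArg Subtype.val h1
        rw [← hxe, h2]; group
      exact ⟨⟨i, q, ⟨⟨n * (y * x * y⁻¹) * n⁻¹, hmem⟩, hne⟩⟩, hxe⟩
  have hc1 : Nat.card {g : G // g ≠ 1} + 1 = Nat.card G := card_ne_one_add (1 : G)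
  have hc2 : Nat.card {g : G // g ≠ 1} = Nat.card (Σ i : ι, (G ⧸ N i) × {h : H i // h ≠ 1}) := by
    rw [Nat.card_congr (Equiv.ofInjective F hF), hrange]
    rfl
  have hc3 : Nat.card (Σ i : ι, (G ⧸ N i) × {h : H i // h ≠ 1}) =
      ∑ i, (Subgroup.normalizer (H i : Set G)).index * (Nat.card (H i) - 1) := by
    rw [Nat.card_sigma]
    apply Finset.sum_congr rfl
    intro i _
    rw [Nat.card_prod, ← Subgroup.index_eq_card]
    have := card_ne_one_add (1 : H i)
    have h2 : Nat.card {h : H i // h ≠ 1} = Nat.card (H i) - 1 := by omega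
    rw [h2]
  rw [← hc3, ← hc2]
  omega

end Cfsg.Agent.S1527
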