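import Cfsg.Statements.S1080
import Mathlib

set_option autoImplicit false
open Cfsg

namespace Cfsg.Agent.S1080

open Cfsg.Lie

theorem xMat_map {F : Type*} [Field F] (D : ChevalleyDatum) (f : F ≃+* F) (r : Fin D.nroots) (t : F) :
    (D.xMat F r t).map f = D.xMat F r (f t) := by
  ext row col
  simp only [Matrix.map_apply, ChevalleyDatum.xMat, Matrix.of_apply]
  rcases col with i | s
  · rcases row with i' | u
    · simp only
      split_ifs <;> simp
    · simp only
      split_ifs <;> simp
  · simp only
    by_cases h1 : s = r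
    · simp only [h1, if_true]
      rcases row with i' | u
      · simp
      · simp only
        split_ifs <;> simp
    · simp only [h1, if_false]
      by_cases h2 : s.val = D.negIdx.getD r.val 0
      · simp only [h2, if_true]
        rcases row with i' | u
        · simp
        · simp only
          split_ifs <;> simp
      · simp only [h2, if_false]
        rcases row with i' | u
        · simp
        · simp only [map_add]
          congr 1
          · split_ifs <;> simp
          · rw [map_list_sum, List.map_map]
            congr 1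
            apply List.map_congr_left
            intro a _
            simp

/-- The automorphism of `GL` induced by a field automorphism. -/
noncomputable def glMap {F : Type*} [Field F] (D : ChevalleyDatum) (f : F ≃+* F) : GL D.Idx F ≃* GL D.Idx F :=
  Units.mapEquiv (f.mapMatrix (m := D.Idx)).toMulEquiv

theorem glMap_coe {F : Type*} [Field F] (D : ChevalleyDatum) (f : F ≃+* F) (g : GL D.Idx F) :
    ((glMap D f g : GL D.Idx F) : Matrix D.Idx D.Idx F) = (g : Matrix D.Idx D.Idx F).map f := rfl

theorem glMap_group {F : Type*} [Field F] (D : ChevalleyDatum) (f : F ≃+* F) :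
    (D.group F).map (glMap D f).toMonoidHom = D.group F := by
  unfold ChevalleyDatum.group
  rw [MonoidHom.map_closure]
  congr 1
  ext g
  constructor
  · rintro ⟨g0, ⟨r, t, h⟩, rfl⟩
    refine ⟨r, f t, ?_⟩
    show ((glMap D f g0 : GL D.Idx F) : Matrix D.Idx D.Idx F) = _
    rw [glMap_coe, h, xMat_map]
  · rintro ⟨r, t, h⟩
    refine ⟨(glMap D f).symm g, ⟨r, f.symm t, ?_⟩, ?_⟩
    · have h2 : ((glMap D f ((glMap D f).symm g) : GL D.Idx F) : Matrix D.Idx D.Idx F) = D.xMat F r t := by
        rw [MulEquiv.apply_symm_apply]; exact h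
      rw [glMap_coe] at h2
      have h3 : (D.xMat F r (f.symm t)).map f = D.xMat F r t := by
        rw [xMat_map]; simp
      rw [← h3] at h2
      ext i j
      have := congrFun (congrFun h2 i) j
      simp only [Matrix.map_apply] at this
      exact f.injective this
    · simp

theorem result {F : Type*} [Field F] (D : Cfsg.Lie.ChevalleyDatum) (hD : D ∈ [Cfsg.Lie.chevG2, Cfsg.Lie.chevB2, Cfsg.Lie.chevD4, Cfsg.Lie.chevF4, Cfsg.Lie.chevE6, Cfsg.Lie.chevE7, Cfsg.Lie.chevE8]) (f : F ≃+* F) :
    ∃ α : ↥(D.group F) ≃* ↥(D.group F), ∀ (g : ↥(D.group F)) (r : ℕ) (t : F), r < D.nroots →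
      ((g : GL D.Idx F) : Matrix D.Idx D.Idx F) = D.x F r t → ((α g : GL D.Idx F) : Matrix D.Idx D.Idx F) = D.x F r (f t) := by
  refine ⟨((glMap D f).subgroupMap (D.group F)).trans (MulEquiv.subgroupCongr (glMap_group D f)), ?_⟩
  intro g r t hr hg
  have h1 : ((((glMap D f).subgroupMap (D.group F)).trans (MulEquiv.subgroupCongr (glMap_group D f)) g : ↥(D.group F)) : GL D.Idx F)
      = glMap D f (g : GL D.Idx F) := rfl
  rw [h1, glMap_coe, hg]
  simp only [ChevalleyDatum.x, hr, dif_pos]
  exact xMat_map D f ⟨r, hr⟩ t

end Cfsg.Agent.S1080
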