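import Cfsg.Statements.S1069
import Cfsg.Agent.Lib.Helper24.ReeRk
import Cfsg.Agent.S1114

set_option autoImplicit false
open Cfsg

namespace Cfsg.Agent.S1069

open Cfsg.Agent.Lib.Helper24 in
/-- `|²G₂(q)| = q³ (q - 1)(q³ + 1)` for `q = 3^(2m+1)` (θ = 3^m-th power map), every `m ≥ 0`. -/
theorem result {K : Type*} [Field K] [Fintype K] {m : ℕ} (hK : Fintype.card K = 3 ^ (2 * m + 1)) :
    Nat.card ↥(Cfsg.Lie.twistedG2 K (3 ^ m)) = (3 ^ (2 * m + 1)) ^ 3 * (3 ^ (2 * m + 1) - 1) * ((3 ^ (2 * m + 1)) ^ 3 + 1) := by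
  have : CharP K 3 := Cfsg.Agent.Lib.Helper27.Ree.charP_three (by omega) hK
  obtain ⟨σ, hσ⟩ := Cfsg.Agent.Lib.Helper27.Ree.exists_sig m hK
  obtain ⟨hF, hadd, hsub, hodd⟩ := Cfsg.Agent.Lib.Helper27.Ree.field_facts m hK
  have hG : Nat.card ↥(Cfsg.Lie.twistedG2 K (3 ^ m)) =
      Nat.card ↥(Cfsg.Lie.chevG2.borelSubgroup K ⊓ Cfsg.Lie.twistedG2 K (3 ^ m)) +
        Nat.card ↥(Cfsg.Lie.chevG2.borelSubgroup K ⊓ Cfsg.Lie.twistedG2 K (3 ^ m)) *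
          Nat.card ↥(Cfsg.Lie.chevG2.posUnipotent K ⊓ Cfsg.Lie.twistedG2 K (3 ^ m)) :=
    (Cfsg.Agent.Lib.Helper24.ReeRk.reeRk hσ hF hadd hsub hodd).card_G1
  have hB : Nat.card ↥(Cfsg.Lie.chevG2.borelSubgroup K ⊓ Cfsg.Lie.twistedG2 K (3 ^ m)) =
      Nat.card ↥(Cfsg.Lie.chevG2.posUnipotent K ⊓ Cfsg.Lie.twistedG2 K (3 ^ m)) *
        Nat.card ↥(Cfsg.Lie.chevG2.diagonalSubgroup K ⊓ Cfsg.Lie.twistedG2 K (3 ^ m)) :=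
    (Cfsg.Agent.Lib.Helper24.ReeRk.reeRk hσ hF hadd hsub hodd).card_borel
  have hU := Cfsg.Agent.Lib.Helper27.Ree.U1_card hσ hF hadd hodd hsub
  have hH := Cfsg.Agent.S1114.result hK
  rw [hG, hB, hU, hH, hK]
  ring

end Cfsg.Agent.S1069
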