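import Cfsg.Statements.S3073
import Cfsg.Agent.Lib.Helper26.SelfCentK
import Cfsg.Agent.S0659

set_option autoImplicit false
universe u
open Cfsg

namespace Cfsg.Agent.S3073

open Cfsg.Agent.Lib.Helper26

/-- If every `p'`-element of `N_G(K')` centralizes `K'`, where `K' ≤ P` is normalized by the Sylow
`p`-subgroup `P` and `C_P(K') ≤ K'`, then `N_G(K')` has a normal `p`-complement. -/
theorem npc_normalizer_of_control {p : ℕ} [Fact p.Prime] {G : Type*} [Group G] [Finite G]
    (P : Sylow p G) (K' : Subgroup G)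
    (hPN : (P : Subgroup G) ≤ Subgroup.normalizer (K' : Set G))
    (hself : ∀ z ∈ (P : Subgroup G), z ∈ Subgroup.centralizer (K' : Set G) → z ∈ K')
    (H : ∀ g ∈ Subgroup.normalizer (K' : Set G), (orderOf g).Coprime p →
      g ∈ Subgroup.centralizer (K' : Set G)) :
    Npc p ↥(Subgroup.normalizer (K' : Set G)) := by
  obtain ⟨K'', hK''⟩ : ∃ K'' : Subgroup ↥(Subgroup.normalizer (K' : Set G)),
      K'' = K'.subgroupOf (Subgroup.normalizer (K' : Set G)) := ⟨_, rfl⟩
  haveI hK''n : K''.Normal := by rw [hK'']; exact Subgroup.normal_in_normalizer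
  obtain ⟨C'', hC''⟩ : ∃ C'' : Subgroup ↥(Subgroup.normalizer (K' : Set G)),
      C'' = Subgroup.centralizer (K'' : Set ↥(Subgroup.normalizer (K' : Set G))) := ⟨_, rfl⟩
  haveI hC''n : C''.Normal := by rw [hC'']; exact Subgroup.normal_centralizer
  have hCmem : ∀ x : ↥(Subgroup.normalizer (K' : Set G)), x ∈ C'' →
      ∀ k ∈ K'', k * x = x * k := by
    intro x hx
    rw [hC''] at hx
    exact Subgroup.mem_centralizer_iff.mp hx
  obtain ⟨PC, hPC⟩ := Cfsg.Agent.Lib.Helper14.exists_sylow_map_eq_inf C'' (P.subtype hPN)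
  have hcentral : ∀ z ∈ (PC : Subgroup C''), ∀ c : C'', c * z = z * c := by
    intro z hz c
    have hz' : (z : ↥(Subgroup.normalizer (K' : Set G))) ∈
        ((P.subtype hPN : Sylow p ↥(Subgroup.normalizer (K' : Set G))) :
          Subgroup ↥(Subgroup.normalizer (K' : Set G))) ⊓ C'' := by
      rw [← hPC]; exact ⟨z, hz, rfl⟩
    have hzP : ((z : ↥(Subgroup.normalizer (K' : Set G))) : G) ∈ (P : Subgroup G) := by
      have h1 := hz'.1
      rw [Sylow.coe_subtype] at h1
      exact Subgroup.mem_subgroupOf.mp h1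
    have hzC : ((z : ↥(Subgroup.normalizer (K' : Set G))) : G) ∈
        Subgroup.centralizer (K' : Set G) := by
      rw [Subgroup.mem_centralizer_iff]
      intro k hk
      have hkN : k ∈ Subgroup.normalizer (K' : Set G) := Subgroup.le_normalizer hk
      have h3 := hCmem _ hz'.2 ⟨k, hkN⟩
        (by rw [hK'']; exact Subgroup.mem_subgroupOf.mpr hk)
      exact congrArg Subtype.val h3
    have hzK : ((z : ↥(Subgroup.normalizer (K' : Set G))) : G) ∈ K' := hself _ hzP hzC
    have hzK'' : (z : ↥(Subgroup.normalizer (K' : Set G))) ∈ K'' := by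
      rw [hK'']; exact Subgroup.mem_subgroupOf.mpr hzK
    have h4 := hCmem _ c.2 _ hzK''
    exact Subtype.ext h4.symm
  have hPCn : Subgroup.normalizer ((PC : Subgroup C'') : Set C'') ≤
      Subgroup.centralizer ((PC : Subgroup C'') : Set C'') := by
    intro x _
    rw [Subgroup.mem_centralizer_iff]
    intro y hy
    exact (hcentral y hy x).symm
  have hCnpc : Npc p ↥C'' :=
    npc_of_hasNPC ⟨PC, _, inferInstance, MonoidHom.ker_transferSylow_isComplement' PC hPCn⟩
  obtain ⟨E0, hE0n, hE0c, hE0⟩ := Npc.exists_normal C'' hCnpc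
  haveI := hE0n
  apply npc_of_pow_mem E0 hE0c
  intro x
  obtain ⟨a, ha⟩ := exists_pow_coprime (p := p) x
  refine ⟨a, hE0 _ ?_ ha⟩
  have h1 : (orderOf ((x ^ p ^ a : ↥(Subgroup.normalizer (K' : Set G))) : G)).Coprime p := by
    rw [Subgroup.orderOf_coe]; exact ha
  have h2 := H _ (x ^ p ^ a).2 h1
  rw [hC'', Subgroup.mem_centralizer_iff]
  intro k hk
  apply Subtype.ext
  rw [hK''] at hk
  exact Subgroup.mem_centralizer_iff.mp h2 (k : G) (Subgroup.mem_subgroupOf.mp hk)

/-- the final equivalence, for a characteristic self-centralizing `K` deciding normal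
`p`-complements. -/
theorem iff_of_decides {p : ℕ} [Fact p.Prime] {S : Type u} [Group S] [Finite S]
    (K : Subgroup S) (hKc : K.Characteristic)
    (hKcen : Subgroup.centralizer (K : Set S) ≤ K) (hKd : Decides p S K)
    (G : Type u) [Group G] [Finite G] (P : Sylow p G) (e : ↥(P : Subgroup G) ≃* S) :
    Cfsg.HasNormalPComplement p G ↔
      ∀ g ∈ Subgroup.normalizer (((K.comap (e : ↥(P : Subgroup G) →* S)).map
          (P : Subgroup G).subtype : Subgroup G) : Set G),
        (orderOf g).Coprime p →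
          g ∈ Subgroup.centralizer (((K.comap (e : ↥(P : Subgroup G) →* S)).map
            (P : Subgroup G).subtype : Subgroup G) : Set G) := by
  obtain ⟨K', hK'⟩ : ∃ K' : Subgroup G,
      K' = (K.comap (e : ↥(P : Subgroup G) →* S)).map (P : Subgroup G).subtype := ⟨_, rfl⟩
  rw [← hK']
  have hKn : K.Normal := inferInstance
  have hK'P : K' ≤ (P : Subgroup G) := by
    rw [hK']; rintro _ ⟨x, _, rfl⟩; exact x.2
  have hK'mem : ∀ x : ↥(P : Subgroup G), (x : G) ∈ K' ↔ e x ∈ K := by
    intro x
    rw [hK']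
    constructor
    · rintro ⟨y, hy, hyx⟩
      have hyx' : y = x := Subtype.ext hyx
      rw [← hyx']; exact hy
    · intro hx; exact ⟨x, hx, rfl⟩
  constructor
  · intro hnpc g hg hcop
    obtain ⟨N, hN, hNcop, k, hk⟩ := npc_of_hasNPC hnpc
    have hgN : g ∈ N := (npc_mem_iff hN hNcop hk g).mpr hcop
    rw [Subgroup.mem_centralizer_iff]
    intro x hx
    have h1 : g * x * g⁻¹ * x⁻¹ ∈ N := by
      have h0 : x * g⁻¹ * x⁻¹ ∈ N := hN.conj_mem _ (N.inv_mem hgN) x
      have h2 := N.mul_mem hgN h0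
      have e1 : g * (x * g⁻¹ * x⁻¹) = g * x * g⁻¹ * x⁻¹ := by group
      rwa [e1] at h2
    have h2 : g * x * g⁻¹ * x⁻¹ ∈ K' := by
      have h0 := (Subgroup.mem_normalizer_iff.mp hg x).mp hx
      exact K'.mul_mem h0 (K'.inv_mem hx)
    have h3 : g * x * g⁻¹ * x⁻¹ = 1 := by
      apply eq_one_of_mem_pgroup_of_coprime P.isPGroup' (hK'P h2)
      exact (npc_mem_iff hN hNcop hk _).mp h1
    have h4 : g * x * g⁻¹ * x⁻¹ * (x * g) = 1 * (x * g) := by rw [h3]
    have e2 : g * x * g⁻¹ * x⁻¹ * (x * g) = g * x := by group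
    rw [e2, one_mul] at h4
    exact h4.symm
  · intro H
    apply hasNPC_of_npc
    obtain ⟨ι, hιdef⟩ : ∃ ι : S →* G,
        ι = (P : Subgroup G).subtype.comp e.symm.toMonoidHom := ⟨_, rfl⟩
    have hιK : K.map ι = K' := by
      rw [hιdef]
      ext x
      constructor
      · rintro ⟨k, hk, rfl⟩
        have h1 := (hK'mem (e.symm k)).mpr (by rw [e.apply_symm_apply]; exact hk)
        exact h1
      · intro hx
        have hxP := hK'P hx
        have h1 := (hK'mem ⟨x, hxP⟩).mp hx
        refine ⟨e ⟨x, hxP⟩, h1, ?_⟩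
        simp
    have hSyl : SylEmb p ι := by
      refine ⟨?_, ?_⟩
      · rw [hιdef]
        intro a b hab
        exact e.symm.injective (Subtype.ext hab)
      · have hr : ι.range = (P : Subgroup G) := by
          rw [hιdef]
          ext x
          constructor
          · rintro ⟨s, rfl⟩; exact (e.symm s).2
          · intro hx; exact ⟨e ⟨x, hx⟩, by simp⟩
        rw [hr]; exact P.not_dvd_index
    apply hKd G ι hSyl
    rw [hιK]
    apply npc_normalizer_of_control P K' ?_ ?_ H
    · -- `P` normalizes `K'`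
      intro z hz
      rw [Subgroup.mem_normalizer_iff]
      intro h
      constructor
      · intro hh
        have hhP := hK'P hh
        have h1 := (hK'mem ⟨h, hhP⟩).mp hh
        have h2 := hKn.conj_mem _ h1 (e ⟨z, hz⟩)
        have h3 := (hK'mem (⟨z, hz⟩ * ⟨h, hhP⟩ * ⟨z, hz⟩⁻¹)).mpr (by
          rw [map_mul, map_mul, map_inv]; exact h2)
        exact h3
      · intro hh
        have hhP' := hK'P hh
        have hhP : h ∈ (P : Subgroup G) := by
          have h0 := (P : Subgroup G).mul_mem ((P : Subgroup G).mul_mem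
            ((P : Subgroup G).inv_mem hz) hhP') hz
          have e1 : z⁻¹ * (z * h * z⁻¹) * z = h := by group
          rwa [e1] at h0
        have h1 := (hK'mem (⟨z, hz⟩ * ⟨h, hhP⟩ * ⟨z, hz⟩⁻¹)).mp hh
        rw [map_mul, map_mul, map_inv] at h1
        have h2 := hKn.conj_mem _ h1 (e ⟨z, hz⟩)⁻¹
        have e2 : (e ⟨z, hz⟩)⁻¹ * (e ⟨z, hz⟩ * e ⟨h, hhP⟩ * (e ⟨z, hz⟩)⁻¹) * (e ⟨z, hz⟩)⁻¹⁻¹ =
            e ⟨h, hhP⟩ := by group
        rw [e2] at h2
        exact (hK'mem ⟨h, hhP⟩).mpr h2
    · -- `C_P(K') ≤ K'`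
      intro z hz hzc
      apply (hK'mem ⟨z, hz⟩).mpr
      apply hKcen
      rw [Subgroup.mem_centralizer_iff]
      intro k hk
      have h1 : ((e.symm k : ↥(P : Subgroup G)) : G) ∈ K' :=
        (hK'mem (e.symm k)).mpr (by rw [e.apply_symm_apply]; exact hk)
      have h2 := Subgroup.mem_centralizer_iff.mp hzc _ h1
      have h3 : e.symm k * ⟨z, hz⟩ = ⟨z, hz⟩ * e.symm k := Subtype.ext h2
      have h4 := congrArg e h3
      rw [map_mul, map_mul, e.apply_symm_apply] at h4
      exact h4

/-- For an odd prime p, every finite p-group S has a characteristic subgroup K with C_S(K) ≤ K such that, whenever S is (isomorphic to) a Sylow p-subgroup of a finite group G, G has a normal p-complement if and only if N_G(K)/C_G(K) is a p-group, i.e. every element of N_G(K) of order prime to p centralizes K (K transported into G along the isomorphism). -/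
theorem result (p : ℕ) [Fact p.Prime] (hp : p ≠ 2)
    (S : Type u) [Group S] [Finite S] (hS : IsPGroup p S) :
    ∃ K : Subgroup S, K.Characteristic ∧ Subgroup.centralizer (K : Set S) ≤ K ∧
      ∀ (G : Type u) [Group G] [Finite G] (P : Sylow p G) (e : ↥(P : Subgroup G) ≃* S),
        Cfsg.HasNormalPComplement p G ↔
          ∀ g ∈ Subgroup.normalizer (((K.comap (e : ↥(P : Subgroup G) →* S)).map (P : Subgroup G).subtype : Subgroup G) : Set G),
            (orderOf g).Coprime p →
              g ∈ Subgroup.centralizer (((K.comap (e : ↥(P : Subgroup G) →* S)).map (P : Subgroup G).subtype : Subgroup G) : Set G) := by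
  have hW := zjA_char.{u} p
  have hGT : ∀ (G : Type u) [Group G] [Finite G] (P : Sylow p G),
      Npc p ↥(Subgroup.normalizer (inducedFunctor @zjA (P : Subgroup G) : Set G)) → Npc p G := by
    intro G _ _ P h
    apply npc_of_hasNPC
    apply Cfsg.Agent.S0659.result hp P
    apply hasNPC_of_npc
    rw [← ind_zjA]; exact h
  have hab : ∀ (Q : Type u) [Group Q] [Finite Q], IsPGroup p Q →
      ∀ a ∈ (zjA Q : Subgroup Q), ∀ b ∈ (zjA Q : Subgroup Q), a * b = b * a := by
    intro Q _ _ _ a ha b hb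
    have ha' := (Subgroup.mem_inf.mp ha).1
    have hb' := (Subgroup.mem_inf.mp hb).2
    exact Subgroup.mem_centralizer_iff.mp hb' a ha'
  obtain ⟨K, hKc, hKcen, hKd⟩ := exists_selfCent_decides hW hab hGT (Nat.card S) S hS rfl
  exact ⟨K, hKc, hKcen, fun G _ _ P e => iff_of_decides K hKc hKcen hKd G P e⟩

end Cfsg.Agent.S3073
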