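import Cfsg.Statements.S4416
import Cfsg.Agent.Lib.Helper3.Extra2
import Mathlib

set_option autoImplicit false
open Cfsg

namespace Cfsg.Agent.S4416

open Cfsg.Agent.Lib.Helper3.Extra Cfsg.Agent.S0099 Cfsg.Agent.Lib.Helper3.Extra2

universe u v

theorem count_card8_D {E : Type*} [Group E] [Finite E] (hE : Cfsg.IsExtraspecial 2 E)
    (d : DData E) (h8 : Nat.card E = 8) : Nat.card {e : E // e ^ 2 = 1} = 6 := by
  obtain ⟨x, y, z, hz, hz1, hxy, hx, hy⟩ := d
  have hC := cent_le_of_card8 hE x y z hxy hz hz1 h8
  rw [count_D hE x y z hxy hz hz1 hx hy, count_central hE _ hC, es_cent_card_of_le hE x y hC]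

theorem count_card8_Q {E : Type*} [Group E] [Finite E] (hE : Cfsg.IsExtraspecial 2 E)
    (q : QData E) : Nat.card {e : E // e ^ 2 = 1} = 2 := by
  obtain ⟨x, y, z, hz, hz1, hxy, hx, hy, hC⟩ := q
  have h1 := count_Q hE x y z hxy hz hz1 hx hy
  rw [count_central hE _ hC, es_cent_card_of_le hE x y hC] at h1
  omega

theorem orderCount : ∀ (n : ℕ) (E : Type u) [Group E] [Finite E], Nat.card E = n →
    Cfsg.IsExtraspecial 2 E →
    ∃ m : ℕ, 1 ≤ m ∧ Nat.card E = 2 ^ (2 * m + 1) ∧
      (Nat.card {x : E // x ^ 2 = 1} = 2 ^ (2 * m) + 2 ^ m ∨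
        Nat.card {x : E // x ^ 2 = 1} = 2 ^ (2 * m) - 2 ^ m) := by
  intro n
  induction n using Nat.strong_induction_on with
  | _ n ih =>
    intro E _ _ hn hE
    rcases dichotomy hE with d | q
    · obtain ⟨x, y, z, hz, hz1, hxy, hx, hy⟩ := d
      by_cases hC : Subgroup.centralizer ({x, y} : Set E) ≤ Subgroup.center E
      · have h8 := card8_of_cent_le hE x y z hxy hz hz1 hC
        refine ⟨1, le_refl 1, by rw [h8]; norm_num, Or.inl ?_⟩
        rw [count_card8_D hE ⟨x, y, z, hz, hz1, hxy, hx, hy⟩ h8]; norm_num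
      · obtain ⟨hes, -⟩ := cent_extraspecial hE x y z hxy hz hz1 hC
        have hcard := es_card hE x y z hxy hz hz1
        have hlt : Nat.card (Subgroup.centralizer ({x, y} : Set E)) < n := by
          have hpos : 0 < Nat.card (Subgroup.centralizer ({x, y} : Set E)) := Nat.card_pos
          omega
        obtain ⟨m, hm1, hmc, hmi⟩ := ih _ hlt (↥(Subgroup.centralizer ({x, y} : Set E))) rfl hes
        have hD := count_D hE x y z hxy hz hz1 hx hy
        refine ⟨m + 1, by omega, ?_, ?_⟩
        · rw [hcard, hmc]; ring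
        · rw [hD, hmc]
          have e1 : 2 ^ (2 * (m + 1)) = 4 * 2 ^ (2 * m) := by ring
          have e2 : 2 ^ (m + 1) = 2 * 2 ^ m := by ring
          have e3 : 2 ^ (2 * m + 1) = 2 * 2 ^ (2 * m) := by ring
          have hle : 2 ^ m ≤ 2 ^ (2 * m) := Nat.pow_le_pow_right (by norm_num) (by omega)
          rcases hmi with hi | hi
          · left; rw [hi, e1, e2, e3]; omega
          · right; rw [hi, e1, e2, e3]; omega
    · have h8 := card8_of_QData hE q
      refine ⟨1, le_refl 1, by rw [h8]; norm_num, Or.inr ?_⟩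
      rw [count_card8_Q hE q]; norm_num

theorem uniq : ∀ (n : ℕ) (E : Type u) (E' : Type v) [Group E] [Group E'] [Finite E] [Finite E'],
    Nat.card E = n → Cfsg.IsExtraspecial 2 E → Cfsg.IsExtraspecial 2 E' →
    Nat.card E' = Nat.card E →
    Nat.card {x : E' // x ^ 2 = 1} = Nat.card {x : E // x ^ 2 = 1} → Nonempty (E ≃* E') := by
  intro n
  induction n using Nat.strong_induction_on with
  | _ n ih =>
    intro E E' _ _ _ _ hn hE hE' hc hi
    rcases dichotomy hE with d | q <;> rcases dichotomy hE' with d' | q'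
    · obtain ⟨x, y, z, hz, hz1, hxy, hx, hy⟩ := d
      obtain ⟨x', y', z', hz', hz1', hxy', hx', hy'⟩ := d'
      by_cases hC : Subgroup.centralizer ({x, y} : Set E) ≤ Subgroup.center E
      · have h8 := card8_of_cent_le hE x y z hxy hz hz1 hC
        exact iso_DD_card8 hE hE' ⟨x, y, z, hz, hz1, hxy, hx, hy⟩
          ⟨x', y', z', hz', hz1', hxy', hx', hy'⟩ h8 (by rw [hc]; exact h8)
      · have hne8 : Nat.card E ≠ 8 := fun h8 => hC (cent_le_of_card8 hE x y z hxy hz hz1 h8)
        have hC' : ¬ Subgroup.centralizer ({x', y'} : Set E') ≤ Subgroup.center E' := fun hC' =>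
          hne8 (by rw [← hc]; exact card8_of_cent_le hE' x' y' z' hxy' hz' hz1' hC')
        obtain ⟨hes, -⟩ := cent_extraspecial hE x y z hxy hz hz1 hC
        obtain ⟨hes', -⟩ := cent_extraspecial hE' x' y' z' hxy' hz' hz1' hC'
        have hcard := es_card hE x y z hxy hz hz1
        have hcard' := es_card hE' x' y' z' hxy' hz' hz1'
        have hD := count_D hE x y z hxy hz hz1 hx hy
        have hD' := count_D hE' x' y' z' hxy' hz' hz1' hx' hy'
        have hlt : Nat.card (Subgroup.centralizer ({x, y} : Set E)) < n := by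
          have hpos : 0 < Nat.card (Subgroup.centralizer ({x, y} : Set E)) := Nat.card_pos
          omega
        have hCC : Nat.card (Subgroup.centralizer ({x', y'} : Set E')) =
            Nat.card (Subgroup.centralizer ({x, y} : Set E)) := by omega
        have hii : Nat.card {k : ↥(Subgroup.centralizer ({x', y'} : Set E')) // k ^ 2 = 1} =
            Nat.card {k : ↥(Subgroup.centralizer ({x, y} : Set E)) // k ^ 2 = 1} := by omega
        obtain ⟨β⟩ := ih _ hlt (↥(Subgroup.centralizer ({x, y} : Set E)))
          (↥(Subgroup.centralizer ({x', y'} : Set E'))) rfl hes hes' hCC hii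
        exact iso_glue hE hE' hc.symm x y z hz hz1 hxy hx hy x' y' z' hz' hz1' hxy' hx' hy'
          hC hC' β
    · exfalso
      have h8 := card8_of_QData hE' q'
      have c1 := count_card8_D hE d (by rw [← hc]; exact h8)
      have c2 := count_card8_Q hE' q'
      omega
    · exfalso
      have h8 := card8_of_QData hE q
      have c1 := count_card8_D hE' d' (by rw [hc]; exact h8)
      have c2 := count_card8_Q hE q
      omega
    · exact iso_QQ hE hE' q q'

/-- Classification of extraspecial 2-groups in intrinsic form. An extraspecial 2-group has order 2^(2m+1) for some m ≥ 1, and the number of its elements squaring to the identity is either 2^(2m) + 2^m or 2^(2m) − 2^m; two extraspecial 2-groups of the same order with the same number of such elements are isomorphic. (The two cases are the central products of m dihedral groups of order 8, and of m − 1 dihedral groups with one quaternion group.) -/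
theorem result (E : Type*) [Group E] [Finite E] (hE : Cfsg.IsExtraspecial 2 E) :
    (∃ m : ℕ, 1 ≤ m ∧ Nat.card E = 2 ^ (2 * m + 1) ∧
      (Nat.card {x : E // x ^ 2 = 1} = 2 ^ (2 * m) + 2 ^ m ∨ Nat.card {x : E // x ^ 2 = 1} = 2 ^ (2 * m) - 2 ^ m)) ∧
    ∀ (E' : Type*) [Group E'] [Finite E'], Cfsg.IsExtraspecial 2 E' → Nat.card E' = Nat.card E →
      Nat.card {x : E' // x ^ 2 = 1} = Nat.card {x : E // x ^ 2 = 1} → Nonempty (E ≃* E') := by
  refine ⟨orderCount _ E rfl hE, ?_⟩
  intro E' _ _ hE' hc hi
  exact uniq _ E E' rfl hE hE' hc hi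

end Cfsg.Agent.S4416
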