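import Cfsg.Statements.S5126
import Cfsg.Agent.Lib.Helper87.Fusion17
import Cfsg.Agent.Lib.Helper90.Radical

set_option autoImplicit false
open Cfsg

namespace Cfsg.Agent.S5126

open Cfsg.FusionSystem Cfsg.Agent.Lib.Helper90

variable {Ω : Type*} [Group Ω] {S : Subgroup Ω}

theorem ext_self (F : FusionSystem S) {A R : Subgroup Ω} (hRA : R ≤ A) (ψ : A →* Ω)
    (hψ : ψ ∈ F.Hom A) (hmap : (R.subgroupOf A).map ψ = R) :
    ∃ ψ' ∈ F.Hom (A ⊔ R), (∀ x : A, ψ' (Subgroup.inclusion le_sup_left x) = ψ x) ∧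
      (R.subgroupOf (A ⊔ R)).map ψ' = R := by
  have hAR : A ⊔ R = A := sup_eq_left.mpr hRA
  suffices h : ∀ (B : Subgroup Ω) (_ : B = A) (hle : A ≤ B), ∃ ψ' ∈ F.Hom B,
      (∀ x : A, ψ' (Subgroup.inclusion hle x) = ψ x) ∧ (R.subgroupOf B).map ψ' = R from
    h (A ⊔ R) hAR le_sup_left
  intro B hB hle
  subst hB
  exact ⟨ψ, hψ, fun x => rfl, hmap⟩

theorem normal_in_normalizer (F : FusionSystem S) (R : Subgroup Ω) (hR : R ≤ S)
    (E : FusionSystem (normalizerIn S R)) (hE : F.IsNormalizerSystem R E) : E.IsNormal R := by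
  have hRT : R ≤ normalizerIn S R := le_normalizerIn hR
  refine ⟨hRT, fun P φ hφ => ?_⟩
  have hφ' := hφ
  rw [hE P] at hφ'
  obtain ⟨hφF, hPT, hφT, ψ, hψ, hψP, hmap⟩ := hφ'
  refine ⟨ψ, ?_, hψP, hmap⟩
  rw [hE (P ⊔ R)]
  refine ⟨hψ, sup_le hPT hRT, ?_, ext_self F le_sup_right ψ hψ hmap⟩
  refine Cfsg.Agent.Lib.Helper87.sup_hom_mem ψ (fun x => ?_) (fun x => ?_)
  · rw [hψP]
    exact hφT x
  · apply hRT
    have h1 : ψ (Subgroup.inclusion le_sup_right x) ∈ (R.subgroupOf (P ⊔ R)).map ψ :=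
      ⟨Subgroup.inclusion le_sup_right x, Subgroup.mem_subgroupOf.mpr x.2, rfl⟩
    rw [hmap] at h1
    exact h1

theorem conj_eq_self (F : FusionSystem S) (R : Subgroup Ω)
    (E : FusionSystem (normalizerIn S R)) (hE : F.IsNormalizerSystem R E) {Q : Subgroup Ω}
    (h : E.IsConj R Q) : Q = R := by
  obtain ⟨φ, hφ, hr⟩ := h
  rw [hE R] at hφ
  obtain ⟨-, -, -, ψ, -, hψP, hmap⟩ := hφ
  rw [← hr]
  apply le_antisymm
  · rintro _ ⟨x, rfl⟩
    rw [← hψP x]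
    have h1 : ψ (Subgroup.inclusion le_sup_left x) ∈ (R.subgroupOf (R ⊔ R)).map ψ :=
      ⟨Subgroup.inclusion le_sup_left x, Subgroup.mem_subgroupOf.mpr x.2, rfl⟩
    rw [hmap] at h1
    exact h1
  · intro y hy
    have hy' : y ∈ (R.subgroupOf (R ⊔ R)).map ψ := by
      rw [hmap]
      exact hy
    obtain ⟨z, hz, rfl⟩ := hy'
    have hzR : (z : Ω) ∈ R := Subgroup.mem_subgroupOf.mp hz
    exact ⟨⟨z, hzR⟩, (hψP ⟨z, hzR⟩).symm⟩

theorem centric_in_normalizer (F : FusionSystem S) (R : Subgroup Ω) (hRc : F.IsCentric R)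
    (E : FusionSystem (normalizerIn S R)) (hE : F.IsNormalizerSystem R E) : E.IsCentric R := by
  refine ⟨le_normalizerIn hRc.1, fun Q hQ => ?_⟩
  rw [conj_eq_self F R E hE hQ]
  intro x hx
  exact hRc.2 R (isConj_refl F hRc.1) ⟨hx.1.1, hx.2⟩

theorem aut_mem_E (F : FusionSystem S) (R : Subgroup Ω) (hR : R ≤ S)
    (E : FusionSystem (normalizerIn S R)) (hE : F.IsNormalizerSystem R E) (α : MulAut R)
    (hα : α ∈ F.autGroup R) : R.subtype.comp α.toMonoidHom ∈ E.Hom R := by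
  have h1 : R.subtype.comp α.toMonoidHom ∈ F.Hom R :=
    (Cfsg.Agent.Lib.Helper87.mem_autGroup_iff' F hR α).mp hα
  rw [hE R]
  refine ⟨h1, le_normalizerIn hR, fun x => le_normalizerIn hR (α x).2, ?_⟩
  apply ext_self F le_rfl _ h1
  ext y
  constructor
  · rintro ⟨z, -, rfl⟩
    exact (α z).2
  · intro hy
    refine ⟨α.symm ⟨y, hy⟩, Subgroup.mem_subgroupOf.mpr (α.symm ⟨y, hy⟩).2, ?_⟩
    show ((α (α.symm ⟨y, hy⟩) : R) : Ω) = y
    rw [MulEquiv.apply_symm_apply]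

theorem model_core [Finite S] (p : ℕ) [Fact p.Prime] (hS : IsPGroup p S) (F : FusionSystem S)
    (R : Subgroup Ω) (hR : R ≤ S) (hRc : F.IsCentric R) (hRr : F.IsRadical p R)
    (E : FusionSystem (normalizerIn S R)) (hE : F.IsNormalizerSystem R E)
    {G : Type*} [Group G] (ι : ↥(normalizerIn S R) →* G) (hM : E.IsModel p G ι) :
    (pCore p G : Subgroup G) = (R.subgroupOf (normalizerIn S R)).map ι := by
  obtain ⟨hfin, hReal, ⟨Syl, hSyl⟩, hC⟩ := hM
  have hι : Function.Injective ι := hReal.1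
  have hUn : (pCore p G).Normal := Subgroup.sSup_normal _ (fun H h => h.1)
  have hUp : IsPGroup p (pCore p G) := Sylow.sSup_of_normal _ (fun H h => h.2) (fun H h => h.1)
  have hUr : pCore p G ≤ ι.range := hSyl ▸ hUp.le_sylow_of_normal Syl
  have hRT : R ≤ normalizerIn S R := le_normalizerIn hR
  have hTS : normalizerIn S R ≤ S := fun _ h => h.1
  set Q : Subgroup Ω := ((pCore p G).comap ι).map (normalizerIn S R).subtype with hQdef
  have hQT : Q ≤ normalizerIn S R := by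
    rintro _ ⟨s, -, rfl⟩
    exact s.2
  have hQmem : ∀ s : normalizerIn S R, (s : Ω) ∈ Q ↔ ι s ∈ pCore p G := by
    intro s
    constructor
    · rintro ⟨s', hs', hss⟩
      have : s' = s := Subtype.ext hss
      rw [← this]
      exact hs'
    · intro h
      exact ⟨s, h, rfl⟩
  have hnorm := normal_in_normalizer F R hR E hE
  apply le_antisymm
  · have hBp : IsPGroup p (autInducedBy Q R) :=
      isPGroup_autInducedBy (hS.to_le (hQT.trans hTS)) R
    have hBle : autInducedBy Q R ≤ F.autGroup R := by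
      intro β hβ
      obtain ⟨a, ha, hβa⟩ := (mem_autInducedBy_iff Q R β).mp hβ
      exact autInducedBy_le_autGroup F hR ((mem_autInducedBy_iff S R β).mpr ⟨a, (hQT ha).1, hβa⟩)
    have hBn : ∀ α ∈ F.autGroup R, ∀ β ∈ autInducedBy Q R, α * β * α⁻¹ ∈ autInducedBy Q R := by
      intro α hα β hβ
      obtain ⟨a, ha, hβa⟩ := (mem_autInducedBy_iff Q R β).mp hβ
      have hαE := aut_mem_E F R hR E hE α hα
      obtain ⟨g, hg⟩ := Cfsg.Agent.Lib.Helper87.exists_of_hom E hReal hαE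
      have haU : ι ⟨a, hQT ha⟩ ∈ pCore p G := (hQmem ⟨a, hQT ha⟩).mp ha
      have hgU : g * ι ⟨a, hQT ha⟩ * g⁻¹ ∈ pCore p G := hUn.conj_mem _ haU g
      obtain ⟨s', hs'⟩ := hUr hgU
      have hs'Q : (s' : Ω) ∈ Q := (hQmem s').mpr (by rw [hs']; exact hgU)
      rw [mem_autInducedBy_iff]
      refine ⟨s', hs'Q, fun x => ?_⟩
      have h1 : ∀ y : R, ι ⟨((α y : R) : Ω), hRT (α y).2⟩ = g * ι ⟨y, hRT y.2⟩ * g⁻¹ :=
        fun y => hg y
      have h2 : ι ⟨((α⁻¹ x : R) : Ω), hRT (α⁻¹ x).2⟩ = g⁻¹ * ι ⟨x, hRT x.2⟩ * g := by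
        have h3 := h1 (α⁻¹ x)
        have hx : ι ⟨((α (α⁻¹ x) : R) : Ω), hRT (α (α⁻¹ x)).2⟩ = ι ⟨x, hRT x.2⟩ := by
          congr 2
          simp
        rw [hx] at h3
        rw [h3]
        group
      have hX : ι ⟨((α (β (α⁻¹ x)) : R) : Ω), hRT (α (β (α⁻¹ x))).2⟩ =
          ι (s' * ⟨x, hRT x.2⟩ * s'⁻¹) := by
        rw [h1, map_mul, map_mul, map_inv, hs']
        have h4 : (⟨((β (α⁻¹ x) : R) : Ω), hRT (β (α⁻¹ x)).2⟩ : normalizerIn S R) =
            ⟨a, hQT ha⟩ * ⟨((α⁻¹ x : R) : Ω), hRT (α⁻¹ x).2⟩ *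
              (⟨a, hQT ha⟩ : normalizerIn S R)⁻¹ :=
          Subtype.ext (hβa _)
        rw [h4, map_mul, map_mul, map_inv, h2]
        group
      exact congrArg Subtype.val (hι hX)
    have hBI : autInducedBy Q R ≤ Inn R := by
      rw [← hRr.2]
      exact le_pCore_map (autInducedBy Q R) hBp hBle hBn
    intro u hu
    obtain ⟨q, rfl⟩ := hUr hu
    have hqQ : (q : Ω) ∈ Q := (hQmem q).mpr hu
    refine ⟨q, Subgroup.mem_subgroupOf.mpr ?_, rfl⟩
    have hqN : (q : Ω) ∈ Subgroup.normalizer (R : Set Ω) := q.2.2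
    have hc : Cfsg.Agent.Lib.Helper87.conjAut R q hqN ∈ autInducedBy Q R :=
      Cfsg.Agent.Lib.Helper87.conjAut_mem_autInducedBy Q R hqN hqQ
    obtain ⟨r, hr, hrq⟩ := (mem_Inn_iff _).mp (hBI hc)
    have hcent : r⁻¹ * (q : Ω) ∈ centralizerIn S R := by
      refine ⟨Subgroup.mul_mem _ (Subgroup.inv_mem _ (hR hr)) q.2.1,
        Subgroup.mem_centralizer_iff.mpr (fun x hx => ?_)⟩
      have h5 : (q : Ω) * x * (q : Ω)⁻¹ = r * x * r⁻¹ := hrq ⟨x, hx⟩
      have h6 : x * (r⁻¹ * (q : Ω)) = r⁻¹ * (r * x * r⁻¹) * q := by group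
      rw [h6, ← h5]
      group
    have h7 : r⁻¹ * (q : Ω) ∈ R := hRc.2 R (isConj_refl F hR) hcent
    have h8 : (q : Ω) = r * (r⁻¹ * (q : Ω)) := by group
    rw [h8]
    exact Subgroup.mul_mem _ hr h7
  · have hVp : IsPGroup p ((R.subgroupOf (normalizerIn S R)).map ι) :=
      ((hS.to_le hTS).to_subgroup _).map ι
    have hVn : ((R.subgroupOf (normalizerIn S R)).map ι).Normal := by
      constructor
      rintro _ ⟨r, hr, rfl⟩ g
      have hrR : (r : Ω) ∈ R := Subgroup.mem_subgroupOf.mp hr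
      have hg : ∀ x : Q, g * ι ⟨x, hQT x.2⟩ * g⁻¹ ∈ ι.range := fun x =>
        hUr (hUn.conj_mem _ ((hQmem ⟨x, hQT x.2⟩).mp x.2) g)
      have hφ := Cfsg.Agent.Lib.Helper87.realHom_mem_hom E hReal Q hQT g hg
      obtain ⟨ψ, hψ, hψQ, hmap⟩ := hnorm.2 Q _ hφ
      obtain ⟨h, hh⟩ := Cfsg.Agent.Lib.Helper87.exists_of_hom E hReal hψ
      have hcen : h⁻¹ * g ∈ Subgroup.centralizer ((pCore p G : Subgroup G) : Set G) := by
        rw [Subgroup.mem_centralizer_iff]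
        intro u hu
        obtain ⟨s, rfl⟩ := hUr hu
        have hsQ : (s : Ω) ∈ Q := (hQmem s).mpr hu
        have e1 : ι ⟨ψ (Subgroup.inclusion le_sup_left ⟨s, hsQ⟩),
            Cfsg.Agent.Lib.Helper87.hom_mem E hψ _⟩ = h * ι s * h⁻¹ := hh _
        have e2 : ι ⟨Cfsg.Agent.Lib.Helper87.realHom ι hι Q hQT g hg ⟨s, hsQ⟩,
            Cfsg.Agent.Lib.Helper87.realHom_mem ι hι Q hQT g hg ⟨s, hsQ⟩⟩ = g * ι s * g⁻¹ :=
          Cfsg.Agent.Lib.Helper87.ι_realHom ι hι Q hQT g hg ⟨s, hsQ⟩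
        have e4 : (⟨ψ (Subgroup.inclusion le_sup_left ⟨s, hsQ⟩),
            Cfsg.Agent.Lib.Helper87.hom_mem E hψ _⟩ : normalizerIn S R) =
            ⟨Cfsg.Agent.Lib.Helper87.realHom ι hι Q hQT g hg ⟨s, hsQ⟩,
              Cfsg.Agent.Lib.Helper87.realHom_mem ι hι Q hQT g hg ⟨s, hsQ⟩⟩ :=
          Subtype.ext (hψQ ⟨s, hsQ⟩)
        have e3 : h * ι s * h⁻¹ = g * ι s * g⁻¹ := e1.symm.trans ((congrArg ι e4).trans e2)
        calc ι s * (h⁻¹ * g) = h⁻¹ * (h * ι s * h⁻¹) * g := by group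
          _ = h⁻¹ * (g * ι s * g⁻¹) * g := by rw [e3]
          _ = h⁻¹ * g * ι s := by group
      obtain ⟨t, ht⟩ := hUr (hC hcen)
      have htr : ((t * r * t⁻¹ : normalizerIn S R) : Ω) ∈ R :=
        conj_mem_of_mem_normalizer t.2.2 hrR
      have e5 : ι ⟨ψ ⟨((t * r * t⁻¹ : normalizerIn S R) : Ω), Subgroup.mem_sup_right htr⟩,
          Cfsg.Agent.Lib.Helper87.hom_mem E hψ _⟩ = h * ι (t * r * t⁻¹) * h⁻¹ := hh _
      have hψR : ψ ⟨((t * r * t⁻¹ : normalizerIn S R) : Ω), Subgroup.mem_sup_right htr⟩ ∈ R := by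
        have h9 : ψ ⟨((t * r * t⁻¹ : normalizerIn S R) : Ω), Subgroup.mem_sup_right htr⟩ ∈
            (R.subgroupOf (Q ⊔ R)).map ψ :=
          ⟨⟨_, Subgroup.mem_sup_right htr⟩, Subgroup.mem_subgroupOf.mpr htr, rfl⟩
        rw [hmap] at h9
        exact h9
      refine ⟨⟨ψ ⟨_, Subgroup.mem_sup_right htr⟩, hRT hψR⟩, Subgroup.mem_subgroupOf.mpr hψR, ?_⟩
      rw [e5, map_mul, map_mul, map_inv, ht]
      group
    exact le_sSup (⟨hVn, hVp⟩ : _ ∈ {N : Subgroup G | N.Normal ∧ IsPGroup p N})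

/-- In a saturated fusion system over a finite p-group S, the normalizer system of a fully normalized, centric, radical subgroup R is constrained, and in every model of that normalizer system the largest normal p-subgroup is the image of R. -/
theorem result {Ω : Type*} [Group Ω] {S : Subgroup Ω} [Finite S] (p : ℕ) [Fact p.Prime] (hS : IsPGroup p S) (F : Cfsg.FusionSystem S) (hF : F.IsSaturated p) (R : Subgroup Ω) (hRn : F.IsFullyNormalized R) (hRc : F.IsCentric R) (hRr : F.IsRadical p R) (E : Cfsg.FusionSystem (Cfsg.FusionSystem.normalizerIn S R)) (hE : F.IsNormalizerSystem R E) {G : Type*} [Group G] (ι : ↥(Cfsg.FusionSystem.normalizerIn S R) →* G) : E.IsConstrained p ∧ (E.IsModel p G ι → (Cfsg.pCore p G : Subgroup G) = (R.subgroupOf (Cfsg.FusionSystem.normalizerIn S R)).map ι) := by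
  exact ⟨⟨Cfsg.Agent.Lib.Helper87.normalizerSystem_saturated p hS F hF R hRn E hE, R,
    normal_in_normalizer F R hRn.1 E hE, centric_in_normalizer F R hRc E hE⟩,
    fun hM => model_core p hS F R hRn.1 hRc hRr E hE ι hM⟩

end Cfsg.Agent.S5126
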