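import Cfsg.Statements.S0012
import Mathlib

set_option autoImplicit false
open Cfsg

namespace Cfsg.Agent.S0012

theorem coatom_facts {G : Type*} [Group G] [Finite G] (p : ℕ) [Fact p.Prime] (hG : IsPGroup p G)
    (M : Subgroup G) (hM : IsCoatom M) : commutator G ≤ M ∧ ∀ x : G, x ^ p ∈ M := by
  haveI : Group.IsNilpotent G := hG.isNilpotent
  haveI hMn : M.Normal := Subgroup.NormalizerCondition.normal_of_coatom M (normalizerCondition_of_isNilpotent (G := G)) hM
  have hpQ : IsPGroup p (G ⧸ M) := hG.to_quotient M
  obtain ⟨n, hn⟩ := hpQ.exists_card_eq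
  have hn0 : n ≠ 0 := by
    intro h
    rw [h, pow_zero] at hn
    have : M.index = 1 := by rw [Subgroup.index_eq_card]; exact hn
    exact hM.1 (Subgroup.index_eq_one.mp this)
  have hpd : p ∣ Nat.card (G ⧸ M) := by rw [hn]; exact dvd_pow_self p hn0
  obtain ⟨q, hq⟩ := exists_prime_orderOf_dvd_card' p hpd
  have hq1 : q ≠ 1 := by
    intro h
    rw [h, orderOf_one] at hq
    exact (Fact.out : p.Prime).one_lt.ne hq
  have hz : Subgroup.zpowers q = ⊤ := by
    have hle : M ≤ (Subgroup.zpowers q).comap (QuotientGroup.mk' M) := by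
      intro m hm
      rw [Subgroup.mem_comap]
      have : QuotientGroup.mk' M m = 1 := (QuotientGroup.eq_one_iff m).mpr hm
      rw [this]; exact Subgroup.one_mem _
    obtain ⟨g, hg⟩ := QuotientGroup.mk'_surjective M q
    have hgc : g ∈ (Subgroup.zpowers q).comap (QuotientGroup.mk' M) := by
      rw [Subgroup.mem_comap, hg]; exact Subgroup.mem_zpowers q
    have hgM : g ∉ M := by
      intro h
      apply hq1
      rw [← hg]
      exact (QuotientGroup.eq_one_iff g).mpr h
    have hlt : M < (Subgroup.zpowers q).comap (QuotientGroup.mk' M) :=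
      lt_of_le_of_ne hle (fun h => hgM (h ▸ hgc))
    have htop := hM.2 _ hlt
    rw [eq_top_iff]
    intro y _
    obtain ⟨g', rfl⟩ := QuotientGroup.mk'_surjective M y
    have : g' ∈ (Subgroup.zpowers q).comap (QuotientGroup.mk' M) := by rw [htop]; trivial
    exact this
  have hcard : Nat.card (G ⧸ M) = p := by
    rw [← hq, ← Nat.card_zpowers, hz, Subgroup.card_top]
  have hcyc : IsCyclic (G ⧸ M) := ⟨q, fun x => by
    have : x ∈ (⊤ : Subgroup (G ⧸ M)) := trivial
    rw [← hz] at this
    exact this⟩
  letI : CommGroup (G ⧸ M) := IsCyclic.commGroup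
  refine ⟨?_, ?_⟩
  · have := Abelianization.commutator_subset_ker (QuotientGroup.mk' M)
    rwa [QuotientGroup.ker_mk'] at this
  · intro x
    rw [← QuotientGroup.eq_one_iff, QuotientGroup.mk_pow, ← hcard]
    exact pow_card_eq_one'

/-- In a finite p-group every commutator and every p-th power lies in the Frattini subgroup, so the Frattini quotient is elementary abelian. -/
theorem result {G : Type*} [Group G] [Finite G] (p : ℕ) [Fact p.Prime]
    (hG : IsPGroup p G) : commutator G ≤ frattini G ∧ ∀ x : G, x ^ p ∈ frattini G := by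
  refine ⟨?_, ?_⟩
  · unfold frattini Order.radical
    rw [le_iInf₂_iff]
    intro M hM
    exact (coatom_facts p hG M hM).1
  · intro x
    unfold frattini Order.radical
    simp only [Subgroup.mem_iInf]
    intro M hM
    exact (coatom_facts p hG M hM).2 x

end Cfsg.Agent.S0012
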