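import Mathlib
import Cfsg.Statements.S0850

set_option autoImplicit false
open Cfsg

namespace Cfsg.Agent.S0850

theorem extendByZero_mem {G : Type*} [Group G] (H : Subgroup G) (θ : H → ℂ) (x : G) (hx : x ∈ H) :
    Cfsg.extendByZero H θ x = θ ⟨x, hx⟩ := by
  unfold Cfsg.extendByZero
  exact Subtype.val_injective.extend_apply θ 0 ⟨x, hx⟩

theorem extendByZero_not_mem {G : Type*} [Group G] (H : Subgroup G) (θ : H → ℂ) (x : G)
    (hx : x ∉ H) : Cfsg.extendByZero H θ x = 0 := by
  unfold Cfsg.extendByZero
  rw [Function.extend_apply']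
  · rfl
  · rintro ⟨a, rfl⟩
    exact hx a.2

theorem part1 {G : Type*} [Group G] [Finite G] (K : Subgroup G)
    (hTI : ∀ g : G, g ∉ Subgroup.normalizer (K : Set G) → ∀ k ∈ K, g * k * g⁻¹ ∈ K → k = 1)
    (hC : ∀ k ∈ K, k ≠ 1 → Subgroup.centralizer ({k} : Set G) ≤ K) :
    ∀ x ∈ Subgroup.normalizer (K : Set G), x ∉ K → ∀ g : G, g * x * g⁻¹ ∉ K := by
  classical
  intro x hxN hxK g hgx
  have hx1 : x ≠ 1 := fun h => hxK (h ▸ K.one_mem)
  have hgN : g ∉ Subgroup.normalizer (K : Set G) := by
    intro hg
    exact hxK ((Subgroup.mem_normalizer_iff.mp hg x).mpr hgx)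
  -- choose a prime dividing the order of x
  have hord : orderOf x ≠ 1 := fun h => hx1 (orderOf_eq_one_iff.mp h)
  obtain ⟨p, hp, hpx⟩ := Nat.exists_prime_and_dvd hord
  have : Fact p.Prime := ⟨hp⟩
  have hord0 : orderOf x ≠ 0 := (orderOf_pos x).ne'
  set x' := x ^ (orderOf x / p) with hx'
  have hx'ord : orderOf x' = p := orderOf_pow_orderOf_div hord0 hpx
  have hx'N : x' ∈ Subgroup.normalizer (K : Set G) := Subgroup.pow_mem _ hxN _
  have hconj : g * x' * g⁻¹ = (g * x * g⁻¹) ^ (orderOf x / p) := by
    rw [hx', conj_pow]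
  have hgx' : g * x' * g⁻¹ ∈ K := by
    rw [hconj]; exact K.pow_mem hgx _
  have hx'1 : x' ≠ 1 := by
    intro h
    rw [h, orderOf_one] at hx'ord
    exact hp.one_lt.ne hx'ord
  have hgx'1 : g * x' * g⁻¹ ≠ 1 := by
    intro h
    apply hx'1
    have : x' = g⁻¹ * (g * x' * g⁻¹) * g := by group
    rw [this, h]; group
  -- the action of zpowers x' on K
  let _ : MulAction (Subgroup.zpowers x') K :=
    { smul := fun h k => ⟨(h : G) * (k : G) * (h : G)⁻¹, by
        have hh : (h : G) ∈ Subgroup.normalizer (K : Set G) :=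
          (Subgroup.zpowers_le.mpr hx'N) h.2
        exact (Subgroup.mem_normalizer_iff.mp hh k).mp k.2⟩
      one_smul := by
        intro k
        apply Subtype.ext
        show ((1 : Subgroup.zpowers x') : G) * (k : G) * ((1 : Subgroup.zpowers x') : G)⁻¹ = _
        simp
      mul_smul := by
        intro a b k
        apply Subtype.ext
        show ((a * b : Subgroup.zpowers x') : G) * (k : G) * ((a * b : Subgroup.zpowers x') : G)⁻¹ =
          (a : G) * ((b : G) * (k : G) * (b : G)⁻¹) * (a : G)⁻¹
        simp [mul_assoc] }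
  have hsmul : ∀ (h : Subgroup.zpowers x') (k : K), ((h • k : K) : G) = (h : G) * (k : G) * (h : G)⁻¹ :=
    fun _ _ => rfl
  have hfix : MulAction.fixedPoints (Subgroup.zpowers x') K = {1} := by
    ext k
    simp only [Set.mem_singleton_iff]
    constructor
    · intro hk
      have h1 := hk ⟨x', Subgroup.mem_zpowers x'⟩
      have h2 := hsmul ⟨x', Subgroup.mem_zpowers x'⟩ k
      rw [h1] at h2
      simp only at h2
      -- k commutes with x'
      have hcomm : x' * (k : G) = (k : G) * x' := by
        calc x' * (k : G) = x' * (k : G) * x'⁻¹ * x' := by group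
          _ = (k : G) * x' := by rw [← h2]
      -- g k g⁻¹ centralizes g x' g⁻¹
      have hcent : g * (k : G) * g⁻¹ ∈ Subgroup.centralizer ({g * x' * g⁻¹} : Set G) := by
        rw [Subgroup.mem_centralizer_singleton_iff]
        calc g * (k : G) * g⁻¹ * (g * x' * g⁻¹) = g * ((k : G) * x') * g⁻¹ := by group
          _ = g * (x' * (k : G)) * g⁻¹ := by rw [hcomm]
          _ = g * x' * g⁻¹ * (g * (k : G) * g⁻¹) := by group
      have hmem : g * (k : G) * g⁻¹ ∈ K := hC _ hgx' hgx'1 hcent
      have := hTI g hgN k k.2 hmem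
      exact Subtype.ext this
    · rintro rfl
      intro h
      apply Subtype.ext
      rw [hsmul]
      simp
  have hpg : IsPGroup p (Subgroup.zpowers x') := by
    apply IsPGroup.of_card (n := 1)
    rw [Nat.card_zpowers, hx'ord, pow_one]
  have hmod := hpg.card_modEq_card_fixedPoints K
  rw [hfix, Nat.card_coe_set_eq, Set.ncard_singleton] at hmod
  have hdvd : p ∣ Nat.card K := by
    have := orderOf_dvd_natCard (⟨g * x' * g⁻¹, hgx'⟩ : K)
    have h2 : orderOf (⟨g * x' * g⁻¹, hgx'⟩ : K) = p := by
      rw [← hx'ord, ← Subgroup.orderOf_coe]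
      simp only
      rw [hconj]
      have : g * x * g⁻¹ = (MulAut.conj g) x := by simp
      rw [← hconj]
      have h3 : g * x' * g⁻¹ = (MulAut.conj g) x' := by simp
      rw [h3, MulEquiv.orderOf_eq]
    rwa [h2] at this
  have h0 : Nat.card K ≡ 0 [MOD p] := (Nat.modEq_zero_iff_dvd).mpr hdvd
  have h01 : 0 ≡ 1 [MOD p] := h0.symm.trans hmod
  have : p ∣ 1 := by
    have := (Nat.modEq_iff_dvd' (Nat.zero_le 1)).mp h01
    simpa using this
  exact hp.one_lt.ne' (Nat.dvd_one.mp this)

/-- Let K be a subgroup of the finite group G that meets each conjugate by an element outside its normalizer N trivially, is properly contained in N, and contains the centralizer of each of its non-identity elements (a T.I. subgroup with Frobenius normalizer). Then no element of N outside K is conjugate in G to an element of K, and for every class function ϑ of N that vanishes on N away from K and at the identity, the function induced from ϑ to G agrees with ϑ on all of N. -/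
theorem result {G : Type*} [Group G] [Fintype G] (K : Subgroup G) (hTI : ∀ g : G, g ∉ Subgroup.normalizer (K : Set G) → ∀ k ∈ K, g * k * g⁻¹ ∈ K → k = 1) (hlt : K < Subgroup.normalizer (K : Set G)) (hC : ∀ k ∈ K, k ≠ 1 → Subgroup.centralizer ({k} : Set G) ≤ K) : (∀ x ∈ Subgroup.normalizer (K : Set G), x ∉ K → ∀ g : G, g * x * g⁻¹ ∉ K) ∧ ∀ (ϑ : Subgroup.normalizer (K : Set G) → ℂ), Cfsg.IsClassFunction (Subgroup.normalizer (K : Set G)) ϑ → (∀ x : Subgroup.normalizer (K : Set G), (x : G) ∉ K → ϑ x = 0) → ϑ 1 = 0 → ∀ x : Subgroup.normalizer (K : Set G), Cfsg.indFun (Subgroup.normalizer (K : Set G)) ϑ x = ϑ x := by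
  classical
  have hp1 := part1 K hTI hC
  refine ⟨hp1, ?_⟩
  generalize hN : Subgroup.normalizer (K : Set G) = N at *
  intro ϑ hcf hvan h1 x
  have key : ∀ g : G, Cfsg.extendByZero N ϑ (g⁻¹ * (x : G) * g) = if g ∈ N then ϑ x else 0 := by
    intro g
    by_cases hg : g ∈ N
    · rw [if_pos hg]
      have hmem : g⁻¹ * (x : G) * g ∈ N := N.mul_mem (N.mul_mem (N.inv_mem hg) x.2) hg
      rw [extendByZero_mem N ϑ _ hmem]
      have := hcf x (⟨g, hg⟩⁻¹ : N)
      rw [← this]
      congr 1
      apply Subtype.ext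
      simp
    · rw [if_neg hg]
      by_cases hmem : g⁻¹ * (x : G) * g ∈ N
      · rw [extendByZero_mem N ϑ _ hmem]
        by_cases hyK : g⁻¹ * (x : G) * g ∈ K
        · by_cases hxK : (x : G) ∈ K
          · -- TI
            have hx1 : g⁻¹ * (x : G) * g = 1 := by
              apply hTI g hg _ hyK
              have : g * (g⁻¹ * (x : G) * g) * g⁻¹ = x := by group
              rw [this]; exact hxK
            have : (⟨g⁻¹ * (x : G) * g, hmem⟩ : N) = 1 := Subtype.ext hx1
            rw [this, h1]
          · exfalso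
            have := hp1 x x.2 hxK g⁻¹
            apply this
            simpa using hyK
        · exact hvan ⟨_, hmem⟩ hyK
      · exact extendByZero_not_mem N ϑ _ hmem
  unfold Cfsg.indFun
  simp only [key]
  rw [Finset.sum_ite, Finset.sum_const_zero, add_zero, Finset.sum_const, nsmul_eq_mul]
  have hcard : (Finset.filter (fun g => g ∈ N) Finset.univ).card = Nat.card N := by
    rw [Nat.card_eq_fintype_card, Fintype.card_subtype]
  rw [hcard, ← mul_assoc]
  have hne : (Nat.card N : ℂ) ≠ 0 := by
    have : 0 < Nat.card N := Nat.card_pos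
    exact_mod_cast this.ne'
  rw [inv_mul_cancel₀ hne, one_mul]

end Cfsg.Agent.S0850
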