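import Cfsg.Statements.S0853
import Cfsg.Agent.Lib.Helper20.Tifn
import Cfsg.Agent.S0850

set_option autoImplicit false
open Cfsg

namespace Cfsg.Agent.S0853

/-- Let K be a subgroup of the finite group G that meets each conjugate by an element outside its normalizer N trivially, is properly contained in N, and contains the centralizer of each of its non-identity elements (a T.I. subgroup with Frobenius normalizer). Let S be the set of irreducible characters of N taking at some element of K a value different from their degree, suppose S has at least two members, and let star be a linear isometry on the integer span of S into the generalized characters of G that agrees with induction on the members vanishing at the identity (so S is coherent, with star as the extending isometry). Then there is a single integer m such that star χ k - χ k = m * χ 1 / e for every χ in S and every non-identity element k of K, where e is the index of K in N. -/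
theorem result {G : Type*} [Group G] [Fintype G] (K : Subgroup G) (hTI : ∀ g : G, g ∉ Subgroup.normalizer (K : Set G) → ∀ k ∈ K, g * k * g⁻¹ ∈ K → k = 1) (hlt : K < Subgroup.normalizer (K : Set G)) (hC : ∀ k ∈ K, k ≠ 1 → Subgroup.centralizer ({k} : Set G) ≤ K) [Fintype ↥(Subgroup.normalizer (K : Set G))] (S : Set (↥(Subgroup.normalizer (K : Set G)) → ℂ)) (hS : S = {χ : ↥(Subgroup.normalizer (K : Set G)) → ℂ | Cfsg.IsIrrCharacter ↥(Subgroup.normalizer (K : Set G)) χ ∧ ∃ k : ↥(Subgroup.normalizer (K : Set G)), (k : G) ∈ K ∧ χ k ≠ χ 1}) (htwo : ∃ χ ∈ S, ∃ ξ ∈ S, χ ≠ ξ) (star : (↥(Subgroup.normalizer (K : Set G)) → ℂ) → (G → ℂ)) (hstar : Cfsg.IsLinearIsometryOn (Cfsg.zspan S) star) (hext : ∀ α ∈ Cfsg.zspanOn S ({1}ᶜ : Set ↥(Subgroup.normalizer (K : Set G))), star α = Cfsg.indFun (Subgroup.normalizer (K : Set G)) α) : ∃ m : ℤ, ∀ χ ∈ S, ∀ k : ↥(Subgroup.normalizer (K : Set G)), (k : G) ∈ K → k ≠ 1 → star χ k - χ k = (m : ℂ) * χ 1 / ((K.subgroupOf (Subgroup.normalizer (K : Set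 G))).index : ℂ) := by
  classical
  have T : Cfsg.Agent.Lib.Helper20.Tifn K (Subgroup.normalizer (K : Set G)) S star :=
    { hMn := Subgroup.normal_in_normalizer
      hC := hC
      hind := (Cfsg.Agent.S0850.result K hTI hlt hC).2
      hS := hS
      hstar := hstar
      hext := hext }
  have := Cfsg.Agent.Lib.Helper4.irr_finite (G := ↥(Subgroup.normalizer (K : Set G)))
  let _ : Fintype (IrrCharacter ↥(Subgroup.normalizer (K : Set G))) := Fintype.ofFinite _
  have := T.hMn
  obtain ⟨χ₀, hχ₀, -⟩ := htwo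
  have hχ₀' := hχ₀
  rw [hS] at hχ₀'
  obtain ⟨-, k₀, hk₀, hk₀1⟩ := hχ₀'
  have hk₀ne : k₀ ≠ 1 := by
    rintro rfl
    exact hk₀1 rfl
  obtain ⟨n, hn⟩ := Cfsg.Agent.Lib.Helper20.index_mem_span_degrees
    (K.subgroupOf (Subgroup.normalizer (K : Set G))) k₀ (Subgroup.mem_subgroupOf.mpr hk₀) hk₀ne
  have hv : ∀ χ : IrrCharacter ↥(Subgroup.normalizer (K : Set G)), ∃ v : ℤ,
      (¬ ∀ x ∈ K.subgroupOf (Subgroup.normalizer (K : Set G)),
        (χ : ↥(Subgroup.normalizer (K : Set G)) → ℂ) x =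
          (χ : ↥(Subgroup.normalizer (K : Set G)) → ℂ) 1) →
      ∀ k : ↥(Subgroup.normalizer (K : Set G)), (k : G) ∈ K → k ≠ 1 →
        star (χ : ↥(Subgroup.normalizer (K : Set G)) → ℂ) (k : G) -
          (χ : ↥(Subgroup.normalizer (K : Set G)) → ℂ) k = v := by
    intro χ
    by_cases hP : ∀ x ∈ K.subgroupOf (Subgroup.normalizer (K : Set G)),
        (χ : ↥(Subgroup.normalizer (K : Set G)) → ℂ) x =
          (χ : ↥(Subgroup.normalizer (K : Set G)) → ℂ) 1
    · exact ⟨0, fun h => absurd hP h⟩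
    · obtain ⟨v, hv⟩ := T.exists_value χ (T.mem_of χ hP) k₀ hk₀ hk₀ne
      exact ⟨v, fun _ => hv⟩
  choose v hv using hv
  refine ⟨∑ ξ : IrrCharacter ↥(Subgroup.normalizer (K : Set G)),
    if (∀ x ∈ K.subgroupOf (Subgroup.normalizer (K : Set G)),
        (ξ : ↥(Subgroup.normalizer (K : Set G)) → ℂ) x =
          (ξ : ↥(Subgroup.normalizer (K : Set G)) → ℂ) 1) then 0 else n ξ * v ξ, ?_⟩
  intro χ hχ k hk hk1
  have hχP := T.not_triv χ hχ
  have hval := hv ⟨χ, T.irr χ hχ⟩ hχP k hk hk1
  have hval' : star χ (k : G) - χ k =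
      ((v ⟨χ, T.irr χ hχ⟩ : ℤ) : ℂ) := hval
  rw [hval']
  have hidx : ((K.subgroupOf (Subgroup.normalizer (K : Set G))).index : ℂ) ≠ 0 := by
    have h0 : (K.subgroupOf (Subgroup.normalizer (K : Set G))).index ≠ 0 :=
      Subgroup.index_ne_zero_of_finite
    exact_mod_cast h0
  rw [eq_div_iff hidx, hn, Finset.mul_sum]
  push_cast
  rw [Finset.sum_mul]
  apply Finset.sum_congr rfl
  intro ξ _
  by_cases hP : ∀ x ∈ K.subgroupOf (Subgroup.normalizer (K : Set G)),
      (ξ : ↥(Subgroup.normalizer (K : Set G)) → ℂ) x =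
        (ξ : ↥(Subgroup.normalizer (K : Set G)) → ℂ) 1
  · rw [if_pos hP, if_pos hP]
    simp
  · rw [if_neg hP, if_neg hP]
    have hp := T.prop χ ξ hχ (T.mem_of ξ hP) k₀
    have hv1 : star χ (k₀ : G) - χ k₀ = ((v ⟨χ, T.irr χ hχ⟩ : ℤ) : ℂ) :=
      hv ⟨χ, T.irr χ hχ⟩ hχP k₀ hk₀ hk₀ne
    rw [hv1, hv ξ hP k₀ hk₀ hk₀ne] at hp
    linear_combination (n ξ : ℂ) * hp

end Cfsg.Agent.S0853
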