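import Cfsg.Statements.S1529
import Cfsg.Agent.Lib.Helper36.CharBasic

set_option autoImplicit false
open Cfsg

namespace Cfsg.Agent.S1529

open Cfsg.Agent.Lib.Helper36

theorem rel {G : Type*} [Group G] [Fintype G] (N : Subgroup G) [Fintype N] (S : Set (N → ℂ))
    (τ₁ : (N → ℂ) → (G → ℂ)) (hτ₁ : Cfsg.IsLinearIsometryOn (Cfsg.zspan S) τ₁)
    (h0 : ∀ α ∈ Cfsg.zspan S, α 1 = 0 → τ₁ α 1 = 0) (χ ψ : N → ℂ) (hχ : χ ∈ S) (hψ : ψ ∈ S)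
    (dχ dψ : ℕ) (hχ1 : χ 1 = dχ) (hψ1 : ψ 1 = dψ) :
    (dψ : ℂ) * τ₁ χ 1 = (dχ : ℂ) * τ₁ ψ 1 := by
  have hχz : χ ∈ zspan S := subset_zspan S hχ
  have hψz : ψ ∈ zspan S := subset_zspan S hψ
  have ha : (dψ : ℤ) • χ ∈ zspan S := zspan_zsmul hχz _
  have hb : (dχ : ℤ) • ψ ∈ zspan S := zspan_zsmul hψz _
  have hα : (dψ : ℤ) • χ - (dχ : ℤ) • ψ ∈ zspan S := zspan_sub ha hb
  have hα1 : ((dψ : ℤ) • χ - (dχ : ℤ) • ψ) 1 = 0 := by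
    simp [hχ1, hψ1]
    ring
  have h1 := h0 _ hα hα1
  rw [isoOn_sub hτ₁ (fun b hb => zspan_neg hb) ha hb, hτ₁.2.1 χ hχz, hτ₁.2.1 ψ hψz] at h1
  simp at h1
  exact sub_eq_zero.mp h1

theorem result {G : Type*} [Group G] [Fintype G] (N : Subgroup G) [Fintype N] (S : Set (N → ℂ)) (hirr : ∀ χ ∈ S, Cfsg.IsIrrCharacter N χ) (htwo : ∃ χ ∈ S, ∃ ψ ∈ S, χ ≠ ψ) (τ₁ : (N → ℂ) → (G → ℂ)) (hτ₁ : Cfsg.IsLinearIsometryOn (Cfsg.zspan S) τ₁) (h0 : ∀ α ∈ Cfsg.zspan S, α 1 = 0 → τ₁ α 1 = 0) : ∃ ε : ℂ, (ε = 1 ∨ ε = -1) ∧ (∀ χ ∈ S, Cfsg.IsIrrCharacter G (ε • τ₁ χ)) ∧ (∀ χ ∈ S, ∀ ψ ∈ S, τ₁ χ = τ₁ ψ → χ = ψ) := by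
  have hstep : ∀ χ ∈ S, ∃ ξ, IsIrrCharacter G ξ ∧ (τ₁ χ = ξ ∨ τ₁ χ = -ξ) := by
    intro χ hχ
    have hχz : χ ∈ zspan S := subset_zspan S hχ
    apply gen_norm_one (hτ₁.2.2.2 χ hχz)
    rw [hτ₁.2.2.1 χ hχz χ hχz, classInner_irr_self (hirr χ hχ)]
  have hinj : ∀ χ ∈ S, ∀ ψ ∈ S, τ₁ χ = τ₁ ψ → χ = ψ := by
    intro χ hχ ψ hψ heq
    by_contra hne
    have hχz : χ ∈ zspan S := subset_zspan S hχ
    have hψz : ψ ∈ zspan S := subset_zspan S hψ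
    have h1 := hτ₁.2.2.1 χ hχz ψ hψz
    rw [← heq, hτ₁.2.2.1 χ hχz χ hχz, classInner_irr_self (hirr χ hχ),
      classInner_irr_ne (hirr χ hχ) (hirr ψ hψ) hne] at h1
    exact one_ne_zero h1
  obtain ⟨χ₀, hχ₀, -⟩ := htwo
  obtain ⟨d₀, hd₀pos, hd₀⟩ := irr_degree (hirr χ₀ hχ₀)
  obtain ⟨ξ₀, hξ₀, hcase⟩ := hstep χ₀ hχ₀
  obtain ⟨e₀, he₀pos, he₀⟩ := irr_degree hξ₀
  rcases hcase with hc | hc
  · refine ⟨1, Or.inl rfl, ?_, hinj⟩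
    intro χ hχ
    rw [one_smul]
    obtain ⟨ξ, hξ, hcase'⟩ := hstep χ hχ
    rcases hcase' with hc' | hc'
    · rw [hc']; exact hξ
    · exfalso
      obtain ⟨d, hdpos, hd⟩ := irr_degree (hirr χ hχ)
      obtain ⟨e, hepos, he⟩ := irr_degree hξ
      have hr := rel N S τ₁ hτ₁ h0 χ χ₀ hχ hχ₀ d d₀ hd hd₀
      rw [hc, hc', Pi.neg_apply, he, he₀] at hr
      have h2 : ((d₀ * e + d * e₀ : ℕ) : ℂ) = 0 := by
        push_cast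
        linear_combination -hr
      have h3 : d₀ * e + d * e₀ = 0 := by exact_mod_cast h2
      have h4 : 0 < d₀ * e := Nat.mul_pos hd₀pos hepos
      omega
  · refine ⟨-1, Or.inr rfl, ?_, hinj⟩
    intro χ hχ
    obtain ⟨ξ, hξ, hcase'⟩ := hstep χ hχ
    rcases hcase' with hc' | hc'
    · exfalso
      obtain ⟨d, hdpos, hd⟩ := irr_degree (hirr χ hχ)
      obtain ⟨e, hepos, he⟩ := irr_degree hξ
      have hr := rel N S τ₁ hτ₁ h0 χ χ₀ hχ hχ₀ d d₀ hd hd₀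
      rw [hc, hc', Pi.neg_apply, he, he₀] at hr
      have h2 : ((d₀ * e + d * e₀ : ℕ) : ℂ) = 0 := by
        push_cast
        linear_combination hr
      have h3 : d₀ * e + d * e₀ = 0 := by exact_mod_cast h2
      have h4 : 0 < d₀ * e := Nat.mul_pos hd₀pos hepos
      omega
    · rw [hc']
      simpa using hξ

end Cfsg.Agent.S1529
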