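import Cfsg.Statements.S1514
import Cfsg.Agent.Lib.Helper35.Virt

set_option autoImplicit false
open Cfsg

namespace Cfsg.Agent.S1514

open Cfsg.Agent.Lib.Helper35 Cfsg.Agent.Lib.Helper4

theorem diff_mem {L : Type*} [Group L] [Fintype L] (S : Set (L → ℂ))
    (hirr : ∀ χ ∈ S, Cfsg.IsIrrCharacter L χ)
    (hconj : ∀ χ ∈ S, Cfsg.conjFun χ ∈ S ∧ Cfsg.conjFun χ ≠ χ) {χ : L → ℂ} (hχ : χ ∈ S) :
    χ - conjFun χ ∈ zspanOn S {1}ᶜ := by
  refine ⟨?_, ?_⟩
  · exact Submodule.sub_mem _ (Submodule.subset_span hχ) (Submodule.subset_span (hconj χ hχ).1)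
  · intro x hx
    have hx1 : x = 1 := by
      by_contra h
      exact hx h
    rw [hx1, Pi.sub_apply, conjFun_one_irr (hirr χ hχ), sub_self]

theorem inner_diff {L : Type*} [Group L] [Fintype L] {χ φ : L → ℂ}
    (hχ : IsIrrCharacter L χ) (hφ : IsIrrCharacter L φ) :
    classInner (φ - conjFun φ) (χ - conjFun χ) =
      classInner φ χ - classInner φ (conjFun χ)
        - (starRingEnd ℂ) (classInner φ (conjFun χ)) + (starRingEnd ℂ) (classInner φ χ) := by
  rw [classInner_sub_left, classInner_sub_right, classInner_sub_right, classInner_conjFun,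
    classInner_conjFun_left]
  ring

theorem result {L : Type*} [Group L] [Fintype L] {G : Type*} [Group G] [Fintype G] (S : Set (L → ℂ)) (hS : S.Nonempty) (hirr : ∀ χ ∈ S, Cfsg.IsIrrCharacter L χ) (hconj : ∀ χ ∈ S, Cfsg.conjFun χ ∈ S ∧ Cfsg.conjFun χ ≠ χ) (τ : (L → ℂ) → (G → ℂ)) (hτ : Cfsg.IsLinearIsometryOn (Cfsg.zspanOn S {1}ᶜ) τ) (hτ1 : ∀ α ∈ Cfsg.zspanOn S {1}ᶜ, τ α 1 = 0) : ∃ R : (L → ℂ) → Finset (G → ℂ), Cfsg.IsCoherenceSystem S τ R := by
  classical
  have key : ∀ χ : L → ℂ, ∃ μ₁ μ₂ : G → ℂ, χ ∈ S →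
      (IsIrrCharacter G μ₁ ∧ IsIrrCharacter G μ₂ ∧ μ₁ ≠ μ₂ ∧ τ (χ - conjFun χ) = μ₁ - μ₂) := by
    intro χ
    by_cases hχ : χ ∈ S
    · have hmem := diff_mem S hirr hconj hχ
      have hgen := hτ.2.2.2 _ hmem
      have hn : classInner (τ (χ - conjFun χ)) (τ (χ - conjFun χ)) = 2 := by
        rw [hτ.2.2.1 _ hmem _ hmem, inner_diff (hirr χ hχ) (hirr χ hχ),
          classInner_irr' (hirr χ hχ) (hirr χ hχ),
          classInner_irr' (hirr χ hχ) (isIrr_conjFun (hirr χ hχ))]
        rw [if_pos rfl, if_neg (fun h => (hconj χ hχ).2 h.symm)]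
        simp
        norm_num
      obtain ⟨μ₁, μ₂, h1, h2, h3, h4⟩ := gen_norm_two hgen hn (hτ1 _ hmem)
      exact ⟨μ₁, μ₂, fun _ => ⟨h1, h2, h3, h4⟩⟩
    · exact ⟨0, 0, fun h => absurd h hχ⟩
  choose m1 m2 hm using key
  have hne : ∀ χ ∈ S, m1 χ ≠ -m2 χ := by
    intro χ hχ h
    obtain ⟨h1, h2, h3, h4⟩ := hm χ hχ
    have e1 := classInner_irr' h1 h1
    rw [if_pos rfl] at e1
    have e2 := classInner_irr' h1 h2
    rw [if_neg h3] at e2
    have e3 : classInner (m1 χ) (-m2 χ) = 0 := by rw [classInner_neg_right, e2, neg_zero]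
    rw [← h, e1] at e3
    exact one_ne_zero e3
  refine ⟨fun χ => {m1 χ, -m2 χ}, ?_⟩
  refine
    { nonempty := hS
      isCharacter := fun χ hχ => isChar_of_irr (hirr χ hχ)
      conj_mem := fun χ hχ => (hconj χ hχ).1
      conj_ne := fun χ hχ => (hconj χ hχ).2
      isometry := hτ
      map_one := hτ1
      orthogonal := ?_
      orthonormal := ?_
      virtual := ?_
      sum_eq := ?_
      disjoint := ?_ }
  · intro χ hχ φ hφ hne'
    rw [classInner_irr' (hirr χ hχ) (hirr φ hφ), if_neg hne']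
  · intro χ hχ α hα β hβ
    obtain ⟨h1, h2, h3, h4⟩ := hm χ hχ
    have e11 := classInner_irr' h1 h1
    rw [if_pos rfl] at e11
    have e22 := classInner_irr' h2 h2
    rw [if_pos rfl] at e22
    have e12 := classInner_irr' h1 h2
    rw [if_neg h3] at e12
    have e21 := classInner_irr' h2 h1
    rw [if_neg (Ne.symm h3)] at e21
    simp only [Finset.mem_insert, Finset.mem_singleton] at hα hβ
    rcases hα with rfl | rfl <;> rcases hβ with rfl | rfl
    · rw [if_pos rfl, e11]
    · rw [if_neg (hne χ hχ), classInner_neg_right, e12, neg_zero]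
    · rw [if_neg (Ne.symm (hne χ hχ)), classInner_neg_left, e21, neg_zero]
    · rw [if_pos rfl, classInner_neg_left, classInner_neg_right, e22, neg_neg]
  · intro χ hχ α hα
    obtain ⟨h1, h2, h3, h4⟩ := hm χ hχ
    simp only [Finset.mem_insert, Finset.mem_singleton] at hα
    rcases hα with rfl | rfl
    · exact isGenChar_of_char (isChar_of_irr h1)
    · exact isGenChar_neg (isGenChar_of_char (isChar_of_irr h2))
  · intro χ hχ
    obtain ⟨h1, h2, h3, h4⟩ := hm χ hχ
    rw [Finset.sum_pair (f := fun α : G → ℂ => α) (hne χ hχ), h4, sub_eq_add_neg]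
  · intro χ hχ φ hφ hz1 hz2 α hα β hβ
    obtain ⟨c1, c2, c3, c4⟩ := hm χ hχ
    obtain ⟨f1, f2, f3, f4⟩ := hm φ hφ
    have hmemχ := diff_mem S hirr hconj hχ
    have hmemφ := diff_mem S hirr hconj hφ
    have h0 : classInner (m1 φ - m2 φ) (m1 χ - m2 χ) = 0 := by
      rw [← f4, ← c4, hτ.2.2.1 _ hmemφ _ hmemχ, inner_diff (hirr χ hχ) (hirr φ hφ), hz1, hz2]
      simp
    rw [classInner_sub_left, classInner_sub_right, classInner_sub_right,
      classInner_irr' f1 c1, classInner_irr' f1 c2, classInner_irr' f2 c1,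
      classInner_irr' f2 c2] at h0
    have hac : m1 φ ≠ m1 χ := by
      intro h
      have had : m1 φ ≠ m2 χ := fun h' => c3 (h.symm.trans h')
      have hbc : m2 φ ≠ m1 χ := fun h' => f3 (h.trans h'.symm)
      rw [if_pos h, if_neg had, if_neg hbc] at h0
      by_cases hbd : m2 φ = m2 χ
      · rw [if_pos hbd] at h0
        norm_num at h0
      · rw [if_neg hbd] at h0
        norm_num at h0
    have hbd : m2 φ ≠ m2 χ := by
      intro h
      have had : m1 φ ≠ m2 χ := fun h' => f3 (h'.trans h.symm)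
      have hbc : m2 φ ≠ m1 χ := fun h' => c3 (h'.symm.trans h)
      rw [if_neg hac, if_neg had, if_neg hbc, if_pos h] at h0
      norm_num at h0
    rw [if_neg hac, if_neg hbd] at h0
    have had : m1 φ ≠ m2 χ := by
      intro h
      rw [if_pos h] at h0
      by_cases hbc : m2 φ = m1 χ
      · rw [if_pos hbc] at h0
        norm_num at h0
      · rw [if_neg hbc] at h0
        norm_num at h0
    have hbc : m2 φ ≠ m1 χ := by
      intro h
      rw [if_neg had, if_pos h] at h0
      norm_num at h0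
    have e11 := classInner_irr' f1 c1
    rw [if_neg hac] at e11
    have e12 := classInner_irr' f1 c2
    rw [if_neg had] at e12
    have e21 := classInner_irr' f2 c1
    rw [if_neg hbc] at e21
    have e22 := classInner_irr' f2 c2
    rw [if_neg hbd] at e22
    simp only [Finset.mem_insert, Finset.mem_singleton] at hα hβ
    rcases hα with rfl | rfl <;> rcases hβ with rfl | rfl
    · exact e11
    · rw [classInner_neg_right, e12, neg_zero]
    · rw [classInner_neg_left, e21, neg_zero]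
    · rw [classInner_neg_left, classInner_neg_right, e22, neg_neg]

end Cfsg.Agent.S1514
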