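import Cfsg.Statements.S1531
import Cfsg.Agent.Lib.Helper36.CharCoh
import Cfsg.Agent.S1529

set_option autoImplicit false
open Cfsg

namespace Cfsg.Agent.S1531

open Cfsg.Agent.Lib.Helper36
open scoped ComplexConjugate

theorem exists_other {T : Type*} {X : Set T} (hX2 : ∃ a ∈ X, ∃ b ∈ X, a ≠ b) (x : T) :
    ∃ y ∈ X, y ≠ x := by
  obtain ⟨a, ha, b, hb, hab⟩ := hX2
  by_cases h : a = x
  · exact ⟨b, hb, fun hbx => hab (h.trans hbx.symm)⟩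
  · exact ⟨a, ha, h⟩

theorem eps_sq {ε : ℂ} (h : ε = 1 ∨ ε = -1) : ε * ε = 1 := by
  rcases h with h | h <;> rw [h] <;> norm_num

theorem eps_conj {ε : ℂ} (h : ε = 1 ∨ ε = -1) : conj ε = ε := by
  rcases h with h | h <;> rw [h] <;> simp

theorem part1 {G : Type*} [Group G] [Fintype G] (N : Subgroup G) [Fintype N] (S X Y : Set (N → ℂ)) (hirr : ∀ ξ ∈ S, Cfsg.IsIrrCharacter N ξ) (hXS : X ⊆ S) (hYS : Y ⊆ S) (hXY : Disjoint X Y) (hX2 : ∃ a ∈ X, ∃ b ∈ X, a ≠ b) (hY2 : ∃ a ∈ Y, ∃ b ∈ Y, a ≠ b) (α : (N → ℂ) → (G → ℂ)) (hα : Cfsg.IsLinearIsometryOn (Cfsg.zspanOn S {1}ᶜ) α) (hα1 : ∀ θ ∈ Cfsg.zspanOn S {1}ᶜ, α θ 1 = 0) (σ τ : (N → ℂ) → (G → ℂ)) (hσ : Cfsg.IsLinearIsometryOn (Cfsg.zspan X) σ) (hσα : ∀ θ ∈ Cfsg.zspanOn X {1}ᶜ, σ θ = α θ) (hτ : Cfsg.IsLinearIsometryOn (Cfsg.zspan Y) τ) (hτα : ∀ θ ∈ Cfsg.zspanOn Y {1}ᶜ, τ θ = α θ) :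
    ∀ χ ∈ X, ∀ η ∈ Y, Cfsg.classInner (σ χ) (τ η) = 0 := by
  have hX : ∀ ξ ∈ X, IsIrrCharacter N ξ := fun ξ h => hirr ξ (hXS h)
  have hY : ∀ ξ ∈ Y, IsIrrCharacter N ξ := fun ξ h => hirr ξ (hYS h)
  have h0σ : ∀ a ∈ zspan X, a 1 = 0 → σ a 1 = 0 := by
    intro a ha h1
    have ha' : a ∈ zspanOn X {1}ᶜ := mem_zspanOn_compl_one.mpr ⟨ha, h1⟩
    rw [hσα a ha']
    exact hα1 a (zspanOn_mono hXS _ ha')
  have h0τ : ∀ a ∈ zspan Y, a 1 = 0 → τ a 1 = 0 := by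
    intro a ha h1
    have ha' : a ∈ zspanOn Y {1}ᶜ := mem_zspanOn_compl_one.mpr ⟨ha, h1⟩
    rw [hτα a ha']
    exact hα1 a (zspanOn_mono hYS _ ha')
  obtain ⟨εX, hεX, hirrX, hinjX⟩ := Cfsg.Agent.S1529.result N X hX hX2 σ hσ h0σ
  obtain ⟨εY, hεY, hirrY, hinjY⟩ := Cfsg.Agent.S1529.result N Y hY hY2 τ hτ h0τ
  have hεX0 : εX ≠ 0 := by rcases hεX with h | h <;> rw [h] <;> norm_num
  have hεY0 : εY ≠ 0 := by rcases hεY with h | h <;> rw [h] <;> norm_num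
  have main : ∀ χ ∈ X, ∀ η ∈ Y, classInner (εX • σ χ) (εY • τ η) = 0 := by
    intro χ hχ η hη
    by_contra hne
    have hAB : εX • σ χ = εY • τ η := by
      by_contra h
      exact hne (classInner_irr_ne (hirrX χ hχ) (hirrY η hη) h)
    obtain ⟨χ', hχ', hχne⟩ := exists_other hX2 χ
    obtain ⟨η', hη', hηne⟩ := exists_other hY2 η
    obtain ⟨d, hd0, hd⟩ := irr_degree (hX χ hχ)
    obtain ⟨d', hd'0, hd'⟩ := irr_degree (hX χ' hχ')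
    obtain ⟨e, he0, he⟩ := irr_degree (hY η hη)
    obtain ⟨e', he'0, he'⟩ := irr_degree (hY η' hη')
    have ha := degDiff_mem hχ hχ' d d' hd hd'
    have hb := degDiff_mem hη hη' e e' he he'
    have hχz := subset_zspan X hχ
    have hχ'z := subset_zspan X hχ'
    have hηz := subset_zspan Y hη
    have hη'z := subset_zspan Y hη'
    have hab0 : classInner ((d' : ℤ) • χ - (d : ℤ) • χ') ((e' : ℤ) • η - (e : ℤ) • η') = 0 :=
      classInner_zspan_orth hX hY hXY ha.1 hb.1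
    have h1 : classInner (α ((d' : ℤ) • χ - (d : ℤ) • χ')) (α ((e' : ℤ) • η - (e : ℤ) • η')) = 0 := by
      rw [hα.2.2.1 _ (zspanOn_mono hXS _ ha) _ (zspanOn_mono hYS _ hb)]
      exact hab0
    rw [← hσα _ ha, ← hτα _ hb] at h1
    rw [isoOn_sub hσ (fun b hb => zspan_neg hb) (zspan_zsmul hχz _) (zspan_zsmul hχ'z _),
      isoOn_sub hτ (fun b hb => zspan_neg hb) (zspan_zsmul hηz _) (zspan_zsmul hη'z _),
      hσ.2.1 χ hχz, hσ.2.1 χ' hχ'z, hτ.2.1 η hηz, hτ.2.1 η' hη'z] at h1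
    have h2 : classInner (εX • ((d' : ℤ) • σ χ - (d : ℤ) • σ χ'))
        (εY • ((e' : ℤ) • τ η - (e : ℤ) • τ η')) = 0 := by
      rw [classInner_smul_left, classInner_smul_right, h1]; simp
    have eP : εX • ((d' : ℤ) • σ χ - (d : ℤ) • σ χ')
        = (d' : ℤ) • (εX • σ χ) - (d : ℤ) • (εX • σ χ') := by
      rw [smul_sub, smul_comm εX (d' : ℤ), smul_comm εX (d : ℤ)]
    have eQ : εY • ((e' : ℤ) • τ η - (e : ℤ) • τ η')
        = (e' : ℤ) • (εY • τ η) - (e : ℤ) • (εY • τ η') := by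
      rw [smul_sub, smul_comm εY (e' : ℤ), smul_comm εY (e : ℤ)]
    rw [eP, eQ] at h2
    have hBB' : εY • τ η ≠ εY • τ η' := by
      intro h
      have h3 : τ η = τ η' := by
        have := congrArg (fun f => εY⁻¹ • f) h
        simpa [smul_smul, inv_mul_cancel₀ hεY0] using this
      exact hηne (hinjY η hη η' hη' h3).symm
    have hAA' : εX • σ χ' ≠ εX • σ χ := by
      intro h
      have h3 : σ χ' = σ χ := by
        have := congrArg (fun f => εX⁻¹ • f) h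
        simpa [smul_smul, inv_mul_cancel₀ hεX0] using this
      exact hχne (hinjX χ' hχ' χ hχ h3)
    simp only [classInner_sub_left, classInner_sub_right, classInner_zsmul_left,
      classInner_zsmul_right] at h2
    rw [← hAB, classInner_irr_self (hirrX χ hχ),
      classInner_irr_ne (hirrX χ' hχ') (hirrX χ hχ) hAA'] at h2
    rw [hAB, classInner_irr_ne (hirrY η hη) (hirrY η' hη') hBB'] at h2
    rw [classInner_irr (hirrX χ' hχ') (hirrY η' hη')] at h2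
    split_ifs at h2 with hif
    · have h4 : ((d' * e' + d * e : ℕ) : ℂ) = 0 := by
        push_cast at h2 ⊢
        linear_combination h2
      have h5 : d' * e' + d * e = 0 := by exact_mod_cast h4
      have h6 : 0 < d' * e' := Nat.mul_pos hd'0 he'0
      omega
    · have h4 : ((d' * e' : ℕ) : ℂ) = 0 := by
        push_cast at h2 ⊢
        linear_combination h2
      have h5 : d' * e' = 0 := by exact_mod_cast h4
      have h6 : 0 < d' * e' := Nat.mul_pos hd'0 he'0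
      omega
  intro χ hχ η hη
  have h := main χ hχ η hη
  rw [classInner_smul_left, classInner_smul_right] at h
  rcases mul_eq_zero.mp h with h | h
  · exact absurd h hεX0
  · rcases mul_eq_zero.mp h with h | h
    · exact absurd ((map_eq_zero _).mp h) hεY0
    · exact h

theorem part2 {G : Type*} [Group G] [Fintype G] (N : Subgroup G) [Fintype N] (S X Y : Set (N → ℂ)) (hirr : ∀ ξ ∈ S, Cfsg.IsIrrCharacter N ξ) (hXS : X ⊆ S) (hYS : Y ⊆ S) (hXY : Disjoint X Y) (hX2 : ∃ a ∈ X, ∃ b ∈ X, a ≠ b) (α : (N → ℂ) → (G → ℂ)) (hα : Cfsg.IsLinearIsometryOn (Cfsg.zspanOn S {1}ᶜ) α) (σ τ : (N → ℂ) → (G → ℂ)) (hσ : Cfsg.IsLinearIsometryOn (Cfsg.zspan X) σ) (hσα : ∀ θ ∈ Cfsg.zspanOn X {1}ᶜ, σ θ = α θ) (hτ : Cfsg.IsLinearIsometryOn (Cfsg.zspan Y) τ) (hτα : ∀ θ ∈ Cfsg.zspanOn Y {1}ᶜ, τ θ = α θ)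
    (horth : ∀ χ ∈ X, ∀ η ∈ Y, Cfsg.classInner (σ χ) (τ η) = 0)
    (χ₀ : N → ℂ) (hχ₀ : χ₀ ∈ X) (η₀ : N → ℂ) (hη₀ : η₀ ∈ Y)
    (hδ : α (χ₀ 1 • η₀ - η₀ 1 • χ₀) = χ₀ 1 • τ η₀ - η₀ 1 • σ χ₀) :
    Cfsg.IsCoherent (X ∪ Y) {1}ᶜ α := by
  have hX : ∀ ξ ∈ X, IsIrrCharacter N ξ := fun ξ h => hirr ξ (hXS h)
  have hY : ∀ ξ ∈ Y, IsIrrCharacter N ξ := fun ξ h => hirr ξ (hYS h)
  refine ⟨?_, glueMap X Y σ τ, glueMap_isometry hX hY hXY hσ hτ horth, ?_⟩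
  · obtain ⟨a, ha, b, hb, hab⟩ := hX2
    obtain ⟨da, hda0, hda⟩ := irr_degree (hX a ha)
    obtain ⟨db, hdb0, hdb⟩ := irr_degree (hX b hb)
    refine ⟨(db : ℤ) • a - (da : ℤ) • b,
      zspanOn_mono Set.subset_union_left _ (degDiff_mem ha hb da db hda hdb), ?_⟩
    intro h0
    have h1 : classInner ((db : ℤ) • a - (da : ℤ) • b) a = db := by
      rw [classInner_sub_left, classInner_zsmul_left, classInner_zsmul_left,
        classInner_irr_self (hX a ha), classInner_irr_ne (hX b hb) (hX a ha) (Ne.symm hab)]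
      simp
    rw [h0, classInner_zero_left] at h1
    have h2 : db = 0 := by exact_mod_cast h1.symm
    omega
  · intro θ hθ
    obtain ⟨hθz, hθ1⟩ := mem_zspanOn_compl_one.mp hθ
    obtain ⟨a, ha, b, hb, rfl⟩ := mem_zspan_union.mp hθz
    rw [glueMap_apply hX hY hXY σ τ ha hb]
    obtain ⟨dc, hdc0, hdc⟩ := irr_degree (hX χ₀ hχ₀)
    obtain ⟨de, hde0, hde⟩ := irr_degree (hY η₀ hη₀)
    obtain ⟨m, hm⟩ := zspan_apply_one_int hX ha
    have hb1 : b 1 = -(m : ℂ) := by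
      have h := hθ1
      rw [Pi.add_apply, hm] at h
      linear_combination h
    have hχ₀z := subset_zspan X hχ₀
    have hη₀z := subset_zspan Y hη₀
    have ha' : (dc : ℤ) • a - m • χ₀ ∈ zspanOn X {1}ᶜ :=
      mem_zspanOn_compl_one.mpr ⟨zspan_sub (zspan_zsmul ha _) (zspan_zsmul hχ₀z _), by
        simp [hm, hdc]; ring⟩
    have hb' : (de : ℤ) • b + m • η₀ ∈ zspanOn Y {1}ᶜ :=
      mem_zspanOn_compl_one.mpr ⟨zspan_add (zspan_zsmul hb _) (zspan_zsmul hη₀z _), by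
        simp [hb1, hde]; ring⟩
    have hδeq : χ₀ 1 • η₀ - η₀ 1 • χ₀ = (dc : ℤ) • η₀ - (de : ℤ) • χ₀ := by
      rw [hdc, hde, zsmul_eq_smul_cast, zsmul_eq_smul_cast]
      simp
    have hδmem : (dc : ℤ) • η₀ - (de : ℤ) • χ₀ ∈ zspanOn S {1}ᶜ :=
      degDiff_mem (hYS hη₀) (hXS hχ₀) de dc hde hdc
    have hid : ((dc * de : ℕ) : ℤ) • (a + b) = (de : ℤ) • ((dc : ℤ) • a - m • χ₀)
        + (dc : ℤ) • ((de : ℤ) • b + m • η₀) - m • ((dc : ℤ) • η₀ - (de : ℤ) • χ₀) := by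
      ext x
      simp
      ring
    have hθS : a + b ∈ zspanOn S {1}ᶜ := zspanOn_mono (Set.union_subset hXS hYS) _ hθ
    have hL : α (((dc * de : ℕ) : ℤ) • (a + b)) = ((dc * de : ℕ) : ℤ) • α (a + b) :=
      hα.2.1 _ hθS _
    have ha'S := zspanOn_mono hXS _ ha'
    have hb'S := zspanOn_mono hYS _ hb'
    have hR : α ((de : ℤ) • ((dc : ℤ) • a - m • χ₀)
        + (dc : ℤ) • ((de : ℤ) • b + m • η₀) - m • ((dc : ℤ) • η₀ - (de : ℤ) • χ₀))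
        = (de : ℤ) • α ((dc : ℤ) • a - m • χ₀) + (dc : ℤ) • α ((de : ℤ) • b + m • η₀)
          - m • α ((dc : ℤ) • η₀ - (de : ℤ) • χ₀) := by
      rw [isoOn_sub hα (fun b hb => zspanOn_neg hb)
        (zspanOn_add (zspanOn_zsmul ha'S _) (zspanOn_zsmul hb'S _)) (zspanOn_zsmul hδmem _),
        hα.1 _ (zspanOn_zsmul ha'S _) _ (zspanOn_zsmul hb'S _), hα.2.1 _ ha'S, hα.2.1 _ hb'S,
        hα.2.1 _ hδmem]
    have hσa' : σ ((dc : ℤ) • a - m • χ₀) = (dc : ℤ) • σ a - m • σ χ₀ := by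
      rw [isoOn_sub hσ (fun b hb => zspan_neg hb) (zspan_zsmul ha _) (zspan_zsmul hχ₀z _),
        hσ.2.1 a ha, hσ.2.1 χ₀ hχ₀z]
    have hτb' : τ ((de : ℤ) • b + m • η₀) = (de : ℤ) • τ b + m • τ η₀ := by
      rw [hτ.1 _ (zspan_zsmul hb _) _ (zspan_zsmul hη₀z _), hτ.2.1 b hb, hτ.2.1 η₀ hη₀z]
    have hαδ : α ((dc : ℤ) • η₀ - (de : ℤ) • χ₀) = (dc : ℤ) • τ η₀ - (de : ℤ) • σ χ₀ := by
      rw [← hδeq, hδ, hdc, hde, zsmul_eq_smul_cast, zsmul_eq_smul_cast]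
      simp
    have key : ((dc * de : ℕ) : ℤ) • α (a + b) = ((dc * de : ℕ) : ℤ) • (σ a + τ b) := by
      rw [← hL, hid, hR, ← hσα _ ha', ← hτα _ hb', hσa', hτb', hαδ]
      ext x
      simp
      ring
    have hne : ((dc * de : ℕ) : ℂ) ≠ 0 := by
      have : dc * de ≠ 0 := (Nat.mul_pos hdc0 hde0).ne'
      exact_mod_cast this
    ext x
    have hx := congrFun key x
    simp only [Pi.smul_apply, zsmul_eq_mul, Int.cast_natCast] at hx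
    exact (mul_left_cancel₀ hne hx).symm

/-- Let N be a subgroup of the finite group G, S a set of irreducible characters of N, and α a linear isometry on the integer combinations of S vanishing at 1 with values virtual characters of G vanishing at 1. Let X, Y ⊆ S be disjoint, each with at least two members, and σ, τ linear isometries on ℤ[X], ℤ[Y] into virtual characters agreeing with α on the members vanishing at 1. Then ⟨σ χ, τ η⟩ = 0 for χ ∈ X, η ∈ Y; and if for some χ₀ ∈ X, η₀ ∈ Y with degrees c = χ₀ 1, e = η₀ 1 one has α (c • η₀ − e • χ₀) = c • τ η₀ − e • σ χ₀, then (X ∪ Y, N minus 1, α) is coherent. -/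
theorem result {G : Type*} [Group G] [Fintype G] (N : Subgroup G) [Fintype N] (S X Y : Set (N → ℂ)) (hirr : ∀ ξ ∈ S, Cfsg.IsIrrCharacter N ξ) (hXS : X ⊆ S) (hYS : Y ⊆ S) (hXY : Disjoint X Y) (hX2 : ∃ a ∈ X, ∃ b ∈ X, a ≠ b) (hY2 : ∃ a ∈ Y, ∃ b ∈ Y, a ≠ b) (α : (N → ℂ) → (G → ℂ)) (hα : Cfsg.IsLinearIsometryOn (Cfsg.zspanOn S {1}ᶜ) α) (hα1 : ∀ θ ∈ Cfsg.zspanOn S {1}ᶜ, α θ 1 = 0) (σ τ : (N → ℂ) → (G → ℂ)) (hσ : Cfsg.IsLinearIsometryOn (Cfsg.zspan X) σ) (hσα : ∀ θ ∈ Cfsg.zspanOn X {1}ᶜ, σ θ = α θ) (hτ : Cfsg.IsLinearIsometryOn (Cfsg.zspan Y) τ) (hτα : ∀ θ ∈ Cfsg.zspanOn Y {1}ᶜ, τ θ = α θ) : (∀ χ ∈ X, ∀ η ∈ Y, Cfsg.classInner (σ χ) (τ η) = 0) ∧ ((∃ χ₀ ∈ X, ∃ η₀ ∈ Y, α (χ₀ 1 • η₀ - η₀ 1 • χ₀) = χ₀ 1 • τ η₀ - η₀ 1 • σ χ₀) → Cfsg.IsCoherent (X ∪ Y) {1}ᶜ α) := by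
  have h1 := part1 N S X Y hirr hXS hYS hXY hX2 hY2 α hα hα1 σ τ hσ hσα hτ hτα
  refine ⟨h1, ?_⟩
  rintro ⟨χ₀, hχ₀, η₀, hη₀, hδ⟩
  exact part2 N S X Y hirr hXS hYS hXY hX2 α hα σ τ hσ hσα hτ hτα h1 χ₀ hχ₀ η₀ hη₀ hδ

end Cfsg.Agent.S1531
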