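import Cfsg.Statements.S0353
import Cfsg.Agent.Lib.Helper9.Steiner5824

set_option autoImplicit false
open Cfsg

namespace Cfsg.Agent.S0353

open Finset Cfsg.Agent.Lib.Helper9 in
/-- In an S(5, 8, 24), the symmetric difference of two blocks meeting in four points is a block. -/
theorem result {α : Type*} [Fintype α] [DecidableEq α] (hα : Fintype.card α = 24) {B : Set (Finset α)} (hB : Cfsg.IsSteinerSystem 5 8 B) {b c : Finset α} (hb : b ∈ B) (hc : c ∈ B) (h4 : (b ∩ c).card = 4) : symmDiff b c ∈ B := by
  classical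
  have hbcard : b.card = 8 := hB.1 b hb
  have hccard : c.card = 8 := hB.1 c hc
  have hWcard : (c \ b).card = 4 := by
    have := card_sdiff_add_card_inter c b
    rw [inter_comm, h4, hccard] at this
    omega
  have hXcard : (b \ c).card = 4 := by
    have := card_sdiff_add_card_inter b c
    rw [h4, hbcard] at this
    omega
  obtain ⟨R, hRW, hRcard⟩ := exists_subset_card_eq (s := c \ b) (n := 3) (by omega)
  have hRb : Disjoint R b := disjoint_of_subset_left hRW sdiff_disjoint
  have hRc : R ⊆ c := hRW.trans sdiff_subset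
  have hRne : R.Nonempty := by
    rw [← card_pos, hRcard]; norm_num
  -- blocks through R are different from b
  have hne : ∀ d, R ⊆ d → d ≠ b := by
    rintro d hRd rfl
    obtain ⟨x, hx⟩ := hRne
    exact (disjoint_left.mp hRb) hx (hRd hx)
  have hint : ∀ d ∈ B, R ⊆ d → (b ∩ d).card = 0 ∨ (b ∩ d).card = 2 ∨ (b ∩ d).card = 4 :=
    fun d hd hRd => inter_card_5_8_24 hα hB hb hd (hne d hRd).symm
  -- the counts
  set y : ℕ → ℕ := fun i => ((blocksFin B).filter (fun d => R ⊆ d ∧ (b ∩ d).card = i)).card with hy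
  have hy0 : ∀ i, i ≠ 0 → i ≠ 2 → i ≠ 4 → y i = 0 := by
    intro i h0 h2 h4
    simp only [hy]
    rw [card_eq_zero, filter_eq_empty_iff]
    rintro d hd ⟨hRd, hi⟩
    rcases hint d (mem_blocksFin.mp hd) hRd with h | h | h <;> omega
  have e := fun j (hj : 3 + j ≤ 5) =>
    sum_choose_mul_card_inter hB R b hRb j (by rw [hRcard]; exact hj)
  have e1 := e 1 (by norm_num)
  have e2 := e 2 (by norm_num)
  simp only [hbcard, hα, hRcard, sum_range_succ, sum_range_zero] at e1 e2
  change (0 + (Nat.choose 0 1) * y 0 + (Nat.choose 1 1) * y 1 + (Nat.choose 2 1) * y 2 +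
    (Nat.choose 3 1) * y 3 + (Nat.choose 4 1) * y 4 + (Nat.choose 5 1) * y 5 +
    (Nat.choose 6 1) * y 6 + (Nat.choose 7 1) * y 7 + (Nat.choose 8 1) * y 8) * _ = _ at e1
  change (0 + (Nat.choose 0 2) * y 0 + (Nat.choose 1 2) * y 1 + (Nat.choose 2 2) * y 2 +
    (Nat.choose 3 2) * y 3 + (Nat.choose 4 2) * y 4 + (Nat.choose 5 2) * y 5 +
    (Nat.choose 6 2) * y 6 + (Nat.choose 7 2) * y 7 + (Nat.choose 8 2) * y 8) * _ = _ at e2
  rw [hy0 1 (by norm_num) (by norm_num) (by norm_num), hy0 3 (by norm_num) (by norm_num) (by norm_num),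
    hy0 5 (by norm_num) (by norm_num) (by norm_num), hy0 6 (by norm_num) (by norm_num) (by norm_num),
    hy0 7 (by norm_num) (by norm_num) (by norm_num), hy0 8 (by norm_num) (by norm_num) (by norm_num)] at e1 e2
  norm_num [Nat.choose] at e1 e2
  have hy4 : y 4 = 2 := by omega
  -- a second block c' through R meeting b in 4 points
  have hcY : c ∈ (blocksFin B).filter (fun d => R ⊆ d ∧ (b ∩ d).card = 4) := by
    rw [mem_filter, mem_blocksFin]
    exact ⟨hc, hRc, h4⟩
  obtain ⟨c', hc'Y, hc'ne⟩ := exists_mem_ne (s := (blocksFin B).filter (fun d => R ⊆ d ∧ (b ∩ d).card = 4))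
    (by show 1 < y 4; omega) c
  rw [mem_filter, mem_blocksFin] at hc'Y
  obtain ⟨hc'B, hRc', hc'4⟩ := hc'Y
  have hc'card : c'.card = 8 := hB.1 c' hc'B
  have hcc' : (c ∩ c').card = 4 := by
    have h3 : 3 ≤ (c ∩ c').card := by
      rw [← hRcard]
      exact card_le_card (subset_inter hRc hRc')
    rcases inter_card_5_8_24 hα hB hc hc'B (Ne.symm hc'ne) with h | h | h <;> omega
  by_cases hz : ∃ z, z ∈ c ∧ z ∈ c' ∧ z ∈ b
  · -- impossible case
    exfalso
    obtain ⟨z, hzc, hzc', hzb⟩ := hz
    have hzR : z ∉ R := fun h => (disjoint_left.mp hRb) h hzb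
    set Q := insert z R with hQ
    have hQcard : Q.card = 4 := by rw [hQ, card_insert_of_notMem hzR, hRcard]
    have hQdisj : Disjoint Q (b.erase z) := by
      rw [hQ, disjoint_insert_left]
      exact ⟨notMem_erase z b, disjoint_of_subset_right (erase_subset z b) hRb⟩
    have hbz : (b.erase z).card = 7 := by rw [card_erase_of_mem hzb, hbcard]
    have s1 := sum_choose_inter hB Q (b.erase z) hQdisj 1 (by rw [hQcard])
    have s0 := card_blocks_through hB Q (by rw [hQcard]; norm_num)
    rw [hQcard, hbz, hα] at s1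
    rw [hQcard, hα] at s0
    norm_num [Nat.choose] at s0 s1
    set F := (blocksFin B).filter (fun d => Q ⊆ d) with hF
    have hFcard : F.card = 5 := by omega
    have hcF : c ∈ F := by
      rw [hF, mem_filter, mem_blocksFin]
      exact ⟨hc, insert_subset hzc hRc⟩
    have hc'F : c' ∈ F := by
      rw [hF, mem_filter, mem_blocksFin]
      exact ⟨hc'B, insert_subset hzc' hRc'⟩
    have hcard_erase : ∀ d, z ∈ d → ((b.erase z) ∩ d).card = (b ∩ d).card - 1 := by
      intro d hzd
      rw [erase_inter, card_erase_of_mem (mem_inter.mpr ⟨hzb, hzd⟩)]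
    have hlow : ∀ d ∈ F, 1 + (if d = c then 2 else 0) + (if d = c' then 2 else 0) ≤
        ((b.erase z) ∩ d).card := by
      intro d hd
      rw [hF, mem_filter, mem_blocksFin] at hd
      have hzd : z ∈ d := hd.2 (mem_insert_self z R)
      have hRd : R ⊆ d := (subset_insert z R).trans hd.2
      rw [hcard_erase d hzd]
      have hpos : 1 ≤ (b ∩ d).card := card_pos.mpr ⟨z, mem_inter.mpr ⟨hzb, hzd⟩⟩
      by_cases h1 : d = c
      · subst h1
        rw [if_pos rfl, if_neg (Ne.symm hc'ne), h4]
      · by_cases h2 : d = c'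
        · subst h2
          rw [if_neg h1, if_pos rfl, hc'4]
        · rw [if_neg h1, if_neg h2]
          rcases hint d hd.1 hRd with h | h | h <;> omega
    have hsum := sum_le_sum hlow
    rw [sum_add_distrib, sum_add_distrib, sum_const, smul_eq_mul, hFcard, sum_ite_eq' F c,
      sum_ite_eq' F c', if_pos hcF, if_pos hc'F] at hsum
    have : ∑ d ∈ F, ((b.erase z) ∩ d).card = 7 := by
      rw [← s1]
      apply sum_congr rfl
      intro d _
      rw [erase_inter]
    omega
  · -- the good case: c' is the symmetric difference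
    have hdisj3 : ∀ z, z ∈ c → z ∈ c' → z ∉ b := fun z h1 h2 h3 => hz ⟨z, h1, h2, h3⟩
    have hW : c ∩ c' = c \ b := by
      apply eq_of_subset_of_card_le
      · intro z hz'
        rw [mem_inter] at hz'
        rw [mem_sdiff]
        exact ⟨hz'.1, hdisj3 z hz'.1 hz'.2⟩
      · rw [hWcard, hcc']
    have hWc' : c \ b ⊆ c' := by
      rw [← hW]; exact inter_subset_right
    have hX : b ∩ c' = b \ c := by
      apply eq_of_subset_of_card_le
      · intro z hz'
        rw [mem_inter] at hz'
        rw [mem_sdiff]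
        exact ⟨hz'.1, fun hzc => hdisj3 z hzc hz'.2 hz'.1⟩
      · rw [hXcard, hc'4]
    have hXc' : b \ c ⊆ c' := by
      rw [← hX]; exact inter_subset_right
    have hsd : symmDiff b c = c' := by
      apply eq_of_subset_of_card_le
      · intro z hz'
        rw [mem_symmDiff] at hz'
        rcases hz' with h | h
        · exact hXc' (mem_sdiff.mpr h)
        · exact hWc' (mem_sdiff.mpr h)
      · have : (symmDiff b c).card = 8 := by
          have h1 : symmDiff b c = (b \ c) ∪ (c \ b) := rfl
          rw [h1, card_union_of_disjoint, hXcard, hWcard]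
          exact disjoint_of_subset_left sdiff_subset (disjoint_sdiff)
        rw [this, hc'card]
    rw [hsd]
    exact hc'B

end Cfsg.Agent.S0353
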