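import Cfsg.Statements.S1550
import Cfsg.Agent.S0363
import Cfsg.Agent.S0353
import Cfsg.Agent.Lib.Helper9.Golay
import Cfsg.Agent.Lib.Helper9.Steiner5824

set_option autoImplicit false
open scoped Pointwise
open Cfsg

namespace Cfsg.Agent.S1550

open Finset Cfsg.Agent.Lib.Helper9

theorem card_pt : Fintype.card Cfsg.GolayPt = 24 := by
  simp [ZMod.card]

theorem hS : Cfsg.IsSteinerSystem 5 8 Cfsg.octads := Cfsg.Agent.S0363.result

/-- The candidate sextet through a tetrad `t`. -/
noncomputable def sextetOf (t : Finset Cfsg.GolayPt) : Finset (Finset Cfsg.GolayPt) :=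
  insert t (((blocksFin Cfsg.octads).filter (fun c => t ⊆ c)).image (fun c => c \ t))

theorem card_through {t : Finset Cfsg.GolayPt} (h4 : t.card = 4) :
    ((blocksFin Cfsg.octads).filter (fun c => t ⊆ c)).card = 5 := by
  have h1 := card_blocks_through hS t (by rw [h4]; norm_num)
  rw [h4, card_pt] at h1
  norm_num [Nat.choose] at h1
  omega

theorem inter_eq {t o o' : Finset Cfsg.GolayPt} (h4 : t.card = 4) (ho : o ∈ Cfsg.octads)
    (ho' : o' ∈ Cfsg.octads) (hto : t ⊆ o) (hto' : t ⊆ o') (hne : o ≠ o') : o ∩ o' = t := by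
  have hsub : t ⊆ o ∩ o' := subset_inter hto hto'
  have hcard := inter_card_5_8_24 card_pt hS ho ho' hne
  refine (eq_of_subset_of_card_le hsub ?_).symm
  rw [h4]
  omega

theorem sdiff_inj {t o o' : Finset Cfsg.GolayPt} (hto : t ⊆ o) (hto' : t ⊆ o')
    (h : o \ t = o' \ t) : o = o' := by
  rw [← sdiff_union_of_subset hto, ← sdiff_union_of_subset hto', h]

theorem sextetOf_mem {t : Finset Cfsg.GolayPt} (h4 : t.card = 4) : sextetOf t ∈ Cfsg.sextets := by
  have hne : t.Nonempty := by
    rw [← card_pos, h4]; norm_num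
  refine ⟨?_, ?_, ?_⟩
  · rw [sextetOf, card_insert_of_notMem, card_image_of_injOn, card_through h4]
    · intro o ho o' ho' h
      rw [mem_coe, mem_filter, mem_blocksFin] at ho ho'
      exact sdiff_inj ho.2 ho'.2 h
    · intro h
      rw [mem_image] at h
      obtain ⟨o, -, ho⟩ := h
      obtain ⟨x, hx⟩ := hne
      have hx' := hx
      rw [← ho, mem_sdiff] at hx'
      exact hx'.2 hx
  · intro u hu
    rw [sextetOf, mem_insert, mem_image] at hu
    rcases hu with rfl | ⟨o, ho, rfl⟩
    · exact h4
    · rw [mem_filter, mem_blocksFin] at ho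
      rw [card_sdiff_of_subset ho.2, ho.1.2, h4]
  · intro u hu v hv huv
    rw [sextetOf, mem_insert, mem_image] at hu hv
    rcases hu with rfl | ⟨o, ho, rfl⟩ <;> rcases hv with rfl | ⟨o', ho', rfl⟩
    · exact absurd rfl huv
    · rw [mem_filter, mem_blocksFin] at ho'
      rw [union_sdiff_of_subset ho'.2]
      exact ho'.1
    · rw [mem_filter, mem_blocksFin] at ho
      rw [union_comm, union_sdiff_of_subset ho.2]
      exact ho.1
    · rw [mem_filter, mem_blocksFin] at ho ho'
      have hoo' : o ≠ o' := by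
        rintro rfl
        exact huv rfl
      have hint := inter_eq h4 ho.1 ho'.1 ho.2 ho'.2 hoo'
      have h := Cfsg.Agent.S0353.result card_pt hS ho.1 ho'.1 (by rw [hint, h4])
      have e : symmDiff o o' = o \ t ∪ o' \ t := by
        rw [symmDiff_def, sup_eq_union]
        congr 1
        · rw [← hint, sdiff_inter_self_left]
        · rw [← hint, sdiff_inter_self_right]
      rw [← e]
      exact h

theorem sextet_eq {S : Finset (Finset Cfsg.GolayPt)} (hSx : S ∈ Cfsg.sextets)
    {t : Finset Cfsg.GolayPt} (ht : t ∈ S) : S = sextetOf t := by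
  obtain ⟨h6, hcard, hun⟩ := hSx
  have h4 : t.card = 4 := hcard t ht
  have hsub : S ⊆ sextetOf t := by
    intro u hu
    rw [sextetOf, mem_insert, mem_image]
    by_cases hut : u = t
    · exact Or.inl hut
    · right
      have ho := hun t ht u hu (Ne.symm hut)
      have hd : Disjoint t u := by
        rw [← card_union_eq_card_add_card, ho.2, h4, hcard u hu]
      refine ⟨t ∪ u, ?_, union_sdiff_cancel_left hd⟩
      rw [mem_filter, mem_blocksFin]
      exact ⟨ho, subset_union_left⟩
  refine eq_of_subset_of_card_le hsub ?_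
  rw [h6, (sextetOf_mem h4).1]

/-- Every 4-element set of the 24 points is a tetrad of exactly one sextet, and the sextets number 1771. -/
theorem result : (∀ t : Finset Cfsg.GolayPt, t.card = 4 → ∃! S : Finset (Finset Cfsg.GolayPt), S ∈ Cfsg.sextets ∧ t ∈ S) ∧ Cfsg.sextets.ncard = 1771 := by
  refine ⟨?_, ?_⟩
  · intro t h4
    refine ⟨sextetOf t, ⟨sextetOf_mem h4, ?_⟩, ?_⟩
    · rw [sextetOf]; exact mem_insert_self _ _
    · rintro S ⟨hSx, ht⟩
      exact sextet_eq hSx ht
  · rw [ncard_eq_card_blocksFin]
    have hbU : (blocksFin Cfsg.sextets).biUnion id = powersetCard 4 (univ : Finset Cfsg.GolayPt) := by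
      ext t
      simp only [mem_biUnion, mem_blocksFin, id, mem_powersetCard, subset_univ, true_and]
      constructor
      · rintro ⟨S, hSx, ht⟩
        exact hSx.2.1 t ht
      · intro h4
        refine ⟨sextetOf t, sextetOf_mem h4, ?_⟩
        rw [sextetOf]; exact mem_insert_self _ _
    have hc := card_biUnion (s := blocksFin Cfsg.sextets) (t := id) (by
      intro S hSx S' hSx' hne
      rw [mem_coe, mem_blocksFin] at hSx hSx'
      rw [Function.onFun, disjoint_left]
      intro t ht ht'
      exact hne ((sextet_eq hSx ht).trans (sextet_eq hSx' ht').symm))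
    rw [hbU, card_powersetCard, card_univ, card_pt,
      sum_congr rfl (g := fun _ => 6) (fun S hSx => (mem_blocksFin.mp hSx).1), sum_const,
      smul_eq_mul] at hc
    norm_num [Nat.choose] at hc
    omega

end Cfsg.Agent.S1550
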