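import Cfsg.Statements.S1557
import Cfsg.Agent.S0363
import Cfsg.Agent.S0354
import Cfsg.Agent.Lib.Helper9.Golay
import Cfsg.Agent.Lib.Helper9.Steiner5824
import Cfsg.Agent.Lib.Helper10.LeechClosed

set_option autoImplicit false
open scoped Pointwise
open Cfsg

namespace Cfsg.Agent.S1557

open Finset Cfsg.Agent.Lib.Helper9 Cfsg.Agent.Lib.Helper10

theorem card_pt : Fintype.card Cfsg.GolayPt = 24 := by
  simp [ZMod.card]

theorem compl_union_mem {o o' : Finset Cfsg.GolayPt} (ho : o ∈ Cfsg.octads) (ho' : o' ∈ Cfsg.octads)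
    (hd : Disjoint o o') : (o ∪ o')ᶜ ∈ Cfsg.octads := by
  have h1 : symmDiff o o' ∈ gsup := symmDiff_mem_gsup ho.1 ho'.1
  have h2 : symmDiff o o' = o ∪ o' := hd.symmDiff_eq_sup
  rw [h2] at h1
  refine ⟨compl_mem_gsup h1, ?_⟩
  rw [card_compl, card_union_of_disjoint hd, ho.2, ho'.2, card_pt]

theorem octad_ne_of_disjoint {o o' : Finset Cfsg.GolayPt} (ho : o ∈ Cfsg.octads)
    (hd : Disjoint o o') : o ≠ o' := by
  rintro rfl
  rw [disjoint_self] at hd
  have := ho.2
  rw [hd] at this
  simp at this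

/-- A trio containing two distinct octads `a`, `b` is `{a, b, (a ∪ b)ᶜ}`. -/
theorem trio_eq {T : Finset (Finset Cfsg.GolayPt)} (hT : T ∈ Cfsg.trios) {a b : Finset Cfsg.GolayPt}
    (ha : a ∈ T) (hb : b ∈ T) (hab : a ≠ b) : T = {a, b, (a ∪ b)ᶜ} := by
  obtain ⟨h3, hoct, hdis⟩ := hT
  have hsub : T ⊆ {a, b, (a ∪ b)ᶜ} := by
    intro c hc
    simp only [mem_insert, mem_singleton]
    by_cases hca : c = a
    · exact Or.inl hca
    by_cases hcb : c = b
    · exact Or.inr (Or.inl hcb)
    right; right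
    have hda : Disjoint c a := hdis c hc a ha hca
    have hdb : Disjoint c b := hdis c hc b hb hcb
    have hd : Disjoint a b := hdis a ha b hb hab
    have hsub : c ⊆ (a ∪ b)ᶜ := by
      intro x hx
      rw [mem_compl, mem_union]
      rintro (h | h)
      · exact (disjoint_left.mp hda hx h)
      · exact (disjoint_left.mp hdb hx h)
    refine eq_of_subset_of_card_le hsub ?_
    rw [card_compl, card_union_of_disjoint hd, (hoct a ha).2, (hoct b hb).2, (hoct c hc).2, card_pt]
  refine (eq_of_subset_of_card_le hsub ?_)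
  rw [h3]
  exact card_le_three

theorem trio_mk {a b : Finset Cfsg.GolayPt} (ha : a ∈ Cfsg.octads) (hb : b ∈ Cfsg.octads)
    (hd : Disjoint a b) : ({a, b, (a ∪ b)ᶜ} : Finset (Finset Cfsg.GolayPt)) ∈ Cfsg.trios := by
  have hc := compl_union_mem ha hb hd
  have hdac : Disjoint a (a ∪ b)ᶜ := by
    rw [disjoint_left]
    intro x hx hx'
    rw [mem_compl, mem_union] at hx'
    exact hx' (Or.inl hx)
  have hdbc : Disjoint b (a ∪ b)ᶜ := by
    rw [disjoint_left]
    intro x hx hx'
    rw [mem_compl, mem_union] at hx'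
    exact hx' (Or.inr hx)
  have hab : a ≠ b := octad_ne_of_disjoint ha hd
  have hac : a ≠ (a ∪ b)ᶜ := octad_ne_of_disjoint ha hdac
  have hbc : b ≠ (a ∪ b)ᶜ := octad_ne_of_disjoint hb hdbc
  refine ⟨?_, ?_, ?_⟩
  · rw [card_eq_three]
    exact ⟨a, b, (a ∪ b)ᶜ, hab, hac, hbc, rfl⟩
  · intro o ho
    simp only [mem_insert, mem_singleton] at ho
    rcases ho with rfl | rfl | rfl
    · exact ha
    · exact hb
    · exact hc
  · intro o ho o' ho' hne
    simp only [mem_insert, mem_singleton] at ho ho'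
    rcases ho with rfl | rfl | rfl <;> rcases ho' with rfl | rfl | rfl
    · exact absurd rfl hne
    · exact hd
    · exact hdac
    · exact hd.symm
    · exact absurd rfl hne
    · exact hdbc
    · exact hdac.symm
    · exact hdbc.symm
    · exact absurd rfl hne

theorem card_disjoint_octads {a : Finset Cfsg.GolayPt} (ha : a ∈ Cfsg.octads) :
    ((blocksFin Cfsg.octads).filter (fun b => Disjoint a b)).card = 30 := by
  have h := Cfsg.Agent.S0354.result card_pt Cfsg.Agent.S0363.result ha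
  rw [← h, ← Set.ncard_coe_finset]
  congr 1
  ext c
  simp [mem_blocksFin]

/-- The complement of the union of two disjoint octads is an octad, and the code has exactly 3795 trios of pairwise disjoint octads. -/
theorem result : (∀ o o' : Finset Cfsg.GolayPt, o ∈ Cfsg.octads → o' ∈ Cfsg.octads → Disjoint o o' → (o ∪ o')ᶜ ∈ Cfsg.octads) ∧ Cfsg.trios.ncard = 3795 := by
  refine ⟨fun o o' ho ho' hd => compl_union_mem ho ho' hd, ?_⟩
  rw [ncard_eq_card_blocksFin]
  have hO : (blocksFin Cfsg.octads).card = 759 := by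
    rw [← ncard_eq_card_blocksFin]; exact ncard_octads
  -- P: ordered pairs of disjoint octads
  have hP : ((blocksFin Cfsg.octads).sigma
      (fun a => (blocksFin Cfsg.octads).filter (fun b => Disjoint a b))).card = 759 * 30 := by
    rw [card_sigma, sum_congr rfl (fun a ha => card_disjoint_octads (mem_blocksFin.mp ha)),
      sum_const, hO, smul_eq_mul]
  have hQ : ((blocksFin Cfsg.trios).sigma (fun T => T.offDiag)).card
      = (blocksFin Cfsg.trios).card * 6 := by
    rw [card_sigma, sum_congr rfl (g := fun _ => 6), sum_const, smul_eq_mul]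
    intro T hT
    rw [offDiag_card, (mem_blocksFin.mp hT).1]
  have hbij : ((blocksFin Cfsg.trios).sigma (fun T => T.offDiag)).card
      = ((blocksFin Cfsg.octads).sigma
          (fun a => (blocksFin Cfsg.octads).filter (fun b => Disjoint a b))).card := by
    refine card_bij (fun x _ => ⟨x.2.1, x.2.2⟩) ?_ ?_ ?_
    · rintro ⟨T, a, b⟩ hx
      simp only [mem_sigma, mem_blocksFin, mem_offDiag, mem_filter] at hx ⊢
      obtain ⟨hT, ha, hb, hab⟩ := hx
      exact ⟨hT.2.1 a ha, hT.2.1 b hb, hT.2.2 a ha b hb hab⟩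
    · rintro ⟨T, a, b⟩ hx ⟨T', a', b'⟩ hx' heq
      simp only [mem_sigma, mem_blocksFin, mem_offDiag] at hx hx'
      simp only [Sigma.mk.injEq, heq_eq_eq] at heq
      obtain ⟨rfl, rfl⟩ := heq
      have h1 := trio_eq hx.1 hx.2.1 hx.2.2.1 hx.2.2.2
      have h2 := trio_eq hx'.1 hx'.2.1 hx'.2.2.1 hx'.2.2.2
      rw [h1, h2]
    · rintro ⟨a, b⟩ hx
      simp only [mem_sigma, mem_blocksFin, mem_filter] at hx
      obtain ⟨ha, hb, hd⟩ := hx
      refine ⟨⟨{a, b, (a ∪ b)ᶜ}, a, b⟩, ?_, rfl⟩
      simp only [mem_sigma, mem_blocksFin, mem_offDiag, mem_insert, mem_singleton, true_or,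
        or_true, true_and]
      exact ⟨trio_mk ha hb hd, octad_ne_of_disjoint ha hd⟩
  rw [hP, hQ] at hbij
  omega

end Cfsg.Agent.S1557
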