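import Cfsg.Statements.S3007
import Cfsg.Agent.Lib.Helper58.CentrallyLarge2

set_option autoImplicit false
open Cfsg

namespace Cfsg.Agent.S3007


open Cfsg.Agent.Lib.Helper58 Pointwise commutatorElement in
theorem pair {P : Type*} [Group P] [Finite P] (Q R : Subgroup P)
    (hQ : Cfsg.IsMinimalCentrallyLarge Q) (hR : Cfsg.IsCentrallyLarge R) :
    (Q ⊓ R) ⊔ (Q ⊓ Subgroup.centralizer (Q : Set P)) = Q ∧ ⁅Q, Q⁆ = ⁅Q ⊓ R, Q ⊓ R⁆ ∧
      (Q ⊓ R) ⊓ Subgroup.centralizer (Q : Set P) = (Q ⊓ R) ⊓ Subgroup.centralizer ((Q ⊓ R : Subgroup P) : Set P) ∧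
      Nat.card Q * Nat.card ↥((Q ⊓ R) ⊓ Subgroup.centralizer ((Q ⊓ R : Subgroup P) : Set P))
        = Nat.card ↥(Q ⊓ R) * Nat.card ↥(Q ⊓ Subgroup.centralizer (Q : Set P)) := by
  obtain ⟨hQ1, hQ2⟩ := centrallyLarge_imp Q hQ.1
  obtain ⟨hR1, hR2⟩ := centrallyLarge_imp R hR
  obtain ⟨-, -, hD, hCC, hCD⟩ := cd_main Q R hQ1 hR1
  obtain ⟨hZ, hQCC⟩ := cd_centralizer Q hQ1
  obtain ⟨hDZset, hDZ, -, -, -⟩ := cd_main (Q ⊓ R) _ hD hZ
  rw [hQ2] at hDZset hDZ
  have hle : (Q ⊓ R) ⊔ (Q ⊓ Subgroup.centralizer (Q : Set P)) ≤ Q := sup_le inf_le_left inf_le_left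
  have hcl : Cfsg.IsCentrallyLarge ((Q ⊓ R) ⊔ (Q ⊓ Subgroup.centralizer (Q : Set P))) := by
    rw [centrallyLarge_iff_of_centralizerLarge _ hDZ, centralizer_sup_eq, hCD, ← hQ2, ← hQCC]
    rintro x ⟨hx1, hx2⟩
    have hx1' : x ∈ ((Subgroup.centralizer (Q : Set P) ⊔ Subgroup.centralizer (R : Set P) : Subgroup P) : Set P) := hx1
    rw [hCC] at hx1'
    obtain ⟨a, ha, b, hb, rfl⟩ := Set.mem_mul.mp hx1'
    have ha' : a ∈ Q ⊓ Subgroup.centralizer (Q : Set P) := by rw [← hQ2]; exact ha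
    have hbQ : b ∈ Q := by
      have := Q.mul_mem (Q.inv_mem ha'.1) hx2
      simpa using this
    have hbR : b ∈ R := by
      have : b ∈ R ⊓ Subgroup.centralizer (R : Set P) := by rw [← hR2]; exact hb
      exact this.1
    exact Subgroup.mul_mem_sup (T := Q ⊓ R) (S := Subgroup.centralizer (Q : Set P)) ha ⟨hbQ, hbR⟩ |>
      (sup_comm (Subgroup.centralizer (Q : Set P)) (Q ⊓ R) ▸ ·)
  have h1 : (Q ⊓ R) ⊔ (Q ⊓ Subgroup.centralizer (Q : Set P)) = Q := hQ.2 _ hle hcl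
  have hQset : (Q : Set P) = ((Q ⊓ R : Subgroup P) : Set P) * ((Q ⊓ Subgroup.centralizer (Q : Set P) : Subgroup P) : Set P) := by
    rw [← hDZset, h1]
  refine ⟨h1, ?_, ?_, ?_⟩
  · apply le_antisymm
    · rw [Subgroup.commutator_le]
      intro g₁ hg₁ g₂ hg₂
      have hg₁' : g₁ ∈ (Q : Set P) := hg₁
      have hg₂' : g₂ ∈ (Q : Set P) := hg₂
      rw [hQset] at hg₁' hg₂'
      obtain ⟨d₁, hd₁, z₁, hz₁, rfl⟩ := Set.mem_mul.mp hg₁'
      obtain ⟨d₂, hd₂, z₂, hz₂, rfl⟩ := Set.mem_mul.mp hg₂'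
      have hz₁c := Subgroup.mem_centralizer_iff.mp hz₁.2
      have hz₂c := Subgroup.mem_centralizer_iff.mp hz₂.2
      have hd₁Q : d₁ ∈ Q := hd₁.1
      have hd₂Q : d₂ ∈ Q := hd₂.1
      have e1 : d₁ * z₁ = z₁ * d₁ := hz₁c d₁ hd₁Q
      have e2 : d₂ * z₂ = z₂ * d₂ := hz₂c d₂ hd₂Q
      have e3 : d₂ * z₁ = z₁ * d₂ := hz₁c d₂ hd₂Q
      have e4 : d₁ * z₂ = z₂ * d₁ := hz₂c d₁ hd₁Q
      have e5 : z₁ * z₂ = z₂ * z₁ := (hz₂c z₁ hz₁.1)
      have hcomm : ⁅d₁ * z₁, d₂ * z₂⁆ = ⁅d₁, d₂⁆ := by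
        rw [commutatorElement_def, commutatorElement_def]
        have c1 : Commute z₁ d₁ := e1.symm
        have c2 : Commute z₂ d₂ := e2.symm
        have c3 : Commute z₁ d₂ := e3.symm
        have c4 : Commute z₂ d₁ := e4.symm
        have c5 : Commute z₁ z₂ := e5
        calc d₁ * z₁ * (d₂ * z₂) * (d₁ * z₁)⁻¹ * (d₂ * z₂)⁻¹
            = d₁ * z₁ * d₂ * z₂ * z₁⁻¹ * d₁⁻¹ * z₂⁻¹ * d₂⁻¹ := by group
          _ = d₁ * d₂ * (z₁ * z₂ * z₁⁻¹) * d₁⁻¹ * z₂⁻¹ * d₂⁻¹ := by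
              rw [mul_assoc d₁ z₁ d₂, c3.eq]; group
          _ = d₁ * d₂ * z₂ * d₁⁻¹ * z₂⁻¹ * d₂⁻¹ := by
              rw [c5.eq]; group
          _ = d₁ * d₂ * d₁⁻¹ * (z₂ * z₂⁻¹) * d₂⁻¹ := by
              rw [mul_assoc (d₁ * d₂) z₂ d₁⁻¹, (c4.inv_right).eq]; group
          _ = d₁ * d₂ * d₁⁻¹ * d₂⁻¹ := by group
      rw [hcomm]
      exact Subgroup.commutator_mem_commutator hd₁ hd₂
    · exact Subgroup.commutator_mono inf_le_left inf_le_left
  · apply le_antisymm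
    · exact le_inf inf_le_left (le_trans inf_le_right
        (Subgroup.centralizer_le (by exact_mod_cast (inf_le_left : Q ⊓ R ≤ Q))))
    · rintro x ⟨hxD, hxC⟩
      refine ⟨hxD, ?_⟩
      have hxZ : x ∈ Subgroup.centralizer ((Q ⊓ Subgroup.centralizer (Q : Set P) : Subgroup P) : Set P) :=
        (Subgroup.le_centralizer_iff.mp inf_le_right : Q ≤ _) hxD.1
      have : x ∈ Subgroup.centralizer (((Q ⊓ R) ⊔ (Q ⊓ Subgroup.centralizer (Q : Set P)) : Subgroup P) : Set P) := by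
        rw [centralizer_sup_eq]; exact ⟨hxC, hxZ⟩
      rw [h1] at this
      exact this
  · have := card_mul_set (Q ⊓ R) (Q ⊓ Subgroup.centralizer (Q : Set P))
    rw [← hQset] at this
    rw [← this]
    have e : (Q ⊓ R) ⊓ (Q ⊓ Subgroup.centralizer (Q : Set P))
        = (Q ⊓ R) ⊓ Subgroup.centralizer ((Q ⊓ R : Subgroup P) : Set P) := by
      apply le_antisymm
      · exact le_inf inf_le_left (le_trans inf_le_right (le_trans inf_le_right
          (Subgroup.centralizer_le (by exact_mod_cast (inf_le_left : Q ⊓ R ≤ Q)))))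
      · rintro x ⟨hxD, hxC⟩
        refine ⟨hxD, hxD.1, ?_⟩
        have hxZ : x ∈ Subgroup.centralizer ((Q ⊓ Subgroup.centralizer (Q : Set P) : Subgroup P) : Set P) :=
          (Subgroup.le_centralizer_iff.mp inf_le_right : Q ≤ _) hxD.1
        have : x ∈ Subgroup.centralizer (((Q ⊓ R) ⊔ (Q ⊓ Subgroup.centralizer (Q : Set P)) : Subgroup P) : Set P) := by
          rw [centralizer_sup_eq]; exact ⟨hxC, hxZ⟩
        rw [h1] at this
        exact this
    rw [e]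
    rfl

/-- Let P be a finite p-group and Q, R minimal centrally large subgroups of P (centrally large: |Q|·|Z(Q)| maximal among subgroups of P; minimal among such under inclusion). Then Q = (Q ∩ R)·Z(Q), the derived subgroups [Q, Q] and [R, R] coincide, |Q| = |R| and |Z(Q)| = |Z(R)|; and if Q is abelian then the minimal centrally large subgroups of P are exactly the abelian subgroups of P of largest order. -/
theorem result {p : ℕ} [Fact p.Prime] (P : Type*) [Group P] [Finite P] (hP : IsPGroup p P) (Q R : Subgroup P) (hQ : Cfsg.IsMinimalCentrallyLarge Q) (hR : Cfsg.IsMinimalCentrallyLarge R) : (Q ⊓ R) ⊔ (Q ⊓ Subgroup.centralizer (Q : Set P)) = Q ∧ ⁅Q, Q⁆ = ⁅R, R⁆ ∧ Nat.card ↥Q = Nat.card ↥R ∧ Nat.card ↥(Q ⊓ Subgroup.centralizer (Q : Set P)) = Nat.card ↥(R ⊓ Subgroup.centralizer (R : Set P)) ∧ (IsMulCommutative ↥Q → ∀ X : Subgroup P, Cfsg.IsMinimalCentrallyLarge X ↔ X ∈ Cfsg.maxAbelianSubgroups P) :=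 by
  obtain ⟨a1, a2, a3, a4⟩ := pair Q R hQ hR.1
  obtain ⟨b1, b2, b3, b4⟩ := pair R Q hR hQ.1
  rw [inf_comm R Q] at b2 b3 b4
  have hcQ := (Cfsg.Agent.Lib.Helper58.isCentrallyLarge_iff Q).mp hQ.1
  have hcR := (Cfsg.Agent.Lib.Helper58.isCentrallyLarge_iff R).mp hR.1
  unfold Cfsg.Agent.Lib.Helper58.clm at hcQ hcR
  have hqz : Nat.card Q * Nat.card ↥(Q ⊓ Subgroup.centralizer (Q : Set P))
      = Nat.card R * Nat.card ↥(R ⊓ Subgroup.centralizer (R : Set P)) := by rw [hcQ, hcR]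
  have hq : 0 < Nat.card Q := Nat.card_pos
  have hr : 0 < Nat.card R := Nat.card_pos
  have hd : 0 < Nat.card ↥(Q ⊓ R) := Nat.card_pos
  have hc : 0 < Nat.card ↥((Q ⊓ R) ⊓ Subgroup.centralizer ((Q ⊓ R : Subgroup P) : Set P)) := Nat.card_pos
  have hzq : 0 < Nat.card ↥(Q ⊓ Subgroup.centralizer (Q : Set P)) := Nat.card_pos
  have hzr : 0 < Nat.card ↥(R ⊓ Subgroup.centralizer (R : Set P)) := Nat.card_pos
  have hzeq : Nat.card ↥(Q ⊓ Subgroup.centralizer (Q : Set P)) = Nat.card ↥(R ⊓ Subgroup.centralizer (R : Set P)) := by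
    -- |D| zq^2 = M c = |D| zr^2
    have e1 : Nat.card ↥(Q ⊓ R) * (Nat.card ↥(Q ⊓ Subgroup.centralizer (Q : Set P)) * Nat.card ↥(Q ⊓ Subgroup.centralizer (Q : Set P)))
        = Nat.card ↥(Q ⊓ R) * (Nat.card ↥(R ⊓ Subgroup.centralizer (R : Set P)) * Nat.card ↥(R ⊓ Subgroup.centralizer (R : Set P))) := by
      calc Nat.card ↥(Q ⊓ R) * (Nat.card ↥(Q ⊓ Subgroup.centralizer (Q : Set P)) * Nat.card ↥(Q ⊓ Subgroup.centralizer (Q : Set P)))
          = (Nat.card ↥(Q ⊓ R) * Nat.card ↥(Q ⊓ Subgroup.centralizer (Q : Set P))) * Nat.card ↥(Q ⊓ Subgroup.centralizer (Q : Set P)) := by ring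
        _ = (Nat.card Q * Nat.card ↥(Q ⊓ Subgroup.centralizer (Q : Set P))) * Nat.card ↥((Q ⊓ R) ⊓ Subgroup.centralizer ((Q ⊓ R : Subgroup P) : Set P)) := by
            rw [← a4]; ring
        _ = (Nat.card R * Nat.card ↥(R ⊓ Subgroup.centralizer (R : Set P))) * Nat.card ↥((Q ⊓ R) ⊓ Subgroup.centralizer ((Q ⊓ R : Subgroup P) : Set P)) := by
            rw [hqz]
        _ = (Nat.card ↥(Q ⊓ R) * Nat.card ↥(R ⊓ Subgroup.centralizer (R : Set P))) * Nat.card ↥(R ⊓ Subgroup.centralizer (R : Set P)) := by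
            rw [← b4]; ring
        _ = _ := by ring
    have e2 := Nat.eq_of_mul_eq_mul_left hd e1
    exact Nat.mul_self_inj.mp e2
  have hQR : Nat.card Q = Nat.card R := by
    rw [hzeq] at hqz
    exact Nat.eq_of_mul_eq_mul_right hzr hqz
  refine ⟨a1, a2.trans b2.symm, hQR, hzeq, ?_⟩
  intro hQab X
  have hQc : Q ≤ Subgroup.centralizer (Q : Set P) := Subgroup.le_centralizer_iff_isMulCommutative.mpr hQab
  have hM : Cfsg.maxCentralProduct P = Nat.card Q * Nat.card Q := by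
    rw [← hcQ, inf_of_le_left hQc]
  have habel : ∀ B : Subgroup P, B ≤ Subgroup.centralizer (B : Set P) → Nat.card B ≤ Nat.card Q := by
    intro B hB
    have h1 := Cfsg.Agent.Lib.Helper58.clm_le_max B
    unfold Cfsg.Agent.Lib.Helper58.clm at h1
    rw [inf_of_le_left hB, hM] at h1
    exact Nat.mul_self_le_mul_self_iff.mp h1
  constructor
  · intro hX
    obtain ⟨x1, x2, x3, x4⟩ := pair Q X hQ hX.1
    obtain ⟨y1, y2, y3, y4⟩ := pair X Q hX hQ.1
    rw [inf_comm X Q] at y2 y3 y4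
    have hcX := (Cfsg.Agent.Lib.Helper58.isCentrallyLarge_iff X).mp hX.1
    unfold Cfsg.Agent.Lib.Helper58.clm at hcX
    have hXab : X ≤ Subgroup.centralizer (X : Set P) := by
      rw [← Subgroup.commutator_eq_bot_iff_le_centralizer, y2, ← x2,
        Subgroup.commutator_eq_bot_iff_le_centralizer]
      exact hQc
    rw [inf_of_le_left hXab, hM] at hcX
    have hXQ : Nat.card X = Nat.card Q := Nat.mul_self_inj.mp hcX
    refine ⟨Subgroup.le_centralizer_iff_isMulCommutative.mp hXab, ?_⟩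
    intro B hB
    rw [hXQ]
    exact habel B (Subgroup.le_centralizer_iff_isMulCommutative.mpr hB)
  · intro hX
    have hXab : X ≤ Subgroup.centralizer (X : Set P) := Subgroup.le_centralizer_iff_isMulCommutative.mpr hX.1
    have hXQ : Nat.card X = Nat.card Q := le_antisymm (habel X hXab) (hX.2 Q hQab)
    have hXcl : Cfsg.IsCentrallyLarge X := by
      rw [Cfsg.Agent.Lib.Helper58.isCentrallyLarge_iff]
      unfold Cfsg.Agent.Lib.Helper58.clm
      rw [inf_of_le_left hXab, hM, hXQ]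
    refine ⟨hXcl, ?_⟩
    intro X' hX'le hX'cl
    obtain ⟨X'', hX''min, hX''le⟩ := Cfsg.Agent.Lib.Helper58.exists_isMinimalCentrallyLarge_le X' hX'cl
    obtain ⟨x1, x2, x3, x4⟩ := pair Q X'' hQ hX''min.1
    obtain ⟨y1, y2, y3, y4⟩ := pair X'' Q hX''min hQ.1
    rw [inf_comm X'' Q] at y2 y3 y4
    have hcX := (Cfsg.Agent.Lib.Helper58.isCentrallyLarge_iff X'').mp hX''min.1
    unfold Cfsg.Agent.Lib.Helper58.clm at hcX
    have hX''ab : X'' ≤ Subgroup.centralizer (X'' : Set P) := by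
      rw [← Subgroup.commutator_eq_bot_iff_le_centralizer, y2, ← x2,
        Subgroup.commutator_eq_bot_iff_le_centralizer]
      exact hQc
    rw [inf_of_le_left hX''ab, hM] at hcX
    have hX''Q : Nat.card X'' = Nat.card Q := Nat.mul_self_inj.mp hcX
    have : X'' = X := Subgroup.eq_of_le_of_card_ge (le_trans hX''le hX'le) (by rw [hX''Q, hXQ])
    exact le_antisymm hX'le (this ▸ hX''le)

end Cfsg.Agent.S3007
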