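import Cfsg.Statements.S4343

set_option autoImplicit false
open Cfsg

namespace Cfsg.Agent.S4343

theorem mem_smul_sylow {G : Type*} [Group G] {p : ℕ} (g x : G) (P : Sylow p G) :
    x ∈ (g • P : Sylow p G) ↔ g⁻¹ * x * g ∈ P := by
  rw [← SetLike.mem_coe, Sylow.coe_smul, Set.mem_smul_set_iff_inv_smul_mem]
  simp [MulAut.smul_def]

theorem sylow_eq_of_le {G : Type*} [Group G] {p : ℕ} (P Q : Sylow p G)
    (h : (P : Subgroup G) ≤ Q) : P = Q :=
  Sylow.ext (P.is_maximal' Q.2 h).symm

theorem card_mul_relIndex {G : Type*} [Group G] {H K : Subgroup G} (h : H ≤ K) :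
    Nat.card H * H.relIndex K = Nat.card K := by
  have c : Nat.card (H.subgroupOf K) = Nat.card H :=
    Nat.card_congr (Subgroup.subgroupOfEquivOfLe h).toEquiv
  rw [← c]; exact Subgroup.card_mul_index (H.subgroupOf K)

section

variable {S : Type*} [Group S] [Finite S] {p : ℕ} [Fact p.Prime]

theorem stab_eq (R T : Sylow p S) :
    MulAction.stabilizer (R : Subgroup S) T = (T : Subgroup S).subgroupOf R := by
  ext x
  rw [MulAction.mem_stabilizer_iff, Subgroup.mem_subgroupOf]
  constructor
  · intro h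
    have h1 : (x : S) • T = T := h
    have h2 : (x : S) ∈ Subgroup.normalizer (T : Set S) :=
      Sylow.smul_eq_iff_mem_normalizer.mp h1
    have h3 : (x : S) ∈ (R : Subgroup S) ⊓ Subgroup.normalizer (T : Set S) := ⟨x.2, h2⟩
    rw [R.2.inf_normalizer_sylow T] at h3
    exact h3.2
  · intro h
    exact Sylow.smul_eq_iff_mem_normalizer.mpr (Subgroup.le_normalizer h)

theorem orbit_ncard (R T : Sylow p S) :
    (MulAction.orbit (R : Subgroup S) T).ncard = (T : Subgroup S).relIndex R := by
  rw [← MulAction.index_stabilizer, stab_eq]; rfl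

theorem relIndex_eq_p (hn : Nat.card (Sylow p S) < p ^ 2) (R T : Sylow p S) (hne : R ≠ T) :
    (T : Subgroup S).relIndex R = p := by
  have hp : p.Prime := Fact.out
  have hle : (T : Subgroup S).relIndex R ≤ Nat.card (Sylow p S) := by
    rw [← orbit_ncard]; exact Set.ncard_le_card _
  obtain ⟨N, hN⟩ := IsPGroup.iff_card.mp R.2
  have hdvd : (T : Subgroup S).relIndex R ∣ p ^ N := by
    rw [← hN]; exact Subgroup.relIndex_dvd_card _ _
  obtain ⟨j, -, hj⟩ := (Nat.dvd_prime_pow hp).mp hdvd
  have hj0 : j ≠ 0 := by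
    rintro rfl
    rw [pow_zero, Subgroup.relIndex_eq_one] at hj
    exact hne (sylow_eq_of_le R T hj)
  have hj2 : j < 2 := by
    by_contra h
    push Not at h
    have : p ^ 2 ≤ p ^ j := Nat.pow_le_pow_right hp.pos h
    omega
  have : j = 1 := by omega
  rw [hj, this, pow_one]

theorem card_inf (hn : Nat.card (Sylow p S) < p ^ 2) (R T : Sylow p S) (hne : R ≠ T) :
    Nat.card ((R : Subgroup S) ⊓ T : Subgroup S) * p = Nat.card R := by
  have h := card_mul_relIndex (inf_le_left : (R : Subgroup S) ⊓ T ≤ R)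
  rw [Subgroup.inf_relIndex_left, relIndex_eq_p hn R T hne] at h
  exact h

theorem conj_mem_of_mem_inf (hn : Nat.card (Sylow p S) < p ^ 2) (R T : Sylow p S) (hne : R ≠ T)
    {x y : S} (hx : x ∈ R) (hy : y ∈ (R : Subgroup S) ⊓ T) :
    x * y * x⁻¹ ∈ T := by
  have hp : p.Prime := Fact.out
  have hidx : ((T : Subgroup S).subgroupOf R).index = p := relIndex_eq_p hn R T hne
  obtain ⟨N, hN⟩ := IsPGroup.iff_card.mp R.2
  have hN0 : N ≠ 0 := by
    rintro rfl
    have h1 := Subgroup.relIndex_dvd_card (T : Subgroup S) (R : Subgroup S)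
    rw [relIndex_eq_p hn R T hne, hN, pow_zero] at h1
    exact hp.one_lt.ne' (Nat.dvd_one.mp h1)
  have hnorm : ((T : Subgroup S).subgroupOf R).Normal := by
    apply Subgroup.normal_of_index_eq_minFac_card
    rw [hidx, hN, Nat.Prime.pow_minFac hp hN0]
  have := hnorm.conj_mem ⟨y, hy.1⟩ (by rw [Subgroup.mem_subgroupOf]; exact hy.2) ⟨x, hx⟩
  rw [Subgroup.mem_subgroupOf] at this
  have h' : x * y * x⁻¹ ∈ (T : Subgroup S) := by simpa using this
  exact h'

end

theorem sylow_ne_top {S : Type*} [Group S] [Finite S] [IsSimpleGroup S]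
    (hS : ¬ IsMulCommutative S) (p : ℕ) [Fact p.Prime] (P : Sylow p S) :
    (P : Subgroup S) ≠ ⊤ := by
  intro h
  have hpg : IsPGroup p S := by
    intro g
    obtain ⟨k, hk⟩ := P.2 ⟨g, h ▸ Subgroup.mem_top g⟩
    exact ⟨k, by simpa using congrArg Subtype.val hk⟩
  have hc : Nontrivial (Subgroup.center S) := hpg.center_nontrivial
  have hcn : (Subgroup.center S) ≠ ⊥ := (Subgroup.nontrivial_iff_ne_bot _).mp hc
  have hct : Subgroup.center S = ⊤ :=
    ((inferInstance : (Subgroup.center S).Normal).eq_bot_or_eq_top).resolve_left hcn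
  apply hS
  refine ⟨⟨fun a b => ?_⟩⟩
  have : b ∈ Subgroup.center S := hct ▸ Subgroup.mem_top b
  exact Subgroup.mem_center_iff.mp this a

/-- Let S be a finite non-abelian simple group and p a prime dividing its order. If S has fewer than p² Sylow p-subgroups, then its Sylow p-subgroups have order p. -/
theorem result {S : Type*} [Group S] [Finite S]
    [IsSimpleGroup S] (hS : ¬ IsMulCommutative S) (p : ℕ) [Fact p.Prime] (hp : p ∣ Nat.card S)
    (hn : Nat.card (Sylow p S) < p ^ 2) (P : Sylow p S) : Nat.card P = p := by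
  classical
  have hpp : p.Prime := Fact.out
  have hPtop := sylow_ne_top hS p
  obtain ⟨Q, hQP⟩ : ∃ Q : Sylow p S, Q ≠ P := by
    by_contra hcon
    push Not at hcon
    have : Subsingleton (Sylow p S) := ⟨fun A B => (hcon A).trans (hcon B).symm⟩
    have hnorm : (P : Subgroup S).Normal := Sylow.normal_of_subsingleton P
    rcases hnorm.eq_bot_or_eq_top with h | h
    · exact P.ne_bot_of_dvd_card hp h
    · exact hPtop P h
  have hkey : ∀ R : Sylow p S, (P : Subgroup S) ⊓ Q ≤ R := by
    intro R
    by_contra hDR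
    have hRP : P ≠ R := by rintro rfl; exact hDR inf_le_left
    have cardS : ∀ A B : Sylow p S, Nat.card A = Nat.card B := fun A B => by
      rw [Sylow.card_eq_multiplicity, Sylow.card_eq_multiplicity]
    have hm : ∀ A B : Sylow p S, A ≠ B →
        Nat.card ((A : Subgroup S) ⊓ B : Subgroup S) * p = Nat.card P := fun A B h => by
      rw [card_inf hn A B h, cardS A P]
    have heq : ∀ (H K : Subgroup S), H ≤ K → Nat.card H * p = Nat.card P →
        Nat.card K * p = Nat.card P → H = K := by
      intro H K hle h1 h2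
      apply Subgroup.eq_of_le_of_card_ge hle
      have : Nat.card K * p = Nat.card H * p := h2.trans h1.symm
      exact le_of_eq (Nat.eq_of_mul_eq_mul_right hpp.pos this)
    have horb : (MulAction.orbit (P : Subgroup S) R).ncard = p := by
      rw [orbit_ncard, relIndex_eq_p hn P R hRP]
    have hT : ∀ T ∈ MulAction.orbit (P : Subgroup S) R,
        T ≠ P ∧ T ≠ Q ∧ (P : Subgroup S) ⊓ R ≤ T := by
      rintro T ⟨x, rfl⟩
      have h3 : (P : Subgroup S) ⊓ R ≤ ((x : S) • R : Sylow p S) := by
        intro y hy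
        show y ∈ ((x : S) • R : Sylow p S)
        rw [mem_smul_sylow]
        have := conj_mem_of_mem_inf hn P R hRP (inv_mem x.2) hy
        simpa using this
      refine ⟨?_, ?_, h3⟩
      · intro h
        apply hRP
        have hxP : (x : S) • P = P :=
          Sylow.smul_eq_iff_mem_normalizer.mpr (Subgroup.le_normalizer x.2)
        have h' : (x : S) • R = (x : S) • P := by rw [hxP]; exact h
        exact (MulAction.injective (x : S) h').symm
      · intro h
        apply hDR
        have h' : (x : S) • R = Q := h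
        rw [h'] at h3
        have hle : (P : Subgroup S) ⊓ R ≤ (P : Subgroup S) ⊓ Q := le_inf inf_le_left h3
        have := heq _ _ hle (hm P R hRP) (hm P Q hQP.symm)
        rw [← this]; exact inf_le_right
    have hdisj : ∀ T ∈ MulAction.orbit (P : Subgroup S) R,
        ∀ T' ∈ MulAction.orbit (P : Subgroup S) R,
        T' ∈ MulAction.orbit (Q : Subgroup S) T → T = T' := by
      intro T hTo T' hTo' hQo
      by_contra hne
      obtain ⟨z, rfl⟩ := hQo
      obtain ⟨hTP, hTQ, hDT⟩ := hT T hTo
      obtain ⟨hTP', hTQ', hDT'⟩ := hT _ hTo'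
      have hE : (Q : Subgroup S) ⊓ T ≤ ((z : S) • T : Sylow p S) := by
        intro y hy
        show y ∈ ((z : S) • T : Sylow p S)
        rw [mem_smul_sylow]
        have := conj_mem_of_mem_inf hn Q T (Ne.symm hTQ) (inv_mem z.2) hy
        simpa using this
      have e1 : (Q : Subgroup S) ⊓ T = (T : Subgroup S) ⊓ ((z • T : Sylow p S) : Subgroup S) :=
        heq _ _ (le_inf inf_le_right hE) (hm Q T (Ne.symm hTQ)) (hm T _ hne)
      have e2 : (P : Subgroup S) ⊓ R = (T : Subgroup S) ⊓ ((z • T : Sylow p S) : Subgroup S) :=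
        heq _ _ (le_inf hDT hDT') (hm P R hRP) (hm T _ hne)
      have hle : (P : Subgroup S) ⊓ R ≤ (P : Subgroup S) ⊓ Q := by
        refine le_inf inf_le_left ?_
        rw [e2, ← e1]; exact inf_le_left
      have := heq _ _ hle (hm P R hRP) (hm P Q hQP.symm)
      apply hDR
      rw [← this]; exact inf_le_right
    have hen0 : ∃ e₀ : Fin p → Sylow p S, Function.Injective e₀ ∧
        ∀ a, e₀ a ∈ MulAction.orbit (P : Subgroup S) R := by
      have hc : Nat.card (MulAction.orbit (P : Subgroup S) R) = p := by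
        rw [Nat.card_coe_set_eq]; exact horb
      exact ⟨fun a => ((Finite.equivFinOfCardEq hc).symm a : Sylow p S),
        fun a b h => (Finite.equivFinOfCardEq hc).symm.injective (Subtype.ext h),
        fun a => ((Finite.equivFinOfCardEq hc).symm a).2⟩
    obtain ⟨e₀, he₀inj, he₀mem⟩ := hen0
    have hen : ∀ T : Sylow p S, ∃ e : Fin p → Sylow p S, T ≠ Q →
        (Function.Injective e ∧ ∀ b, e b ∈ MulAction.orbit (Q : Subgroup S) T) := by
      intro T
      by_cases hTQ : T = Q
      · exact ⟨fun _ => T, fun h => absurd hTQ h⟩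
      · have hc : Nat.card (MulAction.orbit (Q : Subgroup S) T) = p := by
          rw [Nat.card_coe_set_eq, orbit_ncard, relIndex_eq_p hn Q T (Ne.symm hTQ)]
        exact ⟨fun a => ((Finite.equivFinOfCardEq hc).symm a : Sylow p S),
          fun _ => ⟨fun a b h => (Finite.equivFinOfCardEq hc).symm.injective (Subtype.ext h),
            fun a => ((Finite.equivFinOfCardEq hc).symm a).2⟩⟩
    choose enum henum using hen
    have hf : Function.Injective (fun ab : Fin p × Fin p => enum (e₀ ab.1) ab.2) := by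
      rintro ⟨a, b⟩ ⟨a', b'⟩ h
      simp only at h
      have h1 := henum (e₀ a) (hT _ (he₀mem a)).2.1
      have h2 := henum (e₀ a') (hT _ (he₀mem a')).2.1
      have m1 := h1.2 b
      have m2 := h2.2 b'
      rw [h] at m1
      have hmem : e₀ a' ∈ MulAction.orbit (Q : Subgroup S) (e₀ a) := by
        rw [← MulAction.orbit_eq_iff] at m1 m2
        rw [← MulAction.orbit_eq_iff, ← m2, m1]
      have haa : e₀ a = e₀ a' := hdisj _ (he₀mem a) _ (he₀mem a') hmem
      have hab : a = a' := he₀inj haa
      subst hab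
      have hbb : b = b' := h1.1 h
      rw [hbb]
    have hcard := Nat.card_le_card_of_injective _ hf
    rw [Nat.card_prod, Nat.card_fin] at hcard
    have : p * p = p ^ 2 := by ring
    omega
  have hD : (P : Subgroup S) ⊓ Q = ⊥ := by
    have hKn : (⨅ R : Sylow p S, (R : Subgroup S)).Normal := by
      refine ⟨fun x hx g => ?_⟩
      rw [Subgroup.mem_iInf] at hx ⊢
      intro R
      have h2 : x ∈ (g⁻¹ • R : Sylow p S) := hx (g⁻¹ • R)
      rw [mem_smul_sylow] at h2
      have h3 : g * x * g⁻¹ ∈ R := by simpa using h2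
      exact h3
    have hKP : (⨅ R : Sylow p S, (R : Subgroup S)) ≤ P := iInf_le _ P
    have hK : (⨅ R : Sylow p S, (R : Subgroup S)) = ⊥ := by
      rcases hKn.eq_bot_or_eq_top with h | h
      · exact h
      · exact absurd (top_le_iff.mp (h ▸ hKP)) (hPtop P)
    have : (P : Subgroup S) ⊓ Q ≤ (⨅ R : Sylow p S, (R : Subgroup S)) := le_iInf hkey
    rw [hK] at this
    exact le_bot_iff.mp this
  have h1 := card_inf hn P Q hQP.symm
  rw [hD, Subgroup.card_bot, one_mul] at h1
  exact h1.symm

end Cfsg.Agent.S4343
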