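import Cfsg.Statements.S3975
import Mathlib

set_option autoImplicit false
open Cfsg

namespace Cfsg.Agent.S3975

open scoped Pointwise

/-- If a group acts on a finite type and `d` divides the length of every orbit meeting an
invariant set `Y`, then `d` divides the size of `Y`. -/
theorem dvd_ncard_of_invariant {G X : Type*} [Group G] [MulAction G X] [Finite X]
    (d : ℕ) (Y : Set X) (hY : ∀ (g : G), ∀ x ∈ Y, g • x ∈ Y)
    (hd : ∀ x ∈ Y, d ∣ (MulAction.stabilizer G x).index) : d ∣ Y.ncard := by
  induction hn : Y.ncard using Nat.strong_induction_on generalizing Y with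
  | _ n ih =>
    rcases Set.eq_empty_or_nonempty Y with rfl | ⟨x, hx⟩
    · rw [← hn]; simp
    · set O := MulAction.orbit G x with hO
      have hOY : O ⊆ Y := by
        rintro _ ⟨g, rfl⟩
        exact hY g x hx
      have h1 : (Y \ O).ncard + O.ncard = Y.ncard := Set.ncard_sdiff_add_ncard_of_subset hOY
      have h2 : O.ncard = (MulAction.stabilizer G x).index := (MulAction.index_stabilizer G x).symm
      have hOpos : 0 < O.ncard := by
        rw [Set.ncard_pos]
        exact ⟨x, MulAction.mem_orbit_self x⟩
      have h3 : d ∣ (Y \ O).ncard := by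
        apply ih (Y \ O).ncard (by omega) (Y \ O) _ _ rfl
        · intro g y hy
          refine ⟨hY g y hy.1, fun hgy => hy.2 ?_⟩
          have : y ∈ MulAction.orbit G (g • y) := MulAction.mem_orbit_smul g y
          rw [MulAction.orbit_eq_iff.mpr hgy] at this
          exact this
        · intro y hy
          exact hd y hy.1
      rw [← hn, ← h1]
      exact Dvd.dvd.add h3 (h2 ▸ hd x hx)

/-- The order of the stabilizer of a finite subset under left translation divides its size. -/
theorem card_stabilizer_dvd_ncard {G : Type*} [Group G] [Finite G] (S : Set G) :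
    Nat.card (MulAction.stabilizer G S) ∣ S.ncard := by
  set H := MulAction.stabilizer G S with hH
  apply dvd_ncard_of_invariant (G := H) (X := G) (Nat.card H) S
  · intro h x hx
    have h1 : (h : G) • S = S := h.2
    have h2 : (h : G) • x ∈ (h : G) • S := Set.smul_mem_smul_set hx
    rw [h1] at h2
    exact h2
  · intro x hx
    have : MulAction.stabilizer H x = ⊥ := by
      rw [eq_bot_iff]
      intro h hh
      rw [MulAction.mem_stabilizer_iff] at hh
      have h1 : (h : G) * x = x := hh
      rw [Subgroup.mem_bot]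
      apply Subtype.ext
      simpa using h1
    rw [this, Subgroup.index_bot]

/-- the left coset of `H` given by `q`, as a set -/
def cosetSet {G : Type*} [Group G] (H : Subgroup G) (q : G ⧸ H) : Set G := {x | (x : G ⧸ H) = q}

theorem mem_cosetSet_mk {G : Type*} [Group G] (H : Subgroup G) (g x : G) :
    x ∈ cosetSet H (g : G ⧸ H) ↔ g⁻¹ * x ∈ H := by
  change (x : G ⧸ H) = (g : G ⧸ H) ↔ _
  rw [eq_comm, QuotientGroup.eq]

theorem cosetSet_mk_eq_smul {G : Type*} [Group G] (H : Subgroup G) (g : G) :
    cosetSet H (g : G ⧸ H) = g • (H : Set G) := by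
  ext x
  rw [mem_cosetSet_mk, Set.mem_smul_set_iff_inv_smul_mem]
  rfl

theorem ncard_cosetSet {G : Type*} [Group G] (H : Subgroup G) (q : G ⧸ H) :
    (cosetSet H q).ncard = Nat.card H := by
  induction q using QuotientGroup.induction_on with
  | H g =>
    rw [cosetSet_mk_eq_smul, Set.ncard_smul_set]
    rfl

theorem card_stabilizer_cosetSet {G : Type*} [Group G] [Finite G] (H : Subgroup G) (q : G ⧸ H) :
    Nat.card (MulAction.stabilizer G (cosetSet H q)) = Nat.card H := by
  apply Nat.dvd_antisymm
  · rw [← ncard_cosetSet H q]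
    exact card_stabilizer_dvd_ncard _
  · induction q using QuotientGroup.induction_on with
    | H g =>
      rw [← Subgroup.card_map_of_injective (K := H) (f := (MulAut.conj g).toMonoidHom)
        (MulAut.conj g).injective]
      apply Subgroup.card_dvd_of_le
      rintro _ ⟨h, hh, rfl⟩
      rw [MulAction.mem_stabilizer_iff, cosetSet_mk_eq_smul, smul_smul]
      have h1 : (MulAut.conj g).toMonoidHom h * g = g * h := by
        simp [MulAut.conj_apply]
      rw [h1, ← smul_smul, smul_coe_set hh]

/-- The subsets of size `k` with stabilizer of order `k` are the left cosets of the subgroups of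
order `k`. -/
theorem ncard_cosets {G : Type*} [Group G] [Finite G] (k : ℕ) :
    {S : Set G | S.ncard = k ∧ Nat.card (MulAction.stabilizer G S) = k}.ncard
      = Nat.card {H : Subgroup G // Nat.card H = k} * (Nat.card G / k) := by
  classical
  let F : (Σ H : {H : Subgroup G // Nat.card H = k}, G ⧸ H.1) → Set G :=
    fun x => cosetSet x.1.1 x.2
  have hinj : Function.Injective F := by
    rintro ⟨⟨H, hH⟩, q⟩ ⟨⟨H', hH'⟩, q'⟩ h
    induction q using QuotientGroup.induction_on with
    | H g =>
    induction q' using QuotientGroup.induction_on with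
    | H g' =>
    simp only [F] at h
    have hmem : ∀ x : G, g⁻¹ * x ∈ H ↔ g'⁻¹ * x ∈ H' := by
      intro x
      rw [← mem_cosetSet_mk, ← mem_cosetSet_mk, h]
    have h1 : g'⁻¹ * g ∈ H' := (hmem g).mp (by simp)
    have hHH' : H = H' := by
      ext y
      have := hmem (g * y)
      rw [inv_mul_cancel_left] at this
      rw [this]
      have e : g'⁻¹ * (g * y) = (g'⁻¹ * g) * y := by group
      rw [e]
      exact Subgroup.mul_mem_cancel_left H' h1
    subst hHH'
    have : (g : G ⧸ H) = (g' : G ⧸ H) := by
      rw [eq_comm, QuotientGroup.eq]; exact h1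
    rw [this]
  have hrange : Set.range F = {S : Set G | S.ncard = k ∧ Nat.card (MulAction.stabilizer G S) = k} := by
    ext S
    constructor
    · rintro ⟨⟨⟨H, hH⟩, q⟩, rfl⟩
      exact ⟨by simp only [F]; rw [ncard_cosetSet, hH],
        by simp only [F]; rw [card_stabilizer_cosetSet, hH]⟩
    · rintro ⟨hS, hstab⟩
      rcases Nat.eq_zero_or_pos k with rfl | hk
      · -- impossible: the stabilizer is a subgroup
        exact absurd hstab Nat.card_pos.ne'
      have hne : S.Nonempty := by
        rw [← Set.ncard_pos]; omega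
      obtain ⟨s, hs⟩ := hne
      set K := MulAction.stabilizer G S with hK
      -- S = K s
      have hsub : (fun x : G => x * s) '' (K : Set G) ⊆ S := by
        rintro _ ⟨x, hx, rfl⟩
        have h1 : x • S = S := hx
        have h2 : x • s ∈ x • S := Set.smul_mem_smul_set hs
        rw [h1] at h2
        exact h2
      have hcard : ((fun x : G => x * s) '' (K : Set G)).ncard = k := by
        rw [Set.ncard_image_of_injective _ (mul_left_injective s)]
        exact hstab
      have hSeq : (fun x : G => x * s) '' (K : Set G) = S :=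
        Set.eq_of_subset_of_ncard_le hsub (by rw [hcard, hS])
      -- the subgroup s⁻¹ K s
      let H : Subgroup G := K.map (MulAut.conj s⁻¹).toMonoidHom
      have hH : Nat.card H = k := by
        rw [Subgroup.card_map_of_injective (MulAut.conj s⁻¹).injective]
        exact hstab
      refine ⟨⟨⟨H, hH⟩, (s : G ⧸ H)⟩, ?_⟩
      simp only [F]
      ext x
      rw [mem_cosetSet_mk, ← hSeq]
      constructor
      · rintro ⟨y, hy, hyx⟩
        refine ⟨y, hy, ?_⟩
        have h1 : s⁻¹ * y * s = s⁻¹ * x := by simpa [MulAut.conj_apply] using hyx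
        calc y * s = s * (s⁻¹ * y * s) := by group
          _ = s * (s⁻¹ * x) := by rw [h1]
          _ = x := by group
      · rintro ⟨y, hy, rfl⟩
        refine ⟨y, hy, ?_⟩
        simp [mul_assoc]
  have := Fintype.ofFinite {H : Subgroup G // Nat.card H = k}
  rw [← hrange, Set.ncard_range_of_injective hinj, Nat.card_sigma]
  have hidx : ∀ H : {H : Subgroup G // Nat.card H = k}, Nat.card (G ⧸ H.1) = Nat.card G / k := by
    rintro ⟨H, hH⟩
    have h1 := Subgroup.card_eq_card_quotient_mul_card_subgroup H
    rw [hH] at h1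
    rcases Nat.eq_zero_or_pos k with rfl | hk
    · exact absurd hH Nat.card_pos.ne'
    · rw [h1, Nat.mul_div_cancel _ hk]
  rw [Finset.sum_congr rfl (fun H _ => hidx H), Finset.sum_const, Finset.card_univ,
    ← Nat.card_eq_fintype_card, smul_eq_mul]

theorem choose_pred_modEq_one (p : ℕ) [Fact p.Prime] (β m : ℕ) (hm : 0 < m) :
    Nat.choose (p ^ β * m - 1) (p ^ β - 1) ≡ 1 [MOD p] := by
  have hp : p.Prime := Fact.out
  induction β with
  | zero => simp [Nat.ModEq]
  | succ β ih =>
    have h := Choose.choose_modEq_choose_mod_mul_choose_div_nat (n := p ^ (β + 1) * m - 1)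
      (k := p ^ (β + 1) - 1) (p := p)
    have hA : 0 < p ^ β * m := Nat.mul_pos (pow_pos hp.pos _) hm
    have hB : 0 < p ^ β := pow_pos hp.pos _
    have hn : p ^ (β + 1) * m - 1 = p * (p ^ β * m - 1) + (p - 1) := by
      obtain ⟨A, hA'⟩ : ∃ A, p ^ β * m = A + 1 := ⟨p ^ β * m - 1, by omega⟩
      have e : p ^ (β + 1) * m = p * (p ^ β * m) := by ring
      rw [e, hA', Nat.add_sub_cancel, Nat.mul_succ]
      have := hp.pos
      omega
    have hk : p ^ (β + 1) - 1 = p * (p ^ β - 1) + (p - 1) := by
      obtain ⟨B, hB'⟩ : ∃ B, p ^ β = B + 1 := ⟨p ^ β - 1, by omega⟩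
      have e : p ^ (β + 1) = p * p ^ β := by ring
      rw [e, hB', Nat.add_sub_cancel, Nat.mul_succ]
      have := hp.pos
      omega
    have hlt : p - 1 < p := Nat.sub_lt hp.pos Nat.one_pos
    rw [hn, hk, Nat.mul_add_mod, Nat.mul_add_mod, Nat.mod_eq_of_lt hlt,
      Nat.mul_add_div hp.pos, Nat.mul_add_div hp.pos, Nat.div_eq_of_lt hlt, Nat.choose_self,
      one_mul, add_zero, add_zero] at h
    rw [hn, hk]
    exact h.trans ih

/-- Let `p` be a prime and `G` a finite group whose order is divisible by `p ^ β`. Then the number of subgroups of `G` of order `p ^ β` is congruent to `1` modulo `p`. (When `p ^ β` is the full power of `p` dividing the order, these are the Sylow `p`-subgroups and this is the usual Sylow count.) -/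
theorem result {G : Type*} [Group G] [Finite G] (p β : ℕ) (hp : p.Prime) (hdiv : p ^ β ∣ Nat.card G) : Nat.card {H : Subgroup G // Nat.card H = p ^ β} ≡ 1 [MOD p] := by
  have := Fact.mk hp
  obtain ⟨m, hm⟩ := hdiv
  have hmpos : 0 < m := by
    rcases Nat.eq_zero_or_pos m with rfl | h
    · rw [mul_zero] at hm; exact absurd hm Nat.card_pos.ne'
    · exact h
  have hk : 0 < p ^ β := pow_pos hp.pos β
  set N := Nat.card {H : Subgroup G // Nat.card H = p ^ β} with hN
  -- the three families of subsets
  set Ω : Set (Set G) := {S | S ⊆ Set.univ ∧ S.ncard = p ^ β} with hΩ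
  set Ω₀ : Set (Set G) :=
    {S | S.ncard = p ^ β ∧ Nat.card (MulAction.stabilizer G S) = p ^ β} with hΩ₀
  set Y : Set (Set G) :=
    {S | S.ncard = p ^ β ∧ Nat.card (MulAction.stabilizer G S) ≠ p ^ β} with hY
  have h1 : Ω.ncard = (Nat.card G).choose (p ^ β) := by
    rw [hΩ, Set.ncard_powerset_ncard Set.finite_univ, Set.ncard_univ]
  have h2 : Ω₀.ncard = N * m := by
    rw [hΩ₀, ncard_cosets, hm, Nat.mul_div_cancel_left _ hk]
  have h3 : p * m ∣ Y.ncard := by
    apply dvd_ncard_of_invariant (G := G)
    · intro g S hS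
      refine ⟨by rw [Set.ncard_smul_set]; exact hS.1, ?_⟩
      rw [MulAction.stabilizer_smul_eq_stabilizer_map_conj,
        Subgroup.card_map_of_injective (MulAut.conj g).injective]
      exact hS.2
    · intro S hS
      have hd := card_stabilizer_dvd_ncard S
      rw [hS.1] at hd
      obtain ⟨j, hj, hj2⟩ := (Nat.dvd_prime_pow hp).mp hd
      have hjlt : j < β := lt_of_le_of_ne hj (fun h => hS.2 (h ▸ hj2))
      have h4 := Subgroup.card_mul_index (MulAction.stabilizer G S)
      rw [hj2, hm] at h4
      obtain ⟨t, rfl⟩ : ∃ t, β = j + 1 + t := ⟨β - j - 1, by omega⟩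
      have h5 : (MulAction.stabilizer G S).index = p ^ t * (p * m) := by
        apply Nat.eq_of_mul_eq_mul_left (pow_pos hp.pos j)
        rw [h4]; ring
      rw [h5]; exact dvd_mul_left _ _
  have h4 : Ω.ncard = Ω₀.ncard + Y.ncard := by
    have hu : Ω = Ω₀ ∪ Y := by
      ext S
      simp only [hΩ, hΩ₀, hY, Set.mem_ofPred_eq, Set.mem_union, Set.subset_univ, true_and]
      tauto
    have hdisj : Disjoint Ω₀ Y := by
      rw [Set.disjoint_left]; rintro S ⟨_, h⟩ ⟨_, h'⟩; exact h' h
    rw [hu, Set.ncard_union_eq hdisj]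
  obtain ⟨t, ht⟩ := h3
  have h5 : (Nat.card G).choose (p ^ β) = m * (p ^ β * m - 1).choose (p ^ β - 1) := by
    have := Nat.add_one_mul_choose_eq (p ^ β * m - 1) (p ^ β - 1)
    rw [Nat.sub_add_cancel (Nat.mul_pos hk hmpos), Nat.sub_add_cancel hk] at this
    rw [hm]
    apply Nat.eq_of_mul_eq_mul_right hk
    rw [← this]; ring
  have h6 := choose_pred_modEq_one p β m hmpos
  have h7 : (p ^ β * m - 1).choose (p ^ β - 1) = N + p * t := by
    apply Nat.eq_of_mul_eq_mul_left hmpos
    rw [← h5, ← h1, h4, h2, ht]; ring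
  rw [h7] at h6
  have h8 : N ≡ N + p * t [MOD p] := (Nat.add_mul_mod_self_left N p t).symm
  exact h8.trans h6

end Cfsg.Agent.S3975
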