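import Cfsg.Statements.S3977
import Mathlib

set_option autoImplicit false
open Cfsg

namespace Cfsg.Agent.S3977

universe u

/-- Lemma A: powers past a central commutator. -/
theorem pow_mul_central {G : Type*} [Group G] (x y c : G) (hc : c ∈ Subgroup.center G)
    (h : y * x = c * x * y) (n : ℕ) : y ^ n * x = c ^ n * x * y ^ n := by
  induction n with
  | zero => simp
  | succ n ih =>
    have hcy : y ^ n * c = c * y ^ n := (Subgroup.mem_center_iff.1 hc (y ^ n))
    calc y ^ (n + 1) * x = y ^ n * (y * x) := by rw [pow_succ, mul_assoc]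
      _ = y ^ n * (c * x * y) := by rw [h]
      _ = (y ^ n * c) * x * y := by group
      _ = c * (y ^ n * x) * y := by rw [hcy]; group
      _ = c * (c ^ n * x * y ^ n) * y := by rw [ih]
      _ = c ^ (n + 1) * x * y ^ (n + 1) := by group

/-- Lemma B: power of a product in class two. -/
theorem mul_pow_central {G : Type*} [Group G] (x y c : G) (hc : c ∈ Subgroup.center G)
    (h : y * x = c * x * y) (n : ℕ) :
    (x * y) ^ n = x ^ n * y ^ n * c ^ (∑ i ∈ Finset.range n, i) := by
  induction n with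
  | zero => simp
  | succ n ih =>
    have hA := pow_mul_central x y c hc h n
    have hc1 : ∀ g : G, g * c ^ (∑ i ∈ Finset.range n, i) = c ^ (∑ i ∈ Finset.range n, i) * g :=
      fun g => Subgroup.mem_center_iff.1 (Subgroup.pow_mem _ hc _) g
    have hc2 : ∀ g : G, g * c ^ n = c ^ n * g :=
      fun g => Subgroup.mem_center_iff.1 (Subgroup.pow_mem _ hc _) g
    have e0 : x ^ n * (c ^ n * x * y ^ n) * y = c ^ n * (x ^ n * x * y ^ n * y) := by
      calc x ^ n * (c ^ n * x * y ^ n) * y = (x ^ n * c ^ n) * (x * y ^ n * y) := by group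
        _ = (c ^ n * x ^ n) * (x * y ^ n * y) := by rw [hc2]
        _ = c ^ n * (x ^ n * x * y ^ n * y) := by group
    have e1 : x ^ (n + 1) * y ^ (n + 1) * (c ^ (∑ i ∈ Finset.range n, i) * c ^ n)
        = c ^ (∑ i ∈ Finset.range n, i) * (c ^ n * (x ^ (n + 1) * y ^ (n + 1))) := by
      calc x ^ (n + 1) * y ^ (n + 1) * (c ^ (∑ i ∈ Finset.range n, i) * c ^ n)
          = (x ^ (n + 1) * y ^ (n + 1) * c ^ (∑ i ∈ Finset.range n, i)) * c ^ n := by
            simp only [mul_assoc]
        _ = (c ^ (∑ i ∈ Finset.range n, i) * (x ^ (n + 1) * y ^ (n + 1))) * c ^ n := by rw [hc1]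
        _ = c ^ (∑ i ∈ Finset.range n, i) * ((x ^ (n + 1) * y ^ (n + 1)) * c ^ n) := by
            simp only [mul_assoc]
        _ = c ^ (∑ i ∈ Finset.range n, i) * (c ^ n * (x ^ (n + 1) * y ^ (n + 1))) := by rw [hc2]
    calc (x * y) ^ (n + 1) = (x * y) ^ n * (x * y) := pow_succ _ _
      _ = x ^ n * y ^ n * c ^ (∑ i ∈ Finset.range n, i) * (x * y) := by rw [ih]
      _ = c ^ (∑ i ∈ Finset.range n, i) * (x ^ n * (y ^ n * x) * y) := by
          rw [hc1 (x ^ n * y ^ n)]; group
      _ = c ^ (∑ i ∈ Finset.range n, i) * (x ^ n * (c ^ n * x * y ^ n) * y) := by rw [hA]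
      _ = c ^ (∑ i ∈ Finset.range n, i) * (c ^ n * (x ^ n * x * y ^ n * y)) := by rw [e0]
      _ = c ^ (∑ i ∈ Finset.range n, i) * (c ^ n * (x ^ (n + 1) * y ^ (n + 1))) := by
          rw [pow_succ x, pow_succ y]; simp only [mul_assoc]
      _ = x ^ (n + 1) * y ^ (n + 1) * c ^ (∑ i ∈ Finset.range (n + 1), i) := by
          rw [Finset.sum_range_succ, pow_add c, e1]

/-- Lemma C: a subgroup of a cyclic subgroup, of exponent dividing `n`, has at most `n` elements. -/
theorem card_le_of_cyclic {G : Type*} [Group G] [Finite G] (M S : Subgroup G) [IsCyclic M]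
    (n : ℕ) (hn0 : 0 < n) (hS : S ≤ M) (hn : ∀ a ∈ S, a ^ n = 1) : Nat.card S ≤ n := by
  classical
  have := Fintype.ofFinite M
  have hle := IsCyclic.card_pow_eq_one_le (α := M) hn0
  refine le_trans ?_ hle
  rw [← Nat.subtype_card (p := fun a : M => a ^ n = 1) _ (fun x => by simp)]
  let f : S → {a : M // a ^ n = 1} := fun s =>
    ⟨⟨s.1, hS s.2⟩, by ext; simpa using hn s.1 s.2⟩
  have hf : Function.Injective f := by
    intro a b hab
    have := congrArg (fun z : {a : M // a ^ n = 1} => (z.1 : G)) hab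
    exact Subtype.ext this
  exact Nat.card_le_card_of_injective f hf

/-- Lemma K: a `p`-group of order `p ^ m` all of whose subgroups of order `p ^ (m-1)` are cyclic
is cyclic, as soon as `m ≥ t + 2` where `x ↦ x ^ (p ^ t)` is forced to be a homomorphism. -/
theorem lemmaK {G : Type*} [Group G] [Finite G] (p m t : ℕ) (hp : p.Prime)
    (hG : Nat.card G = p ^ m) (ht1 : 1 ≤ t) (ht : t + 2 ≤ m)
    (hT : p ∣ ∑ i ∈ Finset.range (p ^ t), i)
    (hcyc : ∀ M : Subgroup G, Nat.card M = p ^ (m - 1) → IsCyclic M) : IsCyclic G := by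
  by_contra hnc
  have hfact : Fact p.Prime := ⟨hp⟩
  have hdvdG : p ^ (m - 1) ∣ Nat.card G := by rw [hG]; exact pow_dvd_pow p (by omega)
  -- (1) exponent
  have h1 : ∀ x : G, x ^ (p ^ (m - 1)) = 1 := by
    intro x
    have hdvd : orderOf x ∣ p ^ m := hG ▸ orderOf_dvd_natCard x
    obtain ⟨k, hk, hkx⟩ := (Nat.dvd_prime_pow hp).1 hdvd
    have hk' : k ≠ m := by
      rintro rfl
      exact hnc (isCyclic_of_orderOf_eq_card x (by rw [hkx, hG]))
    have hk2 : k ≤ m - 1 := by omega
    rw [← orderOf_dvd_iff_pow_eq_one, hkx]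
    exact pow_dvd_pow p hk2
  -- (2) every element lies in a maximal subgroup
  have hsub : ∀ x : G, ∃ M : Subgroup G, Nat.card M = p ^ (m - 1) ∧ x ∈ M := by
    intro x
    have hdvd : Nat.card (Subgroup.zpowers x) ∣ p ^ m := hG ▸ Subgroup.card_subgroup_dvd_card _
    obtain ⟨k, hk, hkx⟩ := (Nat.dvd_prime_pow hp).1 hdvd
    have hk' : k ≠ m := by
      rintro rfl
      exact hnc (isCyclic_of_orderOf_eq_card x (by rw [← Nat.card_zpowers, hkx, hG]))
    have hk2 : k ≤ m - 1 := by omega
    obtain ⟨M, hM, hle⟩ := Sylow.exists_subgroup_card_pow_prime_le p hdvdG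
      (Subgroup.zpowers x) hkx hk2
    exact ⟨M, hM, hle (Subgroup.mem_zpowers x)⟩
  obtain ⟨M₁, hM₁, -⟩ := hsub 1
  have hM₁top : M₁ ≠ ⊤ := by
    intro h
    rw [h, Subgroup.card_top, hG] at hM₁
    have := Nat.pow_right_injective hp.two_le hM₁
    omega
  obtain ⟨x₀, hx₀⟩ : ∃ x, x ∉ M₁ := by
    by_contra hcon
    simp only [not_exists, not_not] at hcon
    exact hM₁top ((Subgroup.eq_top_iff' M₁).2 hcon)
  obtain ⟨M₂, hM₂, hx₀M₂⟩ := hsub x₀
  have hne : M₁ ≠ M₂ := fun h => hx₀ (h ▸ hx₀M₂)
  -- (3) anything containing both is everything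
  have htop : ∀ S : Subgroup G, M₁ ≤ S → M₂ ≤ S → S = ⊤ := by
    intro S h1S h2S
    by_contra hS
    have hdvd : Nat.card S ∣ p ^ m := hG ▸ Subgroup.card_subgroup_dvd_card _
    obtain ⟨k, hk, hkS⟩ := (Nat.dvd_prime_pow hp).1 hdvd
    have hk' : k ≠ m := by
      rintro rfl
      exact hS (Subgroup.eq_top_of_card_eq S (by rw [hkS, hG]))
    have hk2 : k ≤ m - 1 := by omega
    have hle : Nat.card S ≤ p ^ (m - 1) := hkS ▸ Nat.pow_le_pow_right hp.pos hk2
    have e1 : M₁ = S := Subgroup.eq_of_le_of_card_ge h1S (by rw [hM₁]; exact hle)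
    have e2 : M₂ = S := Subgroup.eq_of_le_of_card_ge h2S (by rw [hM₂]; exact hle)
    exact hne (e1.trans e2.symm)
  -- the intersection is central
  have hcomm : ∀ M : Subgroup G, Nat.card M = p ^ (m - 1) → ∀ a ∈ M, ∀ b ∈ M, a * b = b * a := by
    intro M hM a ha b hb
    have := hcyc M hM
    have hc := (IsCyclic.commGroup (α := M)).mul_comm ⟨a, ha⟩ ⟨b, hb⟩
    exact congrArg Subtype.val hc
  have hcenter : ∀ d : G, d ∈ M₁ → d ∈ M₂ → d ∈ Subgroup.center G := by
    intro d hd1 hd2
    have : Subgroup.centralizer {d} = ⊤ := by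
      apply htop
      · intro a ha
        rw [Subgroup.mem_centralizer_iff]
        intro z hz
        rw [Set.mem_singleton_iff] at hz
        subst hz
        exact hcomm M₁ hM₁ z hd1 a ha
      · intro a ha
        rw [Subgroup.mem_centralizer_iff]
        intro z hz
        rw [Set.mem_singleton_iff] at hz
        subst hz
        exact hcomm M₂ hM₂ z hd2 a ha
    rw [Subgroup.mem_center_iff]
    intro g
    have hg : g ∈ Subgroup.centralizer {d} := this ▸ Subgroup.mem_top g
    rw [Subgroup.mem_centralizer_iff] at hg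
    exact (hg d rfl).symm
  -- (4) normality, p-th powers and commutators
  have hidx : ∀ M : Subgroup G, Nat.card M = p ^ (m - 1) → M.index = p := by
    intro M hM
    have h := Subgroup.card_mul_index M
    rw [hM, hG] at h
    have hm : m = (m - 1) + 1 := by omega
    rw [hm, pow_succ] at h
    simp only [Nat.add_sub_cancel] at h
    exact Nat.eq_of_mul_eq_mul_left (pow_pos hp.pos _) h
  have hnormal : ∀ M : Subgroup G, Nat.card M = p ^ (m - 1) → M.Normal := by
    intro M hM
    apply Subgroup.normal_of_index_eq_minFac_card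
    rw [hidx M hM, hG, Nat.pow_minFac (by omega), Nat.Prime.minFac_eq hp]
  have hpow : ∀ M : Subgroup G, Nat.card M = p ^ (m - 1) → ∀ x : G, x ^ p ∈ M := by
    intro M hM x
    have hN := hnormal M hM
    have h : ((x : G) : G ⧸ M) ^ p = 1 := by
      have h' := pow_card_eq_one' (G := G ⧸ M) (x := (x : G ⧸ M))
      rwa [← Subgroup.index_eq_card, hidx M hM] at h'
    rw [← QuotientGroup.mk_pow, QuotientGroup.eq_one_iff] at h
    exact h
  have hcommu : ∀ M : Subgroup G, Nat.card M = p ^ (m - 1) → ∀ x y : G,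
      y * x * y⁻¹ * x⁻¹ ∈ M := by
    intro M hM x y
    have hN := hnormal M hM
    have hcard : Nat.card (G ⧸ M) = p := by rw [← Subgroup.index_eq_card, hidx M hM]
    have hcy : IsCyclic (G ⧸ M) := isCyclic_of_prime_card hcard
    have hc := (IsCyclic.commGroup (α := G ⧸ M)).mul_comm (y : G ⧸ M) (x : G ⧸ M)
    rw [← QuotientGroup.eq_one_iff]
    simp only [QuotientGroup.mk_mul, QuotientGroup.mk_inv]
    rw [hc]
    group
  -- (5) the power map is a homomorphism
  have hpc : ∀ x : G, x ^ p ∈ Subgroup.center G := fun x =>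
    hcenter _ (hpow M₁ hM₁ x) (hpow M₂ hM₂ x)
  have hmulpow : ∀ x y : G, (x * y) ^ (p ^ t) = x ^ (p ^ t) * y ^ (p ^ t) := by
    intro x y
    obtain ⟨c, hcdef⟩ : ∃ c, c = y * x * y⁻¹ * x⁻¹ := ⟨_, rfl⟩
    have hcc : c ∈ Subgroup.center G := by
      rw [hcdef]; exact hcenter _ (hcommu M₁ hM₁ x y) (hcommu M₂ hM₂ x y)
    have hyx : y * x = c * x * y := by rw [hcdef]; group
    have hcp : c ^ p = 1 := by
      have hA := pow_mul_central x y c hcc hyx p
      have hy := Subgroup.mem_center_iff.1 (hpc y) x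
      rw [← hy] at hA
      have : c ^ p * (x * y ^ p) = 1 * (x * y ^ p) := by rw [one_mul, ← mul_assoc]; exact hA.symm
      exact mul_right_cancel this
    have hB := mul_pow_central x y c hcc hyx (p ^ t)
    obtain ⟨r, hr⟩ := hT
    rw [hB, hr, pow_mul, hcp, one_pow, mul_one]
  let π : G →* G :=
    { toFun := fun x => x ^ (p ^ t)
      map_one' := one_pow _
      map_mul' := hmulpow }
  have hπ : ∀ x, π x = x ^ (p ^ t) := fun x => rfl
  -- (6) the range is small
  have hM₁c := hcyc M₁ hM₁
  have hrange : Nat.card π.range ≤ p ^ (m - 1 - t) := by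
    apply card_le_of_cyclic M₁ π.range (p ^ (m - 1 - t)) (pow_pos hp.pos _)
    · rintro _ ⟨x, rfl⟩
      rw [hπ]
      obtain ⟨t', rfl⟩ : ∃ t', t = t' + 1 := ⟨t - 1, by omega⟩
      rw [pow_succ, mul_comm, pow_mul]
      exact Subgroup.pow_mem _ (hpow M₁ hM₁ x) _
    · rintro _ ⟨x, rfl⟩
      rw [hπ, ← pow_mul, ← pow_add]
      have : t + (m - 1 - t) = m - 1 := by omega
      rw [this]
      exact h1 x
  have hker : p ^ (t + 1) ∣ Nat.card π.ker := by
    have h := Subgroup.card_mul_index π.ker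
    rw [Subgroup.index_ker, hG] at h
    have hdvd : Nat.card π.ker ∣ p ^ m := ⟨_, h.symm⟩
    obtain ⟨k, hk, hkS⟩ := (Nat.dvd_prime_pow hp).1 hdvd
    rw [hkS]
    apply pow_dvd_pow
    by_contra hlt
    have hk2 : k ≤ t := by omega
    have : p ^ m ≤ p ^ t * p ^ (m - 1 - t) := by
      rw [← h, hkS]
      exact Nat.mul_le_mul (Nat.pow_le_pow_right hp.pos hk2) hrange
    rw [← pow_add] at this
    have := (Nat.pow_le_pow_iff_right hp.one_lt).1 this
    omega
  -- (7) a subgroup of the kernel of order `p ^ (t + 1)` inside a cyclic maximal subgroup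
  obtain ⟨K'', hK''⟩ := Sylow.exists_subgroup_card_pow_prime p hker
  obtain ⟨K', hK'def⟩ : ∃ K', K' = K''.map π.ker.subtype := ⟨_, rfl⟩
  have hK'card : Nat.card K' = p ^ (t + 1) := by
    rw [hK'def, Subgroup.card_map_of_injective π.ker.subtype_injective, hK'']
  have hK'ker : ∀ a ∈ K', a ^ (p ^ t) = 1 := by
    intro a ha
    rw [hK'def] at ha
    obtain ⟨b, -, rfl⟩ := ha
    have := b.2
    rw [MonoidHom.mem_ker, hπ] at this
    exact this
  obtain ⟨M, hM, hle⟩ := Sylow.exists_subgroup_card_pow_prime_le p hdvdG K' hK'card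
    (by omega)
  have hMc := hcyc M hM
  have hfin := card_le_of_cyclic M K' (p ^ t) (pow_pos hp.pos _) hle hK'ker
  rw [hK'card] at hfin
  have := (Nat.pow_le_pow_iff_right hp.one_lt).1 hfin
  omega

theorem aux (p : ℕ) (hp : p.Prime) : ∀ (m : ℕ) (G : Type u) [Group G] [Finite G] (s : ℕ),
    Nat.card G = p ^ m → 1 ≤ s → s < m → (p ≠ 2 ∨ 2 ≤ s) →
    (∀ H K : Subgroup G, Nat.card H = p ^ s → Nat.card K = p ^ s → H = K) → IsCyclic G := by
  intro m
  induction m using Nat.strong_induction_on with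
  | _ m ih =>
    intro G _ _ s hG hs hsm h2 huniq
    have hfact : Fact p.Prime := ⟨hp⟩
    have hdvdG : p ^ s ∣ Nat.card G := by rw [hG]; exact pow_dvd_pow p (by omega)
    by_cases hm : m = s + 1
    · subst hm
      obtain ⟨H₀, hH₀⟩ := Sylow.exists_subgroup_card_pow_prime p hdvdG
      have hne : H₀ ≠ ⊤ := by
        intro h
        rw [h, Subgroup.card_top, hG] at hH₀
        have := Nat.pow_right_injective hp.two_le hH₀
        omega
      obtain ⟨x, hx⟩ : ∃ x, x ∉ H₀ := by
        by_contra hcon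
        simp only [not_exists, not_not] at hcon
        exact hne ((Subgroup.eq_top_iff' H₀).2 hcon)
      by_contra hnc
      have hdvd : Nat.card (Subgroup.zpowers x) ∣ p ^ (s + 1) :=
        hG ▸ Subgroup.card_subgroup_dvd_card _
      obtain ⟨k, hk, hkx⟩ := (Nat.dvd_prime_pow hp).1 hdvd
      have hk' : k ≠ s + 1 := by
        rintro rfl
        exact hnc (isCyclic_of_orderOf_eq_card x (by rw [← Nat.card_zpowers, hkx, hG]))
      have hk2 : k ≤ s := by omega
      obtain ⟨M, hM, hle⟩ := Sylow.exists_subgroup_card_pow_prime_le p hdvdG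
        (Subgroup.zpowers x) hkx hk2
      have hMH := huniq M H₀ hM hH₀
      exact hx (hMH ▸ hle (Subgroup.mem_zpowers x))
    · have hm2 : s + 2 ≤ m := by omega
      have hcyc : ∀ M : Subgroup G, Nat.card M = p ^ (m - 1) → IsCyclic M := by
        intro M hM
        refine ih (m - 1) (by omega) M s hM hs (by omega) h2 ?_
        intro H K hH hK
        have hHK := huniq (H.map M.subtype) (K.map M.subtype)
          (by rw [Subgroup.card_map_of_injective M.subtype_injective, hH])
          (by rw [Subgroup.card_map_of_injective M.subtype_injective, hK])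
        exact Subgroup.map_injective M.subtype_injective hHK
      by_cases hp2 : p = 2
      · subst hp2
        have hs2 : 2 ≤ s := by
          rcases h2 with h2 | h2
          · exact absurd rfl h2
          · exact h2
        exact lemmaK 2 m 2 hp hG (by omega) (by omega) (by decide) hcyc
      · refine lemmaK p m 1 hp hG le_rfl (by omega) ?_ hcyc
        have hcop : Nat.Coprime p 2 := by
          rw [Nat.coprime_primes hp Nat.prime_two]; exact hp2
        apply hcop.dvd_of_dvd_mul_right
        rw [Finset.sum_range_id_mul_two, pow_one]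
        exact dvd_mul_right p _

/-- Let `p` be a prime and `G` a group of order `p ^ m` which has exactly one subgroup of order `p ^ s`, where `1 ≤ s < m`, and where `s ≥ 2` if `p = 2`. Then `G` is cyclic. (For `p = 2` and `s = 1` the generalized quaternion groups also occur; that case is the classical criterion for a unique involution.) -/
theorem result {G : Type*} [Group G] [Finite G] (p m s : ℕ) (hp : p.Prime) (hG : Nat.card G = p ^ m) (hs : 1 ≤ s) (hsm : s < m) (h2 : p ≠ 2 ∨ 2 ≤ s) (huniq : ∀ H K : Subgroup G, Nat.card H = p ^ s → Nat.card K = p ^ s → H = K) : IsCyclic G := by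
  exact aux p hp m G s hG hs hsm h2 huniq

end Cfsg.Agent.S3977
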