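import Cfsg.Statements.S3995
import Mathlib
import Cfsg.Agent.S3993

set_option autoImplicit false
open Cfsg

namespace Cfsg.Agent.S3995

theorem card_order_one {G : Type*} [Group G] : Nat.card {g : G // orderOf g = 1} = 1 := by
  rw [Nat.card_eq_one_iff_unique]
  refine ⟨⟨fun a b => Subtype.ext ?_⟩, ⟨⟨1, orderOf_one⟩⟩⟩
  rw [orderOf_eq_one_iff.1 a.2, orderOf_eq_one_iff.1 b.2]

theorem card_pow_eq_sum {G : Type*} [Group G] [Finite G] (d : ℕ) (D : Finset ℕ)
    (hD1 : ∀ m ∈ D, m ∣ d) (hD2 : ∀ g : G, g ^ d = 1 → orderOf g ∈ D) :
    Nat.card {g : G // g ^ d = 1} = ∑ m ∈ D, Nat.card {g : G // orderOf g = m} := by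
  classical
  have := Fintype.ofFinite G
  have h1 : Nat.card {g : G // g ^ d = 1}
      = (Finset.univ.filter (fun g : G => g ^ d = 1)).card := by
    rw [Nat.card_eq_fintype_card, Fintype.card_subtype]
  have h2 : ∀ m, Nat.card {g : G // orderOf g = m}
      = (Finset.univ.filter (fun g : G => orderOf g = m)).card := by
    intro m
    rw [Nat.card_eq_fintype_card, Fintype.card_subtype]
  rw [h1, Finset.card_eq_sum_card_fiberwise (f := orderOf) (t := D)
    (fun g hg => hD2 g (Finset.mem_filter.1 hg).2)]
  apply Finset.sum_congr rfl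
  intro m hm
  rw [h2 m]
  congr 1
  ext g
  simp only [Finset.mem_filter, Finset.mem_univ, true_and]
  constructor
  · rintro ⟨_, h⟩
    exact h
  · intro h
    refine ⟨?_, h⟩
    rw [← orderOf_dvd_iff_pow_eq_one, h]
    exact hD1 m hm

theorem totient_dvd_card_order {G : Type*} [Group G] [Finite G] (m : ℕ) :
    Nat.totient m ∣ Nat.card {g : G // orderOf g = m} := by
  have h := Cfsg.Agent.S3993.dvd_ncard_of_zpowers_closed (G := G) (Nat.totient m)
    {g : G | orderOf g = m} ?_ ?_
  · exact h
  · intro g hg h' hh'
    show orderOf h' = m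
    rw [← Nat.card_zpowers, hh', Nat.card_zpowers]
    exact hg
  · intro g hg
    rw [show orderOf g = m from hg]

theorem card_order_eq_zero {G : Type*} [Group G] (m : ℕ) (h : ∀ g : G, orderOf g ≠ m) :
    Nat.card {g : G // orderOf g = m} = 0 := by
  rw [Nat.card_eq_zero]
  left
  exact ⟨fun ⟨w, hw⟩ => h w hw⟩

/-- Odd-order case: all nontrivial element orders have the same number `n` of elements. -/
theorem lemmaO {H : Type*} [Group H] [Finite H] (n : ℕ) (hodd : Odd (Nat.card H))
    (hnt : Nontrivial H)
    (hs : ∀ g : H, g ≠ 1 → Nat.card {x : H // orderOf x = orderOf g} = n) :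
    ∃ p : ℕ, p.Prime ∧ p ≠ 2 ∧ IsPGroup p H ∧ Monoid.exponent H = p := by
  have hcard1 : Nat.card H ≠ 1 := by
    intro h
    rw [Nat.card_eq_one_iff_unique] at h
    exact (not_nontrivial_iff_subsingleton.2 h.1) hnt
  obtain ⟨p, hp, hpdvd⟩ := Nat.exists_prime_and_dvd hcard1
  have hp2 : p ≠ 2 := by
    rintro rfl
    exact (Nat.not_even_iff_odd.2 hodd) (even_iff_two_dvd.2 hpdvd)
  have hfact : Fact p.Prime := ⟨hp⟩
  obtain ⟨x, hx⟩ := exists_prime_orderOf_dvd_card' p hpdvd
  have hne1 : ∀ (y : H) (k : ℕ), 1 < k → orderOf y = k → y ≠ 1 := by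
    intro y k hk hy h
    rw [h, orderOf_one] at hy
    omega
  have hx1 : x ≠ 1 := hne1 x p hp.one_lt hx
  have hsp : Nat.card {g : H // orderOf g = p} = n := by
    have h := hs x hx1
    rwa [hx] at h
  have hs1 : Nat.card {g : H // orderOf g = 1} = 1 := card_order_one
  have hAp : Nat.card {g : H // g ^ p = 1} = 1 + n := by
    rw [card_pow_eq_sum p {1, p} ?_ ?_, Finset.sum_pair hp.one_lt.ne, hs1, hsp]
    · intro m hm
      simp only [Finset.mem_insert, Finset.mem_singleton] at hm
      rcases hm with rfl | rfl
      · exact one_dvd _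
      · exact dvd_rfl
    · intro g hg
      have h := orderOf_dvd_of_pow_eq_one hg
      rcases (Nat.dvd_prime hp).1 h with h' | h' <;> simp [h']
  have hpn : p ∣ 1 + n := hAp ▸ Cfsg.Agent.S3993.result p hpdvd
  have hpn' : ¬ p ∣ n := by
    intro h
    have h1 : p ∣ 1 := (Nat.dvd_add_left h).1 hpn
    exact hp.one_lt.ne' (Nat.dvd_one.1 h1)
  have hno_sq : ∀ y : H, orderOf y ≠ p ^ 2 := by
    intro y hy
    have hy1 : y ≠ 1 := hne1 y (p ^ 2) (Nat.one_lt_pow (by norm_num) hp.one_lt) hy
    have h1 := hs y hy1
    rw [hy] at h1
    have h2 := totient_dvd_card_order (G := H) (p ^ 2)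
    rw [h1, Nat.totient_prime_pow hp (by norm_num : 0 < 2)] at h2
    exact hpn' (dvd_trans (by simp : p ∣ p ^ (2 - 1) * (p - 1)) h2)
  have hno_q : ∀ (q : ℕ), q.Prime → q ≠ p → ∀ y : H, orderOf y ≠ q := by
    intro q hq hqp y hy
    have hqdvd : q ∣ Nat.card H := hy ▸ orderOf_dvd_natCard y
    have hy1 : y ≠ 1 := hne1 y q hq.one_lt hy
    have hsq : Nat.card {g : H // orderOf g = q} = n := by
      have h := hs y hy1
      rwa [hy] at h
    have hcop : Nat.Coprime p q := (Nat.coprime_primes hp hq).2 hqp.symm
    have hpq : p * q ∣ Nat.card H := Nat.Coprime.mul_dvd_of_dvd_of_dvd hcop hpdvd hqdvd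
    have hD : Nat.card {g : H // g ^ (p * q) = 1}
        = 1 + (n + (n + Nat.card {g : H // orderOf g = p * q})) := by
      have hq1 : 1 < q := hq.one_lt
      have hp1 : 1 < p := hp.one_lt
      have hpq1 : p < p * q := by nlinarith
      have hqpq : q < p * q := by nlinarith
      rw [card_pow_eq_sum (p * q) {1, p, q, p * q} ?_ ?_]
      · rw [Finset.sum_insert, Finset.sum_insert, Finset.sum_pair, hs1, hsp, hsq]
        · omega
        · simp only [Finset.mem_insert, Finset.mem_singleton]
          omega
        · simp only [Finset.mem_insert, Finset.mem_singleton]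
          omega
      · intro m hm
        simp only [Finset.mem_insert, Finset.mem_singleton] at hm
        rcases hm with rfl | rfl | rfl | rfl
        · exact one_dvd _
        · exact dvd_mul_right _ _
        · exact dvd_mul_left _ _
        · exact dvd_rfl
      · intro g hg
        have h := orderOf_dvd_of_pow_eq_one hg
        simp only [Finset.mem_insert, Finset.mem_singleton]
        by_cases hpd : p ∣ orderOf g
        · obtain ⟨c, hc⟩ := hpd
          rw [hc] at h
          have hcq : c ∣ q := Nat.dvd_of_mul_dvd_mul_left hp.pos h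
          rcases (Nat.dvd_prime hq).1 hcq with h' | h'
          · right; left; rw [hc, h', mul_one]
          · right; right; right; rw [hc, h']
        · have hcop' : Nat.Coprime (orderOf g) p := (Nat.Coprime.symm ((Nat.Prime.coprime_iff_not_dvd hp).2 hpd))
          have hgq : orderOf g ∣ q := hcop'.dvd_of_dvd_mul_left h
          rcases (Nat.dvd_prime hq).1 hgq with h' | h'
          · left; exact h'
          · right; right; left; exact h'
    have hspq : Nat.card {g : H // orderOf g = p * q} = 0 ∨
        Nat.card {g : H // orderOf g = p * q} = n := by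
      by_cases hex : ∃ w : H, orderOf w = p * q
      · obtain ⟨w, hw⟩ := hex
        right
        have hw1 : w ≠ 1 := hne1 w (p * q) (by nlinarith [hp.one_lt, hq.one_lt]) hw
        have h := hs w hw1
        rwa [hw] at h
      · left
        exact card_order_eq_zero _ (fun w hw => hex ⟨w, hw⟩)
    have hdvd : p ∣ Nat.card {g : H // g ^ (p * q) = 1} :=
      dvd_trans (dvd_mul_right p q) (Cfsg.Agent.S3993.result (p * q) hpq)
    rw [hD] at hdvd
    rcases hspq with h0 | h0
    · rw [h0] at hdvd
      have e : 1 + (n + (n + 0)) = (1 + n) + n := by ring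
      rw [e] at hdvd
      exact hpn' ((Nat.dvd_add_right hpn).1 hdvd)
    · rw [h0] at hdvd
      have e : 1 + (n + (n + n)) = (1 + n) + 2 * n := by ring
      rw [e] at hdvd
      have h2n : p ∣ 2 * n := (Nat.dvd_add_right hpn).1 hdvd
      have hcop2 : Nat.Coprime p 2 := (Nat.coprime_primes hp Nat.prime_two).2 hp2
      exact hpn' (hcop2.dvd_of_dvd_mul_left h2n)
  have hall : ∀ g : H, g ≠ 1 → orderOf g = p := by
    intro g hg
    have hm0 : orderOf g ≠ 0 := (orderOf_pos g).ne'
    have hm1 : orderOf g ≠ 1 := by rwa [Ne, orderOf_eq_one_iff]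
    have hprimes : ∀ q : ℕ, q.Prime → q ∣ orderOf g → q = p := by
      intro q hq hqd
      by_contra hqp
      apply hno_q q hq hqp (g ^ (orderOf g / q))
      rw [orderOf_pow_of_dvd ?_ (Nat.div_dvd_of_dvd hqd), Nat.div_div_self hqd hm0]
      exact (Nat.div_pos (Nat.le_of_dvd (orderOf_pos g) hqd) hq.pos).ne'
    have hpow : orderOf g = p ^ (orderOf g).primeFactorsList.length :=
      Nat.eq_prime_pow_of_unique_prime_dvd hm0 (fun {d} hd hdd => hprimes d hd hdd)
    obtain ⟨k, hk⟩ : ∃ k, orderOf g = p ^ k := ⟨_, hpow⟩
    rcases k with _ | _ | k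
    · exfalso
      exact hm1 (by rw [hk, pow_zero])
    · rw [hk, zero_add, pow_one]
    · exfalso
      apply hno_sq (g ^ (p ^ k))
      rw [orderOf_pow_of_dvd (pow_pos hp.pos k).ne' (by rw [hk]; exact pow_dvd_pow p (by omega)),
        hk, Nat.pow_div (by omega) hp.pos]
      congr 1
      omega
  have hpow1 : ∀ g : H, g ^ p = 1 := by
    intro g
    by_cases hg : g = 1
    · rw [hg, one_pow]
    · rw [← hall g hg]
      exact pow_orderOf_eq_one g
  refine ⟨p, hp, hp2, ?_, ?_⟩
  · intro g
    exact ⟨1, by rw [pow_one]; exact hpow1 g⟩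
  · have h1 : Monoid.exponent H ∣ p := Monoid.exponent_dvd_of_forall_pow_eq_one hpow1
    rcases (Nat.dvd_prime hp).1 h1 with h | h
    · exfalso
      rw [Monoid.exp_eq_one_iff] at h
      exact (not_nontrivial_iff_subsingleton.2 h) hnt
    · exact h


/-- The candidate isomorphism from the quaternion group. -/
def qmap {G : Type*} [Group G] (x y : G) : QuaternionGroup 2 → G
  | .a i => x ^ i.val
  | .xa i => y * x ^ i.val

theorem qmap_a {G : Type*} [Group G] (x y : G) (i : ZMod (2 * 2)) :
    qmap x y (QuaternionGroup.a i) = x ^ i.val := rfl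

theorem qmap_xa {G : Type*} [Group G] (x y : G) (i : ZMod (2 * 2)) :
    qmap x y (QuaternionGroup.xa i) = y * x ^ i.val := rfl

/-- A group with a unique involution, exponent 4 and order at least 8 is the quaternion group. -/
theorem q8_of {G : Type*} [Group G] [Finite G] (t : G) (ht2 : t ^ 2 = 1) (ht1 : t ≠ 1)
    (huniq : ∀ g : G, g ^ 2 = 1 → g = 1 ∨ g = t) (h4 : ∀ g : G, g ^ 4 = 1)
    (hcard : 8 ≤ Nat.card G) : Nonempty (G ≃* QuaternionGroup 2) := by
  have htt : t * t = 1 := by rw [← pow_two]; exact ht2
  have htinv : t⁻¹ = t := inv_eq_of_mul_eq_one_left htt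
  have hsq : ∀ g : G, g ^ 2 = 1 ∨ g ^ 2 = t := by
    intro g
    apply huniq
    rw [← pow_mul]
    exact h4 g
  have htc : ∀ g : G, g * t = t * g := by
    intro g
    have h : (g * t * g⁻¹) ^ 2 = 1 := by rw [conj_pow, ht2]; group
    rcases huniq _ h with h' | h'
    · exfalso
      apply ht1
      calc t = g⁻¹ * (g * t * g⁻¹) * g := by group
        _ = 1 := by rw [h']; group
    · calc g * t = (g * t * g⁻¹) * g := by group
        _ = t * g := by rw [h']
  have hpair : ∀ a b : G, ({a, b} : Set G).ncard ≤ 2 := by
    intro a b
    calc ({a, b} : Set G).ncard ≤ ({b} : Set G).ncard + 1 := Set.ncard_insert_le _ _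
      _ = 2 := by rw [Set.ncard_singleton]
  obtain ⟨x, hx1, hxt⟩ : ∃ x : G, x ≠ 1 ∧ x ≠ t := by
    by_contra hcon
    have hsub : (Set.univ : Set G) ⊆ {1, t} := by
      intro a _
      by_contra hna
      simp only [Set.mem_insert_iff, Set.mem_singleton_iff, not_or] at hna
      exact hcon ⟨a, hna.1, hna.2⟩
    have h1 := Set.ncard_le_ncard hsub (Set.toFinite _)
    have h2 := hpair 1 t
    rw [Set.ncard_univ] at h1
    omega
  have hx2 : x ^ 2 = t := by
    rcases hsq x with h | h
    · rcases huniq x h with h' | h' <;> contradiction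
    · exact h
  have hxx : x * x = t := by rw [← pow_two]; exact hx2
  have hx4 : x ^ 4 = 1 := h4 x
  have hcent : ∀ g : G, g * x = x * g → g = 1 ∨ g = x ∨ g = t ∨ g = t * x := by
    intro g hg
    rcases hsq g with h | h
    · rcases huniq g h with h' | h'
      · left; exact h'
      · right; right; left; exact h'
    · have hc : Commute g x⁻¹ := (show Commute g x from hg).inv_right
      have h' : (g * x⁻¹) ^ 2 = 1 := by
        rw [hc.mul_pow, h, inv_pow, hx2, mul_inv_cancel]
      rcases huniq _ h' with h'' | h''
      · right; left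
        exact mul_inv_eq_one.1 h''
      · right; right; right
        exact mul_inv_eq_iff_eq_mul.1 h''
  have hconjx : ∀ g : G, g * x * g⁻¹ = x ∨ g * x * g⁻¹ = x⁻¹ := by
    intro g
    have key : g * x * g⁻¹ = ((g * x) * (g * x)) * x⁻¹ * (g * g)⁻¹ := by group
    have hc1 : (g * x) * (g * x) = 1 ∨ (g * x) * (g * x) = t := by
      rw [← pow_two]; exact hsq _
    have hc2 : g * g = 1 ∨ g * g = t := by rw [← pow_two]; exact hsq _
    have e1 : t * x⁻¹ = x := by rw [← hxx]; group
    have e2 : x⁻¹ * t = x := by rw [← hxx]; group
    rcases hc1 with h1 | h1 <;> rcases hc2 with h2 | h2 <;> rw [key, h1, h2]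
    · right; group
    · left; rw [one_mul, htinv, e2]
    · left; rw [inv_one, mul_one, e1]
    · right; rw [htinv, ← htc x⁻¹, mul_assoc, htt, mul_one]
  obtain ⟨y, hy1, hyx, hyt, hytx⟩ : ∃ y : G, y ≠ 1 ∧ y ≠ x ∧ y ≠ t ∧ y ≠ t * x := by
    by_contra hcon
    have hsub : (Set.univ : Set G) ⊆ {1, x, t, t * x} := by
      intro a _
      by_contra hna
      simp only [Set.mem_insert_iff, Set.mem_singleton_iff, not_or] at hna
      exact hcon ⟨a, hna.1, hna.2.1, hna.2.2.1, hna.2.2.2⟩
    have h1 := Set.ncard_le_ncard hsub (Set.toFinite _)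
    have h2 : ({1, x, t, t * x} : Set G).ncard ≤ 4 := by
      calc ({1, x, t, t * x} : Set G).ncard ≤ ({x, t, t * x} : Set G).ncard + 1 :=
            Set.ncard_insert_le _ _
        _ ≤ (({t, t * x} : Set G).ncard + 1) + 1 :=
            Nat.add_le_add_right (Set.ncard_insert_le _ _) 1
        _ ≤ (2 + 1) + 1 := Nat.add_le_add_right (Nat.add_le_add_right (hpair _ _) 1) 1
    rw [Set.ncard_univ] at h1
    omega
  have hync : y * x ≠ x * y := by
    intro h
    rcases hcent y h with h' | h' | h' | h'
    · exact hy1 h'
    · exact hyx h'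
    · exact hyt h'
    · exact hytx h'
  have hyconj : y * x * y⁻¹ = x⁻¹ := by
    rcases hconjx y with h | h
    · exfalso
      apply hync
      calc y * x = (y * x * y⁻¹) * y := by group
        _ = x * y := by rw [h]
    · exact h
  have hyy : y * y = x ^ 2 := by
    rw [hx2, ← pow_two]
    rcases hsq y with h | h
    · rcases huniq y h with h' | h' <;> contradiction
    · exact h
  have hxy : x * y = y * x⁻¹ := by
    calc x * y = (y * x * y⁻¹)⁻¹ * y := by rw [hyconj, inv_inv]
      _ = y * x⁻¹ := by group
  have hpowy : ∀ k : ℕ, x ^ k * y = y * (x ^ k)⁻¹ := by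
    intro k
    induction k with
    | zero => simp
    | succ k ih =>
      calc x ^ (k + 1) * y = x ^ k * (x * y) := by rw [pow_succ, mul_assoc]
        _ = (x ^ k * y) * x⁻¹ := by rw [hxy, mul_assoc]
        _ = y * ((x ^ k)⁻¹ * x⁻¹) := by rw [ih, mul_assoc]
        _ = y * (x ^ (k + 1))⁻¹ := by rw [pow_succ', mul_inv_rev]
  -- arithmetic of exponents
  have E_add : ∀ i j : ZMod (2 * 2), x ^ (i + j).val = x ^ i.val * x ^ j.val := by
    intro i j
    rw [ZMod.val_add, ← pow_add, ← pow_eq_pow_mod _ hx4]
  have E_neg : ∀ i : ZMod (2 * 2), x ^ (-i).val = (x ^ i.val)⁻¹ := by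
    intro i
    apply eq_inv_of_mul_eq_one_left
    rw [← E_add, neg_add_cancel, ZMod.val_zero, pow_zero]
  have E_sub : ∀ i j : ZMod (2 * 2), x ^ (j - i).val = x ^ j.val * (x ^ i.val)⁻¹ := by
    intro i j
    rw [sub_eq_add_neg, E_add, E_neg]
  have hcommx : ∀ a b : ℕ, (x ^ a)⁻¹ * x ^ b = x ^ b * (x ^ a)⁻¹ := fun a b =>
    ((Commute.refl x).pow_pow a b).inv_left.eq
  have hmul : ∀ q r : QuaternionGroup 2, qmap x y (q * r) = qmap x y q * qmap x y r := by
    intro q r
    rcases q with i | i <;> rcases r with j | j
    · rw [QuaternionGroup.a_mul_a, qmap_a, qmap_a, qmap_a, E_add]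
    · rw [QuaternionGroup.a_mul_xa, qmap_a, qmap_xa, qmap_xa, E_sub, ← mul_assoc (x ^ i.val),
        hpowy, mul_assoc, hcommx]
    · rw [QuaternionGroup.xa_mul_a, qmap_a, qmap_xa, qmap_xa, E_add, mul_assoc]
    · rw [QuaternionGroup.xa_mul_xa, qmap_a, qmap_xa, qmap_xa, E_sub, E_add]
      have h2 : (((2 : ℕ) : ZMod (2 * 2))).val = 2 := rfl
      rw [h2]
      calc x ^ 2 * x ^ j.val * (x ^ i.val)⁻¹ = (y * y) * ((x ^ i.val)⁻¹ * x ^ j.val) := by
            rw [hyy, hcommx, mul_assoc]
        _ = y * ((y * (x ^ i.val)⁻¹) * x ^ j.val) := by group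
        _ = y * ((x ^ i.val * y) * x ^ j.val) := by rw [hpowy]
        _ = y * x ^ i.val * (y * x ^ j.val) := by group
  have hsurj : Function.Surjective (qmap x y) := by
    intro g
    have hv0 : ((0 : ZMod (2 * 2))).val = 0 := rfl
    have hv1 : ((1 : ZMod (2 * 2))).val = 1 := rfl
    have hv2 : ((2 : ZMod (2 * 2))).val = 2 := rfl
    have hv3 : ((3 : ZMod (2 * 2))).val = 3 := rfl
    have ht3 : t * x = x ^ 3 := by rw [← hxx, pow_succ, pow_two]
    have hcase : ∀ c : G, c = 1 ∨ c = x ∨ c = t ∨ c = t * x →
        ∃ i : ZMod (2 * 2), c = x ^ i.val := by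
      intro c hc
      rcases hc with h | h | h | h
      · exact ⟨0, by rw [hv0, pow_zero, h]⟩
      · exact ⟨1, by rw [hv1, pow_one, h]⟩
      · exact ⟨2, by rw [hv2, hx2, h]⟩
      · exact ⟨3, by rw [hv3, h, ht3]⟩
    rcases hconjx g with h | h
    · have hg : g * x = x * g := by
        calc g * x = (g * x * g⁻¹) * g := by group
          _ = x * g := by rw [h]
      obtain ⟨i, hi⟩ := hcase g (hcent g hg)
      exact ⟨QuaternionGroup.a i, by rw [qmap_a, hi]⟩
    · have hg : (y⁻¹ * g) * x = x * (y⁻¹ * g) := by
        calc (y⁻¹ * g) * x = y⁻¹ * (g * x * g⁻¹) * g := by group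
          _ = y⁻¹ * (y * x * y⁻¹) * g := by rw [h, hyconj]
          _ = x * (y⁻¹ * g) := by group
      obtain ⟨i, hi⟩ := hcase _ (hcent _ hg)
      refine ⟨QuaternionGroup.xa i, ?_⟩
      rw [qmap_xa, ← hi]
      group
  have hcardQ : Nat.card (QuaternionGroup 2) = 8 := by
    rw [Nat.card_eq_fintype_card, QuaternionGroup.card]
  have hbij : Function.Bijective (qmap x y) :=
    hsurj.bijective_of_nat_card_le (by rw [hcardQ]; exact hcard)
  let f : QuaternionGroup 2 →* G :=
    { toFun := qmap x y
      map_one' := by
        rw [QuaternionGroup.one_def, qmap_a]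
        have hv0 : ((0 : ZMod (2 * 2))).val = 0 := rfl
        rw [hv0, pow_zero]
      map_mul' := hmul }
  exact ⟨(MulEquiv.ofBijective f hbij).symm⟩

theorem exists_type0 (N : Type*) [Group N] [Finite N] :
    ∃ (P : Type) (_ : Group P) (_ : Finite P), Nonempty (N ≃* P) := by
  let e : N ≃ {i : ℕ // i < Nat.card N} := (Finite.equivFin N).trans Fin.equivSubtype
  let inst : Group {i : ℕ // i < Nat.card N} := e.symm.group
  have f : {i : ℕ // i < Nat.card N} ≃* N := e.symm.mulEquiv
  exact ⟨{i : ℕ // i < Nat.card N}, inst, Finite.of_equiv _ e, ⟨f.symm⟩⟩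

/-- `Z₂ × N` for a central involution `t` and a complement `N`. -/
theorem prod_iso {G : Type*} [Group G] [Finite G] (t : G) (ht2 : t ^ 2 = 1)
    (htc : ∀ g : G, g * t = t * g) (N : Subgroup G) (htN : t ∉ N)
    (hcard : Nat.card G ≤ 2 * Nat.card N) :
    Nonempty (G ≃* Multiplicative (ZMod 2) × N) := by
  have hι : ∀ a b : ZMod 2, t ^ (a + b).val = t ^ a.val * t ^ b.val := by
    intro a b
    rw [ZMod.val_add, ← pow_add, ← pow_eq_pow_mod _ ht2]
  have hcen : ∀ (k : ℕ) (g : G), g * t ^ k = t ^ k * g := fun k g =>
    ((show Commute g t from htc g).pow_right k).eq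
  let φ : Multiplicative (ZMod 2) × N →* G :=
    { toFun := fun z => t ^ (Multiplicative.toAdd z.1).val * (z.2 : G)
      map_one' := by
        show t ^ (0 : ZMod 2).val * ((1 : N) : G) = 1
        rw [ZMod.val_zero, pow_zero, one_mul]
        rfl
      map_mul' := by
        intro z w
        show t ^ (Multiplicative.toAdd z.1 + Multiplicative.toAdd w.1).val * ((z.2 : G) * (w.2 : G))
          = t ^ (Multiplicative.toAdd z.1).val * (z.2 : G)
            * (t ^ (Multiplicative.toAdd w.1).val * (w.2 : G))
        rw [hι]
        calc t ^ (Multiplicative.toAdd z.1).val * t ^ (Multiplicative.toAdd w.1).val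
              * ((z.2 : G) * (w.2 : G))
            = t ^ (Multiplicative.toAdd z.1).val
              * (t ^ (Multiplicative.toAdd w.1).val * (z.2 : G)) * (w.2 : G) := by group
          _ = t ^ (Multiplicative.toAdd z.1).val
              * ((z.2 : G) * t ^ (Multiplicative.toAdd w.1).val) * (w.2 : G) := by rw [hcen]
          _ = t ^ (Multiplicative.toAdd z.1).val * (z.2 : G)
            * (t ^ (Multiplicative.toAdd w.1).val * (w.2 : G)) := by group }
  have hφ : ∀ z, φ z = t ^ (Multiplicative.toAdd z.1).val * (z.2 : G) := fun z => rfl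
  have hinj : Function.Injective φ := by
    rw [injective_iff_map_eq_one]
    rintro ⟨a, n⟩ hz
    rw [hφ] at hz
    have hlt : (Multiplicative.toAdd a).val < 2 := ZMod.val_lt _
    have h01 : (Multiplicative.toAdd a).val = 0 ∨ (Multiplicative.toAdd a).val = 1 := by omega
    rcases h01 with h0 | h1
    · rw [h0, pow_zero, one_mul] at hz
      have ha : a = 1 := by
        have h' : Multiplicative.toAdd a = 0 := (ZMod.val_eq_zero _).1 h0
        exact h'
      have hn : n = 1 := Subtype.ext hz
      rw [ha, hn]
      rfl
    · exfalso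
      rw [h1, pow_one] at hz
      apply htN
      have h' : t = (n : G)⁻¹ := eq_inv_of_mul_eq_one_left hz
      rw [h']
      exact N.inv_mem n.2
  have hc2 : Nat.card (Multiplicative (ZMod 2) × N) = 2 * Nat.card N := by
    rw [Nat.card_prod]
    congr 1
    rw [Nat.card_congr Multiplicative.toAdd, Nat.card_zmod]
  have hbij : Function.Bijective φ := hinj.bijective_of_nat_card_le (by rw [hc2]; exact hcard)
  exact ⟨(MulEquiv.ofBijective φ hbij).symm⟩

/-- Let G be a finite group such that the numbers of elements of each order that occurs in G (the numbers #{g : o(g) = m}, m ranging over the element orders of G) take exactly two values, 1 and some n ≠ 1. Then either G is a p-group of exponent p and order at least 3 for some prime p, or G is the quaternion group of order 8, or G is cyclic of order 4, or G ≅ Z₂ × P for a p-group P of exponent p with p an odd prime. -/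
theorem result {G : Type*} [Group G] [Finite G] (n : ℕ) (hn : n ≠ 1) (h : ((fun m : ℕ => Nat.card {g : G // orderOf g = m}) '' Set.range (orderOf : G → ℕ)) = {1, n}) :
    (∃ p : ℕ, p.Prime ∧ IsPGroup p G ∧ 3 ≤ Nat.card G ∧ Monoid.exponent G = p) ∨
      Nonempty (G ≃* QuaternionGroup 2) ∨ (IsCyclic G ∧ Nat.card G = 4) ∨
      (∃ (p : ℕ) (P : Type) (_ : Group P) (_ : Finite P), p.Prime ∧ p ≠ 2 ∧ IsPGroup p P ∧ Monoid.exponent P = p ∧
        Nonempty (G ≃* Multiplicative (ZMod 2) × P)) := by
  have hs1 : Nat.card {g : G // orderOf g = 1} = 1 := card_order_one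
  have hs_or : ∀ g : G, Nat.card {x : G // orderOf x = orderOf g} = 1 ∨
      Nat.card {x : G // orderOf x = orderOf g} = n := by
    intro g
    have hmem : Nat.card {x : G // orderOf x = orderOf g} ∈
        ((fun m : ℕ => Nat.card {g : G // orderOf g = m}) '' Set.range (orderOf : G → ℕ)) :=
      ⟨orderOf g, ⟨g, rfl⟩, rfl⟩
    rw [h] at hmem
    simpa using hmem
  obtain ⟨g₁, hg₁⟩ : ∃ g₁ : G, Nat.card {x : G // orderOf x = orderOf g₁} = n := by
    have hmem : n ∈
        ((fun m : ℕ => Nat.card {g : G // orderOf g = m}) '' Set.range (orderOf : G → ℕ)) := by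
      rw [h]; simp
    obtain ⟨m, ⟨g, rfl⟩, hm⟩ := hmem
    exact ⟨g, hm⟩
  have hs_pos : ∀ g : G, 1 ≤ Nat.card {x : G // orderOf x = orderOf g} := by
    intro g
    have hne : Nonempty {x : G // orderOf x = orderOf g} := ⟨⟨g, rfl⟩⟩
    exact Nat.card_pos
  have hn2 : 2 ≤ n := by
    have h' := hs_pos g₁
    omega
  have hs3 : ∀ g : G, 3 ≤ orderOf g → Nat.card {x : G // orderOf x = orderOf g} = n := by
    intro g hg
    rcases hs_or g with h1 | h1
    · exfalso
      have h2 := totient_dvd_card_order (G := G) (orderOf g)
      rw [h1] at h2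
      have h3 := Nat.totient_even (show 2 < orderOf g by omega)
      have h4 : Nat.totient (orderOf g) = 1 := Nat.dvd_one.1 h2
      rw [h4] at h3
      exact absurd h3 (by decide)
    · exact h1
  have hneven : ∀ g : G, 3 ≤ orderOf g → Even n := by
    intro g hg
    have h2 := totient_dvd_card_order (G := G) (orderOf g)
    rw [hs3 g hg] at h2
    exact (Nat.totient_even (show 2 < orderOf g by omega)).trans_dvd h2
  have hnt : Nontrivial G := by
    by_contra hcon
    rw [not_nontrivial_iff_subsingleton] at hcon
    have h' : g₁ = 1 := Subsingleton.elim _ _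
    rw [h', orderOf_one, hs1] at hg₁
    exact hn hg₁.symm
  have hAprime : ∀ p : ℕ, p.Prime → Nat.card {g : G // orderOf g = p} = n →
      Nat.card {g : G // g ^ p = 1} = 1 + n := by
    intro p hp hsp
    rw [card_pow_eq_sum p {1, p} ?_ ?_, Finset.sum_pair hp.one_lt.ne, hs1, hsp]
    · intro m hm
      simp only [Finset.mem_insert, Finset.mem_singleton] at hm
      rcases hm with rfl | rfl
      · exact one_dvd _
      · exact dvd_rfl
    · intro g hg
      have h' := orderOf_dvd_of_pow_eq_one hg
      rcases (Nat.dvd_prime hp).1 h' with h'' | h'' <;> simp [h'']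
  by_cases h2G : 2 ∣ Nat.card G
  swap
  · -- odd order
    left
    have hodd : Odd (Nat.card G) :=
      Nat.not_even_iff_odd.1 (fun he => h2G (even_iff_two_dvd.1 he))
    have hs : ∀ g : G, g ≠ 1 → Nat.card {x : G // orderOf x = orderOf g} = n := by
      intro g hg
      apply hs3
      have h1 : orderOf g ≠ 1 := by rwa [Ne, orderOf_eq_one_iff]
      have h0 : 0 < orderOf g := orderOf_pos g
      have h2 : orderOf g ≠ 2 := by
        intro h2
        apply h2G
        rw [← h2]
        exact orderOf_dvd_natCard g
      omega
    obtain ⟨p, hp, hp2, hpG, hexp⟩ := lemmaO n hodd hnt hs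
    refine ⟨p, hp, hpG, ?_, hexp⟩
    have hc1 : Nat.card G ≠ 1 := by
      intro hc
      rw [Nat.card_eq_one_iff_unique] at hc
      exact (not_nontrivial_iff_subsingleton.2 hc.1) hnt
    have hc0 : 0 < Nat.card G := Nat.card_pos
    obtain ⟨k, hk⟩ := hodd
    omega
  · -- even order
    have hf2 : Fact (Nat.Prime 2) := ⟨Nat.prime_two⟩
    obtain ⟨t, ht⟩ := exists_prime_orderOf_dvd_card' 2 h2G
    have ht2 : t ^ 2 = 1 := by rw [← ht]; exact pow_orderOf_eq_one t
    have ht1 : t ≠ 1 := by
      intro h'; rw [h', orderOf_one] at ht; omega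
    have hs2or : Nat.card {x : G // orderOf x = 2} = 1 ∨ Nat.card {x : G // orderOf x = 2} = n := by
      have h' := hs_or t
      rwa [ht] at h'
    rcases hs2or with hs2 | hs2
    · -- unique involution
      right
      have huniq2 : ∀ g : G, orderOf g = 2 → g = t := by
        intro g hg
        have hsub : Subsingleton {x : G // orderOf x = 2} := (Nat.card_eq_one_iff_unique.1 hs2).1
        have h' := hsub.elim ⟨g, hg⟩ ⟨t, ht⟩
        exact congrArg Subtype.val h'
      have huniq : ∀ g : G, g ^ 2 = 1 → g = 1 ∨ g = t := by
        intro g hg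
        have h' := orderOf_dvd_of_pow_eq_one hg
        rcases (Nat.dvd_prime Nat.prime_two).1 h' with h'' | h''
        · left; exact orderOf_eq_one_iff.1 h''
        · right; exact huniq2 g h''
      have htc : ∀ g : G, g * t = t * g := by
        intro g
        have h' : (g * t * g⁻¹) ^ 2 = 1 := by rw [conj_pow, ht2]; group
        rcases huniq _ h' with h'' | h''
        · exfalso
          apply ht1
          calc t = g⁻¹ * (g * t * g⁻¹) * g := by group
            _ = 1 := by rw [h'']; group
        · calc g * t = (g * t * g⁻¹) * g := by group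
            _ = t * g := by rw [h'']
      have hg₁3 : 3 ≤ orderOf g₁ := by
        have h0 : 0 < orderOf g₁ := orderOf_pos g₁
        have h1 : orderOf g₁ ≠ 1 := by
          intro h'; rw [h', hs1] at hg₁; exact hn hg₁.symm
        have h2 : orderOf g₁ ≠ 2 := by
          intro h'; rw [h', hs2] at hg₁; exact hn hg₁.symm
        omega
      have hnev : Even n := hneven g₁ hg₁3
      by_cases h4G : 4 ∣ Nat.card G
      · -- a 2-group with a unique involution
        have hd4 : Nat.divisors 4 = {1, 2, 4} := by decide
        have hA4 : Nat.card {g : G // g ^ 4 = 1}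
            = 1 + (1 + Nat.card {g : G // orderOf g = 4}) := by
          rw [card_pow_eq_sum 4 {1, 2, 4} ?_ ?_]
          · rw [Finset.sum_insert (by decide), Finset.sum_pair (by norm_num), hs1, hs2]
          · intro m hm
            simp only [Finset.mem_insert, Finset.mem_singleton] at hm
            rcases hm with rfl | rfl | rfl <;> norm_num
          · intro g hg
            have h' := orderOf_dvd_of_pow_eq_one hg
            have hmem : orderOf g ∈ Nat.divisors 4 := Nat.mem_divisors.2 ⟨h', by norm_num⟩
            rw [hd4] at hmem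
            exact hmem
        have h4A : 4 ∣ 1 + (1 + Nat.card {g : G // orderOf g = 4}) :=
          hA4 ▸ Cfsg.Agent.S3993.result 4 h4G
        obtain ⟨x4, hx4⟩ : ∃ x : G, orderOf x = 4 := by
          by_contra hcon
          rw [card_order_eq_zero 4 (fun g hg => hcon ⟨g, hg⟩)] at h4A
          omega
        have hs4 : Nat.card {g : G // orderOf g = 4} = n := by
          have h' := hs3 x4 (by omega)
          rwa [hx4] at h'
        rw [hs4] at h4A
        have hprime2 : ∀ p : ℕ, p.Prime → p ∣ Nat.card G → p = 2 := by
          intro p hp hpG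
          by_contra hp2
          have hfp : Fact p.Prime := ⟨hp⟩
          obtain ⟨xp, hxp⟩ := exists_prime_orderOf_dvd_card' p hpG
          have hp3 : 3 ≤ p := by
            have h' := hp.two_le
            omega
          have hsp : Nat.card {g : G // orderOf g = p} = n := by
            have h' := hs3 xp (by omega)
            rwa [hxp] at h'
          have hpn : p ∣ 1 + n := hAprime p hp hsp ▸ Cfsg.Agent.S3993.result p hpG
          have hcop2 : Nat.Coprime 2 p := (Nat.coprime_primes Nat.prime_two hp).2 (Ne.symm hp2)
          have hcomm : Commute t xp := (htc xp).symm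
          have h2p : orderOf (t * xp) = 2 * p := by
            rw [hcomm.orderOf_mul_eq_mul_orderOf_of_coprime (by rw [ht, hxp]; exact hcop2), ht, hxp]
          have hs2p : Nat.card {g : G // orderOf g = 2 * p} = n := by
            have h' := hs3 (t * xp) (by omega)
            rwa [h2p] at h'
          have hcop4 : Nat.Coprime 4 p := by
            have h' : Nat.Coprime (2 ^ 2) p := Nat.Coprime.pow_left 2 hcop2
            exact h'
          have h4p : 4 * p ∣ Nat.card G := Nat.Coprime.mul_dvd_of_dvd_of_dvd hcop4 h4G hpG
          have hA4p : Nat.card {g : G // g ^ (4 * p) = 1}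
              = 1 + (1 + (n + (n + (n + Nat.card {g : G // orderOf g = 4 * p})))) := by
            rw [card_pow_eq_sum (4 * p) {1, 2, 4, p, 2 * p, 4 * p} ?_ ?_]
            · rw [Finset.sum_insert, Finset.sum_insert, Finset.sum_insert, Finset.sum_insert,
                Finset.sum_pair, hs1, hs2, hs4, hsp, hs2p]
              · omega
              · simp only [Finset.mem_insert, Finset.mem_singleton]
                omega
              · simp only [Finset.mem_insert, Finset.mem_singleton]
                intro hcon
                rcases hcon with hcon | hcon | hcon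
                · exact hcop4 |>.symm |> fun hc => by
                    rw [← hcon] at hc
                    have : (4 : ℕ) = 1 := (Nat.coprime_self 4).1 hc
                    omega
                · omega
                · omega
              · simp only [Finset.mem_insert, Finset.mem_singleton]
                intro hcon
                rcases hcon with hcon | hcon | hcon | hcon
                · omega
                · exact hp2 hcon.symm
                · omega
                · omega
              · simp only [Finset.mem_insert, Finset.mem_singleton]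
                omega
            · intro m hm
              simp only [Finset.mem_insert, Finset.mem_singleton] at hm
              rcases hm with rfl | rfl | rfl | rfl | rfl | rfl
              · exact one_dvd _
              · exact Dvd.dvd.mul_right (by norm_num) _
              · exact dvd_mul_right _ _
              · exact dvd_mul_left _ _
              · exact Nat.mul_dvd_mul_right (by norm_num) _
              · exact dvd_rfl
            · intro g hg
              have h' := orderOf_dvd_of_pow_eq_one hg
              simp only [Finset.mem_insert, Finset.mem_singleton]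
              by_cases hpd : p ∣ orderOf g
              · obtain ⟨c, hc⟩ := hpd
                rw [hc, mul_comm 4 p] at h'
                have hc4 : c ∣ 4 := Nat.dvd_of_mul_dvd_mul_left hp.pos h'
                have hmem : c ∈ Nat.divisors 4 := Nat.mem_divisors.2 ⟨hc4, by norm_num⟩
                rw [hd4] at hmem
                simp only [Finset.mem_insert, Finset.mem_singleton] at hmem
                rcases hmem with h'' | h'' | h''
                · right; right; right; left; rw [hc, h'', mul_one]
                · right; right; right; right; left; rw [hc, h'', mul_comm]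
                · right; right; right; right; right; rw [hc, h'', mul_comm]
              · have hcop' : Nat.Coprime (orderOf g) p :=
                  (Nat.Coprime.symm ((Nat.Prime.coprime_iff_not_dvd hp).2 hpd))
                have hg4 : orderOf g ∣ 4 := hcop'.dvd_of_dvd_mul_right h'
                have hmem : orderOf g ∈ Nat.divisors 4 := Nat.mem_divisors.2 ⟨hg4, by norm_num⟩
                rw [hd4] at hmem
                simp only [Finset.mem_insert, Finset.mem_singleton] at hmem
                rcases hmem with h'' | h'' | h''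
                · left; exact h''
                · right; left; exact h''
                · right; right; left; exact h''
          have hs4p : Nat.card {g : G // orderOf g = 4 * p} = 0 ∨
              Nat.card {g : G // orderOf g = 4 * p} = n := by
            by_cases hex : ∃ w : G, orderOf w = 4 * p
            · obtain ⟨w, hw⟩ := hex
              right
              have h' := hs3 w (by omega)
              rwa [hw] at h'
            · left
              exact card_order_eq_zero _ (fun w hw => hex ⟨w, hw⟩)
          have hdvd : p ∣ Nat.card {g : G // g ^ (4 * p) = 1} :=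
            dvd_trans (dvd_mul_left p 4) (Cfsg.Agent.S3993.result (4 * p) h4p)
          rw [hA4p] at hdvd
          rcases hs4p with h0 | h0
          · rw [h0] at hdvd
            have e : 3 * (1 + n) = (1 + (1 + (n + (n + (n + 0))))) + 1 := by ring
            have h3 : p ∣ 3 * (1 + n) := dvd_mul_of_dvd_right hpn 3
            rw [e] at h3
            have h1 : p ∣ 1 := (Nat.dvd_add_right hdvd).1 h3
            exact hp.one_lt.ne' (Nat.dvd_one.1 h1)
          · rw [h0] at hdvd
            have e : 4 * (1 + n) = (1 + (1 + (n + (n + (n + n))))) + 2 := by ring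
            have h3 : p ∣ 4 * (1 + n) := dvd_mul_of_dvd_right hpn 4
            rw [e] at h3
            have h1 : p ∣ 2 := (Nat.dvd_add_right hdvd).1 h3
            exact hp2 ((Nat.prime_dvd_prime_iff_eq hp Nat.prime_two).1 h1)
        have hcard2 : Nat.card G = 2 ^ (Nat.card G).primeFactorsList.length :=
          Nat.eq_prime_pow_of_unique_prime_dvd (Nat.card_pos.ne')
            (fun {d} hd hdd => hprime2 d hd hdd)
        obtain ⟨a, ha⟩ : ∃ a, Nat.card G = 2 ^ a := ⟨_, hcard2⟩
        have hno8 : ∀ g : G, orderOf g ≠ 8 := by
          intro g hg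
          have h1 := hs3 g (by omega)
          rw [hg] at h1
          have h2 := totient_dvd_card_order (G := G) 8
          rw [h1] at h2
          have h8 : Nat.totient 8 = 4 := by
            have h' : Nat.totient (2 ^ 3) = 2 ^ (3 - 1) * (2 - 1) :=
              Nat.totient_prime_pow Nat.prime_two (by norm_num)
            exact h'
          rw [h8] at h2
          obtain ⟨k, hk⟩ := h2
          obtain ⟨l, hl⟩ := h4A
          omega
        have hall4 : ∀ g : G, g ^ 4 = 1 := by
          intro g
          have hdvd : orderOf g ∣ 2 ^ a := ha ▸ orderOf_dvd_natCard g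
          obtain ⟨j, hj, hgj⟩ := (Nat.dvd_prime_pow Nat.prime_two).1 hdvd
          have hj2 : j ≤ 2 := by
            by_contra hj3
            apply hno8 (g ^ (2 ^ (j - 3)))
            rw [orderOf_pow_of_dvd (pow_pos (by norm_num) _).ne'
              (by rw [hgj]; exact pow_dvd_pow 2 (by omega)), hgj,
              Nat.pow_div (by omega) (by norm_num)]
            have h' : j - (j - 3) = 3 := by omega
            rw [h']
          rw [← orderOf_dvd_iff_pow_eq_one, hgj]
          exact pow_dvd_pow 2 hj2
        have ha2 : 2 ≤ a := by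
          rw [ha] at h4G
          by_contra hlt
          have h' : a = 0 ∨ a = 1 := by omega
          rcases h' with rfl | rfl
          · norm_num at h4G
          · norm_num at h4G
        by_cases ha3 : a = 2
        · right; left
          have hc4 : Nat.card G = 4 := by rw [ha, ha3]; norm_num
          exact ⟨isCyclic_of_orderOf_eq_card x4 (by rw [hx4, hc4]), hc4⟩
        · left
          apply q8_of t ht2 ht1 huniq hall4
          rw [ha]
          calc 8 = 2 ^ 3 := by norm_num
            _ ≤ 2 ^ a := Nat.pow_le_pow_right (by norm_num) (by omega)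
      · -- Z₂ × P
        right; right
        obtain ⟨T⟩ : Nonempty (Sylow 2 G) := inferInstance
        have hfac1 : (Nat.card G).factorization 2 = 1 := by
          have h1 : 1 ≤ (Nat.card G).factorization 2 :=
            (Nat.Prime.dvd_iff_one_le_factorization Nat.prime_two (Nat.card_pos.ne')).1 h2G
          have h2 : ¬ 2 ≤ (Nat.card G).factorization 2 := by
            intro h2
            apply h4G
            have h' := (Nat.Prime.pow_dvd_iff_le_factorization Nat.prime_two
              (Nat.card_pos.ne')).2 h2
            exact h'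
          omega
        have hcardT : Nat.card T = 2 := by rw [T.card_eq_multiplicity, hfac1, pow_one]
        have hTel : ∀ a ∈ (T : Subgroup G), a = 1 ∨ a = t := by
          intro a ha
          apply huniq
          have h' := orderOf_dvd_natCard (⟨a, ha⟩ : (T : Subgroup G))
          rw [Subgroup.orderOf_mk, hcardT] at h'
          exact orderOf_dvd_iff_pow_eq_one.1 h'
        have hP : Subgroup.normalizer ((T : Subgroup G) : Set G)
            ≤ Subgroup.centralizer ((T : Subgroup G) : Set G) := by
          intro g _
          rw [Subgroup.mem_centralizer_iff]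
          intro a ha
          rcases hTel a ha with h' | h'
          · rw [h', one_mul, mul_one]
          · rw [h']
            exact (htc g).symm
        obtain ⟨N, hNdef⟩ : ∃ N : Subgroup G, N = (MonoidHom.transferSylow T hP).ker :=
          ⟨_, rfl⟩
        have hcompl : Subgroup.IsComplement' N (T : Subgroup G) :=
          hNdef ▸ MonoidHom.ker_transferSylow_isComplement' T hP
        have hNn : N.Normal := hNdef ▸ MonoidHom.normal_ker _
        have hNodd : ¬ 2 ∣ Nat.card N := hNdef ▸ MonoidHom.not_dvd_card_ker_transferSylow T hP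
        have hNcard : Nat.card N * 2 = Nat.card G := by
          rw [← hcardT]
          exact hcompl.card_mul_card
        have hNidx : N.index = 2 := by rw [hcompl.symm.index_eq_card, hcardT]
        have htN : t ∉ N := by
          intro htN
          apply hNodd
          have h' := orderOf_dvd_natCard (⟨t, htN⟩ : N)
          rwa [Subgroup.orderOf_mk, ht] at h'
        have hNnt : Nontrivial N := by
          rw [← Finite.one_lt_card_iff_nontrivial]
          by_contra hle
          have h1 : 0 < Nat.card N := Nat.card_pos
          have h2 : Nat.card G = 2 := by omega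
          have h3 : orderOf g₁ ∣ 2 := h2 ▸ orderOf_dvd_natCard g₁
          have h4 := Nat.le_of_dvd (by norm_num) h3
          omega
        -- elements of odd order lie in N
        have hsqN : ∀ g : G, g ^ 2 ∈ N := by
          intro g
          have h' : ((g : G) : G ⧸ N) ^ 2 = 1 := by
            have h'' := pow_card_eq_one' (G := G ⧸ N) (x := (g : G ⧸ N))
            rwa [← Subgroup.index_eq_card, hNidx] at h''
          rw [← QuotientGroup.mk_pow, QuotientGroup.eq_one_iff] at h'
          exact h'
        have hoddN : ∀ g : G, Odd (orderOf g) → g ∈ N := by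
          intro g hg
          obtain ⟨k, hk⟩ := hg
          have h' : g = (g ^ 2) ^ (k + 1) := by
            rw [← pow_mul]
            have e : 2 * (k + 1) = orderOf g + 1 := by omega
            rw [e, pow_succ, pow_orderOf_eq_one, one_mul]
          rw [h']
          exact N.pow_mem (hsqN g) _
        have hNord : ∀ g : N, Odd (orderOf (g : G)) := by
          intro g
          have h' : orderOf (g : G) ∣ Nat.card N := by
            rw [Subgroup.orderOf_coe]
            exact orderOf_dvd_natCard g
          by_contra hcon
          rw [Nat.not_odd_iff_even] at hcon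
          exact hNodd (dvd_trans (even_iff_two_dvd.1 hcon) h')
        have hsN : ∀ g : N, g ≠ 1 → Nat.card {x : N // orderOf x = orderOf g} = n := by
          intro g hg
          have hg' : (g : G) ≠ 1 := fun h' => hg (Subtype.ext h')
          have h3 : 3 ≤ orderOf (g : G) := by
            have h0 : 0 < orderOf (g : G) := orderOf_pos _
            have h1 : orderOf (g : G) ≠ 1 := by rwa [Ne, orderOf_eq_one_iff]
            obtain ⟨k, hk⟩ := hNord g
            omega
          rw [← hs3 (g : G) h3]
          have hbij : Function.Bijective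
              (fun x : {x : N // orderOf x = orderOf g} =>
                (⟨(x.1 : G), by rw [Subgroup.orderOf_coe, Subgroup.orderOf_coe]; exact x.2⟩ :
                  {x : G // orderOf x = orderOf (g : G)})) := by
            constructor
            · intro a b hab
              have h' := congrArg Subtype.val hab
              exact Subtype.ext (Subtype.ext h')
            · intro b
              have hbodd : Odd (orderOf b.1) := by rw [b.2]; exact hNord g
              have hbN : b.1 ∈ N := hoddN b.1 hbodd
              refine ⟨⟨⟨b.1, hbN⟩, ?_⟩, rfl⟩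
              rw [← Subgroup.orderOf_coe, ← Subgroup.orderOf_coe]
              exact b.2
          exact Nat.card_eq_of_bijective _ hbij
        have hNoddc : Odd (Nat.card N) := Nat.not_even_iff_odd.1
          (fun he => hNodd (even_iff_two_dvd.1 he))
        obtain ⟨p, hp, hp2, hpN, hexp⟩ := lemmaO n hNoddc hNnt hsN
        obtain ⟨P, instG, instF, ⟨eP⟩⟩ := exists_type0 N
        obtain ⟨φ⟩ := prod_iso t ht2 htc N htN (by omega)
        exact ⟨p, P, instG, instF, hp, hp2, hpN.of_equiv eP,
          by rw [← Monoid.exponent_eq_of_mulEquiv eP]; exact hexp,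
          ⟨φ.trans (MulEquiv.prodCongr (MulEquiv.refl _) eP)⟩⟩
    · -- the involutions are as numerous as everything else: elementary abelian 2-group
      left
      have hA2 : Nat.card {g : G // g ^ 2 = 1} = 1 + n := hAprime 2 Nat.prime_two hs2
      have h2n : 2 ∣ 1 + n := hA2 ▸ Cfsg.Agent.S3993.result 2 h2G
      have hall : ∀ g : G, g ^ 2 = 1 := by
        intro g
        by_contra hg
        have h3 : 3 ≤ orderOf g := by
          have h0 : 0 < orderOf g := orderOf_pos g
          have h1 : orderOf g ≠ 1 := by
            intro h'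
            rw [orderOf_eq_one_iff] at h'
            rw [h', one_pow] at hg
            exact hg rfl
          have h2 : orderOf g ≠ 2 := by
            intro h'
            apply hg
            rw [← h']
            exact pow_orderOf_eq_one g
          omega
        obtain ⟨k, hk⟩ := hneven g h3
        omega
      refine ⟨2, Nat.prime_two, ?_, ?_, ?_⟩
      · intro g
        exact ⟨1, by rw [pow_one]; exact hall g⟩
      · have hc : Nat.card G = Nat.card {g : G // g ^ 2 = 1} :=
          (Nat.card_congr (Equiv.subtypeUnivEquiv hall)).symm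
        rw [hc, hA2]
        omega
      · have h1 : Monoid.exponent G ∣ 2 := Monoid.exponent_dvd_of_forall_pow_eq_one hall
        rcases (Nat.dvd_prime Nat.prime_two).1 h1 with h' | h'
        · exfalso
          rw [Monoid.exp_eq_one_iff] at h'
          exact (not_nontrivial_iff_subsingleton.2 h') hnt
        · exact h'

end Cfsg.Agent.S3995
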