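import Cfsg.Statements.S4003
import Mathlib
import Cfsg.Agent.S3975
import Cfsg.Agent.S3977
import Cfsg.Agent.S3993
import Cfsg.Agent.S3995

set_option autoImplicit false
universe u
open Cfsg

namespace Cfsg.Agent.S4003

/-- number theory: `r ^ p ≡ 1 (mod p ^ (n-1))` forces `r ≡ 1 (mod p ^ (n-2))` for odd `p`. -/
theorem lte_aux (p : ℕ) (hp : p.Prime) (hodd : p ≠ 2) (n r : ℕ) (hn : 3 ≤ n) (hr : 1 ≤ r)
    (h : p ^ (n - 1) ∣ r ^ p - 1) : p ^ (n - 2) ∣ r - 1 := by
  have hfact : Fact p.Prime := ⟨hp⟩
  rcases Nat.eq_or_lt_of_le hr with h1 | h1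
  · rw [← h1]; simp
  have hp1 : Odd p := hp.odd_of_ne_two hodd
  have hrp : 1 ≤ r ^ p := Nat.one_le_pow _ _ hr
  have hpd : p ∣ r ^ p - 1 := dvd_trans (dvd_pow_self p (by omega)) h
  have hpr : ¬ p ∣ r := by
    intro hpr
    have h2 : p ∣ r ^ p := dvd_pow hpr hp.ne_zero
    have h3 := Nat.dvd_sub h2 hpd
    rw [Nat.sub_sub_self hrp] at h3
    exact hp.one_lt.ne' (Nat.dvd_one.mp h3)
  have hfermat : p ∣ r ^ p - r := by
    have h2 : ((r ^ p : ℕ) : ZMod p) = (r : ZMod p) := by
      push_cast; exact ZMod.pow_card _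
    have h3 := (ZMod.natCast_eq_natCast_iff _ _ _).mp h2
    exact (Nat.modEq_iff_dvd' (Nat.le_self_pow hp.ne_zero r)).mp h3.symm
  have hp_r1 : p ∣ r - 1 := by
    have h2 := Nat.dvd_sub hpd hfermat
    have e : r ^ p - 1 - (r ^ p - r) = r - 1 := by
      have : r ≤ r ^ p := Nat.le_self_pow hp.ne_zero r
      omega
    rwa [e] at h2
  have hlte := padicValNat.pow_sub_pow hp1 h1 hp_r1 hpr (n := p) hp.ne_zero
  rw [one_pow, padicValNat_self] at hlte
  have hne : r ^ p - 1 ≠ 0 := by
    have : 1 < r ^ p := Nat.one_lt_pow hp.ne_zero h1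
    omega
  have h4 := (padicValNat_dvd_iff_le hne).mp h
  have h5 : n - 2 ≤ padicValNat p (r - 1) := by omega
  exact (padicValNat_dvd_iff_le (by omega)).mpr h5

/-- transport of the count of elements of a given order from a subgroup to the ambient group -/
theorem card_order_subgroup {G : Type*} [Group G] (H : Subgroup G) (k : ℕ) :
    Nat.card {x : ↥H // orderOf x = k} = Nat.card {x : G // x ∈ H ∧ orderOf x = k} := by
  apply Nat.card_congr
  refine ⟨fun x => ⟨(x.1 : G), x.1.2, by rw [Subgroup.orderOf_coe]; exact x.2⟩,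
    fun x => ⟨⟨x.1, x.2.1⟩, by rw [← Subgroup.orderOf_coe]; exact x.2.2⟩, ?_, ?_⟩
  · intro x; rfl
  · intro x; rfl

/-- Double counting: if every member of a family of subgroups has its number of elements of
order `p ^ s` divisible by `p ^ s`, and every element of order `p ^ s` lies in `≡ 1 (mod p)`
members, then the number of elements of order `p ^ s` of the group is divisible by `p ^ s`. -/
theorem double_count {G : Type*} [Group G] [Finite G] (p s : ℕ) (hp : p.Prime) (hs : 1 ≤ s)
    (F : Finset (Subgroup G))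
    (ha : ∀ H ∈ F, p ^ s ∣ Nat.card {x : G // x ∈ H ∧ orderOf x = p ^ s})
    (hb : ∀ x : G, orderOf x = p ^ s → ∀ [DecidablePred (fun H : Subgroup G => x ∈ H)],
      (F.filter (fun H => x ∈ H)).card ≡ 1 [MOD p]) :
    p ^ s ∣ Nat.card {x : G // orderOf x = p ^ s} := by
  classical
  have := Fintype.ofFinite G
  obtain ⟨E, hE⟩ : ∃ E : Finset G, E = Finset.univ.filter (fun x : G => orderOf x = p ^ s) :=
    ⟨_, rfl⟩
  have hEcard : Nat.card {x : G // orderOf x = p ^ s} = E.card := by
    rw [Nat.card_eq_fintype_card, Fintype.card_subtype, hE]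
  rw [hEcard]
  -- the double counting identity
  have hdc := Finset.sum_card_bipartiteAbove_eq_sum_card_bipartiteBelow (s := F) (t := E)
    (r := fun (H : Subgroup G) (x : G) => x ∈ H)
  -- left side divisible by p ^ s
  have hL : p ^ s ∣ ∑ H ∈ F, (E.bipartiteAbove (fun (H : Subgroup G) (x : G) => x ∈ H) H).card := by
    apply Finset.dvd_sum
    intro H hH
    have h1 := ha H hH
    have h2 : Nat.card {x : G // x ∈ H ∧ orderOf x = p ^ s} =
        (E.bipartiteAbove (fun (H : Subgroup G) (x : G) => x ∈ H) H).card := by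
      rw [Nat.card_eq_fintype_card, Fintype.card_subtype, hE]
      congr 1
      ext x
      simp [Finset.bipartiteAbove, and_comm]
    rwa [h2] at h1
  rw [hdc] at hL
  -- the weights
  obtain ⟨ν, hν⟩ : ∃ ν : G → ℕ, ν = fun x =>
      (F.bipartiteBelow (fun (H : Subgroup G) (x : G) => x ∈ H) x).card := ⟨_, rfl⟩
  have hνsum : ∑ x ∈ E, (F.bipartiteBelow (fun (H : Subgroup G) (x : G) => x ∈ H) x).card =
      ∑ x ∈ E, ν x := by rw [hν]
  rw [hνsum] at hL
  have hν1 : ∀ x ∈ E, ν x ≡ 1 [MOD p] := by
    intro x hx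
    rw [hE, Finset.mem_filter] at hx
    have := hb x hx.2
    rw [hν]
    exact this
  have hνz : ∀ x y : G, Subgroup.zpowers x = Subgroup.zpowers y → ν x = ν y := by
    intro x y hxy
    rw [hν]
    show (F.filter (fun H => x ∈ H)).card = (F.filter (fun H => y ∈ H)).card
    congr 1
    ext H
    simp only [Finset.mem_filter]
    constructor
    · rintro ⟨h1, h2⟩
      exact ⟨h1, (Subgroup.zpowers_le.mp (hxy ▸ Subgroup.zpowers_le.mpr h2))⟩
    · rintro ⟨h1, h2⟩
      exact ⟨h1, (Subgroup.zpowers_le.mp (hxy ▸ Subgroup.zpowers_le.mpr h2))⟩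
  -- group by the value of ν
  have h1 : ∑ x ∈ E, ν x = ∑ v ∈ E.image ν, (E.filter (fun x => ν x = v)).card * v := by
    have := Finset.sum_comp (s := E) (f := fun v : ℕ => v) (g := ν)
    simpa [smul_eq_mul] using this
  have h2 : E.card = ∑ v ∈ E.image ν, (E.filter (fun x => ν x = v)).card :=
    Finset.card_eq_sum_card_image ν E
  have h3 : ∀ v ∈ E.image ν, p ^ s ∣ (E.filter (fun x => ν x = v)).card * (v - 1) := by
    intro v hv
    obtain ⟨x₀, hx₀, rfl⟩ := Finset.mem_image.mp hv
    have hv1 : p ∣ ν x₀ - 1 := (Nat.modEq_iff_dvd' (by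
      by_contra hcon
      push Not at hcon
      have h0 : ν x₀ = 0 := by omega
      have := hν1 x₀ hx₀
      rw [h0] at this
      have h5 := (Nat.modEq_iff_dvd' (Nat.zero_le 1)).mp this
      exact hp.one_lt.ne' (Nat.dvd_one.mp h5))).mp (hν1 x₀ hx₀).symm
    have hcl : p ^ (s - 1) ∣ (E.filter (fun x => ν x = ν x₀)).card := by
      have h4 := Cfsg.Agent.S3993.dvd_ncard_of_zpowers_closed (G := G) (p ^ (s - 1))
        {x : G | orderOf x = p ^ s ∧ ν x = ν x₀} ?_ ?_
      · have h5 : ({x : G | orderOf x = p ^ s ∧ ν x = ν x₀} : Set G).ncard =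
            (E.filter (fun x => ν x = ν x₀)).card := by
          rw [← Set.ncard_coe_finset]
          congr 1
          ext x
          simp [hE]
        rwa [h5] at h4
      · intro g hg h hh
        refine ⟨?_, ?_⟩
        · rw [← Nat.card_zpowers, hh, Nat.card_zpowers]; exact hg.1
        · rw [hνz h g hh]; exact hg.2
      · intro g hg
        rw [hg.1, Nat.totient_prime_pow hp (by omega)]
        exact Dvd.intro _ rfl
    obtain ⟨k, hk⟩ := hv1
    obtain ⟨l, hl⟩ := hcl
    rw [hl, hk]
    refine ⟨l * k, ?_⟩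
    have : p ^ s = p ^ (s - 1) * p := by
      rw [← pow_succ]; congr 1; omega
    rw [this]; ring
  have h4 : ∑ v ∈ E.image ν, (E.filter (fun x => ν x = v)).card * v =
      E.card + ∑ v ∈ E.image ν, (E.filter (fun x => ν x = v)).card * (v - 1) := by
    rw [h2, ← Finset.sum_add_distrib]
    apply Finset.sum_congr rfl
    intro v hv
    obtain ⟨x₀, hx₀, rfl⟩ := Finset.mem_image.mp hv
    have hpos : 1 ≤ ν x₀ := by
      by_contra hcon
      push Not at hcon
      have h0 : ν x₀ = 0 := by omega
      have := hν1 x₀ hx₀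
      rw [h0] at this
      have h5 := (Nat.modEq_iff_dvd' (Nat.zero_le 1)).mp this
      exact hp.one_lt.ne' (Nat.dvd_one.mp h5)
    obtain ⟨w, hw⟩ : ∃ w, ν x₀ = w + 1 := ⟨ν x₀ - 1, by omega⟩
    rw [hw, Nat.add_sub_cancel]; ring
  rw [h1, h4] at hL
  exact (Nat.dvd_add_left (Finset.dvd_sum h3)).mp hL



/-- In a `p`-group, the number of subgroups of index `p` containing a given proper subgroup
is `≡ 1 (mod p)`. -/
theorem card_max_containing {X : Type*} [Group X] [Finite X] (p : ℕ) (hp : p.Prime)
    (hX : IsPGroup p X) (D : Subgroup X) (hD : D ≠ ⊤) :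
    Nat.card {M : Subgroup X // M.index = p ∧ D ≤ M} ≡ 1 [MOD p] := by
  have hfact : Fact p.Prime := ⟨hp⟩
  obtain ⟨n, hn⟩ := IsPGroup.iff_card.mp hX
  obtain ⟨k, hk⟩ := IsPGroup.iff_card.mp (hX.to_subgroup D)
  have hkn : k < n := by
    by_contra hcon
    push Not at hcon
    apply hD
    apply Subgroup.eq_top_of_le_card
    rw [hn, hk]
    exact Nat.pow_le_pow_right hp.pos hcon
  have hnormal : ∀ M : Subgroup X, M.index = p → M.Normal := by
    intro M hM
    apply Subgroup.normal_of_index_eq_minFac_card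
    rw [hM, hn, Nat.Prime.pow_minFac hp (by omega)]
  obtain ⟨M₀, hM₀card, hDM₀⟩ := Sylow.exists_subgroup_card_pow_prime_le p
    (n := k) (m := n - 1) (by rw [hn]; exact pow_dvd_pow p (by omega)) D hk (by omega)
  have hM₀top : M₀ ≠ ⊤ := by
    intro h
    rw [h, Subgroup.card_top, hn] at hM₀card
    have := Nat.pow_right_injective hp.two_le hM₀card
    omega
  have hM₀idx : M₀.index = p := by
    have h1 := M₀.card_mul_index
    rw [hM₀card, hn] at h1
    have h2 : p ^ (n - 1) * M₀.index = p ^ (n - 1) * p := by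
      rw [h1, ← pow_succ]; congr 1; omega
    exact Nat.eq_of_mul_eq_mul_left (pow_pos hp.pos _) h2
  have hM₀n := hnormal M₀ hM₀idx
  obtain ⟨K, hK⟩ : ∃ K, K = Subgroup.normalClosure (D : Set X) := ⟨_, rfl⟩
  have hKn : K.Normal := hK ▸ Subgroup.normalClosure_normal
  have hDK : D ≤ K := hK ▸ Subgroup.le_normalClosure
  have hKle : ∀ M : Subgroup X, M.index = p → (D ≤ M ↔ K ≤ M) := by
    intro M hM
    have := hnormal M hM
    constructor
    · intro h; rw [hK]; exact Subgroup.normalClosure_le_normal h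
    · intro h; exact le_trans hDK h
  have hKM₀ : K ≤ M₀ := (hKle M₀ hM₀idx).mp hDM₀
  have hKtop : K ≠ ⊤ := fun h => hM₀top (top_le_iff.mp (h ▸ hKM₀))
  have hker : (QuotientGroup.mk' K).ker = K := QuotientGroup.ker_mk' K
  have hsurj : Function.Surjective (QuotientGroup.mk' K) := QuotientGroup.mk'_surjective K
  have e : {M : Subgroup X // M.index = p ∧ D ≤ M} ≃
      {M' : Subgroup (X ⧸ K) // M'.index = p} :=
    { toFun := fun M => ⟨M.1.map (QuotientGroup.mk' K), by
        have h1 : (M.1.map (QuotientGroup.mk' K)).comap (QuotientGroup.mk' K) = M.1 :=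
          Subgroup.comap_map_eq_self (by rw [hker]; exact (hKle M.1 M.2.1).mp M.2.2)
        rw [← Subgroup.index_comap_of_surjective _ hsurj, h1]; exact M.2.1⟩
      invFun := fun M' => ⟨M'.1.comap (QuotientGroup.mk' K), by
        have h1 : (M'.1.comap (QuotientGroup.mk' K)).index = p := by
          rw [Subgroup.index_comap_of_surjective _ hsurj]; exact M'.2
        refine ⟨h1, (hKle _ h1).mpr ?_⟩
        exact le_trans hker.ge (Subgroup.ker_le_comap _ _)⟩
      left_inv := fun M => by
        apply Subtype.ext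
        exact Subgroup.comap_map_eq_self (by rw [hker]; exact (hKle M.1 M.2.1).mp M.2.2)
      right_inv := fun M' => by
        apply Subtype.ext
        exact Subgroup.map_comap_eq_self_of_surjective hsurj _ }
  rw [Nat.card_congr e]
  -- the quotient has order p ^ j with j ≥ 1
  have hQ : IsPGroup p (X ⧸ K) := hX.to_quotient K
  obtain ⟨j, hj⟩ := IsPGroup.iff_card.mp hQ
  have hj1 : 1 ≤ j := by
    by_contra hcon
    have h0 : j = 0 := by omega
    rw [h0, pow_zero] at hj
    apply hKtop
    rw [← Subgroup.index_eq_card] at hj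
    exact Subgroup.index_eq_one.mp hj
  have e2 : {M' : Subgroup (X ⧸ K) // M'.index = p} ≃
      {M' : Subgroup (X ⧸ K) // Nat.card M' = p ^ (j - 1)} := by
    apply Equiv.subtypeEquivRight
    intro M'
    have h1 := M'.card_mul_index
    rw [hj] at h1
    constructor
    · intro h
      rw [h] at h1
      have h2 : Nat.card M' * p = p ^ (j - 1) * p := by
        rw [h1, ← pow_succ]; congr 1; omega
      exact Nat.eq_of_mul_eq_mul_right hp.pos h2
    · intro h
      rw [h] at h1
      have h2 : p ^ (j - 1) * M'.index = p ^ (j - 1) * p := by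
        rw [h1, ← pow_succ]; congr 1; omega
      exact Nat.eq_of_mul_eq_mul_left (pow_pos hp.pos _) h2
  rw [Nat.card_congr e2]
  exact Cfsg.Agent.S3975.result (G := X ⧸ K) p (j - 1) hp
    (by rw [hj]; exact pow_dvd_pow p (by omega))



/-- elements with the same `p ^ j`-th powers (`j ≥ 1`) have order `p ^ s` simultaneously -/
theorem order_iff_of_pow_eq {X : Type*} [Group X] (p : ℕ) (hp : p.Prime) (s : ℕ) (hs : 2 ≤ s)
    (w w' : X) (h : ∀ j : ℕ, 1 ≤ j → w ^ (p ^ j) = w' ^ (p ^ j)) :
    orderOf w = p ^ s ↔ orderOf w' = p ^ s := by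
  have hfact : Fact p.Prime := ⟨hp⟩
  have key : ∀ u v : X, (∀ j : ℕ, 1 ≤ j → u ^ (p ^ j) = v ^ (p ^ j)) → orderOf u = p ^ s →
      orderOf v = p ^ s := by
    intro u v huv hu
    obtain ⟨t, rfl⟩ : ∃ t, s = t + 1 := ⟨s - 1, by omega⟩
    apply orderOf_eq_prime_pow
    · rw [← huv t (by omega)]
      intro h1
      have h2 := orderOf_dvd_of_pow_eq_one h1
      rw [hu] at h2
      have h3 := (Nat.pow_dvd_pow_iff_le_right hp.one_lt).mp h2
      omega
    · rw [← huv (t + 1) (by omega), ← hu, pow_orderOf_eq_one]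
  exact ⟨key w w' h, key w' w (fun j hj => (h j hj).symm)⟩

/-- A noncyclic `p`-group (`p` odd) of order `p ^ n`, `n ≥ 3`, with an element of order
`p ^ (n-1)`: the number of elements of order `p ^ s` (`s ≥ 2`) is divisible by `p ^ s`. -/
theorem cyclic_max_case {X : Type*} [Group X] [Finite X] (p : ℕ) (hp : p.Prime) (hodd : p ≠ 2)
    (n : ℕ) (hn : 3 ≤ n) (hX : Nat.card X = p ^ n) (hnc : ¬ IsCyclic X)
    (a : X) (ha : orderOf a = p ^ (n - 1)) (s : ℕ) (hs : 2 ≤ s) :
    p ^ s ∣ Nat.card {w : X // orderOf w = p ^ s} := by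
  classical
  have hfact : Fact p.Prime := ⟨hp⟩
  have hXp : IsPGroup p X := IsPGroup.of_card hX
  obtain ⟨A, hA⟩ : ∃ A, A = Subgroup.zpowers a := ⟨_, rfl⟩
  have hAcard : Nat.card A = p ^ (n - 1) := by rw [hA, Nat.card_zpowers, ha]
  have hAidx : A.index = p := by
    have h1 := A.card_mul_index
    rw [hAcard, hX] at h1
    have h2 : p ^ (n - 1) * A.index = p ^ (n - 1) * p := by
      rw [h1, ← pow_succ]; congr 1; omega
    exact Nat.eq_of_mul_eq_mul_left (pow_pos hp.pos _) h2
  have hAn : A.Normal := by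
    apply Subgroup.normal_of_index_eq_minFac_card
    rw [hAidx, hX, Nat.Prime.pow_minFac hp (by omega)]
  have haA : a ∈ A := hA ▸ Subgroup.mem_zpowers a
  have hApow : ∀ α ∈ A, ∃ i : ℕ, α = a ^ i := by
    intro α hα
    rw [hA] at hα
    obtain ⟨i, hi⟩ := (mem_powers_iff_mem_zpowers).mpr hα
    exact ⟨i, hi.symm⟩
  have hAcomm : ∀ α ∈ A, ∀ β ∈ A, α * β = β * α := by
    intro α hα β hβ
    obtain ⟨i, rfl⟩ := hApow α hα
    obtain ⟨j, rfl⟩ := hApow β hβ
    rw [← pow_add, ← pow_add, add_comm]
  have hAexp : ∀ α ∈ A, α ^ (p ^ (n - 1)) = 1 := by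
    intro α hα
    obtain ⟨i, rfl⟩ := hApow α hα
    rw [← pow_mul, mul_comm, pow_mul, ← ha, pow_orderOf_eq_one, one_pow]
  have hpowA : ∀ x : X, x ^ p ∈ A := by
    intro x
    have h : ((x : X) : X ⧸ A) ^ p = 1 := by
      have h' := pow_card_eq_one' (G := X ⧸ A) (x := (x : X ⧸ A))
      rwa [← Subgroup.index_eq_card, hAidx] at h'
    rw [← QuotientGroup.mk_pow, QuotientGroup.eq_one_iff] at h
    exact h
  have hconj : ∀ x : X, ∃ r : ℕ, 1 ≤ r ∧ p ^ (n - 2) ∣ r - 1 ∧
      ∀ α ∈ A, x * α * x⁻¹ = α ^ r := by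
    intro x
    have h1 : x * a * x⁻¹ ∈ A := hAn.conj_mem a haA x
    obtain ⟨r, hr⟩ := hApow _ h1
    have hr1 : 1 ≤ r := by
      by_contra hcon
      have h0 : r = 0 := by omega
      rw [h0, pow_zero] at hr
      have h3 : a = 1 := by
        have h2 : a = x⁻¹ * (x * a * x⁻¹) * x := by group
        rw [h2, hr]; group
      rw [h3, orderOf_one] at ha
      have : 1 < p ^ (n - 1) := Nat.one_lt_pow (by omega) hp.one_lt
      omega
    have hall : ∀ α ∈ A, x * α * x⁻¹ = α ^ r := by
      intro α hα
      obtain ⟨i, rfl⟩ := hApow α hα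
      rw [← conj_pow, hr, ← pow_mul, ← pow_mul, mul_comm]
    have hiter : ∀ k : ℕ, x ^ k * a * (x ^ k)⁻¹ = a ^ (r ^ k) := by
      intro k
      induction k with
      | zero => simp
      | succ k ih =>
        have h3 : x ^ (k + 1) * a * (x ^ (k + 1))⁻¹ = x * (x ^ k * a * (x ^ k)⁻¹) * x⁻¹ := by
          rw [pow_succ']; group
        rw [h3, ih, hall _ (A.pow_mem haA _), ← pow_mul, pow_succ]
    have h4 := hiter p
    have h5 : x ^ p * a * (x ^ p)⁻¹ = a := by
      have h6 := hAcomm _ (hpowA x) a haA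
      rw [h6]; group
    rw [h5] at h4
    have hrp : 1 ≤ r ^ p := Nat.one_le_pow _ _ hr1
    have h6 : a ^ (r ^ p - 1) = 1 := by
      have h7 : a ^ (r ^ p - 1) * a = 1 * a := by
        rw [← pow_succ, Nat.sub_add_cancel hrp, one_mul]; exact h4.symm
      exact mul_right_cancel h7
    have h8 : p ^ (n - 1) ∣ r ^ p - 1 := by
      rw [← ha]; exact orderOf_dvd_of_pow_eq_one h6
    exact ⟨r, hr1, lte_aux p hp hodd n r hn hr1 h8, hall⟩
  have hcentral : ∀ d ∈ A, d ^ p = 1 → d ∈ Subgroup.center X := by
    intro d hd hdp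
    rw [Subgroup.mem_center_iff]
    intro x
    obtain ⟨r, hr1, hrd, hall⟩ := hconj x
    have h1 := hall d hd
    obtain ⟨k, hk⟩ := hrd
    have h2 : d ^ r = d := by
      have h3 : r = p ^ (n - 2) * k + 1 := by omega
      rw [h3, pow_succ, pow_mul]
      have h4 : d ^ (p ^ (n - 2)) = 1 := by
        have h5 : p ^ (n - 2) = p * p ^ (n - 3) := by rw [← pow_succ']; congr 1; omega
        rw [h5, pow_mul, hdp, one_pow]
      rw [h4, one_pow, one_mul]
    rw [h2] at h1
    have h6 : x * d = (x * d * x⁻¹) * x := by group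
    rw [h6, h1]
  have hsum : ∀ j : ℕ, 1 ≤ j → p ∣ ∑ i ∈ Finset.range (p ^ j), i := by
    intro j hj
    have h1 := Finset.sum_range_id_mul_two (p ^ j)
    have h2 : p ∣ (∑ i ∈ Finset.range (p ^ j), i) * 2 := by
      rw [h1]; exact Dvd.dvd.mul_right (dvd_pow_self p (by omega)) _
    have h3 : Nat.Coprime p 2 := (Nat.coprime_primes hp Nat.prime_two).mpr hodd
    exact h3.dvd_of_dvd_mul_right h2
  have hpowmul : ∀ x : X, ∀ α ∈ A, ∀ j : ℕ, 1 ≤ j →
      (x * α) ^ (p ^ j) = x ^ (p ^ j) * α ^ (p ^ j) := by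
    intro x α hα j hj
    obtain ⟨r, hr1, hrd, hall⟩ := hconj x
    obtain ⟨k, hk⟩ := hrd
    obtain ⟨d, hd⟩ : ∃ d, d = α ^ (r - 1) := ⟨_, rfl⟩
    have hdA : d ∈ A := hd ▸ A.pow_mem hα _
    have hdp : d ^ p = 1 := by
      rw [hd, hk, ← pow_mul]
      have h1 : p ^ (n - 2) * k * p = p ^ (n - 1) * k := by
        have : p ^ (n - 1) = p ^ (n - 2) * p := by rw [← pow_succ]; congr 1; omega
        rw [this]; ring
      rw [h1, pow_mul, hAexp α hα, one_pow]
    have hdc := hcentral d hdA hdp
    have h1 : x * α * x⁻¹ = d * α := by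
      rw [hall α hα, hd, ← pow_succ, Nat.sub_add_cancel hr1]
    have hc : d⁻¹ ∈ Subgroup.center X := inv_mem hdc
    have h2 : α * x = d⁻¹ * x * α := by
      have h3 : x * α = d * α * x := by
        have h4 : x * α = (x * α * x⁻¹) * x := by group
        rw [h4, h1]
      have h4 : d⁻¹ * x * α = d⁻¹ * (x * α) := by group
      rw [h4, h3]; group
    have h5 := Cfsg.Agent.S3977.mul_pow_central x α d⁻¹ hc h2 (p ^ j)
    rw [h5]
    obtain ⟨t, ht⟩ := hsum j hj
    rw [ht, pow_mul, inv_pow, hdp, inv_one, one_pow, mul_one]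
  have hpthpow : ∀ x : X, ∃ β ∈ A, x ^ p = β ^ p := by
    intro x
    obtain ⟨i, hi⟩ := hApow _ (hpowA x)
    by_cases hpi : p ∣ i
    · obtain ⟨i', rfl⟩ := hpi
      exact ⟨a ^ i', A.pow_mem haA _, by rw [hi, ← pow_mul, mul_comm]⟩
    · exfalso
      apply hnc
      have hco : (orderOf a).Coprime i := by
        rw [ha]
        exact Nat.Coprime.pow_left _ ((Nat.Prime.coprime_iff_not_dvd hp).mpr hpi)
      have h1 : orderOf (x ^ p) = p ^ (n - 1) := by
        rw [hi, hco.orderOf_pow, ha]
      have h2 : orderOf x = p ^ n := by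
        obtain ⟨e, he⟩ := (Nat.dvd_prime_pow hp).mp (hX ▸ orderOf_dvd_natCard x)
        obtain ⟨he1, he2⟩ := he
        have h3 : orderOf (x ^ p) = orderOf x / Nat.gcd (orderOf x) p := orderOf_pow x
        rw [h1, he2] at h3
        rcases Nat.eq_zero_or_pos e with h0 | hpos
        · rw [h0, pow_zero] at he2
          have hx1 : x = 1 := orderOf_eq_one_iff.mp he2
          rw [hx1, one_pow, orderOf_one] at h1
          have : 1 < p ^ (n - 1) := Nat.one_lt_pow (by omega) hp.one_lt
          omega
        · have h4 : Nat.gcd (p ^ e) p = p := Nat.gcd_eq_right (dvd_pow_self p (by omega))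
          rw [h4] at h3
          have h5 : p ^ e / p = p ^ (e - 1) := by
            obtain ⟨e', rfl⟩ : ∃ e', e = e' + 1 := ⟨e - 1, by omega⟩
            rw [pow_succ, Nat.mul_div_cancel _ hp.pos, Nat.add_sub_cancel]
          rw [h5] at h3
          have h6 := Nat.pow_right_injective hp.two_le h3
          have h7 : e = n := by omega
          rw [he2, h7]
      exact isCyclic_of_orderOf_eq_card x (by rw [h2, hX])
  -- counting by cosets of A
  have := Fintype.ofFinite X
  obtain ⟨E, hE⟩ : ∃ E : Finset X, E = Finset.univ.filter (fun w : X => orderOf w = p ^ s) :=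
    ⟨_, rfl⟩
  obtain ⟨C, hC⟩ : ∃ C : Finset X,
      C = Finset.univ.filter (fun γ : X => γ ∈ A ∧ orderOf γ = p ^ s) := ⟨_, rfl⟩
  have hEcard : Nat.card {w : X // orderOf w = p ^ s} = E.card := by
    rw [Nat.card_eq_fintype_card, Fintype.card_subtype, hE]
  rw [hEcard]
  have hfib : ∀ q : X ⧸ A, (E.filter (fun w : X => (QuotientGroup.mk w : X ⧸ A) = q)).card = C.card := by
    intro q
    obtain ⟨x, rfl⟩ := QuotientGroup.mk_surjective q
    obtain ⟨β, hβA, hβ⟩ := hpthpow x
    have hord : ∀ α ∈ A, (orderOf (x * α) = p ^ s ↔ orderOf (β * α) = p ^ s) := by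
      intro α hα
      apply order_iff_of_pow_eq p hp s hs
      intro j hj
      rw [hpowmul x α hα j hj]
      have h1 : (β * α) ^ (p ^ j) = β ^ (p ^ j) * α ^ (p ^ j) :=
        (show Commute β α from hAcomm β hβA α hα).mul_pow _
      rw [h1]
      congr 1
      obtain ⟨j', rfl⟩ : ∃ j', j = j' + 1 := ⟨j - 1, by omega⟩
      rw [pow_succ', pow_mul, pow_mul, hβ]
    apply Finset.card_nbij' (fun w => β * (x⁻¹ * w)) (fun γ => x * (β⁻¹ * γ))
    · intro w hw
      simp only [Finset.coe_filter, Finset.mem_filter, Set.mem_setOf_eq, hE, hC,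
        Finset.mem_univ, true_and] at hw ⊢
      obtain ⟨hw1, hw2⟩ := hw
      have hα : x⁻¹ * w ∈ A := by
        rw [← QuotientGroup.eq]; exact hw2.symm
      refine ⟨A.mul_mem hβA hα, ?_⟩
      rw [← hord _ hα]
      have : x * (x⁻¹ * w) = w := by group
      rw [this]; exact hw1
    · intro γ hγ
      simp only [Finset.coe_filter, Finset.mem_filter, Set.mem_setOf_eq, hE, hC,
        Finset.mem_univ, true_and] at hγ ⊢
      obtain ⟨hγ1, hγ2⟩ := hγ
      have hα : β⁻¹ * γ ∈ A := A.mul_mem (A.inv_mem hβA) hγ1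
      refine ⟨?_, ?_⟩
      · rw [hord _ hα]
        have : β * (β⁻¹ * γ) = γ := by group
        rw [this]; exact hγ2
      · rw [QuotientGroup.eq]
        have : (x * (β⁻¹ * γ))⁻¹ * x = (β⁻¹ * γ)⁻¹ := by group
        rw [this]; exact A.inv_mem hα
    · intro w _
      group
    · intro γ _
      group
  have h1 : E.card = ∑ q ∈ (Finset.univ : Finset (X ⧸ A)),
      (E.filter (fun w : X => (QuotientGroup.mk w : X ⧸ A) = q)).card :=
    Finset.card_eq_sum_card_fiberwise (fun _ _ => Finset.mem_univ _)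
  rw [h1, Finset.sum_congr rfl (fun q _ => hfib q), Finset.sum_const, Finset.card_univ,
    ← Nat.card_eq_fintype_card, ← Subgroup.index_eq_card, hAidx, smul_eq_mul]
  have hC1 : p ^ (s - 1) ∣ C.card := by
    have h4 := Cfsg.Agent.S3993.dvd_ncard_of_zpowers_closed (G := X) (p ^ (s - 1))
      {γ : X | γ ∈ A ∧ orderOf γ = p ^ s} ?_ ?_
    · have h5 : ({γ : X | γ ∈ A ∧ orderOf γ = p ^ s} : Set X).ncard = C.card := by
        rw [← Set.ncard_coe_finset]
        congr 1
        ext γ
        simp [hC]
      rwa [h5] at h4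
    · intro g hg h hh
      refine ⟨?_, ?_⟩
      · exact Subgroup.zpowers_le.mp (hh ▸ Subgroup.zpowers_le.mpr hg.1)
      · rw [← Nat.card_zpowers, hh, Nat.card_zpowers]; exact hg.2
    · intro g hg
      rw [hg.2, Nat.totient_prime_pow hp (by omega)]
      exact Dvd.intro _ rfl
  obtain ⟨l, hl⟩ := hC1
  rw [hl]
  refine ⟨l, ?_⟩
  have : p ^ s = p * p ^ (s - 1) := by rw [← pow_succ']; congr 1; omega
  rw [this]; ring


/-- Miller/Kulakoff: in a noncyclic `p`-group, `p` odd, the number of elements of order `p ^ s`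
(`s ≥ 2`) is divisible by `p ^ s`. -/
theorem pgroup_case (p : ℕ) (hp : p.Prime) (hodd : p ≠ 2) (s : ℕ) (hs : 2 ≤ s) :
    ∀ (n : ℕ) (X : Type u) [Group X] [Finite X], Nat.card X = p ^ n → ¬ IsCyclic X →
      p ^ s ∣ Nat.card {w : X // orderOf w = p ^ s} := by
  intro n
  induction n using Nat.strong_induction_on with
  | _ n ih =>
    intro X _ _ hX hnc
    classical
    have hfact : Fact p.Prime := ⟨hp⟩
    have hXp : IsPGroup p X := IsPGroup.of_card hX
    have hord : ∀ w : X, ∃ e, e < n ∧ orderOf w = p ^ e := by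
      intro w
      obtain ⟨e, he1, he2⟩ := (Nat.dvd_prime_pow hp).mp (hX ▸ orderOf_dvd_natCard w)
      refine ⟨e, ?_, he2⟩
      by_contra hcon
      have h1 : e = n := by omega
      exact hnc (isCyclic_of_orderOf_eq_card w (by rw [he2, h1, hX]))
    by_cases hsn : n ≤ s
    · have hemp : IsEmpty {w : X // orderOf w = p ^ s} := by
        constructor
        rintro ⟨w, hw⟩
        obtain ⟨e, he1, he2⟩ := hord w
        rw [he2] at hw
        have := Nat.pow_right_injective hp.two_le hw
        omega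
      rw [Nat.card_of_isEmpty]; exact dvd_zero _
    push Not at hsn
    have hn3 : 3 ≤ n := by omega
    by_cases hcm : ∃ a : X, orderOf a = p ^ (n - 1)
    · obtain ⟨a, ha⟩ := hcm
      exact cyclic_max_case p hp hodd n hn3 hX hnc a ha s hs
    · push Not at hcm
      have := Fintype.ofFinite (Subgroup X)
      obtain ⟨F, hF⟩ : ∃ F : Finset (Subgroup X),
          F = Finset.univ.filter (fun M : Subgroup X => M.index = p) := ⟨_, rfl⟩
      apply double_count p s hp (by omega) F
      · intro M hM
        rw [hF, Finset.mem_filter] at hM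
        have hMcard : Nat.card M = p ^ (n - 1) := by
          have h1 := M.card_mul_index
          rw [hM.2, hX] at h1
          have h2 : Nat.card M * p = p ^ (n - 1) * p := by
            rw [h1, ← pow_succ]; congr 1; omega
          exact Nat.eq_of_mul_eq_mul_right hp.pos h2
        have hMnc : ¬ IsCyclic M := by
          intro hc
          obtain ⟨g, hg⟩ := hc.exists_generator
          have h1 : orderOf g = Nat.card M := orderOf_eq_card_of_forall_mem_zpowers hg
          apply hcm (g : X)
          rw [Subgroup.orderOf_coe, h1, hMcard]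
        rw [← card_order_subgroup]
        exact ih (n - 1) (by omega) ↥M hMcard hMnc
      · intro x hx inst
        have hD : Subgroup.zpowers x ≠ ⊤ := by
          intro h
          apply hnc
          exact ⟨⟨x, fun y => by
            have hy : y ∈ Subgroup.zpowers x := by rw [h]; trivial
            exact hy⟩⟩
        have h1 := card_max_containing p hp hXp (Subgroup.zpowers x) hD
        have h2 : Nat.card {M : Subgroup X // M.index = p ∧ Subgroup.zpowers x ≤ M} =
            (F.filter (fun H => x ∈ H)).card := by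
          rw [Nat.card_eq_fintype_card, Fintype.card_subtype, hF, Finset.filter_filter]
          congr 1
          ext M
          simp [Subgroup.zpowers_le]
        rw [← h2]; exact h1

/-- The case `m = 1`: a finite group with noncyclic Sylow `p`-subgroups, `p` odd. -/
theorem general_case {G : Type u} [Group G] [Finite G] (p : ℕ) [hfact : Fact p.Prime]
    (hodd : p ≠ 2) (P : Sylow p G) (hP : ¬ IsCyclic ↥(P : Subgroup G)) (s : ℕ) (hs : 2 ≤ s) :
    p ^ s ∣ Nat.card {g : G // orderOf g = p ^ s} := by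
  classical
  have hp : p.Prime := hfact.out
  have := Fintype.ofFinite (Sylow p G)
  obtain ⟨F, hF⟩ : ∃ F : Finset (Subgroup G),
      F = Finset.image (fun Q : Sylow p G => (Q : Subgroup G)) Finset.univ := ⟨_, rfl⟩
  apply double_count p s hp (by omega) F
  · intro H hH
    rw [hF, Finset.mem_image] at hH
    obtain ⟨Q, -, hQ⟩ := hH
    rw [← hQ, ← card_order_subgroup]
    obtain ⟨n, hn⟩ := IsPGroup.iff_card.mp Q.isPGroup'
    have hQnc : ¬ IsCyclic ↥(Q : Subgroup G) := by
      intro hc
      apply hP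
      exact isCyclic_of_surjective (Sylow.equiv Q P).toMonoidHom (Sylow.equiv Q P).surjective
    exact pgroup_case p hp hodd s hs n ↥(Q : Subgroup G) hn hQnc
  · intro x hx inst
    have hD : IsPGroup p (Subgroup.zpowers x) :=
      IsPGroup.of_card (n := s) (by rw [Nat.card_zpowers, hx])
    have h1 := hD.card_modEq_card_fixedPoints (Sylow p G)
    have h2 := card_sylow_modEq_one p G
    have h3 : Nat.card (MulAction.fixedPoints (Subgroup.zpowers x) (Sylow p G)) =
        (F.filter (fun H => x ∈ H)).card := by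
      rw [hF, Finset.filter_image, Finset.card_image_of_injective _ (fun Q₁ Q₂ h => Sylow.ext h),
        Nat.card_eq_fintype_card, ← Set.toFinset_card]
      congr 1
      ext Q
      simp [hD.sylow_mem_fixedPoints_iff, Subgroup.zpowers_le]
    rw [← h3]
    exact h1.symm.trans h2



/-- Splitting elements of order `a * b` (`a`, `b` coprime) into a part of order `b` and a
commuting part of order `a`. -/
theorem card_order_mul {G : Type*} [Group G] [Fintype G] [DecidableEq G] (a b : ℕ)
    (hab : Nat.Coprime a b) (ha : 0 < a) (hb : 0 < b) :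
    (Finset.univ.filter (fun g : G => orderOf g = a * b)).card =
      ∑ y ∈ Finset.univ.filter (fun y : G => orderOf y = b),
        (Finset.univ.filter (fun z : G => z * y = y * z ∧ orderOf z = a)).card := by
  obtain ⟨u, hu0, hu1⟩ := Nat.chineseRemainder hab 0 1
  obtain ⟨v, hv1, hv0⟩ := Nat.chineseRemainder hab 1 0
  have hau : a ∣ u := (Nat.modEq_zero_iff_dvd).mp hu0
  have hbv : b ∣ v := (Nat.modEq_zero_iff_dvd).mp hv0
  have huv : u + v ≡ 1 [MOD a * b] := by
    apply (Nat.modEq_and_modEq_iff_modEq_mul hab).mp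
    exact ⟨by simpa using hu0.add hv1, by simpa using hu1.add hv0⟩
  have key : ∀ g : G, orderOf g = a * b →
      orderOf (g ^ u) = b ∧ orderOf (g ^ v) = a ∧ g ^ u * g ^ v = g := by
    intro g hg
    have hgu : (g ^ u) ^ b = 1 := by
      obtain ⟨t, rfl⟩ := hau
      rw [← pow_mul, show a * t * b = (a * b) * t by ring, pow_mul, ← hg, pow_orderOf_eq_one,
        one_pow]
    have hgv : (g ^ v) ^ a = 1 := by
      obtain ⟨t, rfl⟩ := hbv
      rw [← pow_mul, show b * t * a = (a * b) * t by ring, pow_mul, ← hg, pow_orderOf_eq_one,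
        one_pow]
    have hguv : g ^ u * g ^ v = g := by
      rw [← pow_add]
      conv_rhs => rw [← pow_one g]
      rw [pow_eq_pow_iff_modEq, hg]
      exact huv
    have hc : Commute (g ^ u) (g ^ v) := (Commute.refl g).pow_pow u v
    have d1 := orderOf_dvd_of_pow_eq_one hgu
    have d2 := orderOf_dvd_of_pow_eq_one hgv
    have h1 : orderOf (g ^ u * g ^ v) = orderOf (g ^ u) * orderOf (g ^ v) :=
      hc.orderOf_mul_eq_mul_orderOf_of_coprime
        (Nat.Coprime.coprime_dvd_left d1 (Nat.Coprime.coprime_dvd_right d2 hab.symm))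
    rw [hguv, hg] at h1
    have l1 := Nat.le_of_dvd hb d1
    have l2 := Nat.le_of_dvd ha d2
    have e1 : orderOf (g ^ u) = b := by
      by_contra hne
      have hlt : orderOf (g ^ u) < b := lt_of_le_of_ne l1 hne
      have : orderOf (g ^ u) * orderOf (g ^ v) < b * a :=
        Nat.mul_lt_mul_of_lt_of_le hlt l2 ha
      rw [← h1] at this
      rw [mul_comm] at this
      exact lt_irrefl _ this
    have e2 : orderOf (g ^ v) = a := by
      rw [e1, mul_comm] at h1
      exact (Nat.eq_of_mul_eq_mul_left hb h1).symm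
    exact ⟨e1, e2, hguv⟩
  rw [Finset.card_eq_sum_card_fiberwise (f := fun g : G => g ^ u)
    (t := Finset.univ.filter (fun y : G => orderOf y = b))]
  · apply Finset.sum_congr rfl
    intro y hy
    rw [Finset.mem_filter] at hy
    have hyb := hy.2
    apply Finset.card_nbij' (fun g => g ^ v) (fun z => y * z)
    · intro g hg
      simp only [Finset.coe_filter, Finset.mem_filter, Finset.mem_univ, true_and,
        Set.mem_ofPred_eq] at hg ⊢
      obtain ⟨hg1, rfl⟩ := hg
      exact ⟨((Commute.refl g).pow_pow v u).eq, (key g hg1).2.1⟩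
    · intro z hz
      simp only [Finset.coe_filter, Finset.mem_filter, Finset.mem_univ, true_and,
        Set.mem_ofPred_eq] at hz ⊢
      obtain ⟨hzy, hza⟩ := hz
      have hc : Commute y z := hzy.symm
      have hyu : y ^ u = y := by
        conv_rhs => rw [← pow_one y]
        rw [pow_eq_pow_iff_modEq, hyb]
        exact hu1
      have hzu : z ^ u = 1 := by
        obtain ⟨t, rfl⟩ := hau
        rw [pow_mul, ← hza, pow_orderOf_eq_one, one_pow]
      refine ⟨?_, ?_⟩
      · rw [hc.orderOf_mul_eq_mul_orderOf_of_coprime (by rw [hyb, hza]; exact hab.symm), hyb,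
          hza, mul_comm]
      · rw [hc.mul_pow, hyu, hzu, mul_one]
    · intro g hg
      simp only [Finset.coe_filter, Finset.mem_filter, Finset.mem_univ, true_and,
        Set.mem_ofPred_eq] at hg
      obtain ⟨hg1, rfl⟩ := hg
      exact (key g hg1).2.2
    · intro z hz
      simp only [Finset.coe_filter, Finset.mem_filter, Finset.mem_univ, true_and,
        Set.mem_ofPred_eq] at hz
      obtain ⟨hzy, hza⟩ := hz
      have hc : Commute y z := hzy.symm
      have hyv : y ^ v = 1 := by
        obtain ⟨t, rfl⟩ := hbv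
        rw [pow_mul, ← hyb, pow_orderOf_eq_one, one_pow]
      have hzv : z ^ v = z := by
        conv_rhs => rw [← pow_one z]
        rw [pow_eq_pow_iff_modEq, hza]
        exact hv1
      show (y * z) ^ v = z
      rw [hc.mul_pow, hyv, hzv, one_mul]
  · intro g hg
    simp only [Finset.coe_filter, Finset.mem_filter, Finset.mem_univ, true_and,
      Set.mem_ofPred_eq] at hg ⊢
    exact (key g hg).1

/-- Let G be a finite group, p an odd prime dividing the order of G whose Sylow p-subgroups are not cyclic, and n = p^s·m with s > 1 and m coprime to p. Then the number of elements of G of order n is a multiple of p^s. -/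
theorem result {G : Type*} [Group G] [Finite G] (p : ℕ) [Fact p.Prime] (hodd : p ≠ 2) (hpG : p ∣ Nat.card G)
    (P : Sylow p G) (hP : ¬ IsCyclic ↥(P : Subgroup G)) (s m : ℕ) (hs : 1 < s) (hm : Nat.Coprime p m) :
    p ^ s ∣ Nat.card {g : G // orderOf g = p ^ s * m} := by
  classical
  have hp : p.Prime := Fact.out
  have := Fintype.ofFinite G
  have hm0 : 0 < m := by
    rcases Nat.eq_zero_or_pos m with h | h
    · subst h
      rw [Nat.coprime_zero_right] at hm
      exact absurd hm hp.ne_one
    · exact h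
  have hcnt : Nat.card {g : G // orderOf g = p ^ s * m} =
      (Finset.univ.filter (fun g : G => orderOf g = p ^ s * m)).card :=
    Nat.subtype_card _ (by simp)
  rw [hcnt, card_order_mul (p ^ s) m (Nat.Coprime.pow_left s hm) (pow_pos hp.pos s) hm0]
  apply Cfsg.Agent.S3993.dvd_sum_of_conj_invariant
  · intro g y hy
    simp only [Finset.mem_filter, Finset.mem_univ, true_and] at hy ⊢
    have ho : orderOf (g * y * g⁻¹) = orderOf y := (MulAut.conj g).orderOf_eq y
    rw [ho, hy]
  · intro g y
    apply Finset.card_nbij' (fun z => g⁻¹ * z * g) (fun z => g * z * g⁻¹)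
    · intro z hz
      simp only [Finset.coe_filter, Finset.mem_univ, true_and, Set.mem_ofPred_eq] at hz ⊢
      obtain ⟨hz1, hz2⟩ := hz
      refine ⟨?_, ?_⟩
      · calc g⁻¹ * z * g * y = g⁻¹ * (z * (g * y * g⁻¹)) * g := by group
          _ = g⁻¹ * (g * y * g⁻¹ * z) * g := by rw [hz1]
          _ = y * (g⁻¹ * z * g) := by group
      · have := (MulAut.conj g⁻¹).orderOf_eq z
        simp only [MulAut.conj_apply, inv_inv] at this
        rw [this, hz2]
    · intro z hz
      simp only [Finset.coe_filter, Finset.mem_univ, true_and, Set.mem_ofPred_eq] at hz ⊢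
      obtain ⟨hz1, hz2⟩ := hz
      refine ⟨?_, ?_⟩
      · calc g * z * g⁻¹ * (g * y * g⁻¹) = g * (z * y) * g⁻¹ := by group
          _ = g * (y * z) * g⁻¹ := by rw [hz1]
          _ = g * y * g⁻¹ * (g * z * g⁻¹) := by group
      · have := (MulAut.conj g).orderOf_eq z
        simp only [MulAut.conj_apply] at this
        rw [this, hz2]
    · intro z _; group
    · intro z _; group
  · intro y hy
    obtain ⟨C, hCdef⟩ : ∃ C : Subgroup G, C = Subgroup.centralizer ({y} : Set G) := ⟨_, rfl⟩
    have hCmem : ∀ c : G, c ∈ C ↔ y * c = c * y := by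
      intro c; rw [hCdef]; exact Cfsg.Agent.S3993.mem_centralizer_singleton y c
    rw [← hCdef]
    have hfy : (Finset.univ.filter (fun z : G => z * y = y * z ∧ orderOf z = p ^ s)).card =
        Nat.card {c : C // orderOf c = p ^ s} := by
      rw [card_order_subgroup, ← Nat.subtype_card (p := fun z : G => z ∈ C ∧ orderOf z = p ^ s)
        (Finset.univ.filter (fun z : G => z * y = y * z ∧ orderOf z = p ^ s))
        (by
          intro z
          simp only [Finset.mem_filter, Finset.mem_univ, true_and]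
          rw [hCmem z]
          exact ⟨fun h => ⟨h.1.symm, h.2⟩, fun h => ⟨h.1.symm, h.2⟩⟩)]
    rw [hfy]
    obtain ⟨Q⟩ : Nonempty (Sylow p C) := inferInstance
    by_cases hQ : IsCyclic ↥(Q : Subgroup C)
    · -- then `p` divides the index of `C`
      have hidx : p ∣ C.index := by
        by_contra hnd
        apply hP
        have hfac : (Nat.card G).factorization p = (Nat.card C).factorization p := by
          rw [← C.card_mul_index, Nat.factorization_mul (Nat.card_pos.ne')
            (Subgroup.index_ne_zero_of_finite), Finsupp.add_apply,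
            Nat.factorization_eq_zero_of_not_dvd hnd, add_zero]
        have hcard : Nat.card ((Q : Subgroup C).map C.subtype) =
            p ^ (Nat.card G).factorization p := by
          rw [Subgroup.card_map_of_injective (Subgroup.subtype_injective C), hfac]
          exact Q.card_eq_multiplicity
        have e1 : ↥(Q : Subgroup C) ≃* ↥((Q : Subgroup C).map C.subtype) :=
          Subgroup.equivMapOfInjective _ _ (Subgroup.subtype_injective C)
        have hc1 : IsCyclic ↥((Q : Subgroup C).map C.subtype) :=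
          isCyclic_of_surjective e1.toMonoidHom e1.surjective
        have e2 := Sylow.equiv (Sylow.ofCard ((Q : Subgroup C).map C.subtype) hcard) P
        rw [Sylow.coe_ofCard] at e2
        exact isCyclic_of_surjective e2.toMonoidHom e2.surjective
      have htot := Cfsg.Agent.S3995.totient_dvd_card_order (G := C) (p ^ s)
      rw [Nat.totient_prime_pow hp (by omega)] at htot
      have h2 : p ^ (s - 1) ∣ Nat.card {c : C // orderOf c = p ^ s} :=
        (Dvd.intro _ rfl).trans htot
      have h3 : p ^ s = p * p ^ (s - 1) := by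
        rw [← pow_succ']; congr 1; omega
      have h4 := mul_dvd_mul hidx h2
      rw [← h3] at h4
      exact h4
    · exact dvd_mul_of_dvd_right (general_case p hodd Q hQ s (by omega)) _

end Cfsg.Agent.S4003
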