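import Mathlib
import Cfsg.Statements.S2429

set_option autoImplicit false
open Cfsg

namespace Cfsg.Agent.S2429

section abstract

variable {G : Type*} [Group G]

/-- `N = T ⊔ s₀T` as a sum of two copies of `T` -/
noncomputable def sumEquiv (T N : Subgroup G) (hTN : T ≤ N) (s₀ : G) (hs₀N : s₀ ∈ N) (hs₀T : s₀ ∉ T)
    (hidx : ∀ g ∈ N, g ∉ T → s₀⁻¹ * g ∈ T) : T ⊕ T ≃ N :=
  Equiv.ofBijective
    (fun x => Sum.elim (fun a : T => (⟨a.1, hTN a.2⟩ : N)) (fun a : T => (⟨s₀ * a.1, N.mul_mem hs₀N (hTN a.2)⟩ : N)) x) (by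
    constructor
    · rintro (a | a) (b | b) h
      · simp only [Sum.elim_inl, Subtype.mk.injEq] at h
        exact congrArg Sum.inl (Subtype.ext h)
      · exfalso
        simp only [Sum.elim_inl, Sum.elim_inr, Subtype.mk.injEq] at h
        apply hs₀T
        have : s₀ = a.1 * b.1⁻¹ := by rw [h, mul_inv_cancel_right]
        rw [this]
        exact T.mul_mem a.2 (T.inv_mem b.2)
      · exfalso
        simp only [Sum.elim_inl, Sum.elim_inr, Subtype.mk.injEq] at h
        apply hs₀T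
        have : s₀ = b.1 * a.1⁻¹ := by rw [← h, mul_inv_cancel_right]
        rw [this]
        exact T.mul_mem b.2 (T.inv_mem a.2)
      · simp only [Sum.elim_inr, Subtype.mk.injEq, mul_right_inj] at h
        exact congrArg Sum.inr (Subtype.ext h)
    · rintro ⟨g, hg⟩
      by_cases hgT : g ∈ T
      · exact ⟨Sum.inl ⟨g, hgT⟩, rfl⟩
      · refine ⟨Sum.inr ⟨s₀⁻¹ * g, hidx g hg hgT⟩, ?_⟩
        simp)

lemma sumEquiv_inl (T N : Subgroup G) (hTN : T ≤ N) (s₀ : G) (hs₀N : s₀ ∈ N) (hs₀T : s₀ ∉ T)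
    (hidx : ∀ g ∈ N, g ∉ T → s₀⁻¹ * g ∈ T) (a : T) :
    ((sumEquiv T N hTN s₀ hs₀N hs₀T hidx (Sum.inl a) : N) : G) = a.1 := rfl

lemma sumEquiv_inr (T N : Subgroup G) (hTN : T ≤ N) (s₀ : G) (hs₀N : s₀ ∈ N) (hs₀T : s₀ ∉ T)
    (hidx : ∀ g ∈ N, g ∉ T → s₀⁻¹ * g ∈ T) (a : T) :
    ((sumEquiv T N hTN s₀ hs₀N hs₀T hidx (Sum.inr a) : N) : G) = s₀ * a.1 := rfl

/-- commutation relation transported to `T ⊕ T` -/
def commCond (T : Subgroup G) : T ⊕ T → T ⊕ T → Prop
  | Sum.inl _, Sum.inl _ => True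
  | Sum.inl a, Sum.inr _ => a * a = 1
  | Sum.inr _, Sum.inl a => a * a = 1
  | Sum.inr a, Sum.inr b => a * a = b * b

lemma sq_iff (a : G) : a⁻¹ = a ↔ a * a = 1 := by
  constructor
  · intro h
    nth_rewrite 1 [← h]
    exact inv_mul_cancel a
  · intro h
    exact inv_eq_of_mul_eq_one_left h

lemma commute_iff (T N : Subgroup G) (hTN : T ≤ N) (hab : ∀ a ∈ T, ∀ b ∈ T, a * b = b * a)
    (s₀ : G) (hs₀N : s₀ ∈ N) (hs₀T : s₀ ∉ T) (hinv : ∀ t ∈ T, s₀ * t * s₀⁻¹ = t⁻¹)
    (hidx : ∀ g ∈ N, g ∉ T → s₀⁻¹ * g ∈ T) (x y : T ⊕ T) :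
    Commute (sumEquiv T N hTN s₀ hs₀N hs₀T hidx x) (sumEquiv T N hTN s₀ hs₀N hs₀T hidx y) ↔ commCond T x y := by
  have hs : ∀ t ∈ T, t * s₀ = s₀ * t⁻¹ := by
    intro t ht
    have := hinv t⁻¹ (T.inv_mem ht)
    rw [inv_inv] at this
    calc t * s₀ = (s₀ * t⁻¹ * s₀⁻¹) * s₀ := by rw [this]
      _ = s₀ * t⁻¹ := by rw [inv_mul_cancel_right]
  have key : ∀ u v : N, Commute u v ↔ (u : G) * (v : G) = (v : G) * (u : G) := by
    intro u v
    constructor
    · intro h; exact congrArg Subtype.val h.eq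
    · intro h; exact Subtype.ext h
  rw [key]
  rcases x with a | a <;> rcases y with b | b
  · simp only [sumEquiv_inl, commCond, iff_true]
    exact hab _ a.2 _ b.2
  · simp only [sumEquiv_inl, sumEquiv_inr, commCond]
    have e1 : a.1 * (s₀ * b.1) = s₀ * (a.1⁻¹ * b.1) := by
      rw [← mul_assoc, hs _ a.2, mul_assoc]
    have e2 : s₀ * b.1 * a.1 = s₀ * (a.1 * b.1) := by
      rw [mul_assoc, hab _ b.2 _ a.2]
    rw [e1, e2, mul_right_inj, mul_left_inj, sq_iff]
    constructor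
    · intro h; exact Subtype.ext h
    · intro h; exact congrArg Subtype.val h
  · simp only [sumEquiv_inl, sumEquiv_inr, commCond]
    have e1 : b.1 * (s₀ * a.1) = s₀ * (b.1⁻¹ * a.1) := by
      rw [← mul_assoc, hs _ b.2, mul_assoc]
    have e2 : s₀ * a.1 * b.1 = s₀ * (b.1 * a.1) := by
      rw [mul_assoc, hab _ a.2 _ b.2]
    rw [e1, e2, mul_right_inj, mul_left_inj, eq_comm, sq_iff]
    constructor
    · intro h; exact Subtype.ext h
    · intro h; exact congrArg Subtype.val h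
  · simp only [sumEquiv_inr, commCond]
    have e1 : s₀ * a.1 * (s₀ * b.1) = s₀ * (s₀ * (a.1⁻¹ * b.1)) := by
      rw [mul_assoc, ← mul_assoc a.1, hs _ a.2, mul_assoc]
    have e2 : s₀ * b.1 * (s₀ * a.1) = s₀ * (s₀ * (b.1⁻¹ * a.1)) := by
      rw [mul_assoc, ← mul_assoc b.1, hs _ b.2, mul_assoc]
    rw [e1, e2, mul_right_inj, mul_right_inj]
    constructor
    · intro h
      apply Subtype.ext
      show a.1 * a.1 = b.1 * b.1
      calc a.1 * a.1 = a.1 * (b.1 * (b.1⁻¹ * a.1)) := by simp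
        _ = a.1 * (b.1 * (a.1⁻¹ * b.1)) := by rw [h]
        _ = a.1 * ((b.1 * a.1⁻¹) * b.1) := by rw [mul_assoc]
        _ = a.1 * ((a.1⁻¹ * b.1) * b.1) := by rw [hab _ b.2 _ (T.inv_mem a.2)]
        _ = b.1 * b.1 := by simp [mul_assoc]
    · intro h
      have h' : a.1 * a.1 = b.1 * b.1 := congrArg Subtype.val h
      calc a.1⁻¹ * b.1 = a.1⁻¹ * (b.1 * b.1) * b.1⁻¹ := by simp [mul_assoc]
        _ = a.1⁻¹ * (a.1 * a.1) * b.1⁻¹ := by rw [h']
        _ = a.1 * b.1⁻¹ := by simp [mul_assoc]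
        _ = b.1⁻¹ * a.1 := hab _ a.2 _ (T.inv_mem b.2)

lemma count_pairs (T : Subgroup G) [Finite T] (hab : ∀ a ∈ T, ∀ b ∈ T, a * b = b * a)
    (hsq : Nat.card {t : T // t * t = 1} = 2) :
    Nat.card {p : (T ⊕ T) × (T ⊕ T) // commCond T p.1 p.2} = Nat.card T * (Nat.card T + 6) := by
  classical
  have : Fintype T := Fintype.ofFinite T
  rw [Nat.card_eq_fintype_card, Fintype.card_subtype, Finset.card_filter, Fintype.sum_prod_type]
  simp only [Fintype.sum_sum_type]
  have e1 : ∀ a c : T, (if commCond T (Sum.inl a) (Sum.inl c) then 1 else 0 : ℕ) = 1 := by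
    intro a c; simp [commCond]
  have e2 : ∀ a b : T, (if commCond T (Sum.inl a) (Sum.inr b) then 1 else 0 : ℕ) = if a * a = 1 then 1 else 0 := by
    intro a b; by_cases h : a * a = 1 <;> simp [commCond, h]
  have e3 : ∀ b a : T, (if commCond T (Sum.inr b) (Sum.inl a) then 1 else 0 : ℕ) = if a * a = 1 then 1 else 0 := by
    intro b a; by_cases h : a * a = 1 <;> simp [commCond, h]
  have e4 : ∀ b c : T, (if commCond T (Sum.inr b) (Sum.inr c) then 1 else 0 : ℕ) = if b * b = c * c then 1 else 0 := by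
    intro b c; by_cases h : b * b = c * c <;> simp [commCond, h]
  simp only [e1, e2, e3, e4]
  have c1 : (∑ a : T, if a * a = 1 then 1 else 0 : ℕ) = 2 := by
    rw [← Finset.card_filter, ← Fintype.card_subtype, ← Nat.card_eq_fintype_card]
    exact hsq
  have c2 : ∀ b : T, (∑ c : T, if b * b = c * c then 1 else 0 : ℕ) = 2 := by
    intro b
    rw [← c1, ← Equiv.sum_comp (Equiv.mulLeft b)]
    apply Finset.sum_congr rfl
    intro c _
    have hiff : b * b = (b * c) * (b * c) ↔ c * c = 1 := by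
      have hbc : b * c = c * b := Subtype.ext (hab _ b.2 _ c.2)
      have hexp : (b * c) * (b * c) = b * b * (c * c) := by
        calc (b * c) * (b * c) = b * (c * b) * c := by simp [mul_assoc]
          _ = b * (b * c) * c := by rw [hbc]
          _ = b * b * (c * c) := by simp [mul_assoc]
      rw [hexp]
      constructor
      · intro h
        have h' : b * b * (c * c) = b * b * 1 := by rw [← h, mul_one]
        exact mul_left_cancel h'
      · intro h
        rw [h, mul_one]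
    simp only [Equiv.coe_mulLeft, hiff]
  have s1 : ∀ a : T, (∑ _b : T, (if a * a = 1 then 1 else 0 : ℕ)) = Fintype.card T * (if a * a = 1 then 1 else 0) := by
    intro a; rw [Finset.sum_const, Finset.card_univ, smul_eq_mul]
  simp only [s1, Finset.sum_add_distrib, ← Finset.mul_sum, c1, c2, Finset.sum_const,
    Finset.card_univ, smul_eq_mul, Nat.card_eq_fintype_card]
  ring

theorem classes_count (T N : Subgroup G) [Finite T] (hTN : T ≤ N) (hab : ∀ a ∈ T, ∀ b ∈ T, a * b = b * a)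
    (s₀ : G) (hs₀N : s₀ ∈ N) (hs₀T : s₀ ∉ T) (hinv : ∀ t ∈ T, s₀ * t * s₀⁻¹ = t⁻¹)
    (hidx : ∀ g ∈ N, g ∉ T → s₀⁻¹ * g ∈ T) (hsq : Nat.card {t : T // t * t = 1} = 2) :
    Nat.card N = 2 * Nat.card T ∧ Nat.card (ConjClasses N) * 2 = Nat.card T + 6 := by
  have hN : Nat.card N = 2 * Nat.card T := by
    rw [← Nat.card_congr (sumEquiv T N hTN s₀ hs₀N hs₀T hidx), Nat.card_sum]
    ring
  refine ⟨hN, ?_⟩
  have h1 := card_comm_eq_card_conjClasses_mul_card N
  have h3 : Nat.card {p : N × N // Commute p.1 p.2} = Nat.card T * (Nat.card T + 6) := by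
    rw [← count_pairs T hab hsq]
    apply Nat.card_congr
    symm
    refine (Equiv.prodCongr (sumEquiv T N hTN s₀ hs₀N hs₀T hidx) (sumEquiv T N hTN s₀ hs₀N hs₀T hidx)).subtypeEquiv ?_
    intro p
    exact (commute_iff T N hTN hab s₀ hs₀N hs₀T hinv hidx p.1 p.2).symm
  rw [h3, hN] at h1
  have hpos : 0 < Nat.card T := Nat.card_pos
  apply Nat.eq_of_mul_eq_mul_left hpos
  rw [h1]
  ring

end abstract

section torus

abbrev SL (F : Type*) [Field F] := Matrix.SpecialLinearGroup (Fin 2) F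

variable {F : Type*} [Field F]

lemma det_eq (A : SL F) : A.1 0 0 * A.1 1 1 - A.1 0 1 * A.1 1 0 = 1 := by
  have := A.det_coe
  rwa [Matrix.det_fin_two] at this

/-- the non-split torus attached to `ε` -/
def Tns (ε : F) : Subgroup (SL F) where
  carrier := {g | g.1 0 0 = g.1 1 1 ∧ g.1 0 1 = ε * g.1 1 0}
  mul_mem' := by
    rintro g h ⟨hg1, hg2⟩ ⟨hh1, hh2⟩
    simp only [Set.mem_ofPred_eq, Matrix.SpecialLinearGroup.coe_mul, Matrix.mul_apply, Fin.sum_univ_two]
    constructor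
    · linear_combination h.1 0 0 * hg1 + g.1 1 1 * hh1 + h.1 1 0 * hg2 - g.1 1 0 * hh2
    · linear_combination g.1 0 0 * hh2 + ε * h.1 1 0 * hg1 + h.1 1 1 * hg2 - ε * g.1 1 0 * hh1
  one_mem' := by simp
  inv_mem' := by
    rintro g ⟨hg1, hg2⟩
    simp only [Set.mem_ofPred_eq, Matrix.SpecialLinearGroup.coe_inv, Matrix.adjugate_fin_two, Matrix.of_apply, Matrix.cons_val',
      Matrix.cons_val_zero, Matrix.cons_val_one, Matrix.empty_val', Matrix.cons_val_fin_one]
    constructor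
    · exact hg1.symm
    · rw [hg2]; ring

lemma mem_Tns (ε : F) (g : SL F) : g ∈ Tns ε ↔ g.1 0 0 = g.1 1 1 ∧ g.1 0 1 = ε * g.1 1 0 := Iff.rfl

/-- the other coset of the torus in its normaliser -/
def Tw (ε : F) : Set (SL F) := {g | g.1 0 0 = - g.1 1 1 ∧ g.1 0 1 = -(ε * g.1 1 0)}

lemma mem_Tw (ε : F) (g : SL F) : g ∈ Tw ε ↔ g.1 0 0 = - g.1 1 1 ∧ g.1 0 1 = -(ε * g.1 1 0) := Iff.rfl

lemma comm_of_mem (ε : F) (g h : SL F) (hg : g ∈ Tns ε) (hh : h ∈ Tns ε) : g * h = h * g := by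
  obtain ⟨hg1, hg2⟩ := hg
  obtain ⟨hh1, hh2⟩ := hh
  ext i j
  fin_cases i <;> fin_cases j <;>
    simp only [Matrix.SpecialLinearGroup.coe_mul, Matrix.mul_apply, Fin.sum_univ_two, Fin.zero_eta, Fin.mk_one, Fin.isValue] <;>
    simp only [hg1, hg2, hh1, hh2] <;> ring

lemma cent_of_mem (ε : F) (g : SL F) (hg : g ∈ Tns ε) (hb : g.1 1 0 ≠ 0) (h : SL F) :
    h ∈ Subgroup.centralizer ({g} : Set (SL F)) ↔ h ∈ Tns ε := by
  rw [Subgroup.mem_centralizer_iff]
  simp only [Set.mem_singleton_iff, forall_eq]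
  constructor
  · intro hc
    obtain ⟨hg1, hg2⟩ := hg
    have h' : g.1 * h.1 = h.1 * g.1 := by
      rw [← Matrix.SpecialLinearGroup.coe_mul, ← Matrix.SpecialLinearGroup.coe_mul, hc]
    have e00 := congrFun (congrFun h' 0) 0
    have e10 := congrFun (congrFun h' 1) 0
    simp only [Matrix.mul_apply, Fin.sum_univ_two] at e00 e10
    rw [hg2] at e00
    rw [← hg1] at e10
    constructor
    · have : g.1 1 0 * (h.1 0 0 - h.1 1 1) = 0 := by linear_combination e10
      have := (mul_eq_zero.mp this).resolve_left hb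
      linear_combination this
    · have : g.1 1 0 * (h.1 0 1 - ε * h.1 1 0) = 0 := by linear_combination -e00
      have := (mul_eq_zero.mp this).resolve_left hb
      linear_combination this
  · intro hh
    exact comm_of_mem ε g h hg hh

lemma eq_pm_one (ε : F) (g : SL F) (hg : g ∈ Tns ε) (hb : g.1 1 0 = 0) : g.1 = 1 ∨ g.1 = -1 := by
  obtain ⟨hg1, hg2⟩ := hg
  have hdet := det_eq g
  rw [hb, mul_zero] at hg2
  rw [hg2, zero_mul, sub_zero, ← hg1] at hdet
  have : (g.1 0 0 - 1) * (g.1 0 0 + 1) = 0 := by linear_combination hdet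
  rcases mul_eq_zero.mp this with h | h
  · left
    have h00 : g.1 0 0 = 1 := by linear_combination h
    ext i j
    fin_cases i <;> fin_cases j
    · simpa using h00
    · simpa using hg2
    · simpa using hb
    · simpa using (hg1.symm.trans h00)
  · right
    have h00 : g.1 0 0 = -1 := by linear_combination h
    ext i j
    fin_cases i <;> fin_cases j
    · simpa using h00
    · simpa using hg2
    · simpa using hb
    · simpa using (hg1.symm.trans h00)

/-- the torus as the conic `a² - ε b² = 1` -/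
def TEquiv (ε : F) : Tns ε ≃ {p : F × F // p.1 ^ 2 - ε * p.2 ^ 2 = 1} where
  toFun g := ⟨(g.1.1 0 0, g.1.1 1 0), by
    have hd := det_eq g.1
    have h1 := g.2.1
    have h2 := g.2.2
    rw [← h1, h2] at hd
    linear_combination hd⟩
  invFun p := ⟨⟨!![p.1.1, ε * p.1.2; p.1.2, p.1.1], by rw [Matrix.det_fin_two_of]; linear_combination p.2⟩, by
    show (!![p.1.1, ε * p.1.2; p.1.2, p.1.1] : Matrix (Fin 2) (Fin 2) F) 0 0 =
        (!![p.1.1, ε * p.1.2; p.1.2, p.1.1] : Matrix (Fin 2) (Fin 2) F) 1 1 ∧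
      (!![p.1.1, ε * p.1.2; p.1.2, p.1.1] : Matrix (Fin 2) (Fin 2) F) 0 1 =
        ε * (!![p.1.1, ε * p.1.2; p.1.2, p.1.1] : Matrix (Fin 2) (Fin 2) F) 1 0
    constructor <;> simp⟩
  left_inv g := by
    apply Subtype.ext
    apply Subtype.ext
    have h1 := g.2.1
    have h2 := g.2.2
    ext i j
    fin_cases i <;> fin_cases j
    · simp
    · simpa using h2.symm
    · simp
    · simpa using h1
  right_inv p := by
    apply Subtype.ext
    simp

lemma nonsq_ne (ε : F) (hε : ¬ IsSquare ε) (t : F) : ε * t ^ 2 - 1 ≠ 0 := by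
  intro h
  apply hε
  have ht : t ≠ 0 := by
    rintro rfl
    simp at h
  refine ⟨t⁻¹, ?_⟩
  field_simp
  linear_combination h

/-- rational parametrisation of the conic -/
noncomputable def conicEquiv [DecidableEq F] (ε : F) (hε : ¬ IsSquare ε) (h2 : (2 : F) ≠ 0) :
    Option F ≃ {p : F × F // p.1 ^ 2 - ε * p.2 ^ 2 = 1} where
  toFun
    | none => ⟨(1, 0), by ring⟩
    | some t => ⟨((ε * t ^ 2 + 1) / (ε * t ^ 2 - 1), 2 * t / (ε * t ^ 2 - 1)), by
        have := nonsq_ne ε hε t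
        field_simp
        ring⟩
  invFun p := if p.1.1 = 1 then none else some (p.1.2 / (p.1.1 - 1))
  left_inv := by
    rintro (_ | t)
    · simp
    · have h := nonsq_ne ε hε t
      have ha : (ε * t ^ 2 + 1) / (ε * t ^ 2 - 1) - 1 = 2 / (ε * t ^ 2 - 1) := by
        field_simp
        ring
      have hne1 : (ε * t ^ 2 + 1) / (ε * t ^ 2 - 1) ≠ 1 := by
        intro h'
        rw [h', sub_self] at ha
        exact (div_ne_zero h2 h) ha.symm
      simp only [hne1, if_false]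
      rw [ha]
      congr 1
      rw [div_div_div_cancel_right₀ h]
      exact mul_div_cancel_left₀ t h2
  right_inv := by
    rintro ⟨⟨a, b⟩, hp⟩
    simp only at hp
    by_cases ha : a = 1
    · subst ha
      have hb : b = 0 := by
        have : ε * b ^ 2 = 0 := by linear_combination -hp
        rcases mul_eq_zero.mp this with h | h
        · exfalso
          apply hε
          rw [h]
          exact ⟨0, by simp⟩
        · exact pow_eq_zero_iff (two_ne_zero) |>.mp h
      subst hb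
      simp
    · have ha' : a - 1 ≠ 0 := sub_ne_zero.mpr ha
      have e1 : ε * (b / (a - 1)) ^ 2 - 1 = 2 / (a - 1) := by
        field_simp
        first | linear_combination -hp | linear_combination hp
      have e2 : ε * (b / (a - 1)) ^ 2 + 1 = 2 * a / (a - 1) := by
        field_simp
        first | linear_combination -hp | linear_combination hp
      simp only [ha, if_false]
      apply Subtype.ext
      apply Prod.ext
      · show (ε * (b / (a - 1)) ^ 2 + 1) / (ε * (b / (a - 1)) ^ 2 - 1) = a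
        rw [e1, e2]
        field_simp
      · show 2 * (b / (a - 1)) / (ε * (b / (a - 1)) ^ 2 - 1) = b
        rw [e1]
        field_simp

lemma card_Tns [Fintype F] (ε : F) (hε : ¬ IsSquare ε) (h2 : (2 : F) ≠ 0) :
    Nat.card (Tns ε) = Fintype.card F + 1 := by
  classical
  rw [Nat.card_congr ((TEquiv ε).trans (conicEquiv ε hε h2).symm), Nat.card_eq_fintype_card,
    Fintype.card_option]

lemma cyclic_Tns [Fintype F] (ε : F) (hε : ¬ IsSquare ε) : IsCyclic (Tns ε) := by
  classical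
  obtain ⟨s, hs⟩ := IsAlgClosed.exists_pow_nat_eq (algebraMap F (AlgebraicClosure F) ε) (n := 2) (by norm_num)
  have key : ∀ (x y : F), algebraMap F (AlgebraicClosure F) x + algebraMap F (AlgebraicClosure F) y * s = 0 →
      x = 0 ∧ y = 0 := by
    intro x y hxy
    by_cases hy : y = 0
    · subst hy
      simp only [map_zero, zero_mul, add_zero] at hxy
      exact ⟨(map_eq_zero _).mp hxy, rfl⟩
    · exfalso
      apply hε
      refine ⟨x / y, ?_⟩
      apply (algebraMap F (AlgebraicClosure F)).injective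
      have hy' : algebraMap F (AlgebraicClosure F) y ≠ 0 := by
        intro h0
        exact hy ((map_eq_zero _).mp h0)
      have hs' : s = -(algebraMap F (AlgebraicClosure F) x) / (algebraMap F (AlgebraicClosure F) y) := by
        field_simp
        linear_combination hxy
      rw [← hs, hs', map_mul, map_div₀]
      ring
  let φ : Tns ε →* AlgebraicClosure F :=
    { toFun := fun g => algebraMap F (AlgebraicClosure F) (g.1.1 0 0) +
        algebraMap F (AlgebraicClosure F) (g.1.1 1 0) * s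
      map_one' := by simp
      map_mul' := by
        intro g h
        have hg1 := g.2.1
        have hg2 := g.2.2
        show algebraMap F (AlgebraicClosure F) ((g.1 * h.1).1 0 0) +
          algebraMap F (AlgebraicClosure F) ((g.1 * h.1).1 1 0) * s = _
        simp only [Matrix.SpecialLinearGroup.coe_mul, Matrix.mul_apply, Fin.sum_univ_two]
        rw [hg2, ← hg1]
        simp only [map_add, map_mul]
        linear_combination (-(algebraMap F (AlgebraicClosure F) (g.1.1 1 0)) *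
          algebraMap F (AlgebraicClosure F) (h.1.1 1 0)) * hs }
  have hinj : Function.Injective φ := by
    intro g h hgh
    have h0 : algebraMap F (AlgebraicClosure F) (g.1.1 0 0 - h.1.1 0 0) +
        algebraMap F (AlgebraicClosure F) (g.1.1 1 0 - h.1.1 1 0) * s = 0 := by
      have : algebraMap F (AlgebraicClosure F) (g.1.1 0 0) + algebraMap F (AlgebraicClosure F) (g.1.1 1 0) * s =
          algebraMap F (AlgebraicClosure F) (h.1.1 0 0) + algebraMap F (AlgebraicClosure F) (h.1.1 1 0) * s := hgh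
      simp only [map_sub]
      linear_combination this
    obtain ⟨k1, k2⟩ := key _ _ h0
    have e00 : g.1.1 0 0 = h.1.1 0 0 := sub_eq_zero.mp k1
    have e10 : g.1.1 1 0 = h.1.1 1 0 := sub_eq_zero.mp k2
    apply Subtype.ext
    apply Subtype.ext
    ext i j
    fin_cases i <;> fin_cases j
    · exact e00
    · show g.1.1 0 1 = h.1.1 0 1
      rw [g.2.2, h.2.2, e10]
    · exact e10
    · show g.1.1 1 1 = h.1.1 1 1
      rw [← g.2.1, ← h.2.1, e00]
  exact isCyclic_of_injective_ringHom φ hinj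

lemma exists_noncentral (ε : F) (hε : ¬ IsSquare ε) (h2 : (2 : F) ≠ 0) :
    ∃ g : SL F, g ∈ Tns ε ∧ g.1 1 0 ≠ 0 := by
  have h1 : ε - 1 ≠ 0 := by
    have := nonsq_ne ε hε 1
    simpa using this
  refine ⟨⟨!![(ε + 1) / (ε - 1), ε * (2 / (ε - 1)); 2 / (ε - 1), (ε + 1) / (ε - 1)], ?_⟩, ?_, ?_⟩
  · rw [Matrix.det_fin_two_of]
    field_simp
    ring
  · show (!![(ε + 1) / (ε - 1), ε * (2 / (ε - 1)); 2 / (ε - 1), (ε + 1) / (ε - 1)] : Matrix (Fin 2) (Fin 2) F) 0 0 =
        (!![(ε + 1) / (ε - 1), ε * (2 / (ε - 1)); 2 / (ε - 1), (ε + 1) / (ε - 1)] : Matrix (Fin 2) (Fin 2) F) 1 1 ∧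
      (!![(ε + 1) / (ε - 1), ε * (2 / (ε - 1)); 2 / (ε - 1), (ε + 1) / (ε - 1)] : Matrix (Fin 2) (Fin 2) F) 0 1 =
        ε * (!![(ε + 1) / (ε - 1), ε * (2 / (ε - 1)); 2 / (ε - 1), (ε + 1) / (ε - 1)] : Matrix (Fin 2) (Fin 2) F) 1 0
    constructor <;> simp
  · show (!![(ε + 1) / (ε - 1), ε * (2 / (ε - 1)); 2 / (ε - 1), (ε + 1) / (ε - 1)] : Matrix (Fin 2) (Fin 2) F) 1 0 ≠ 0
    simp only [Matrix.of_apply, Matrix.cons_val', Matrix.cons_val_zero, Matrix.cons_val_one, Matrix.empty_val',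
      Matrix.cons_val_fin_one]
    exact div_ne_zero h2 h1

lemma isSquare_mul_of_not [Fintype F] {a b : F} (ha : ¬ IsSquare a) (hb : ¬ IsSquare b) : IsSquare (a * b) := by
  classical
  have ha0 : a ≠ 0 := fun h => ha (h ▸ IsSquare.zero)
  have hb0 : b ≠ 0 := fun h => hb (h ▸ IsSquare.zero)
  have h1 := quadraticChar_neg_one_iff_not_isSquare.mpr ha
  have h2 := quadraticChar_neg_one_iff_not_isSquare.mpr hb
  rw [← quadraticChar_one_iff_isSquare (mul_ne_zero ha0 hb0), map_mul, h1, h2]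
  norm_num

open Polynomial in
lemma conj_into [Fintype F] (ε : F) (hε : ¬ IsSquare ε) (hF : Fintype.card F % 2 = 1) (h2 : (2 : F) ≠ 0) (g : SL F)
    (hg : ∀ (c : F) (v : Fin 2 → F), v ≠ 0 → g.1.mulVec v ≠ c • v) :
    ∃ h : SL F, h * g * h⁻¹ ∈ Tns ε := by
  have h4 : (4 : F) ≠ 0 := by
    have : (4 : F) = 2 * 2 := by norm_num
    rw [this]; exact mul_ne_zero h2 h2
  have hε0 : ε ≠ 0 := fun h => hε (h ▸ IsSquare.zero)
  obtain ⟨x, hx⟩ : ∃ x, x = g.1 0 0 := ⟨_, rfl⟩
  obtain ⟨y, hy⟩ : ∃ y, y = g.1 0 1 := ⟨_, rfl⟩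
  obtain ⟨z, hz⟩ : ∃ z, z = g.1 1 0 := ⟨_, rfl⟩
  obtain ⟨w, hw⟩ : ∃ w, w = g.1 1 1 := ⟨_, rfl⟩
  have hdet : x * w - y * z = 1 := by rw [hx, hy, hz, hw]; exact det_eq g
  -- z ≠ 0
  have hz0 : z ≠ 0 := by
    intro h0
    apply hg x ![1, 0] (by intro h; have := congrFun h 0; simp at this)
    ext i
    fin_cases i
    · simp [Matrix.mulVec, dotProduct, Fin.sum_univ_two, ← hx]
    · simp [Matrix.mulVec, dotProduct, Fin.sum_univ_two, ← hz, h0]
  -- the discriminant is not a square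
  have hD : ¬ IsSquare ((x + w) ^ 2 - 4) := by
    rintro ⟨r, hr⟩
    obtain ⟨c, hc⟩ : ∃ c : F, 2 * c = x + w + r := ⟨(x + w + r) / 2, by field_simp⟩
    have hE : x * (c - w) + y * z = c * (c - w) := by
      have : 4 * (x * (c - w) + y * z - c * (c - w)) = 0 := by
        linear_combination (x + w + (-1) * r + (-2) * c) * hc + (1) * hr + ((-4)) * hdet
      have := (mul_eq_zero.mp this).resolve_left h4
      linear_combination this
    apply hg c ![c - w, z] (by intro h; have := congrFun h 1; simp at this; exact hz0 this)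
    ext i
    fin_cases i
    · simp [Matrix.mulVec, dotProduct, Fin.sum_univ_two, ← hx, ← hy]
      linear_combination hE
    · simp [Matrix.mulVec, dotProduct, Fin.sum_univ_two, ← hz, ← hw]
      ring
  have hD0 : (x + w) ^ 2 - 4 ≠ 0 := fun h => hD (h ▸ IsSquare.zero)
  obtain ⟨r, hr⟩ := isSquare_mul_of_not hD hε
  obtain ⟨a, ha⟩ : ∃ a : F, 2 * a = x + w := ⟨(x + w) / 2, by field_simp⟩
  obtain ⟨b, hb⟩ : ∃ b : F, 2 * ε * b = r := ⟨r / (2 * ε), by field_simp⟩
  have hn : a ^ 2 - ε * b ^ 2 = 1 := by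
    have : 4 * ε * (a ^ 2 - ε * b ^ 2 - 1) = 0 := by
      linear_combination (x * ε + w * ε + 2 * a * ε) * ha + ((-1) * r + (-2) * b * ε) * hb + (1) * hr
    have := (mul_eq_zero.mp this).resolve_left (mul_ne_zero h4 hε0)
    linear_combination this
  have hb0 : b ≠ 0 := by
    rintro rfl
    rw [mul_zero] at hb
    rw [← hb, mul_zero] at hr
    exact (mul_ne_zero hD0 hε0) hr
  -- find (p, q) with z q² + (x - w) p q - y p² = b
  have hD' : (x - w) ^ 2 + 4 * y * z = (x + w) ^ 2 - 4 := by linear_combination (-4) * hdet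
  have hD0' : (x - w) ^ 2 + 4 * y * z ≠ 0 := by rw [hD']; exact hD0
  obtain ⟨u, p, hup⟩ := FiniteField.exists_root_sum_quadratic
    (f := C z * X ^ 2 - C b) (g := C (-((x - w) ^ 2 + 4 * y * z) / (4 * z)) * X ^ 2)
    (by
      rw [Polynomial.degree_sub_C (by rw [Polynomial.degree_C_mul_X_pow 2 hz0]; norm_num)]
      exact Polynomial.degree_C_mul_X_pow 2 hz0)
    (by
      apply Polynomial.degree_C_mul_X_pow 2
      exact div_ne_zero (neg_ne_zero.mpr hD0') (mul_ne_zero h4 hz0))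
    hF
  simp only [Polynomial.eval_sub, Polynomial.eval_mul, Polynomial.eval_C, Polynomial.eval_pow,
    Polynomial.eval_X] at hup
  obtain ⟨q, hq⟩ : ∃ q : F, q = u - (x - w) * p / (2 * z) := ⟨_, rfl⟩
  have hform : z * q ^ 2 + (x - w) * p * q - y * p ^ 2 = b := by
    have e : z * q ^ 2 + (x - w) * p * q - y * p ^ 2 - b
        = z * u ^ 2 - b + -((x - w) ^ 2 + 4 * y * z) / (4 * z) * p ^ 2 := by
      rw [hq]
      field_simp
      ring
    rw [hup] at e
    linear_combination e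
  have k00 : (p * (x - a) + q * z) * x + (p * y + q * (w - a)) * z = a * (p * (x - a) + q * z) + ε * b ^ 2 * p := by
    linear_combination ((-1) * x * p + (-1) * z * q) * ha + (p) * hn + ((-1) * p) * hdet
  have k01 : (p * (x - a) + q * z) * y + (p * y + q * (w - a)) * w = a * (p * y + q * (w - a)) + ε * b ^ 2 * q := by
    linear_combination ((-1) * y * p + (-1) * w * q) * ha + (q) * hn + ((-1) * q) * hdet
  let h : SL F := ⟨!![(p * (x - a) + q * z) / b, (p * y + q * (w - a)) / b; p, q], by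
    rw [Matrix.det_fin_two_of]
    field_simp
    linear_combination hform⟩
  let t₀ : SL F := ⟨!![a, ε * b; b, a], by
    rw [Matrix.det_fin_two_of]
    linear_combination hn⟩
  have ht₀ : t₀ ∈ Tns ε := by
    show (!![a, ε * b; b, a] : Matrix (Fin 2) (Fin 2) F) 0 0 = (!![a, ε * b; b, a] : Matrix (Fin 2) (Fin 2) F) 1 1 ∧
      (!![a, ε * b; b, a] : Matrix (Fin 2) (Fin 2) F) 0 1 = ε * (!![a, ε * b; b, a] : Matrix (Fin 2) (Fin 2) F) 1 0
    constructor <;> simp
  have hcomm : h * g = t₀ * h := by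
    ext i j
    fin_cases i <;> fin_cases j
    · simp only [Matrix.SpecialLinearGroup.coe_mul, Matrix.mul_apply, Fin.sum_univ_two]
      simp [h, t₀, ← hx, ← hz]
      field_simp
      linear_combination k00
    · simp only [Matrix.SpecialLinearGroup.coe_mul, Matrix.mul_apply, Fin.sum_univ_two]
      simp [h, t₀, ← hy, ← hw]
      field_simp
      linear_combination k01
    · simp only [Matrix.SpecialLinearGroup.coe_mul, Matrix.mul_apply, Fin.sum_univ_two]
      simp [h, t₀, ← hx, ← hz]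
      field_simp
      ring
    · simp only [Matrix.SpecialLinearGroup.coe_mul, Matrix.mul_apply, Fin.sum_univ_two]
      simp [h, t₀, ← hy, ← hw]
      field_simp
      ring
  refine ⟨h, ?_⟩
  rw [hcomm, mul_inv_cancel_right]
  exact ht₀

lemma conj_apply_00 (P A : SL F) :
    (P * A * P⁻¹).1 0 0 = (P.1 0 0 * A.1 0 0 + P.1 0 1 * A.1 1 0) * P.1 1 1
      - (P.1 0 0 * A.1 0 1 + P.1 0 1 * A.1 1 1) * P.1 1 0 := by
  simp only [Matrix.SpecialLinearGroup.coe_mul, Matrix.SpecialLinearGroup.coe_inv,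
          Matrix.adjugate_fin_two, Matrix.mul_apply, Fin.sum_univ_two]
  simp
  ring

lemma conj_apply_11 (P A : SL F) :
    (P * A * P⁻¹).1 1 1 = -(P.1 1 0 * A.1 0 0 + P.1 1 1 * A.1 1 0) * P.1 0 1
      + (P.1 1 0 * A.1 0 1 + P.1 1 1 * A.1 1 1) * P.1 0 0 := by
  simp only [Matrix.SpecialLinearGroup.coe_mul, Matrix.SpecialLinearGroup.coe_inv,
          Matrix.adjugate_fin_two, Matrix.mul_apply, Fin.sum_univ_two]
  simp
  ring

lemma conj_apply_10 (P A : SL F) :
    (P * A * P⁻¹).1 1 0 = (P.1 1 0 * A.1 0 0 + P.1 1 1 * A.1 1 0) * P.1 1 1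
      - (P.1 1 0 * A.1 0 1 + P.1 1 1 * A.1 1 1) * P.1 1 0 := by
  simp only [Matrix.SpecialLinearGroup.coe_mul, Matrix.SpecialLinearGroup.coe_inv,
          Matrix.adjugate_fin_two, Matrix.mul_apply, Fin.sum_univ_two]
  simp
  ring

lemma conj_apply_01 (P A : SL F) :
    (P * A * P⁻¹).1 0 1 = -(P.1 0 0 * A.1 0 0 + P.1 0 1 * A.1 1 0) * P.1 0 1
      + (P.1 0 0 * A.1 0 1 + P.1 0 1 * A.1 1 1) * P.1 0 0 := by
  simp only [Matrix.SpecialLinearGroup.coe_mul, Matrix.SpecialLinearGroup.coe_inv,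
          Matrix.adjugate_fin_two, Matrix.mul_apply, Fin.sum_univ_two]
  simp
  ring

lemma Tw_conj (ε : F) (g t : SL F) (hg : g ∈ Tw ε) (ht : t ∈ Tns ε) : g * t * g⁻¹ = t⁻¹ := by
  have key : t * (g * t) = g := by
    obtain ⟨hg1, hg2⟩ := hg
    obtain ⟨ht1, ht2⟩ := ht
    have hdet := det_eq t
    rw [← mul_assoc]
    ext i j
    fin_cases i <;> fin_cases j
    · simp only [Matrix.SpecialLinearGroup.coe_mul, Matrix.mul_apply, Fin.sum_univ_two, Fin.zero_eta, Fin.mk_one, Fin.isValue]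
      linear_combination ((t.1 0 0) * (g.1 0 0)) * ht1 + ((t.1 0 0) * (g.1 1 0)) * ht2 + ((t.1 0 1) * (t.1 1 0)) * hg1 + ((t.1 0 0) * (t.1 1 0)) * hg2 + ((g.1 0 0)) * hdet
    · simp only [Matrix.SpecialLinearGroup.coe_mul, Matrix.mul_apply, Fin.sum_univ_two, Fin.zero_eta, Fin.mk_one, Fin.isValue]
      linear_combination ((-1) * (t.1 0 1) * (g.1 1 1)) * ht1 + ((t.1 0 1) * (g.1 1 0)) * ht2 + ((t.1 0 0) * (t.1 0 1)) * hg1 + ((t.1 0 1) * (t.1 1 0)) * hg2 + ((g.1 0 1)) * hdet
    · simp only [Matrix.SpecialLinearGroup.coe_mul, Matrix.mul_apply, Fin.sum_univ_two, Fin.zero_eta, Fin.mk_one, Fin.isValue]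
      linear_combination ((-1) * (t.1 1 0) * (g.1 1 1)) * ht1 + ((t.1 1 0) * (g.1 1 0)) * ht2 + ((t.1 0 0) * (t.1 1 0)) * hg1 + ((t.1 1 0)^2) * hg2 + ((g.1 1 0)) * hdet
    · simp only [Matrix.SpecialLinearGroup.coe_mul, Matrix.mul_apply, Fin.sum_univ_two, Fin.zero_eta, Fin.mk_one, Fin.isValue]
      linear_combination ((-1) * (t.1 0 0) * (g.1 0 0) + (-1) * (t.1 0 0) * (g.1 1 1) + (-1) * (t.1 0 1) * (g.1 1 0) + (-1) * (t.1 1 0) * (g.1 0 1) + (-1) * (t.1 1 1) * (g.1 1 1)) * ht1 + ((t.1 0 0) * (g.1 1 0)) * ht2 + ((-1) + (t.1 0 0)^2) * hg1 + ((t.1 0 0) * (t.1 1 0)) * hg2 + ((-1) * (g.1 0 0)) * hdet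
  have : g * t = t⁻¹ * g := eq_inv_mul_iff_mul_eq.mpr key
  rw [this, mul_inv_cancel_right]

lemma Tw_inv (ε : F) (g : SL F) (hg : g ∈ Tw ε) : g⁻¹ ∈ Tw ε := by
  obtain ⟨hg1, hg2⟩ := hg
  rw [mem_Tw]
  simp only [Matrix.SpecialLinearGroup.coe_inv, Matrix.adjugate_fin_two, Matrix.of_apply, Matrix.cons_val',
      Matrix.cons_val_zero, Matrix.cons_val_one, Matrix.empty_val', Matrix.cons_val_fin_one]
  constructor
  · rw [hg1]; ring
  · rw [hg2]; ring

lemma Tw_mul (ε : F) (g h : SL F) (hg : g ∈ Tw ε) (hh : h ∈ Tw ε) : g * h ∈ Tns ε := by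
  obtain ⟨hg1, hg2⟩ := hg
  obtain ⟨hh1, hh2⟩ := hh
  rw [mem_Tns]
  simp only [Matrix.SpecialLinearGroup.coe_mul, Matrix.mul_apply, Fin.sum_univ_two]
  rw [hg1, hg2, hh1, hh2]
  constructor <;> ring

lemma Tw_disjoint (ε : F) (hε0 : ε ≠ 0) (h2 : (2 : F) ≠ 0) (g : SL F) (hg : g ∈ Tw ε) : g ∉ Tns ε := by
  rintro ⟨h1, h2'⟩
  obtain ⟨hg1, hg2⟩ := hg
  have hdet := det_eq g
  have e1 : g.1 1 1 = 0 := by
    have : 2 * g.1 1 1 = 0 := by linear_combination hg1 - h1
    exact (mul_eq_zero.mp this).resolve_left h2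
  have e2 : g.1 1 0 = 0 := by
    have : 2 * ε * g.1 1 0 = 0 := by linear_combination hg2 - h2'
    exact (mul_eq_zero.mp this).resolve_left (mul_ne_zero h2 hε0)
  rw [e1, e2, mul_zero, mul_zero, sub_zero] at hdet
  exact zero_ne_one hdet

lemma mem_norm_iff (ε : F) (hε : ¬ IsSquare ε) (h2 : (2 : F) ≠ 0) (g : SL F) :
    g ∈ Subgroup.normalizer ((Tns ε : Subgroup (SL F)) : Set (SL F)) ↔ g ∈ Tns ε ∨ g ∈ Tw ε := by
  rw [Subgroup.mem_set_normalizer_iff]
  constructor
  · intro h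
    obtain ⟨t, ht, hb⟩ := exists_noncentral ε hε h2
    obtain ⟨c1, c2⟩ := (h t).mp ht
    rw [conj_apply_00, conj_apply_11] at c1
    rw [conj_apply_01, conj_apply_10] at c2
    obtain ⟨ht1, ht2⟩ := ht
    have C1 : g.1 0 1 * g.1 1 1 - ε * g.1 0 0 * g.1 1 0 = 0 := by
      have : 2 * (t.1 1 0) * ((g.1 0 1) * (g.1 1 1) - ε * (g.1 0 0) * (g.1 1 0)) = 0 := by
        linear_combination (1) * c1 + ((-1) * (g.1 0 0) * (g.1 1 1) + (-1) * (g.1 0 1) * (g.1 1 0)) * ht1 + (2 * (g.1 0 0) * (g.1 1 0)) * ht2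
      exact (mul_eq_zero.mp this).resolve_left (mul_ne_zero h2 hb)
    have C2 : ε * (g.1 0 0) ^ 2 - (g.1 0 1) ^ 2 - ε * (g.1 1 1) ^ 2 + ε ^ 2 * (g.1 1 0) ^ 2 = 0 := by
      have : (t.1 1 0) * (ε * (g.1 0 0) ^ 2 - (g.1 0 1) ^ 2 - ε * (g.1 1 1) ^ 2 + ε ^ 2 * (g.1 1 0) ^ 2) = 0 := by
        linear_combination (1) * c2 + ((g.1 0 0) * (g.1 0 1) + (g.1 1 0) * (g.1 1 1) * ε) * ht1 + ((-1) * (g.1 0 0)^2 + (-1) * (g.1 1 0)^2 * ε) * ht2
      exact (mul_eq_zero.mp this).resolve_left hb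
    obtain ⟨x, hx⟩ : ∃ x, x = g.1 0 0 := ⟨_, rfl⟩
    obtain ⟨y, hy⟩ : ∃ y, y = g.1 0 1 := ⟨_, rfl⟩
    obtain ⟨z, hz⟩ : ∃ z, z = g.1 1 0 := ⟨_, rfl⟩
    obtain ⟨w, hw⟩ : ∃ w, w = g.1 1 1 := ⟨_, rfl⟩
    rw [← hx, ← hy, ← hz, ← hw] at C1 C2
    rw [mem_Tns, mem_Tw, ← hx, ← hy, ← hz, ← hw]
    have main : (x - w) * (ε * (x + w) ^ 2 - (y + ε * z) ^ 2) = 0 := by
      linear_combination (2 * y + 2 * z * ε) * C1 + (x + w) * C2
    rcases mul_eq_zero.mp main with hA | hB
    · have hxw : x = w := by linear_combination hA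
      subst hxw
      have k1 : x * (y - ε * z) = 0 := by linear_combination C1
      have k2 : (y - ε * z) * (y + ε * z) = 0 := by linear_combination -C2
      by_cases hy' : y - ε * z = 0
      · left
        exact ⟨rfl, by linear_combination hy'⟩
      · right
        have hx0 : x = 0 := (mul_eq_zero.mp k1).resolve_right hy'
        have hy0 : y + ε * z = 0 := (mul_eq_zero.mp k2).resolve_left hy'
        exact ⟨by rw [hx0]; simp, by linear_combination hy0⟩
    · right
      have hu : x + w = 0 := by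
        by_contra hu
        apply hε
        refine ⟨(y + ε * z) / (x + w), ?_⟩
        field_simp
        linear_combination hB
      have hp : y + ε * z = 0 := by
        rw [hu] at hB
        have : (y + ε * z) ^ 2 = 0 := by linear_combination -hB
        exact pow_eq_zero_iff (two_ne_zero) |>.mp this
      exact ⟨by linear_combination hu, by linear_combination hp⟩
  · rintro (hg | hg) t
    · constructor
      · intro ht
        exact (Tns ε).mul_mem ((Tns ε).mul_mem hg ht) ((Tns ε).inv_mem hg)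
      · intro ht
        have : t = g⁻¹ * (g * t * g⁻¹) * g := by group
        rw [this]
        exact (Tns ε).mul_mem ((Tns ε).mul_mem ((Tns ε).inv_mem hg) ht) hg
    · constructor
      · intro ht
        rw [Tw_conj ε g t hg ht]
        exact (Tns ε).inv_mem ht
      · intro ht
        have h1 := Tw_conj ε g⁻¹ (g * t * g⁻¹) (Tw_inv ε g hg) ht
        have e : g⁻¹ * (g * t * g⁻¹) * g⁻¹⁻¹ = t := by group
        rw [e] at h1
        rw [h1]
        exact (Tns ε).inv_mem ht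

end torus

theorem result {F : Type*} [Field F] [Fintype F] (hodd : Odd (Fintype.card F)) :
    ∃ T' : Subgroup (Matrix.SpecialLinearGroup (Fin 2) F), IsCyclic T' ∧ Nat.card T' = Fintype.card F + 1 ∧
      Subgroup.centralizer ((T' : Set (Matrix.SpecialLinearGroup (Fin 2) F))) = T' ∧
      (∀ g : Matrix.SpecialLinearGroup (Fin 2) F, g ∈ T' → (g : Matrix (Fin 2) (Fin 2) F) ≠ 1 → (g : Matrix (Fin 2) (Fin 2) F) ≠ -1 → Subgroup.centralizer ({g} : Set (Matrix.SpecialLinearGroup (Fin 2) F)) = T') ∧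
      (∀ g : Matrix.SpecialLinearGroup (Fin 2) F, (∀ (c : F) (v : Fin 2 → F), v ≠ 0 → (g : Matrix (Fin 2) (Fin 2) F).mulVec v ≠ c • v) → ∃ h : Matrix.SpecialLinearGroup (Fin 2) F, h * g * h⁻¹ ∈ T') ∧
      Nat.card (Subgroup.normalizer (T' : Set (Matrix.SpecialLinearGroup (Fin 2) F))) = 2 * (Fintype.card F + 1) ∧
      Nat.card (ConjClasses (Subgroup.normalizer (T' : Set (Matrix.SpecialLinearGroup (Fin 2) F)))) = (Fintype.card F + 7) / 2 ∧
      ∀ g : Matrix.SpecialLinearGroup (Fin 2) F, g ∈ Subgroup.normalizer (T' : Set (Matrix.SpecialLinearGroup (Fin 2) F)) → g ∉ T' → ((g * g) : Matrix (Fin 2) (Fin 2) F) = -1 := by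
  classical
  have hcard : Fintype.card F % 2 = 1 := Nat.odd_iff.mp hodd
  have hF : ringChar F ≠ 2 := by
    intro h
    have := FiniteField.even_card_iff_char_two.mp h
    omega
  have h2 : (2 : F) ≠ 0 := Ring.two_ne_zero hF
  obtain ⟨ε, hε⟩ := FiniteField.exists_nonsquare hF
  have hε0 : ε ≠ 0 := fun h => hε (h ▸ IsSquare.zero)
  -- an element of the other coset
  obtain ⟨c, d, hcd⟩ := FiniteField.exists_root_sum_quadratic
    (f := Polynomial.X ^ 2 + Polynomial.C (1 : F)) (g := Polynomial.C (-ε) * Polynomial.X ^ 2)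
    (Polynomial.degree_X_pow_add_C (by norm_num) _)
    (Polynomial.degree_C_mul_X_pow 2 (neg_ne_zero.mpr hε0))
    hcard
  simp only [Polynomial.eval_add, Polynomial.eval_mul, Polynomial.eval_C, Polynomial.eval_pow,
    Polynomial.eval_X] at hcd
  let s₀ : SL F := ⟨!![c, -(ε * d); d, -c], by
    rw [Matrix.det_fin_two_of]
    linear_combination -hcd⟩
  have hs₀w : s₀ ∈ Tw ε := by
    show (!![c, -(ε * d); d, -c] : Matrix (Fin 2) (Fin 2) F) 0 0 = -(!![c, -(ε * d); d, -c] : Matrix (Fin 2) (Fin 2) F) 1 1 ∧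
      (!![c, -(ε * d); d, -c] : Matrix (Fin 2) (Fin 2) F) 0 1 = -(ε * (!![c, -(ε * d); d, -c] : Matrix (Fin 2) (Fin 2) F) 1 0)
    constructor <;> simp
  have hs₀N : s₀ ∈ Subgroup.normalizer ((Tns ε : Subgroup (SL F)) : Set (SL F)) :=
    (mem_norm_iff ε hε h2 s₀).mpr (Or.inr hs₀w)
  have hs₀T : s₀ ∉ Tns ε := Tw_disjoint ε hε0 h2 s₀ hs₀w
  have hTN : Tns ε ≤ Subgroup.normalizer ((Tns ε : Subgroup (SL F)) : Set (SL F)) :=
    fun g hg => (mem_norm_iff ε hε h2 g).mpr (Or.inl hg)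
  -- the elements of square one
  have hsq : Nat.card {t : Tns ε // t * t = 1} = 2 := by
    let negOne : SL F := ⟨!![-1, 0; 0, -1], by simp [Matrix.det_fin_two_of]⟩
    have hnegT : negOne ∈ Tns ε := by
      show (!![-1, 0; 0, -1] : Matrix (Fin 2) (Fin 2) F) 0 0 = (!![-1, 0; 0, -1] : Matrix (Fin 2) (Fin 2) F) 1 1 ∧
        (!![-1, 0; 0, -1] : Matrix (Fin 2) (Fin 2) F) 0 1 = ε * (!![-1, 0; 0, -1] : Matrix (Fin 2) (Fin 2) F) 1 0
      constructor <;> simp
    have hnegsq : (⟨negOne, hnegT⟩ : Tns ε) * ⟨negOne, hnegT⟩ = 1 := by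
      apply Subtype.ext
      show negOne * negOne = 1
      ext i j
      fin_cases i <;> fin_cases j <;>
        simp only [Matrix.SpecialLinearGroup.coe_mul, Matrix.mul_apply, Fin.sum_univ_two] <;>
        simp [negOne]
    rw [Nat.card_eq_two_iff]
    refine ⟨⟨1, one_mul 1⟩, ⟨⟨negOne, hnegT⟩, hnegsq⟩, ?_, ?_⟩
    · intro h
      have h' : (1 : SL F) = negOne := congrArg (fun t : {t : Tns ε // t * t = 1} => (t.1.1 : SL F)) h
      have h'' := congrArg (fun m : SL F => m.1 0 0) h'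
      simp [negOne] at h''
      apply h2
      linear_combination h''
    · rw [Set.eq_univ_iff_forall]
      rintro ⟨⟨t, ht⟩, htt⟩
      have htt' : t * t = 1 := congrArg Subtype.val htt
      have hb : t.1 1 0 = 0 := by
        have e00 := congrArg (fun m : SL F => m.1 0 0) htt'
        simp only [Matrix.SpecialLinearGroup.coe_mul, Matrix.mul_apply, Fin.sum_univ_two,
          Matrix.SpecialLinearGroup.coe_one, Matrix.one_apply_eq] at e00
        have hdet := det_eq t
        obtain ⟨ht1, ht2⟩ := ht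
        rw [ht2] at e00 hdet
        rw [← ht1] at hdet
        have : 2 * ε * (t.1 1 0) ^ 2 = 0 := by linear_combination e00 - hdet
        have := (mul_eq_zero.mp this).resolve_left (mul_ne_zero h2 hε0)
        exact pow_eq_zero_iff (two_ne_zero) |>.mp this
      rcases eq_pm_one ε t ht hb with h | h
      · left
        apply Subtype.ext
        apply Subtype.ext
        apply Subtype.ext
        exact h
      · right
        rw [Set.mem_singleton_iff]
        apply Subtype.ext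
        apply Subtype.ext
        apply Subtype.ext
        rw [h]
        ext i j
        fin_cases i <;> fin_cases j <;> simp [negOne]
  have hcount := classes_count (Tns ε) (Subgroup.normalizer ((Tns ε : Subgroup (SL F)) : Set (SL F))) hTN
    (fun a ha b hb => comm_of_mem ε a b ha hb) s₀ hs₀N hs₀T (fun t ht => Tw_conj ε s₀ t hs₀w ht)
    (fun g hgN hgT => by
      rcases (mem_norm_iff ε hε h2 g).mp hgN with h | h
      · exact absurd h hgT
      · exact Tw_mul ε s₀⁻¹ g (Tw_inv ε s₀ hs₀w) h)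
    hsq
  rw [card_Tns ε hε h2] at hcount
  refine ⟨Tns ε, cyclic_Tns ε hε, card_Tns ε hε h2, ?_, ?_, ?_, hcount.1, ?_, ?_⟩
  · ext h
    constructor
    · intro hh
      obtain ⟨t, ht, hb⟩ := exists_noncentral ε hε h2
      rw [← cent_of_mem ε t ht hb]
      rw [Subgroup.mem_centralizer_iff] at hh ⊢
      intro x hx
      rw [Set.mem_singleton_iff] at hx
      subst hx
      exact hh x ht
    · intro hh
      rw [Subgroup.mem_centralizer_iff]
      intro t ht
      exact comm_of_mem ε t h ht hh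
  · intro g hg h1 hm1
    have hb : g.1 1 0 ≠ 0 := by
      intro hb
      rcases eq_pm_one ε g hg hb with h | h
      · exact h1 h
      · exact hm1 h
    ext h
    exact cent_of_mem ε g hg hb h
  · intro g hg
    exact conj_into ε hε hcard h2 g hg
  · have h7 := hcount.2
    show Nat.card (ConjClasses ↥(Subgroup.normalizer ((Tns ε : Subgroup (SL F)) : Set (SL F)))) =
      (Fintype.card F + 7) / 2
    omega
  · intro g hgN hgT
    rcases (mem_norm_iff ε hε h2 g).mp hgN with h | ⟨h1, h2'⟩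
    · exact absurd h hgT
    · have hdet := det_eq g
      rw [h1, h2'] at hdet
      have key : g.1 * g.1 = -1 := by
        ext i j
        fin_cases i <;> fin_cases j
        · simp only [Matrix.mul_apply, Fin.sum_univ_two, Fin.zero_eta, Fin.isValue]
          rw [h1, h2']
          simp
          linear_combination (-1 : F) * hdet
        · simp only [Matrix.mul_apply, Fin.sum_univ_two, Fin.zero_eta, Fin.mk_one, Fin.isValue]
          rw [h1, h2']
          simp
          ring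
        · simp only [Matrix.mul_apply, Fin.sum_univ_two, Fin.zero_eta, Fin.mk_one, Fin.isValue]
          rw [h1]
          simp
          ring
        · simp only [Matrix.mul_apply, Fin.sum_univ_two, Fin.mk_one, Fin.isValue]
          rw [h2']
          simp
          linear_combination (-1 : F) * hdet
      exact key

end Cfsg.Agent.S2429
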