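import Cfsg.Statements.S0810
import Mathlib
import Cfsg.Agent.Lib.Helper19.DkN

set_option autoImplicit false
open Cfsg

namespace Cfsg.Agent.S0810

open Cfsg.Agent.Lib.Helper19.Dk Cfsg.Agent.S0809

theorem no5 (q : ℕ) (h5 : q % 5 ≠ 0) (hsq : q ^ 2 % 5 = 4) : ¬ 5 ∣ q * (q ^ 2 - 1) := by
  intro h
  rcases (Nat.Prime.dvd_mul Nat.prime_five).1 h with h | h
  · omega
  · have : 1 ≤ q ^ 2 := Nat.one_le_pow _ _ (by omega)
    omega

theorem pow4 (k : ℕ) : 4 ^ (2 * k + 1) % 5 = 4 := by
  rw [pow_succ, pow_mul]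
  simp [Nat.mul_mod, Nat.pow_mod]

theorem pow9 (k : ℕ) : 9 ^ (2 * k + 1) % 5 = 4 := by
  rw [pow_succ, pow_mul]
  simp [Nat.mul_mod, Nat.pow_mod]

theorem sub_not_min {F : Type*} [Field F] [Fintype F] (p : ℕ) [Fact p.Prime] [CharP F p]
    (a b : ℕ) (ha : Fintype.card F = p ^ a) (hb0 : b ≠ 0) (hba : b ∣ a) (hlt : b < a)
    (h4 : 4 ≤ p ^ b) (hsolv : ∀ H : Subgroup (P2 F), H ≠ ⊤ → Group.IsSolvable H) : False := by
  classical
  haveI : Fintype (GaloisField p b) := Fintype.ofFinite _
  have hcK : Fintype.card (GaloisField p b) = p ^ b := by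
    rw [← Nat.card_eq_fintype_card, GaloisField.card p b hb0]
  obtain ⟨m, hm⟩ := hba
  have hm2 : 2 ≤ m := by
    by_contra h
    have h01 : m = 0 ∨ m = 1 := by omega
    rcases h01 with rfl | rfl
    · simp at hm; omega
    · simp at hm; omega
  have hKF : Fintype.card (GaloisField p b) ^ m = Fintype.card F := by
    rw [hcK, ha, hm, pow_mul]
  obtain ⟨H, ⟨e⟩⟩ := exists_psl_sub (F := F) (K := GaloisField p b) m (by omega) hKF
  have hHtop : H ≠ ⊤ := by
    intro htop
    have h1 : Nat.card (P2 (GaloisField p b)) = Nat.card (P2 F) := by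
      rw [← Nat.card_congr e.toEquiv, htop, Subgroup.card_top]
    have hF := card_P2 (F := F)
    have hK := card_P2 (F := GaloisField p b)
    rw [h1, hcK] at hK
    rw [ha, hm, pow_mul] at hF
    obtain ⟨r, hr⟩ : ∃ r, r = p ^ b := ⟨_, rfl⟩
    rw [← hr] at hK hF h4
    have hdF : Nat.gcd 2 (r ^ m - 1) ≤ 2 := Nat.le_of_dvd (by norm_num) (Nat.gcd_dvd_left _ _)
    have hdK : 0 < Nat.gcd 2 (r - 1) := Nat.gcd_pos_of_pos_left _ (by norm_num)
    have hrm : r ^ 2 ≤ r ^ m := Nat.pow_le_pow_right (by omega) hm2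
    have h4r : 4 * r ≤ r ^ m := by
      have : 4 * r ≤ r * r := Nat.mul_le_mul_right r h4
      rw [pow_two] at hrm
      omega
    have hrle : r ≤ r ^ m := by omega
    have hsq : r ^ 2 - 1 ≤ (r ^ m) ^ 2 - 1 :=
      Nat.sub_le_sub_right (Nat.pow_le_pow_left hrle 2) 1
    have hbig : 4 * r * (r ^ 2 - 1) ≤ r ^ m * ((r ^ m) ^ 2 - 1) := Nat.mul_le_mul h4r hsq
    have hRpos : 0 < r * (r ^ 2 - 1) := by
      apply Nat.mul_pos (by omega)
      have : 4 ^ 2 ≤ r ^ 2 := Nat.pow_le_pow_left h4 2
      omega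
    have h2 : Nat.gcd 2 (r ^ m - 1) * Nat.card (P2 F) ≤ 2 * Nat.card (P2 F) :=
      Nat.mul_le_mul_right _ hdF
    have h3 : Nat.card (P2 F) ≤ Nat.gcd 2 (r - 1) * Nat.card (P2 F) :=
      Nat.le_mul_of_pos_left _ hdK
    have h5 : 4 * r * (r ^ 2 - 1) = 4 * (r * (r ^ 2 - 1)) := by ring
    omega
  haveI := hsolv H hHtop
  have hs : Group.IsSolvable (P2 (GaloisField p b)) :=
    Group.isSolvable_of_isSolvable_injective (f := e.symm.toMonoidHom) e.symm.injective
  exact not_solvable_P2 (by rw [hcK]; exact h4) hs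

theorem a5_not_min {F : Type*} [Field F] [Fintype F]
    (h5 : 5 ∣ Fintype.card F * (Fintype.card F ^ 2 - 1)) (hbig : 60 < Nat.card (P2 F))
    (hsolv : ∀ H : Subgroup (P2 F), H ≠ ⊤ → Group.IsSolvable H) : False := by
  obtain ⟨H, ⟨e⟩⟩ := (Cfsg.Agent.S0804.result (F := F) rfl).2 h5
  have hc : Nat.card H = 60 := by rw [Nat.card_congr e.toEquiv, card_A5]
  have hHtop : H ≠ ⊤ := by
    intro htop
    rw [htop, Subgroup.card_top] at hc
    exact (ne_of_gt hbig) hc
  haveI := hsolv H hHtop
  exact not_solvable_A5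
    (Group.isSolvable_of_isSolvable_injective (f := e.symm.toMonoidHom) e.symm.injective)

/-- PSL_2(q) is minimal simple iff q is 2^r (r prime), 3^r (r an odd prime), a prime greater than 5 congruent to 2 or 3 mod 5, or 5. -/
theorem result {F : Type*} [Field F] [Fintype F] {q : ℕ} (hF : Fintype.card F = q) : Cfsg.IsMinimalSimple (Matrix.ProjectiveSpecialLinearGroup (Fin 2) F) ↔ ((∃ r : ℕ, r.Prime ∧ q = 2 ^ r) ∨ (∃ r : ℕ, r.Prime ∧ r ≠ 2 ∧ q = 3 ^ r) ∨ (q.Prime ∧ 5 < q ∧ (q % 5 = 2 ∨ q % 5 = 3)) ∨ q = 5) := by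
  classical
  subst hF
  obtain ⟨p, hpc⟩ := CharP.exists F
  haveI : Fact p.Prime := ⟨CharP.char_is_prime F p⟩
  have hq2 : 2 ≤ Fintype.card F := Fintype.one_lt_card
  have hN := card_P2 (F := F)
  have hdle : Nat.gcd 2 (Fintype.card F - 1) ≤ 2 :=
    Nat.le_of_dvd (by norm_num) (Nat.gcd_dvd_left _ _)
  have hdpos : 0 < Nat.gcd 2 (Fintype.card F - 1) := Nat.gcd_pos_of_pos_left _ (by norm_num)
  constructor
  · rintro ⟨hsimple, hnc, hsolv⟩
    haveI := hsimple
    obtain ⟨n, hp, hq⟩ := FiniteField.card F p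
    obtain ⟨a, ha⟩ : ∃ a : ℕ, a = (n : ℕ) := ⟨_, rfl⟩
    rw [← ha] at hq
    have ha0 : 0 < a := ha ▸ n.pos
    have hq4 : 4 ≤ Fintype.card F := by
      by_contra hlt
      have h23 : Fintype.card F = 2 ∨ Fintype.card F = 3 := by omega
      have hs : Group.IsSolvable (P2 F) := by
        rcases h23 with h | h
        · exact solvable_P2_two h
        · exact solvable_P2_three h
      exact not_comm_P2 (IsSimpleGroup.comm_iff_isSolvable.2 hs _ _)
    have hsub : ∀ b : ℕ, b ≠ 0 → b ∣ a → b < a → 4 ≤ p ^ b → False :=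
      fun b hb0 hba hlt h4 => sub_not_min p a b hq hb0 hba hlt h4 hsolv
    by_cases hp2 : p = 2
    · left
      rw [hp2] at hq hsub
      refine ⟨a, ?_, hq⟩
      by_contra hnp
      have ha2 : 2 ≤ a := by
        by_contra h
        have h1 : a = 1 := by omega
        rw [h1] at hq
        omega
      obtain ⟨b, hba, hb2, hblt⟩ := Nat.exists_dvd_of_not_prime2 ha2 hnp
      exact hsub b (by omega) hba hblt (by
        calc 4 = 2 ^ 2 := by norm_num
          _ ≤ 2 ^ b := Nat.pow_le_pow_right (by norm_num) hb2)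
    by_cases hp3 : p = 3
    · right; left
      rw [hp3] at hq hsub
      refine ⟨a, ?_, ?_, hq⟩
      · by_contra hnp
        have ha2 : 2 ≤ a := by
          by_contra h
          have h1 : a = 1 := by omega
          rw [h1] at hq
          omega
        obtain ⟨b, hba, hb2, hblt⟩ := Nat.exists_dvd_of_not_prime2 ha2 hnp
        exact hsub b (by omega) hba hblt (by
          calc 4 ≤ 3 ^ 2 := by norm_num
            _ ≤ 3 ^ b := Nat.pow_le_pow_right (by norm_num) hb2)
      · intro ha2
        rw [ha2] at hq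
        have hq9 : Fintype.card F = 9 := by rw [hq]; norm_num
        apply a5_not_min (F := F) _ _ hsolv
        · rw [hq9]; norm_num
        · rw [hq9] at hN
          have h720 : 9 * (9 ^ 2 - 1) = 720 := by norm_num
          have hle := Nat.mul_le_mul_right (Nat.card (P2 F)) hdle
          rw [hq9] at hle
          omega
    by_cases hp5 : p = 5
    · right; right; right
      rw [hp5] at hq hsub
      by_contra hq5
      have ha2 : 2 ≤ a := by
        by_contra h
        have h1 : a = 1 := by omega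
        rw [h1] at hq
        exact hq5 (by rw [hq]; norm_num)
      exact hsub 1 one_ne_zero (one_dvd a) (by omega) (by norm_num)
    · right; right; left
      have hp7 : 7 ≤ p := by
        have h2 := hp.two_le
        by_contra h
        have h46 : p = 4 ∨ p = 6 := by omega
        rcases h46 with h | h <;> rw [h] at hp <;> revert hp <;> decide
      have ha1 : a = 1 := by
        by_contra h
        exact hsub 1 one_ne_zero (one_dvd a) (by omega) (by rw [pow_one]; omega)
      rw [ha1, pow_one] at hq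
      refine ⟨hq ▸ hp, by omega, ?_⟩
      by_contra hmod
      have hq5 : Fintype.card F % 5 ≠ 0 := by
        intro h0
        have h5p : 5 ∣ p := by rw [← hq]; exact Nat.dvd_of_mod_eq_zero h0
        have := (Nat.prime_dvd_prime_iff_eq Nat.prime_five hp).1 h5p
        omega
      have hsq : Fintype.card F ^ 2 % 5 = 1 := by
        rw [Nat.pow_mod]
        have h14 : Fintype.card F % 5 = 1 ∨ Fintype.card F % 5 = 4 := by omega
        rcases h14 with h | h <;> rw [h] <;> norm_num
      have h49 : 7 ^ 2 ≤ Fintype.card F ^ 2 := Nat.pow_le_pow_left (by omega) 2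
      apply a5_not_min (F := F) _ _ hsolv
      · exact Dvd.dvd.mul_left (Nat.dvd_of_mod_eq_zero (by omega)) _
      · have h336 : 7 * 48 ≤ Fintype.card F * (Fintype.card F ^ 2 - 1) :=
          Nat.mul_le_mul (by omega) (by omega)
        have hle := Nat.mul_le_mul_right (Nat.card (P2 F)) hdle
        omega
  · intro hL
    have hq4 : 4 ≤ Fintype.card F := by
      rcases hL with ⟨r, hr, hq⟩ | ⟨r, hr, hr2, hq⟩ | ⟨hqp, h5, _⟩ | hq
      · rw [hq]
        calc 4 = 2 ^ 2 := by norm_num
          _ ≤ 2 ^ r := Nat.pow_le_pow_right (by norm_num) hr.two_le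
      · rw [hq]
        calc 4 ≤ 3 ^ 2 := by norm_num
          _ ≤ 3 ^ r := Nat.pow_le_pow_right (by norm_num) hr.two_le
      · omega
      · omega
    refine ⟨simple_P2 hq4, fun h => not_comm_P2 (h.is_comm.comm _ _), ?_⟩
    intro M hM
    have hMlt : Nat.card M < Nat.card (P2 F) := by
      have hle' := Subgroup.card_le_card_group M
      rcases Nat.lt_or_ge (Nat.card M) (Nat.card (P2 F)) with h | h
      · exact h
      · exact absurd ((Subgroup.card_eq_iff_eq_top M).1 (le_antisymm hle' h)) hM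
    have hMdvd : Nat.card M ∣ Nat.card (P2 F) := Subgroup.card_subgroup_dvd_card M
    have hstruct : ∃ ℓ r₀ : ℕ, ℓ.Prime ∧ Fintype.card F = ℓ ^ r₀ ∧
        (r₀ = 1 ∨ (r₀.Prime ∧ ℓ ≤ 3)) := by
      rcases hL with ⟨r, hr, hq⟩ | ⟨r, hr, hr2, hq⟩ | ⟨hqp, h5, _⟩ | hq
      · exact ⟨2, r, Nat.prime_two, hq, Or.inr ⟨hr, by norm_num⟩⟩
      · exact ⟨3, r, Nat.prime_three, hq, Or.inr ⟨hr, by norm_num⟩⟩
      · exact ⟨_, 1, hqp, (pow_one _).symm, Or.inl rfl⟩
      · exact ⟨5, 1, Nat.prime_five, by rw [hq]; norm_num, Or.inl rfl⟩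
    have hno5 : Nat.card (P2 F) = 60 ∨ ¬ 5 ∣ Fintype.card F * (Fintype.card F ^ 2 - 1) := by
      rcases hL with ⟨r, hr, hq⟩ | ⟨r, hr, hr2, hq⟩ | ⟨hqp, h5, hmod⟩ | hq
      · rcases hr.eq_two_or_odd with h2 | hodd
        · left
          have hq4' : Fintype.card F = 4 := by rw [hq, h2]; norm_num
          rw [hq4'] at hN
          have h1 : Nat.gcd 2 (4 - 1) = 1 := by decide
          rw [h1] at hN
          omega
        · right
          obtain ⟨k, hk⟩ : ∃ k, r = 2 * k + 1 := ⟨r / 2, by omega⟩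
          rw [hq]
          apply no5
          · intro h0
            have h52 := Nat.Prime.dvd_of_dvd_pow Nat.prime_five (Nat.dvd_of_mod_eq_zero h0)
            norm_num at h52
          · rw [← pow_mul, mul_comm, pow_mul]
            norm_num
            rw [hk]
            exact pow4 k
      · right
        have hodd : r % 2 = 1 := by
          rcases hr.eq_two_or_odd with h2 | hodd
          · exact absurd h2 hr2
          · exact hodd
        obtain ⟨k, hk⟩ : ∃ k, r = 2 * k + 1 := ⟨r / 2, by omega⟩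
        rw [hq]
        apply no5
        · intro h0
          have h53 := Nat.Prime.dvd_of_dvd_pow Nat.prime_five (Nat.dvd_of_mod_eq_zero h0)
          norm_num at h53
        · rw [← pow_mul, mul_comm, pow_mul]
          norm_num
          rw [hk]
          exact pow9 k
      · right
        apply no5 _ (by omega)
        rw [Nat.pow_mod]
        rcases hmod with h | h <;> rw [h] <;> norm_num
      · left
        rw [hq] at hN
        have h1 : Nat.gcd 2 (5 - 1) = 2 := by decide
        rw [h1] at hN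
        omega
    rcases Cfsg.Agent.S0799.result (F := F) (q := Fintype.card F) rfl p M with
      ⟨k, hk, hcd⟩ | ⟨P, K, hK, ⟨eK⟩⟩ | ⟨⟨eM⟩⟩ | ⟨⟨eM⟩⟩ | ⟨⟨eM⟩⟩ | ⟨K, iK, fK, m, hm, hiso⟩
    · rcases hcd with ⟨hc, _⟩ | ⟨⟨e'⟩⟩
      · haveI := hc
        exact Group.isSolvable_of_comm (fun a b => IsCyclic.commGroup.mul_comm a b)
      · exact Group.isSolvable_of_isSolvable_injective (f := e'.toMonoidHom) e'.injective
    · haveI := solvable_of_le_normalizer p P K hK
      exact Group.isSolvable_of_isSolvable_injective (f := eK.toMonoidHom) eK.injective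
    · exact Group.isSolvable_of_isSolvable_injective (f := eM.toMonoidHom) eM.injective
    · exact Group.isSolvable_of_isSolvable_injective (f := eM.toMonoidHom) eM.injective
    · exfalso
      have hc : Nat.card M = 60 := by rw [Nat.card_congr eM.toEquiv, card_A5]
      rcases hno5 with h60 | h5
      · omega
      · apply h5
        rw [← hN]
        exact Dvd.dvd.mul_left (dvd_trans (by rw [hc]; norm_num) hMdvd) _
    · letI := iK
      letI := fK
      have hr2 : 2 ≤ Fintype.card K := Fintype.one_lt_card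
      by_cases hK4 : Fintype.card K < 4
      · have hs : Group.IsSolvable (P2 K) := by
          have h23 : Fintype.card K = 2 ∨ Fintype.card K = 3 := by omega
          rcases h23 with h | h
          · exact solvable_P2_two h
          · exact solvable_P2_three h
        rcases hiso with ⟨⟨e'⟩⟩ | ⟨⟨e'⟩⟩
        · haveI := hs
          exact Group.isSolvable_of_isSolvable_injective (f := e'.toMonoidHom) e'.injective
        · haveI := solvable_pgl hs
          exact Group.isSolvable_of_isSolvable_injective (f := e'.toMonoidHom) e'.injective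
      · exfalso
        obtain ⟨ℓ, r₀, hℓ, hqℓ, hr₀⟩ := hstruct
        have hm1 : m = 1 := by
          have hm0 : m ≠ 0 := by
            rintro rfl
            simp at hm; omega
          have hdvd : Fintype.card K ∣ ℓ ^ r₀ := by
            rw [← hqℓ, ← hm]; exact dvd_pow_self _ hm0
          obtain ⟨c, hc, hKc⟩ := (Nat.dvd_prime_pow hℓ).1 hdvd
          rw [hKc, ← pow_mul, hqℓ] at hm
          have hcm : c * m = r₀ := Nat.pow_right_injective hℓ.two_le hm
          rcases hr₀ with h1 | ⟨hr₀p, hℓ3⟩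
          · rw [h1] at hcm
            exact Nat.eq_one_of_mul_eq_one_left hcm
          · have hcd : c ∣ r₀ := ⟨m, hcm.symm⟩
            rcases (Nat.dvd_prime hr₀p).1 hcd with h | h
            · rw [h, pow_one] at hKc
              omega
            · rw [h] at hcm
              have : r₀ * m = r₀ * 1 := by rw [hcm, mul_one]
              exact Nat.eq_of_mul_eq_mul_left hr₀p.pos this
        subst hm1
        rw [pow_one] at hm
        rcases hiso with ⟨⟨e'⟩⟩ | ⟨⟨e'⟩⟩
        · have h5 := card_P2 (F := K)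
          rw [hm, ← Nat.card_congr e'.toEquiv, ← hN] at h5
          have h6 := Nat.eq_of_mul_eq_mul_left hdpos h5
          exact absurd h6 (ne_of_lt hMlt)
        · have h5 : Nat.card M = Fintype.card F * (Fintype.card F ^ 2 - 1) := by
            rw [Nat.card_congr e'.toEquiv, Cfsg.Agent.S0265.result 2, card_S2, hm]
          rw [← hN] at h5
          have h6 : Nat.card (P2 F) ≤ Nat.gcd 2 (Fintype.card F - 1) * Nat.card (P2 F) :=
            Nat.le_mul_of_pos_left _ hdpos
          rw [← h5] at h6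
          exact absurd hMlt (not_lt.2 h6)

end Cfsg.Agent.S0810
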