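import Cfsg.Statements.S2247
import Mathlib
import Cfsg.Agent.Lib.Helper45.SzU
import Cfsg.Agent.Lib.Helper45.SwapMatching3

set_option autoImplicit false
open Cfsg

namespace Cfsg.Agent.S2247

open Matrix Cfsg.Agent.Lib.Helper8.Sz Cfsg.Agent.Lib.Helper45.SzU
open scoped Pointwise

variable {F : Type*} [Field F] [Fintype F] {m : ℕ}

/-- translation as an element of the Suzuki group -/
def tg (hF : Fintype.card F = 2 ^ (2 * m + 1)) (a b : F) : ↥(Cfsg.Sz F m) :=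
  ⟨Tg m a b, Tg_mem hF a b⟩

/-- torus element of the Suzuki group -/
def hgS (hF : Fintype.card F = 2 ^ (2 * m + 1)) (s : Fˣ) : ↥(Cfsg.Sz F m) :=
  ⟨Hg m s, Hg_mem hF s⟩

/-- Weyl element of the Suzuki group -/
def wS (hF : Fintype.card F = 2 ^ (2 * m + 1)) : ↥(Cfsg.Sz F m) :=
  ⟨wg F, wg_mem hF⟩

theorem tg_mem_U (hF : Fintype.card F = 2 ^ (2 * m + 1)) (a b : F) : tg hF a b ∈ U hF :=
  ⟨a, b, rfl⟩

theorem wS_mul_wS (hF : Fintype.card F = 2 ^ (2 * m + 1)) : wS hF * wS hF = 1 :=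
  Subtype.ext (wg_mul_wg (F := F))

theorem wS_inv (hF : Fintype.card F = 2 ^ (2 * m + 1)) : (wS hF)⁻¹ = wS hF :=
  inv_eq_of_mul_eq_one_right (wS_mul_wS hF)

/-- an element moving infinity to `Paff x y`: normalise to `w * b₀` -/
theorem norm_form (hm : 1 ≤ m) (hF : Fintype.card F = 2 ^ (2 * m + 1)) (g : ↥(Cfsg.Sz F m))
    (x y : F) (hg : (g : SpecialLinearGroup (Fin 4) F) • Pinf F = Paff m x y) :
    ∃ (c d : F) (s : Fˣ), wS hF * ((tg hF x y)⁻¹ * g) = tg hF c d * hgS hF s := by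
  have h1 : ((wS hF * ((tg hF x y)⁻¹ * g) : ↥(Cfsg.Sz F m)) : SpecialLinearGroup (Fin 4) F) •
      Pinf F = Pinf F := by
    show (wg F * ((Tg m x y)⁻¹ * (g : SpecialLinearGroup (Fin 4) F))) • Pinf F = Pinf F
    rw [mul_smul, mul_smul, hg, inv_smul_eq_iff.mpr (Tg_smul_zero hF x y).symm, wg_smul_zero]
  obtain ⟨c, d, s, h⟩ := fix_inf_decomp hm hF (wS hF * ((tg hF x y)⁻¹ * g)).2 h1
  exact ⟨c, d, s, Subtype.ext h⟩

theorem fix_form (hm : 1 ≤ m) (hF : Fintype.card F = 2 ^ (2 * m + 1)) (g : ↥(Cfsg.Sz F m))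
    (hg : (g : SpecialLinearGroup (Fin 4) F) • Pinf F = Pinf F) :
    ∃ (c d : F) (s : Fˣ), g = tg hF c d * hgS hF s := by
  obtain ⟨c, d, s, h⟩ := fix_inf_decomp hm hF g.2 hg
  exact ⟨c, d, s, Subtype.ext h⟩

theorem tg_smul_Pinf (hF : Fintype.card F = 2 ^ (2 * m + 1)) (a b : F) :
    ((tg hF a b : ↥(Cfsg.Sz F m)) : SpecialLinearGroup (Fin 4) F) • Pinf F = Pinf F :=
  Tg_smul_Pinf a b

theorem hgS_smul_Pinf (hF : Fintype.card F = 2 ^ (2 * m + 1)) (s : Fˣ) :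
    ((hgS hF s : ↥(Cfsg.Sz F m)) : SpecialLinearGroup (Fin 4) F) • Pinf F = Pinf F :=
  Hg_smul_Pinf s

/-- conjugating a translation by an element fixing infinity gives a translation -/
theorem conj_tg (hm : 1 ≤ m) (hF : Fintype.card F = 2 ^ (2 * m + 1)) (h : ↥(Cfsg.Sz F m))
    (hh : (h : SpecialLinearGroup (Fin 4) F) • Pinf F = Pinf F) (a b : F) :
    ∃ a' b' : F, h * tg hF a b * h⁻¹ = tg hF a' b' := by
  obtain ⟨c, d, s, rfl⟩ := fix_form hm hF h hh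
  refine ⟨_, _, Subtype.ext (conj_formula hF c d a b s)⟩

theorem smul_Pinf_cases (g : ↥(Cfsg.Sz F m)) :
    (g : SpecialLinearGroup (Fin 4) F) • Pinf F = Pinf F ∨
      ∃ x y : F, (g : SpecialLinearGroup (Fin 4) F) • Pinf F = Paff m x y :=
  (mem_ovoid_iff _).1 (smul_mem_of_mem_Sz g.2 Pinf_mem)

omit [Fintype F] in
theorem entry00 (x y b : F) : (wm F * Tm m x y * wm F * Tm m 0 b * wm F) 0 0 = th m b := by
  simp [Tm, wm, Matrix.mul_apply, Fin.sum_univ_four, th_zero]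

omit [Fintype F] in
theorem entry00' (c d : F) (s : Fˣ) : (Tm m c d * Hm m s) 0 0 = th m (s : F) * s := by
  simp [Tm, Hm, Matrix.mul_apply, Fin.sum_univ_four, Matrix.diagonal]

theorem core (hm : 1 ≤ m) (hF : Fintype.card F = 2 ^ (2 * m + 1))
    (M : Subgroup ↥(Cfsg.Sz F m)) (hU : U hF ≤ M) (g : ↥(Cfsg.Sz F m)) (hgM : g ∈ M)
    (hg : (g : SpecialLinearGroup (Fin 4) F) • Pinf F ≠ Pinf F) : M = ⊤ := by
  have hchar := charP_two hF
  have htM : ∀ a b : F, tg hF a b ∈ M := fun a b => hU (tg_mem_U hF a b)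
  -- Step 1
  have step1 : ∀ a b : F, wS hF * tg hF a b * wS hF ∈ M := by
    intro a b
    rcases smul_Pinf_cases g with h | ⟨x, y, hxy⟩
    · exact absurd h hg
    obtain ⟨c, d, s, hdec⟩ := norm_form hm hF g x y hxy
    obtain ⟨g₁, hg₁⟩ : ∃ g₁, g₁ = (tg hF x y)⁻¹ * g := ⟨_, rfl⟩
    rw [← hg₁] at hdec
    have hg₁M : g₁ ∈ M := hg₁ ▸ M.mul_mem (M.inv_mem (htM x y)) hgM
    obtain ⟨b₀, hb₀⟩ : ∃ b₀, b₀ = tg hF c d * hgS hF s := ⟨_, rfl⟩
    rw [← hb₀] at hdec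
    have hb₀fix : ((b₀⁻¹ : ↥(Cfsg.Sz F m)) : SpecialLinearGroup (Fin 4) F) • Pinf F = Pinf F := by
      rw [Subgroup.coe_inv, inv_smul_eq_iff, hb₀, Subgroup.coe_mul, mul_smul, hgS_smul_Pinf,
        tg_smul_Pinf]
    obtain ⟨a', b', hab'⟩ := conj_tg hm hF b₀⁻¹ hb₀fix a b
    have hg₁eq : g₁ = wS hF * b₀ := by
      rw [← hdec, ← mul_assoc, wS_mul_wS, one_mul]
    have : wS hF * tg hF a b * wS hF = g₁ * tg hF a' b' * g₁⁻¹ := by
      rw [← hab', hg₁eq, _root_.mul_inv_rev, wS_inv, inv_inv]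
      group
    rw [this]
    exact M.mul_mem (M.mul_mem hg₁M (htM a' b')) (M.inv_mem hg₁M)
  -- Step 2
  have step2 : ∀ s : Fˣ, wS hF * hgS hF s ∈ M := by
    intro s
    obtain ⟨b, hb⟩ := exists_th hF (th m (s : F) * s)
    have hs0 : (s : F) ≠ 0 := s.ne_zero
    have hθs : th m (s : F) ≠ 0 := th_ne_zero hs0
    have hf : fS m (0 : F) b = th m b := by
      rw [fS_def, th_zero]; ring
    have hf0 : fS m (0 : F) b ≠ 0 := by
      rw [hf, hb]; exact mul_ne_zero hθs hs0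
    obtain ⟨n, hn⟩ : ∃ n, n = wS hF * tg hF 0 b * wS hF := ⟨_, rfl⟩
    have hnM : n ∈ M := hn ▸ step1 0 b
    have hninf : (n : SpecialLinearGroup (Fin 4) F) • Pinf F =
        Paff m (b / fS m 0 b) (0 / fS m 0 b) := by
      rw [hn]
      show (wg F * Tg m 0 b * wg F) • Pinf F = _
      rw [mul_smul, mul_smul, wg_smul_Pinf (m := m), Tg_smul_zero hF, wg_smul_Paff hF 0 b hf0]
    obtain ⟨c, d, s', hdec⟩ := norm_form hm hF n _ _ hninf
    have hdec'' : wg F * (Tg m (b / fS m 0 b) (0 / fS m 0 b))⁻¹ * wg F * Tg m 0 b * wg F =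
        Tg m c d * Hg m s' := by
      have h1 := congrArg (fun g : ↥(Cfsg.Sz F m) => (g : SpecialLinearGroup (Fin 4) F)) hdec
      rw [hn] at h1
      have h2 : wg F * ((Tg m (b / fS m 0 b) (0 / fS m 0 b))⁻¹ * (wg F * Tg m 0 b * wg F)) =
        Tg m c d * Hg m s' := h1
      rw [← h2]
      group
    rw [Tg_inv hF] at hdec''
    have h00 := congrArg (fun g : SpecialLinearGroup (Fin 4) F =>
      (g : Matrix (Fin 4) (Fin 4) F) 0 0) hdec''
    have h00' : th m b = th m (s' : F) * s' := by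
      rw [← entry00 (m := m) (b / fS m 0 b) (0 / fS m 0 b + th m (b / fS m 0 b) * (b / fS m 0 b)) b,
        ← entry00' (m := m) c d s']
      exact h00
    have hs's : s' = s := by
      rw [hb] at h00'
      have h1 := congrArg (th m) h00'
      rw [th_mul, th_mul, th_th hF, th_th hF] at h1
      have hs'0 : (s' : F) ≠ 0 := s'.ne_zero
      have h2 : (s' : F) * (th m (s : F) * s) = (s : F) * (th m (s : F) * s) := by
        have : (s' : F) * (th m (s : F) * s) = (s' : F) * (th m (s' : F) * s') := by rw [h00']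
        rw [this]
        linear_combination -h1
      exact Units.ext (mul_right_cancel₀ (mul_ne_zero hθs hs0) h2)
    rw [hs's] at hdec
    have : wS hF * hgS hF s = (wS hF * tg hF c d * wS hF)⁻¹ *
        ((tg hF (b / fS m 0 b) (0 / fS m 0 b))⁻¹ * n) := by
      have h3 : hgS hF s = (tg hF c d)⁻¹ * (wS hF * ((tg hF (b / fS m 0 b) (0 / fS m 0 b))⁻¹ * n)) := by
        rw [hdec]; group
      rw [h3, _root_.mul_inv_rev, _root_.mul_inv_rev, wS_inv]
      group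
    rw [this]
    exact M.mul_mem (M.inv_mem (step1 c d)) (M.mul_mem (M.inv_mem (htM _ _)) hnM)
  have hwM : wS hF ∈ M := by
    have h1 := step2 1
    have h2 : hgS hF 1 = 1 := Subtype.ext (Hg_one (m := m))
    rwa [h2, mul_one] at h1
  have hhM : ∀ s : Fˣ, hgS hF s ∈ M := by
    intro s
    have h1 := M.mul_mem hwM (step2 s)
    rwa [← mul_assoc, wS_mul_wS, one_mul] at h1
  have hB : ∀ y : ↥(Cfsg.Sz F m), (y : SpecialLinearGroup (Fin 4) F) • Pinf F = Pinf F → y ∈ M := by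
    intro y hy
    obtain ⟨c, d, s, rfl⟩ := fix_form hm hF y hy
    exact M.mul_mem (htM c d) (hhM s)
  rw [eq_top_iff]
  intro y _
  rcases smul_Pinf_cases y with h | ⟨x, y', hxy⟩
  · exact hB y h
  · obtain ⟨c, d, s, hdec⟩ := norm_form hm hF y x y' hxy
    have h1 : y = tg hF x y' * (wS hF * (tg hF c d * hgS hF s)) := by
      rw [← hdec, ← mul_assoc (wS hF), wS_mul_wS, one_mul]
      group
    rw [h1]
    exact M.mul_mem (htM _ _) (M.mul_mem hwM (M.mul_mem (htM c d) (hhM s)))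

theorem finite_Sz (hm : 1 ≤ m) (hF : Fintype.card F = 2 ^ (2 * m + 1)) :
    Finite ↥(Cfsg.Sz F m) := by
  apply Nat.finite_of_card_ne_zero
  rw [card_Sz hm hF]
  have h2 : 2 ≤ 2 ^ (2 * m + 1) := Nat.le_self_pow (by omega) 2
  have : 0 < 2 ^ (2 * m + 1) - 1 := by omega
  positivity

theorem mem_normalizer_iff_fix (hm : 1 ≤ m) (hF : Fintype.card F = 2 ^ (2 * m + 1))
    (P : Sylow 2 ↥(Cfsg.Sz F m)) (x : ↥(Cfsg.Sz F m))
    (hx : ∀ g : ↥(Cfsg.Sz F m), g ∈ (P : Subgroup ↥(Cfsg.Sz F m)) ↔ x⁻¹ * g * x ∈ U hF)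
    (g : ↥(Cfsg.Sz F m)) :
    g ∈ Subgroup.normalizer ((P : Subgroup ↥(Cfsg.Sz F m)) : Set ↥(Cfsg.Sz F m)) ↔
      ((x⁻¹ * g * x : ↥(Cfsg.Sz F m)) : SpecialLinearGroup (Fin 4) F) • Pinf F = Pinf F := by
  haveI := finite_Sz hm hF
  constructor
  · intro hg
    have ht : x * tg hF 1 0 * x⁻¹ ∈ (P : Subgroup ↥(Cfsg.Sz F m)) := by
      rw [hx]
      have : x⁻¹ * (x * tg hF 1 0 * x⁻¹) * x = tg hF 1 0 := by group
      rw [this]; exact tg_mem_U hF 1 0
    have h2 := (Subgroup.mem_normalizer_iff.mp hg _).mp ht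
    rw [hx] at h2
    obtain ⟨a, b, hab⟩ := h2
    obtain ⟨h, hh⟩ : ∃ h, h = x⁻¹ * g * x := ⟨_, rfl⟩
    rw [← hh]
    have hab' : (h : SpecialLinearGroup (Fin 4) F) * Tg m 1 0 *
        (h : SpecialLinearGroup (Fin 4) F)⁻¹ = Tg m a b := by
      rw [← hab]
      show ((h * tg hF 1 0 * h⁻¹ : ↥(Cfsg.Sz F m)) : SpecialLinearGroup (Fin 4) F) = _
      congr 1
      rw [hh]; group
    have hne : ¬ (a = 0 ∧ b = 0) := by
      rintro ⟨rfl, rfl⟩
      rw [Tg_zero] at hab'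
      have h3 : Tg m (1 : F) 0 = 1 := by
        have : Tg m (1 : F) 0 = (h : SpecialLinearGroup (Fin 4) F)⁻¹ *
            ((h : SpecialLinearGroup (Fin 4) F) * Tg m 1 0 *
              (h : SpecialLinearGroup (Fin 4) F)⁻¹) * (h : SpecialLinearGroup (Fin 4) F) := by
          group
        rw [this, hab']; group
      rw [← Tg_zero (m := m)] at h3
      exact one_ne_zero (Tg_inj h3).1
    apply Tg_fix hF a b hne _ (smul_mem_of_mem_Sz h.2 Pinf_mem)
    rw [← hab', mul_smul, mul_smul, inv_smul_smul, Tg_smul_Pinf]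
  · intro hfix
    apply Cfsg.Agent.Lib.Helper45.mem_normalizer_of_conj_mem
    intro y hy
    rw [hx] at hy ⊢
    obtain ⟨a, b, hab⟩ := hy
    have hy' : x⁻¹ * y * x = tg hF a b := Subtype.ext hab
    obtain ⟨a', b', hab'⟩ := conj_tg hm hF _ hfix a b
    have : x⁻¹ * (g * y * g⁻¹) * x = tg hF a' b' := by
      rw [← hab', ← hy']; group
    rw [this]; exact tg_mem_U hF a' b'

theorem key (hm : 1 ≤ m) (hF : Fintype.card F = 2 ^ (2 * m + 1))
    (P : Sylow 2 ↥(Cfsg.Sz F m)) (M : Subgroup ↥(Cfsg.Sz F m))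
    (hPM : (P : Subgroup ↥(Cfsg.Sz F m)) ≤ M) (g : ↥(Cfsg.Sz F m)) (hgM : g ∈ M)
    (hgN : g ∉ Subgroup.normalizer ((P : Subgroup ↥(Cfsg.Sz F m)) : Set ↥(Cfsg.Sz F m))) :
    M = ⊤ := by
  obtain ⟨x, hx⟩ := exists_conj_mem_U hm hF P
  rw [mem_normalizer_iff_fix hm hF P x hx] at hgN
  have hM' := core hm hF (M.comap (MulAut.conj x).toMonoidHom) ?_ (x⁻¹ * g * x) ?_ hgN
  · rw [eq_top_iff]
    intro z _
    have : x⁻¹ * z * x ∈ M.comap (MulAut.conj x).toMonoidHom := by rw [hM']; trivial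
    rw [Subgroup.mem_comap] at this
    have h2 : (MulAut.conj x).toMonoidHom (x⁻¹ * z * x) = z := by
      show x * (x⁻¹ * z * x) * x⁻¹ = z
      group
    rwa [h2] at this
  · intro u hu
    rw [Subgroup.mem_comap]
    apply hPM
    rw [hx]
    show x⁻¹ * (x * u * x⁻¹) * x ∈ U hF
    have : x⁻¹ * (x * u * x⁻¹) * x = u := by group
    rwa [this]
  · rw [Subgroup.mem_comap]
    show x * (x⁻¹ * g * x) * x⁻¹ ∈ M
    have : x * (x⁻¹ * g * x) * x⁻¹ = g := by group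
    rwa [this]

/-- In the Suzuki group with q = 2^(2m+1), m ≥ 1 (realised as the stabiliser in SL₄ of the Suzuki–Tits ovoid), the normalizer of a Sylow 2-subgroup P is a maximal subgroup and is the only maximal subgroup containing P. -/
theorem result {F : Type*} [Field F] [Fintype F] {m : ℕ} (hm : 1 ≤ m) (hF : Fintype.card F = 2 ^ (2 * m + 1)) (P : Sylow 2 ↥(Cfsg.Sz F m)) :
    IsCoatom (Subgroup.normalizer ((P : Subgroup ↥(Cfsg.Sz F m)) : Set ↥(Cfsg.Sz F m))) ∧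
    ∀ M : Subgroup ↥(Cfsg.Sz F m), IsCoatom M → (P : Subgroup ↥(Cfsg.Sz F m)) ≤ M → M = Subgroup.normalizer ((P : Subgroup ↥(Cfsg.Sz F m)) : Set ↥(Cfsg.Sz F m)) := by
  haveI := finite_Sz hm hF
  obtain ⟨x, hx⟩ := exists_conj_mem_U hm hF P
  have hNtop : Subgroup.normalizer ((P : Subgroup ↥(Cfsg.Sz F m)) : Set ↥(Cfsg.Sz F m)) ≠ ⊤ := by
    intro h
    have h1 : x * wS hF * x⁻¹ ∈
        Subgroup.normalizer ((P : Subgroup ↥(Cfsg.Sz F m)) : Set ↥(Cfsg.Sz F m)) := by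
      rw [h]; trivial
    rw [mem_normalizer_iff_fix hm hF P x hx] at h1
    have h2 : x⁻¹ * (x * wS hF * x⁻¹) * x = wS hF := by group
    rw [h2] at h1
    have h3 : wg F • Pinf F = Pinf F := h1
    rw [wg_smul_Pinf (m := m)] at h3
    exact Paff_ne_Pinf _ _ h3
  refine ⟨⟨hNtop, ?_⟩, ?_⟩
  · intro M hM
    obtain ⟨g, hgM, hgN⟩ := SetLike.exists_of_lt hM
    exact key hm hF P M (le_trans Subgroup.le_normalizer hM.le) g hgM hgN
  · intro M hM hPM
    by_contra hne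
    have : ¬ M ≤ Subgroup.normalizer ((P : Subgroup ↥(Cfsg.Sz F m)) : Set ↥(Cfsg.Sz F m)) := by
      intro hle
      rcases eq_or_lt_of_le hle with h | h
      · exact hne h
      · exact hNtop (hM.2 _ h)
    obtain ⟨g, hgM, hgN⟩ := SetLike.not_le_iff_exists.mp this
    exact hM.1 (key hm hF P M hPM g hgM hgN)

end Cfsg.Agent.S2247
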