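import Cfsg.Statements.S2330
import Cfsg.Agent.Lib.Helper46.Mat2

set_option autoImplicit false
open Cfsg

namespace Cfsg.Agent.S2330

open Cfsg.Agent.Lib.Helper46 Matrix

variable {F : Type*} [Field F]

open scoped Classical in
/-- The upper left entry as a unit (or `1`). -/
noncomputable def u00 (g : GL (Fin 2) F) : Fˣ :=
  if h : (g : Matrix (Fin 2) (Fin 2) F) 0 0 = 0 then 1 else Units.mk0 _ h

open scoped Classical in
/-- A complete invariant of conjugacy classes of `GL₂`. -/
noncomputable def inv (g : GL (Fin 2) F) : Fˣ ⊕ (F × Fˣ) :=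
  if NonScalar (g : Matrix (Fin 2) (Fin 2) F) then
    Sum.inr ((g : Matrix (Fin 2) (Fin 2) F).trace, GeneralLinearGroup.det g)
  else Sum.inl (u00 g)

theorem det_val (g : GL (Fin 2) F) :
    ((GeneralLinearGroup.det g : Fˣ) : F) = (g : Matrix (Fin 2) (Fin 2) F).det := rfl

theorem scalar_eq (g : GL (Fin 2) F) (hg : ¬ NonScalar (g : Matrix (Fin 2) (Fin 2) F)) :
    (g : Matrix (Fin 2) (Fin 2) F) = ((u00 g : Fˣ) : F) • (1 : Matrix (Fin 2) (Fin 2) F) := by
  have h := (not_nonScalar_iff _).mp hg
  have h0 : (g : Matrix (Fin 2) (Fin 2) F) 0 0 ≠ 0 := by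
    intro h0
    rw [h0, zero_smul] at h
    have hd : (g : Matrix (Fin 2) (Fin 2) F).det ≠ 0 :=
      ((Matrix.isUnit_iff_isUnit_det _).mp g.isUnit).ne_zero
    rw [h] at hd
    simp at hd
  rw [u00, dif_neg h0]
  exact h

theorem inv_eq_iff (g h : GL (Fin 2) F) : inv g = inv h ↔ IsConj g h := by
  constructor
  · intro hi
    unfold inv at hi
    by_cases hg : NonScalar (g : Matrix (Fin 2) (Fin 2) F)
    · by_cases hh : NonScalar (h : Matrix (Fin 2) (Fin 2) F)
      · rw [if_pos hg, if_pos hh] at hi
        have hi' := Sum.inr.inj hi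
        have ht := congrArg Prod.fst hi'
        have hd := congrArg (fun p : F × Fˣ => (p.2 : F)) hi'
        simp only [det_val] at hd
        exact gl_isConj_of_nonScalar g h hg hh ht hd
      · rw [if_pos hg, if_neg hh] at hi
        exact absurd hi (by simp)
    · by_cases hh : NonScalar (h : Matrix (Fin 2) (Fin 2) F)
      · rw [if_neg hg, if_pos hh] at hi
        exact absurd hi (by simp)
      · rw [if_neg hg, if_neg hh] at hi
        have hi' := Sum.inl.inj hi
        have : g = h := by
          apply Units.ext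
          rw [scalar_eq g hg, scalar_eq h hh, hi']
        rw [this]
  · intro hc
    obtain ⟨x, rfl⟩ := isConj_iff.mp hc
    unfold inv
    by_cases hg : NonScalar (g : Matrix (Fin 2) (Fin 2) F)
    · rw [if_pos hg, if_pos ((nonScalar_conj_iff x g).mpr hg)]
      congr 1
      refine Prod.ext (gl_trace_conj x g).symm ?_
      apply Units.ext
      rw [det_val, det_val]
      exact (gl_det_conj x g).symm
    · rw [if_neg hg, if_neg (fun h => hg ((nonScalar_conj_iff x g).mp h))]
      have hgs := scalar_eq g hg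
      have : x * g * x⁻¹ = g := by
        apply Units.ext
        rw [Units.val_mul, Units.val_mul, hgs]
        simp
      rw [this]

theorem inv_surjective : Function.Surjective (inv : GL (Fin 2) F → Fˣ ⊕ (F × Fˣ)) := by
  rintro (u | ⟨t, d⟩)
  · have hdet : (((u : F) • (1 : Matrix (Fin 2) (Fin 2) F))).det ≠ 0 := by
      simp
    set g : GL (Fin 2) F := GeneralLinearGroup.mkOfDetNeZero _ hdet with hg
    have hgv : (g : Matrix (Fin 2) (Fin 2) F) = (u : F) • (1 : Matrix (Fin 2) (Fin 2) F) := rfl
    have hns : ¬ NonScalar (g : Matrix (Fin 2) (Fin 2) F) := by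
      rw [not_nonScalar_iff, hgv]
      simp
    refine ⟨g, ?_⟩
    unfold inv
    rw [if_neg hns]
    congr 1
    apply Units.ext
    have h00 : (g : Matrix (Fin 2) (Fin 2) F) 0 0 = (u : F) := by rw [hgv]; simp
    rw [u00, dif_neg (by rw [h00]; exact u.ne_zero)]
    exact h00
  · have hdet : (compMat t (d : F) 1).det ≠ 0 := by
      rw [det_compMat _ _ _ one_ne_zero]
      exact d.ne_zero
    set g : GL (Fin 2) F := GeneralLinearGroup.mkOfDetNeZero _ hdet with hg
    have hgv : (g : Matrix (Fin 2) (Fin 2) F) = compMat t (d : F) 1 := rfl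
    have hns : NonScalar (g : Matrix (Fin 2) (Fin 2) F) := by
      right; left
      rw [hgv]
      simp [compMat]
    refine ⟨g, ?_⟩
    unfold inv
    rw [if_pos hns]
    congr 1
    refine Prod.ext ?_ ?_
    · show (g : Matrix (Fin 2) (Fin 2) F).trace = t
      rw [hgv]
      simp [compMat, Matrix.trace_fin_two]
    · apply Units.ext
      show ((GeneralLinearGroup.det g : Fˣ) : F) = (d : F)
      rw [det_val, hgv, det_compMat _ _ _ one_ne_zero]

/-- Over a finite field with q elements, the general linear group GL₂ has exactly q² − 1 conjugacy classes. -/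
theorem result {F : Type*} [Field F] [Fintype F] :
    Nat.card (ConjClasses (Matrix.GeneralLinearGroup (Fin 2) F)) = Fintype.card F ^ 2 - 1 := by
  rw [card_conjClasses_eq inv inv_eq_iff inv_surjective, Nat.card_sum, Nat.card_prod, Nat.card_units,
    Nat.card_eq_fintype_card]
  have hq : 1 ≤ Fintype.card F := Fintype.card_pos
  obtain ⟨k, hk⟩ : ∃ k, Fintype.card F = k + 1 := ⟨Fintype.card F - 1, by omega⟩
  rw [hk]
  simp only [Nat.add_sub_cancel]
  have : (k + 1) ^ 2 = k + (k + 1) * k + 1 := by ring
  rw [this]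
  simp

end Cfsg.Agent.S2330
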