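import Cfsg.Statements.S2299
import Cfsg.Agent.Lib.Helper46.SL2k

set_option autoImplicit false
open Cfsg

namespace Cfsg.Agent.S2299

open Matrix Cfsg.Agent.Lib.Helper4 Cfsg.Agent.Lib.Helper46

/-- Over a finite field F with q elements, q odd, every irreducible complex character of SL₂ has degree 1, q, q + 1, q − 1, (q + 1)/2 or (q − 1)/2; and when q ≥ 5 (so that these six numbers are distinct) there are exactly one irreducible character of degree 1, one of degree q, (q − 3)/2 of degree q + 1, (q − 1)/2 of degree q − 1, two of degree (q + 1)/2 and two of degree (q − 1)/2. -/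
theorem result {F : Type*} [Field F] [Fintype F] (hodd : Odd (Fintype.card F)) :
    (∀ χ : Matrix.SpecialLinearGroup (Fin 2) F → ℂ, Cfsg.IsIrrCharacter (Matrix.SpecialLinearGroup (Fin 2) F) χ →
      χ 1 = 1 ∨ χ 1 = (Fintype.card F : ℂ) ∨ χ 1 = (Fintype.card F : ℂ) + 1 ∨ χ 1 = (Fintype.card F : ℂ) - 1 ∨
        χ 1 = (((Fintype.card F + 1) / 2 : ℕ) : ℂ) ∨ χ 1 = (((Fintype.card F - 1) / 2 : ℕ) : ℂ)) ∧
    (5 ≤ Fintype.card F →
      Nat.card {χ : Cfsg.IrrCharacter (Matrix.SpecialLinearGroup (Fin 2) F) // (χ : Matrix.SpecialLinearGroup (Fin 2) F → ℂ) 1 = 1} = 1 ∧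
      Nat.card {χ : Cfsg.IrrCharacter (Matrix.SpecialLinearGroup (Fin 2) F) // (χ : Matrix.SpecialLinearGroup (Fin 2) F → ℂ) 1 = (Fintype.card F : ℂ)} = 1 ∧
      Nat.card {χ : Cfsg.IrrCharacter (Matrix.SpecialLinearGroup (Fin 2) F) // (χ : Matrix.SpecialLinearGroup (Fin 2) F → ℂ) 1 = (Fintype.card F : ℂ) + 1} = (Fintype.card F - 3) / 2 ∧
      Nat.card {χ : Cfsg.IrrCharacter (Matrix.SpecialLinearGroup (Fin 2) F) // (χ : Matrix.SpecialLinearGroup (Fin 2) F → ℂ) 1 = (Fintype.card F : ℂ) - 1} = (Fintype.card F - 1) / 2 ∧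
      Nat.card {χ : Cfsg.IrrCharacter (Matrix.SpecialLinearGroup (Fin 2) F) // (χ : Matrix.SpecialLinearGroup (Fin 2) F → ℂ) 1 = (((Fintype.card F + 1) / 2 : ℕ) : ℂ)} = 2 ∧
      Nat.card {χ : Cfsg.IrrCharacter (Matrix.SpecialLinearGroup (Fin 2) F) // (χ : Matrix.SpecialLinearGroup (Fin 2) F → ℂ) 1 = (((Fintype.card F - 1) / 2 : ℕ) : ℂ)} = 2) := by
  classical
  have := irr_finite (G := SpecialLinearGroup (Fin 2) F)
  let _ : Fintype (IrrCharacter (SpecialLinearGroup (Fin 2) F)) := Fintype.ofFinite _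
  let _ : Fintype (MulChar F ℂ) := Fintype.ofFinite _
  obtain ⟨k, hk⟩ := hodd
  have h2 : (2 : F) ≠ 0 := by
    intro h
    have : CharP F 2 := CharTwo.of_one_ne_zero_of_two_eq_zero one_ne_zero h
    have := FiniteField.even_card_of_char_two (F := F) (ringChar.eq F 2)
    omega
  have hq1 : (Fintype.card F + 1) / 2 = k + 1 := by omega
  have hq2 : (Fintype.card F - 1) / 2 = k := by omega
  rw [hq1, hq2]
  refine ⟨?_, ?_⟩
  · intro χ hχ
    rcases sl2_cases_deg χ hχ with h | h | ⟨γ, -, h⟩ | ⟨-, h, -⟩ | h | ⟨-, h⟩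
    · left; rw [h]
    · right; left; rw [h, stS_one]
    · right; right; left; rw [h, psS_one]
    · right; right; right; right; left
      have : (2 : ℂ) * χ 1 = 2 * ((k + 1 : ℕ) : ℂ) := by
        rw [h, hk]; push_cast; ring
      exact mul_left_cancel₀ two_ne_zero this
    · right; right; right; left; exact h
    · right; right; right; right; right
      have : (2 : ℂ) * χ 1 = 2 * ((k : ℕ) : ℂ) := by
        rw [h, hk]; push_cast; ring
      exact mul_left_cancel₀ two_ne_zero this
  · intro h5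
    have hk2 : 2 ≤ k := by omega
    have hD : ∀ χ : IrrCharacter (SpecialLinearGroup (Fin 2) F),
        deg χ ∈ ({1, 2 * k + 1, 2 * k + 2, 2 * k, k + 1, k} : Finset ℕ) := by
      intro χ
      simp only [Finset.mem_insert, Finset.mem_singleton]
      rcases sl2_deg_mem χ with h | h | h | h | ⟨-, h⟩ | ⟨-, h⟩
      · left; exact h
      · right; left; omega
      · right; right; left; omega
      · right; right; right; left; omega
      · right; right; right; right; left; omega
      · right; right; right; right; right; omega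
    have e1 := sum_by_deg _ hD (fun _ => 1)
    have e2 := sum_by_deg _ hD (fun k => k ^ 2)
    rw [sum_deg_sq, card_SL2] at e2
    simp only [Finset.sum_const, Finset.card_univ, smul_eq_mul, mul_one] at e1
    rw [← Nat.card_eq_fintype_card, natCard_irr_sl2_odd ⟨k, hk⟩] at e1
    have c1 := card_deg_one_sl2 (F := F) (by omega)
    have cq := card_deg_q_sl2 (F := F) (by omega)
    have ch := card_deg_half_succ h2 k hk hk2
    have ca := two_mul_card_deg_succ h2
    rw [hk] at cq e1 e2 ca
    rw [Finset.sum_insert (by simp; omega), Finset.sum_insert (by simp; omega),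
      Finset.sum_insert (by simp; omega), Finset.sum_insert (by simp; omega),
      Finset.sum_insert (by simp), Finset.sum_singleton, c1, cq, ch] at e1 e2
    rw [natCard_deg_gen' 1 1 (by simp), natCard_deg_gen' _ (2 * k + 1) (by rw [hk]),
      natCard_deg_gen' _ (2 * k + 2) (by rw [hk]; push_cast; ring),
      natCard_deg_gen' _ (2 * k) (by rw [hk]; push_cast; ring),
      natCard_deg_gen' _ (k + 1) rfl, natCard_deg_gen' _ k rfl, c1, cq, ch, hk]
    generalize (Finset.univ.filter
      (fun χ : IrrCharacter (SpecialLinearGroup (Fin 2) F) => deg χ = 2 * k + 1 + 1)).card = A at *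
    generalize (Finset.univ.filter
      (fun χ : IrrCharacter (SpecialLinearGroup (Fin 2) F) => deg χ = 2 * k)).card = B at *
    generalize (Finset.univ.filter
      (fun χ : IrrCharacter (SpecialLinearGroup (Fin 2) F) => deg χ = k)).card = D at *
    have h1 : (2 * k + 1) ^ 2 - 1 + 1 = (2 * k + 1) ^ 2 :=
      Nat.sub_add_cancel (Nat.one_le_pow _ _ (by omega))
    generalize (2 * k + 1) ^ 2 - 1 = x at *
    have hz : ((k : ℤ) ^ 2) * (4 * (B : ℤ) + D - 4 * k - 2) = 0 := by
      zify at e1 e2 h1 ca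
      linear_combination (-1 : ℤ) * e2 + (2 * (k : ℤ) + 1) * h1 - 2 * ((k : ℤ) + 1) ^ 2 * ca
    have hB : 4 * (B : ℤ) + D - 4 * k - 2 = 0 := by
      rcases mul_eq_zero.mp hz with h | h
      · have : (k : ℤ) = 0 := by simpa using h
        omega
      · exact h
    refine ⟨rfl, rfl, ?_, ?_, rfl, ?_⟩ <;> omega

end Cfsg.Agent.S2299
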