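import Cfsg.Statements.S2300
import Cfsg.Agent.Lib.Helper46.SL2j

set_option autoImplicit false
open Cfsg

namespace Cfsg.Agent.S2300

open Matrix Cfsg.Agent.Lib.Helper4 Cfsg.Agent.Lib.Helper46

/-- Over a finite field F with q elements, q even, every irreducible complex character of SL₂ has degree 1, q − 1, q or q + 1; and when q ≥ 4 (so that these four numbers are distinct) there are exactly one irreducible character of degree 1, one of degree q, (q − 2)/2 of degree q + 1 and q/2 of degree q − 1. -/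
theorem result {F : Type*} [Field F] [Fintype F] [CharP F 2] :
    (∀ χ : Matrix.SpecialLinearGroup (Fin 2) F → ℂ, Cfsg.IsIrrCharacter (Matrix.SpecialLinearGroup (Fin 2) F) χ →
      χ 1 = 1 ∨ χ 1 = (Fintype.card F : ℂ) - 1 ∨ χ 1 = (Fintype.card F : ℂ) ∨ χ 1 = (Fintype.card F : ℂ) + 1) ∧
    (4 ≤ Fintype.card F →
      Nat.card {χ : Cfsg.IrrCharacter (Matrix.SpecialLinearGroup (Fin 2) F) // (χ : Matrix.SpecialLinearGroup (Fin 2) F → ℂ) 1 = 1} = 1 ∧
      Nat.card {χ : Cfsg.IrrCharacter (Matrix.SpecialLinearGroup (Fin 2) F) // (χ : Matrix.SpecialLinearGroup (Fin 2) F → ℂ) 1 = (Fintype.card F : ℂ)} = 1 ∧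
      Nat.card {χ : Cfsg.IrrCharacter (Matrix.SpecialLinearGroup (Fin 2) F) // (χ : Matrix.SpecialLinearGroup (Fin 2) F → ℂ) 1 = (Fintype.card F : ℂ) + 1} = (Fintype.card F - 2) / 2 ∧
      Nat.card {χ : Cfsg.IrrCharacter (Matrix.SpecialLinearGroup (Fin 2) F) // (χ : Matrix.SpecialLinearGroup (Fin 2) F → ℂ) 1 = (Fintype.card F : ℂ) - 1} = Fintype.card F / 2) := by
  classical
  have := irr_finite (G := SpecialLinearGroup (Fin 2) F)
  let _ : Fintype (IrrCharacter (SpecialLinearGroup (Fin 2) F)) := Fintype.ofFinite _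
  have h20 : (2 : F) = 0 := CharTwo.two_eq_zero
  refine ⟨?_, ?_⟩
  · intro χ hχ
    rcases sl2_cases_deg χ hχ with h | h | ⟨γ, -, h⟩ | ⟨h2, -⟩ | h | ⟨h2, -⟩
    · left; rw [h]
    · right; right; left; rw [h, stS_one]
    · right; right; right; rw [h, psS_one]
    · exact absurd h20 h2
    · right; left; exact h
    · exact absurd h20 h2
  · intro h4
    obtain ⟨m, hm⟩ : ∃ m, Fintype.card F = m + 4 := ⟨Fintype.card F - 4, by omega⟩
    have hD : ∀ χ : IrrCharacter (SpecialLinearGroup (Fin 2) F),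
        deg χ ∈ ({1, m + 4, m + 5, m + 3} : Finset ℕ) := by
      intro χ
      simp only [Finset.mem_insert, Finset.mem_singleton]
      rcases sl2_deg_mem χ with h | h | h | h | ⟨h2, -⟩ | ⟨h2, -⟩
      · left; exact h
      · right; left; omega
      · right; right; left; omega
      · right; right; right; omega
      · exact absurd h20 h2
      · exact absurd h20 h2
    have e1 := sum_by_deg _ hD (fun _ => 1)
    have e2 := sum_by_deg _ hD (fun k => k ^ 2)
    rw [sum_deg_sq, card_SL2] at e2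
    simp only [Finset.sum_const, Finset.card_univ, smul_eq_mul, mul_one] at e1
    rw [← Nat.card_eq_fintype_card, natCard_irr_sl2_char_two] at e1
    have c1 := card_deg_one_sl2 (F := F) h4
    have cq := card_deg_q_sl2 (F := F) h4
    rw [hm] at cq e1 e2
    rw [Finset.sum_insert (by simp), Finset.sum_insert (by simp), Finset.sum_insert (by simp),
      Finset.sum_singleton, c1, cq] at e1 e2
    rw [natCard_deg_gen' 1 1 (by simp), natCard_deg_gen' _ (m + 4) (by rw [hm]),
      natCard_deg_gen' _ (m + 5) (by rw [hm]; push_cast; ring),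
      natCard_deg_gen' _ (m + 3) (by rw [hm]; push_cast; ring), c1, cq, hm]
    generalize (Finset.univ.filter
      (fun χ : IrrCharacter (SpecialLinearGroup (Fin 2) F) => deg χ = m + 5)).card = A at *
    generalize (Finset.univ.filter
      (fun χ : IrrCharacter (SpecialLinearGroup (Fin 2) F) => deg χ = m + 3)).card = B at *
    have h1 : (m + 4) ^ 2 - 1 + 1 = (m + 4) ^ 2 := Nat.sub_add_cancel (Nat.one_le_pow _ _ (by omega))
    generalize (m + 4) ^ 2 - 1 = x at *
    have hz : (2 * ((m : ℤ) + 4)) * (2 * (A : ℤ) - (m + 2)) = 0 := by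
      zify at e1 e2 h1
      linear_combination (-1 : ℤ) * e2 + ((m : ℤ) + 3) ^ 2 * e1 + ((m : ℤ) + 4) * h1
    have hA : 2 * (A : ℤ) - (m + 2) = 0 := by
      rcases mul_eq_zero.mp hz with h | h
      · omega
      · exact h
    refine ⟨rfl, rfl, ?_, ?_⟩ <;> omega

end Cfsg.Agent.S2300
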