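import Cfsg.Statements.S3790
import Mathlib

set_option autoImplicit false
open Cfsg

namespace Cfsg.Agent.S3790

open scoped Pointwise

section core
variable {G : Type*} [Group G]

/-- every element of `M` has a power with exponent in `E` lying in `U` -/
def IsStep (E : Set ℕ) (U M : Subgroup G) : Prop := ∀ x ∈ M, ∃ n ∈ E, x ^ n ∈ U

/-- the largest normal subgroup `M` with `IsStep E U M` -/
def Rad (E : Set ℕ) (U : Subgroup G) : Subgroup G :=
  sSup {M : Subgroup G | M.Normal ∧ IsStep E U M}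

def EP (p : ℕ) : Set ℕ := {n | n.Coprime p}
def EQ (p : ℕ) : Set ℕ := {n | ∃ k, n = p ^ k}

theorem EP_one (p : ℕ) : 1 ∈ EP p := Nat.coprime_one_left p
theorem EP_mul (p : ℕ) : ∀ a ∈ EP p, ∀ b ∈ EP p, a * b ∈ EP p :=
  fun _ ha _ hb => Nat.Coprime.mul_left ha hb
theorem EQ_one (p : ℕ) : 1 ∈ EQ p := ⟨0, (pow_zero p).symm⟩
theorem EQ_mul (p : ℕ) : ∀ a ∈ EQ p, ∀ b ∈ EQ p, a * b ∈ EQ p := by
  rintro a ⟨k, rfl⟩ b ⟨j, rfl⟩
  exact ⟨k + j, (pow_add p k j).symm⟩

theorem pow_mul_mem (N : Subgroup G) [hN : N.Normal] (a b : G) (hb : b ∈ N) (n : ℕ) :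
    (a ^ n)⁻¹ * (a * b) ^ n ∈ N := by
  have h : ((QuotientGroup.mk' N) ((a ^ n)⁻¹ * (a * b) ^ n)) = 1 := by
    have hb' : QuotientGroup.mk' N b = 1 := (QuotientGroup.eq_one_iff b).2 hb
    simp [map_mul, map_pow, map_inv, hb']
  exact (QuotientGroup.eq_one_iff _).1 h

theorem isStep_sup (E : Set ℕ) (hmul : ∀ a ∈ E, ∀ b ∈ E, a * b ∈ E) (U M₁ M₂ : Subgroup G)
    [hU : U.Normal] [M₂.Normal] (h₁ : IsStep E U M₁) (h₂ : IsStep E U M₂) :
    IsStep E U (M₁ ⊔ M₂) := by
  intro x hx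
  have hx' : x ∈ ((M₁ ⊔ M₂ : Subgroup G) : Set G) := hx
  rw [Subgroup.mul_normal, Set.mem_mul] at hx'
  obtain ⟨m₁, hm₁, m₂, hm₂, rfl⟩ := hx'
  obtain ⟨n₁, hn₁, hu₁⟩ := h₁ m₁ hm₁
  have hm'M : (m₁ ^ n₁)⁻¹ * (m₁ * m₂) ^ n₁ ∈ M₂ := pow_mul_mem M₂ m₁ m₂ hm₂ n₁
  obtain ⟨n₂, hn₂, hu₂⟩ := h₂ _ hm'M
  refine ⟨n₁ * n₂, hmul _ hn₁ _ hn₂, ?_⟩
  generalize hm' : (m₁ ^ n₁)⁻¹ * (m₁ * m₂) ^ n₁ = m' at hm'M hu₂
  have hy : (m₁ * m₂) ^ n₁ = m' * (m'⁻¹ * m₁ ^ n₁ * m') := by rw [← hm']; group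
  have hu' : m'⁻¹ * m₁ ^ n₁ * m' ∈ U := by
    have := hU.conj_mem _ hu₁ m'⁻¹
    simpa using this
  have h3 := pow_mul_mem U m' _ hu' n₂
  rw [pow_mul, hy]
  have : (m' * (m'⁻¹ * m₁ ^ n₁ * m')) ^ n₂
      = m' ^ n₂ * ((m' ^ n₂)⁻¹ * (m' * (m'⁻¹ * m₁ ^ n₁ * m')) ^ n₂) := by group
  rw [this]
  exact U.mul_mem hu₂ h3

theorem rad_spec [Finite G] (E : Set ℕ) (h1 : 1 ∈ E) (hmul : ∀ a ∈ E, ∀ b ∈ E, a * b ∈ E)
    (U : Subgroup G) [U.Normal] :
    (Rad E U).Normal ∧ IsStep E U (Rad E U) ∧ U ≤ Rad E U ∧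
      ∀ M : Subgroup G, M.Normal → IsStep E U M → M ≤ Rad E U := by
  let S : Set (Subgroup G) := {M | M.Normal ∧ IsStep E U M}
  have hU : U ∈ S := ⟨inferInstance, fun x hx => ⟨1, h1, by simpa using hx⟩⟩
  obtain ⟨M₀, hM₀⟩ := Set.Finite.exists_maximal (Set.toFinite S) ⟨U, hU⟩
  have hle : ∀ X ∈ S, X ≤ M₀ := by
    intro X hX
    have hXn : X.Normal := hX.1
    have hMn : M₀.Normal := hM₀.1.1
    have h1 : M₀ ⊔ X ∈ S := ⟨inferInstance, isStep_sup E hmul U M₀ X hM₀.1.2 hX.2⟩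
    exact le_sup_right.trans (hM₀.2 h1 le_sup_left)
  have heq : Rad E U = M₀ := le_antisymm (sSup_le hle) (le_sSup hM₀.1)
  rw [heq]
  exact ⟨hM₀.1.1, hM₀.1.2, hle U hU, fun M hMn hMs => hle M ⟨hMn, hMs⟩⟩

theorem pPrimeCore_eq_rad (Q : Type*) [Group Q] [Finite Q] (p : ℕ) (hp : p.Prime) :
    pPrimeCore p Q = Rad (EP p) (⊥ : Subgroup Q) := by
  unfold pPrimeCore Rad
  congr 1
  ext N
  constructor
  · rintro ⟨hn, hc⟩
    refine ⟨hn, fun x hx => ⟨Nat.card N, hc, ?_⟩⟩
    rw [Subgroup.mem_bot]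
    have := pow_card_eq_one' (G := N) (x := ⟨x, hx⟩)
    exact congrArg Subtype.val this
  · rintro ⟨hn, hs⟩
    refine ⟨hn, ?_⟩
    by_contra hc
    have hdvd : p ∣ Nat.card N := by
      by_contra h
      exact hc ((Nat.Prime.coprime_iff_not_dvd hp).2 h).symm
    haveI : Fact p.Prime := ⟨hp⟩
    obtain ⟨x, hx⟩ := exists_prime_orderOf_dvd_card' (G := N) p hdvd
    obtain ⟨n, hn', hxn⟩ := hs x x.2
    rw [Subgroup.mem_bot] at hxn
    have h2 : orderOf (x : Q) ∣ n := orderOf_dvd_of_pow_eq_one hxn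
    rw [Subgroup.orderOf_coe, hx] at h2
    exact (Nat.Prime.coprime_iff_not_dvd hp).1 (Nat.Coprime.symm hn') h2

theorem pCore_eq_rad (Q : Type*) [Group Q] (p : ℕ) :
    pCore p Q = Rad (EQ p) (⊥ : Subgroup Q) := by
  unfold pCore Rad
  congr 1
  ext N
  constructor
  · rintro ⟨hn, hg⟩
    refine ⟨hn, fun x hx => ?_⟩
    obtain ⟨k, hk⟩ := hg ⟨x, hx⟩
    exact ⟨p ^ k, ⟨k, rfl⟩, by rw [Subgroup.mem_bot]; exact congrArg Subtype.val hk⟩
  · rintro ⟨hn, hs⟩
    refine ⟨hn, fun g => ?_⟩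
    obtain ⟨n, ⟨k, rfl⟩, hx⟩ := hs g g.2
    exact ⟨k, Subtype.ext (by rw [Subgroup.mem_bot] at hx; simpa using hx)⟩

theorem comap_rad [Finite G] (E : Set ℕ) (h1 : 1 ∈ E) (hmul : ∀ a ∈ E, ∀ b ∈ E, a * b ∈ E)
    (U : Subgroup G) [U.Normal] :
    (Rad E (⊥ : Subgroup (G ⧸ U))).comap (QuotientGroup.mk' U) = Rad E U := by
  obtain ⟨hQn, hQs, -, hQmax⟩ := rad_spec E h1 hmul (⊥ : Subgroup (G ⧸ U))
  obtain ⟨hGn, hGs, -, hGmax⟩ := rad_spec E h1 hmul U
  apply le_antisymm
  · apply hGmax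
    · exact hQn.comap _
    · intro x hx
      obtain ⟨n, hn, hxn⟩ := hQs _ (Subgroup.mem_comap.1 hx)
      refine ⟨n, hn, ?_⟩
      rw [Subgroup.mem_bot, ← map_pow] at hxn
      exact (QuotientGroup.eq_one_iff _).1 hxn
  · rw [← Subgroup.map_le_iff_le_comap]
    apply hQmax
    · exact hGn.map _ (QuotientGroup.mk'_surjective U)
    · rintro y ⟨x, hx, rfl⟩
      obtain ⟨n, hn, hxn⟩ := hGs x hx
      refine ⟨n, hn, ?_⟩
      rw [Subgroup.mem_bot, ← map_pow]
      exact (QuotientGroup.eq_one_iff _).2 hxn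

/-- the upper `p`-series over `K` -/
def V (p : ℕ) (K : Subgroup G) : ℕ → Subgroup G
  | 0 => K
  | n + 1 => if Even n then Rad (EP p) (V p K n) else Rad (EQ p) (V p K n)

theorem V_normal [Finite G] (p : ℕ) (K : Subgroup G) [hK : K.Normal] : ∀ n, (V p K n).Normal := by
  intro n
  induction n with
  | zero => exact hK
  | succ n ih =>
    show (if Even n then Rad (EP p) (V p K n) else Rad (EQ p) (V p K n)).Normal
    split_ifs
    · exact (rad_spec (EP p) (EP_one p) (EP_mul p) (V p K n)).1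
    · exact (rad_spec (EQ p) (EQ_one p) (EQ_mul p) (V p K n)).1

theorem upper_eq [Finite G] (p : ℕ) (hp : p.Prime) :
    ∀ n, (upperPSeries p G n).1 = V p (⊥ : Subgroup G) n := by
  intro n
  induction n with
  | zero => rfl
  | succ n ih =>
    by_cases hn : Even n
    · have h1 : (upperPSeries p G (n + 1)).1 =
          (pPrimeCore p (G ⧸ (upperPSeries p G n).1)).comap (QuotientGroup.mk' _) := by
        have h0 : upperPSeries p G (n + 1) =
            (if Even n then
              ⟨(pPrimeCore p (G ⧸ (upperPSeries p G n).1)).comap (QuotientGroup.mk' _), inferInstance⟩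
            else
              ⟨(pCore p (G ⧸ (upperPSeries p G n).1)).comap (QuotientGroup.mk' _), inferInstance⟩) :=
          rfl
        rw [h0, if_pos hn]
      rw [h1, pPrimeCore_eq_rad _ p hp, comap_rad (EP p) (EP_one p) (EP_mul p), ih]
      show _ = if Even n then _ else _
      rw [if_pos hn]
    · have h1 : (upperPSeries p G (n + 1)).1 =
          (pCore p (G ⧸ (upperPSeries p G n).1)).comap (QuotientGroup.mk' _) := by
        have h0 : upperPSeries p G (n + 1) =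
            (if Even n then
              ⟨(pPrimeCore p (G ⧸ (upperPSeries p G n).1)).comap (QuotientGroup.mk' _), inferInstance⟩
            else
              ⟨(pCore p (G ⧸ (upperPSeries p G n).1)).comap (QuotientGroup.mk' _), inferInstance⟩) :=
          rfl
        rw [h0, if_neg hn]
      rw [h1, pCore_eq_rad _ p, comap_rad (EQ p) (EQ_one p) (EQ_mul p), ih]
      show _ = if Even n then _ else _
      rw [if_neg hn]


/-- exponent set of the `n`-th step of a `p`-series -/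
def stepSet (p n : ℕ) : Set ℕ := if Even n then EP p else EQ p

theorem stepSet_one (p n : ℕ) : 1 ∈ stepSet p n := by
  unfold stepSet
  split_ifs
  · exact EP_one p
  · exact EQ_one p

theorem stepSet_mul (p n : ℕ) : ∀ a ∈ stepSet p n, ∀ b ∈ stepSet p n, a * b ∈ stepSet p n := by
  unfold stepSet
  split_ifs
  · exact EP_mul p
  · exact EQ_mul p

theorem stepSet_congr (p n m : ℕ) (h : Even n ↔ Even m) : stepSet p n = stepSet p m := by
  unfold stepSet
  by_cases hn : Even n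
  · rw [if_pos hn, if_pos (h.1 hn)]
  · rw [if_neg hn, if_neg (fun hm => hn (h.2 hm))]

theorem isStep_refl (E : Set ℕ) (h1 : 1 ∈ E) (M : Subgroup G) : IsStep E M M :=
  fun x hx => ⟨1, h1, by simpa using hx⟩

/-- a `(p', p, p', …, p')`-chain of normal subgroups from `K` to `H` with `k` steps of `p`-type -/
def Chain (p : ℕ) (K H : Subgroup G) (k : ℕ) : Prop :=
  ∃ W : ℕ → Subgroup G, W 0 = K ∧ W (2 * k + 1) = H ∧ (∀ n, (W n).Normal) ∧
    (∀ n, W n ≤ W (n + 1)) ∧ ∀ n, IsStep (stepSet p n) (W n) (W (n + 1))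

theorem V_succ (p : ℕ) (K : Subgroup G) (n : ℕ) :
    V p K (n + 1) = Rad (stepSet p n) (V p K n) := by
  show (if Even n then Rad (EP p) (V p K n) else Rad (EQ p) (V p K n)) = _
  unfold stepSet
  split_ifs <;> rfl

theorem chain_of_plength [Finite G] (p : ℕ) (hp : p.Prime) (k : ℕ) (h : PLengthLE p k G) :
    Chain p (⊥ : Subgroup G) ⊤ k := by
  refine ⟨V p ⊥, rfl, ?_, V_normal p ⊥, ?_, ?_⟩
  · rw [← upper_eq p hp]; exact h
  · intro n
    have := V_normal p (⊥ : Subgroup G) n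
    rw [V_succ]
    exact (rad_spec _ (stepSet_one p n) (stepSet_mul p n) _).2.2.1
  · intro n
    have := V_normal p (⊥ : Subgroup G) n
    rw [V_succ]
    exact (rad_spec _ (stepSet_one p n) (stepSet_mul p n) _).2.1

theorem plength_of_chain [Finite G] (p : ℕ) (hp : p.Prime) (k : ℕ)
    (h : Chain p (⊥ : Subgroup G) ⊤ k) : PLengthLE p k G := by
  obtain ⟨W, h0, he, hn, -, hs⟩ := h
  have key : ∀ n, W n ≤ V p (⊥ : Subgroup G) n := by
    intro n
    induction n with
    | zero => rw [h0]; exact le_rfl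
    | succ n ih =>
      have := V_normal p (⊥ : Subgroup G) n
      rw [V_succ]
      apply (rad_spec _ (stepSet_one p n) (stepSet_mul p n) _).2.2.2 _ (hn (n + 1))
      intro x hx
      obtain ⟨m, hm, hxm⟩ := hs n x hx
      exact ⟨m, hm, ih hxm⟩
  show (upperPSeries p G (2 * k + 1)).1 = ⊤
  rw [upper_eq p hp, eq_top_iff, ← he]
  exact key _

theorem chain_restrict (p : ℕ) (K H K' H' : Subgroup G) [hK'n : K'.Normal] [hH'n : H'.Normal]
    (k : ℕ) (h : Chain p K H k) (hK : K ≤ K') (hKH : K' ≤ H') (hH : H' ≤ H) :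
    Chain p K' H' k := by
  obtain ⟨W, h0, he, hn, hm, hs⟩ := h
  refine ⟨fun n => (W n ⊓ H') ⊔ K', ?_, ?_, ?_, ?_, ?_⟩
  · show (W 0 ⊓ H') ⊔ K' = K'
    rw [h0]
    exact le_antisymm (sup_le (inf_le_left.trans hK) le_rfl) le_sup_right
  · show (W (2 * k + 1) ⊓ H') ⊔ K' = H'
    rw [he, inf_eq_right.2 hH, sup_eq_left.2 hKH]
  · intro n
    have := hn n
    show ((W n ⊓ H') ⊔ K').Normal
    infer_instance
  · intro n
    exact sup_le_sup_right (inf_le_inf_right _ (hm n)) _
  · intro n x hx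
    have hx' : x ∈ (((W (n + 1) ⊓ H') ⊔ K' : Subgroup G) : Set G) := hx
    rw [Subgroup.mul_normal, Set.mem_mul] at hx'
    obtain ⟨w, hw, k', hk', rfl⟩ := hx'
    obtain ⟨m, hmE, hwm⟩ := hs n w hw.1
    refine ⟨m, hmE, ?_⟩
    have e : (w * k') ^ m = w ^ m * ((w ^ m)⁻¹ * (w * k') ^ m) := by group
    rw [e]
    exact Subgroup.mul_mem _
      ((le_sup_left : W n ⊓ H' ≤ _) ⟨hwm, H'.pow_mem hw.2 m⟩)
      ((le_sup_right : K' ≤ _) (pow_mul_mem K' w k' hk' m))

theorem chain_concat (p : ℕ) (A B C : Subgroup G) (k₁ k₂ : ℕ) (h₁ : Chain p A B k₁)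
    (h₂ : Chain p B C k₂) : Chain p A C (k₁ + k₂) := by
  obtain ⟨W₁, h10, h1e, h1n, h1m, h1s⟩ := h₁
  obtain ⟨W₂, h20, h2e, h2n, h2m, h2s⟩ := h₂
  refine ⟨fun n => if n ≤ 2 * k₁ then W₁ n else W₂ (n - 2 * k₁), ?_, ?_, ?_, ?_, ?_⟩
  · show (if 0 ≤ 2 * k₁ then W₁ 0 else W₂ (0 - 2 * k₁)) = A
    rw [if_pos (Nat.zero_le _), h10]
  · show (if 2 * (k₁ + k₂) + 1 ≤ 2 * k₁ then W₁ (2 * (k₁ + k₂) + 1)
      else W₂ (2 * (k₁ + k₂) + 1 - 2 * k₁)) = C
    rw [if_neg (by omega)]
    have : 2 * (k₁ + k₂) + 1 - 2 * k₁ = 2 * k₂ + 1 := by omega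
    rw [this, h2e]
  · intro n
    show (if n ≤ 2 * k₁ then W₁ n else W₂ (n - 2 * k₁)).Normal
    split_ifs
    · exact h1n n
    · exact h2n _
  · intro n
    show (if n ≤ 2 * k₁ then W₁ n else W₂ (n - 2 * k₁)) ≤
      (if n + 1 ≤ 2 * k₁ then W₁ (n + 1) else W₂ (n + 1 - 2 * k₁))
    by_cases c1 : n + 1 ≤ 2 * k₁
    · rw [if_pos (by omega), if_pos c1]; exact h1m n
    · by_cases c2 : n = 2 * k₁
      · rw [if_pos (by omega), if_neg c1]
        subst c2
        have : 2 * k₁ + 1 - 2 * k₁ = 1 := by omega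
        rw [this]
        calc W₁ (2 * k₁) ≤ W₁ (2 * k₁ + 1) := h1m _
          _ = W₂ 0 := by rw [h1e, h20]
          _ ≤ W₂ 1 := h2m 0
      · rw [if_neg (by omega), if_neg c1]
        have : n + 1 - 2 * k₁ = (n - 2 * k₁) + 1 := by omega
        rw [this]
        exact h2m _
  · intro n
    show IsStep (stepSet p n) (if n ≤ 2 * k₁ then W₁ n else W₂ (n - 2 * k₁))
      (if n + 1 ≤ 2 * k₁ then W₁ (n + 1) else W₂ (n + 1 - 2 * k₁))
    by_cases c1 : n + 1 ≤ 2 * k₁
    · rw [if_pos (by omega), if_pos c1]; exact h1s n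
    · by_cases c2 : n = 2 * k₁
      · rw [if_pos (by omega), if_neg c1]
        subst c2
        have : 2 * k₁ + 1 - 2 * k₁ = 1 := by omega
        rw [this]
        intro x hx
        have e0 : stepSet p 0 = stepSet p (2 * k₁) :=
          stepSet_congr p 0 (2 * k₁) (by simp)
        obtain ⟨a, ha, hxa⟩ := h2s 0 x hx
        rw [h20, ← h1e] at hxa
        obtain ⟨b, hb, hxb⟩ := h1s (2 * k₁) _ hxa
        rw [e0] at ha
        exact ⟨a * b, stepSet_mul p _ a ha b hb, by rw [pow_mul]; exact hxb⟩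
      · rw [if_neg (by omega), if_neg c1]
        have e1 : n + 1 - 2 * k₁ = (n - 2 * k₁) + 1 := by omega
        rw [e1]
        have e2 : stepSet p n = stepSet p (n - 2 * k₁) := by
          apply stepSet_congr
          have : n = (n - 2 * k₁) + 2 * k₁ := by omega
          conv_lhs => rw [this]
          simp [Nat.even_add]
        rw [e2]
        exact h2s _

theorem chain_of_step (p q₀ : ℕ) (hcop : ∀ k, (q₀ ^ k).Coprime p) (U M : Subgroup G)
    (hUn : U.Normal) (hMn : M.Normal) (hUM : U ≤ M) (hs : IsStep (EQ q₀) U M) :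
    Chain p U M 0 := by
  refine ⟨fun n => if n = 0 then U else M, rfl, rfl, ?_, ?_, ?_⟩
  · intro n
    show (if n = 0 then U else M).Normal
    split_ifs
    · exact hUn
    · exact hMn
  · intro n
    show (if n = 0 then U else M) ≤ (if n + 1 = 0 then U else M)
    rw [if_neg (Nat.succ_ne_zero n)]
    by_cases hn : n = 0
    · rw [if_pos hn]; exact hUM
    · rw [if_neg hn]
  · intro n
    show IsStep (stepSet p n) (if n = 0 then U else M) (if n + 1 = 0 then U else M)
    rw [if_neg (Nat.succ_ne_zero n)]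
    by_cases hn : n = 0
    · rw [if_pos hn]
      subst hn
      intro x hx
      obtain ⟨m, ⟨k, rfl⟩, hxm⟩ := hs x hx
      refine ⟨q₀ ^ k, ?_, hxm⟩
      show q₀ ^ k ∈ (if Even 0 then EP p else EQ p)
      rw [if_pos (by decide)]
      exact hcop k
    · rw [if_neg hn]
      exact isStep_refl _ (stepSet_one p n) M

theorem chain_of_pstep (p : ℕ) (K H : Subgroup G) (hKn : K.Normal) (hHn : H.Normal)
    (hKH : K ≤ H) (hs : IsStep (EQ p) K H) : Chain p K H 1 := by
  refine ⟨fun n => if n ≤ 1 then K else H, rfl, rfl, ?_, ?_, ?_⟩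
  · intro n
    show (if n ≤ 1 then K else H).Normal
    split_ifs
    · exact hKn
    · exact hHn
  · intro n
    show (if n ≤ 1 then K else H) ≤ (if n + 1 ≤ 1 then K else H)
    split_ifs
    · exact le_rfl
    · exact hKH
    · omega
    · exact le_rfl
  · intro n
    show IsStep (stepSet p n) (if n ≤ 1 then K else H) (if n + 1 ≤ 1 then K else H)
    by_cases h0 : n = 0
    · subst h0
      rw [if_pos (by omega), if_pos (by omega)]
      exact isStep_refl _ (stepSet_one p 0) K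
    · by_cases h1 : n = 1
      · subst h1
        rw [if_pos (by omega), if_neg (by omega)]
        show IsStep (if Even 1 then EP p else EQ p) K H
        rw [if_neg (by decide)]
        exact hs
      · rw [if_neg (by omega), if_neg (by omega)]
        exact isStep_refl _ (stepSet_one p n) H

theorem pow_gcd_mem (U : Subgroup G) (x : G) (a b : ℕ) (ha : x ^ a ∈ U) (hb : x ^ b ∈ U) :
    x ^ Nat.gcd a b ∈ U := by
  have h : x ^ ((Nat.gcd a b : ℕ) : ℤ) = (x ^ a) ^ (Nat.gcdA a b) * (x ^ b) ^ (Nat.gcdB a b) := by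
    rw [Nat.gcd_eq_gcd_ab, zpow_add, zpow_mul, zpow_mul, zpow_natCast, zpow_natCast]
  rw [← zpow_natCast, h]
  exact U.mul_mem (U.zpow_mem ha _) (U.zpow_mem hb _)

/-- the primes occurring in the section `H/K` are `p` or among the `q i` -/
def Cov (p : ℕ) {r : ℕ} (q : Fin r → ℕ) (K H : Subgroup G) : Prop :=
  ∀ x ∈ H, ∃ n : ℕ, n ≠ 0 ∧ x ^ n ∈ K ∧ ∀ s : ℕ, s.Prime → s ∣ n → s = p ∨ ∃ i, q i = s

theorem main (p : ℕ) (hp : p.Prime) : ∀ (r : ℕ) (q l : Fin r → ℕ),
    (∀ i, (q i).Prime ∧ q i ≠ p) → ∀ K H : Subgroup G, K.Normal → H.Normal → K ≤ H →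
    Cov p q K H → (∀ i, Chain (q i) K H (l i)) → Chain p K H (∏ i, (1 + l i)) := by
  intro r
  induction r with
  | zero =>
    intro q l _ K H hKn hHn hKH hcov _
    rw [Finset.univ_eq_empty, Finset.prod_empty]
    apply chain_of_pstep p K H hKn hHn hKH
    intro x hx
    obtain ⟨n, hn0, hxn, hpr⟩ := hcov x hx
    have hn : n = p ^ n.primeFactorsList.length := by
      apply Nat.eq_prime_pow_of_unique_prime_dvd hn0
      intro s hs hsn
      rcases hpr s hs hsn with h | ⟨i, -⟩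
      · exact h
      · exact i.elim0
    exact ⟨n, ⟨_, hn⟩, hxn⟩
  | succ r ih =>
    intro q l hq K H hKn hHn hKH hcov hch
    obtain ⟨W, h0, he, hn, hm, hs⟩ := hch 0
    have hmono : ∀ a b, a ≤ b → W a ≤ W b := by
      intro a b hab
      induction b with
      | zero =>
        have : a = 0 := by omega
        rw [this]
      | succ b ihb =>
        by_cases h : a = b + 1
        · rw [h]
        · exact (ihb (by omega)).trans (hm b)
    set L := ∏ i : Fin r, (1 + l i.succ) with hL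
    have hcop : ∀ k, ((q 0) ^ k).Coprime p := by
      intro k
      apply Nat.Coprime.pow_left
      exact (Nat.coprime_primes (hq 0).1 hp).2 (hq 0).2
    have sec : ∀ j, j ≤ l 0 → Chain p (W (2 * j)) (W (2 * j + 1)) L := by
      intro j hj
      have hWn1 := hn (2 * j)
      have hWn2 := hn (2 * j + 1)
      have hle1 : K ≤ W (2 * j) := by rw [← h0]; exact hmono _ _ (by omega)
      have hle2 : W (2 * j + 1) ≤ H := by rw [← he]; exact hmono _ _ (by omega)
      apply ih (fun i => q i.succ) (fun i => l i.succ) (fun i => hq i.succ) _ _ hWn1 hWn2 (hm _)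
      · intro x hx
        obtain ⟨n, hn0, hxn, hpr⟩ := hcov x (hle2 hx)
        obtain ⟨n', hn', hxn'⟩ := hs (2 * j) x hx
        have hn'c : n'.Coprime (q 0) := by
          have : stepSet (q 0) (2 * j) = EP (q 0) := by
            unfold stepSet; rw [if_pos (by simp)]
          rw [this] at hn'
          exact hn'
        refine ⟨Nat.gcd n n', ?_, pow_gcd_mem _ x n n' (hle1 hxn) hxn', ?_⟩
        · intro h
          exact hn0 (Nat.eq_zero_of_gcd_eq_zero_left h)
        · intro s hsp hsd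
          rcases hpr s hsp (hsd.trans (Nat.gcd_dvd_left n n')) with h | ⟨i, hi⟩
          · exact Or.inl h
          · right
            rcases Fin.eq_zero_or_eq_succ i with h0' | ⟨i', hi'⟩
            · exfalso
              rw [h0'] at hi
              have h1 : q 0 ∣ n' := by rw [hi]; exact hsd.trans (Nat.gcd_dvd_right n n')
              have h2 : (q 0).Coprime n' := Nat.Coprime.symm hn'c
              exact ((Nat.Prime.coprime_iff_not_dvd (hq 0).1).1 h2) h1
            · exact ⟨i', by rw [← hi, hi']⟩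
      · intro i
        exact chain_restrict (q i.succ) K H _ _ (l i.succ) (hch i.succ) hle1 (hm _) hle2
    have odd : ∀ j, Chain p (W (2 * j + 1)) (W (2 * j + 2)) 0 := by
      intro j
      apply chain_of_step p (q 0) hcop _ _ (hn _) (hn _) (hm _)
      have h1 := hs (2 * j + 1)
      have : stepSet (q 0) (2 * j + 1) = EQ (q 0) := by
        unfold stepSet; rw [if_neg (by simp)]
      rw [this] at h1
      exact h1
    have acc : ∀ j, j ≤ l 0 → Chain p K (W (2 * j + 1)) ((j + 1) * L) := by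
      intro j
      induction j with
      | zero =>
        intro _
        have := sec 0 (Nat.zero_le _)
        rw [Nat.mul_zero, h0] at this
        simpa using this
      | succ j ihj =>
        intro hj
        have c1 := chain_concat p _ _ _ _ _ (ihj (by omega)) (odd j)
        have c2 := chain_concat p _ _ _ _ _ c1 (sec (j + 1) hj)
        have e1 : 2 * (j + 1) + 1 = 2 * (j + 1) + 1 := rfl
        have e2 : (j + 1) * L + 0 + L = (j + 1 + 1) * L := by ring
        rw [e2] at c2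
        exact c2
    have fin := acc (l 0) le_rfl
    rw [he] at fin
    rw [Fin.prod_univ_succ]
    have e : (1 + l 0) * ∏ i : Fin r, (1 + l i.succ) = (l 0 + 1) * L := by rw [hL]; ring
    rw [e]
    exact fin

end core

/-- Let G be a finite solvable group and p a prime. Suppose p₁, …, p_r are distinct primes, all different from p, that include every prime dividing the order of G other than p, and that G has p_i-length at most l_i for each i. Then G has p-length at most the product of the numbers 1 + l_i. -/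
theorem result {G : Type*} [Group G] [Finite G] (hG : Group.IsSolvable G) (p : ℕ) [Fact p.Prime] (r : ℕ) (q : Fin r → ℕ) (hq : ∀ i, (q i).Prime ∧ q i ≠ p) (hinj : Function.Injective q) (hcover : ∀ s : ℕ, s.Prime → s ∣ Nat.card G → s ≠ p → ∃ i, q i = s) (l : Fin r → ℕ) (hl : ∀ i, Cfsg.PLengthLE (q i) (l i) G) : Cfsg.PLengthLE p (Finset.univ.prod fun i => 1 + l i) G := by
  have hp : p.Prime := Fact.out
  apply plength_of_chain p hp
  apply main p hp r q l hq ⊥ ⊤ inferInstance inferInstance bot_le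
  · intro x _
    refine ⟨orderOf x, (orderOf_pos x).ne', by rw [pow_orderOf_eq_one]; exact Subgroup.one_mem _, ?_⟩
    intro s hs hsd
    by_cases hsp : s = p
    · exact Or.inl hsp
    · exact Or.inr (hcover s hs (hsd.trans (orderOf_dvd_natCard x)) hsp)
  · intro i
    exact chain_of_plength (q i) (hq i).1 (l i) (hl i)

end Cfsg.Agent.S3790
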