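import Cfsg.Statements.S2325
import Cfsg.Agent.Lib.Helper46.Mat2c

set_option autoImplicit false
open Cfsg

namespace Cfsg.Agent.S2325

open Cfsg.Agent.Lib.Helper46 Matrix Polynomial

variable {F : Type*} [Field F]

open scoped Classical in
/-- A complete invariant of conjugacy classes of `SL₂` in odd characteristic. -/
noncomputable def inv (g : SpecialLinearGroup (Fin 2) F) : Bool ⊕ (F ⊕ Bool) :=
  if NonScalar (g : Matrix (Fin 2) (Fin 2) F) then
    if Rep (g : Matrix (Fin 2) (Fin 2) F) 1 then
      Sum.inr (Sum.inl (g : Matrix (Fin 2) (Fin 2) F).trace)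
    else Sum.inr (Sum.inr (decide ((g : Matrix (Fin 2) (Fin 2) F).trace = 2)))
  else Sum.inl (decide ((g : Matrix (Fin 2) (Fin 2) F) 0 0 = 1))

/-- A non-degenerate binary form over a finite field of odd order represents everything. -/
theorem exists_sq_add [Fintype F] (hodd : Fintype.card F % 2 = 1) (D e : F) (hD : D ≠ 0) :
    ∃ a b : F, a ^ 2 + D * b ^ 2 = e := by
  have hf : degree (X ^ 2 - C e : F[X]) = 2 := degree_X_pow_sub_C (by decide) _
  have hg : degree (C D * X ^ 2 : F[X]) = 2 := degree_C_mul_X_pow 2 hD
  obtain ⟨a, b, hab⟩ := FiniteField.exists_root_sum_quadratic hf hg hodd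
  refine ⟨a, b, ?_⟩
  simp only [eval_sub, eval_pow, eval_X, eval_C, eval_mul] at hab
  linear_combination hab

theorem rep_one_of_trace [Fintype F] (hodd : Fintype.card F % 2 = 1) (h2 : (2 : F) ≠ 0)
    (g : SpecialLinearGroup (Fin 2) F)
    (hg : NonScalar (g : Matrix (Fin 2) (Fin 2) F))
    (ht1 : (g : Matrix (Fin 2) (Fin 2) F).trace ≠ 2)
    (ht2 : (g : Matrix (Fin 2) (Fin 2) F).trace ≠ -2) : Rep (g : Matrix (Fin 2) (Fin 2) F) 1 := by
  obtain ⟨v0, v1, hv⟩ := exists_qf_ne_zero _ hg
  set e := qf (g : Matrix (Fin 2) (Fin 2) F) v0 v1 with he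
  set t := (g : Matrix (Fin 2) (Fin 2) F).trace with ht
  have hc := sl_isConj_slComp g e hv ⟨v0, v1, rfl⟩
  rw [rep_iff_of_isConj hc]
  have h4 : (4 : F) ≠ 0 := by
    have : (4 : F) = 2 * 2 := by norm_num
    rw [this]
    exact mul_ne_zero h2 h2
  have hD : 1 - t ^ 2 / 4 ≠ 0 := by
    intro h0
    have h1 : (t - 2) * (t + 2) = 0 := by
      field_simp at h0
      linear_combination -h0
    rcases mul_eq_zero.mp h1 with h | h
    · exact ht1 (sub_eq_zero.mp h)
    · exact ht2 (eq_neg_of_add_eq_zero_left h)
  obtain ⟨a, b, hab⟩ := exists_sq_add hodd (1 - t ^ 2 / 4) e hD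
  refine ⟨(a - t * b / 2) / e, b, ?_⟩
  rw [qf_slComp]
  field_simp
  field_simp at hab
  linear_combination hab

theorem not_rep_one_slComp (e : F) (he : e ≠ 0) (hns : ¬ IsSquare e) (t : F)
    (ht : t = 2 ∨ t = -2) :
    ¬ Rep ((slComp t e he : SpecialLinearGroup (Fin 2) F) : Matrix (Fin 2) (Fin 2) F) 1 := by
  rintro ⟨v0, v1, hv⟩
  rw [qf_slComp] at hv
  apply hns
  rcases ht with rfl | rfl
  · refine ⟨e * v0 + v1, ?_⟩
    have h3 : e * (e * v0 ^ 2 + 2 * v0 * v1 + e⁻¹ * v1 ^ 2) = e := by rw [hv, mul_one]
    have h4 : e * e⁻¹ = 1 := mul_inv_cancel₀ he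
    linear_combination -h3 + v1 ^ 2 * h4
  · refine ⟨e * v0 - v1, ?_⟩
    have h3 : e * (e * v0 ^ 2 + -2 * v0 * v1 + e⁻¹ * v1 ^ 2) = e := by rw [hv, mul_one]
    have h4 : e * e⁻¹ = 1 := mul_inv_cancel₀ he
    linear_combination -h3 + v1 ^ 2 * h4

theorem inv_eq_iff [Fintype F] (hodd : Fintype.card F % 2 = 1) (h2 : (2 : F) ≠ 0)
    (g h : SpecialLinearGroup (Fin 2) F) :
    inv g = inv h ↔ IsConj g h := by
  have hpm : ∀ a : F, a ^ 2 = 1 → a = 1 ∨ a = -1 := by
    intro a ha
    have : (a - 1) * (a + 1) = 0 := by linear_combination ha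
    rcases mul_eq_zero.mp this with h | h
    · exact Or.inl (sub_eq_zero.mp h)
    · exact Or.inr (eq_neg_of_add_eq_zero_left h)
  constructor
  · intro hi
    unfold inv at hi
    by_cases hg : NonScalar (g : Matrix (Fin 2) (Fin 2) F)
    · by_cases hh : NonScalar (h : Matrix (Fin 2) (Fin 2) F)
      · rw [if_pos hg, if_pos hh] at hi
        by_cases hrg : Rep (g : Matrix (Fin 2) (Fin 2) F) 1
        · by_cases hrh : Rep (h : Matrix (Fin 2) (Fin 2) F) 1
          · rw [if_pos hrg, if_pos hrh] at hi
            exact sl_isConj_of_rep_one g h (Sum.inl.inj (Sum.inr.inj hi)) hrg hrh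
          · rw [if_pos hrg, if_neg hrh] at hi
            exact absurd hi (by simp)
        · by_cases hrh : Rep (h : Matrix (Fin 2) (Fin 2) F) 1
          · rw [if_neg hrg, if_pos hrh] at hi
            exact absurd hi (by simp)
          · rw [if_neg hrg, if_neg hrh] at hi
            have hb := Sum.inr.inj (Sum.inr.inj hi)
            have htg : (g : Matrix (Fin 2) (Fin 2) F).trace = 2 ∨
                (g : Matrix (Fin 2) (Fin 2) F).trace = -2 := by
              by_contra hc
              push Not at hc
              exact hrg (rep_one_of_trace hodd h2 g hg hc.1 hc.2)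
            have hth : (h : Matrix (Fin 2) (Fin 2) F).trace = 2 ∨
                (h : Matrix (Fin 2) (Fin 2) F).trace = -2 := by
              by_contra hc
              push Not at hc
              exact hrh (rep_one_of_trace hodd h2 h hh hc.1 hc.2)
            have hne : (2 : F) ≠ -2 := by
              intro h'
              apply h2
              have : (2 : F) * 2 = 0 := by linear_combination h'
              exact (mul_self_eq_zero.mp this)
            have ht : (g : Matrix (Fin 2) (Fin 2) F).trace = (h : Matrix (Fin 2) (Fin 2) F).trace := by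
              rcases htg with h1 | h1 <;> rcases hth with h3 | h3
              · rw [h1, h3]
              · rw [h1, h3] at hb
                simp [hne.symm] at hb
              · rw [h1, h3] at hb
                simp [hne.symm] at hb
              · rw [h1, h3]
            obtain ⟨v0, v1, hv⟩ := exists_qf_ne_zero _ hg
            obtain ⟨w0, w1, hw⟩ := exists_qf_ne_zero _ hh
            set e := qf (g : Matrix (Fin 2) (Fin 2) F) v0 v1 with he
            set e' := qf (h : Matrix (Fin 2) (Fin 2) F) w0 w1 with he'
            have hre : Rep (g : Matrix (Fin 2) (Fin 2) F) e := ⟨v0, v1, rfl⟩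
            have hre' : Rep (h : Matrix (Fin 2) (Fin 2) F) e' := ⟨w0, w1, rfl⟩
            have hns : ¬ IsSquare e := fun hs => hrg (rep_one_of_isSquare g e hv hre hs)
            have hns' : ¬ IsSquare e' := fun hs => hrh (rep_one_of_isSquare h e' hw hre' hs)
            obtain ⟨r, hr⟩ := isSquare_mul_of_not_isSquare hns hns'
            have hre2 : Rep (g : Matrix (Fin 2) (Fin 2) F) e' := by
              have := rep_mul_sq hre (r / e)
              have e1 : (r / e) ^ 2 * e = e' := by
                field_simp
                linear_combination -hr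
              rwa [e1] at this
            exact sl_isConj_of_rep g h e' hw ht hre2 hre'
      · rw [if_pos hg, if_neg hh] at hi
        split_ifs at hi
    · by_cases hh : NonScalar (h : Matrix (Fin 2) (Fin 2) F)
      · rw [if_neg hg, if_pos hh] at hi
        split_ifs at hi
      · rw [if_neg hg, if_neg hh] at hi
        have hb := Sum.inl.inj hi
        have hg1 := hpm _ (sl_scalar g hg).2
        have hh1 := hpm _ (sl_scalar h hh).2
        have hne : (1 : F) ≠ -1 := by
          intro h'
          apply h2
          linear_combination h'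
        have h00 : (g : Matrix (Fin 2) (Fin 2) F) 0 0 = (h : Matrix (Fin 2) (Fin 2) F) 0 0 := by
          rcases hg1 with h1 | h1 <;> rcases hh1 with h3 | h3
          · rw [h1, h3]
          · rw [h1, h3] at hb
            simp [hne.symm] at hb
          · rw [h1, h3] at hb
            simp [hne.symm] at hb
          · rw [h1, h3]
        rw [sl_eq_of_scalar g h hg hh h00]
  · intro hc
    unfold inv
    by_cases hg : NonScalar (g : Matrix (Fin 2) (Fin 2) F)
    · rw [if_pos hg, if_pos ((sl_nonScalar_iff_of_isConj hc).mp hg), sl_trace_of_isConj hc]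
      by_cases hr : Rep (g : Matrix (Fin 2) (Fin 2) F) 1
      · rw [if_pos hr, if_pos ((rep_iff_of_isConj hc 1).mp hr)]
      · rw [if_neg hr, if_neg (fun h => hr ((rep_iff_of_isConj hc 1).mpr h))]
    · obtain ⟨x, rfl⟩ := isConj_iff.mp hc
      rw [sl_conj_of_scalar x g hg]

theorem inv_surjective [Fintype F] (hodd : Fintype.card F % 2 = 1) (h2 : (2 : F) ≠ 0) :
    Function.Surjective (inv : SpecialLinearGroup (Fin 2) F → Bool ⊕ (F ⊕ Bool)) := by
  have hchar : ringChar F ≠ 2 := by
    intro h
    have := (FiniteField.even_card_iff_char_two).mp h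
    omega
  obtain ⟨η, hη⟩ := FiniteField.exists_nonsquare hchar
  have hη0 : η ≠ 0 := fun h => hη (h ▸ IsSquare.zero)
  have hne : (2 : F) ≠ -2 := by
    intro h'
    apply h2
    have : (2 : F) * 2 = 0 := by linear_combination h'
    exact (mul_self_eq_zero.mp this)
  rintro (b | t | b)
  · cases b
    · have hd : ((-1 : Matrix (Fin 2) (Fin 2) F)).det = 1 := by
        simp [Matrix.det_fin_two]
      have hns : ¬ NonScalar (-1 : Matrix (Fin 2) (Fin 2) F) := by
        rw [not_nonScalar_iff]
        ext i j
        fin_cases i <;> fin_cases j <;> simp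
      refine ⟨⟨-1, hd⟩, ?_⟩
      unfold inv
      rw [if_neg hns]
      have : ((-1 : Matrix (Fin 2) (Fin 2) F) 0 0 = 1) = False := by
        simp only [Matrix.neg_apply, Matrix.one_apply_eq, eq_iff_iff, iff_false]
        intro h'
        apply h2
        linear_combination -h'
      simp only [this, decide_false]
    · refine ⟨1, ?_⟩
      unfold inv
      rw [if_neg sl_one_scalar]
      simp
  · refine ⟨slComp t 1 one_ne_zero, ?_⟩
    unfold inv
    rw [if_pos (nonScalar_slComp t 1 one_ne_zero), if_pos (rep_slComp t 1 one_ne_zero),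
      trace_slComp]
  · cases b
    · refine ⟨slComp (-2) η hη0, ?_⟩
      unfold inv
      rw [if_pos (nonScalar_slComp _ η hη0),
        if_neg (not_rep_one_slComp η hη0 hη (-2) (Or.inr rfl)), trace_slComp]
      simp [hne.symm]
    · refine ⟨slComp 2 η hη0, ?_⟩
      unfold inv
      rw [if_pos (nonScalar_slComp _ η hη0),
        if_neg (not_rep_one_slComp η hη0 hη 2 (Or.inl rfl)), trace_slComp]
      simp

/-- Over a finite field with q elements, q odd, the special linear group SL₂ has exactly q + 4 conjugacy classes. -/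
theorem result {F : Type*} [Field F] [Fintype F] (hodd : Odd (Fintype.card F)) :
    Nat.card (ConjClasses (Matrix.SpecialLinearGroup (Fin 2) F)) = Fintype.card F + 4 := by
  have hodd' : Fintype.card F % 2 = 1 := Nat.odd_iff.mp hodd
  have hchar : ringChar F ≠ 2 := by
    intro h
    have := (FiniteField.even_card_iff_char_two).mp h
    omega
  have h2 : (2 : F) ≠ 0 := Ring.two_ne_zero hchar
  rw [card_conjClasses_eq inv (inv_eq_iff hodd' h2) (inv_surjective hodd' h2), Nat.card_sum,
    Nat.card_sum, Nat.card_eq_fintype_card, Nat.card_eq_fintype_card, Fintype.card_bool]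
  omega

end Cfsg.Agent.S2325
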