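import Cfsg.Statements.S2331
import Cfsg.Agent.Lib.Helper46.Mat2c

set_option autoImplicit false
open Cfsg

namespace Cfsg.Agent.S2331

open Cfsg.Agent.Lib.Helper46 Matrix

variable {F : Type*} [Field F]

open scoped Classical in
/-- A complete invariant of conjugacy classes of `SL₂` in characteristic 2. -/
noncomputable def inv (g : SpecialLinearGroup (Fin 2) F) : Option F :=
  if NonScalar (g : Matrix (Fin 2) (Fin 2) F) then some (g : Matrix (Fin 2) (Fin 2) F).trace
  else none

theorem inv_eq_iff [Fintype F] [CharP F 2] (g h : SpecialLinearGroup (Fin 2) F) :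
    inv g = inv h ↔ IsConj g h := by
  have hsq : ∀ a : F, IsSquare a := FiniteField.isSquare_of_char_two (ringChar.eq F 2)
  have hone : ∀ a : F, a ^ 2 = 1 → a = 1 := by
    have : Fact (Nat.Prime 2) := ⟨Nat.prime_two⟩
    intro a ha
    have : (a - 1) ^ 2 = 0 := by rw [sub_pow_char a 1, ha, one_pow, sub_self]
    exact sub_eq_zero.mp (pow_eq_zero_iff (two_ne_zero) |>.mp this)
  constructor
  · intro hi
    unfold inv at hi
    by_cases hg : NonScalar (g : Matrix (Fin 2) (Fin 2) F)
    · by_cases hh : NonScalar (h : Matrix (Fin 2) (Fin 2) F)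
      · rw [if_pos hg, if_pos hh] at hi
        have ht := Option.some.inj hi
        obtain ⟨v0, v1, hv⟩ := exists_qf_ne_zero _ hg
        obtain ⟨w0, w1, hw⟩ := exists_qf_ne_zero _ hh
        exact sl_isConj_of_rep_one g h ht
          (rep_one_of_isSquare g _ hv ⟨v0, v1, rfl⟩ (hsq _))
          (rep_one_of_isSquare h _ hw ⟨w0, w1, rfl⟩ (hsq _))
      · rw [if_pos hg, if_neg hh] at hi
        exact absurd hi (by simp)
    · by_cases hh : NonScalar (h : Matrix (Fin 2) (Fin 2) F)
      · rw [if_neg hg, if_pos hh] at hi
        exact absurd hi (by simp)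
      · have : g = h := sl_eq_of_scalar g h hg hh
          ((hone _ (sl_scalar g hg).2).trans (hone _ (sl_scalar h hh).2).symm)
        rw [this]
  · intro hc
    unfold inv
    by_cases hg : NonScalar (g : Matrix (Fin 2) (Fin 2) F)
    · rw [if_pos hg, if_pos ((sl_nonScalar_iff_of_isConj hc).mp hg), sl_trace_of_isConj hc]
    · rw [if_neg hg, if_neg (fun h => hg ((sl_nonScalar_iff_of_isConj hc).mpr h))]

theorem inv_surjective :
    Function.Surjective (inv : SpecialLinearGroup (Fin 2) F → Option F) := by
  rintro (_ | t)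
  · refine ⟨1, ?_⟩
    unfold inv
    rw [if_neg sl_one_scalar]
  · refine ⟨slComp t 1 one_ne_zero, ?_⟩
    unfold inv
    rw [if_pos (nonScalar_slComp t 1 one_ne_zero), trace_slComp]

/-- Over a finite field with q elements, q even, the special linear group SL₂ has exactly q + 1 conjugacy classes. -/
theorem result {F : Type*} [Field F] [Fintype F] [CharP F 2] :
    Nat.card (ConjClasses (Matrix.SpecialLinearGroup (Fin 2) F)) = Fintype.card F + 1 := by
  rw [card_conjClasses_eq inv inv_eq_iff inv_surjective, Nat.card_eq_fintype_card,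
    Fintype.card_option]

end Cfsg.Agent.S2331
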