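import Cfsg.Statements.S0268
import Mathlib

set_option autoImplicit false
open Cfsg

namespace Cfsg.Agent.S0268

/-- For q odd, -1 is the unique involution of SL_2(q). -/
theorem result {F : Type*} [Field F] [Fintype F] (hF : Odd (Fintype.card F)) (g : Matrix.SpecialLinearGroup (Fin 2) F) (h1 : g ≠ 1) (h2 : g * g = 1) : (g : Matrix (Fin 2) (Fin 2) F) = -1 := by
  have hchar : ringChar F ≠ 2 := by
    intro h
    have := FiniteField.even_card_of_char_two h
    rcases hF with ⟨k, hk⟩
    omega
  have h2ne : (2 : F) ≠ 0 := Ring.two_ne_zero hchar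
  have hdet : (g : Matrix (Fin 2) (Fin 2) F).det = 1 := g.2
  have hmul : (g : Matrix (Fin 2) (Fin 2) F) * (g : Matrix (Fin 2) (Fin 2) F) = 1 := by
    have := congrArg (fun x : Matrix.SpecialLinearGroup (Fin 2) F => (x : Matrix (Fin 2) (Fin 2) F)) h2
    simpa using this
  set M : Matrix (Fin 2) (Fin 2) F := (g : Matrix (Fin 2) (Fin 2) F) with hM
  rw [Matrix.det_fin_two] at hdet
  have e00 := congrFun (congrFun hmul 0) 0
  have e01 := congrFun (congrFun hmul 0) 1
  have e10 := congrFun (congrFun hmul 1) 0
  have e11 := congrFun (congrFun hmul 1) 1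
  simp only [Matrix.mul_apply, Fin.sum_univ_two, Matrix.one_apply_eq, Matrix.one_apply_ne, ne_eq,
    Fin.isValue, zero_ne_one, one_ne_zero, not_false_eq_true] at e00 e01 e10 e11
  have hb : M 0 1 * (M 0 0 + M 1 1) = 0 := by linear_combination e01
  have hc : M 1 0 * (M 0 0 + M 1 1) = 0 := by linear_combination e10
  by_cases hs : M 0 0 + M 1 1 = 0
  · exfalso
    have hd : M 1 1 = - M 0 0 := by linear_combination hs
    rw [hd] at hdet
    have : (2 : F) = 0 := by linear_combination -e00 - hdet
    exact h2ne this
  · have hb0 : M 0 1 = 0 := by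
      rcases mul_eq_zero.mp hb with h | h
      · exact h
      · exact absurd h hs
    have hc0 : M 1 0 = 0 := by
      rcases mul_eq_zero.mp hc with h | h
      · exact h
      · exact absurd h hs
    rw [hb0, hc0] at hdet e00 e11
    simp only [mul_zero, sub_zero, add_zero, zero_add] at hdet e00 e11
    have ha : (M 0 0 - 1) * (M 0 0 + 1) = 0 := by linear_combination e00
    have had : M 0 0 = M 1 1 := by
      have : M 0 0 * (M 0 0 * M 1 1) = M 0 0 * M 0 0 * M 1 1 := by ring
      rw [hdet, e00] at this
      simpa using this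
    rcases mul_eq_zero.mp ha with h | h
    · exfalso
      apply h1
      apply Subtype.ext
      have h00 : M 0 0 = 1 := by linear_combination h
      have h11 : M 1 1 = 1 := by rw [← had]; exact h00
      ext i j
      fin_cases i <;> fin_cases j <;> simp [← hM, h00, h11, hb0, hc0]
    · have h00 : M 0 0 = -1 := by linear_combination h
      have h11 : M 1 1 = -1 := by rw [← had]; exact h00
      ext i j
      fin_cases i <;> fin_cases j <;> simp [h00, h11, hb0, hc0]

end Cfsg.Agent.S0268
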