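import Cfsg.Statements.S0276
import Mathlib
import Cfsg.Agent.Lib.Helper7.SL2Sylow
import Cfsg.Agent.S0268

set_option autoImplicit false
open Cfsg

namespace Cfsg.Agent.S0276

open Cfsg.Agent.Lib.Helper7 Matrix

variable {F : Type*} [Field F]

/-- if `x^4 = -1` in `SL₂(F)` then `2` is a square in `F` -/
lemma isSquare_two_of_pow_four (x : SpecialLinearGroup (Fin 2) F)
    (h : ((x ^ 4 : SpecialLinearGroup (Fin 2) F) : Matrix (Fin 2) (Fin 2) F) = -1) :
    IsSquare (2 : F) := by
  have hdet := sl2_det x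
  have h4 : ((x ^ 4 : SpecialLinearGroup (Fin 2) F) : Matrix (Fin 2) (Fin 2) F) =
      (x : Matrix (Fin 2) (Fin 2) F) * (x : Matrix (Fin 2) (Fin 2) F) *
        (x : Matrix (Fin 2) (Fin 2) F) * (x : Matrix (Fin 2) (Fin 2) F) := by
    rw [pow_succ, pow_succ, pow_succ, pow_one]; rfl
  rw [h4] at h
  have h00 := congrFun (congrFun h 0) 0
  have h11 := congrFun (congrFun h 1) 1
  simp only [Matrix.mul_apply, Fin.sum_univ_two, Matrix.neg_apply, Matrix.one_apply_eq] at h00 h11
  set a := (x : Matrix (Fin 2) (Fin 2) F) 0 0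
  set b := (x : Matrix (Fin 2) (Fin 2) F) 0 1
  set c := (x : Matrix (Fin 2) (Fin 2) F) 1 0
  set d := (x : Matrix (Fin 2) (Fin 2) F) 1 1
  have key : ((a + d) ^ 2 - 2) ^ 2 = 0 := by
    linear_combination h00 + h11 + (4 * (a + d) ^ 2 - 2 * (a * d - b * c + 1)) * hdet
  have h2 : (a + d) ^ 2 = 2 := by
    have := pow_eq_zero_iff (two_ne_zero) |>.mp key
    linear_combination this
  exact ⟨a + d, by rw [← h2]; ring⟩

lemma center_mul_self (z : SpecialLinearGroup (Fin 2) F)
    (hz : z ∈ Subgroup.center (SpecialLinearGroup (Fin 2) F)) : z * z = 1 := by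
  obtain ⟨r, hr, hrz⟩ := Matrix.SpecialLinearGroup.mem_center_iff.mp hz
  simp only [Fintype.card_fin] at hr
  apply Subtype.ext
  show (z : Matrix (Fin 2) (Fin 2) F) * (z : Matrix (Fin 2) (Fin 2) F) = 1
  rw [← hrz, ← map_mul, ← pow_two, hr, map_one]

lemma neg_one_mem_center (z : SpecialLinearGroup (Fin 2) F)
    (hz : (z : Matrix (Fin 2) (Fin 2) F) = -1) :
    z ∈ Subgroup.center (SpecialLinearGroup (Fin 2) F) := by
  rw [Matrix.SpecialLinearGroup.mem_center_iff]
  refine ⟨-1, by simp, ?_⟩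
  rw [hz]
  ext i j
  fin_cases i <;> fin_cases j <;> simp

/-- the element `-1` of `SL₂` -/
def negOne : SpecialLinearGroup (Fin 2) F := ⟨-1, by simp [Matrix.det_neg]⟩

lemma card_center [Fintype F] (hF : Odd (Fintype.card F)) :
    Nat.card (Subgroup.center (SpecialLinearGroup (Fin 2) F)) = 2 := by
  have hchar : ringChar F ≠ 2 := by
    intro h
    have := FiniteField.even_card_of_char_two h
    rcases hF with ⟨k, hk⟩
    omega
  have h2 : (2 : F) ≠ 0 := Ring.two_ne_zero hchar
  rw [Nat.card_eq_two_iff]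
  refine ⟨⟨1, Subgroup.one_mem _⟩, ⟨negOne, neg_one_mem_center _ rfl⟩, ?_, ?_⟩
  · intro h
    have h' := congrArg (fun z : Subgroup.center (SpecialLinearGroup (Fin 2) F) =>
      ((z : SpecialLinearGroup (Fin 2) F) : Matrix (Fin 2) (Fin 2) F) 0 0) h
    simp [negOne] at h'
    have : (2 : F) = 0 := by linear_combination h'
    exact h2 this
  · ext ⟨z, hz⟩
    simp only [Set.mem_insert_iff, Set.mem_singleton_iff, Set.mem_univ, iff_true]
    obtain ⟨r, hr, hrz⟩ := Matrix.SpecialLinearGroup.mem_center_iff.mp hz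
    simp only [Fintype.card_fin] at hr
    have hr' : (r - 1) * (r + 1) = 0 := by linear_combination hr
    rcases mul_eq_zero.mp hr' with h | h
    · left
      apply Subtype.ext
      apply Subtype.ext
      show (z : Matrix (Fin 2) (Fin 2) F) = 1
      rw [← hrz, sub_eq_zero.mp h, map_one]
    · right
      apply Subtype.ext
      apply Subtype.ext
      show (z : Matrix (Fin 2) (Fin 2) F) = -1
      rw [← hrz, eq_neg_of_add_eq_zero_left h]
      ext i j
      fin_cases i <;> fin_cases j <;> simp [negOne]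

/-- For q = 3 or 5 mod 8 the Sylow 2-subgroups of PSL_2(q) are elementary abelian of order 4. -/
theorem result {F : Type*} [Field F] [Fintype F] {q : ℕ} (hF : Fintype.card F = q) (hq : q % 8 = 3 ∨ q % 8 = 5) (P : Sylow 2 (Matrix.ProjectiveSpecialLinearGroup (Fin 2) F)) : IsKleinFour (P : Subgroup (Matrix.ProjectiveSpecialLinearGroup (Fin 2) F)) := by
  classical
  subst hF
  have hodd : Odd (Fintype.card F) := by
    rw [Nat.odd_iff]; omega
  have hns : ¬ IsSquare (2 : F) := by
    rw [FiniteField.isSquare_two_iff]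
    omega
  -- order of PSL
  have hcard : Nat.card (SpecialLinearGroup (Fin 2) F) =
      Nat.card (Matrix.ProjectiveSpecialLinearGroup (Fin 2) F) * 2 := by
    have := Subgroup.card_eq_card_quotient_mul_card_subgroup (Subgroup.center (Matrix.SpecialLinearGroup (Fin 2) F))
    rw [card_center hodd] at this
    exact this
  rw [card_SL2] at hcard
  have hfour : ∃ o : ℕ, Odd o ∧
      Nat.card (Matrix.ProjectiveSpecialLinearGroup (Fin 2) F) = 2 ^ 2 * o := by
    rcases hq with h | h
    · obtain ⟨c, hc⟩ : ∃ c, Fintype.card F = 8 * c + 3 := ⟨Fintype.card F / 8, by omega⟩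
      rw [hc] at hcard
      refine ⟨(4 * c + 1) * (8 * c + 3) * (2 * c + 1), ?_, ?_⟩
      · exact (Odd.mul (Odd.mul ⟨2 * c, by ring⟩ ⟨4 * c + 1, by ring⟩) ⟨c, by ring⟩)
      · have e : (8 * c + 3 - 1) * (8 * c + 3) * (8 * c + 3 + 1) =
            (2 ^ 2 * ((4 * c + 1) * (8 * c + 3) * (2 * c + 1))) * 2 := by
          simp only [Nat.add_sub_cancel, show 8 * c + 3 - 1 = 8 * c + 2 by omega]
          ring
        rw [e] at hcard
        exact (Nat.eq_of_mul_eq_mul_right (by norm_num) hcard).symm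
    · obtain ⟨c, hc⟩ : ∃ c, Fintype.card F = 8 * c + 5 := ⟨Fintype.card F / 8, by omega⟩
      rw [hc] at hcard
      refine ⟨(2 * c + 1) * (8 * c + 5) * (4 * c + 3), ?_, ?_⟩
      · exact (Odd.mul (Odd.mul ⟨c, by ring⟩ ⟨4 * c + 2, by ring⟩) ⟨2 * c + 1, by ring⟩)
      · have e : (8 * c + 5 - 1) * (8 * c + 5) * (8 * c + 5 + 1) =
            (2 ^ 2 * ((2 * c + 1) * (8 * c + 5) * (4 * c + 3))) * 2 := by
          simp only [show 8 * c + 5 - 1 = 8 * c + 4 by omega]
          ring
        rw [e] at hcard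
        exact (Nat.eq_of_mul_eq_mul_right (by norm_num) hcard).symm
  obtain ⟨o, ho, hPSL⟩ := hfour
  have hPcard : Nat.card P = 4 := by
    rw [P.card_eq_multiplicity, hPSL]
    have ho0 : o ≠ 0 := by rintro rfl; simp at ho
    have h2o : ¬ 2 ∣ o := by
      rw [← even_iff_two_dvd, Nat.not_even_iff_odd]; exact ho
    rw [Nat.factorization_mul (by norm_num) ho0, Finsupp.add_apply,
      Nat.Prime.factorization_pow Nat.prime_two, Nat.factorization_eq_zero_of_not_dvd h2o]
    simp
  -- every element of P squares to one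
  have hsq : ∀ g : P, g ^ 2 = 1 := by
    intro g
    have hg4 : g ^ 4 = 1 := by rw [← hPcard]; exact pow_card_eq_one'
    obtain ⟨x, hx⟩ := QuotientGroup.mk_surjective (g : Matrix.ProjectiveSpecialLinearGroup (Fin 2) F)
    have hx4 : x ^ 4 ∈ Subgroup.center (SpecialLinearGroup (Fin 2) F) := by
      rw [← QuotientGroup.eq_one_iff, QuotientGroup.mk_pow, hx]
      have := congrArg (Subtype.val) hg4
      simpa using this
    have hx8 : x ^ 4 * x ^ 4 = 1 := center_mul_self _ hx4
    have hx41 : x ^ 4 = 1 := by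
      by_contra hne
      have := Cfsg.Agent.S0268.result hodd _ hne hx8
      exact hns (isSquare_two_of_pow_four x this)
    have hx2 : x ^ 2 ∈ Subgroup.center (SpecialLinearGroup (Fin 2) F) := by
      by_cases h1 : x ^ 2 = 1
      · rw [h1]; exact Subgroup.one_mem _
      · have h22 : x ^ 2 * x ^ 2 = 1 := by rw [← pow_add]; exact hx41
        exact neg_one_mem_center _ (Cfsg.Agent.S0268.result hodd _ h1 h22)
    apply Subtype.ext
    rw [Subgroup.coe_pow, ← hx, ← QuotientGroup.mk_pow]
    exact (QuotientGroup.eq_one_iff _).mpr hx2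
  refine ⟨hPcard, ?_⟩
  have hdvd : Monoid.exponent P ∣ 2 := Monoid.exponent_dvd_of_forall_pow_eq_one hsq
  have hne1 : Monoid.exponent P ≠ 1 := by
    intro h1
    have : Subsingleton P := Monoid.exp_eq_one_iff.mp h1
    have := Nat.card_eq_one_iff_unique.mpr ⟨this, ⟨1⟩⟩
    omega
  rcases (Nat.dvd_prime Nat.prime_two).mp hdvd with h | h
  · exact absurd h hne1
  · exact h

end Cfsg.Agent.S0276
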