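import Cfsg.Statements.S0808
import Mathlib
import Cfsg.Agent.S0807
import Cfsg.Agent.S0243

set_option autoImplicit false
open Cfsg

namespace Cfsg.Agent.S0808

open Cfsg.Agent.S0809 Cfsg.Agent.S0807

section abstract

variable {G : Type*} [Group G]

abbrev cj (x : G) (V : Subgroup G) : Subgroup G := V.map (MulAut.conj x).toMonoidHom

theorem mem_cj (x : G) (V : Subgroup G) (y : G) : y ∈ cj x V ↔ x⁻¹ * y * x ∈ V := by
  constructor
  · rintro ⟨v, hv, rfl⟩
    have : x⁻¹ * ((MulAut.conj x).toMonoidHom v) * x = v := by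
      simp [MulAut.conj_apply, mul_assoc]
    rw [this]; exact hv
  · intro h
    exact ⟨x⁻¹ * y * x, h, by simp [MulAut.conj_apply, mul_assoc]⟩

theorem cj_mul (x y : G) (V : Subgroup G) : cj (x * y) V = cj x (cj y V) := by
  ext z
  simp only [mem_cj]
  rw [mul_inv_rev]
  simp only [mul_assoc]

theorem cj_one (V : Subgroup G) : cj 1 V = V := by
  ext z; simp [mem_cj]

theorem cj_klein (x : G) (V : Subgroup G) (hV : IsKleinFour V) : IsKleinFour (cj x V) := by
  have e : V ≃* cj x V := V.equivMapOfInjective _ (MulAut.conj x).injective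
  exact ⟨by rw [← Nat.card_congr e.toEquiv]; exact hV.card_four,
    by rw [← Monoid.exponent_eq_of_mulEquiv e]; exact hV.exponent_two⟩

theorem cj_eq_iff (x : G) (V : Subgroup G) :
    cj x V = V ↔ x ∈ Subgroup.normalizer (V : Set G) := by
  rw [Subgroup.mem_normalizer_iff'']
  constructor
  · intro h y
    rw [← mem_cj, h]
  · intro h
    ext y
    rw [mem_cj, ← h]

theorem orbit_card [Fintype G] [DecidableEq (Subgroup G)] (V : Subgroup G) :
    (Finset.univ.image (fun x : G => cj x V)).card *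
      Nat.card (Subgroup.normalizer (V : Set G)) = Fintype.card G := by
  classical
  rw [← Finset.card_univ (α := G)]
  rw [Finset.card_eq_sum_card_fiberwise (f := fun x : G => cj x V)
    (t := Finset.univ.image (fun x : G => cj x V))
    (fun x _ => Finset.mem_coe.2 (Finset.mem_image_of_mem _ (Finset.mem_univ x)))]
  rw [Finset.sum_congr rfl (g := fun _ => Nat.card (Subgroup.normalizer (V : Set G)))]
  · rw [Finset.sum_const, smul_eq_mul]
  · intro W hW
    obtain ⟨x₀, -, rfl⟩ := Finset.mem_image.1 hW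
    rw [Nat.card_eq_fintype_card, Fintype.card_subtype]
    apply Finset.card_nbij' (fun x => x₀⁻¹ * x) (fun y => x₀ * y)
    · intro x hx
      simp only [Finset.coe_filter, Finset.mem_univ, true_and, Set.mem_ofPred_eq] at hx ⊢
      rw [← cj_eq_iff, cj_mul, hx, ← cj_mul, inv_mul_cancel, cj_one]
    · intro y hy
      simp only [Finset.coe_filter, Finset.mem_univ, true_and, Set.mem_ofPred_eq] at hy ⊢
      rw [cj_mul, (cj_eq_iff y V).2 hy]
    · intro x _
      simp
    · intro y _
      simp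

theorem one_class [Finite G] (h8 : ¬ 8 ∣ Nat.card G) (V W : Subgroup G) (hV : IsKleinFour V)
    (hW : IsKleinFour W) : ∃ g : G, W = V.map (MulAut.conj g).toMonoidHom := by
  haveI : Fact (Nat.Prime 2) := ⟨Nat.prime_two⟩
  have key : ∀ U : Subgroup G, IsKleinFour U → ∃ P : Sylow 2 G, (P : Subgroup G) = U := by
    intro U hU
    obtain ⟨P, hP⟩ := (IsPGroup.of_card (p := 2) (n := 2) hU.card_four).exists_le_sylow
    refine ⟨P, ?_⟩
    symm
    apply Subgroup.eq_of_le_of_card_ge hP
    obtain ⟨n, hn⟩ := IsPGroup.iff_card.1 P.isPGroup'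
    have hdvd : Nat.card P ∣ Nat.card G := Subgroup.card_subgroup_dvd_card _
    rw [hU.card_four]
    change Nat.card P ≤ 4
    rw [hn] at hdvd ⊢
    by_contra hlt
    push Not at hlt
    have h3 : 3 ≤ n := by
      by_contra h3
      push Not at h3
      have : 2 ^ n ≤ 2 ^ 2 := Nat.pow_le_pow_right (by norm_num) (by omega)
      omega
    apply h8
    exact dvd_trans (pow_dvd_pow 2 h3) hdvd
  obtain ⟨P, hP⟩ := key V hV
  obtain ⟨Q, hQ⟩ := key W hW
  obtain ⟨g, hg⟩ := MulAction.exists_smul_eq G P Q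
  refine ⟨g, ?_⟩
  rw [← hP, ← hQ, ← hg]
  rfl

theorem two_classes [Finite G]
    (h12 : 12 * Nat.card {V : Subgroup G // IsKleinFour V} = Nat.card G)
    (h8 : 8 ∣ Nat.card G)
    (h24 : ∀ V : Subgroup G, IsKleinFour V → Nat.card (Subgroup.normalizer (V : Set G)) ≤ 24) :
    ∃ V₁ V₂ : Subgroup G, IsKleinFour V₁ ∧ IsKleinFour V₂ ∧
      (¬ ∃ g : G, V₂ = V₁.map (MulAut.conj g).toMonoidHom) ∧
      ∀ W : Subgroup G, IsKleinFour W → (∃ g : G, W = V₁.map (MulAut.conj g).toMonoidHom) ∨
        (∃ g : G, W = V₂.map (MulAut.conj g).toMonoidHom) := by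
  classical
  haveI : Fintype G := Fintype.ofFinite G
  haveI : Fintype (Subgroup G) := Fintype.ofFinite _
  haveI : Fact (Nat.Prime 2) := ⟨Nat.prime_two⟩
  set K := Finset.univ.filter (fun V : Subgroup G => IsKleinFour V) with hK
  have hKmem : ∀ V, V ∈ K ↔ IsKleinFour V := by
    intro V
    simp [hK]
  set k := K.card with hk
  have hkN : 12 * k = Nat.card G := by
    rw [← h12, Nat.card_eq_fintype_card, Fintype.card_subtype]
  have hNpos : 0 < Nat.card G := Nat.card_pos
  have hkpos : 0 < k := by omega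
  let O : Subgroup G → Finset (Subgroup G) := fun V => Finset.univ.image (fun x : G => cj x V)
  have hOmem : ∀ V W, W ∈ O V ↔ ∃ g : G, W = cj g V := by
    intro V W
    simp only [O, Finset.mem_image, Finset.mem_univ, true_and]
    constructor
    · rintro ⟨g, rfl⟩; exact ⟨g, rfl⟩
    · rintro ⟨g, rfl⟩; exact ⟨g, rfl⟩
  have hOsub : ∀ V ∈ K, O V ⊆ K := by
    intro V hV W hW
    obtain ⟨g, rfl⟩ := (hOmem V W).1 hW
    rw [hKmem] at hV ⊢
    exact cj_klein g V hV
  have hOcard : ∀ V, (O V).card * Nat.card (Subgroup.normalizer (V : Set G)) = Nat.card G := by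
    intro V
    rw [Nat.card_eq_fintype_card (α := G)]
    exact orbit_card V
  have hdisj : ∀ V V', V' ∉ O V → Disjoint (O V) (O V') := by
    intro V V' hV'
    rw [Finset.disjoint_left]
    intro W hW hW'
    apply hV'
    obtain ⟨x, rfl⟩ := (hOmem V W).1 hW
    obtain ⟨y, hy⟩ := (hOmem V' _).1 hW'
    rw [hOmem]
    refine ⟨y⁻¹ * x, ?_⟩
    rw [cj_mul, hy, ← cj_mul, inv_mul_cancel, cj_one]
  have hn8 : ∀ V ∈ K, 8 ∣ Nat.card (Subgroup.normalizer (V : Set G)) := by
    intro V hV
    rw [hKmem] at hV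
    obtain ⟨P, hP, hVP⟩ := Sylow.exists_subgroup_card_pow_succ (p := 2) (n := 2)
      (by simpa using h8) (H := V) (by rw [hV.card_four]; norm_num)
    have hidx : (V.subgroupOf P).index = 2 := by
      have h1 := Subgroup.card_mul_index (V.subgroupOf P)
      rw [Nat.card_congr (Subgroup.subgroupOfEquivOfLe hVP).toEquiv, hV.card_four, hP] at h1
      omega
    haveI := Subgroup.normal_of_index_eq_two hidx
    have hle : P ≤ Subgroup.normalizer (V : Set G) :=
      Subgroup.le_normalizer_of_normal_subgroupOf hVP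
    have := Subgroup.card_dvd_of_le hle
    rw [hP] at this
    simpa using this
  have hge : ∀ V ∈ K, 12 * k ≤ 24 * (O V).card := by
    intro V hV
    have h1 := hOcard V
    have h3 := h24 V ((hKmem V).1 hV)
    have := Nat.mul_le_mul_left (O V).card h3
    omega
  have hstab : ∀ V ∈ K, Nat.card (Subgroup.normalizer (V : Set G)) = 24 := by
    intro V hV
    have h1 := hOcard V
    have h2 := Finset.card_le_card (hOsub V hV)
    have h3 := h24 V ((hKmem V).1 hV)
    obtain ⟨c, hc⟩ := hn8 V hV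
    rw [hc] at h1 h3 ⊢
    have hc3 : c ≤ 3 := by omega
    have hc1 : 2 ≤ c := by
      by_contra hlt
      push Not at hlt
      have : (O V).card * (8 * c) ≤ (O V).card * 8 :=
        Nat.mul_le_mul_left _ (by omega)
      omega
    interval_cases c
    · exfalso
      have hlt : (O V).card < K.card := by omega
      obtain ⟨V', hV', hV'n⟩ := Finset.exists_mem_notMem_of_card_lt_card hlt
      have hd := hdisj V V' hV'n
      have hu : (O V ∪ O V').card ≤ K.card :=
        Finset.card_le_card (Finset.union_subset (hOsub V hV) (hOsub V' hV'))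
      rw [Finset.card_union_of_disjoint hd] at hu
      have := hge V' hV'
      omega
    · rfl
  have hhalf : ∀ V ∈ K, 2 * (O V).card = k := by
    intro V hV
    have h1 := hOcard V
    rw [hstab V hV] at h1
    omega
  obtain ⟨V₁, hV₁⟩ : K.Nonempty := Finset.card_pos.1 hkpos
  have hlt : (O V₁).card < K.card := by
    have := hhalf V₁ hV₁
    omega
  obtain ⟨V₂, hV₂, hV₂n⟩ := Finset.exists_mem_notMem_of_card_lt_card hlt
  refine ⟨V₁, V₂, (hKmem V₁).1 hV₁, (hKmem V₂).1 hV₂, ?_, ?_⟩
  · rintro ⟨g, hg⟩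
    exact hV₂n ((hOmem V₁ V₂).2 ⟨g, hg⟩)
  · intro W hW
    have hd := hdisj V₁ V₂ hV₂n
    have hsub : O V₁ ∪ O V₂ ⊆ K := Finset.union_subset (hOsub V₁ hV₁) (hOsub V₂ hV₂)
    have hcard : K.card ≤ (O V₁ ∪ O V₂).card := by
      rw [Finset.card_union_of_disjoint hd]
      have := hhalf V₁ hV₁
      have := hhalf V₂ hV₂
      omega
    have heq := Finset.eq_of_subset_of_card_le hsub hcard
    have hWK : W ∈ O V₁ ∪ O V₂ := by
      rw [heq]
      exact (hKmem W).2 hW
    rcases Finset.mem_union.1 hWK with h | h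
    · left
      exact (hOmem V₁ W).1 h
    · right
      exact (hOmem V₂ W).1 h

end abstract

section psl

variable {F : Type*} [Field F]

theorem comm_J (h2 : (2 : F) ≠ 0) (y h : SLF F) (hy : y * Jm = Jm * y)
    (hh : h * Jm = Jm⁻¹ * h) (hyh : y * h = h * y) : y = 1 ∨ y = negOne := by
  have y00 := congrArg (fun z : SLF F => z 0 0) hy
  have y01 := congrArg (fun z : SLF F => z 0 1) hy
  have h00 := congrArg (fun z : SLF F => z 0 0) hh
  have h01 := congrArg (fun z : SLF F => z 0 1) hh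
  have e00 := congrArg (fun z : SLF F => z 0 0) hyh
  have e01 := congrArg (fun z : SLF F => z 0 1) hyh
  simp only [mul00, mul01, inv00, inv01, Jm, mk2_00, mk2_01, mk2_10, mk2_11] at y00 y01 h00 h01
  simp only [mul00, mul01] at e00 e01
  have dy := det2 y
  have dh := det2 h
  have y10 : y 1 0 = - y 0 1 := by linear_combination y00
  have y11 : y 1 1 = y 0 0 := by linear_combination y01
  have h10 : h 1 0 = h 0 1 := by linear_combination -h00
  have h11 : h 1 1 = - h 0 0 := by linear_combination -h01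
  simp only [y10, y11, h10, h11] at e00 e01 dy dh
  have hb : y 0 1 = 0 := by
    have : 2 * y 0 1 = 0 := by
      linear_combination (-2 * y 0 1) * dh - (h 0 1) * e00 + (h 0 0) * e01
    rcases mul_eq_zero.1 this with h | h
    · exact absurd h h2
    · exact h
  rw [hb] at dy
  have ha : (y 0 0 - 1) * (y 0 0 + 1) = 0 := by linear_combination dy
  rcases mul_eq_zero.1 ha with h | h
  · left
    apply ext2
    · rw [one00]; linear_combination h
    · rw [one01]; exact hb
    · rw [one10, y10, hb]; simp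
    · rw [one11, y11]; linear_combination h
  · right
    apply ext2 <;> simp only [negOne, mk2_00, mk2_01, mk2_10, mk2_11]
    · linear_combination h
    · exact hb
    · rw [y10, hb]; simp
    · rw [y11]; linear_combination h

theorem comm_pair [Fintype F] (h2 : (2 : F) ≠ 0) (y g h : SLF F) (hg : g * g = negOne)
    (hgh : h * g = g⁻¹ * h) (hyg : y * g = g * y) (hyh : y * h = h * y) :
    y = 1 ∨ y = negOne := by
  obtain ⟨P, rfl⟩ := conj_of_tr_zero h2 Jm g Jm_tr (tr_zero_of_sq g hg)
  have key := comm_J h2 (P⁻¹ * y * P) (P⁻¹ * h * P) ?_ ?_ ?_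
  · have e : y = P * (P⁻¹ * y * P) * P⁻¹ := by group
    rcases key with h | h
    · left
      rw [e, h]; group
    · right
      rw [e, h, ← negOne_mul P]; group
  · calc (P⁻¹ * y * P) * Jm = P⁻¹ * (y * (P * Jm * P⁻¹)) * P := by group
      _ = P⁻¹ * ((P * Jm * P⁻¹) * y) * P := by rw [hyg]
      _ = Jm * (P⁻¹ * y * P) := by group
  · calc (P⁻¹ * h * P) * Jm = P⁻¹ * (h * (P * Jm * P⁻¹)) * P := by group
      _ = P⁻¹ * ((P * Jm * P⁻¹)⁻¹ * h) * P := by rw [hgh]
      _ = Jm⁻¹ * (P⁻¹ * h * P) := by group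
  · calc (P⁻¹ * y * P) * (P⁻¹ * h * P) = P⁻¹ * (y * h) * P := by group
      _ = P⁻¹ * (h * y) * P := by rw [hyh]
      _ = (P⁻¹ * h * P) * (P⁻¹ * y * P) := by group

theorem card_lift_pairs [Fintype F] (h2 : (2 : F) ≠ 0)
    (D : Finset (PSLF F × PSLF F)) :
    Nat.card {p : SLF F × SLF F //
      ((QuotientGroup.mk p.1 : PSLF F), (QuotientGroup.mk p.2 : PSLF F)) ∈ D} =
      4 * D.card := by
  classical
  rw [Nat.card_eq_fintype_card, Fintype.card_subtype]
  have hmaps : ∀ p ∈ Finset.univ.filter (fun p : SLF F × SLF F =>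
      ((QuotientGroup.mk p.1 : PSLF F), (QuotientGroup.mk p.2 : PSLF F)) ∈ D),
      ((QuotientGroup.mk p.1 : PSLF F), (QuotientGroup.mk p.2 : PSLF F)) ∈ D := by
    intro p hp
    simpa using hp
  rw [Finset.card_eq_sum_card_fiberwise hmaps]
  rw [Finset.sum_congr rfl (g := fun _ => 4)]
  · rw [Finset.sum_const, smul_eq_mul, mul_comm]
  · rintro ⟨x, y⟩ hxy
    have : (Finset.univ.filter (fun p : SLF F × SLF F =>
        ((QuotientGroup.mk p.1 : PSLF F), (QuotientGroup.mk p.2 : PSLF F)) ∈ D)).filter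
        (fun p => ((QuotientGroup.mk p.1 : PSLF F), (QuotientGroup.mk p.2 : PSLF F)) = (x, y))
        = (Finset.univ.filter (fun g : SLF F => (QuotientGroup.mk g : PSLF F) = x)) ×ˢ
          (Finset.univ.filter (fun g : SLF F => (QuotientGroup.mk g : PSLF F) = y)) := by
      ext ⟨g, h⟩
      simp only [Finset.mem_filter, Finset.mem_univ, true_and, Finset.mem_product,
        Prod.mk.injEq]
      constructor
      · rintro ⟨-, h1, h3⟩; exact ⟨h1, h3⟩
      · rintro ⟨h1, h3⟩
        refine ⟨?_, h1, h3⟩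
        rw [h1, h3]; exact hxy
    rw [this, Finset.card_product]
    have e1 := fiber_card h2 x
    have e2 := fiber_card h2 y
    rw [Nat.card_eq_fintype_card, Fintype.card_subtype] at e1 e2
    rw [e1, e2]

theorem card_normalizer_le [Fintype F] (h2 : (2 : F) ≠ 0) (V : Subgroup (PSLF F))
    (hV : IsKleinFour V) :
    Nat.card (Subgroup.normalizer (V : Set (PSLF F))) ≤ 24 := by
  classical
  obtain ⟨hsq, hcomm⟩ := klein_facts V hV
  set W := Finset.univ.filter (fun x : PSLF F => x ∈ V ∧ x ≠ 1) with hW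
  have hWc : W.card = 3 := by
    have h4 : (Finset.univ.filter (fun x : PSLF F => x ∈ V)).card = 4 := by
      rw [← hV.card_four, Nat.card_eq_fintype_card]
      exact (Fintype.card_of_subtype _ (by simp)).symm
    have : W = (Finset.univ.filter (fun x : PSLF F => x ∈ V)).erase 1 := by
      ext x
      simp only [hW, Finset.mem_filter, Finset.mem_univ, true_and, Finset.mem_erase]
      tauto
    rw [this, Finset.card_erase_of_mem (by simp [V.one_mem]), h4]
  obtain ⟨a, ha, b, hb, hab⟩ := Finset.one_lt_card.1 (by rw [hWc]; norm_num : 1 < W.card)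
  obtain ⟨g, rfl⟩ := QuotientGroup.mk_surjective a
  obtain ⟨h, rfl⟩ := QuotientGroup.mk_surjective b
  simp only [hW, Finset.mem_filter, Finset.mem_univ, true_and] at ha hb
  obtain ⟨hg, hgh⟩ := pair_of_klein h2 g h (hsq _ ha.1) (hsq _ hb.1) (hcomm _ ha.1 _ hb.1)
    ha.2 hb.2 hab
  choose lift hlift using (fun x : PSLF F => QuotientGroup.mk_surjective x)
  have h24 := card_lift_pairs h2 W.offDiag
  rw [Finset.offDiag_card, hWc] at h24
  have hmaps : ∀ x : ↥(Subgroup.normalizer (V : Set (PSLF F))),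
      ((QuotientGroup.mk (lift x.1 * g * (lift x.1)⁻¹) : PSLF F),
        (QuotientGroup.mk (lift x.1 * h * (lift x.1)⁻¹) : PSLF F)) ∈ W.offDiag := by
    rintro ⟨x, hx⟩
    rw [Subgroup.mem_normalizer_iff] at hx
    simp only [Finset.mem_offDiag, hW, Finset.mem_filter, Finset.mem_univ, true_and,
      QuotientGroup.mk_mul, QuotientGroup.mk_inv, hlift]
    refine ⟨⟨(hx _).1 ha.1, ?_⟩, ⟨(hx _).1 hb.1, ?_⟩, ?_⟩
    · intro h1
      apply ha.2
      have : (QuotientGroup.mk g : PSLF F) = x⁻¹ * (x * QuotientGroup.mk g * x⁻¹) * x := by group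
      rw [this, h1]; group
    · intro h1
      apply hb.2
      have : (QuotientGroup.mk h : PSLF F) = x⁻¹ * (x * QuotientGroup.mk h * x⁻¹) * x := by group
      rw [this, h1]; group
    · intro h1
      apply hab
      have e1 : (QuotientGroup.mk g : PSLF F) = x⁻¹ * (x * QuotientGroup.mk g * x⁻¹) * x := by
        group
      have e2 : (QuotientGroup.mk h : PSLF F) = x⁻¹ * (x * QuotientGroup.mk h * x⁻¹) * x := by
        group
      rw [e1, e2, h1]
  have hle := Nat.card_le_card_of_injective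
    (fun x : ↥(Subgroup.normalizer (V : Set (PSLF F))) =>
      (⟨(lift x.1 * g * (lift x.1)⁻¹, lift x.1 * h * (lift x.1)⁻¹), hmaps x⟩ :
        {p : SLF F × SLF F //
          ((QuotientGroup.mk p.1 : PSLF F), (QuotientGroup.mk p.2 : PSLF F)) ∈ W.offDiag})) ?_
  · rw [h24] at hle
    exact hle
  · rintro ⟨x, hx⟩ ⟨x', hx'⟩ hxx
    simp only [Subtype.mk.injEq, Prod.mk.injEq] at hxx
    obtain ⟨e1, e2⟩ := hxx
    have c1 : ((lift x')⁻¹ * lift x) * g = g * ((lift x')⁻¹ * lift x) := by
      calc ((lift x')⁻¹ * lift x) * g = (lift x')⁻¹ * (lift x * g * (lift x)⁻¹) * lift x := by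
            group
        _ = (lift x')⁻¹ * (lift x' * g * (lift x')⁻¹) * lift x := by rw [e1]
        _ = g * ((lift x')⁻¹ * lift x) := by group
    have c2 : ((lift x')⁻¹ * lift x) * h = h * ((lift x')⁻¹ * lift x) := by
      calc ((lift x')⁻¹ * lift x) * h = (lift x')⁻¹ * (lift x * h * (lift x)⁻¹) * lift x := by
            group
        _ = (lift x')⁻¹ * (lift x' * h * (lift x')⁻¹) * lift x := by rw [e2]
        _ = h * ((lift x')⁻¹ * lift x) := by group
    have key := comm_pair h2 _ g h hg hgh c1 c2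
    have : (QuotientGroup.mk ((lift x')⁻¹ * lift x) : PSLF F) = 1 :=
      (mk_eq_one_iff h2 _).2 key
    rw [QuotientGroup.mk_mul, QuotientGroup.mk_inv, hlift, hlift] at this
    have e : x = x' * (x'⁻¹ * x) := by group
    apply Subtype.ext
    change x = x'
    rw [e, this, mul_one]

end psl

/-- Conjugacy classes of four-groups in PSL_2(q), q odd: if q ≡ 3 or 5 (mod 8) all Klein four-subgroups are conjugate; if q ≡ 1 or 7 (mod 8) there are two Klein four-subgroups which are not conjugate, and every Klein four-subgroup is conjugate to one of them. -/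
theorem result {F : Type*} [Field F] [Fintype F] {q : ℕ} (hF : Fintype.card F = q) (hodd : Odd q) : ((q % 8 = 3 ∨ q % 8 = 5) → ∀ V W : Subgroup (Matrix.ProjectiveSpecialLinearGroup (Fin 2) F), IsKleinFour V → IsKleinFour W → ∃ g : Matrix.ProjectiveSpecialLinearGroup (Fin 2) F, W = V.map (MulAut.conj g).toMonoidHom) ∧ ((q % 8 = 1 ∨ q % 8 = 7) → ∃ V₁ V₂ : Subgroup (Matrix.ProjectiveSpecialLinearGroup (Fin 2) F), IsKleinFour V₁ ∧ IsKleinFour V₂ ∧ (¬ ∃ g : Matrix.ProjectiveSpecialLinearGroup (Fin 2) F, V₂ = V₁.map (MulAut.conj g).toMonoidHom) ∧ ∀ W : Subgroup (Matrix.ProjectiveSpecialLinearGroup (Fin 2) F), IsKleinFour W → (∃ g : Matrix.ProjectiveSpecialLinearGroup (Fin 2) F, W = V₁.map (MulAut.conj g).toMonoidHom) ∨ (∃ g : Matrix.ProjectiveSpecialLinearGroup (Fin 2) F, W = V₂.map (MulAut.conj g).toMonoidHom)) := by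
  classical
  have h12 := Cfsg.Agent.S0807.result (F := F) hF hodd
  have hN := Cfsg.Agent.S0243.result (F := F) hF 2 le_rfl
  have h2 : (2 : F) ≠ 0 := by
    intro h
    have hchar : ringChar F = 2 :=
      CharP.ringChar_of_prime_eq_zero Nat.prime_two (by exact_mod_cast h)
    have := FiniteField.even_card_iff_char_two.1 hchar
    obtain ⟨m, hm⟩ := hodd
    omega
  have hq1 : 1 < q := by rw [← hF]; exact Fintype.one_lt_card
  obtain ⟨m, hm⟩ := hodd
  have hm1 : 1 ≤ m := by omega
  have hNm : Nat.card (PSLF F) = 2 * m * (m + 1) * (2 * m + 1) := by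
    rw [hm] at hN
    rw [Fin.prod_univ_two] at hN
    simp only [Fin.val_zero, Fin.val_one, pow_zero, pow_one] at hN
    have e1 : 2 * m + 1 - 1 = 2 * m := by omega
    have e2 : (2 * m + 1) ^ 2 - 1 = 4 * m * (m + 1) := by
      have : (2 * m + 1) ^ 2 = 4 * m * (m + 1) + 1 := by ring
      omega
    have e3 : (2 * m + 1) ^ 2 - (2 * m + 1) = 2 * m * (2 * m + 1) := by
      have : (2 * m + 1) ^ 2 = 2 * m * (2 * m + 1) + (2 * m + 1) := by ring
      omega
    have e4 : Nat.gcd 2 (2 * m) = 2 := Nat.gcd_eq_left (dvd_mul_right 2 m)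
    rw [e1, e2, e3, e4] at hN
    have : (4 * m) * Nat.card (PSLF F) = (4 * m) * (2 * m * (m + 1) * (2 * m + 1)) := by
      calc (4 * m) * Nat.card (PSLF F) = 2 * (2 * m * Nat.card (PSLF F)) := by ring
        _ = (4 * m) * (2 * m * (m + 1) * (2 * m + 1)) := by rw [hN]; ring
    exact Nat.eq_of_mul_eq_mul_left (by omega) this
  constructor
  · intro hq V W hV hW
    apply one_class _ V W hV hW
    rw [hNm]
    rintro ⟨t, ht⟩
    rcases hq with hq | hq
    · obtain ⟨j, rfl⟩ : ∃ j, m = 4 * j + 1 := ⟨m / 4, by omega⟩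
      have : 2 * (4 * j + 1) * (4 * j + 1 + 1) * (2 * (4 * j + 1) + 1) =
          8 * (32 * j ^ 3 + 36 * j ^ 2 + 13 * j + 1) + 4 := by ring
      omega
    · obtain ⟨j, rfl⟩ : ∃ j, m = 4 * j + 2 := ⟨m / 4, by omega⟩
      have : 2 * (4 * j + 2) * (4 * j + 2 + 1) * (2 * (4 * j + 2) + 1) =
          8 * (32 * j ^ 3 + 60 * j ^ 2 + 37 * j + 7) + 4 := by ring
      omega
  · intro hq
    apply two_classes h12
    · rw [hNm]
      rcases hq with hq | hq
      · obtain ⟨j, rfl⟩ : ∃ j, m = 4 * j := ⟨m / 4, by omega⟩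
        exact ⟨j * (4 * j + 1) * (2 * (4 * j) + 1), by ring⟩
      · obtain ⟨j, rfl⟩ : ∃ j, m = 4 * j + 3 := ⟨m / 4, by omega⟩
        exact ⟨(4 * j + 3) * (j + 1) * (2 * (4 * j + 3) + 1), by ring⟩
    · intro V hV
      exact card_normalizer_le h2 V hV

end Cfsg.Agent.S0808
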