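import Cfsg.Statements.S0289
import Mathlib
import Cfsg.Agent.Lib.Helper7.QuadCount

set_option autoImplicit false
open Cfsg

namespace Cfsg.Agent.S0289

open Cfsg.Agent.Lib.Helper7

/-- The hyperbolic quadratic form on F^(2m), m at least 1, has q^(2m-1) + q^m - q^(m-1) zeros (that is, (q^m - 1)(q^(m-1) + 1) non-zero isotropic vectors). -/
theorem result {F : Type*} [Field F] [Fintype F] {q : ℕ} (hF : Fintype.card F = q) (m : ℕ) (hm : 1 ≤ m) : Nat.card {v : Fin m ⊕ Fin m → F // Cfsg.quadFormPlus m F v = 0} = q ^ (2 * m - 1) + q ^ m - q ^ (m - 1) := by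
  classical
  let e : (Fin m ⊕ Fin m → F) ≃ (Fin m → F) × Unit × (Fin m → F) :=
    { toFun := fun v => (fun i => v (Sum.inl i), (), fun i => v (Sum.inr i))
      invFun := fun p => Sum.elim p.1 p.2.2
      left_inv := by intro v; ext (i | i) <;> rfl
      right_inv := by intro p; rfl }
  have hcongr : Nat.card {v : Fin m ⊕ Fin m → F // Cfsg.quadFormPlus m F v = 0} =
      Nat.card {p : (Fin m → F) × Unit × (Fin m → F) //
        ∑ i, p.1 i * p.2.2 i + (fun _ : Unit => (0 : F)) p.2.1 = 0} := by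
    apply Nat.card_congr
    refine e.subtypeEquiv ?_
    intro v
    show Cfsg.quadFormPlus m F v = 0 ↔ (∑ i, v (Sum.inl i) * v (Sum.inr i)) + 0 = 0
    rw [add_zero]; rfl
  rw [hcongr, card_hyperbolic_add m (fun _ : Unit => (0 : F)), hF]
  have hz : Nat.card {w : Unit // (fun _ : Unit => (0 : F)) w = 0} = 1 := by
    rw [Nat.card_eq_fintype_card, Fintype.card_subtype]
    simp
  rw [hz]
  have hq : 1 ≤ q := by rw [← hF]; exact Fintype.card_pos
  have h1 : 1 ≤ q ^ m := Nat.one_le_pow _ _ hq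
  have h2 : q ^ m * q ^ (m - 1) = q ^ (2 * m - 1) := by
    rw [← pow_add]; congr 1; omega
  have h3 : q ^ (m - 1) ≤ q ^ (2 * m - 1) := Nat.pow_le_pow_right hq (by omega)
  simp only [Fintype.card_unit, mul_one]
  rw [Nat.sub_mul, one_mul, h2]
  omega

end Cfsg.Agent.S0289
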