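import Cfsg.Statements.S0291
import Mathlib
import Cfsg.Agent.Lib.Helper7.QuadCount

set_option autoImplicit false
open Cfsg

namespace Cfsg.Agent.S0291

open Cfsg.Agent.Lib.Helper7

/-- For q odd, the form x_0^2 + sum_{i<m} x_i y_i on F^(2m+1) has exactly q^(2m) zeros. -/
theorem result {F : Type*} [Field F] [Fintype F] {q : ℕ} (hF : Fintype.card F = q) (hodd : Odd q) (m : ℕ) : Nat.card {v : Unit ⊕ (Fin m ⊕ Fin m) → F // Cfsg.quadFormOdd m F v = 0} = q ^ (2 * m) := by
  classical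
  let e : (Unit ⊕ (Fin m ⊕ Fin m) → F) ≃ (Fin m → F) × F × (Fin m → F) :=
    { toFun := fun v => (fun i => v (Sum.inr (Sum.inl i)), v (Sum.inl ()),
        fun i => v (Sum.inr (Sum.inr i)))
      invFun := fun p => Sum.elim (fun _ => p.2.1) (Sum.elim p.1 p.2.2)
      left_inv := by intro v; ext (i | i | i) <;> rfl
      right_inv := by intro p; rfl }
  have hcongr : Nat.card {v : Unit ⊕ (Fin m ⊕ Fin m) → F // Cfsg.quadFormOdd m F v = 0} =
      Nat.card {p : (Fin m → F) × F × (Fin m → F) //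
        ∑ i, p.1 i * p.2.2 i + (fun w : F => w ^ 2) p.2.1 = 0} := by
    apply Nat.card_congr
    refine e.subtypeEquiv ?_
    intro v
    show Cfsg.quadFormOdd m F v = 0 ↔
      (∑ i, v (Sum.inr (Sum.inl i)) * v (Sum.inr (Sum.inr i))) + v (Sum.inl ()) ^ 2 = 0
    rw [add_comm]; rfl
  rw [hcongr, card_hyperbolic_add m (fun w : F => w ^ 2), hF]
  have hz : Nat.card {w : F // (fun w : F => w ^ 2) w = 0} = 1 := by
    rw [Nat.card_eq_fintype_card, Fintype.card_subtype, Finset.card_eq_one]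
    exact ⟨0, by ext x; simp⟩
  rw [hz]
  have hq : 1 ≤ q := by rw [← hF]; exact Fintype.card_pos
  have h1 : 1 ≤ q ^ m := Nat.one_le_pow _ _ hq
  rcases Nat.eq_zero_or_pos m with rfl | hm
  · simp
  · have h2 : q ^ (m - 1) * q = q ^ m := by
      rw [← pow_succ]; congr 1; omega
    rw [h2, mul_one, Nat.sub_mul, one_mul, two_mul, pow_add]
    have : q ^ m ≤ q ^ m * q ^ m := Nat.le_mul_of_pos_left _ h1
    omega

end Cfsg.Agent.S0291
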