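import Mathlib
import Cfsg.Statements.S3224
import Cfsg.Agent.Lib.Helper23.DihedralLift

set_option autoImplicit false
open Cfsg

namespace Cfsg.Agent.S3224

open Subgroup

universe u

section basic

variable {S : Type u} [Group S]

theorem mem_cent {a x : S} : x ∈ centralizer ({a} : Set S) ↔ a * x = x * a := by
  rw [mem_centralizer_iff]
  constructor
  · intro h; exact h a rfl
  · intro h y hy
    rw [Set.mem_singleton_iff] at hy
    rw [hy]; exact h

theorem card_subgroupOf_le {T K : Subgroup S} (h : T ≤ K) :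
    Nat.card (T.subgroupOf K) = Nat.card T :=
  Nat.card_congr (Subgroup.subgroupOfEquivOfLe h).toEquiv

/-- `x` is not central and the centre has order two, when `|S| ≠ 4` -/
theorem center_facts [Finite S] (hS : IsPGroup 2 S) (x : S)
    (hC : Nat.card (centralizer ({x} : Set S)) = 4) (h4 : Nat.card S ≠ 4) :
    x ∉ center S ∧ Nat.card (center S) = 2 := by
  have : Fact (Nat.Prime 2) := ⟨Nat.prime_two⟩
  have hxZ : x ∉ center S := by
    intro h
    have : centralizer ({x} : Set S) = ⊤ :=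
      Subgroup.centralizer_eq_top_iff_subset.mpr (Set.singleton_subset_iff.mpr h)
    rw [this, Subgroup.card_top] at hC
    exact h4 hC
  refine ⟨hxZ, ?_⟩
  have hZle : center S ≤ centralizer ({x} : Set S) := Subgroup.center_le_centralizer _
  have h1 : Nat.card (center S) ∣ 2 ^ 2 := by
    have := Subgroup.card_dvd_of_le hZle
    rwa [hC] at this
  obtain ⟨i, hi, hci⟩ := (Nat.dvd_prime_pow Nat.prime_two).mp h1
  have hnt : Nontrivial S := by
    apply (Finite.one_lt_card_iff_nontrivial).mp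
    have h5 : 4 ∣ Nat.card S := hC ▸ Subgroup.card_subgroup_dvd_card _
    have := Nat.le_of_dvd Nat.card_pos h5
    omega
  have hcn := hS.center_nontrivial
  have hne : center S ≠ ⊥ := (Subgroup.nontrivial_iff_ne_bot _).mp hcn
  interval_cases i
  · exact absurd (Subgroup.card_eq_one.mp (by simpa using hci)) hne
  · simpa using hci
  · exfalso
    have : center S = centralizer ({x} : Set S) :=
      Subgroup.eq_of_le_of_card_ge hZle (by rw [hci, hC]; norm_num)
    exact hxZ (this ▸ mem_cent.mpr rfl)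

theorem center_sq [Finite S] (hZ : Nat.card (center S) = 2) : ∀ c ∈ center S, c * c = 1 := by
  intro c hc
  have h : (⟨c, hc⟩ : center S) ^ Nat.card (center S) = 1 := pow_card_eq_one'
  rw [hZ, pow_two] at h
  exact congrArg Subtype.val h

/-- the structure of the centralizer of `x` -/
theorem cent_struct [Finite S] (x : S) (hx2 : x * x = 1)
    (hC : Nat.card (centralizer ({x} : Set S)) = 4)
    (hZ : Nat.card (center S) = 2) (hxZ : x ∉ center S) :
    ∀ y ∈ centralizer ({x} : Set S), y ∈ center S ∨ ∃ c ∈ center S, y = c * x := by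
  intro y hy
  by_cases hyZ : y ∈ center S
  · exact Or.inl hyZ
  · right
    have hle : center S ≤ centralizer ({x} : Set S) := Subgroup.center_le_centralizer _
    have hidx : ((center S).subgroupOf (centralizer ({x} : Set S))).index = 2 := by
      have h1 := Subgroup.card_mul_index ((center S).subgroupOf (centralizer ({x} : Set S)))
      rw [card_subgroupOf_le hle, hZ, hC] at h1
      omega
    have hxC : x ∈ centralizer ({x} : Set S) := mem_cent.mpr rfl
    have h1 := Subgroup.mul_mem_iff_of_index_two hidx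
      (a := (⟨y, hy⟩ : centralizer ({x} : Set S))) (b := ⟨x, hxC⟩)
    rw [mem_subgroupOf, mem_subgroupOf, mem_subgroupOf] at h1
    have h2 : y * x ∈ center S := h1.mpr ⟨fun h => absurd h hyZ, fun h => absurd h hxZ⟩
    refine ⟨y * x, h2, ?_⟩
    rw [mul_assoc, hx2, mul_one]

theorem cent_sq [Finite S] (x : S) (hx2 : x * x = 1)
    (hC : Nat.card (centralizer ({x} : Set S)) = 4)
    (hZ : Nat.card (center S) = 2) (hxZ : x ∉ center S) :
    ∀ y ∈ centralizer ({x} : Set S), y * y = 1 := by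
  intro y hy
  rcases cent_struct x hx2 hC hZ hxZ y hy with h | ⟨c, hc, rfl⟩
  · exact center_sq hZ y h
  · have hcx : x * c = c * x := mem_center_iff.mp hc x
    calc c * x * (c * x) = c * (x * c) * x := by group
      _ = c * (c * x) * x := by rw [hcx]
      _ = (c * c) * (x * x) := by group
      _ = 1 := by rw [center_sq hZ c hc, hx2, one_mul]

/-- the image of `x` modulo the centre again has centralizer of order four -/
theorem cbar_card [Finite S] (hS : IsPGroup 2 S) (x : S) (hx2 : x * x = 1)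
    (hC : Nat.card (centralizer ({x} : Set S)) = 4)
    (hZ : Nat.card (center S) = 2) (hxZ : x ∉ center S) (n : ℕ)
    (hcard : Nat.card S = 2 ^ (n + 3)) :
    Nat.card (centralizer ({(QuotientGroup.mk x : S ⧸ center S)} : Set (S ⧸ center S))) = 4 := by
  have : Fact (Nat.Prime 2) := ⟨Nat.prime_two⟩
  have hQcard : Nat.card (S ⧸ center S) = 2 ^ (n + 2) := by
    have h := Subgroup.card_eq_card_quotient_mul_card_subgroup (center S)
    rw [hcard, hZ] at h
    have e : 2 ^ (n + 3) = 2 ^ (n + 2) * 2 := pow_succ 2 (n + 2)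
    omega
  obtain ⟨Cb, hCb⟩ : ∃ Cb : Subgroup (S ⧸ center S),
      Cb = centralizer ({(QuotientGroup.mk x : S ⧸ center S)} : Set (S ⧸ center S)) := ⟨_, rfl⟩
  rw [← hCb]
  obtain ⟨D, hD⟩ : ∃ D : Subgroup S, D = Cb.comap (QuotientGroup.mk' (center S)) := ⟨_, rfl⟩
  have hmemD : ∀ y : S, y ∈ D ↔ y⁻¹ * x⁻¹ * y * x ∈ center S := by
    intro y
    rw [hD, Subgroup.mem_comap, hCb, mem_cent]
    change (QuotientGroup.mk x : S ⧸ center S) * QuotientGroup.mk y =
      QuotientGroup.mk y * QuotientGroup.mk x ↔ _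
    rw [← QuotientGroup.mk_mul, ← QuotientGroup.mk_mul, QuotientGroup.eq]
    have e : (x * y)⁻¹ * (y * x) = y⁻¹ * x⁻¹ * y * x := by group
    rw [e]
  -- the upper bound
  have hCD : centralizer ({x} : Set S) ≤ D := by
    intro y hy
    rw [hmemD]
    have h := mem_cent.mp hy
    have e : y⁻¹ * x⁻¹ * y * x = 1 := by
      calc y⁻¹ * x⁻¹ * y * x = y⁻¹ * x⁻¹ * (y * x) := by group
        _ = y⁻¹ * x⁻¹ * (x * y) := by rw [h]
        _ = 1 := by group
    rw [e]; exact one_mem _
  let ψ : D →* center S := MonoidHom.mk'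
    (fun y => ⟨(y : S)⁻¹ * x⁻¹ * y * x, (hmemD y).mp y.2⟩)
    (by
      intro y y'
      apply Subtype.ext
      have hc := mem_center_iff.mp ((hmemD y).mp y.2)
      change ((y * y' : D) : S)⁻¹ * x⁻¹ * ((y * y' : D) : S) * x =
        ((y : S)⁻¹ * x⁻¹ * y * x) * ((y' : S)⁻¹ * x⁻¹ * y' * x)
      have h1 := hc (y' : S)⁻¹
      calc ((y * y' : D) : S)⁻¹ * x⁻¹ * ((y * y' : D) : S) * x
          = ((y' : S)⁻¹ * ((y : S)⁻¹ * x⁻¹ * y * x)) * (x⁻¹ * y' * x) := by
            simp only [Subgroup.coe_mul]; group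
        _ = (((y : S)⁻¹ * x⁻¹ * y * x) * (y' : S)⁻¹) * (x⁻¹ * y' * x) := by rw [h1]
        _ = ((y : S)⁻¹ * x⁻¹ * y * x) * ((y' : S)⁻¹ * x⁻¹ * y' * x) := by group)
  have hker : ψ.ker = (centralizer ({x} : Set S)).subgroupOf D := by
    ext y
    rw [MonoidHom.mem_ker, mem_subgroupOf, mem_cent]
    constructor
    · intro h
      have h1 : (y : S)⁻¹ * x⁻¹ * y * x = 1 := congrArg Subtype.val h
      calc x * (y : S) = x * y * ((y : S)⁻¹ * x⁻¹ * y * x) := by rw [h1, mul_one]
        _ = y * x := by group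
    · intro h
      apply Subtype.ext
      change (y : S)⁻¹ * x⁻¹ * y * x = 1
      calc (y : S)⁻¹ * x⁻¹ * y * x = (y : S)⁻¹ * x⁻¹ * (y * x) := by group
        _ = (y : S)⁻¹ * x⁻¹ * (x * y) := by rw [h]
        _ = 1 := by group
  have hDle : Nat.card D ≤ 8 := by
    have h1 := Subgroup.card_eq_card_quotient_mul_card_subgroup ψ.ker
    have h2 : Nat.card (D ⧸ ψ.ker) ≤ Nat.card (center S) :=
      Nat.card_le_card_of_injective _ (QuotientGroup.kerLift_injective ψ)
    have h3 : Nat.card ψ.ker = 4 := by rw [hker, card_subgroupOf_le hCD, hC]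
    rw [h3] at h1
    rw [hZ] at h2
    rw [h1]
    omega
  have hidx : D.index = Cb.index := by
    rw [hD]
    exact Subgroup.index_comap_of_surjective Cb (QuotientGroup.mk'_surjective (center S))
  have hDC : Nat.card D = 2 * Nat.card Cb := by
    have h1 := D.card_mul_index
    have h2 := Cb.card_mul_index
    rw [hidx, hcard] at h1
    rw [hQcard] at h2
    have e : 2 ^ (n + 3) = 2 * 2 ^ (n + 2) := by rw [pow_succ]; ring
    have h3 : Nat.card D * Cb.index = (2 * Nat.card Cb) * Cb.index := by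
      rw [h1, e, ← h2]; ring
    exact Nat.eq_of_mul_eq_mul_right (Nat.pos_of_ne_zero (Subgroup.index_ne_zero_of_finite)) h3
  have hle : Nat.card Cb ≤ 4 := by omega
  -- the lower bound
  have hQ : IsPGroup 2 (S ⧸ center S) := hS.to_quotient (center S)
  obtain ⟨i, hi⟩ := IsPGroup.iff_card.mp (hQ.to_subgroup Cb)
  have hxb : (QuotientGroup.mk x : S ⧸ center S) ≠ 1 :=
    fun h => hxZ ((QuotientGroup.eq_one_iff x).mp h)
  have hxCb : (QuotientGroup.mk x : S ⧸ center S) ∈ Cb := by rw [hCb]; exact mem_cent.mpr rfl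
  have hi2 : 2 ≤ i := by
    by_contra hlt
    push Not at hlt
    interval_cases i
    · rw [pow_zero] at hi
      have := Subgroup.card_eq_one.mp hi
      rw [this, Subgroup.mem_bot] at hxCb
      exact hxb hxCb
    · rw [pow_one] at hi
      have hnt : Nontrivial (S ⧸ center S) := by
        apply (Finite.one_lt_card_iff_nontrivial).mp
        rw [hQcard]
        exact Nat.one_lt_two_pow (by omega)
      have hcn := hQ.center_nontrivial
      have hne : center (S ⧸ center S) ≠ ⊥ := (Subgroup.nontrivial_iff_ne_bot _).mp hcn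
      have hZle : center (S ⧸ center S) ≤ Cb := by
        rw [hCb]; exact Subgroup.center_le_centralizer _
      have h1 : Nat.card (center (S ⧸ center S)) ∣ 2 := hi ▸ Subgroup.card_dvd_of_le hZle
      have h2 : Nat.card (center (S ⧸ center S)) ≠ 1 := fun h => hne (Subgroup.card_eq_one.mp h)
      have h3 : Nat.card (center (S ⧸ center S)) = 2 := by
        rcases (Nat.dvd_prime Nat.prime_two).mp h1 with h | h
        · exact absurd h h2
        · exact h
      have h4 : center (S ⧸ center S) = Cb :=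
        Subgroup.eq_of_le_of_card_ge hZle (by rw [h3, hi])
      have h5 : (QuotientGroup.mk x : S ⧸ center S) ∈ center (S ⧸ center S) := h4 ▸ hxCb
      have h6 : Cb = ⊤ := by
        rw [hCb]
        exact Subgroup.centralizer_eq_top_iff_subset.mpr (Set.singleton_subset_iff.mpr h5)
      rw [h6, Subgroup.card_top, hQcard] at hi
      have : 2 ^ 2 ≤ 2 ^ (n + 2) := Nat.pow_le_pow_right (by norm_num) (by omega)
      omega
  have : 2 ^ 2 ≤ 2 ^ i := Nat.pow_le_pow_right (by norm_num) hi2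
  omega

end basic

section induction

/-- the case of order eight: there is an element of order four -/
theorem exists_order_four {S : Type u} [Group S] [Finite S] (x : S)
    (hC : Nat.card (centralizer ({x} : Set S)) = 4) (h8 : Nat.card S = 8) :
    ∃ a : S, 2 * orderOf a = Nat.card S := by
  by_contra hno
  push Not at hno
  have hsq : ∀ y : S, y * y = 1 := by
    intro y
    have hdvd : orderOf y ∣ 2 ^ 3 := by
      have := orderOf_dvd_natCard y
      rwa [h8] at this
    obtain ⟨k, hk, hyk⟩ := (Nat.dvd_prime_pow Nat.prime_two).mp hdvd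
    interval_cases k
    · have : y = 1 := orderOf_eq_one_iff.mp (by simpa using hyk)
      rw [this, one_mul]
    · rw [← pow_two]
      have := pow_orderOf_eq_one y
      rwa [hyk, pow_one] at this
    · exfalso
      apply hno y
      rw [hyk, h8]
      norm_num
    · exfalso
      apply hno (y ^ 2)
      rw [orderOf_pow' y (by norm_num), hyk, h8]
      norm_num
  have hcomm : ∀ y z : S, y * z = z * y := by
    intro y z
    have hy := hsq y
    have hz := hsq z
    calc y * z = (z * z) * (y * z) * (y * y) := by rw [hy, hz, one_mul, mul_one]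
      _ = z * ((z * y) * (z * y)) * y := by group
      _ = z * y := by rw [hsq (z * y), mul_one]
  have hx : x ∈ center S := mem_center_iff.mpr fun g => hcomm g x
  have : centralizer ({x} : Set S) = ⊤ :=
    Subgroup.centralizer_eq_top_iff_subset.mpr (Set.singleton_subset_iff.mpr hx)
  rw [this, Subgroup.card_top, h8] at hC
  omega

theorem exists_cyclic_index_two : ∀ (N : ℕ) (S : Type u) [Group S] [Finite S],
    Nat.card S = N → IsPGroup 2 S → ∀ x : S, orderOf x = 2 →
    Nat.card (centralizer ({x} : Set S)) = 4 → ∃ a : S, 2 * orderOf a = Nat.card S := by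
  intro N
  induction N using Nat.strong_induction_on with
  | _ N ih =>
  intro S _ _ hN hS x hx hC
  by_cases h4 : Nat.card S = 4
  · exact ⟨x, by rw [hx, h4]⟩
  obtain ⟨hxZ, hZ⟩ := center_facts hS x hC h4
  have hx2 : x * x = 1 := by rw [← pow_two, ← hx]; exact pow_orderOf_eq_one x
  obtain ⟨m, hm⟩ := IsPGroup.iff_card.mp hS
  have hm3 : 3 ≤ m := by
    have h5 : 4 ∣ Nat.card S := hC ▸ Subgroup.card_subgroup_dvd_card _
    rw [hm] at h5 h4
    by_contra hlt
    push Not at hlt
    interval_cases m <;> omega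
  obtain ⟨n, rfl⟩ : ∃ n, m = n + 3 := ⟨m - 3, by omega⟩
  rcases Nat.eq_zero_or_pos n with rfl | hn
  · exact exists_order_four x hC (by rw [hm]; norm_num)
  have hQcard : Nat.card (S ⧸ center S) = 2 ^ (n + 2) := by
    have h := Subgroup.card_eq_card_quotient_mul_card_subgroup (center S)
    rw [hm, hZ] at h
    have e : 2 ^ (n + 3) = 2 ^ (n + 2) * 2 := pow_succ 2 (n + 2)
    omega
  have hcb := cbar_card hS x hx2 hC hZ hxZ n hm
  have hxb : orderOf (QuotientGroup.mk x : S ⧸ center S) = 2 := by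
    apply orderOf_eq_prime
    · rw [← QuotientGroup.mk_pow, pow_two, hx2]; rfl
    · intro h; exact hxZ ((QuotientGroup.eq_one_iff x).mp h)
  obtain ⟨ab, hab⟩ := ih (2 ^ (n + 2))
    (by rw [← hN, hm]; exact Nat.pow_lt_pow_right (by norm_num) (by omega))
    (S ⧸ center S) hQcard (hS.to_quotient _) _ hxb hcb
  obtain ⟨a₀, rfl⟩ := QuotientGroup.mk_surjective ab
  have hord : orderOf (QuotientGroup.mk a₀ : S ⧸ center S) = 2 ^ (n + 1) := by
    rw [hQcard] at hab
    have e : 2 ^ (n + 2) = 2 * 2 ^ (n + 1) := by rw [pow_succ]; ring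
    omega
  have hmemZ : a₀ ^ 2 ^ (n + 1) ∈ center S := by
    rw [← QuotientGroup.eq_one_iff, QuotientGroup.mk_pow, ← hord]
    exact pow_orderOf_eq_one _
  have hfin : a₀ ^ 2 ^ (n + 1 + 1) = 1 := by
    rw [pow_succ 2 (n + 1), pow_mul, pow_two]
    exact center_sq hZ _ hmemZ
  by_cases hnot : a₀ ^ 2 ^ (n + 1) = 1
  swap
  · refine ⟨a₀, ?_⟩
    rw [orderOf_eq_prime_pow hnot hfin, hm]
    ring
  exfalso
  -- `t₀ = a₀ ^ 2 ^ n` is not central
  have ht0Z : a₀ ^ 2 ^ n ∉ center S := by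
    intro h
    have h1 : (QuotientGroup.mk a₀ : S ⧸ center S) ^ 2 ^ n = 1 := by
      rw [← QuotientGroup.mk_pow]; exact (QuotientGroup.eq_one_iff _).mpr h
    have h2 := orderOf_dvd_of_pow_eq_one h1
    rw [hord] at h2
    have h3 := Nat.le_of_dvd (by positivity) h2
    have : 2 ^ n < 2 ^ (n + 1) := Nat.pow_lt_pow_right (by norm_num) (by omega)
    omega
  have ht0sq : a₀ ^ 2 ^ n * a₀ ^ 2 ^ n = 1 := by
    rw [← pow_add, ← two_mul, ← pow_succ']; exact hnot
  have hidx : (zpowers (QuotientGroup.mk a₀ : S ⧸ center S)).index = 2 := by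
    have h1 := (zpowers (QuotientGroup.mk a₀ : S ⧸ center S)).card_mul_index
    rw [Nat.card_zpowers, hord, hQcard] at h1
    have e : 2 ^ (n + 2) = 2 ^ (n + 1) * 2 := pow_succ 2 (n + 1)
    rw [e] at h1
    exact Nat.eq_of_mul_eq_mul_left (by positivity) h1
  have hnorm : (zpowers (QuotientGroup.mk a₀ : S ⧸ center S)).Normal :=
    Subgroup.normal_of_index_eq_two hidx
  have hconj := hnorm.conj_mem _ (mem_zpowers (QuotientGroup.mk a₀ : S ⧸ center S))
    (QuotientGroup.mk x)
  obtain ⟨i, hi⟩ := mem_zpowers_iff.mp hconj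
  have hcZ : (a₀ ^ i)⁻¹ * (x * a₀ * x⁻¹) ∈ center S := by
    rw [← QuotientGroup.eq]
    rw [QuotientGroup.mk_zpow, QuotientGroup.mk_mul, QuotientGroup.mk_mul, QuotientGroup.mk_inv]
    exact hi
  obtain ⟨c, hc⟩ : ∃ c : S, c = (a₀ ^ i)⁻¹ * (x * a₀ * x⁻¹) := ⟨_, rfl⟩
  rw [← hc] at hcZ
  have hxa : x * a₀ * x⁻¹ = a₀ ^ i * c := by rw [hc]; group
  have hcc : c * c = 1 := center_sq hZ c hcZ
  have hcpow : c ^ 2 ^ n = 1 := by
    obtain ⟨k, rfl⟩ : ∃ k, n = k + 1 := ⟨n - 1, by omega⟩
    rw [pow_succ', pow_mul, pow_two, hcc, one_pow]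
  have hcomm : Commute (a₀ ^ i) c := (mem_center_iff.mp hcZ (a₀ ^ i))
  have hxt : x * a₀ ^ 2 ^ n * x⁻¹ = (a₀ ^ 2 ^ n) ^ i := by
    calc x * a₀ ^ 2 ^ n * x⁻¹ = (x * a₀ * x⁻¹) ^ 2 ^ n := by rw [conj_pow]
      _ = (a₀ ^ i * c) ^ 2 ^ n := by rw [hxa]
      _ = (a₀ ^ i) ^ 2 ^ n * c ^ 2 ^ n := hcomm.mul_pow _
      _ = (a₀ ^ i) ^ 2 ^ n := by rw [hcpow, mul_one]
      _ = (a₀ ^ 2 ^ n) ^ i := by
        rw [← zpow_natCast, ← zpow_mul, mul_comm, zpow_mul, zpow_natCast]
  have ht0C : a₀ ^ 2 ^ n ∈ centralizer ({x} : Set S) := by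
    rw [mem_cent]
    rcases Int.even_or_odd' i with ⟨k, rfl | rfl⟩
    · exfalso
      rw [zpow_mul, zpow_two, ht0sq, one_zpow] at hxt
      apply ht0Z
      have : a₀ ^ 2 ^ n = 1 := by
        calc a₀ ^ 2 ^ n = x⁻¹ * (x * a₀ ^ 2 ^ n * x⁻¹) * x := by group
          _ = 1 := by rw [hxt]; group
      rw [this]; exact one_mem _
    · rw [zpow_add_one, zpow_mul, zpow_two, ht0sq, one_zpow, one_mul] at hxt
      calc x * a₀ ^ 2 ^ n = (x * a₀ ^ 2 ^ n * x⁻¹) * x := by group
        _ = a₀ ^ 2 ^ n * x := by rw [hxt]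
  rcases cent_struct x hx2 hC hZ hxZ _ ht0C with h | ⟨c', hc', hc'x⟩
  · exact ht0Z h
  · have hxeq : x = c'⁻¹ * a₀ ^ 2 ^ n := by rw [hc'x]; group
    have hc'comm : a₀ * c'⁻¹ = c'⁻¹ * a₀ := mem_center_iff.mp (inv_mem hc') a₀
    have ha0C : a₀ ∈ centralizer ({x} : Set S) := by
      rw [mem_cent]
      calc x * a₀ = c'⁻¹ * (a₀ ^ 2 ^ n * a₀) := by rw [hxeq]; group
        _ = c'⁻¹ * (a₀ * a₀ ^ 2 ^ n) := by rw [← pow_succ, ← pow_succ']
        _ = (c'⁻¹ * a₀) * a₀ ^ 2 ^ n := by group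
        _ = (a₀ * c'⁻¹) * a₀ ^ 2 ^ n := by rw [hc'comm]
        _ = a₀ * x := by rw [hxeq]; group
    have ha0sq := cent_sq x hx2 hC hZ hxZ a₀ ha0C
    apply ht0Z
    have : a₀ ^ 2 ^ n = 1 := by
      obtain ⟨k, rfl⟩ : ∃ k, n = k + 1 := ⟨n - 1, by omega⟩
      rw [pow_succ', pow_mul, pow_two, ha0sq, one_pow]
    rw [this]; exact one_mem _

end induction

section classify

theorem classify {S : Type u} [Group S] [Finite S] (x : S) (hx : orderOf x = 2)
    (hC : Nat.card (centralizer ({x} : Set S)) = 4)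
    (hZ : Nat.card (center S) = 2) (hxZ : x ∉ center S) (n : ℕ)
    (hcard : Nat.card S = 2 ^ (n + 3)) (a : S) (ha : orderOf a = 2 ^ (n + 2)) :
    (∃ n : ℕ, Nonempty (S ≃* DihedralGroup n)) ∨ Cfsg.IsQuasiDihedral S := by
  have hx2 : x * x = 1 := by rw [← pow_two, ← hx]; exact pow_orderOf_eq_one x
  have haC : a ∉ centralizer ({x} : Set S) := by
    intro h
    have h1 := cent_sq x hx2 hC hZ hxZ a h
    have h2 : orderOf a ∣ 2 := orderOf_dvd_of_pow_eq_one (by rw [pow_two]; exact h1)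
    rw [ha] at h2
    have h3 := Nat.le_of_dvd (by norm_num) h2
    have : 2 ^ 2 ≤ 2 ^ (n + 2) := Nat.pow_le_pow_right (by norm_num) (by omega)
    omega
  have hxa : x ∉ zpowers a := by
    intro h
    obtain ⟨k, hk⟩ := mem_zpowers_iff.mp h
    apply haC
    rw [mem_cent, ← hk, ← zpow_add_one, ← zpow_one_add, add_comm]
  have hidx : (zpowers a).index = 2 := by
    have h1 := (zpowers a).card_mul_index
    rw [Nat.card_zpowers, ha, hcard] at h1
    have e : 2 ^ (n + 3) = 2 ^ (n + 2) * 2 := pow_succ 2 (n + 2)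
    rw [e] at h1
    exact Nat.eq_of_mul_eq_mul_left (by positivity) h1
  have hnorm : (zpowers a).Normal := Subgroup.normal_of_index_eq_two hidx
  obtain ⟨r, hr⟩ := mem_zpowers_iff.mp (hnorm.conj_mem _ (mem_zpowers a) x)
  have h1 : a ^ (r * r) = a := by
    calc a ^ (r * r) = (a ^ r) ^ r := by rw [zpow_mul]
      _ = (x * a * x⁻¹) ^ r := by rw [hr]
      _ = x * a ^ r * x⁻¹ := by rw [conj_zpow]
      _ = x * (x * a * x⁻¹) * x⁻¹ := by rw [hr]
      _ = (x * x) * a * (x * x)⁻¹ := by group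
      _ = a := by rw [hx2]; group
  have h2 : a ^ (r + 1) ∈ centralizer ({x} : Set S) := by
    rw [mem_cent]
    have h : x * a ^ (r + 1) * x⁻¹ = a ^ (r + 1) := by
      calc x * a ^ (r + 1) * x⁻¹ = (x * a * x⁻¹) ^ (r + 1) := by rw [conj_zpow]
        _ = (a ^ r) ^ (r + 1) := by rw [hr]
        _ = a ^ (r * r) * a ^ r := by rw [← zpow_mul, mul_add, mul_one, zpow_add]
        _ = a ^ (r + 1) := by rw [h1, ← zpow_one_add, add_comm]
    calc x * a ^ (r + 1) = (x * a ^ (r + 1) * x⁻¹) * x := by group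
      _ = a ^ (r + 1) * x := by rw [h]
  have h3 : a ^ (r + 1) * a ^ (r + 1) = 1 := cent_sq x hx2 hC hZ hxZ _ h2
  have h4 : ((2 ^ (n + 2) : ℕ) : ℤ) ∣ (r + 1) + (r + 1) := by
    rw [← ha]; apply orderOf_dvd_iff_zpow_eq_one.mpr; rw [zpow_add]; exact h3
  have h5 : ((2 ^ (n + 1) : ℕ) : ℤ) ∣ r + 1 := by
    obtain ⟨q, hq⟩ := h4
    refine ⟨q, ?_⟩
    push_cast at hq ⊢
    have e : (2 : ℤ) ^ (n + 2) = 2 * 2 ^ (n + 1) := by ring
    rw [e] at hq
    linarith
  obtain ⟨j, hj⟩ := h5
  obtain ⟨z, hz⟩ : ∃ z : S, z = a ^ 2 ^ (n + 1) := ⟨_, rfl⟩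
  have hz2 : z * z = 1 := by
    rw [hz, ← pow_add, ← two_mul, ← pow_succ', ← ha]; exact pow_orderOf_eq_one a
  have h6 : a ^ (r + 1) = z ^ j := by rw [hj, zpow_mul, zpow_natCast, hz]
  have ha1 : a ^ (2 ^ (n + 2)) = 1 := by rw [← ha]; exact pow_orderOf_eq_one a
  rcases Int.even_or_odd' j with ⟨k, rfl | rfl⟩
  · have h7 : a ^ (r + 1) = 1 := by rw [h6, zpow_mul, zpow_two, hz2, one_zpow]
    have h8 : x * a * x⁻¹ = a⁻¹ := by
      rw [← hr]
      rw [zpow_add_one] at h7
      exact eq_inv_of_mul_eq_one_left h7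
    left
    let φ := Cfsg.Agent.Lib.Helper23.dihedralLift (2 ^ (n + 2)) a x ha1 hx2 h8
    have hinj : Function.Injective φ := by
      rw [injective_iff_map_eq_one]
      rintro (i | i) hi
      · obtain ⟨k, rfl⟩ := ZMod.intCast_surjective i
        have h9 : a ^ k = 1 := by
          rw [← Cfsg.Agent.Lib.Helper23.zmodPow_intCast (2 ^ (n + 2)) a ha1 k]; exact hi
        have h10 : ((2 ^ (n + 2) : ℕ) : ℤ) ∣ k := by
          rw [← ha]; exact orderOf_dvd_iff_zpow_eq_one.mpr h9
        have h11 : ((k : ℤ) : ZMod (2 ^ (n + 2))) = 0 :=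
          (ZMod.intCast_zmod_eq_zero_iff_dvd k _).mpr h10
        rw [h11]; rfl
      · exfalso
        obtain ⟨k, rfl⟩ := ZMod.intCast_surjective i
        have h9 : x * a ^ k = 1 := by
          rw [← Cfsg.Agent.Lib.Helper23.zmodPow_intCast (2 ^ (n + 2)) a ha1 k]; exact hi
        apply hxa
        rw [mem_zpowers_iff]
        refine ⟨-k, ?_⟩
        rw [zpow_neg]; exact (eq_inv_of_mul_eq_one_left h9).symm
    have hbij : Function.Bijective φ :=
      (Nat.bijective_iff_injective_and_card φ).mpr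
        ⟨hinj, by rw [DihedralGroup.nat_card, hcard]; ring⟩
    exact ⟨2 ^ (n + 2), ⟨(MulEquiv.ofBijective φ hbij).symm⟩⟩
  · have h7 : a ^ (r + 1) = z := by
      rw [h6, zpow_add_one, zpow_mul, zpow_two, hz2, one_zpow, one_mul]
    have h8 : x * a * x⁻¹ = a ^ (2 ^ (n + 1) - 1) := by
      rw [← hr]
      rw [zpow_add_one, hz] at h7
      have := pow_sub_one_mul (a := a) (n := 2 ^ (n + 1)) (by positivity)
      exact mul_right_cancel (h7.trans this.symm)
    right
    rcases Nat.eq_zero_or_pos n with rfl | hn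
    · exfalso
      apply haC
      rw [mem_cent]
      have : x * a * x⁻¹ = a := by simpa using h8
      calc x * a = (x * a * x⁻¹) * x := by group
        _ = a * x := by rw [this]
    · refine ⟨n + 2, by omega, hcard, a, x, ha, hx, ?_⟩
      have e : n + 2 - 1 = n + 1 := by omega
      rw [e]; exact h8

end classify

/-- A finite 2-group containing an involution whose centralizer has order 4 is dihedral, quasi-dihedral (semidihedral), or of order 4. -/
theorem result {S : Type*} [Group S] [Finite S] (hS : IsPGroup 2 S)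
    (x : S) (hx : orderOf x = 2) (hC : Nat.card ↥(Subgroup.centralizer ({x} : Set S)) = 4) :
    (∃ n : ℕ, Nonempty (S ≃* DihedralGroup n)) ∨ Cfsg.IsQuasiDihedral S ∨ Nat.card S = 4 := by
  by_cases h4 : Nat.card S = 4
  · exact Or.inr (Or.inr h4)
  obtain ⟨hxZ, hZ⟩ := center_facts hS x hC h4
  obtain ⟨m, hm⟩ := IsPGroup.iff_card.mp hS
  have hm3 : 3 ≤ m := by
    have h5 : 4 ∣ Nat.card S := hC ▸ Subgroup.card_subgroup_dvd_card _
    rw [hm] at h5 h4
    by_contra hlt
    push Not at hlt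
    interval_cases m <;> omega
  obtain ⟨n, rfl⟩ : ∃ n, m = n + 3 := ⟨m - 3, by omega⟩
  obtain ⟨a, ha⟩ := exists_cyclic_index_two _ S rfl hS x hx hC
  have ha' : orderOf a = 2 ^ (n + 2) := by
    rw [hm] at ha
    have e : 2 ^ (n + 3) = 2 * 2 ^ (n + 2) := by ring
    omega
  rcases classify x hx hC hZ hxZ n hm a ha' with h | h
  · exact Or.inl h
  · exact Or.inr (Or.inl h)

end Cfsg.Agent.S3224
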