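import Cfsg.Statements.S0271
import Mathlib
import Cfsg.Agent.Lib.Helper18.Symp

set_option autoImplicit false
open Cfsg

namespace Cfsg.Agent.S0271

open Matrix Cfsg.Agent.Lib.Helper18

/-- every nonzero vector has a hyperbolic partner. -/
theorem exists_partner {F : Type*} [Field F] (m : ℕ) (u : Fin m ⊕ Fin m → F) (hu : u ≠ 0) :
    ∃ v, Cfsg.sympForm m F u v = 1 := by
  have hnd := sympB_nondegenerate (F := F) m
  have hex' : ∃ v', sympB m u v' ≠ 0 := by
    by_contra hcon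
    push Not at hcon
    exact hu (hnd.1 u hcon)
  obtain ⟨v', hv'⟩ := hex'
  exact ⟨(sympB m u v')⁻¹ • v', by
    rw [← sympB_eq_sympForm, map_smul, smul_eq_mul, inv_mul_cancel₀ hv']⟩

/-- Sp_{2m}(F) is transitive on non-zero vectors. -/
theorem result {F : Type*} [Field F] (m : ℕ) (v w : Fin m ⊕ Fin m → F) (hv : v ≠ 0) (hw : w ≠ 0) : ∃ g : Matrix.symplecticGroup (Fin m) F, (g : Matrix (Fin m ⊕ Fin m) (Fin m ⊕ Fin m) F).mulVec v = w := by
  obtain ⟨v', hv'⟩ := exists_partner m v hv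
  obtain ⟨w', hw'⟩ := exists_partner m w hw
  obtain ⟨A, -, hA, -⟩ := exists_closure_pair m v v' w w' hv' hw'
  exact ⟨A, hA⟩

end Cfsg.Agent.S0271
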