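import Cfsg.Statements.S0269
import Mathlib
import Cfsg.Agent.Lib.Helper18.Symp
import Cfsg.Agent.Lib.Helper47.ClassicalEmb
import Cfsg.Agent.S0271

set_option autoImplicit false
open Cfsg

namespace Cfsg.Agent.S0269

open Matrix Cfsg.Agent.Lib.Helper18 Cfsg.Agent.Lib.Helper47
open scoped commutatorElement

section Siegel

variable {F : Type*} [Field F] {m : ℕ}

/-- Siegel unipotent `[[1, S], [0, 1]]` for symmetric `S`. -/
def siegel (S : Matrix (Fin m) (Fin m) F) (hS : Sᵀ = S) : symplecticGroup (Fin m) F :=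
  ⟨fromBlocks 1 S 0 1, by
    rw [SymplecticGroup.fromBlocks_mem_iff]
    simp [hS]⟩

theorem siegel_coe (S : Matrix (Fin m) (Fin m) F) (hS : Sᵀ = S) :
    (siegel S hS : Matrix (Fin m ⊕ Fin m) (Fin m ⊕ Fin m) F) = fromBlocks 1 S 0 1 := rfl

theorem siegel_mul (S S' : Matrix (Fin m) (Fin m) F) (hS : Sᵀ = S) (hS' : S'ᵀ = S') :
    siegel S hS * siegel S' hS' = siegel (S + S') (by rw [transpose_add, hS, hS']) := by
  apply Subtype.ext
  show fromBlocks 1 S 0 1 * fromBlocks 1 S' 0 1 = fromBlocks 1 (S + S') 0 1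
  rw [fromBlocks_multiply]
  simp [add_comm]

theorem siegel_inv (S : Matrix (Fin m) (Fin m) F) (hS : Sᵀ = S) :
    (siegel S hS)⁻¹ = siegel (-S) (by rw [transpose_neg, hS]) := by
  apply inv_eq_of_mul_eq_one_right
  rw [siegel_mul]
  apply Subtype.ext
  show fromBlocks 1 (S + -S) 0 1 = 1
  rw [add_neg_cancel, fromBlocks_one]

theorem conj_siegel (x : GL (Fin m) F) (S : Matrix (Fin m) (Fin m) F) (hS : Sᵀ = S) :
    spEmb m F x * siegel S hS * (spEmb m F x)⁻¹ =
      siegel ((x : Matrix (Fin m) (Fin m) F) * S * (x : Matrix (Fin m) (Fin m) F)ᵀ)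
        (by rw [transpose_mul, transpose_mul, transpose_transpose, hS, Matrix.mul_assoc]) := by
  rw [mul_inv_eq_iff_eq_mul]
  apply Subtype.ext
  show fromBlocks (x : Matrix (Fin m) (Fin m) F) 0 0 ((x⁻¹ : GL (Fin m) F) : Matrix (Fin m) (Fin m) F)ᵀ *
      fromBlocks 1 S 0 1 =
    fromBlocks 1 ((x : Matrix (Fin m) (Fin m) F) * S * (x : Matrix (Fin m) (Fin m) F)ᵀ) 0 1 *
      fromBlocks (x : Matrix (Fin m) (Fin m) F) 0 0 ((x⁻¹ : GL (Fin m) F) : Matrix (Fin m) (Fin m) F)ᵀ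
  rw [fromBlocks_multiply, fromBlocks_multiply]
  have h1 : (x : Matrix (Fin m) (Fin m) F)ᵀ * ((x⁻¹ : GL (Fin m) F) : Matrix (Fin m) (Fin m) F)ᵀ = 1 := by
    rw [← transpose_mul, ← Units.val_mul, inv_mul_cancel, Units.val_one, transpose_one]
  simp only [Matrix.mul_one, Matrix.one_mul, Matrix.mul_zero, Matrix.zero_mul, add_zero, zero_add,
    Matrix.mul_assoc, h1]

theorem comm_siegel (x : GL (Fin m) F) (S : Matrix (Fin m) (Fin m) F) (hS : Sᵀ = S) :
    ((⁅spEmb m F x, siegel S hS⁆ : symplecticGroup (Fin m) F) : Matrix (Fin m ⊕ Fin m) (Fin m ⊕ Fin m) F) =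
      fromBlocks 1 ((x : Matrix (Fin m) (Fin m) F) * S * (x : Matrix (Fin m) (Fin m) F)ᵀ + -S) 0 1 := by
  rw [commutatorElement_def, conj_siegel, siegel_inv, siegel_mul]
  rfl

/-- `[[1,S],[0,1]]` lies in the commutator subgroup. -/
def InComm (S : Matrix (Fin m) (Fin m) F) : Prop :=
  ∃ g ∈ commutator (symplecticGroup (Fin m) F),
    (g : Matrix (Fin m ⊕ Fin m) (Fin m ⊕ Fin m) F) = fromBlocks 1 S 0 1

theorem InComm.add {S S' : Matrix (Fin m) (Fin m) F} (h : InComm S) (h' : InComm S') :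
    InComm (S + S') := by
  obtain ⟨g, hg, e⟩ := h
  obtain ⟨g', hg', e'⟩ := h'
  refine ⟨g * g', mul_mem hg hg', ?_⟩
  show (g : Matrix (Fin m ⊕ Fin m) (Fin m ⊕ Fin m) F) * (g' : Matrix (Fin m ⊕ Fin m) (Fin m ⊕ Fin m) F) = _
  rw [e, e', fromBlocks_multiply]
  simp [add_comm]

theorem inComm_conj (x : GL (Fin m) F) (S : Matrix (Fin m) (Fin m) F) (hS : Sᵀ = S) :
    InComm ((x : Matrix (Fin m) (Fin m) F) * S * (x : Matrix (Fin m) (Fin m) F)ᵀ + -S) :=
  ⟨⁅spEmb m F x, siegel S hS⁆,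
    Subgroup.commutator_mem_commutator (Subgroup.mem_top _) (Subgroup.mem_top _), comm_siegel x S hS⟩

theorem inComm_R (x : GL (Fin m) F) (a : Fin m → F) (c : F) :
    InComm (c • (vecMulVec ((x : Matrix (Fin m) (Fin m) F) *ᵥ a) ((x : Matrix (Fin m) (Fin m) F) *ᵥ a)
      - vecMulVec a a)) := by
  have h := inComm_conj x (c • vecMulVec a a) (by rw [transpose_smul, transpose_vecMulVec])
  convert h using 1
  rw [Matrix.mul_smul, Matrix.smul_mul, mul_vecMulVec, vecMulVec_mul, vecMul_transpose, smul_sub,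
    sub_eq_add_neg]

theorem inComm_H (x : GL (Fin m) F) (a b : Fin m → F) (c : F) :
    InComm (c • ((vecMulVec ((x : Matrix (Fin m) (Fin m) F) *ᵥ a) ((x : Matrix (Fin m) (Fin m) F) *ᵥ b)
      + vecMulVec ((x : Matrix (Fin m) (Fin m) F) *ᵥ b) ((x : Matrix (Fin m) (Fin m) F) *ᵥ a))
      - (vecMulVec a b + vecMulVec b a))) := by
  have h := inComm_conj x (c • (vecMulVec a b + vecMulVec b a))
    (by rw [transpose_smul, transpose_add, transpose_vecMulVec, transpose_vecMulVec, add_comm])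
  convert h using 1
  rw [Matrix.mul_smul, Matrix.smul_mul, Matrix.mul_add, Matrix.add_mul, mul_vecMulVec, mul_vecMulVec,
    vecMulVec_mul, vecMulVec_mul, vecMul_transpose, vecMul_transpose, smul_sub, sub_eq_add_neg]

/-- the transvection `1 + t E_ij` in `GL`. -/
noncomputable def tv (i j : Fin m) (hij : i ≠ j) (t : F) : GL (Fin m) F :=
  GeneralLinearGroup.mkOfDetNeZero (Matrix.transvection i j t)
    (by rw [det_transvection_of_ne i j hij]; exact one_ne_zero)

theorem tv_mulVec (i j : Fin m) (hij : i ≠ j) (t : F) (v : Fin m → F) :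
    ((tv i j hij t : GL (Fin m) F) : Matrix (Fin m) (Fin m) F) *ᵥ v = v + (t * v j) • Pi.single i (1 : F) := by
  show (Matrix.transvection i j t) *ᵥ v = _
  rw [Matrix.transvection, add_mulVec, one_mulVec, single_mulVec_eq]

/-- the symplectic transvection as a group element. -/
def tvec (w : Fin m ⊕ Fin m → F) (c : F) : symplecticGroup (Fin m) F :=
  ⟨Cfsg.sympTransvection m w c, sympTransvection_mem m w c⟩

theorem sympTransvection_elim (a : Fin m → F) (c : F) :
    Cfsg.sympTransvection m (Sum.elim a 0) c = fromBlocks 1 (c • vecMulVec a a) 0 1 := by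
  unfold Cfsg.sympTransvection
  have h1 : Matrix.J (Fin m) F *ᵥ (Sum.elim a (0 : Fin m → F)) = Sum.elim (0 : Fin m → F) a := by
    rw [Matrix.J, fromBlocks_mulVec]
    simp
  have h2 : vecMulVec (Sum.elim a (0 : Fin m → F)) (Sum.elim (0 : Fin m → F) a) =
      fromBlocks 0 (vecMulVec a a) 0 0 := by
    ext (i | i) (j | j) <;> simp [vecMulVec_apply]
  rw [h1, h2, fromBlocks_smul, ← fromBlocks_one, fromBlocks_add]
  simp

theorem sympTransvection_conj (g : Matrix (Fin m ⊕ Fin m) (Fin m ⊕ Fin m) F)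
    (hg : g ∈ symplecticGroup (Fin m) F) (u : Fin m ⊕ Fin m → F) (c : F) :
    Cfsg.sympTransvection m (g *ᵥ u) c * g = g * Cfsg.sympTransvection m u c := by
  unfold Cfsg.sympTransvection
  have h1 : (Matrix.J (Fin m) F *ᵥ (g *ᵥ u)) ᵥ* g = Matrix.J (Fin m) F *ᵥ u := by
    have : (Matrix.J (Fin m) F *ᵥ (g *ᵥ u)) ᵥ* g = gᵀ *ᵥ (Matrix.J (Fin m) F *ᵥ (g *ᵥ u)) :=
      (mulVec_transpose g _).symm
    rw [this, mulVec_mulVec, mulVec_mulVec, SymplecticGroup.mem_iff'.1 hg]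
  rw [Matrix.add_mul, Matrix.mul_add, Matrix.one_mul, Matrix.mul_one, Matrix.smul_mul, Matrix.mul_smul,
    vecMulVec_mul, mul_vecMulVec, h1]

theorem perfect_of (i₀ : Fin m)
    (hkey : ∀ c : F, InComm (c • vecMulVec (Pi.single i₀ (1 : F)) (Pi.single i₀ (1 : F)))) :
    commutator (symplecticGroup (Fin m) F) = ⊤ := by
  rw [eq_top_iff, ← closure_sympTransvection_eq_top, Subgroup.closure_le]
  rintro A ⟨w, c, hA⟩
  by_cases hw : w = 0
  · have : A = 1 := by
      apply Subtype.ext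
      rw [hA, hw]
      unfold Cfsg.sympTransvection
      simp
    rw [this]
    exact one_mem _
  · have hne : (Sum.elim (Pi.single i₀ (1 : F)) 0 : Fin m ⊕ Fin m → F) ≠ 0 := by
      intro h
      have := congrFun h (Sum.inl i₀)
      simp at this
    obtain ⟨g, hg⟩ := Cfsg.Agent.S0271.result m _ w hne hw
    obtain ⟨t, ht, hte⟩ := hkey c
    have hA' : A = g * t * g⁻¹ := by
      rw [eq_mul_inv_iff_mul_eq]
      apply Subtype.ext
      show (A : Matrix (Fin m ⊕ Fin m) (Fin m ⊕ Fin m) F) * (g : Matrix (Fin m ⊕ Fin m) (Fin m ⊕ Fin m) F) =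
        (g : Matrix (Fin m ⊕ Fin m) (Fin m ⊕ Fin m) F) * (t : Matrix (Fin m ⊕ Fin m) (Fin m ⊕ Fin m) F)
      rw [hA, hte, ← sympTransvection_elim, ← hg]
      exact sympTransvection_conj g.1 g.2 _ c
    rw [hA']
    exact (inferInstance : (commutator (symplecticGroup (Fin m) F)).Normal).conj_mem t ht g

end Siegel

section Cases

variable {F : Type*} [Field F] {m : ℕ}

theorem key_three (i₀ i₁ i₂ : Fin m) (h01 : i₀ ≠ i₁) (h12 : i₁ ≠ i₂) (h02 : i₀ ≠ i₂) (c : F) :
    InComm (c • vecMulVec (Pi.single i₀ (1 : F)) (Pi.single i₀ (1 : F))) := by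
  have h1 := inComm_R (tv i₀ i₁ h01 1) (Pi.single i₁ (1:F)) c
  have h2 := inComm_H (tv i₁ i₂ h12 1) (Pi.single i₀ (1:F)) (Pi.single i₂ (1:F)) (-c)
  rw [tv_mulVec] at h1
  rw [tv_mulVec, tv_mulVec] at h2
  have e1 : (1 * (Pi.single i₁ (1:F) : Fin m → F) i₁) = 1 := by simp
  have e2 : (1 * (Pi.single i₀ (1:F) : Fin m → F) i₂) = 0 := by
    simp [h02.symm]
  have e3 : (1 * (Pi.single i₂ (1:F) : Fin m → F) i₂) = 1 := by simp
  rw [e1, one_smul] at h1
  rw [e2, e3, zero_smul, one_smul, add_zero] at h2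
  convert h1.add h2 using 1
  simp only [vecMulVec_add, add_vecMulVec, smul_add, smul_sub, neg_smul]
  abel

theorem key_two (i₀ i₁ : Fin m) (h01 : i₀ ≠ i₁) (h2ne : (2 : F) ≠ 0) (c : F) :
    InComm (c • vecMulVec (Pi.single i₀ (1 : F)) (Pi.single i₀ (1 : F))) := by
  have h1 := inComm_R (tv i₀ i₁ h01 1) (Pi.single i₁ (1:F)) (c / 2)
  have h2 := inComm_R (tv i₀ i₁ h01 (-1)) (Pi.single i₁ (1:F)) (c / 2)
  rw [tv_mulVec] at h1 h2
  have e1 : (1 * (Pi.single i₁ (1:F) : Fin m → F) i₁) = 1 := by simp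
  have e2 : ((-1) * (Pi.single i₁ (1:F) : Fin m → F) i₁) = -1 := by simp
  rw [e1, one_smul] at h1
  rw [e2] at h2
  convert h1.add h2 using 1
  ext i j
  simp only [vecMulVec_apply, Matrix.smul_apply, Matrix.add_apply, Matrix.sub_apply, Pi.add_apply,
    Pi.smul_apply, smul_eq_mul]
  field_simp
  ring

theorem key_scalar (i₀ : Fin m) (l : F) (hl0 : l ≠ 0) (hl : l ^ 2 - 1 ≠ 0) (c : F) :
    InComm (c • vecMulVec (Pi.single i₀ (1 : F)) (Pi.single i₀ (1 : F))) := by
  have hdet : (l • (1 : Matrix (Fin m) (Fin m) F)).det ≠ 0 := by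
    rw [Matrix.det_smul, Matrix.det_one, mul_one]
    exact pow_ne_zero _ hl0
  have h1 := inComm_R (GeneralLinearGroup.mkOfDetNeZero (l • (1 : Matrix (Fin m) (Fin m) F)) hdet)
    (Pi.single i₀ (1:F)) (c / (l ^ 2 - 1))
  have e1 : ((GeneralLinearGroup.mkOfDetNeZero (l • (1 : Matrix (Fin m) (Fin m) F)) hdet : GL (Fin m) F) :
      Matrix (Fin m) (Fin m) F) *ᵥ (Pi.single i₀ (1:F)) = l • Pi.single i₀ (1:F) := by
    show (l • (1 : Matrix (Fin m) (Fin m) F)) *ᵥ (Pi.single i₀ (1:F)) = _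
    rw [Matrix.smul_mulVec, Matrix.one_mulVec]
  rw [e1] at h1
  convert h1 using 1
  ext i j
  simp only [vecMulVec_apply, Matrix.smul_apply, Matrix.sub_apply, Pi.smul_apply, smul_eq_mul]
  field_simp

end Cases

/-- Sp_{2m}(q) is perfect except for Sp_2(2), Sp_2(3) and Sp_4(2): stated as m at least 3, or m = 2 and q at least 3, or q at least 4. -/
theorem result {F : Type*} [Field F] [Fintype F] (m : ℕ) (h : 3 ≤ m ∨ (m = 2 ∧ 3 ≤ Fintype.card F) ∨ 4 ≤ Fintype.card F) : commutator (Matrix.symplecticGroup (Fin m) F) = ⊤ := by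
  classical
  rcases Nat.eq_zero_or_pos m with hm0 | hmpos
  · subst hm0
    haveI : Subsingleton (Matrix.symplecticGroup (Fin 0) F) :=
      ⟨fun a b => Subtype.ext (Subsingleton.elim _ _)⟩
    exact Subsingleton.elim _ _
  have hB : 4 ≤ Fintype.card F → commutator (Matrix.symplecticGroup (Fin m) F) = ⊤ := by
    intro h4
    obtain ⟨l, hl0, hl1, hl2⟩ : ∃ l : F, l ≠ 0 ∧ l ≠ 1 ∧ l ≠ -1 := by
      by_contra hcon
      push Not at hcon
      have hsub : (Finset.univ : Finset F) ⊆ {0, 1, -1} := by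
        intro x _
        by_cases hx0 : x = 0
        · simp [hx0]
        by_cases hx1 : x = 1
        · simp [hx1]
        simp [hcon x hx0 hx1]
      have h5 := Finset.card_le_card hsub
      have h3 : ({0, 1, -1} : Finset F).card ≤ 3 := Finset.card_le_three
      rw [Finset.card_univ] at h5
      omega
    have hl : l ^ 2 - 1 ≠ 0 := by
      intro h
      have h6 : (l - 1) * (l + 1) = 0 := by linear_combination h
      rcases mul_eq_zero.1 h6 with h7 | h7
      · exact hl1 (sub_eq_zero.1 h7)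
      · exact hl2 (eq_neg_of_add_eq_zero_left h7)
    exact perfect_of ⟨0, hmpos⟩ (fun c => key_scalar ⟨0, hmpos⟩ l hl0 hl c)
  rcases h with h3 | ⟨h2, hq⟩ | h4
  · exact perfect_of ⟨0, by omega⟩ (fun c => key_three ⟨0, by omega⟩ ⟨1, by omega⟩ ⟨2, by omega⟩
      (by simp [Fin.ext_iff]) (by simp [Fin.ext_iff]) (by simp [Fin.ext_iff]) c)
  · by_cases h4 : 4 ≤ Fintype.card F
    · exact hB h4
    · have hcard : Fintype.card F = 3 := by omega
      have h2ne : (2 : F) ≠ 0 := by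
        intro h20
        haveI : Fact (Nat.Prime 2) := ⟨Nat.prime_two⟩
        have h1 : addOrderOf (1 : F) = 2 :=
          addOrderOf_eq_prime (by rw [two_nsmul, one_add_one_eq_two, h20]) one_ne_zero
        have h2' := addOrderOf_dvd_card (x := (1 : F))
        rw [h1, hcard] at h2'
        omega
      exact perfect_of ⟨0, by omega⟩ (fun c => key_two ⟨0, by omega⟩ ⟨1, by omega⟩
        (by simp [Fin.ext_iff]) h2ne c)
  · exact hB h4

end Cfsg.Agent.S0269
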