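import Cfsg.Statements.S0270
import Mathlib
import Cfsg.Agent.Lib.Helper18.Symp
import Cfsg.Agent.S0271
import Cfsg.Agent.S0269

set_option autoImplicit false
open Cfsg

namespace Cfsg.Agent.S0270

open Matrix Cfsg.Agent.Lib.Helper18 Cfsg.Agent.S0269
open scoped LinearAlgebra.Projectivization Pointwise

section Vec

variable {F : Type*} [Field F] {m : ℕ}

theorem B_swap (x y : Fin m ⊕ Fin m → F) : sympB m x y = - sympB m y x := by
  rw [(sympB_isAlt (F := F) m).neg_eq y x]

theorem B_self (x : Fin m ⊕ Fin m → F) : sympB m x x = 0 := (sympB_isAlt (F := F) m).self_eq_zero x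

theorem exists_ne (a : Fin m ⊕ Fin m → F) (ha : a ≠ 0) : ∃ x, sympB m a x ≠ 0 := by
  obtain ⟨v, hv⟩ := Cfsg.Agent.S0271.exists_partner m a ha
  refine ⟨v, ?_⟩
  rw [sympB_eq_sympForm, hv]
  exact one_ne_zero

/-- a vector non-orthogonal to two given nonzero vectors. -/
theorem exists_both (a b : Fin m ⊕ Fin m → F) (ha : a ≠ 0) (hb : b ≠ 0) :
    ∃ x, sympB m a x ≠ 0 ∧ sympB m x b ≠ 0 := by
  obtain ⟨x₁, h1⟩ := exists_ne a ha
  obtain ⟨x₂, h2⟩ := exists_ne b hb
  have h2' : sympB m x₂ b ≠ 0 := by rw [B_swap]; exact neg_ne_zero.2 h2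
  by_cases h3 : sympB m x₁ b = 0
  · by_cases h4 : sympB m a x₂ = 0
    · refine ⟨x₁ + x₂, ?_, ?_⟩
      · rw [map_add, h4, add_zero]; exact h1
      · rw [map_add, LinearMap.add_apply, h3, zero_add]; exact h2'
    · exact ⟨x₂, h4, h2'⟩
  · exact ⟨x₁, h1, h3⟩

/-- a vector orthogonal to `q` but not to `p`, for non-proportional `p`, `q`. -/
theorem exists_sep (p q : Fin m ⊕ Fin m → F) (hq : q ≠ 0) (hpq : ¬ ∃ a : F, a • q = p) :
    ∃ x, sympB m x q = 0 ∧ sympB m p x ≠ 0 := by
  by_contra hcon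
  push Not at hcon
  obtain ⟨y, hy⟩ := Cfsg.Agent.S0271.exists_partner m q hq
  rw [← sympB_eq_sympForm] at hy
  have hyq : sympB m y q = -1 := by rw [B_swap, hy]
  apply hpq
  refine ⟨sympB m p y, ?_⟩
  have hnd := sympB_nondegenerate (F := F) m
  have key : ∀ x, sympB m (p - (sympB m p y) • q) x = 0 := by
    intro x
    have h1 : sympB m (x + sympB m x q • y) q = 0 := by
      rw [map_add, LinearMap.add_apply, map_smul, LinearMap.smul_apply, hyq]
      simp
    have h2 := hcon _ h1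
    rw [map_add, map_smul, smul_eq_mul] at h2
    rw [map_sub, LinearMap.sub_apply, map_smul, LinearMap.smul_apply, smul_eq_mul, B_swap q x]
    linear_combination h2
  have := hnd.1 _ key
  exact (sub_eq_zero.1 this).symm

end Vec

section Tv

variable {F : Type*} [Field F] {m : ℕ}

theorem tvec_apply (w : Fin m ⊕ Fin m → F) (c : F) (x : Fin m ⊕ Fin m → F) :
    (tvec w c : Matrix (Fin m ⊕ Fin m) (Fin m ⊕ Fin m) F) *ᵥ x = x + (c * sympB m x w) • w := by
  show Cfsg.sympTransvection m w c *ᵥ x = _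
  rw [← Matrix.toLin'_apply, toLin'_sympTransvection, transv_apply]

theorem tvec_mul (w : Fin m ⊕ Fin m → F) (c d : F) : tvec w c * tvec w d = tvec w (c + d) := by
  apply Subtype.ext
  show Cfsg.sympTransvection m w c * Cfsg.sympTransvection m w d = Cfsg.sympTransvection m w (c + d)
  apply Matrix.toLin'.injective
  rw [Matrix.toLin'_mul, toLin'_sympTransvection, toLin'_sympTransvection, toLin'_sympTransvection,
    ← transv_mul (sympB_isAlt m)]
  rfl

theorem tvec_zero (w : Fin m ⊕ Fin m → F) : tvec w 0 = 1 := by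
  apply Subtype.ext
  show Cfsg.sympTransvection m w 0 = 1
  unfold Cfsg.sympTransvection
  simp

theorem tvec_inv (w : Fin m ⊕ Fin m → F) (c : F) : (tvec w c)⁻¹ = tvec w (-c) := by
  apply inv_eq_of_mul_eq_one_right
  rw [tvec_mul, add_neg_cancel, tvec_zero]

theorem tvec_smul (a : F) (w : Fin m ⊕ Fin m → F) (c : F) : tvec (a • w) c = tvec w (a ^ 2 * c) := by
  apply Subtype.ext
  show Cfsg.sympTransvection m (a • w) c = Cfsg.sympTransvection m w (a ^ 2 * c)
  unfold Cfsg.sympTransvection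
  rw [Matrix.mulVec_smul, smul_vecMulVec, vecMulVec_smul, smul_smul, smul_smul]
  congr 2
  ring

theorem tvec_conj (g : symplecticGroup (Fin m) F) (w : Fin m ⊕ Fin m → F) (c : F) :
    g * tvec w c * g⁻¹ = tvec ((g : Matrix (Fin m ⊕ Fin m) (Fin m ⊕ Fin m) F) *ᵥ w) c := by
  rw [mul_inv_eq_iff_eq_mul]
  apply Subtype.ext
  exact (sympTransvection_conj g.1 g.2 w c).symm

/-- the root subgroup of a vector. -/
def rootSub (w : Fin m ⊕ Fin m → F) : Subgroup (symplecticGroup (Fin m) F) where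
  carrier := {g | ∃ c : F, g = tvec w c}
  one_mem' := ⟨0, (tvec_zero w).symm⟩
  mul_mem' := by
    rintro _ _ ⟨c, rfl⟩ ⟨d, rfl⟩
    exact ⟨c + d, tvec_mul w c d⟩
  inv_mem' := by
    rintro _ ⟨c, rfl⟩
    exact ⟨-c, tvec_inv w c⟩

theorem mem_rootSub (w : Fin m ⊕ Fin m → F) (g : symplecticGroup (Fin m) F) :
    g ∈ rootSub w ↔ ∃ c : F, g = tvec w c := Iff.rfl

theorem rootSub_smul (a : F) (ha : a ≠ 0) (w : Fin m ⊕ Fin m → F) : rootSub (a • w) = rootSub w := by
  ext g
  rw [mem_rootSub, mem_rootSub]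
  constructor
  · rintro ⟨c, rfl⟩
    exact ⟨a ^ 2 * c, tvec_smul a w c⟩
  · rintro ⟨c, rfl⟩
    refine ⟨c / a ^ 2, ?_⟩
    rw [tvec_smul]
    congr 1
    field_simp

theorem rootSub_conj (g : symplecticGroup (Fin m) F) (w : Fin m ⊕ Fin m → F) :
    rootSub ((g : Matrix (Fin m ⊕ Fin m) (Fin m ⊕ Fin m) F) *ᵥ w) = MulAut.conj g • rootSub w := by
  ext h
  rw [Subgroup.mem_pointwise_smul_iff_inv_smul_mem, mem_rootSub, mem_rootSub]
  simp only [MulAut.smul_def, MulAut.conj_inv_apply]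
  constructor
  · rintro ⟨c, rfl⟩
    refine ⟨c, ?_⟩
    rw [← tvec_conj]
    group
  · rintro ⟨c, hc⟩
    refine ⟨c, ?_⟩
    rw [← tvec_conj, ← hc]
    group

end Tv

section Prim

variable {F : Type*} [Field F] {m : ℕ}

instance pretrans :
    MulAction.IsPretransitive (symplecticGroup (Fin m) F) (ℙ F (Fin m ⊕ Fin m → F)) := by
  constructor
  intro p q
  induction p using Projectivization.ind with | _ v hv =>
  induction q using Projectivization.ind with | _ w hw =>
  obtain ⟨g, hg⟩ := Cfsg.Agent.S0271.result m v w hv hw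
  refine ⟨g, ?_⟩
  rw [Projectivization.smul_mk, Projectivization.mk_eq_mk_iff']
  exact ⟨1, by rw [one_smul]; exact hg.symm⟩

theorem block_univ (B : Set (ℙ F (Fin m ⊕ Fin m → F)))
    (hB : MulAction.IsBlock (symplecticGroup (Fin m) F) B) (hns : ¬ B.Subsingleton) :
    B = Set.univ := by
  obtain ⟨S, hS⟩ : ∃ S : Set (Fin m ⊕ Fin m → F),
      ∀ v, v ∈ S ↔ ∃ hv : v ≠ 0, Projectivization.mk F v hv ∈ B :=
    ⟨{v | ∃ hv : v ≠ 0, Projectivization.mk F v hv ∈ B}, fun v => Iff.rfl⟩
  have S1 : ∀ v ∈ S, ∀ a : F, a ≠ 0 → a • v ∈ S := by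
    intro v hvS a ha
    obtain ⟨hv, hvB⟩ := (hS v).1 hvS
    refine (hS _).2 ⟨smul_ne_zero ha hv, ?_⟩
    have : Projectivization.mk F (a • v) (smul_ne_zero ha hv) = Projectivization.mk F v hv := by
      rw [Projectivization.mk_eq_mk_iff']
      exact ⟨a, rfl⟩
    rw [this]
    exact hvB
  have S2 : ∀ (g : symplecticGroup (Fin m) F) (u : Fin m ⊕ Fin m → F), u ∈ S →
      (g : Matrix (Fin m ⊕ Fin m) (Fin m ⊕ Fin m) F) *ᵥ u = u →
      ∀ v ∈ S, (g : Matrix (Fin m ⊕ Fin m) (Fin m ⊕ Fin m) F) *ᵥ v ∈ S := by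
    intro g u huS hgu v hvS
    obtain ⟨hu, huB⟩ := (hS u).1 huS
    obtain ⟨hv, hvB⟩ := (hS v).1 hvS
    have h1 : g • Projectivization.mk F u hu ∈ B := by
      rw [Projectivization.smul_mk]
      have : Projectivization.mk F (g • u) ((smul_ne_zero_iff_ne g).mpr hu) =
          Projectivization.mk F u hu := by
        rw [Projectivization.mk_eq_mk_iff']
        exact ⟨1, by rw [one_smul]; exact hgu.symm⟩
      rw [this]
      exact huB
    have h2 : g • B = B := hB.smul_eq_of_mem huB h1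
    refine (hS _).2 ⟨(smul_ne_zero_iff_ne g).mpr hv, ?_⟩
    have h3 : g • Projectivization.mk F v hv ∈ g • B := Set.smul_mem_smul_set hvB
    rw [h2] at h3
    exact h3
  have N1 : ∀ u ∈ S, ∀ v ∈ S, sympB m u v ≠ 0 → ∀ w, sympB m u w ≠ 0 → w ∈ S := by
    intro u hu v hv huv w huw
    have e1 : Cfsg.sympForm m F u ((sympB m u v)⁻¹ • v) = 1 := by
      rw [← sympB_eq_sympForm, map_smul, smul_eq_mul, inv_mul_cancel₀ huv]
    have e2 : Cfsg.sympForm m F u ((sympB m u w)⁻¹ • w) = 1 := by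
      rw [← sympB_eq_sympForm, map_smul, smul_eq_mul, inv_mul_cancel₀ huw]
    obtain ⟨A, -, hAu, hAv⟩ := exists_closure_pair m u _ u _ e1 e2
    have h1 := S2 A u hu hAu v hv
    have h2 : (A : Matrix (Fin m ⊕ Fin m) (Fin m ⊕ Fin m) F) *ᵥ v =
        (sympB m u v * (sympB m u w)⁻¹) • w := by
      calc (A : Matrix (Fin m ⊕ Fin m) (Fin m ⊕ Fin m) F) *ᵥ v
          = (A : Matrix (Fin m ⊕ Fin m) (Fin m ⊕ Fin m) F) *ᵥ (sympB m u v • ((sympB m u v)⁻¹ • v)) := by
            rw [smul_smul, mul_inv_cancel₀ huv, one_smul]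
        _ = (sympB m u v * (sympB m u w)⁻¹) • w := by
            rw [Matrix.mulVec_smul, hAv, smul_smul]
    rw [h2] at h1
    have hne : sympB m u v * (sympB m u w)⁻¹ ≠ 0 := mul_ne_zero huv (inv_ne_zero huw)
    have h3 := S1 _ h1 ((sympB m u v * (sympB m u w)⁻¹)⁻¹) (inv_ne_zero hne)
    rwa [smul_smul, inv_mul_cancel₀ hne, one_smul] at h3
  have N2 : ∀ u ∈ S, ∀ v ∈ S, sympB m u v ≠ 0 → ∀ w, w ≠ 0 → w ∈ S := by
    intro u hu v hv huv w hw
    by_cases huw : sympB m u w = 0
    · obtain ⟨x, hx1, hx2⟩ := exists_both u w ((hS u).1 hu).1 hw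
      have hxS := N1 u hu v hv huv x hx1
      have hxu : sympB m x u ≠ 0 := by rw [B_swap]; exact neg_ne_zero.2 hx1
      exact N1 x hxS u hu hxu w hx2
    · exact N1 u hu v hv huv w huw
  rw [Set.not_subsingleton_iff] at hns
  obtain ⟨p, hp, q, hq, hpq⟩ := hns
  have hpS : p.rep ∈ S := (hS _).2 ⟨p.rep_nonzero, by rw [Projectivization.mk_rep]; exact hp⟩
  have hqS : q.rep ∈ S := (hS _).2 ⟨q.rep_nonzero, by rw [Projectivization.mk_rep]; exact hq⟩
  have hall : ∀ w : Fin m ⊕ Fin m → F, w ≠ 0 → w ∈ S := by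
    by_cases h0 : sympB m p.rep q.rep = 0
    · have hnp : ¬ ∃ a : F, a • q.rep = p.rep := by
        intro hex
        apply hpq
        rw [← Projectivization.mk_rep p, ← Projectivization.mk_rep q, Projectivization.mk_eq_mk_iff']
        exact hex
      obtain ⟨x, hx1, hx2⟩ := exists_sep p.rep q.rep q.rep_nonzero hnp
      have hAq : (tvec x 1 : Matrix (Fin m ⊕ Fin m) (Fin m ⊕ Fin m) F) *ᵥ q.rep = q.rep := by
        rw [tvec_apply, B_swap, hx1]
        simp
      have h1 := S2 (tvec x 1) q.rep hqS hAq p.rep hpS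
      rw [tvec_apply, one_mul] at h1
      have h2 : sympB m p.rep (p.rep + sympB m p.rep x • x) ≠ 0 := by
        rw [map_add, map_smul, B_self, zero_add, smul_eq_mul]
        exact mul_ne_zero hx2 hx2
      exact N2 p.rep hpS _ h1 h2
    · exact N2 p.rep hpS q.rep hqS h0
  apply Set.eq_univ_of_forall
  intro r
  obtain ⟨hr, hrB⟩ := (hS _).1 (hall r.rep r.rep_nonzero)
  rwa [Projectivization.mk_rep] at hrB

instance preprim :
    MulAction.IsPreprimitive (symplecticGroup (Fin m) F) (ℙ F (Fin m ⊕ Fin m → F)) where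
  isTrivialBlock_of_isBlock := by
    intro B hB
    by_cases hs : B.Subsingleton
    · exact Or.inl hs
    · exact Or.inr (block_univ B hB hs)

/-- the Iwasawa structure of the symplectic group on projective points. -/
noncomputable def iwasawa :
    MulAction.IwasawaStructure (symplecticGroup (Fin m) F) (ℙ F (Fin m ⊕ Fin m → F)) where
  T p := rootSub p.rep
  is_comm p := ⟨⟨fun a b => by
    obtain ⟨c, hc⟩ := a.2
    obtain ⟨d, hd⟩ := b.2
    apply Subtype.ext
    show (a : symplecticGroup (Fin m) F) * b = b * a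
    rw [hc, hd, tvec_mul, tvec_mul, add_comm]⟩⟩
  is_conj g p := by
    have h1 : g • p = Projectivization.mk F ((g : Matrix (Fin m ⊕ Fin m) (Fin m ⊕ Fin m) F) *ᵥ p.rep)
        ((smul_ne_zero_iff_ne g).mpr p.rep_nonzero) := by
      conv_lhs => rw [← Projectivization.mk_rep p]
      rfl
    obtain ⟨a, ha⟩ := Projectivization.exists_smul_eq_mk_rep F
      ((g : Matrix (Fin m ⊕ Fin m) (Fin m ⊕ Fin m) F) *ᵥ p.rep)
      ((smul_ne_zero_iff_ne g).mpr p.rep_nonzero)
    show rootSub (g • p).rep = MulAut.conj g • rootSub p.rep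
    rw [h1, ← ha, ← rootSub_conj]
    exact rootSub_smul (a : F) a.ne_zero _
  is_generator := by
    rw [eq_top_iff, ← closure_sympTransvection_eq_top, Subgroup.closure_le]
    rintro A ⟨w, c, hA⟩
    by_cases hw : w = 0
    · have : A = 1 := by
        apply Subtype.ext
        rw [hA, hw]
        unfold Cfsg.sympTransvection
        simp
      rw [this]
      exact one_mem _
    · obtain ⟨a, ha⟩ := Projectivization.exists_smul_eq_mk_rep F w hw
      apply Subgroup.mem_iSup_of_mem (Projectivization.mk F w hw)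
      show A ∈ rootSub (Projectivization.mk F w hw).rep
      rw [← ha, Units.smul_def, rootSub_smul _ a.ne_zero]
      exact ⟨c, Subtype.ext hA⟩

theorem central_of_fix (g : symplecticGroup (Fin m) F)
    (hg : ∀ p : ℙ F (Fin m ⊕ Fin m → F), g • p = p) :
    g ∈ Subgroup.center (symplecticGroup (Fin m) F) := by
  obtain ⟨a, ha⟩ := (Matrix.toLin' (g : Matrix (Fin m ⊕ Fin m) (Fin m ⊕ Fin m) F)).exists_eq_smul_id_of_forall_notLinearIndependent
    (fun v => by
      by_cases hv : v = 0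
      · simp [hv, linearIndependent_fin2]
      · rw [LinearIndependent.pair_iff' hv]
        push Not
        have h1 := hg (Projectivization.mk F v hv)
        rw [Projectivization.smul_mk, Projectivization.mk_eq_mk_iff'] at h1
        obtain ⟨b, hb⟩ := h1
        exact ⟨b, by rw [hb]; rfl⟩)
  have hscalar : (g : Matrix (Fin m ⊕ Fin m) (Fin m ⊕ Fin m) F) = Matrix.scalar _ a := by
    calc (g : Matrix (Fin m ⊕ Fin m) (Fin m ⊕ Fin m) F)
        = LinearMap.toMatrix' (Matrix.toLin' (g : Matrix (Fin m ⊕ Fin m) (Fin m ⊕ Fin m) F)) :=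
          (LinearMap.toMatrix'_toLin' _).symm
      _ = LinearMap.toMatrix' (algebraMap F (Module.End F (Fin m ⊕ Fin m → F)) a) := by
          rw [ha, Algebra.algebraMap_eq_smul_one]
      _ = Matrix.scalar _ a := LinearMap.toMatrix'_algebraMap a
  rw [Subgroup.mem_center_iff]
  intro h
  apply Subtype.ext
  show (h : Matrix (Fin m ⊕ Fin m) (Fin m ⊕ Fin m) F) * (g : Matrix (Fin m ⊕ Fin m) (Fin m ⊕ Fin m) F) =
    (g : Matrix (Fin m ⊕ Fin m) (Fin m ⊕ Fin m) F) * (h : Matrix (Fin m ⊕ Fin m) (Fin m ⊕ Fin m) F)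
  rw [hscalar]
  exact (Matrix.scalar_commute a (fun r => Commute.all _ _) _).symm.eq

end Prim

/-- PSp_{2m}(q) is simple for m at least 2 and (m, q) other than (2, 2). -/
theorem result {F : Type*} [Field F] [Fintype F] (m : ℕ) (hm : 2 ≤ m) (h : m = 2 → 3 ≤ Fintype.card F) : IsSimpleGroup (Cfsg.PSp m F) := by
  have hperf : commutator (symplecticGroup (Fin m) F) = ⊤ := by
    apply Cfsg.Agent.S0269.result
    by_cases h2 : m = 2
    · exact Or.inr (Or.inl ⟨h2, h h2⟩)
    · left; omega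
  have hcen : Subgroup.center (symplecticGroup (Fin m) F) ≠ ⊤ := by
    intro htop
    have h1 := (commutator_eq_bot_iff_center_eq_top _).2 htop
    rw [hperf] at h1
    have h2 : tvec (Sum.elim (Pi.single (⟨0, by omega⟩ : Fin m) (1:F)) 0 : Fin m ⊕ Fin m → F) 1 ∈
        (⊥ : Subgroup (symplecticGroup (Fin m) F)) := h1 ▸ Subgroup.mem_top _
    rw [Subgroup.mem_bot] at h2
    have h4 : (tvec (Sum.elim (Pi.single (⟨0, by omega⟩ : Fin m) (1:F)) 0 : Fin m ⊕ Fin m → F) 1 :
        Matrix (Fin m ⊕ Fin m) (Fin m ⊕ Fin m) F) =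
        fromBlocks 1 ((1:F) • vecMulVec (Pi.single (⟨0, by omega⟩ : Fin m) (1:F))
          (Pi.single (⟨0, by omega⟩ : Fin m) (1:F))) 0 1 := sympTransvection_elim _ 1
    rw [h2] at h4
    have h5 := congrFun (congrFun h4 (Sum.inl ⟨0, by omega⟩)) (Sum.inr ⟨0, by omega⟩)
    simp [vecMulVec_apply] at h5
  haveI : Nontrivial (Cfsg.PSp m F) := QuotientGroup.nontrivial_iff.2 hcen
  apply IsSimpleGroup.mk
  intro Nbar hNbar
  have hmap : (Nbar.comap (QuotientGroup.mk' (Subgroup.center (symplecticGroup (Fin m) F)))).map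
      (QuotientGroup.mk' _) = Nbar :=
    Subgroup.map_comap_eq_self_of_surjective (QuotientGroup.mk'_surjective _) Nbar
  haveI : (Nbar.comap (QuotientGroup.mk' (Subgroup.center (symplecticGroup (Fin m) F)))).Normal :=
    hNbar.comap _
  by_cases hfix : MulAction.fixedPoints
      (Nbar.comap (QuotientGroup.mk' (Subgroup.center (symplecticGroup (Fin m) F))))
      (ℙ F (Fin m ⊕ Fin m → F)) = Set.univ
  · left
    have hNc : Nbar.comap (QuotientGroup.mk' (Subgroup.center (symplecticGroup (Fin m) F))) ≤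
        Subgroup.center (symplecticGroup (Fin m) F) := by
      intro g hg
      apply central_of_fix
      intro p
      have hp : p ∈ MulAction.fixedPoints
          (Nbar.comap (QuotientGroup.mk' (Subgroup.center (symplecticGroup (Fin m) F))))
          (ℙ F (Fin m ⊕ Fin m → F)) := by rw [hfix]; trivial
      exact hp ⟨g, hg⟩
    rw [← hmap, eq_bot_iff]
    rintro _ ⟨g, hg, rfl⟩
    rw [Subgroup.mem_bot]
    exact (QuotientGroup.eq_one_iff g).2 (hNc hg)
  · right
    have h1 := iwasawa.commutator_le _ hfix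
    rw [hperf, top_le_iff] at h1
    rw [← hmap, h1]
    exact Subgroup.map_top_of_surjective _ (QuotientGroup.mk'_surjective _)

end Cfsg.Agent.S0270
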