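import Cfsg.Statements.S0132
import Cfsg.Agent.Lib.Helper2.Frob
import Cfsg.Agent.Lib.Helper4.GrpAux
import Cfsg.Agent.Lib.Helper4.NilAux

set_option autoImplicit false
open Cfsg

namespace Cfsg.Agent.S0132

open Cfsg.Agent.Lib.Helper2 in
theorem exists_pair {G : Type*} [Group G] [Finite G] {p : ℕ} [Fact p.Prime]
    (h1 : ¬ Cfsg.HasNormalPComplement p G)
    (h2 : ∀ H : Subgroup G, H ≠ ⊤ → Cfsg.HasNormalPComplement p H) (P : Sylow p G) :
    ∃ g : G, Nat.Coprime (orderOf g) p ∧ (P : Subgroup G) ⊔ Subgroup.zpowers g = ⊤ ∧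
      g ∈ Subgroup.normalizer ((P : Subgroup G) : Set G) ∧
      g ∉ Subgroup.centralizer ((P : Subgroup G) : Set G) := by
  classical
  have hp : p.Prime := Fact.out
  have hF : ¬ FrobCond P := by
    intro hF
    exact h1 ⟨P, Cfsg.pResidual p G, pResidual_normal p, isComplement'_pResidual_of_frobCond P hF⟩
  unfold FrobCond at hF
  push Not at hF
  obtain ⟨Q, hQP, g, hgN, hgo, hgC⟩ := hF
  have hQp : IsPGroup p Q := P.2.to_le hQP
  have hQg : Q ⊔ Subgroup.zpowers g = ⊤ := by
    by_contra hne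
    obtain ⟨PH, N, hN, hc⟩ := h2 _ hne
    have hgH : g ∈ Q ⊔ Subgroup.zpowers g := Subgroup.mem_sup_right (Subgroup.mem_zpowers g)
    have hQH : Q ≤ Q ⊔ Subgroup.zpowers g := le_sup_left
    have hnorm : (⟨g, hgH⟩ : (Q ⊔ Subgroup.zpowers g : Subgroup G)) ∈
        Subgroup.normalizer ((Q.subgroupOf (Q ⊔ Subgroup.zpowers g) : Subgroup _) : Set _) := by
      rw [Subgroup.mem_normalizer_iff]
      intro h
      rw [Subgroup.mem_subgroupOf, Subgroup.mem_subgroupOf]
      exact (Subgroup.mem_normalizer_iff.mp hgN) h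
    have hord : Nat.Coprime (orderOf (⟨g, hgH⟩ : (Q ⊔ Subgroup.zpowers g : Subgroup G))) p := by
      rw [Subgroup.orderOf_mk]; exact hgo
    have key := mem_centralizer_of_isComplement' PH N hc (Q.subgroupOf (Q ⊔ Subgroup.zpowers g))
      (hQp.comap_subtype) ⟨g, hgH⟩ hnorm hord
    apply hgC
    rw [Subgroup.mem_centralizer_iff]
    intro x hx
    have := (Subgroup.mem_centralizer_iff.mp key) ⟨x, hQH hx⟩ (Subgroup.mem_subgroupOf.mpr hx)
    exact congrArg Subtype.val this
  have hQP' : Q = (P : Subgroup G) := by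
    have hle : Subgroup.zpowers g ≤ Subgroup.normalizer (Q : Set G) :=
      (Subgroup.zpowers_le).mpr hgN
    have hcard := Cfsg.Agent.Lib.Helper4.card_sup_mul_card_inf (Subgroup.zpowers g) Q hle
    rw [sup_comm, hQg, Subgroup.card_top, Nat.card_zpowers] at hcard
    have h3 : Nat.card (P : Subgroup G) ∣ orderOf g * Nat.card Q :=
      ((P : Subgroup G).card_subgroup_dvd_card).trans (Dvd.intro _ hcard)
    obtain ⟨k, hk⟩ := IsPGroup.iff_card.mp P.2
    have hk' : Nat.card (P : Subgroup G) = p ^ k := hk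
    have h4 : Nat.card (P : Subgroup G) ∣ Nat.card Q := by
      refine Nat.Coprime.dvd_of_dvd_mul_left ?_ h3
      rw [hk']
      exact Nat.Coprime.pow_left k hgo.symm
    exact Subgroup.eq_of_le_of_card_ge hQP (Nat.le_of_dvd Nat.card_pos h4)
  subst hQP'
  exact ⟨g, hgo, hQg, hgN, hgC⟩

/-- A minimal non-p-nilpotent finite group is a minimal non-nilpotent group with a normal Sylow p-subgroup. -/
theorem result {G : Type*} [Group G] [Finite G] {p : ℕ} [Fact p.Prime] (h1 : ¬ Cfsg.HasNormalPComplement p G) (h2 : ∀ H : Subgroup G, H ≠ ⊤ → Cfsg.HasNormalPComplement p H) : (∀ H : Subgroup G, H ≠ ⊤ → Group.IsNilpotent H) ∧ ¬ Group.IsNilpotent G ∧ ∀ P : Sylow p G, (P : Subgroup G).Normal := by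
  classical
  have hp : p.Prime := Fact.out
  obtain ⟨P⟩ : Nonempty (Sylow p G) := inferInstance
  obtain ⟨g, hgo, hPg, hgN, hgC⟩ := exists_pair h1 h2 P
  have hPn : (P : Subgroup G).Normal := by
    rw [← Subgroup.normalizer_eq_top_iff, eq_top_iff, ← hPg]
    exact sup_le Subgroup.le_normalizer ((Subgroup.zpowers_le).mpr hgN)
  obtain ⟨k, hk⟩ := IsPGroup.iff_card.mp P.2
  have hk' : Nat.card (P : Subgroup G) = p ^ k := hk
  have hPord : ∀ x ∈ (P : Subgroup G), orderOf x ∣ p ^ k := by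
    intro x hx
    have : orderOf (⟨x, hx⟩ : (P : Subgroup G)) ∣ Nat.card (P : Subgroup G) := orderOf_dvd_natCard _
    rwa [Subgroup.orderOf_mk, hk'] at this
  -- G/P is abelian
  have hab : ∀ a b : G, a * b * a⁻¹ * b⁻¹ ∈ (P : Subgroup G) := by
    intro a b
    have hq : ∀ z, QuotientGroup.mk' (P : Subgroup G) z = 1 ↔ z ∈ (P : Subgroup G) :=
      fun z => QuotientGroup.eq_one_iff z
    have ha : a ∈ (P : Subgroup G) ⊔ Subgroup.zpowers g := by rw [hPg]; trivial
    have hb : b ∈ (P : Subgroup G) ⊔ Subgroup.zpowers g := by rw [hPg]; trivial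
    rw [← SetLike.mem_coe, Subgroup.normal_mul, Set.mem_mul] at ha hb
    obtain ⟨y₁, hy₁, z₁, hz₁, rfl⟩ := ha
    obtain ⟨y₂, hy₂, z₂, hz₂, rfl⟩ := hb
    obtain ⟨i, rfl⟩ := Subgroup.mem_zpowers_iff.mp hz₁
    obtain ⟨j, rfl⟩ := Subgroup.mem_zpowers_iff.mp hz₂
    rw [← hq]
    simp only [map_mul, map_inv, map_zpow, (hq y₁).mpr hy₁, (hq y₂).mpr hy₂, one_mul]
    rw [(Commute.zpow_zpow_self _ i j).eq]
    group
  refine ⟨?_, ?_, ?_⟩
  · intro H hH
    obtain ⟨PH, K, hK, hc⟩ := h2 H hH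
    have hKord : ∀ c ∈ K, (c : G) ∈ (P : Subgroup G) → c = 1 := by
      intro c hc1 hc2
      have h3 : orderOf c ∣ Nat.card K := by
        have : orderOf (⟨c, hc1⟩ : K) ∣ Nat.card K := orderOf_dvd_natCard _
        rwa [Subgroup.orderOf_mk] at this
      rw [← hc.index_eq_card] at h3
      have h4 : orderOf c ∣ p ^ k := by
        rw [← Subgroup.orderOf_coe]; exact hPord _ hc2
      have hcop : Nat.Coprime (PH : Subgroup H).index (p ^ k) :=
        Nat.Coprime.pow_right k ((Nat.Prime.coprime_iff_not_dvd hp).mpr PH.not_dvd_index).symm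
      exact orderOf_eq_one_iff.mp (Nat.eq_one_of_dvd_coprimes hcop h3 h4)
    have hcen : (QuotientGroup.mk' K).ker ≤ Subgroup.center H := by
      rw [QuotientGroup.ker_mk']
      intro c hc1
      rw [Subgroup.mem_center_iff]
      intro h
      have h5 : c * h * c⁻¹ * h⁻¹ ∈ K := by
        have : c * h * c⁻¹ * h⁻¹ = c * (h * c⁻¹ * h⁻¹) := by group
        rw [this]
        exact K.mul_mem hc1 (hK.conj_mem _ (K.inv_mem hc1) _)
      have h6 := hKord _ h5 (by simpa using hab (c : G) (h : G))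
      calc h * c = (c * h * c⁻¹ * h⁻¹)⁻¹ * (c * h) := by group
        _ = c * h := by rw [h6]; group
    have hpq : IsPGroup p (H ⧸ K) := by
      obtain ⟨j, hj⟩ := IsPGroup.iff_card.mp PH.2
      apply IsPGroup.of_card (n := j)
      rw [← Subgroup.index_eq_card, hc.symm.index_eq_card]
      exact hj
    have : Group.IsNilpotent (H ⧸ K) := hpq.isNilpotent
    exact Subgroup.isNilpotent_of_ker_le_center (QuotientGroup.mk' K) hcen
  · intro hnil
    apply hgC
    rw [Subgroup.mem_centralizer_iff]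
    intro x hx
    exact Cfsg.Agent.Lib.Helper4.commute_of_coprime_of_isNilpotent G x g
      (Nat.Coprime.coprime_dvd_left (hPord x hx) (Nat.Coprime.pow_left k hgo.symm))
  · intro P'
    obtain ⟨c, hc⟩ := MulAction.exists_smul_eq G P P'
    rw [← hc, Sylow.smul_eq_of_normal]
    exact hPn

end Cfsg.Agent.S0132
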