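import Cfsg.Statements.S2923
import Mathlib
import Cfsg.Agent.Lib.Helper57.PCore

set_option autoImplicit false
open Cfsg

namespace Cfsg.Agent.S2923

open Cfsg.Agent.Lib.Helper57

theorem charp_equiv {K K' : Type*} [Group K] [Group K'] {p : ℕ} (e : K ≃* K')
    (h : Subgroup.centralizer (pCore p K : Set K) ≤ pCore p K) :
    Subgroup.centralizer (pCore p K' : Set K') ≤ pCore p K' := by
  intro y hy
  have h1 : e.symm y ∈ Subgroup.centralizer (pCore p K : Set K) := by
    rw [Subgroup.mem_centralizer_iff] at hy ⊢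
    intro z hz
    have hz' : e z ∈ pCore p K' := (mem_pCore_equiv e z).mpr hz
    have := hy (e z) hz'
    apply e.injective
    simpa using this
  have h2 := h h1
  have := (mem_pCore_equiv e (e.symm y)).mpr h2
  simpa using this

theorem charp_normal {K : Type*} [Group K] [Finite K] {p : ℕ} [Fact p.Prime] (H : Subgroup K)
    [H.Normal] (h : Subgroup.centralizer (pCore p K : Set K) ≤ pCore p K) :
    Subgroup.centralizer (pCore p ↥H : Set ↥H) ≤ pCore p ↥H := by
  have hCn : (Subgroup.centralizer (pCore p ↥H : Set ↥H)).Normal := inferInstance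
  refine le_pCore hCn ?_
  have hR' : IsPGroup p ↥((pCore p ↥H).map H.subtype) := (isPGroup_pCore p ↥H).map _
  obtain ⟨m, hm⟩ := IsPGroup.iff_card.mp hR'
  have hQ := isPGroup_pCore p K
  rintro ⟨c, hc⟩
  have hcK : ∀ x ∈ pCore p K, (c : K) ^ (p ^ m) * x = x * (c : K) ^ (p ^ m) := by
    intro x hx
    set y : K := (c : K) * x * (c : K)⁻¹ * x⁻¹ with hy
    have hyQ : y ∈ pCore p K := by
      have h1 : (c : K) * x * (c : K)⁻¹ ∈ pCore p K := (pCore_normal p K).conj_mem x hx c
      exact Subgroup.mul_mem _ h1 (Subgroup.inv_mem _ hx)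
    have hyH : y ∈ H := by
      have h1 : x * (c : K)⁻¹ * x⁻¹ ∈ H := by
        have := (inferInstance : H.Normal).conj_mem (c : K)⁻¹ (H.inv_mem c.2) x
        simpa using this
      have h2 : (c : K) * (x * (c : K)⁻¹ * x⁻¹) ∈ H := H.mul_mem c.2 h1
      have e : y = (c : K) * (x * (c : K)⁻¹ * x⁻¹) := by simp [hy, mul_assoc]
      rw [e]; exact h2
    have hyR : (⟨y, hyH⟩ : ↥H) ∈ pCore p ↥H :=
      mem_pCore_of_mem_normal_pGroup H (pCore_normal p K) hQ hyQ hyH
    have hcomm : y * (c : K) = (c : K) * y := by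
      have := (Subgroup.mem_centralizer_iff.mp hc) ⟨y, hyH⟩ hyR
      exact congrArg Subtype.val this
    have hcx : (c : K) * x = y * x * (c : K) := by simp [hy, mul_assoc]
    have hind : ∀ n : ℕ, (c : K) ^ n * x = y ^ n * x * (c : K) ^ n := by
      intro n
      induction n with
      | zero => simp
      | succ n ih =>
        have hyc : ∀ k : ℕ, (c : K) * y ^ k = y ^ k * (c : K) := by
          intro k
          exact ((Commute.pow_right (show Commute (c : K) y from hcomm.symm) k)).eq
        calc (c : K) ^ (n + 1) * x = (c : K) * ((c : K) ^ n * x) := by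
              rw [pow_succ', mul_assoc]
          _ = (c : K) * (y ^ n * x * (c : K) ^ n) := by rw [ih]
          _ = ((c : K) * y ^ n) * x * (c : K) ^ n := by simp [mul_assoc]
          _ = (y ^ n * (c : K)) * x * (c : K) ^ n := by rw [hyc]
          _ = y ^ n * ((c : K) * x) * (c : K) ^ n := by simp [mul_assoc]
          _ = y ^ n * (y * x * (c : K)) * (c : K) ^ n := by rw [hcx]
          _ = y ^ (n + 1) * x * (c : K) ^ (n + 1) := by
              rw [pow_succ, pow_succ']; simp [mul_assoc]
    have hyR' : y ∈ (pCore p ↥H).map H.subtype := ⟨⟨y, hyH⟩, hyR, rfl⟩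
    have hypow : y ^ (p ^ m) = 1 := by
      have := pow_card_eq_one' (G := ↥((pCore p ↥H).map H.subtype)) (x := ⟨y, hyR'⟩)
      rw [hm] at this
      exact congrArg Subtype.val this
    have := hind (p ^ m)
    rw [hypow, one_mul] at this
    exact this
  have hcent : (c : K) ^ (p ^ m) ∈ Subgroup.centralizer (pCore p K : Set K) := by
    rw [Subgroup.mem_centralizer_iff]
    intro x hx
    exact (hcK x hx).symm
  have hcQ : (c : K) ^ (p ^ m) ∈ pCore p K := h hcent
  obtain ⟨l, hl⟩ := hQ ⟨_, hcQ⟩
  refine ⟨m + l, ?_⟩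
  have hl' : ((c : K) ^ (p ^ m)) ^ (p ^ l) = 1 := congrArg Subtype.val hl
  ext
  simp only [Subgroup.coe_pow, Subgroup.coe_one]
  rw [pow_add, pow_mul]
  exact hl'

/-- Let p be a prime and X a finite group of characteristic p, that is C_X(O_p(X)) ≤ O_p(X). Then every subnormal subgroup of X has characteristic p. -/
theorem result {X : Type*} [Group X] [Finite X] {p : ℕ} [Fact p.Prime] (hX : Subgroup.centralizer (Cfsg.pCore p X : Set X) ≤ Cfsg.pCore p X) (Y : Subgroup X) (hY : Y.IsSubnormal) : Subgroup.centralizer (Cfsg.pCore p ↥Y : Set ↥Y) ≤ Cfsg.pCore p ↥Y := by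
  induction hY with
  | top => exact charp_equiv (Subgroup.topEquiv (G := X)).symm hX
  | step H K h_le hSubn hN ih =>
    have h1 := charp_normal (H.subgroupOf K) ih
    exact charp_equiv (Subgroup.subgroupOfEquivOfLe h_le) h1

end Cfsg.Agent.S2923
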