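import Cfsg.Statements.S0124
-- import your own Cfsg.Agent.* helpers here
import Cfsg.Agent.Lib.Helper69.RegClass

set_option autoImplicit false
open Cfsg
open scoped commutatorElement

namespace Cfsg.Agent.S0124

/-- For p > 3, in a p-group of class at most three the elements of order dividing p generate a subgroup of exponent dividing p. -/
theorem result {R : Type*} [Group R] [Finite R] {p : ℕ} [Fact p.Prime] (hp : 3 < p) (hR : IsPGroup p R) (hcl : ⁅⁅commutator R, (⊤ : Subgroup R)⁆, (⊤ : Subgroup R)⁆ = ⊥) (g : R) (hg : g ∈ Subgroup.closure {x : R | x ^ p = 1}) : g ^ p = 1 := by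
  have h3 : (⊤ : Subgroup R).lowerCentralSeries 3 = ⊥ := by
    rw [commutator_def] at hcl
    exact hcl
  have hcl' : (⊤ : Subgroup R).lowerCentralSeries (p - 1) = ⊥ := by
    rw [eq_bot_iff, ← h3]
    exact Subgroup.lowerCentralSeries_antitone _ (by omega)
  have hreg := Cfsg.Agent.Lib.Helper69.RegClass.isRegular_of_class_lt hR hcl'
  have hle : Subgroup.closure {x : R | x ^ p = 1} ≤ Cfsg.Agent.Lib.Helper75.Reg.OmegaSub hreg 1 := by
    rw [Subgroup.closure_le]
    intro x hx
    show x ^ p ^ 1 = 1
    rw [pow_one]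
    exact hx
  have := hle hg
  have h1 : g ^ p ^ 1 = 1 := this
  rwa [pow_one] at h1

end Cfsg.Agent.S0124
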