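import Cfsg.Statements.S0127
import Cfsg.Agent.Lib.Helper15.CyclicIndexP

set_option autoImplicit false
open Cfsg

namespace Cfsg.Agent.S0127

/-- For odd p, in a non-cyclic p-group with a cyclic subgroup of index p, the elements of order dividing p generate an elementary abelian subgroup of order p^2. -/
theorem result {R : Type*} [Group R] [Finite R] {p : ℕ} [Fact p.Prime] (hp : p ≠ 2) (hR : IsPGroup p R) (hnc : ¬ IsCyclic R) (C : Subgroup R) (hC : IsCyclic C) (hCi : C.index = p) : Cfsg.IsElementaryAbelian p (Subgroup.closure {x : R | x ^ p = 1}) ∧ Nat.card (Subgroup.closure {x : R | x ^ p = 1}) = p ^ 2 := by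
  obtain ⟨φ, hφ, hker⟩ := Cfsg.Agent.Lib.Helper15.exists_pow_hom hp hR C hC hCi
  have hset : {x : R | x ^ p = 1} = (φ.ker : Set R) := by
    ext x
    simp only [Set.mem_ofPred_eq, SetLike.mem_coe, MonoidHom.mem_ker, hφ]
  have hcl : Subgroup.closure {x : R | x ^ p = 1} = φ.ker := by
    rw [hset]
    exact Subgroup.closure_eq _
  rw [hcl]
  have hcard := hker hnc
  refine ⟨⟨?_, ?_⟩, hcard⟩
  · have hp' : p.Prime := Fact.out
    have : IsMulCommutative φ.ker := IsPGroup.isMulCommutative_of_card_eq_prime_sq hcard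
    exact this
  · intro a ha
    rw [MonoidHom.mem_ker, hφ] at ha
    exact ha

end Cfsg.Agent.S0127
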