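import Cfsg.Statements.S3888
import Mathlib
import Cfsg.Agent.Lib.Helper59.Rk2Type

set_option autoImplicit false
open Cfsg

namespace Cfsg.Agent.S3888

/-- The classification of the p-groups of rank at most two for odd p. Let p be an odd prime and G a group of order p^n with no elementary abelian subgroup of order p³. Then one of the following holds: G is metacyclic; n ≥ 3 and G is generated by elements x, y, z with x^p = y^p = z^(p^(n−2)) = 1, z commuting with x and y, and x⁻¹yx = y z^(p^(n−3)); n ≥ 4 and G is generated by elements x, y, z with x^p = y^p = z^(p^(n−2)) = 1, yz = zy, x⁻¹yx = y z^(s p^(n−3)) and x⁻¹zx = yz, where s = 1 or s is a quadratic non-residue modulo p; or p = 3 and G has maximal class (nilpotency class n − 1). -/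
theorem result {G : Type*} [Group G] [Finite G] {p : ℕ} [Fact p.Prime] (hp : p ≠ 2) (n : ℕ) (hG : Nat.card G = p ^ n)
    (hrk : Cfsg.PRankLE p 2 G) :
    Cfsg.IsMetacyclic G ∨
    (3 ≤ n ∧ ∃ x y z : G, Subgroup.closure ({x, y, z} : Set G) = ⊤ ∧ x ^ p = 1 ∧ y ^ p = 1 ∧ z ^ p ^ (n - 2) = 1 ∧
        x * z = z * x ∧ y * z = z * y ∧ x⁻¹ * y * x = y * z ^ p ^ (n - 3)) ∨
    (4 ≤ n ∧ ∃ (s : ℕ) (x y z : G), (s = 1 ∨ ¬ IsSquare (s : ZMod p)) ∧ Subgroup.closure ({x, y, z} : Set G) = ⊤ ∧
        x ^ p = 1 ∧ y ^ p = 1 ∧ z ^ p ^ (n - 2) = 1 ∧ y * z = z * y ∧ x⁻¹ * y * x = y * z ^ (s * p ^ (n - 3)) ∧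
        x⁻¹ * z * x = y * z) ∨
    (p = 3 ∧ 2 ≤ n ∧ (⊤ : Subgroup G).lowerCentralSeries (n - 2) ≠ ⊥) := by
  have hGp : IsPGroup p G := IsPGroup.of_card hG
  by_cases hcyc : IsCyclic G
  · left
    refine ⟨⊤, inferInstance, ?_, ?_⟩
    · exact isCyclic_of_surjective
        (Subgroup.topEquiv : (⊤ : Subgroup G) ≃* G).symm.toMonoidHom
        (Subgroup.topEquiv : (⊤ : Subgroup G) ≃* G).symm.surjective
    · haveI : Subsingleton (G ⧸ (⊤ : Subgroup G)) := QuotientGroup.subsingleton_quotient_top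
      exact isCyclic_of_subsingleton
  · have hnc : ¬ IsCyclic ↥(⊤ : Subgroup G) := by
      intro hc
      apply hcyc
      exact isCyclic_of_surjective
        (Subgroup.topEquiv : (⊤ : Subgroup G) ≃* G).toMonoidHom
        (Subgroup.topEquiv : (⊤ : Subgroup G) ≃* G).surjective
    obtain ⟨E, -, hEn, ⟨hEc, hEe⟩, hEcard⟩ :=
      Cfsg.Agent.Lib.Helper15.exists_normal_elementary_abelian_sq hp hGp ⊤ hnc
    by_cases hC : Subgroup.centralizer (E : Set G) = ⊤
    · left
      have hpc := Cfsg.Agent.Lib.Helper59.Rk2.pcentral_centralizer hrk hEc hEe hEcard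
      rw [hC] at hpc
      exact Cfsg.Agent.Lib.Helper59.Rk2.metacyclic_of_top hp hGp hpc hEcard
    · have S := Cfsg.Agent.Lib.Helper59.Rk2.setting_of_ne_top hG hrk hEn hEc hEe hEcard hC
      obtain ⟨t, ht⟩ := Cfsg.Agent.Lib.Helper59.Rk2.exists_not_mem_of_ne_top hC
      by_cases hroot : ∃ c ∈ Subgroup.centralizer (E : Set G), c ^ p = t ^ p
      · obtain ⟨c₀, hc₀, hc₀t⟩ := hroot
        by_cases hK : ∀ d ∈ Subgroup.centralizer (E : Set G), d ^ p ∈ E →
            d ^ p ∈ E ⊓ Subgroup.center G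
        · obtain ⟨w, hw, hgen⟩ := S.exists_gen hp hK
          have hab := S.comm_of_gen hw hgen
          have hnu := fun t => S.nu_mem_E hp hab hw hgen hK t
          rcases S.exists_order_p hp hab (hnu t) ht hc₀ hc₀t with ⟨g, hg, hgp⟩ | ⟨hp3, hcz⟩
          · by_cases hA : Cfsg.Agent.Lib.Helper59.Rk2.nuc g w ∈ E ⊓ Subgroup.center G
            · right; left
              exact ⟨S.three_le, S.typeC hab hw hgen hg hgp hA⟩
            · right; right; left
              exact S.typeG hab hw hgen (hnu g) hg hgp hA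
          · right; right; right
            have h3 := S.three_le
            exact ⟨hp3, by omega, Cfsg.Agent.Lib.Helper59.Rk2.maxclass_of_centralizer (by omega)
              hG t (S.card_centralizer_le hcz)⟩
        · push Not at hK
          obtain ⟨d, hd, hdE, hdZ⟩ := hK
          right; right; right
          exact S.maxclass_of_K2 hp ht hc₀ hc₀t hd hdE hdZ
      · left
        push Not at hroot
        exact S.metacyclic_of_no_root hp hroot

end Cfsg.Agent.S3888
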