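import Cfsg.Statements.S0128
import Mathlib
import Cfsg.Agent.S3888
import Cfsg.Agent.S0124
import Cfsg.Agent.S0127

set_option autoImplicit false
open Cfsg

namespace Cfsg.Agent.S0128

open scoped commutatorElement in
theorem ucs_step {R : Type*} [Group R] (S : Set R) (hS : Subgroup.closure S = ⊤) (n : ℕ) (g : R)
    (h : ∀ s ∈ S, ⁅g, s⁆ ∈ Subgroup.upperCentralSeries R n) :
    g ∈ Subgroup.upperCentralSeries R (n + 1) := by
  rw [Subgroup.mem_upperCentralSeries_succ_iff]
  set Z := Subgroup.upperCentralSeries R n with hZ
  have key : ∀ y : R, ⁅g, y⁆ ∈ Z ↔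
      y ∈ (Subgroup.centralizer {(QuotientGroup.mk' Z) g}).comap (QuotientGroup.mk' Z) := by
    intro y
    rw [Subgroup.mem_comap, Subgroup.mem_centralizer_iff]
    simp only [Set.mem_singleton_iff, forall_eq]
    rw [← QuotientGroup.eq_one_iff (N := Z), commutatorElement_def]
    simp only [QuotientGroup.mk'_apply, QuotientGroup.mk_mul, QuotientGroup.mk_inv]
    rw [mul_inv_eq_one, mul_inv_eq_iff_eq_mul]
  intro y
  rw [key]
  have hle : Subgroup.closure S ≤
      (Subgroup.centralizer {(QuotientGroup.mk' Z) g}).comap (QuotientGroup.mk' Z) := by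
    rw [Subgroup.closure_le]
    intro s hs
    exact (key s).mp (h s hs)
  rw [hS] at hle
  exact hle (Subgroup.mem_top y)

open scoped commutatorElement in
theorem cl3_of_ucs {R : Type*} [Group R] (h : Subgroup.upperCentralSeries R 3 = ⊤) :
    ⁅⁅commutator R, (⊤ : Subgroup R)⁆, (⊤ : Subgroup R)⁆ = ⊥ := by
  have h1 : commutator R ≤ Subgroup.upperCentralSeries R 2 := by
    rw [commutator_def, Subgroup.commutator_le]
    intro a _ b _
    have ha : a ∈ Subgroup.upperCentralSeries R (2 + 1) := by rw [h]; exact Subgroup.mem_top a
    exact (Subgroup.mem_upperCentralSeries_succ_iff.mp ha) b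
  have h2 : ⁅commutator R, (⊤ : Subgroup R)⁆ ≤ Subgroup.upperCentralSeries R 1 := by
    rw [Subgroup.commutator_le]
    intro a ha b _
    exact (Subgroup.mem_upperCentralSeries_succ_iff.mp (h1 ha)) b
  rw [eq_bot_iff, Subgroup.commutator_le]
  intro a ha b _
  have := (Subgroup.mem_upperCentralSeries_succ_iff.mp (h2 ha)) b
  simpa using this

open scoped commutatorElement

theorem pow_of_comm {R : Type*} [Group R] {p : ℕ} (H : Subgroup R)
    (hH : ∀ a ∈ H, ∀ b ∈ H, a * b = b * a)
    (hle : Subgroup.closure {x : R | x ^ p = 1} ≤ H) (g : R)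
    (hg : g ∈ Subgroup.closure {x : R | x ^ p = 1}) : g ^ p = 1 := by
  induction hg using Subgroup.closure_induction with
  | mem x hx => exact hx
  | one => exact one_pow p
  | mul a b ha hb iha ihb =>
    have hc : Commute a b := hH a (hle ha) b (hle hb)
    rw [hc.mul_pow, iha, ihb, one_mul]
  | inv a ha iha => rw [inv_pow, iha, inv_one]

/-- For p > 3, in a p-group of p-rank at most 2 the elements of order dividing p generate a subgroup of exponent dividing p. -/
theorem result {R : Type*} [Group R] [Finite R] {p : ℕ} [Fact p.Prime] (hp : 3 < p) (hR : IsPGroup p R) (hrk : ∀ E : Subgroup R, Cfsg.IsElementaryAbelian p E → Nat.card E ≤ p ^ 2) (g : R) (hg : g ∈ Subgroup.closure {x : R | x ^ p = 1}) : g ^ p = 1 := by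
  classical
  obtain ⟨n, hn⟩ := IsPGroup.iff_card.mp hR
  have hp2 : p ≠ 2 := by omega
  have hpp : p.Prime := Fact.out
  have hrk' : Cfsg.PRankLE p 2 R := fun A hA hA' => hrk A ⟨hA, hA'⟩
  rcases Cfsg.Agent.S3888.result hp2 n hn hrk' with hmeta | ⟨hn3, x, y, z, hgen, hx, hy, hz, hxz, hyz, hxy⟩ |
    ⟨hn4, s, x, y, z, hs, hgen, hx, hy, hz, hyz, hxy, hxz⟩ | ⟨hp3, _⟩
  · -- metacyclic
    obtain ⟨N, hNn, hNc, hQc⟩ := hmeta
    letI : CommGroup (R ⧸ N) := IsCyclic.commGroup
    let φ : R →* R ⧸ N := (powMonoidHom p).comp (QuotientGroup.mk' N)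
    have hφ : ∀ a : R, φ a = ((QuotientGroup.mk' N) a) ^ p := fun a => rfl
    set M : Subgroup R := φ.ker with hM
    have hNM : N ≤ M := by
      intro a ha
      rw [hM, MonoidHom.mem_ker, hφ]
      have : (QuotientGroup.mk' N) a = 1 := (QuotientGroup.eq_one_iff a).mpr ha
      rw [this, one_pow]
    have hΩM : Subgroup.closure {x : R | x ^ p = 1} ≤ M := by
      rw [Subgroup.closure_le]
      intro a ha
      rw [SetLike.mem_coe, hM, MonoidHom.mem_ker, hφ, ← map_pow]
      have ha' : a ^ p = 1 := ha
      rw [ha', map_one]
    by_cases hMc : IsCyclic M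
    · apply pow_of_comm M _ hΩM g hg
      intro a ha b hb
      letI := IsCyclic.commGroup (α := M)
      exact congrArg Subtype.val (mul_comm (⟨a, ha⟩ : M) ⟨b, hb⟩)
    · have hidx : (N.subgroupOf M).index = p := by
        set K : Subgroup (R ⧸ N) := (powMonoidHom p : R ⧸ N →* R ⧸ N).ker with hK
        have hN : N = (⊥ : Subgroup (R ⧸ N)).comap (QuotientGroup.mk' N) := by
          rw [MonoidHom.comap_bot, QuotientGroup.ker_mk']
        have hMK : M.map (QuotientGroup.mk' N) = K := by
          have : M = K.comap (QuotientGroup.mk' N) := by rw [hM, hK]; rfl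
          rw [this, Subgroup.map_comap_eq_self_of_surjective (QuotientGroup.mk'_surjective N)]
        have hrel : N.relIndex M = Nat.card K := by
          conv_lhs => rw [hN]
          rw [Subgroup.relIndex_comap, hMK, Subgroup.relIndex_bot_left]
        have hKle : Nat.card K ≤ p := by
          haveI : Fintype (R ⧸ N) := Fintype.ofFinite _
          have h1 := IsCyclic.card_pow_eq_one_le (α := R ⧸ N) hpp.pos
          have h2 : Nat.card K = (Finset.univ.filter (fun a : R ⧸ N => a ∈ K)).card := by
            rw [Nat.card_eq_fintype_card, Fintype.card_subtype]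
          rw [h2]
          have h3 : (Finset.univ.filter (fun a : R ⧸ N => a ∈ K)) =
              (Finset.univ.filter (fun a : R ⧸ N => a ^ p = 1)) := by
            apply Finset.filter_congr
            intro a _
            rw [hK, MonoidHom.mem_ker, powMonoidHom_apply]
          rw [h3]
          exact h1
        have hKp : IsPGroup p K := (hR.to_quotient N).to_subgroup K
        obtain ⟨j, hj⟩ := IsPGroup.iff_card.mp hKp
        have hj1 : j ≤ 1 := by
          by_contra hcon
          have hcon : 2 ≤ j := by omega
          have : p ^ 2 ≤ p ^ j := Nat.pow_le_pow_right hpp.pos hcon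
          have h4 : p ^ 2 ≤ p := by rw [hj] at hKle; exact le_trans this hKle
          have h5 : p < p ^ 2 := by
            have := hpp.two_le
            nlinarith
          omega
        show N.relIndex M = p
        rw [hrel, hj]
        rcases Nat.le_one_iff_eq_zero_or_eq_one.mp hj1 with h0 | h1
        · exfalso
          rw [h0, pow_zero] at hj
          rw [hj] at hrel
          have hMN : M ≤ N := Subgroup.relIndex_eq_one.mp hrel
          have hMeq : M = N := le_antisymm hMN hNM
          apply hMc
          rw [hMeq]
          exact hNc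
        · rw [h1, pow_one]
      have hNMc : IsCyclic (N.subgroupOf M) := (Subgroup.subgroupOfEquivOfLe hNM).isCyclic.mpr hNc
      have h127 := (Cfsg.Agent.S0127.result hp2 (hR.to_subgroup M) hMc (N.subgroupOf M) hNMc hidx).1
      have hmap : Subgroup.closure {x : R | x ^ p = 1} =
          (Subgroup.closure {x : M | x ^ p = 1}).map M.subtype := by
        rw [MonoidHom.map_closure]
        congr 1
        ext a
        constructor
        · intro ha
          refine ⟨⟨a, hΩM (Subgroup.subset_closure ha)⟩, ?_, rfl⟩
          have ha' : a ^ p = 1 := ha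
          show (⟨a, hΩM (Subgroup.subset_closure ha)⟩ : M) ^ p = 1
          apply Subtype.ext
          rw [Subgroup.coe_pow]
          exact ha'
        · rintro ⟨b, hb, rfl⟩
          have hb' : b ^ p = 1 := hb
          show (M.subtype b) ^ p = 1
          rw [← map_pow, hb', map_one]
      rw [hmap] at hg
      obtain ⟨g', hg', rfl⟩ := hg
      have h6 := h127.2 g' hg'
      rw [← map_pow, h6, map_one]
  · -- type C
    apply Cfsg.Agent.S0124.result hp hR _ g hg
    apply cl3_of_ucs
    set S : Set R := {x, y, z} with hS
    set w : R := z ^ p ^ (n - 3) with hw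
    have hz1 : z ∈ Subgroup.upperCentralSeries R 1 := by
      apply ucs_step S hgen 0
      intro s hs
      rw [Subgroup.upperCentralSeries_zero, Subgroup.mem_bot, commutatorElement_eq_one_iff_commute]
      rcases hs with rfl | rfl | rfl
      · exact hxz.symm
      · exact hyz.symm
      · exact Commute.refl _
    have hw1 : w ∈ Subgroup.upperCentralSeries R 1 := Subgroup.pow_mem _ hz1 _
    have hyx : ⁅y, x⁆ ∈ Subgroup.upperCentralSeries R 1 := by
      have h1 : ⁅y, x⁆ = x * (y * w) * y⁻¹ * x⁻¹ := by
        rw [← hxy, commutatorElement_def]; group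
      have h2 : x * (y * w) * y⁻¹ * x⁻¹ = (x * y) * w * (x * y)⁻¹ := by group
      rw [h1, h2]
      exact (inferInstance : (Subgroup.upperCentralSeries R 1).Normal).conj_mem _ hw1 _
    have hy2 : y ∈ Subgroup.upperCentralSeries R 2 := by
      apply ucs_step S hgen 1
      intro s hs
      rcases hs with rfl | rfl | rfl
      · exact hyx
      · rw [commutatorElement_self]; exact Subgroup.one_mem _
      · rw [commutatorElement_eq_one_iff_commute.mpr hyz]; exact Subgroup.one_mem _
    have hx2 : x ∈ Subgroup.upperCentralSeries R 2 := by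
      apply ucs_step S hgen 1
      intro s hs
      rcases hs with rfl | rfl | rfl
      · rw [commutatorElement_self]; exact Subgroup.one_mem _
      · rw [← commutatorElement_inv]; exact Subgroup.inv_mem _ hyx
      · rw [commutatorElement_eq_one_iff_commute.mpr hxz]; exact Subgroup.one_mem _
    have h12 : Subgroup.upperCentralSeries R 1 ≤ Subgroup.upperCentralSeries R 2 :=
      Subgroup.upperCentralSeries_mono R (by norm_num)
    have h23 : Subgroup.upperCentralSeries R 2 ≤ Subgroup.upperCentralSeries R 3 :=
      Subgroup.upperCentralSeries_mono R (by norm_num)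
    rw [eq_top_iff, ← hgen, Subgroup.closure_le]
    intro s hs
    rcases hs with rfl | rfl | rfl
    · exact h23 hx2
    · exact h23 hy2
    · exact h23 (h12 hz1)
  · -- type G
    apply Cfsg.Agent.S0124.result hp hR _ g hg
    apply cl3_of_ucs
    set S : Set R := {x, y, z} with hS
    set k : ℕ := s * p ^ (n - 3) with hk
    set w : R := z ^ k with hw
    have hyk : y ^ k = 1 := by
      have : p ∣ k := by
        rw [hk]
        apply Dvd.dvd.mul_left
        exact dvd_pow_self p (by omega)
      obtain ⟨c, hc⟩ := this
      rw [hc, pow_mul, hy, one_pow]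
    have hw1 : w ∈ Subgroup.upperCentralSeries R 1 := by
      apply ucs_step S hgen 0
      intro t ht
      rw [Subgroup.upperCentralSeries_zero, Subgroup.mem_bot, commutatorElement_eq_one_iff_commute]
      rcases ht with h | h | h
      · -- Commute w x
        rw [h]
        have h1 : x⁻¹ * w * x = w := by
          have h2 : x⁻¹ * w * x = (x⁻¹ * z * x) ^ k := by
            have h3 := conj_pow (a := x⁻¹) (b := z) (i := k)
            simp only [inv_inv] at h3
            exact h3.symm
          rw [h2, hxz, (show Commute y z from hyz).mul_pow, hyk, one_mul]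
        show w * x = x * w
        calc w * x = x * (x⁻¹ * w * x) := by group
          _ = x * w := by rw [h1]
      · rw [h]; exact ((show Commute y z from hyz).pow_right k).symm
      · rw [h]; exact (Commute.refl z).pow_left k
    have hyx : ⁅y, x⁆ ∈ Subgroup.upperCentralSeries R 1 := by
      have h1 : ⁅y, x⁆ = x * (y * w) * y⁻¹ * x⁻¹ := by
        rw [← hxy, commutatorElement_def]; group
      have h2 : x * (y * w) * y⁻¹ * x⁻¹ = (x * y) * w * (x * y)⁻¹ := by group
      rw [h1, h2]
      exact (inferInstance : (Subgroup.upperCentralSeries R 1).Normal).conj_mem _ hw1 _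
    have h12 : Subgroup.upperCentralSeries R 1 ≤ Subgroup.upperCentralSeries R 2 :=
      Subgroup.upperCentralSeries_mono R (by norm_num)
    have h23 : Subgroup.upperCentralSeries R 2 ≤ Subgroup.upperCentralSeries R 3 :=
      Subgroup.upperCentralSeries_mono R (by norm_num)
    have hy2 : y ∈ Subgroup.upperCentralSeries R 2 := by
      apply ucs_step S hgen 1
      intro t ht
      rcases ht with rfl | rfl | rfl
      · exact hyx
      · rw [commutatorElement_self]; exact Subgroup.one_mem _
      · rw [commutatorElement_eq_one_iff_commute.mpr hyz]; exact Subgroup.one_mem _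
    have hzx : ⁅z, x⁆ ∈ Subgroup.upperCentralSeries R 2 := by
      have h1 : ⁅z, x⁆ = x * (y * z) * z⁻¹ * x⁻¹ := by
        rw [← hxz, commutatorElement_def]; group
      have h2 : x * (y * z) * z⁻¹ * x⁻¹ = x * y * x⁻¹ := by group
      rw [h1, h2]
      exact (inferInstance : (Subgroup.upperCentralSeries R 2).Normal).conj_mem _ hy2 _
    have hz3 : z ∈ Subgroup.upperCentralSeries R 3 := by
      apply ucs_step S hgen 2
      intro t ht
      rcases ht with rfl | rfl | rfl
      · exact hzx
      · rw [commutatorElement_eq_one_iff_commute.mpr hyz.symm]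
        exact Subgroup.one_mem _
      · rw [commutatorElement_self]; exact Subgroup.one_mem _
    have hx3 : x ∈ Subgroup.upperCentralSeries R 3 := by
      apply ucs_step S hgen 2
      intro t ht
      rcases ht with rfl | rfl | rfl
      · rw [commutatorElement_self]; exact Subgroup.one_mem _
      · rw [← commutatorElement_inv]; exact Subgroup.inv_mem _ (h12 hyx)
      · rw [← commutatorElement_inv]; exact Subgroup.inv_mem _ hzx
    rw [eq_top_iff, ← hgen, Subgroup.closure_le]
    intro t ht
    rcases ht with rfl | rfl | rfl
    · exact hx3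
    · exact h23 hy2
    · exact hz3
  · omega

end Cfsg.Agent.S0128
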