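import Mathlib
import Cfsg.Statements.S4036

set_option autoImplicit false
open Cfsg

namespace Cfsg.Agent.S4036

theorem result {P : Type*} [CommGroup P] [Finite P] {p : ℕ}
    [Fact p.Prime] (hP : IsPGroup p P) (K : Subgroup (MulAut P)) (hK : p ∣ Nat.card K)
    (hfix : ∀ x y : MulAut P, x ∈ K → y ∈ K → x ≠ 1 → y ≠ 1 → ∀ v : P, x v = v ↔ y v = v) :
    ∀ N : Subgroup ↥K, N.Normal → ¬ p ∣ Nat.card N → N = ⊥ := by
  intro N hN hpN
  by_contra hne
  classical
  have hfin : Fintype N := Fintype.ofFinite N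
  have hp : p.Prime := Fact.out
  obtain ⟨n₀, hn₀N, hn₀1⟩ : ∃ n₀ : K, n₀ ∈ N ∧ n₀ ≠ 1 := by
    by_contra h
    push Not at h
    exact hne (eq_bot_iff.2 fun n hn => by rw [Subgroup.mem_bot]; exact h n hn)
  obtain ⟨x, hx⟩ := exists_prime_orderOf_dvd_card' (G := K) p hK
  let τ : P →* P := ∏ n : N, (((n : K) : MulAut P)).toMonoidHom
  have hτ : ∀ v, τ v = ∏ n : N, ((n : K) : MulAut P) v := by
    intro v
    simp [τ]
  -- τ commutes with K
  have h1 : ∀ (k : K) (v : P), (k : MulAut P) (τ v) = τ ((k : MulAut P) v) := by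
    intro k v
    rw [hτ, hτ, map_prod]
    refine Fintype.prod_equiv (MulAut.conjNormal k : N ≃* N).toEquiv _ _ (fun n => ?_)
    simp [MulAut.conjNormal_apply, MulAut.mul_apply]
  -- the image of τ is fixed by N
  have h2 : ∀ (n : N) (v : P), ((n : K) : MulAut P) (τ v) = τ v := by
    intro n v
    rw [hτ, map_prod]
    refine Fintype.prod_equiv (Equiv.mulLeft n) _ _ (fun n' => ?_)
    simp [MulAut.mul_apply]
  let W : Subgroup P := τ.ker
  have hW : ∀ (k : K) (w : P), w ∈ W → ((k : MulAut P)) w ∈ W := by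
    intro k w hw
    rw [MonoidHom.mem_ker] at hw ⊢
    rw [← h1, hw, map_one]
  have hx1 : (x : MulAut P) ≠ 1 := by
    intro h
    have : x = 1 := Subtype.ext h
    rw [this, orderOf_one] at hx
    exact hp.one_lt.ne hx
  have hWbot : W = ⊥ := by
    by_contra hWne
    let Z : Subgroup K := Subgroup.zpowers x
    have hZ : IsPGroup p Z := IsPGroup.of_card (n := 1) (by rw [Nat.card_zpowers, hx, pow_one])
    let smulInst : SMul Z W := ⟨fun z w => ⟨((z : K) : MulAut P) w, hW z w w.2⟩⟩
    have hsmul : ∀ (z : Z) (w : W), ((z • w : W) : P) = ((z : K) : MulAut P) w := fun _ _ => rfl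
    let act : MulAction Z W :=
      { one_smul := fun w => Subtype.ext (by rw [hsmul]; simp)
        mul_smul := fun a b w => Subtype.ext (by rw [hsmul, hsmul, hsmul]; simp [MulAut.mul_apply]) }
    have hpW : p ∣ Nat.card W := by
      obtain ⟨m, hm⟩ := IsPGroup.iff_card.1 (hP.to_subgroup W)
      rcases Nat.eq_zero_or_pos m with h0 | h0
      · exfalso
        rw [h0, pow_zero] at hm
        exact hWne ((Subgroup.eq_bot_iff_card W).2 hm)
      · rw [hm]; exact dvd_pow_self p h0.ne'
    have h1fix : (1 : W) ∈ MulAction.fixedPoints Z W := by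
      intro z
      apply Subtype.ext
      rw [hsmul]; simp
    obtain ⟨b, hb, hb1⟩ := hZ.exists_fixed_point_of_prime_dvd_card_of_fixed_point W hpW h1fix
    have hxb : (x : MulAut P) (b : P) = b := by
      have := hb ⟨x, Subgroup.mem_zpowers x⟩
      have := congrArg Subtype.val this
      rw [hsmul] at this
      exact this
    have hnb : ∀ n : N, ((n : K) : MulAut P) (b : P) = b := by
      intro n
      by_cases hn1 : ((n : K) : MulAut P) = 1
      · rw [hn1]; simp
      · exact (hfix (x : MulAut P) ((n : K) : MulAut P) x.2 (n : K).2 hx1 hn1 b).1 hxb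
    have hτb : τ (b : P) = (b : P) ^ Fintype.card N := by
      rw [hτ, Finset.prod_congr rfl (fun n _ => hnb n), Finset.prod_const, Finset.card_univ]
    have hb' : (b : P) ^ Fintype.card N = 1 := by
      rw [← hτb]; exact b.2
    obtain ⟨m, hm⟩ := hP (b : P)
    have hd1 : orderOf (b : P) ∣ Fintype.card N := orderOf_dvd_of_pow_eq_one hb'
    have hd2 : orderOf (b : P) ∣ p ^ m := orderOf_dvd_of_pow_eq_one hm
    have hcop : Nat.Coprime (Fintype.card N) (p ^ m) := by
      apply Nat.Coprime.pow_right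
      rw [Nat.coprime_comm, hp.coprime_iff_not_dvd, ← Nat.card_eq_fintype_card]
      exact hpN
    have hone : orderOf (b : P) = 1 := Nat.eq_one_of_dvd_coprimes hcop hd1 hd2
    apply hb1
    apply Subtype.ext
    exact (orderOf_eq_one_iff.1 hone).symm
  have hinj : Function.Injective τ := (MonoidHom.ker_eq_bot_iff τ).1 hWbot
  have hsurj : Function.Surjective τ := Finite.surjective_of_injective hinj
  apply hn₀1
  apply Subtype.ext
  apply MulEquiv.ext
  intro v
  obtain ⟨u, rfl⟩ := hsurj v
  have := h2 ⟨n₀, hn₀N⟩ u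
  simpa using this

end Cfsg.Agent.S4036
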