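import Cfsg.Statements.S3742
import Mathlib

set_option autoImplicit false
open Cfsg

namespace Cfsg.Agent.S3742

open QuaternionGroup

/-- numeric code of an element of `Q₈` -/
def code : QuaternionGroup 2 → ℕ
  | a i => i.val
  | xa i => 4 + i.val

/-- the endomorphism determined by the images `x`, `y` of the generators `a 1`, `xa 0` -/
def f (x y : QuaternionGroup 2) : QuaternionGroup 2 → QuaternionGroup 2
  | a i => x ^ i.val
  | xa i => y * x ^ i.val

/-- the pairs `(x, y)` that are images of the generators under an automorphism -/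
def valid (x y : QuaternionGroup 2) : Prop := x * x ≠ 1 ∧ y * y ≠ 1 ∧ y ≠ x ∧ y * x ≠ 1

instance (x y : QuaternionGroup 2) : Decidable (valid x y) := by unfold valid; infer_instance

/-- the table of the action on the four "cube diagonals" (base 4 digits) -/
def tbl : ℕ → ℕ → ℕ
  | 1, 4 => 228
  | 1, 5 => 141
  | 1, 6 => 27
  | 1, 7 => 114
  | 3, 4 => 78
  | 3, 5 => 216
  | 3, 6 => 177
  | 3, 7 => 39
  | 4, 1 => 225
  | 4, 3 => 75
  | 4, 5 => 54
  | 4, 7 => 156
  | 5, 1 => 135
  | 5, 3 => 210
  | 5, 4 => 57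
  | 5, 6 => 108
  | 6, 1 => 30
  | 6, 3 => 180
  | 6, 5 => 99
  | 6, 7 => 201
  | 7, 1 => 120
  | 7, 3 => 45
  | 7, 4 => 147
  | 7, 6 => 198
  | _, _ => 0

def t (x y : QuaternionGroup 2) (i : Fin 4) : Fin 4 :=
  ⟨(tbl (code x) (code y) / 4 ^ i.val) % 4, Nat.mod_lt _ (by norm_num)⟩

set_option maxRecDepth 100000 in
theorem f_mul : ∀ x y : QuaternionGroup 2, valid x y → ∀ u w : QuaternionGroup 2,
    f x y (u * w) = f x y u * f x y w := by decide +kernel

theorem f_inj : ∀ x y : QuaternionGroup 2, valid x y → ∀ u w : QuaternionGroup 2,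
    f x y u = f x y w → u = w := by decide +kernel

theorem t_comp : ∀ x y x' y' : QuaternionGroup 2, valid x y → valid x' y' → ∀ i : Fin 4,
    t (f x y x') (f x y y') i = t x y (t x' y' i) := by decide +kernel

theorem t_inj_fn : ∀ x y : QuaternionGroup 2, valid x y → ∀ i j : Fin 4,
    t x y i = t x y j → i = j := by decide +kernel

theorem t_inj : ∀ x y x' y' : QuaternionGroup 2, valid x y → valid x' y' →
    (∀ i : Fin 4, t x y i = t x' y' i) → x = x' ∧ y = y' := by decide +kernel

theorem a_eq : ∀ i : ZMod (2 * 2), (a i : QuaternionGroup 2) = (a 1) ^ i.val := by decide +kernel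

theorem xa_eq : ∀ i : ZMod (2 * 2), (xa i : QuaternionGroup 2) = xa 0 * (a 1) ^ i.val := by
  decide +kernel

theorem card_valid : Fintype.card {v : QuaternionGroup 2 × QuaternionGroup 2 // valid v.1 v.2} = 24 := by
  decide +kernel

theorem f_gen (x y : QuaternionGroup 2) : f x y (a 1) = x ∧ f x y (xa 0) = y := by
  constructor
  · change x ^ (1 : ZMod (2 * 2)).val = x
    have : (1 : ZMod (2 * 2)).val = 1 := by decide
    rw [this, pow_one]
  · change y * x ^ (0 : ZMod (2 * 2)).val = y
    have : (0 : ZMod (2 * 2)).val = 0 := by decide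
    rw [this, pow_zero, mul_one]

theorem aut_eq (φ : MulAut (QuaternionGroup 2)) (u : QuaternionGroup 2) :
    φ u = f (φ (a 1)) (φ (xa 0)) u := by
  cases u with
  | a i =>
    change φ (a i) = (φ (a 1)) ^ i.val
    rw [← map_pow, ← a_eq]
  | xa i =>
    change φ (xa i) = φ (xa 0) * (φ (a 1)) ^ i.val
    rw [← map_pow, ← map_mul, ← xa_eq]

theorem aut_valid (φ : MulAut (QuaternionGroup 2)) : valid (φ (a 1)) (φ (xa 0)) := by
  refine ⟨?_, ?_, ?_, ?_⟩
  · rw [← map_mul, Ne, map_eq_one_iff φ φ.injective]; decide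
  · rw [← map_mul, Ne, map_eq_one_iff φ φ.injective]; decide
  · intro h; exact absurd (φ.injective h) (by decide)
  · rw [← map_mul, Ne, map_eq_one_iff φ φ.injective]; decide

/-- the automorphism attached to a valid pair -/
noncomputable def mk (v : {v : QuaternionGroup 2 × QuaternionGroup 2 // valid v.1 v.2}) :
    MulAut (QuaternionGroup 2) :=
  MulEquiv.ofBijective (MonoidHom.mk' (f v.1.1 v.1.2) (f_mul v.1.1 v.1.2 v.2))
    ((Finite.injective_iff_bijective).mp (fun u w h => f_inj v.1.1 v.1.2 v.2 u w h))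

theorem mk_apply (v : {v : QuaternionGroup 2 × QuaternionGroup 2 // valid v.1 v.2})
    (u : QuaternionGroup 2) : mk v u = f v.1.1 v.1.2 u := rfl

theorem mk_injective : Function.Injective mk := by
  intro v w h
  apply Subtype.ext
  have h1 : mk v (a 1) = mk w (a 1) := by rw [h]
  have h2 : mk v (xa 0) = mk w (xa 0) := by rw [h]
  rw [mk_apply, mk_apply, (f_gen _ _).1, (f_gen _ _).1] at h1
  rw [mk_apply, mk_apply, (f_gen _ _).2, (f_gen _ _).2] at h2
  exact Prod.ext h1 h2

/-- the action on the four diagonals -/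
noncomputable def toPerm (φ : MulAut (QuaternionGroup 2)) : Equiv.Perm (Fin 4) :=
  Equiv.ofBijective (t (φ (a 1)) (φ (xa 0)))
    ((Finite.injective_iff_bijective).mp (fun i j h => t_inj_fn _ _ (aut_valid φ) i j h))

theorem toPerm_apply (φ : MulAut (QuaternionGroup 2)) (i : Fin 4) :
    toPerm φ i = t (φ (a 1)) (φ (xa 0)) i := rfl

theorem toPerm_mul (φ ψ : MulAut (QuaternionGroup 2)) : toPerm (φ * ψ) = toPerm φ * toPerm ψ := by
  ext i
  rw [Equiv.Perm.mul_apply, toPerm_apply, toPerm_apply, toPerm_apply, MulAut.mul_apply,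
    MulAut.mul_apply, aut_eq φ (ψ (a 1)), aut_eq φ (ψ (xa 0)),
    t_comp _ _ _ _ (aut_valid φ) (aut_valid ψ)]

theorem toPerm_injective : Function.Injective toPerm := by
  intro φ ψ h
  have h1 : ∀ i : Fin 4, t (φ (a 1)) (φ (xa 0)) i = t (ψ (a 1)) (ψ (xa 0)) i := by
    intro i
    rw [← toPerm_apply, ← toPerm_apply, h]
  obtain ⟨h2, h3⟩ := t_inj _ _ _ _ (aut_valid φ) (aut_valid ψ) h1
  ext u
  rw [aut_eq φ u, aut_eq ψ u, h2, h3]

/-- The automorphism group of the quaternion group of order 8 is isomorphic to the symmetric group of degree 4. -/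
theorem result : Nonempty (MulAut (QuaternionGroup 2) ≃* Equiv.Perm (Fin 4)) := by
  have hcard : Nat.card (Equiv.Perm (Fin 4)) ≤ Nat.card (MulAut (QuaternionGroup 2)) := by
    have h1 : Nat.card (Equiv.Perm (Fin 4)) = 24 := by
      rw [Nat.card_eq_fintype_card, Fintype.card_perm, Fintype.card_fin]; rfl
    have h2 : Nat.card {v : QuaternionGroup 2 × QuaternionGroup 2 // valid v.1 v.2} = 24 := by
      rw [Nat.card_eq_fintype_card, card_valid]
    haveI : Finite (MulAut (QuaternionGroup 2)) :=
      Finite.of_injective (fun φ : MulAut (QuaternionGroup 2) => (φ : QuaternionGroup 2 → QuaternionGroup 2))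
        (fun φ ψ h => DFunLike.coe_injective h)
    rw [h1, ← h2]
    exact Nat.card_le_card_of_injective mk mk_injective
  have hbij : Function.Bijective toPerm :=
    Function.Injective.bijective_of_nat_card_le toPerm_injective hcard
  exact ⟨MulEquiv.ofBijective (MonoidHom.mk' toPerm toPerm_mul) hbij⟩

end Cfsg.Agent.S3742
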