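import Cfsg.Statements.S4142
import Mathlib

set_option autoImplicit false
open Cfsg

namespace Cfsg.Agent.S4142

lemma card_range_mul_card_fiber {D : Type*} [Group D] {X : Type*} (ψ : D → X) (C : Subgroup D)
    (h : ∀ x y, ψ x = ψ y ↔ x⁻¹ * y ∈ C) : Nat.card (Set.range ψ) * Nat.card C = Nat.card D := by
  let f : D ⧸ C → Set.range ψ :=
    Quotient.lift (fun x => (⟨ψ x, x, rfl⟩ : Set.range ψ)) (fun a b hab => by
      have : a⁻¹ * b ∈ C := QuotientGroup.leftRel_apply.mp hab
      exact Subtype.ext ((h a b).mpr this))
  have hf : Function.Bijective f := by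
    constructor
    · intro q q'
      induction q using QuotientGroup.induction_on with
      | H a =>
        induction q' using QuotientGroup.induction_on with
        | H b =>
          intro hq
          have : ψ a = ψ b := congrArg Subtype.val hq
          exact QuotientGroup.eq.mpr ((h a b).mp this)
    · rintro ⟨_, x, rfl⟩
      exact ⟨(x : D ⧸ C), rfl⟩
  rw [← Nat.card_congr (Equiv.ofBijective f hf)]
  exact (Subgroup.card_eq_card_quotient_mul_card_subgroup C).symm

/-- pointwise version -/
lemma key {G : Type*} [Group G] [Finite G] (N : Subgroup G) [N.Normal] (g : G) :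
    (∀ n ∈ N, ∃ x : G, x * g * x⁻¹ = g * n) ↔
      Nat.card (Subgroup.centralizer ({g} : Set G)) =
        Nat.card (Subgroup.centralizer ({(QuotientGroup.mk g : G ⧸ N)} : Set (G ⧸ N))) := by
  classical
  set Cbar := Subgroup.centralizer ({(QuotientGroup.mk g : G ⧸ N)} : Set (G ⧸ N)) with hCbar
  set C := Subgroup.centralizer ({g} : Set G) with hC
  set D : Subgroup G := Cbar.comap (QuotientGroup.mk' N) with hD
  have hmemD : ∀ x : G, x ∈ D ↔ g⁻¹ * (x * g * x⁻¹) ∈ N := by
    intro x
    rw [hD, Subgroup.mem_comap, hCbar, Subgroup.mem_centralizer_iff]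
    simp only [Set.mem_singleton_iff, forall_eq, QuotientGroup.mk'_apply]
    rw [← QuotientGroup.eq]
    rw [QuotientGroup.mk_mul, QuotientGroup.mk_mul, QuotientGroup.mk_inv]
    constructor
    · intro h
      rw [← h]; simp
    · intro h
      have h' := congrArg (fun t => t * (x : G ⧸ N)) h
      simpa using h'
  have hCD : C ≤ D := by
    intro x hx
    rw [hmemD]
    have : g * x = x * g := by
      rw [hC, Subgroup.mem_centralizer_iff] at hx
      exact hx g rfl
    have : g⁻¹ * (x * g * x⁻¹) = 1 := by rw [← this]; group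
    rw [this]; exact N.one_mem
  -- card D = card N * card Cbar
  have hcardD : Nat.card D = Nat.card N * Nat.card Cbar := by
    have h1 : D.index = Cbar.index :=
      Subgroup.index_comap_of_surjective Cbar (QuotientGroup.mk'_surjective N)
    have h2 : Nat.card D * D.index = Nat.card G := Subgroup.card_mul_index D
    have h3 : Nat.card Cbar * Cbar.index = Nat.card (G ⧸ N) := Subgroup.card_mul_index Cbar
    have h4 : Nat.card G = Nat.card (G ⧸ N) * Nat.card N :=
      Subgroup.card_eq_card_quotient_mul_card_subgroup N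
    have hpos : 0 < Cbar.index := Nat.pos_of_ne_zero Subgroup.index_ne_zero_of_finite
    have : Nat.card D * Cbar.index = (Nat.card N * Nat.card Cbar) * Cbar.index := by
      calc Nat.card D * Cbar.index = Nat.card D * D.index := by rw [h1]
        _ = Nat.card G := h2
        _ = Nat.card (G ⧸ N) * Nat.card N := h4
        _ = Nat.card Cbar * Cbar.index * Nat.card N := by rw [h3]
        _ = (Nat.card N * Nat.card Cbar) * Cbar.index := by ring
    exact Nat.eq_of_mul_eq_mul_right hpos this
  -- the map ψ
  let ψ : D → N := fun x => ⟨g⁻¹ * ((x : G) * g * (x : G)⁻¹), (hmemD x).mp x.2⟩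
  have hψ : ∀ x y : D, ψ x = ψ y ↔ x⁻¹ * y ∈ C.subgroupOf D := by
    intro x y
    rw [Subgroup.mem_subgroupOf, hC, Subgroup.mem_centralizer_iff]
    simp only [Set.mem_singleton_iff, forall_eq, Subgroup.coe_mul, Subgroup.coe_inv]
    constructor
    · intro h
      have h' : (x : G) * g * (x : G)⁻¹ = (y : G) * g * (y : G)⁻¹ := by
        have := congrArg Subtype.val h
        exact mul_left_cancel this
      calc g * ((x : G)⁻¹ * y) = (x : G)⁻¹ * ((x : G) * g * (x : G)⁻¹) * y := by group
        _ = (x : G)⁻¹ * ((y : G) * g * (y : G)⁻¹) * y := by rw [h']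
        _ = (x : G)⁻¹ * y * g := by group
    · intro h
      apply Subtype.ext
      show g⁻¹ * ((x : G) * g * (x : G)⁻¹) = g⁻¹ * ((y : G) * g * (y : G)⁻¹)
      congr 1
      calc (x : G) * g * (x : G)⁻¹ = (x : G) * (g * ((x : G)⁻¹ * y)) * (y : G)⁻¹ := by group
        _ = (x : G) * ((x : G)⁻¹ * y * g) * (y : G)⁻¹ := by rw [h]
        _ = (y : G) * g * (y : G)⁻¹ := by group
  have hcount := card_range_mul_card_fiber ψ (C.subgroupOf D) hψ
  have hcardC : Nat.card (C.subgroupOf D) = Nat.card C :=
    Nat.card_congr (Subgroup.subgroupOfEquivOfLe hCD).toEquiv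
  rw [hcardC, hcardD] at hcount
  have hCpos : 0 < Nat.card C := Nat.card_pos
  have hNpos : 0 < Nat.card N := Nat.card_pos
  have hsurj : (∀ n ∈ N, ∃ x : G, x * g * x⁻¹ = g * n) ↔ Function.Surjective ψ := by
    constructor
    · intro h n
      obtain ⟨x, hx⟩ := h n n.2
      have hxD : x ∈ D := by
        rw [hmemD, hx]; simp
      refine ⟨⟨x, hxD⟩, ?_⟩
      apply Subtype.ext
      show g⁻¹ * (x * g * x⁻¹) = n
      rw [hx]; group
    · intro h n hn
      obtain ⟨x, hx⟩ := h ⟨n, hn⟩
      refine ⟨x, ?_⟩
      have := congrArg Subtype.val hx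
      have h2 : g⁻¹ * ((x : G) * g * (x : G)⁻¹) = n := this
      rw [← h2]; group
  rw [hsurj]
  constructor
  · intro hs
    have : Set.range ψ = Set.univ := Set.range_eq_univ.mpr hs
    rw [this, Nat.card_congr (Equiv.Set.univ N)] at hcount
    exact Nat.eq_of_mul_eq_mul_left hNpos hcount
  · intro he
    rw [← he] at hcount
    have h5 : Nat.card (Set.range ψ) = Nat.card N := Nat.eq_of_mul_eq_mul_right hCpos hcount
    have hinj : Function.Injective (Subtype.val : Set.range ψ → N) := Subtype.val_injective
    have hb := hinj.bijective_of_nat_card_le h5.ge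
    intro n
    obtain ⟨⟨_, x, rfl⟩, rfl⟩ := hb.2 n
    exact ⟨x, rfl⟩

/-- Let G be a finite group and N a normal subgroup. Then the conjugacy class of every element g outside N is a union of cosets of N (gn is conjugate to g for all n ∈ N) if and only if for every g outside N the centralizer of g in G has the same order as the centralizer of gN in G/N. -/
theorem result {G : Type*} [Group G] [Finite G] (N : Subgroup G) [N.Normal] :
    (∀ g : G, g ∉ N → ∀ n ∈ N, ∃ x : G, x * g * x⁻¹ = g * n) ↔
      ∀ g : G, g ∉ N → Nat.card (Subgroup.centralizer ({g} : Set G)) =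
        Nat.card (Subgroup.centralizer ({(QuotientGroup.mk g : G ⧸ N)} : Set (G ⧸ N))) := by
  constructor
  · intro h g hg
    exact (key N g).mp (h g hg)
  · intro h g hg
    exact (key N g).mpr (h g hg)

end Cfsg.Agent.S4142
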