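import Cfsg.Statements.S4033
import Cfsg.Agent.Lib.Helper4.TPCore
import Cfsg.Agent.Lib.Helper28.TPY2
import Cfsg.Agent.Lib.Helper30.TPIDX
import Cfsg.Agent.Lib.Helper14.TPFTABS
import Cfsg.Agent.Lib.Helper75.TPNCR
import Cfsg.Agent.Lib.Helper40.TPUC
import Cfsg.Agent.Lib.Helper62.TPHC
import Cfsg.Agent.Lib.Helper62.TPFTG
import Cfsg.Agent.Lib.Helper62.TPN4A
import Cfsg.Agent.Lib.Helper47.TPN4B
import Cfsg.Agent.Lib.Helper30.TPN4C
import Cfsg.Agent.Lib.Helper10.TPN4D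
import Cfsg.Agent.Lib.Helper32.TPN4G
import Cfsg.Agent.Lib.Helper80.TPTRANS
import Cfsg.Agent.Lib.Helper64.TPS3
import Cfsg.Agent.Lib.Helper64.TPKAZ
import Cfsg.Agent.Lib.Helper60.TPSOLVA
import Cfsg.Agent.Lib.Helper89.TPSOLVB
import Cfsg.Agent.Lib.Helper28.TPRS
import Cfsg.Agent.Lib.Helper65.TPCONJ
import Cfsg.Agent.Lib.Helper42.TPRT1A
import Cfsg.Agent.Lib.Helper34.TPRT1B
import Cfsg.Agent.Lib.Helper53.TPRTABS
import Cfsg.Agent.Lib.Helper5.TPAVG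
import Cfsg.Agent.Lib.Helper8.TPRP1
import Cfsg.Agent.Lib.Helper67.TPRPQ
import Cfsg.Agent.Lib.Helper65.TPZB

set_option autoImplicit false
open Cfsg

namespace Cfsg.Agent.S4033

/-- Let G be a finite group and p a prime, and suppose the conjugacy classes of p-regular elements of G (elements of order prime to p) have exactly two distinct sizes. Then either G has an abelian p-complement (an abelian subgroup of order prime to p and p-power index), or there are a prime q ≠ p, a Sylow p-subgroup P, a Sylow q-subgroup Q and a central subgroup A such that PQ is a normal subgroup of order #P·#Q and G is the internal direct product PQ × A. -/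
theorem result {G : Type*} [Group G] [Finite G] {p : ℕ} (hp : p.Prime)
    (h2 : Set.ncard (Set.range fun x : {x : G // (orderOf x).Coprime p} => (ConjClasses.mk (x : G)).carrier.ncard) = 2) :
    (∃ H : Subgroup G, IsMulCommutative H ∧ ¬ p ∣ Nat.card H ∧ ∃ k : ℕ, H.index = p ^ k) ∨
    (∃ (q : ℕ) (_ : Fact q.Prime) (P : Sylow p G) (Q : Sylow q G) (A : Subgroup G), q ≠ p ∧
        A ≤ Subgroup.center G ∧ Nat.card ↥((P : Subgroup G) ⊔ (Q : Subgroup G)) = Nat.card P * Nat.card Q ∧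
        ((P : Subgroup G) ⊔ (Q : Subgroup G)).Normal ∧
        ((P : Subgroup G) ⊔ (Q : Subgroup G)) ⊓ A = ⊥ ∧ ((P : Subgroup G) ⊔ (Q : Subgroup G)) ⊔ A = ⊤) :=
  Cfsg.Agent.Lib.Helper8.TP.s4033_of_back
    (Cfsg.Agent.Lib.Helper4.TP.core_back Cfsg.Agent.Lib.Helper4.TP.y2 Cfsg.Agent.Lib.Helper4.TP.idx (Cfsg.Agent.Lib.Helper4.TP.ftg Cfsg.Agent.Lib.Helper4.TP.ftabs Cfsg.Agent.Lib.Helper4.TP.ncr Cfsg.Agent.Lib.Helper4.TP.uc)
      (Cfsg.Agent.Lib.Helper4.TP.n4g (Cfsg.Agent.Lib.Helper4.TP.n4d Cfsg.Agent.Lib.Helper4.TP.n4a Cfsg.Agent.Lib.Helper4.TP.n4b Cfsg.Agent.Lib.Helper4.TP.n4c Cfsg.Agent.Lib.Helper4.TP.solva) Cfsg.Agent.Lib.Helper4.TP.y2 Cfsg.Agent.Lib.Helper4.TP.idx Cfsg.Agent.Lib.Helper4.TP.ncr Cfsg.Agent.Lib.Helper4.TP.hc Cfsg.Agent.Lib.Helper4.TP.uc)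
      Cfsg.Agent.Lib.Helper4.TP.trans Cfsg.Agent.Lib.Helper4.TP.s3 Cfsg.Agent.Lib.Helper4.TP.kaz Cfsg.Agent.Lib.Helper4.TP.solva Cfsg.Agent.Lib.Helper4.TP.solvb Cfsg.Agent.Lib.Helper4.TP.rs Cfsg.Agent.Lib.Helper4.TP.conj (Cfsg.Agent.Lib.Helper4.TP.rt1a Cfsg.Agent.Lib.Helper4.TP.conj) Cfsg.Agent.Lib.Helper4.TP.rt1b Cfsg.Agent.Lib.Helper4.TP.rtabs
      (Cfsg.Agent.Lib.Helper4.TP.rpq (Cfsg.Agent.Lib.Helper4.TP.rp1 Cfsg.Agent.Lib.Helper4.TP.avg)) Cfsg.Agent.Lib.Helper4.TP.zb) hp h2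

end Cfsg.Agent.S4033
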