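import Cfsg.Statements.S3908
import Mathlib
import Cfsg.Agent.S0016

set_option autoImplicit false
open Cfsg

namespace Cfsg.Agent.S3908

/-- a `p`-group with two subgroups of order `p` has a central element `z` of order `p` and an
element `y` of order `p` outside `⟨z⟩`. -/
theorem L1 {Q : Type*} [Group Q] [Finite Q] {p : ℕ} [Fact p.Prime] (hQ : IsPGroup p Q)
    (h : ¬ ∀ H K : Subgroup Q, Nat.card H = p → Nat.card K = p → H = K) :
    ∃ z y : Q, orderOf z = p ∧ orderOf y = p ∧ (∀ q, z * q = q * z) ∧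
      y ∉ Subgroup.zpowers z := by
  have hp : p.Prime := Fact.out
  push Not at h
  obtain ⟨A, B, hA, hB, hAB⟩ := h
  have hAnt : A ≠ ⊥ := by
    intro h0; rw [h0, Subgroup.card_bot] at hA; exact hp.one_lt.ne hA
  haveI : Nontrivial Q := by
    obtain ⟨a, ha⟩ := (Subgroup.ne_bot_iff_exists_ne_one).mp hAnt
    exact ⟨⟨(a : Q), 1, fun h1 => ha (Subtype.ext h1)⟩⟩
  haveI hc := hQ.center_nontrivial
  have hcp : IsPGroup p (Subgroup.center Q) := hQ.to_subgroup _
  obtain ⟨k, hk⟩ := IsPGroup.iff_card.mp hcp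
  have hk0 : k ≠ 0 := by
    rintro rfl
    rw [pow_zero] at hk
    have := Finite.one_lt_card (α := Subgroup.center Q)
    omega
  obtain ⟨z, hz⟩ := exists_prime_orderOf_dvd_card' p (hk ▸ dvd_pow_self p hk0)
  have hzo : orderOf (z : Q) = p := by rw [Subgroup.orderOf_coe]; exact hz
  have hcardZ : Nat.card (Subgroup.zpowers (z : Q)) = p := by rw [Nat.card_zpowers, hzo]
  obtain ⟨Y, hY, hYZ⟩ : ∃ Y : Subgroup Q, Nat.card Y = p ∧ Y ≠ Subgroup.zpowers (z : Q) := by
    by_cases hAZ : A = Subgroup.zpowers (z : Q)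
    · exact ⟨B, hB, fun hBZ => hAB (hAZ.trans hBZ.symm)⟩
    · exact ⟨A, hA, hAZ⟩
  have hYnt : Y ≠ ⊥ := by
    intro h0; rw [h0, Subgroup.card_bot] at hY; exact hp.one_lt.ne hY
  obtain ⟨y, hy1⟩ := (Subgroup.ne_bot_iff_exists_ne_one).mp hYnt
  have hyo : orderOf (y : Q) = p := by
    rw [Subgroup.orderOf_coe]
    have hd : orderOf y ∣ p := hY ▸ orderOf_dvd_natCard y
    rcases (Nat.dvd_prime hp).mp hd with h1 | h1
    · exact absurd (orderOf_eq_one_iff.mp h1) hy1
    · exact h1
  have hcardy : Nat.card (Subgroup.zpowers (y : Q)) = p := by rw [Nat.card_zpowers, hyo]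
  refine ⟨z, y, hzo, hyo, fun q => (Subgroup.mem_center_iff.mp z.2 q).symm, ?_⟩
  intro hyz
  have h1 : Subgroup.zpowers (y : Q) ≤ Subgroup.zpowers (z : Q) := Subgroup.zpowers_le.mpr hyz
  have h2 : Subgroup.zpowers (y : Q) ≤ Y := Subgroup.zpowers_le.mpr y.2
  have e1 := Subgroup.eq_of_le_of_card_ge h1 (by rw [hcardZ, hcardy])
  have e2 := Subgroup.eq_of_le_of_card_ge h2 (by rw [hY, hcardy])
  exact hYZ (e2.symm.trans e1)

/-- two commuting independent elements of order `p` span an elementary abelian group of order `p²` -/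
theorem L2 {G : Type*} [Group G] {p : ℕ} [Fact p.Prime] (z y : G) (hzy : Commute z y)
    (hz : orderOf z = p) (hy : orderOf y = p) (hyz : y ∉ Subgroup.zpowers z) :
    ∃ E : Subgroup G, IsMulCommutative ↥E ∧ Nat.card E = p ^ 2 ∧ ∀ e ∈ E, e ^ p = 1 := by
  have hp : p.Prime := Fact.out
  have comm : ∀ (m : Subgroup.zpowers z) (n : Subgroup.zpowers y),
      Commute ((Subgroup.zpowers z).subtype m) ((Subgroup.zpowers y).subtype n) := by
    intro m n
    obtain ⟨i, hi⟩ := Subgroup.mem_zpowers_iff.mp m.2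
    obtain ⟨j, hj⟩ := Subgroup.mem_zpowers_iff.mp n.2
    simp only [Subgroup.coe_subtype]
    rw [← hi, ← hj]
    exact (hzy.zpow_right j).zpow_left i
  have hcz : Nat.card (Subgroup.zpowers z) = p := by rw [Nat.card_zpowers, hz]
  have hcy : Nat.card (Subgroup.zpowers y) = p := by rw [Nat.card_zpowers, hy]
  haveI : Finite (Subgroup.zpowers z) := Nat.finite_of_card_ne_zero (by rw [hcz]; exact hp.ne_zero)
  haveI : Finite (Subgroup.zpowers y) := Nat.finite_of_card_ne_zero (by rw [hcy]; exact hp.ne_zero)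
  have hdisj : Disjoint (Subgroup.zpowers z).subtype.range (Subgroup.zpowers y).subtype.range := by
    rw [Subgroup.range_subtype, Subgroup.range_subtype, Subgroup.disjoint_def]
    intro w hwz hwy
    by_contra hw1
    have hwo : orderOf w = p := by
      have hd : orderOf w ∣ p := by
        have := orderOf_dvd_natCard (⟨w, hwy⟩ : Subgroup.zpowers y)
        rw [hcy, ← Subgroup.orderOf_coe] at this
        exact this
      rcases (Nat.dvd_prime hp).mp hd with h1 | h1
      · exact absurd (orderOf_eq_one_iff.mp h1) hw1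
      · exact h1
    have hcw : Nat.card (Subgroup.zpowers w) = p := by rw [Nat.card_zpowers, hwo]
    have e1 := Subgroup.eq_of_le_of_card_ge (Subgroup.zpowers_le.mpr hwy) (by rw [hcy, hcw])
    have : y ∈ Subgroup.zpowers w := by rw [e1]; exact Subgroup.mem_zpowers y
    exact hyz (Subgroup.zpowers_le.mpr hwz this)
  have hinj : Function.Injective (MonoidHom.noncommCoprod (Subgroup.zpowers z).subtype
      (Subgroup.zpowers y).subtype comm) := by
    rw [MonoidHom.noncommCoprod_injective]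
    exact ⟨Subgroup.subtype_injective _, Subgroup.subtype_injective _, hdisj⟩
  have hrep : ∀ e ∈ (MonoidHom.noncommCoprod (Subgroup.zpowers z).subtype
      (Subgroup.zpowers y).subtype comm).range, ∃ i j : ℤ, e = z ^ i * y ^ j := by
    rintro e ⟨⟨m, n⟩, rfl⟩
    obtain ⟨i, hi⟩ := Subgroup.mem_zpowers_iff.mp m.2
    obtain ⟨j, hj⟩ := Subgroup.mem_zpowers_iff.mp n.2
    refine ⟨i, j, ?_⟩
    rw [MonoidHom.noncommCoprod_apply, hi, hj]
    rfl
  refine ⟨(MonoidHom.noncommCoprod (Subgroup.zpowers z).subtype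
      (Subgroup.zpowers y).subtype comm).range, ?_, ?_, ?_⟩
  · refine ⟨⟨fun a b => Subtype.ext ?_⟩⟩
    obtain ⟨i, j, ha⟩ := hrep a a.2
    obtain ⟨k, l, hb⟩ := hrep b b.2
    simp only [Subgroup.coe_mul]
    rw [ha, hb]
    have h1 : Commute (z ^ i) (z ^ k) := (Commute.refl z).zpow_zpow i k
    have h2 : Commute (z ^ i) (y ^ l) := (hzy.zpow_right l).zpow_left i
    have h3 : Commute (y ^ j) (z ^ k) := (hzy.symm.zpow_right k).zpow_left j
    have h4 : Commute (y ^ j) (y ^ l) := (Commute.refl y).zpow_zpow j l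
    exact ((h1.mul_right h2).mul_left (h3.mul_right h4)).eq
  · rw [← Nat.card_congr (MonoidHom.ofInjective hinj).toEquiv, Nat.card_prod, hcz, hcy, pow_two]
  · intro e he
    obtain ⟨i, j, rfl⟩ := hrep e he
    have h2 : Commute (z ^ i) (y ^ j) := (hzy.zpow_right j).zpow_left i
    rw [h2.mul_pow, ← zpow_natCast, ← zpow_natCast, ← zpow_mul, ← zpow_mul, mul_comm i, mul_comm j,
      zpow_mul, zpow_mul, zpow_natCast, zpow_natCast, ← hz, pow_orderOf_eq_one, hz, ← hy,
      pow_orderOf_eq_one, one_zpow, one_zpow, mul_one]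

variable {G : Type*} [Group G] [Finite G]

theorem core (hB : ∀ A B : Subgroup G, IsMulCommutative ↥A → IsMulCommutative ↥B →
      Nat.card ↥A = Nat.card ↥B → ∃ g : G, B = A.map (MulAut.conj g).toMonoidHom)
    (p : ℕ) [Fact p.Prime] (P : Sylow p G) :
    IsCyclic ↥(P : Subgroup G) ∨
      (p = 2 ∧ ∃ k : ℕ, Nonempty (↥(P : Subgroup G) ≃* QuaternionGroup (2 ^ k))) ∨
      ∀ x ∈ (P : Subgroup G), x ^ p = 1 := by
  have hp : p.Prime := Fact.out
  by_cases huniq : ∀ H K : Subgroup (P : Subgroup G), Nat.card H = p → Nat.card K = p → H = K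
  · rcases Cfsg.Agent.S0016.result p P.2 huniq with h | h
    · exact Or.inl h
    · exact Or.inr (Or.inl h)
  · right; right
    obtain ⟨z, y, hzo, hyo, hzc, hyz⟩ := L1 P.2 huniq
    have hzo' : orderOf (z : G) = p := by rw [Subgroup.orderOf_coe]; exact hzo
    have hyo' : orderOf (y : G) = p := by rw [Subgroup.orderOf_coe]; exact hyo
    have hcomm : Commute (z : G) (y : G) := by
      have := hzc y
      exact congrArg Subtype.val this
    have hyz' : (y : G) ∉ Subgroup.zpowers (z : G) := by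
      intro hc
      apply hyz
      obtain ⟨i, hi⟩ := Subgroup.mem_zpowers_iff.mp hc
      exact Subgroup.mem_zpowers_iff.mpr ⟨i, Subtype.ext (by simpa using hi)⟩
    obtain ⟨E, hEc, hEcard, hEexp⟩ := L2 (z : G) (y : G) hcomm hzo' hyo' hyz'
    intro x hx
    by_contra hxp
    obtain ⟨k, hk⟩ := (IsPGroup.iff_orderOf.mp P.2) ⟨x, hx⟩
    rw [Subgroup.orderOf_mk] at hk
    have hk2 : 2 ≤ k := by
      by_contra hc
      have hk1 : k ≤ 1 := by omega
      apply hxp
      have hd : orderOf x ∣ p := by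
        rw [hk]
        calc p ^ k ∣ p ^ 1 := pow_dvd_pow p hk1
          _ = p := pow_one p
      exact orderOf_dvd_iff_pow_eq_one.mp hd
    obtain ⟨w, hw⟩ : ∃ w : G, w = x ^ (p ^ (k - 2)) := ⟨_, rfl⟩
    have hwo : orderOf w = p ^ 2 := by
      rw [hw, orderOf_pow_of_dvd (pow_ne_zero _ hp.ne_zero), hk]
      · rw [Nat.pow_div (by omega) hp.pos]
        congr 1
        omega
      · rw [hk]; exact pow_dvd_pow p (by omega)
    have hcw : Nat.card (Subgroup.zpowers w) = p ^ 2 := by rw [Nat.card_zpowers, hwo]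
    obtain ⟨g, hg⟩ := hB (Subgroup.zpowers w) E inferInstance hEc (by rw [hcw, hEcard])
    have hmem : g * w * g⁻¹ ∈ E := by
      rw [hg]
      exact ⟨w, Subgroup.mem_zpowers w, rfl⟩
    have h1 := hEexp _ hmem
    rw [conj_pow] at h1
    have h2 : w ^ p = 1 := by
      have : w ^ p = g⁻¹ * (g * w ^ p * g⁻¹) * g := by group
      rw [this, h1]; group
    have h3 := orderOf_dvd_of_pow_eq_one h2
    rw [hwo] at h3
    have h4 := Nat.le_of_dvd hp.pos h3
    have h5 : p < p ^ 2 := by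
      calc p = p ^ 1 := (pow_one p).symm
        _ < p ^ 2 := Nat.pow_lt_pow_right hp.one_lt (by norm_num)
    omega

theorem result {G : Type*} [Group G] [Finite G] (hB : ∀ A B : Subgroup G, IsMulCommutative ↥A → IsMulCommutative ↥B → Nat.card ↥A = Nat.card ↥B → ∃ g : G, B = A.map (MulAut.conj g).toMonoidHom) :
    (∀ P : Sylow 2 G, IsCyclic ↥(P : Subgroup G) ∨ Cfsg.IsElementaryAbelian 2 (P : Subgroup G) ∨ ∃ k : ℕ, Nonempty (↥(P : Subgroup G) ≃* QuaternionGroup (2 ^ k))) ∧
    ∀ (p : ℕ) [Fact p.Prime], p ≠ 2 → ∀ P : Sylow p G, IsCyclic ↥(P : Subgroup G) ∨ ∀ x ∈ (P : Subgroup G), x ^ p = 1 := by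
  constructor
  · intro P
    haveI : Fact (Nat.Prime 2) := ⟨Nat.prime_two⟩
    rcases core hB 2 P with h | ⟨-, h⟩ | h
    · exact Or.inl h
    · exact Or.inr (Or.inr h)
    · refine Or.inr (Or.inl ⟨⟨⟨fun a b => Subtype.ext ?_⟩⟩, h⟩)
      have ha := h a a.2
      have hb := h b b.2
      have hab := h (a * b) (Subgroup.mul_mem _ a.2 b.2)
      simp only [Subgroup.coe_mul]
      have e1 : (a : G) * b = ((a : G) * b)⁻¹ := by
        rw [eq_inv_iff_mul_eq_one, ← pow_two]; exact hab
      have e2 : (a : G)⁻¹ = a := by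
        rw [inv_eq_iff_mul_eq_one, ← pow_two]; exact ha
      have e3 : (b : G)⁻¹ = b := by
        rw [inv_eq_iff_mul_eq_one, ← pow_two]; exact hb
      rw [e1, mul_inv_rev, e2, e3]
  · intro p _ hp2 P
    rcases core hB p P with h | ⟨h, -⟩ | h
    · exact Or.inl h
    · exact absurd h hp2
    · exact Or.inr h

end Cfsg.Agent.S3908
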