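import Cfsg.Statements.S3360
import Mathlib
import Cfsg.Agent.S3430
import Cfsg.Agent.Lib.Helper63.Hup1
import Cfsg.Agent.Lib.Helper63.Hup2
import Cfsg.Agent.Lib.Helper63.Hup3
import Cfsg.Agent.Lib.Helper63.Hup4
import Cfsg.Agent.Lib.Helper63.Hup5
import Cfsg.Agent.Lib.Helper63.Hup6

set_option autoImplicit false
open Cfsg

namespace Cfsg.Agent.S3360

open Cfsg.Agent.Lib.Helper63

/-- Let q be a prime and V a non-trivial finite vector space over the field with q elements, and let G be a finite solvable group acting faithfully and linearly on V and transitively on the non-zero vectors. Then either V can be identified with the additive group of a finite field F in such a way that every element of G acts as x ↦ a·σ(x) for some a ∈ F and some field automorphism σ, or the number of elements of V is one of 3^2, 5^2, 7^2, 11^2, 23^2, 3^4. -/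
theorem result
    (q : ℕ) [Fact q.Prime] {V : Type*} [AddCommGroup V] [Module (ZMod q) V] [Finite V] [Nontrivial V]
    {G : Type*} [Group G] [Finite G] (hsol : Group.IsSolvable G)
    (ρ : G →* (V ≃ₗ[ZMod q] V)) (hρ : Function.Injective ρ)
    (htrans : ∀ v w : V, v ≠ 0 → w ≠ 0 → ∃ g : G, ρ g v = w) :
    (∃ (F : Type) (_ : Field F) (_ : Fintype F) (e : V ≃+ F),
        ∀ g : G, ∃ (a : F) (σ : F ≃+* F), ∀ v : V, e (ρ g v) = a * σ (e v)) ∨
    Nat.card V ∈ ({9, 25, 49, 121, 529, 81} : Set ℕ) := by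
  classical
  have hq : q.Prime := Fact.out
  have hq2 := hq.two_le
  haveI : Finite (Module.End (ZMod q) V) := DFunLike.finite (V →ₗ[ZMod q] V)
  obtain ⟨n, hn⟩ : ∃ n : ℕ, Nat.card V = q ^ n := by
    refine ⟨Module.finrank (ZMod q) V, ?_⟩
    have h := Module.natCard_eq_pow_finrank (K := ZMod q) (V := V)
    rw [Nat.card_zmod] at h
    exact h
  have hn1 : 1 ≤ n := by
    by_contra h0
    have : n = 0 := by omega
    rw [this, pow_zero] at hn
    have h1 : 1 < Nat.card V := Finite.one_lt_card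
    omega
  by_cases hsl : (∃ (F : Type) (_ : Field F) (_ : Fintype F) (e : V ≃+ F),
        ∀ g : G, ∃ (a : F) (σ : F ≃+* F), ∀ v : V, e (ρ g v) = a * σ (e v))
  · exact Or.inl hsl
  right
  rcases Nat.lt_or_ge n 2 with hlt | hge
  · -- n = 1
    exfalso
    have hn1' : n = 1 := by omega
    subst hn1'
    rw [pow_one] at hn
    apply hsl
    refine Hup1.sl_of_abelian ρ htrans ⊥ ?_ ?_
    · intro a ha b hb
      rw [Subgroup.mem_bot] at ha hb
      rw [ha, hb]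
    · rw [hn]
      have hinj : Function.Injective
          (fun c : ZMod q => (⟨c • (1 : Module.End (ZMod q) V),
            Subalgebra.smul_mem _ (Subalgebra.one_mem _) c⟩ : Hup1.BA ρ (⊥ : Subgroup G))) := by
        intro c d hcd
        have := congrArg Subtype.val hcd
        exact Hup2.smul_one_inj c d this
      have h := Nat.card_le_card_of_injective _ hinj
      rw [Nat.card_zmod] at h
      exact h
  rcases Nat.lt_or_ge n 3 with hlt3 | hge3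
  · -- n = 2
    have hn2 : n = 2 := by omega
    subst hn2
    rcases Hup2.dim_two hsol ρ hρ htrans hn with h | h | h | h | h | h
    · exact absurd h hsl
    all_goals
      rw [hn, h]
      norm_num
  -- n ≥ 3
  by_cases h26 : q = 2 ∧ n = 6
  · exfalso
    obtain ⟨h2, h6⟩ := h26
    subst h6
    exact hsl (Hup5.case26 hsol ρ hρ htrans h2 hn)
  by_cases h34 : q = 3 ∧ n = 4
  · obtain ⟨h3, h4⟩ := h34
    rw [hn, h3, h4]
    norm_num
  exfalso
  have hGdvd : q ^ n - 1 ∣ Nat.card G := by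
    have := Hup4.card_dvd ρ htrans
    rwa [hn] at this
  -- the prime ℓ
  obtain ⟨ℓ, b, hℓ, hdvd, hppd, hb, hbdvd, hnum⟩ : ∃ ℓ b : ℕ, ℓ.Prime ∧ ℓ ∣ q ^ n - 1 ∧
      (∀ i, 1 ≤ i → i < n → ¬ ℓ ∣ q ^ i - 1) ∧ (b = 1 ∨ b = 2) ∧ ℓ ^ b ∣ q ^ n - 1 ∧
      ∀ r k : ℕ, r.Prime → r ≠ q → 1 ≤ k → r ^ k ≤ n → ¬ ℓ ^ b ∣ r ^ k * r ^ k - 1 := by
    by_cases hexc : (q = 2 ∧ (n = 4 ∨ n = 6 ∨ n = 10 ∨ n = 12 ∨ n = 18)) ∨
        (q = 3 ∧ (n = 4 ∨ n = 6)) ∨ (q = 5 ∧ n = 6)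
    · obtain ⟨ℓ, hℓ⟩ : ∃ ℓ : ℕ, (q = 2 ∧ n = 4 ∧ ℓ = 5) ∨ (q = 2 ∧ n = 10 ∧ ℓ = 11) ∨
          (q = 2 ∧ n = 12 ∧ ℓ = 13) ∨ (q = 2 ∧ n = 18 ∧ ℓ = 19) ∨ (q = 3 ∧ n = 6 ∧ ℓ = 7) ∨
          (q = 5 ∧ n = 6 ∧ ℓ = 7) := by
        rcases hexc with ⟨h2, h | h | h | h | h⟩ | ⟨h3, h | h⟩ | ⟨h5, h⟩
        · exact ⟨5, Or.inl ⟨h2, h, rfl⟩⟩
        · exact absurd ⟨h2, h⟩ h26
        · exact ⟨11, Or.inr (Or.inl ⟨h2, h, rfl⟩)⟩
        · exact ⟨13, Or.inr (Or.inr (Or.inl ⟨h2, h, rfl⟩))⟩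
        · exact ⟨19, Or.inr (Or.inr (Or.inr (Or.inl ⟨h2, h, rfl⟩)))⟩
        · exact absurd ⟨h3, h⟩ h34
        · exact ⟨7, Or.inr (Or.inr (Or.inr (Or.inr (Or.inl ⟨h3, h, rfl⟩))))⟩
        · exact ⟨7, Or.inr (Or.inr (Or.inr (Or.inr (Or.inr ⟨h5, h, rfl⟩))))⟩
      obtain ⟨a1, a2, a3, a4⟩ := Hup6.exc_num q n ℓ hℓ
      exact ⟨ℓ, 1, a1, a2, a3, Or.inl rfl, by rwa [pow_one], a4⟩
    · obtain ⟨ℓ, hℓ, hdvd, hppd, hbig⟩ := Cfsg.Agent.S3430.result q n hq2 (by omega)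
        (fun h => by omega) (fun h => hexc (Or.inl h)) (fun h => hexc (Or.inr (Or.inl h)))
        (fun h => hexc (Or.inr (Or.inr h)))
      rcases hbig with hbig | hbig
      · exact ⟨ℓ, 1, hℓ, hdvd, hppd, Or.inl rfl, by rwa [pow_one],
          fun r k hr _ hk hle => Hup6.num1 ℓ n hℓ hbig r k hr hk hle⟩
      · have hodd := Hup6.ppd_odd q n ℓ (by omega) hdvd (by omega) hppd
        have hgt := Hup6.ppd_gt q n ℓ hn1 hℓ hdvd (by omega) hppd
        exact ⟨ℓ, 2, hℓ, hdvd, hppd, Or.inr rfl, hbig,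
          fun r k hr _ hk hle => Hup6.num2 ℓ n hℓ hodd hgt r k hr hk hle⟩
  haveI : Fact ℓ.Prime := ⟨hℓ⟩
  obtain ⟨h, hord⟩ : ∃ h : G, orderOf h = ℓ ^ b := by
    rcases hb with rfl | rfl
    · rw [pow_one]
      exact exists_prime_orderOf_dvd_card' ℓ (dvd_trans hdvd hGdvd)
    · exact Hup4.exists_order_sq ρ hρ n hn ℓ hℓ hdvd hppd (dvd_trans hbdvd hGdvd)
  have hb1 : 1 ≤ b := by rcases hb with rfl | rfl <;> norm_num
  rcases Hup4.caseB hsol ρ hρ htrans n hn ℓ hℓ hdvd hppd b hb1 h hord with hs | ⟨r, k, hr, hrq, hk, hle, hd⟩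
  · exact hsl hs
  · exact hnum r k hr hrq hk hle hd

end Cfsg.Agent.S3360
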