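import Cfsg.Statements.S3891
import Cfsg.Agent.Lib.Helper69.NilCover

set_option autoImplicit false
open Cfsg

namespace Cfsg.Agent.S3891

/-- A cover of a group is a finite set of proper subgroups whose union is the whole group; it is minimal when no cover has fewer members, and nilpotent when all its members are nilpotent. Let G be a finite group with trivial center admitting a nilpotent minimal cover, and let P be a non-normal Sylow p-subgroup of G that is cyclic, or abelian but not elementary abelian. Then the centralizer of P is nilpotent and the normalizer of P is the unique maximal subgroup of G containing the centralizer of P. -/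
theorem result {G : Type*} [Group G] [Finite G] (hZ : Subgroup.center G = ⊥) (𝓐 : Finset (Subgroup G))
    (h𝓐 : ((∀ A ∈ 𝓐, A ≠ ⊤) ∧ (∀ g : G, ∃ A ∈ 𝓐, g ∈ A)) ∧ (∀ 𝓑 : Finset (Subgroup G), (∀ A ∈ 𝓑, A ≠ ⊤) ∧ (∀ g : G, ∃ A ∈ 𝓑, g ∈ A) → 𝓐.card ≤ 𝓑.card) ∧ (∀ A ∈ 𝓐, Group.IsNilpotent ↥A)) {p : ℕ} [Fact p.Prime] (P : Sylow p G)
    (hP : IsCyclic ↥(P : Subgroup G) ∨ (IsMulCommutative ↥(P : Subgroup G) ∧ ¬ Cfsg.IsElementaryAbelian p (P : Subgroup G)))
    (hnn : ¬ (P : Subgroup G).Normal) :
    Group.IsNilpotent ↥(Subgroup.centralizer ((P : Subgroup G) : Set G)) ∧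
      IsCoatom (Subgroup.normalizer ((P : Subgroup G) : Set G)) ∧
      ∀ M : Subgroup G, IsCoatom M → Subgroup.centralizer ((P : Subgroup G) : Set G) ≤ M →
        M = Subgroup.normalizer ((P : Subgroup G) : Set G) := by
  have h𝓐' : Cfsg.Agent.Lib.Helper69.IsNilMinCover 𝓐 := h𝓐
  have hp := (Fact.out : p.Prime)
  have hne : (P : Subgroup G) ≠ ⊥ := by
    intro h
    apply hnn
    rw [h]
    infer_instance
  have hab : IsMulCommutative ↥(P : Subgroup G) := by
    rcases hP with hc | ⟨hab, _⟩
    · exact IsCyclic.isMulCommutative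
    · exact hab
  have hnot : ¬ (Cfsg.IsElementaryAbelian p (P : Subgroup G) ∧ p < Nat.card ↥(P : Subgroup G)) := by
    rintro ⟨he, hlt⟩
    rcases hP with hc | ⟨_, hne'⟩
    · obtain ⟨x, hx⟩ := hc.exists_generator
      have hord : orderOf x = Nat.card ↥(P : Subgroup G) := orderOf_eq_card_of_forall_mem_zpowers hx
      have hxp : x ^ p = 1 := by
        apply Subtype.ext
        rw [Subgroup.coe_pow, Subgroup.coe_one]
        exact he.2 x.1 x.2
      have := orderOf_le_of_pow_eq_one hp.pos hxp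
      omega
    · exact hne' he
  obtain ⟨A, hA, hPA⟩ := Cfsg.Agent.Lib.Helper69.nilcover_exists_sylow_le h𝓐' hZ P hab hne hnot
  have hCA := Cfsg.Agent.Lib.Helper69.nilcover_centralizer_eq h𝓐' hZ P hab hne hA hPA
  have hco := Cfsg.Agent.Lib.Helper69.nilcover_normalizer_isCoatom h𝓐' hZ P hab hne hnn hnot
  refine ⟨?_, hco, ?_⟩
  · rw [hCA]
    exact h𝓐.2.2 A hA
  · intro M hM hCM
    have hle : M ≤ Subgroup.normalizer ((P : Subgroup G) : Set G) := by
      intro g hg
      exact Cfsg.Agent.Lib.Helper69.nilcover_mem_normalizer h𝓐' hZ P hab hne hnot M hM.1 g hCM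
        (Cfsg.Agent.Lib.Helper69.centralizer_smul_sylow_le P M g hg hCM)
    exact ((hM.le_iff_eq hco.1).mp hle).symm

end Cfsg.Agent.S3891
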