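import Cfsg.Statements.S4040
import Cfsg.Agent.Lib.Helper1.NilMax
import Cfsg.Agent.Lib.Helper26.ThompsonJ
import Cfsg.Agent.S0108

set_option autoImplicit false
open Cfsg

namespace Cfsg.Agent.S4040

open Cfsg.Agent.Lib.Helper1 Cfsg.Agent.Lib.Helper26

universe u

/-- The core-free case: Thompson's normal `p`-complement theorem applies to every prime. -/
theorem core_case (G : Type u) [Group G] [Finite G] (M : Subgroup G) (hmax : IsCoatom M)
    (hcf : NMCoreFree M) (hnil : Group.IsNilpotent M) (hodd : Odd (Nat.card M))
    (p : ℕ) [Fact p.Prime] (hp : p ∣ Nat.card M) : Npc p G := by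
  have hp2 : p ≠ 2 := by
    rintro rfl
    exact (Nat.not_even_iff_odd.mpr hodd) (even_iff_two_dvd.mpr hp)
  obtain ⟨P, hPM, hPne, hPN, hpel, hdec⟩ := nm_exists_sylow hmax hcf hnil hp
  have hMnpc : Npc p M := nm_npc_of_nilpotent hnil p
  apply npc_of_hasNPC
  rw [Cfsg.Agent.S0108.result hp2 P]
  constructor
  · apply hasNPC_of_npc
    have hJ : Subgroup.normalizer (thompsonSubgroupOf p (P : Subgroup G) : Set G) = M := by
      apply nm_normalizer_eq_of_coatom hmax hcf
      · exact le_trans (by unfold thompsonSubgroupOf; exact Subgroup.map_subtype_le _) hPM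
      · exact thompsonOf_ne_bot P.isPGroup' hPne
      · rw [← hPN]; exact normalizer_le_normalizer_thompsonOf _
    exact Npc.of_eq hJ hMnpc
  · apply hasNPC_of_npc
    have hZ : Subgroup.normalizer (((P : Subgroup G) ⊓
        Subgroup.centralizer ((P : Subgroup G) : Set G) : Subgroup G) : Set G) = M := by
      apply nm_normalizer_eq_of_coatom hmax hcf
      · exact le_trans inf_le_left hPM
      · exact zc_ne_bot P.isPGroup' hPne
      · rw [← hPN]; exact normalizer_le_normalizer_zc _
    exact Npc.of_le (hZ ▸ Subgroup.centralizer_le_normalizer _) hMnpc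

/-- A finite group possessing a maximal subgroup that is nilpotent of odd order is solvable. -/
theorem result {G : Type*} [Group G] [Finite G]
    (M : Subgroup G) (hmax : IsCoatom M) (hnil : Group.IsNilpotent M) (hodd : Odd (Nat.card M)) :
    Group.IsSolvable G := by
  refine nm_solvable_of_reduction (fun H _ => Odd (Nat.card H)) ?_ ?_ (Nat.card G) G rfl M
    hmax hnil hodd
  · intro A B _ _ _ f hf hA
    exact Odd.of_dvd_nat hA (Subgroup.card_dvd_of_surjective f hf)
  · intro G _ _ M hmax hcf hM hnil hΦ p _ hp
    exact core_case G M hmax hcf hnil hΦ p hp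

end Cfsg.Agent.S4040
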