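import Cfsg.Statements.S4354

set_option autoImplicit false
open Cfsg

namespace Cfsg.Agent.S4354

theorem mem_smul_sylow {G : Type*} [Group G] {p : ℕ} (g x : G) (P : Sylow p G) :
    x ∈ (g • P : Sylow p G) ↔ g⁻¹ * x * g ∈ P := by
  rw [← SetLike.mem_coe, Sylow.coe_smul, Set.mem_smul_set_iff_inv_smul_mem]
  simp [MulAut.smul_def]

theorem card_mul_relIndex {G : Type*} [Group G] {H K : Subgroup G} (h : H ≤ K) :
    Nat.card H * H.relIndex K = Nat.card K := by
  have c : Nat.card (H.subgroupOf K) = Nat.card H :=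
    Nat.card_congr (Subgroup.subgroupOfEquivOfLe h).toEquiv
  rw [← c]; exact Subgroup.card_mul_index (H.subgroupOf K)

theorem relIndex_eq_relIndex_sup {G : Type*} [Group G] [Finite G] (N M : Subgroup G) [N.Normal] :
    M.relIndex N = M.relIndex (M ⊔ N) := by
  have h1 : Nat.card (M ⊓ N : Subgroup G) * M.relIndex N = Nat.card N := by
    have := card_mul_relIndex (inf_le_right : M ⊓ N ≤ N)
    rwa [Subgroup.inf_relIndex_right] at this
  have h2 : Nat.card (M ⊓ N : Subgroup G) * N.relIndex M = Nat.card M := by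
    have := card_mul_relIndex (inf_le_left : M ⊓ N ≤ M)
    rwa [Subgroup.inf_relIndex_left] at this
  have h3 : Nat.card N * N.relIndex (M ⊔ N) = Nat.card (M ⊔ N : Subgroup G) :=
    card_mul_relIndex le_sup_right
  have h4 : Nat.card M * M.relIndex (M ⊔ N) = Nat.card (M ⊔ N : Subgroup G) :=
    card_mul_relIndex le_sup_left
  have h5 : N.relIndex (M ⊔ N) = N.relIndex M := Subgroup.relIndex_sup_right M N
  rw [h5] at h3
  have hI : 0 < Nat.card (M ⊓ N : Subgroup G) := Nat.card_pos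
  have hr : 0 < N.relIndex M := by
    rcases Nat.eq_zero_or_pos (N.relIndex M) with h | h
    · rw [h, mul_zero] at h2
      have : 0 < Nat.card M := Nat.card_pos
      omega
    · exact h
  have key : Nat.card (M ⊓ N : Subgroup G) * N.relIndex M * M.relIndex N
      = Nat.card (M ⊓ N : Subgroup G) * N.relIndex M * M.relIndex (M ⊔ N) := by
    calc Nat.card (M ⊓ N : Subgroup G) * N.relIndex M * M.relIndex N
        = (Nat.card (M ⊓ N : Subgroup G) * M.relIndex N) * N.relIndex M := by ring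
      _ = Nat.card N * N.relIndex M := by rw [h1]
      _ = Nat.card (M ⊔ N : Subgroup G) := h3
      _ = Nat.card M * M.relIndex (M ⊔ N) := h4.symm
      _ = Nat.card (M ⊓ N : Subgroup G) * N.relIndex M * M.relIndex (M ⊔ N) := by rw [← h2]
  exact Nat.eq_of_mul_eq_mul_left (Nat.mul_pos hI hr) key

theorem not_dvd_relIndex_of_normal {G : Type*} [Group G] [Finite G] (p : ℕ) (N M : Subgroup G)
    [N.Normal] (h : ¬ p ∣ M.index) : ¬ p ∣ M.relIndex N := by
  rw [relIndex_eq_relIndex_sup N M]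
  exact fun hd => h (hd.trans (Subgroup.relIndex_dvd_index_of_le le_sup_left))

section

variable {G : Type*} [Group G] [Finite G] (p : ℕ) [Fact p.Prime]

/-- Every `p`-element whose class size is prime to `p` is centralized by a Sylow `p`-subgroup
containing it. -/
theorem exists_sylow_centralizing
    (hii : ∀ x : G, (∃ k : ℕ, orderOf x = p ^ k) →
      ¬ p ∣ (Subgroup.centralizer ({x} : Set G)).index)
    (x : G) (hx : ∃ k : ℕ, orderOf x = p ^ k) :
    ∃ R : Sylow p G, x ∈ R ∧ ∀ y ∈ R, x * y = y * x := by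
  classical
  have hC := hii x hx
  obtain ⟨k, hk⟩ := hx
  have hxC : x ∈ Subgroup.centralizer ({x} : Set G) := by
    rw [Subgroup.mem_centralizer_iff]
    intro h hh
    rw [Set.mem_singleton_iff.mp hh]
  have hpg : IsPGroup p (Subgroup.zpowers (⟨x, hxC⟩ : Subgroup.centralizer ({x} : Set G))) :=
    IsPGroup.of_card (n := k) (by rw [Nat.card_zpowers, ← Subgroup.orderOf_coe]; exact hk)
  obtain ⟨R₀, hR₀⟩ := hpg.exists_le_sylow
  have hR : IsPGroup p ((R₀ : Subgroup (Subgroup.centralizer ({x} : Set G))).map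
      (Subgroup.centralizer ({x} : Set G)).subtype) := R₀.2.map _
  have hidx : ¬ p ∣ ((R₀ : Subgroup (Subgroup.centralizer ({x} : Set G))).map
      (Subgroup.centralizer ({x} : Set G)).subtype).index := by
    rw [Subgroup.index_map_subtype]
    exact Nat.Prime.not_dvd_mul Fact.out R₀.not_dvd_index hC
  refine ⟨hR.toSylow hidx, ?_, ?_⟩
  · show x ∈ (R₀ : Subgroup (Subgroup.centralizer ({x} : Set G))).map
      (Subgroup.centralizer ({x} : Set G)).subtype
    exact ⟨⟨x, hxC⟩, hR₀ (Subgroup.mem_zpowers _), rfl⟩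
  · intro y hy
    have hy' : y ∈ (R₀ : Subgroup (Subgroup.centralizer ({x} : Set G))).map
      (Subgroup.centralizer ({x} : Set G)).subtype := hy
    obtain ⟨c, -, rfl⟩ := hy'
    have := c.2
    rw [Subgroup.mem_centralizer_iff] at this
    exact this x rfl

theorem orderOf_of_mem_sylow (P : Sylow p G) (x : G) (hx : x ∈ P) :
    ∃ k : ℕ, orderOf x = p ^ k := by
  obtain ⟨k, hk⟩ := (IsPGroup.iff_orderOf.mp P.2) ⟨x, hx⟩
  exact ⟨k, by rw [← hk, Subgroup.orderOf_mk]⟩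

theorem exists_conj_central
    (hii : ∀ x : G, (∃ k : ℕ, orderOf x = p ^ k) →
      ¬ p ∣ (Subgroup.centralizer ({x} : Set G)).index)
    (P : Sylow p G) (x : G) (hx : x ∈ P) :
    ∃ g : G, g * x * g⁻¹ ∈ P ∧ ∀ y ∈ P, (g * x * g⁻¹) * y = y * (g * x * g⁻¹) := by
  obtain ⟨R, hxR, hR⟩ := exists_sylow_centralizing p hii x (orderOf_of_mem_sylow p P x hx)
  obtain ⟨g, rfl⟩ := MulAction.exists_smul_eq G R P
  refine ⟨g, ?_, ?_⟩
  · rw [mem_smul_sylow]
    have : g⁻¹ * (g * x * g⁻¹) * g = x := by group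
    rw [this]; exact hxR
  · intro y hy
    rw [mem_smul_sylow] at hy
    have := hR _ hy
    calc g * x * g⁻¹ * y = g * (x * (g⁻¹ * y * g)) * g⁻¹ := by group
      _ = g * ((g⁻¹ * y * g) * x) * g⁻¹ := by rw [this]
      _ = y * (g * x * g⁻¹) := by group

/-- Burnside's fusion lemma for an abelian Sylow subgroup. -/
theorem burnside_fusion (Q : Sylow p G)
    (hQ : ∀ a ∈ Q, ∀ b ∈ Q, a * b = b * a) (a : G) (ha : a ∈ Q) (h : G)
    (hb : h * a * h⁻¹ ∈ Q) :
    ∃ n ∈ Subgroup.normalizer (Q : Set G), n * a * n⁻¹ = h * a * h⁻¹ := by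
  classical
  have hQC : (Q : Subgroup G) ≤ Subgroup.centralizer ({h * a * h⁻¹} : Set G) := by
    intro y hy
    rw [Subgroup.mem_centralizer_iff]
    intro c hc
    rw [Set.mem_singleton_iff.mp hc]
    exact hQ _ hb y hy
  have hQ'C : ((h • Q : Sylow p G) : Subgroup G) ≤
      Subgroup.centralizer ({h * a * h⁻¹} : Set G) := by
    intro y hy
    have hy1 : y ∈ (h • Q : Sylow p G) := hy
    rw [mem_smul_sylow] at hy1
    rw [Subgroup.mem_centralizer_iff]
    intro c hc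
    rw [Set.mem_singleton_iff.mp hc]
    have := hQ a ha _ hy1
    calc h * a * h⁻¹ * y = h * (a * (h⁻¹ * y * h)) * h⁻¹ := by group
      _ = h * ((h⁻¹ * y * h) * a) * h⁻¹ := by rw [this]
      _ = y * (h * a * h⁻¹) := by group
  obtain ⟨c, hc⟩ := MulAction.exists_smul_eq (Subgroup.centralizer ({h * a * h⁻¹} : Set G))
    ((h • Q : Sylow p G).subtype hQ'C) (Q.subtype hQC)
  rw [Sylow.smul_subtype] at hc
  have hc' : (c : G) • (h • Q) = Q := Sylow.subtype_injective hc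
  refine ⟨(c : G) * h, ?_, ?_⟩
  · rw [← Sylow.smul_eq_iff_mem_normalizer, mul_smul]; exact hc'
  · have hcb := c.2
    rw [Subgroup.mem_centralizer_iff] at hcb
    have hcb' : h * a * h⁻¹ * (c : G) = (c : G) * (h * a * h⁻¹) := hcb _ rfl
    calc (c : G) * h * a * ((c : G) * h)⁻¹ = (c : G) * (h * a * h⁻¹) * (c : G)⁻¹ := by group
      _ = h * a * h⁻¹ := by rw [← hcb', mul_inv_cancel_right]

theorem comap_normalizer_le (N : Subgroup G) [N.Normal] (P : Sylow p G)
    (hπ : Function.Surjective (QuotientGroup.mk' N)) :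
    (Subgroup.normalizer ((P.mapSurjective hπ : Sylow p (G ⧸ N)) : Set (G ⧸ N))).comap
        (QuotientGroup.mk' N) ≤ Subgroup.normalizer (P : Set G) ⊔ N := by
  classical
  have hPbar : ∀ y : G ⧸ N, y ∈ P.mapSurjective hπ ↔ ∃ x ∈ P, (QuotientGroup.mk' N) x = y := by
    intro y
    show y ∈ ((P.mapSurjective hπ : Sylow p (G ⧸ N)) : Subgroup (G ⧸ N)) ↔ _
    rw [Sylow.coe_mapSurjective, Subgroup.mem_map]
    rfl
  intro g hg
  rw [Subgroup.mem_comap, ← Sylow.smul_eq_iff_mem_normalizer] at hg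
  have hP : (P : Subgroup G) ≤ N ⊔ (P : Subgroup G) := le_sup_right
  have hQ : ((g • P : Sylow p G) : Subgroup G) ≤ N ⊔ (P : Subgroup G) := by
    intro y hy
    have hy1 : y ∈ (g • P : Sylow p G) := hy
    rw [mem_smul_sylow] at hy1
    have hy2 : (QuotientGroup.mk' N) y ∈
        ((QuotientGroup.mk' N) g • P.mapSurjective hπ : Sylow p (G ⧸ N)) := by
      rw [mem_smul_sylow, hPbar]
      exact ⟨g⁻¹ * y * g, hy1, by simp⟩
    rw [hg, hPbar] at hy2
    obtain ⟨x', hx', hxy⟩ := hy2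
    have hn : y * x'⁻¹ ∈ N := by
      have h1 : (QuotientGroup.mk' N) (y * x'⁻¹) = 1 := by
        rw [map_mul, map_inv, hxy, mul_inv_cancel]
      exact (QuotientGroup.eq_one_iff _).mp h1
    have : y = y * x'⁻¹ * x' := by group
    rw [this]
    exact Subgroup.mul_mem_sup hn hx'
  obtain ⟨h, hh⟩ := MulAction.exists_smul_eq (N ⊔ (P : Subgroup G) : Subgroup G)
    (P.subtype hP) ((g • P : Sylow p G).subtype hQ)
  rw [Sylow.smul_subtype] at hh
  have hh' : (h : G) • P = g • P := Sylow.subtype_injective hh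
  have hmem : (h : G) ∈ ((N ⊔ (P : Subgroup G) : Subgroup G) : Set G) := h.2
  rw [Subgroup.normal_mul] at hmem
  obtain ⟨n, hn, x, hx, hnx⟩ := Set.mem_mul.mp hmem
  have hxP : x • P = P :=
    Sylow.smul_eq_iff_mem_normalizer.mpr (Subgroup.le_normalizer hx)
  have hnP : n • P = g • P := by
    rw [← hh', ← hnx, mul_smul, hxP]
  have hng : (n⁻¹ * g) • P = P := by
    rw [mul_smul, ← hnP, inv_smul_smul]
  have hngM : n⁻¹ * g ∈ Subgroup.normalizer (P : Set G) :=
    Sylow.smul_eq_iff_mem_normalizer.mp hng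
  have : g = n * (n⁻¹ * g) := by group
  rw [this, sup_comm]
  exact Subgroup.mul_mem_sup hn hngM

theorem inherit_sub
    (hii : ∀ x : G, (∃ k : ℕ, orderOf x = p ^ k) →
      ¬ p ∣ (Subgroup.centralizer ({x} : Set G)).index)
    (N : Subgroup G) [N.Normal] :
    ∀ x : N, (∃ k : ℕ, orderOf x = p ^ k) →
      ¬ p ∣ (Subgroup.centralizer ({x} : Set N)).index := by
  intro x hx
  have hx' : ∃ k : ℕ, orderOf (x : G) = p ^ k := by
    obtain ⟨k, hk⟩ := hx
    exact ⟨k, by rw [Subgroup.orderOf_coe, hk]⟩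
  obtain ⟨R, hxR, hR⟩ := exists_sylow_centralizing p hii (x : G) hx'
  have hle : (R : Subgroup G).subgroupOf N ≤ Subgroup.centralizer ({x} : Set N) := by
    intro y hy
    rw [Subgroup.mem_subgroupOf] at hy
    rw [Subgroup.mem_centralizer_iff]
    intro c hc
    rw [Set.mem_singleton_iff.mp hc]
    exact Subtype.ext (hR _ hy)
  intro hd
  have h1 : ¬ p ∣ (R : Subgroup G).relIndex N :=
    not_dvd_relIndex_of_normal p N _ R.not_dvd_index
  exact h1 (hd.trans (Subgroup.index_dvd_of_le hle))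

theorem inherit_quot
    (hii : ∀ x : G, (∃ k : ℕ, orderOf x = p ^ k) →
      ¬ p ∣ (Subgroup.centralizer ({x} : Set G)).index)
    (N : Subgroup G) [N.Normal] :
    ∀ x : G ⧸ N, (∃ k : ℕ, orderOf x = p ^ k) →
      ¬ p ∣ (Subgroup.centralizer ({x} : Set (G ⧸ N))).index := by
  classical
  intro xb hxb
  have hπ : Function.Surjective (QuotientGroup.mk' N) := QuotientGroup.mk'_surjective N
  obtain ⟨k, hk⟩ := hxb
  have hpg : IsPGroup p (Subgroup.zpowers xb) :=
    IsPGroup.of_card (n := k) (by rw [Nat.card_zpowers, hk])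
  obtain ⟨Qb, hQb⟩ := hpg.exists_le_sylow
  obtain ⟨Q, rfl⟩ := Sylow.mapSurjective_surjective hπ p Qb
  have hxQ : xb ∈ ((Q.mapSurjective hπ : Sylow p (G ⧸ N)) : Subgroup (G ⧸ N)) :=
    hQb (Subgroup.mem_zpowers xb)
  rw [Sylow.coe_mapSurjective, Subgroup.mem_map] at hxQ
  obtain ⟨x, hxQ', rfl⟩ := hxQ
  obtain ⟨R, hxR, hR⟩ := exists_sylow_centralizing p hii x (orderOf_of_mem_sylow p Q x hxQ')
  have hle : ((R.mapSurjective hπ : Sylow p (G ⧸ N)) : Subgroup (G ⧸ N)) ≤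
      Subgroup.centralizer ({(QuotientGroup.mk' N) x} : Set (G ⧸ N)) := by
    intro y hy
    rw [Sylow.coe_mapSurjective, Subgroup.mem_map] at hy
    obtain ⟨r, hr, rfl⟩ := hy
    rw [Subgroup.mem_centralizer_iff]
    intro c hc
    rw [Set.mem_singleton_iff.mp hc]
    rw [← map_mul, ← map_mul, hR r hr]
  intro hd
  exact (R.mapSurjective hπ).not_dvd_index (hd.trans (Subgroup.index_dvd_of_le hle))

/-- The key lemma: if `N` and `G ⧸ N` have abelian Sylow `p`-subgroups and all `p`-elements of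
`G` have class size prime to `p`, then the Sylow `p`-subgroups of `G` are abelian. -/
theorem sylow_comm_of_normal
    (hii : ∀ x : G, (∃ k : ℕ, orderOf x = p ^ k) →
      ¬ p ∣ (Subgroup.centralizer ({x} : Set G)).index)
    (N : Subgroup G) [N.Normal]
    (hN : ∀ Q : Sylow p N, ∀ a ∈ Q, ∀ b ∈ Q, a * b = b * a)
    (hQ : ∀ Q : Sylow p (G ⧸ N), ∀ a ∈ Q, ∀ b ∈ Q, a * b = b * a)
    (P : Sylow p G) : ∀ x ∈ P, ∀ y ∈ P, x * y = y * x := by
  classical
  have hπ : Function.Surjective (QuotientGroup.mk' N) := QuotientGroup.mk'_surjective N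
  have hPN : ∀ k₁ ∈ P, k₁ ∈ N → ∀ k₂ ∈ P, k₂ ∈ N → k₁ * k₂ = k₂ * k₁ := by
    intro k₁ h1 h1N k₂ h2 h2N
    have hpg : IsPGroup p ((P : Subgroup G).subgroupOf N) := by
      have := P.2.comap_subtype (K := N)
      exact this
    obtain ⟨QN, hQN⟩ := hpg.exists_le_sylow
    have := hN QN ⟨k₁, h1N⟩ (hQN (by rw [Subgroup.mem_subgroupOf]; exact h1)) ⟨k₂, h2N⟩
      (hQN (by rw [Subgroup.mem_subgroupOf]; exact h2))
    exact congrArg Subtype.val this
  have hdecomp : ∀ x ∈ P, ∃ z k : G, z ∈ P ∧ (∀ y ∈ P, z * y = y * z) ∧ k ∈ P ∧ k ∈ N ∧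
      x = z * k := by
    intro x hx
    obtain ⟨g, hz₀P, hz₀⟩ := exists_conj_central p hii P x hx
    have hmemPbar : ∀ u ∈ P, (QuotientGroup.mk' N) u ∈ P.mapSurjective hπ := by
      intro u hu
      show (QuotientGroup.mk' N) u ∈ ((P.mapSurjective hπ : Sylow p (G ⧸ N)) : Subgroup (G ⧸ N))
      rw [Sylow.coe_mapSurjective]
      exact Subgroup.mem_map_of_mem _ hu
    have hb : (QuotientGroup.mk' N) g * (QuotientGroup.mk' N) x * ((QuotientGroup.mk' N) g)⁻¹ ∈
        P.mapSurjective hπ := by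
      rw [← map_inv, ← map_mul, ← map_mul]
      exact hmemPbar _ hz₀P
    obtain ⟨nb, hnb, hnbeq⟩ := burnside_fusion p (P.mapSurjective hπ) (hQ _)
      ((QuotientGroup.mk' N) x) (hmemPbar x hx) ((QuotientGroup.mk' N) g) hb
    obtain ⟨n', rfl⟩ := hπ nb
    have hn' : n' ∈ Subgroup.normalizer (P : Set G) ⊔ N :=
      comap_normalizer_le p N P hπ (Subgroup.mem_comap.mpr hnb)
    have hn'' : n' ∈ ((Subgroup.normalizer (P : Set G) ⊔ N : Subgroup G) : Set G) := hn'
    rw [Subgroup.mul_normal] at hn''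
    obtain ⟨m, hm, k₀, hk₀, rfl⟩ := Set.mem_mul.mp hn''
    have hm' : m ∈ Subgroup.normalizer (P : Set G) := hm
    have hk₀' : k₀ ∈ N := hk₀
    have hπk₀ : (QuotientGroup.mk' N) k₀ = 1 := (QuotientGroup.eq_one_iff _).mpr hk₀'
    have hminv : m⁻¹ ∈ Subgroup.normalizer (P : Set G) := inv_mem hm'
    -- z := m⁻¹ * (g * x * g⁻¹) * m
    have hzP : m⁻¹ * (g * x * g⁻¹) * m ∈ P := by
      have := (Subgroup.mem_set_normalizer_iff.mp hminv (g * x * g⁻¹)).mp hz₀P
      simpa using this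
    have hzc : ∀ y ∈ P, m⁻¹ * (g * x * g⁻¹) * m * y = y * (m⁻¹ * (g * x * g⁻¹) * m) := by
      intro y hy
      have hy' : m * y * m⁻¹ ∈ P := (Subgroup.mem_set_normalizer_iff.mp hm' y).mp hy
      have := hz₀ _ hy'
      calc m⁻¹ * (g * x * g⁻¹) * m * y = m⁻¹ * ((g * x * g⁻¹) * (m * y * m⁻¹)) * m := by group
        _ = m⁻¹ * ((m * y * m⁻¹) * (g * x * g⁻¹)) * m := by rw [this]
        _ = y * (m⁻¹ * (g * x * g⁻¹) * m) := by group
    have hπz : (QuotientGroup.mk' N) (m⁻¹ * (g * x * g⁻¹) * m) = (QuotientGroup.mk' N) x := by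
      have e : (QuotientGroup.mk' N) (m * k₀) = (QuotientGroup.mk' N) m := by
        rw [map_mul, hπk₀, mul_one]
      rw [e] at hnbeq
      simp only [map_mul, map_inv]
      rw [← hnbeq]
      group
    refine ⟨m⁻¹ * (g * x * g⁻¹) * m, (m⁻¹ * (g * x * g⁻¹) * m)⁻¹ * x, hzP, hzc,
      mul_mem (inv_mem hzP) hx, ?_, by group⟩
    apply (QuotientGroup.eq_one_iff _).mp
    show (QuotientGroup.mk' N) ((m⁻¹ * (g * x * g⁻¹) * m)⁻¹ * x) = 1
    rw [map_mul, map_inv, hπz, inv_mul_cancel]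
  intro x hx y hy
  obtain ⟨z₁, k₁, hz₁P, hz₁, hk₁P, hk₁N, rfl⟩ := hdecomp x hx
  obtain ⟨z₂, k₂, hz₂P, hz₂, hk₂P, hk₂N, rfl⟩ := hdecomp y hy
  have e1 : k₁ * z₂ = z₂ * k₁ := (hz₂ k₁ hk₁P).symm
  have e2 : k₂ * z₁ = z₁ * k₂ := (hz₁ k₂ hk₂P).symm
  have e3 : z₂ * z₁ = z₁ * z₂ := (hz₁ z₂ hz₂P).symm
  have e4 : k₁ * k₂ = k₂ * k₁ := hPN k₁ hk₁P hk₁N k₂ hk₂P hk₂N
  calc z₁ * k₁ * (z₂ * k₂) = z₁ * (k₁ * z₂) * k₂ := by group
    _ = z₁ * (z₂ * k₁) * k₂ := by rw [e1]
    _ = z₁ * z₂ * (k₁ * k₂) := by group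
    _ = z₁ * z₂ * (k₂ * k₁) := by rw [e4]
    _ = z₂ * z₁ * (k₂ * k₁) := by rw [e3]
    _ = z₂ * (z₁ * k₂) * k₁ := by group
    _ = z₂ * (k₂ * z₁) * k₁ := by rw [e2]
    _ = z₂ * k₂ * (z₁ * k₁) := by group

end

/-- Let G be a finite group and p a prime such that the Sylow p-subgroups of G are non-abelian while every element of p-power order has conjugacy class size prime to p, and suppose no nontrivial proper normal subgroup N of G has this property and no quotient G/N by such an N has it. Then G is simple. -/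
theorem result {G : Type*} [Group G] [Finite G]
    (p : ℕ) [Fact p.Prime] (h : ((∃ P : Sylow p G, ¬ IsMulCommutative P) ∧ ∀ x : G, (∃ k : ℕ, orderOf x = p ^ k) → ¬ p ∣ (Subgroup.centralizer ({x} : Set G)).index))
    (hmin : ∀ (N : Subgroup G) [N.Normal], N ≠ ⊥ → N ≠ ⊤ →
      ¬ ((∃ P : Sylow p N, ¬ IsMulCommutative P) ∧ ∀ x : N, (∃ k : ℕ, orderOf x = p ^ k) → ¬ p ∣ (Subgroup.centralizer ({x} : Set N)).index) ∧
      ¬ ((∃ P : Sylow p (G ⧸ N), ¬ IsMulCommutative P) ∧ ∀ x : (G ⧸ N), (∃ k : ℕ, orderOf x = p ^ k) → ¬ p ∣ (Subgroup.centralizer ({x} : Set (G ⧸ N))).index)) :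
    IsSimpleGroup G := by
  classical
  obtain ⟨⟨P, hPnc⟩, hii⟩ := h
  have hnt : Nontrivial G := by
    by_contra hnt
    rw [not_nontrivial_iff_subsingleton] at hnt
    exact hPnc ⟨⟨fun a b => Subsingleton.elim _ _⟩⟩
  refine { toNontrivial := hnt, eq_bot_or_eq_top_of_normal := fun N hN => ?_ }
  by_contra hcon
  push Not at hcon
  obtain ⟨hNbot, hNtop⟩ := hcon
  obtain ⟨h1, h2⟩ := hmin N hNbot hNtop
  have hNab : ∀ Q : Sylow p N, ∀ a ∈ Q, ∀ b ∈ Q, a * b = b * a := by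
    intro Q a ha b hb
    by_contra hab
    apply h1
    refine ⟨⟨Q, fun hc => hab ?_⟩, inherit_sub p hii N⟩
    have := hc.is_comm.comm (⟨a, ha⟩ : Q) ⟨b, hb⟩
    exact congrArg Subtype.val this
  have hQab : ∀ Q : Sylow p (G ⧸ N), ∀ a ∈ Q, ∀ b ∈ Q, a * b = b * a := by
    intro Q a ha b hb
    by_contra hab
    apply h2
    refine ⟨⟨Q, fun hc => hab ?_⟩, inherit_quot p hii N⟩
    have := hc.is_comm.comm (⟨a, ha⟩ : Q) ⟨b, hb⟩
    exact congrArg Subtype.val this
  apply hPnc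
  refine ⟨⟨fun a b => Subtype.ext ?_⟩⟩
  exact sylow_comm_of_normal p hii N hNab hQab P a a.2 b b.2

end Cfsg.Agent.S4354
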