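import Cfsg.Statements.S0924
import Mathlib
import Cfsg.Agent.Lib.Helper22.SchurSum
import Cfsg.Agent.Lib.Helper22.PPart
import Cfsg.Agent.Lib.Helper22.FMT

set_option autoImplicit false
open Cfsg
open scoped ComplexConjugate

namespace Cfsg.Agent.S0924

open Cfsg.Agent.Lib.Helper4 Cfsg.Agent.Lib.Helper21 Cfsg.Agent.Lib.Helper22

theorem result {G : Type*} [Group G] [Finite G] (p : ℕ) [Fact p.Prime] (M : Ideal Cfsg.AlgInt) (hM : Cfsg.IsPModular p M) (χ : Cfsg.IrrCharacter G) (g x : G) (hx : Cfsg.IsPPart p g x) (hD : ∀ D : Subgroup G, Cfsg.IsDefectGroup p M (Cfsg.blockOf M (χ : G → ℂ)) D → x ∉ D) : (χ : G → ℂ) g = 0 := by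
  classical
  letI := Fintype.ofFinite G
  have hp : p.Prime := Fact.out
  have hB : IsPBlock M (blockOf M (χ : G → ℂ)) := ⟨χ, rfl⟩
  have hES : ∀ g' : G, (∃ j : ℤ, ¬ (p : ℤ) ∣ j ∧ Commute (g ^ j) g') →
      MemLocalIdeal M (blockCoeff (blockOf M (χ : G → ℂ)) g') := by
    rintro g' ⟨j, hj, hc⟩
    by_contra hnot
    have hxg' : Commute x g' := isPPart_commute_of_commute_zpow hp hx hj hc
    obtain ⟨g₀, hg₀⟩ := Cfsg.Agent.S0906.result p M hM _ hB
    obtain ⟨Q⟩ : Nonempty (Sylow p (Subgroup.centralizer ({g₀} : Set G))) := inferInstance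
    have hDdef : IsDefectGroup p M (blockOf M (χ : G → ℂ))
        ((Q : Subgroup (Subgroup.centralizer ({g₀} : Set G))).map
          (Subgroup.centralizer ({g₀} : Set G)).subtype) := ⟨g₀, hg₀, Q, rfl⟩
    obtain ⟨-, -, -, ⟨k, hk⟩, -⟩ := hx
    have hR : IsPGroup p (Subgroup.zpowers x) :=
      IsPGroup.of_card (n := k) (by rw [Nat.card_zpowers, hk])
    have hRg' : Subgroup.zpowers x ≤ Subgroup.centralizer ({g'} : Set G) := by
      rw [Subgroup.zpowers_le, mem_centralizer_singleton_iff']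
      exact hxg'.symm
    obtain ⟨t, ht⟩ := subConj_defectGroup_of_coeff_unit hM _ hB _ hDdef g' hnot _ hR hRg'
    exact hD _ (isDefectGroup_conj _ _ t hDdef) (ht (Subgroup.mem_zpowers x))
  have h1 := green_vanishing hM g (blockCoeff (blockOf M (χ : G → ℂ)))
    (osima hM _ hB) (blockCoeff_conv _) (fun g' => blockCoeff_isClassFunction _ g' g) hES
    (χ : G → ℂ) (isClassFunction_irr χ)
  rw [sum_classFn_mul_irr χ _ (blockCoeff_isClassFunction _), omega_blockCoeff,
    if_pos (mem_blockOf_self hM χ), one_mul] at h1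
  exact h1

end Cfsg.Agent.S0924
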