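import Cfsg.Statements.S1496
import Mathlib

set_option autoImplicit false
open Cfsg

namespace Cfsg.Agent.S1496

theorem pow_coset {G : Type*} [Group G] (H : Subgroup G) (g h : G)
    (hg : g ∈ Subgroup.normalizer (H : Set G)) (hh : h ∈ H) (k : ℕ) :
    (h * g) ^ k * (g ^ k)⁻¹ ∈ H := by
  induction k with
  | zero => simp
  | succ k ih =>
    have h1 : (h * g) ^ (k + 1) * (g ^ (k + 1))⁻¹ =
        ((h * g) ^ k * (g ^ k)⁻¹) * (g ^ k * h * (g ^ k)⁻¹) := by
      rw [pow_succ, pow_succ]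
      simp only [mul_inv_rev, mul_assoc]
      simp
    rw [h1]
    exact mul_mem ih ((Subgroup.mem_normalizer_iff.mp (pow_mem hg k) h).mp hh)

theorem perm_fix {G : Type*} [Group G] [Finite G] (H : Subgroup G) (A B : G)
    (hAB : ∀ x ∈ H, A * x * B⁻¹ ∈ H) (hAB' : ∀ x ∈ H, A⁻¹ * x * B ∈ H) (p a : ℕ)
    (hp : p.Prime) (hA : A ^ (p ^ a) = 1) (hB : B ^ (p ^ a) = 1) (hH : ¬ p ∣ Nat.card H) :
    ∃ x ∈ H, A * x * B⁻¹ = x := by
  classical
  let _ : Fintype H := Fintype.ofFinite H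
  have : Fact p.Prime := ⟨hp⟩
  obtain ⟨σ, hσdef⟩ : ∃ σ : Equiv.Perm H, ∀ x : H, ((σ x : H) : G) = A * x * B⁻¹ :=
    ⟨{ toFun := fun x => ⟨A * x * B⁻¹, hAB x x.2⟩
       invFun := fun x => ⟨A⁻¹ * x * B, hAB' x x.2⟩
       left_inv := fun x => Subtype.ext (by simp [mul_assoc])
       right_inv := fun x => Subtype.ext (by simp [mul_assoc]) }, fun x => rfl⟩
  have hpow : ∀ (j : ℕ) (x : H), (((σ ^ j) x : H) : G) = A ^ j * x * (B ^ j)⁻¹ := by
    intro j
    induction j with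
    | zero => intro x; simp
    | succ j ih =>
      intro x
      rw [pow_succ', Equiv.Perm.mul_apply, hσdef, ih, pow_succ', pow_succ']
      simp only [mul_inv_rev, mul_assoc]
  have hσ : σ ^ p ^ a = 1 := by
    ext x
    rw [hpow, hA, hB]
    simp
  obtain ⟨x, hx⟩ := Equiv.Perm.exists_fixed_point_of_prime (n := a)
    (by rwa [← Nat.card_eq_fintype_card]) hσ
  refine ⟨x, x.2, ?_⟩
  rw [← hσdef, hx]

theorem main {G : Type*} [Group G] [Finite G] : ∀ (n : ℕ) (H : Subgroup G) (g : G),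
    g ∈ Subgroup.normalizer (H : Set G) → Nat.Coprime (orderOf g) (Nat.card H) →
    orderOf g = n → ∀ h ∈ H, ∃ x ∈ H, ∃ c ∈ H, c * g = g * c ∧ x * (h * g) * x⁻¹ = c * g := by
  intro n
  induction n using Nat.strong_induction_on with
  | _ n ih =>
    intro H g hg hcop hn h hh
    by_cases hn1 : n = 1
    · have hg1 : g = 1 := orderOf_eq_one_iff.mp (hn.trans hn1)
      subst hg1
      exact ⟨1, one_mem _, h, hh, by simp, by simp⟩
    · have hnpos : 0 < n := hn ▸ orderOf_pos g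
      obtain ⟨p, hp, hpn⟩ := Nat.exists_prime_and_dvd hn1
      obtain ⟨a, n', hpn', hnn'⟩ := Nat.exists_eq_pow_mul_and_not_dvd hnpos.ne' p hp.ne_one
      obtain ⟨m, hm⟩ : ∃ m, m = Nat.card H := ⟨_, rfl⟩
      have hpm : ¬ p ∣ m := by
        intro hpm
        have h1 : p ∣ Nat.gcd (orderOf g) (Nat.card H) :=
          Nat.dvd_gcd (hn ▸ hpn) (hm ▸ hpm)
        rw [hcop] at h1
        exact hp.one_lt.ne' (Nat.dvd_one.mp h1)
      obtain ⟨y, hy⟩ : ∃ y, y = h * g := ⟨_, rfl⟩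
      obtain ⟨k₀, hk₀⟩ : ∃ k₀, k₀ = n' * m := ⟨_, rfl⟩
      have hk₀n : k₀ * p ^ a = n * m := by rw [hk₀, hnn']; ring
      have hgn : g ^ n = 1 := by rw [← hn, pow_orderOf_eq_one]
      have hA : (g ^ k₀) ^ (p ^ a) = 1 := by
        rw [← pow_mul, hk₀n, pow_mul, hgn, one_pow]
      have hyn : y ^ n ∈ H := by
        have h1 := pow_coset H g h hg hh n
        rw [hgn, inv_one, mul_one, ← hy] at h1
        exact h1
      have hB : (y ^ k₀) ^ (p ^ a) = 1 := by
        rw [← pow_mul, hk₀n, pow_mul]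
        have h1 := pow_card_eq_one' (G := H) (x := ⟨y ^ n, hyn⟩)
        have h2 := congrArg Subtype.val h1
        rw [SubmonoidClass.coe_pow, OneMemClass.coe_one] at h2
        rw [hm]
        exact h2
      have hBA : y ^ k₀ * (g ^ k₀)⁻¹ ∈ H := by
        rw [hy]; exact pow_coset H g h hg hh k₀
      have hgk : g ^ k₀ ∈ Subgroup.normalizer (H : Set G) := pow_mem hg k₀
      obtain ⟨x, hxH, hx⟩ := perm_fix H (g ^ k₀) (y ^ k₀) (fun x hx => by
          have h1 : g ^ k₀ * x * (y ^ k₀)⁻¹ =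
              (g ^ k₀ * x * (g ^ k₀)⁻¹) * (y ^ k₀ * (g ^ k₀)⁻¹)⁻¹ := by group
          rw [h1]
          exact mul_mem ((Subgroup.mem_normalizer_iff.mp hgk x).mp hx) (inv_mem hBA))
        (fun x hx => by
          have h1 : (g ^ k₀)⁻¹ * x * y ^ k₀ =
              (g ^ k₀)⁻¹ * (x * (y ^ k₀ * (g ^ k₀)⁻¹)) * ((g ^ k₀)⁻¹)⁻¹ := by group
          rw [h1]
          exact (Subgroup.mem_normalizer_iff.mp (inv_mem hgk) _).mp (mul_mem hx hBA))
        p a hp hA hB (hm ▸ hpm)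
      obtain ⟨z, hz⟩ : ∃ z, z = x * y * x⁻¹ := ⟨_, rfl⟩
      have hzk : z ^ k₀ = g ^ k₀ := by
        rw [hz, conj_pow]
        calc x * y ^ k₀ * x⁻¹ = (g ^ k₀ * x * (y ^ k₀)⁻¹) * y ^ k₀ * x⁻¹ := by rw [hx]
          _ = g ^ k₀ := by group
      have hz_comm : Commute z (g ^ k₀) := by
        rw [← hzk]
        exact Commute.pow_right (Commute.refl z) k₀
      -- Bezout
      have hcop2 : Nat.Coprime k₀ (p ^ a) := by
        apply Nat.Coprime.pow_right
        rw [hk₀]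
        apply Nat.Coprime.mul_left
        · exact ((Nat.Prime.coprime_iff_not_dvd hp).mpr hpn').symm
        · exact ((Nat.Prime.coprime_iff_not_dvd hp).mpr hpm).symm
      obtain ⟨s, t, hst⟩ := Nat.isCoprime_iff_coprime.mpr hcop2
      obtain ⟨g₁, hg₁⟩ : ∃ g₁, g₁ = (g ^ k₀) ^ s := ⟨_, rfl⟩
      obtain ⟨g₂, hg₂⟩ : ∃ g₂, g₂ = (g ^ (p ^ a)) ^ t := ⟨_, rfl⟩
      have hg12 : g = g₁ * g₂ := by
        rw [hg₁, hg₂, ← zpow_natCast, ← zpow_natCast, ← zpow_mul, ← zpow_mul, ← zpow_add]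
        have h1 : (k₀ : ℤ) * s + ((p ^ a : ℕ) : ℤ) * t = 1 := by
          rw [← hst]; ring
        rw [h1, zpow_one]
      have hcomm12 : Commute g₁ g₂ := by
        rw [hg₁, hg₂]
        exact Commute.zpow_zpow (Commute.pow_pow (Commute.refl g) _ _) _ _
      have hzg₁ : Commute z g₁ := by
        rw [hg₁]
        exact Commute.zpow_right hz_comm s
      have hg₂norm : g₂ ∈ Subgroup.normalizer (H : Set G) := by
        rw [hg₂]
        exact zpow_mem (pow_mem hg _) t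
      have hg₂n' : g₂ ^ n' = 1 := by
        rw [hg₂, ← zpow_natCast, ← zpow_mul, mul_comm, zpow_mul, zpow_natCast, ← pow_mul,
          ← hnn', hgn, one_zpow]
      have hord₂ : orderOf g₂ ∣ n' := orderOf_dvd_of_pow_eq_one hg₂n'
      have hn'pos : 0 < n' := by
        rcases Nat.eq_zero_or_pos n' with h0 | h0
        · rw [h0, mul_zero] at hnn'; omega
        · exact h0
      have ha : a ≠ 0 := by
        intro ha0
        rw [ha0, pow_zero, one_mul] at hnn'
        rw [hnn'] at hpn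
        exact hpn' hpn
      have hn'lt : n' < n := by
        rw [hnn']
        have h1 : 2 ≤ p ^ a := by
          calc 2 ≤ p := hp.two_le
            _ = p ^ 1 := (pow_one p).symm
            _ ≤ p ^ a := Nat.pow_le_pow_right hp.pos (Nat.one_le_iff_ne_zero.mpr ha)
        nlinarith
      have hord₂lt : orderOf g₂ < n := lt_of_le_of_lt (Nat.le_of_dvd hn'pos hord₂) hn'lt
      -- the subgroup H₁
      obtain ⟨H₁, hH₁⟩ : ∃ H₁ : Subgroup G, H₁ = H ⊓ Subgroup.centralizer {g₁} := ⟨_, rfl⟩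
      have hmemH₁ : ∀ u, u ∈ H₁ ↔ u ∈ H ∧ u * g₁ = g₁ * u := by
        intro u
        rw [hH₁, Subgroup.mem_inf, Subgroup.mem_centralizer_singleton_iff]
      have hg₂C : g₂ ∈ Subgroup.centralizer {g₁} :=
        Subgroup.mem_centralizer_singleton_iff.mpr hcomm12.symm.eq
      have hg₂norm₁ : g₂ ∈ Subgroup.normalizer (H₁ : Set G) := by
        rw [Subgroup.mem_normalizer_iff]
        intro u
        rw [hH₁, Subgroup.mem_inf, Subgroup.mem_inf]
        have h1 := Subgroup.mem_normalizer_iff.mp hg₂norm u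
        have h2 : u ∈ Subgroup.centralizer {g₁} ↔ g₂ * u * g₂⁻¹ ∈ Subgroup.centralizer {g₁} := by
          rw [Subgroup.mul_mem_cancel_right _ (inv_mem hg₂C),
            Subgroup.mul_mem_cancel_left _ hg₂C]
        rw [h1, h2]
      have hcop₂ : Nat.Coprime (orderOf g₂) (Nat.card H₁) := by
        have h1 : orderOf g₂ ∣ orderOf g := by
          rw [hn, hnn']; exact Dvd.dvd.mul_left hord₂ _
        have h2 : Nat.card H₁ ∣ Nat.card H := by
          apply Subgroup.card_dvd_of_le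
          rw [hH₁]; exact inf_le_left
        exact Nat.Coprime.coprime_dvd_left h1 (Nat.Coprime.coprime_dvd_right h2 hcop)
      -- the element h₁
      obtain ⟨h₁, hh₁⟩ : ∃ h₁, h₁ = z * g⁻¹ := ⟨_, rfl⟩
      have hh₁H : h₁ ∈ H := by
        have h1 : h₁ = x * h * (g * x⁻¹ * g⁻¹) := by
          rw [hh₁, hz, hy]; group
        rw [h1]
        exact mul_mem (mul_mem hxH hh) ((Subgroup.mem_normalizer_iff.mp hg _).mp (inv_mem hxH))
      have hgg₁ : Commute g g₁ := by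
        rw [hg₁]
        exact Commute.zpow_right (Commute.pow_right (Commute.refl g) _) _
      have hh₁c : h₁ * g₁ = g₁ * h₁ := by
        rw [hh₁]
        exact ((hzg₁.mul_left (hgg₁.inv_left)).eq)
      have hh₁H₁ : h₁ ∈ H₁ := (hmemH₁ h₁).mpr ⟨hh₁H, hh₁c⟩
      obtain ⟨x₂, hx₂, c, hcH₁, hcg₂, hconj⟩ :=
        ih (orderOf g₂) hord₂lt H₁ g₂ hg₂norm₁ hcop₂ rfl h₁ hh₁H₁
      obtain ⟨hx₂H, hx₂c⟩ := (hmemH₁ x₂).mp hx₂
      obtain ⟨hcH, hcc⟩ := (hmemH₁ c).mp hcH₁
      refine ⟨x₂ * x, mul_mem hx₂H hxH, c, hcH, ?_, ?_⟩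
      · rw [hg12]
        calc c * (g₁ * g₂) = (c * g₁) * g₂ := (mul_assoc _ _ _).symm
          _ = g₁ * c * g₂ := by rw [hcc]
          _ = g₁ * (c * g₂) := mul_assoc _ _ _
          _ = g₁ * (g₂ * c) := by rw [hcg₂]
          _ = g₁ * g₂ * c := (mul_assoc _ _ _).symm
      · have hzz : z = h₁ * g₂ * g₁ := by
          rw [hh₁, mul_assoc, ← hcomm12.eq, ← hg12]; group
        calc x₂ * x * (h * g) * (x₂ * x)⁻¹ = x₂ * z * x₂⁻¹ := by rw [hz, hy]; group
          _ = x₂ * (h₁ * g₂) * x₂⁻¹ * (x₂ * g₁) * x₂⁻¹ := by rw [hzz]; group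
          _ = x₂ * (h₁ * g₂) * x₂⁻¹ * (g₁ * x₂) * x₂⁻¹ := by rw [hx₂c]
          _ = c * g₂ * g₁ := by rw [hconj]; group
          _ = c * g := by rw [hg12, hcomm12.eq, mul_assoc]

/-- Let H be a subgroup of the finite group G and g an element normalising H whose order is coprime to the order of H. Then for every h ∈ H there are x ∈ H and c ∈ H commuting with g such that x * (h * g) * x⁻¹ = c * g. -/
theorem result {G : Type*} [Group G] [Finite G] (H : Subgroup G) (g : G) (hg : g ∈ Subgroup.normalizer (H : Set G)) (hcop : Nat.Coprime (orderOf g) (Nat.card H)) (h : G) (hh : h ∈ H) : ∃ x ∈ H, ∃ c ∈ H, c * g = g * c ∧ x * (h * g) * x⁻¹ = c * g :=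
  main (orderOf g) H g hg hcop rfl h hh

end Cfsg.Agent.S1496
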