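import Cfsg.Statements.S0888
import Cfsg.Agent.Lib.Helper83.ProjExt

set_option autoImplicit false
open Cfsg

namespace Cfsg.Agent.S0888

/-- Let N be a normal subgroup of the finite group G and ϑ an irreducible character of N invariant under conjugation by G. Suppose that for every prime p there are a subgroup P containing N, of index prime to p and with the index of N in P a power of p, and an irreducible character of P restricting to ϑ. Then ϑ is the restriction of an irreducible character of G. -/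
theorem result {G : Type*} [Group G] [Finite G] (N : Subgroup G) [hN : N.Normal] (ϑ : N → ℂ) (hϑ : Cfsg.IsIrrCharacter N ϑ) (hinv : ∀ (g : G) (n : N), ϑ ⟨g * n * g⁻¹, hN.conj_mem (n : G) n.2 g⟩ = ϑ n) (hsyl : ∀ p : ℕ, p.Prime → ∃ (P : Subgroup G) (hNP : N ≤ P) (η : P → ℂ), Nat.Coprime P.index p ∧ (∃ k : ℕ, N.relIndex P = p ^ k) ∧ Cfsg.IsIrrCharacter P η ∧ ∀ n : N, η ⟨(n : G), hNP n.2⟩ = ϑ n) : ∃ χ : G → ℂ, Cfsg.IsIrrCharacter G χ ∧ ∀ n : N, χ n = ϑ n := by
  classical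
  obtain ⟨d, σ, hσ, hσθ⟩ := hϑ
  have hinv' : ∀ (g : G) (n m : N), (m : G) = g * n * g⁻¹ → σ.character m = σ.character n := by
    intro g n m h
    rw [hσθ]
    have h1 : m = ⟨g * n * g⁻¹, hN.conj_mem (n : G) n.2 g⟩ := Subtype.ext h
    rw [h1]
    exact hinv g n
  obtain ⟨ρ, hρ⟩ := Cfsg.Agent.Lib.Helper83.exists_rep_extension_of_sylow N σ hσ hinv'
    (fun p hp => by
      obtain ⟨P, hNP, η, hcop, -, hη, hres⟩ := hsyl p hp
      obtain ⟨τ, hτ⟩ := Cfsg.Agent.Lib.Helper83.exists_rep_of_char N σ hNP η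
        (Cfsg.Agent.Lib.Helper35.isChar_of_irr hη) (fun n => by rw [hres, hσθ])
      exact ⟨P, hNP, τ, hcop, hτ⟩)
  refine ⟨ρ.character, ⟨d, ρ, Cfsg.Agent.Lib.Helper83.irreducible_of_equiv σ ρ
    (LinearEquiv.refl ℂ _) (fun n => ⟨(n : G), fun v => by rw [hρ]; rfl⟩) hσ, rfl⟩, fun n => ?_⟩
  rw [← hσθ]
  show LinearMap.trace ℂ _ (ρ (n : G)) = LinearMap.trace ℂ _ (σ n)
  rw [hρ]

end Cfsg.Agent.S0888
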