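import Cfsg.Statements.S0188
import Mathlib
import Cfsg.Agent.Lib.Helper4.CharDecomp

set_option autoImplicit false
open Cfsg Cfsg.Agent.Lib.Helper4
open scoped ComplexConjugate

namespace Cfsg.Agent.S0188

theorem classInner_prod {G H : Type*} [Group G] [Fintype G] [Group H] [Fintype H]
    (θ : G × H → ℂ) (φ : G → ℂ) (ψ : H → ℂ) :
    classInner θ (fun x => φ x.1 * ψ x.2) =
      classInner (fun h => classInner (fun g => θ (g, h)) φ) ψ := by
  change (Nat.card (G × H) : ℂ)⁻¹ * ∑ x : G × H, θ x * conj (φ x.1 * ψ x.2) =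
    (Nat.card H : ℂ)⁻¹ * ∑ h : H, ((Nat.card G : ℂ)⁻¹ * ∑ g : G, θ (g, h) * conj (φ g)) * conj (ψ h)
  rw [Nat.card_prod, Nat.cast_mul, Fintype.sum_prod_type, Finset.sum_comm]
  simp only [Finset.mul_sum, Finset.sum_mul, map_mul]
  apply Finset.sum_congr rfl
  intro h _
  apply Finset.sum_congr rfl
  intro g _
  ring

theorem prod_irr {G H : Type*} [Group G] [Fintype G] [Group H] [Fintype H] (φ : G → ℂ)
    (ψ : H → ℂ) (hφ : IsIrrCharacter G φ) (hψ : IsIrrCharacter H ψ) :
    IsIrrCharacter (G × H) (fun x => φ x.1 * ψ x.2) := by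
  have hfin : Finite (IrrCharacter (G × H)) := irr_finite
  have : Fintype (IrrCharacter (G × H)) := Fintype.ofFinite _
  have hchar : IsCharacter (G × H) (fun x => φ x.1 * ψ x.2) := by
    obtain ⟨n, ρ, -, rfl⟩ := hφ
    obtain ⟨m, σ, -, rfl⟩ := hψ
    have h := isCharacter_of_rep
      (Representation.tprod (ρ.comp (MonoidHom.fst G H)) (σ.comp (MonoidHom.snd G H)))
    rw [Representation.char_tensor] at h
    exact h
  apply isIrrCharacter_of_norm_one _ hchar
  rw [classInner_prod]
  have h1 : ∀ h : H, classInner (fun g => φ g * ψ h) φ = ψ h := by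
    intro h
    have h4 := classInner_irr ⟨φ, hφ⟩ ⟨φ, hφ⟩
    rw [if_pos rfl] at h4
    change (Nat.card G : ℂ)⁻¹ * ∑ g : G, φ g * ψ h * conj (φ g) = ψ h
    have h2 : ∑ g : G, φ g * ψ h * conj (φ g) = ψ h * ∑ g : G, φ g * conj (φ g) := by
      rw [Finset.mul_sum]
      apply Finset.sum_congr rfl
      intro g _
      ring
    rw [h2, mul_left_comm]
    have h3 : (Nat.card G : ℂ)⁻¹ * ∑ g : G, φ g * conj (φ g) = 1 := h4
    rw [h3, mul_one]
  simp only [h1]
  have h5 := classInner_irr ⟨ψ, hψ⟩ ⟨ψ, hψ⟩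
  rw [if_pos rfl] at h5
  exact h5

/-- The irreducible complex characters of G × H are precisely the functions (g, h) ↦ φ g * ψ h with φ, ψ irreducible characters of G and H. -/
theorem result {G : Type*} [Group G] [Finite G] {H : Type*} [Group H] [Finite H] (θ : G × H → ℂ) : Cfsg.IsIrrCharacter (G × H) θ ↔ ∃ (φ : G → ℂ) (ψ : H → ℂ), Cfsg.IsIrrCharacter G φ ∧ Cfsg.IsIrrCharacter H ψ ∧ θ = fun x => φ x.1 * ψ x.2 := by
  classical
  cases nonempty_fintype G
  cases nonempty_fintype H
  constructor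
  · intro hθ
    by_contra hcon
    have h0 : ∀ (φ : IrrCharacter G) (ψ : IrrCharacter H),
        classInner θ (fun x => (φ : G → ℂ) x.1 * (ψ : H → ℂ) x.2) = 0 := by
      intro φ ψ
      have h := classInner_irr (⟨θ, hθ⟩ : IrrCharacter (G × H)) ⟨_, prod_irr φ ψ φ.2 ψ.2⟩
      rw [if_neg] at h
      · exact h
      · intro h'
        exact hcon ⟨φ, ψ, φ.2, ψ.2, congrArg Subtype.val h'⟩
    have hcf : IsClassFunction (G × H) θ := isClassFunction_irr ⟨θ, hθ⟩
    have hc : ∀ φ : IrrCharacter G,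
        (fun h => classInner (fun g => θ (g, h)) (φ : G → ℂ)) = 0 := by
      intro φ
      apply classFunction_eq_zero
      · intro h k
        have h1 : (fun g => θ (g, k * h * k⁻¹)) = (fun g => θ (g, h)) := by
          funext g
          have h2 := hcf (g, h) (1, k)
          simpa using h2
        change classInner (fun g => θ (g, k * h * k⁻¹)) (φ : G → ℂ) =
          classInner (fun g => θ (g, h)) (φ : G → ℂ)
        rw [h1]
      · intro ψ
        rw [← classInner_prod]
        exact h0 φ ψ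
    have hθ0 : θ = 0 := by
      funext ⟨g, h⟩
      have h1 : (fun g => θ (g, h)) = 0 := by
        apply classFunction_eq_zero
        · intro g k
          have h2 := hcf (g, h) (k, 1)
          simpa using h2
        · intro φ
          exact congrFun (hc φ) h
      exact congrFun h1 g
    exact irr_one_ne_zero ⟨θ, hθ⟩ (congrFun hθ0 1)
  · rintro ⟨φ, ψ, hφ, hψ, rfl⟩
    exact prod_irr φ ψ hφ hψ

end Cfsg.Agent.S0188
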