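import Cfsg.Statements.S0934
import Mathlib
import Cfsg.Agent.Lib.Helper22.IndBlock
import Cfsg.Agent.S0952

set_option autoImplicit false
open Cfsg
open scoped ComplexConjugate

namespace Cfsg.Agent.S0934

open Cfsg.Agent.Lib.Helper4 Cfsg.Agent.Lib.Helper21 Cfsg.Agent.Lib.Helper22

theorem result {G : Type*} [Group G] [Fintype G] (p : ℕ) [Fact p.Prime] (M : Ideal Cfsg.AlgInt) (hM : Cfsg.IsPModular p M) (H : Subgroup G) [Fintype H] (b : Set (Cfsg.IrrCharacter H)) (B : Set (Cfsg.IrrCharacter G)) (hind : Cfsg.IsInducedBlock M H b B) (ξ : Cfsg.IrrCharacter H) (hξ : ξ ∈ b) : ∃ χ ∈ B, Cfsg.classInner (fun h : H => (χ : G → ℂ) h) (ξ : H → ℂ) ≠ 0 := by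
  classical
  have := irr_finite (G := G)
  have := Fintype.ofFinite (IrrCharacter G)
  have hB : IsPBlock M B := hind.2.1
  obtain ⟨χ₀, hχ₀⟩ := hB
  have hχ₀B : χ₀ ∈ B := by
    rw [hχ₀]
    exact Cfsg.Agent.S0952.sameBlock_refl hM _
  set e := blockCoeff B with he
  have hecf : IsClassFunction G e := blockCoeff_isClassFunction B
  have h1 := omega_indFun_sub_locIdeal hM H b B hind ξ hξ χ₀ hχ₀B e hecf
    (osima hM B ⟨χ₀, hχ₀⟩)
  rw [he, omega_blockCoeff B χ₀, if_pos hχ₀B] at h1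
  by_contra hcon
  push Not at hcon
  have hIcf := isClassFunction_indFun H (ξ : H → ℂ)
  have h2 : ∑ g, blockCoeff B g * indFun H (ξ : H → ℂ) g = 0 := by
    rw [sum_mul_expansion _ _ hIcf]
    refine Finset.sum_eq_zero fun χ _ => ?_
    by_cases hχ : χ ∈ B
    · have h3 := frobenius_reciprocity H (ξ : H → ℂ) (χ : G → ℂ) (isClassFunction_irr χ)
      rw [h3, classInner_conj_symm, hcon χ hχ, map_zero, zero_mul]
    · rw [omega_blockCoeff, if_neg hχ, zero_mul, mul_zero]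
  have h4 : omega (indFun H (ξ : H → ℂ)) (blockCoeff B) = 0 := by
    rw [omega_def, h2, zero_div]
  rw [h4, zero_sub] at h1
  have h5 := locIdeal_neg h1
  rw [neg_neg] at h5
  exact locIdeal_one_not hM h5

end Cfsg.Agent.S0934
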