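import Mathlib
import Cfsg.Statements.S0445
import Cfsg.Agent.Lib.Helper6.PSLCard

set_option autoImplicit false
open Cfsg

namespace Cfsg.Agent.S0445

open Matrix

/-- The shape of the matrices commuting with the transvection `1 + E₀₁`. -/
def Shape (g : Matrix (Fin 5) (Fin 5) (ZMod 2)) : Prop :=
  (∀ i, i ≠ 0 → g i 0 = 0) ∧ (∀ j, j ≠ 1 → g 1 j = 0) ∧ g 0 0 = g 1 1

theorem comm_iff (g : Matrix (Fin 5) (Fin 5) (ZMod 2)) :
    transvection 0 1 1 * g = g * transvection 0 1 1 ↔ Shape g := by
  constructor
  · intro h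
    refine ⟨?_, ?_, ?_⟩
    · intro i hi
      have := congrFun (congrFun h i) 1
      rw [transvection_mul_apply_of_ne _ _ _ _ hi, mul_transvection_apply_same] at this
      simpa using this
    · intro j hj
      have := congrFun (congrFun h 0) j
      rw [transvection_mul_apply_same, mul_transvection_apply_of_ne _ _ _ _ hj] at this
      simpa using this
    · have := congrFun (congrFun h 0) 1
      rw [transvection_mul_apply_same, mul_transvection_apply_same] at this
      simpa using this.symm
  · rintro ⟨h1, h2, h3⟩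
    ext i j
    by_cases hi : i = 0
    · subst hi
      by_cases hj : j = 1
      · subst hj
        rw [transvection_mul_apply_same, mul_transvection_apply_same, h3]
      · rw [transvection_mul_apply_same, mul_transvection_apply_of_ne _ _ _ _ hj, h2 j hj]
        simp
    · by_cases hj : j = 1
      · subst hj
        rw [transvection_mul_apply_of_ne _ _ _ _ hi, mul_transvection_apply_same, h1 i hi]
        simp
      · rw [transvection_mul_apply_of_ne _ _ _ _ hi, mul_transvection_apply_of_ne _ _ _ _ hj]

/-- The lower right `3 × 3` block. -/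
def block (g : Matrix (Fin 5) (Fin 5) (ZMod 2)) : Matrix (Fin 3) (Fin 3) (ZMod 2) :=
  g.submatrix (fun i : Fin 3 => i.succ.succ) (fun j : Fin 3 => j.succ.succ)

theorem det_of_shape (g : Matrix (Fin 5) (Fin 5) (ZMod 2)) (h : Shape g) :
    g.det = g 0 0 * (g 1 1 * (block g).det) := by
  obtain ⟨h1, h2, -⟩ := h
  rw [det_succ_column_zero, Finset.sum_eq_single 0]
  · rw [det_succ_row_zero, Finset.sum_eq_single 0]
    · simp only [Fin.val_zero, pow_zero, one_mul, submatrix_apply, Fin.succAbove_zero,
        submatrix_submatrix]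
      rfl
    · intro j _ hj
      have : g 1 j.succ = 0 := h2 _ (by
        intro h
        apply hj
        have : j.succ = Fin.succ 0 := h
        exact Fin.succ_injective _ this)
      simp only [submatrix_apply, Fin.succAbove_zero]
      rw [show (Fin.succ (0 : Fin 4)) = 1 from rfl, this]
      simp
    · simp
  · intro i _ hi
    rw [h1 i hi]
    simp
  · simp

theorem zmod2_facts : ∀ a b c : ZMod 2, a * (b * c) = 1 → a = 1 ∧ b = 1 ∧ c = 1 := by decide

/-- Build a matrix of the right shape out of its free entries. -/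
def build (b : Fin 4 → ZMod 2) (d : Fin 3 → ZMod 2) (D : Matrix (Fin 3) (Fin 3) (ZMod 2)) :
    Matrix (Fin 5) (Fin 5) (ZMod 2) :=
  !![1, b 0, b 1, b 2, b 3;
     0, 1, 0, 0, 0;
     0, d 0, D 0 0, D 0 1, D 0 2;
     0, d 1, D 1 0, D 1 1, D 1 2;
     0, d 2, D 2 0, D 2 1, D 2 2]

theorem shape_build (b : Fin 4 → ZMod 2) (d : Fin 3 → ZMod 2)
    (D : Matrix (Fin 3) (Fin 3) (ZMod 2)) : Shape (build b d D) := by
  refine ⟨?_, ?_, ?_⟩
  · intro i hi
    fin_cases i <;> first | exact absurd rfl hi | rfl
  · intro j hj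
    fin_cases j <;> first | exact absurd rfl hj | rfl
  · rfl

theorem block_build (b : Fin 4 → ZMod 2) (d : Fin 3 → ZMod 2)
    (D : Matrix (Fin 3) (Fin 3) (ZMod 2)) : block (build b d D) = D := by
  ext i j
  fin_cases i <;> fin_cases j <;> rfl

theorem det_build (b : Fin 4 → ZMod 2) (d : Fin 3 → ZMod 2)
    (D : Matrix (Fin 3) (Fin 3) (ZMod 2)) : (build b d D).det = D.det := by
  rw [det_of_shape _ (shape_build b d D), block_build]
  show (1 : ZMod 2) * (1 * D.det) = D.det
  rw [one_mul, one_mul]

theorem build_eq (g : Matrix (Fin 5) (Fin 5) (ZMod 2)) (h : Shape g) (h00 : g 0 0 = 1) :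
    build (fun j => g 0 j.succ) (fun i => g i.succ.succ 1) (block g) = g := by
  obtain ⟨h1, h2, h3⟩ := h
  have h11 : g 1 1 = 1 := by rw [← h3, h00]
  ext i j
  fin_cases i <;> fin_cases j <;>
    first
    | rfl
    | exact h00.symm
    | exact h11.symm
    | exact (h1 _ (by decide)).symm
    | exact (h2 _ (by decide)).symm

abbrev SL5 := Matrix.SpecialLinearGroup (Fin 5) (ZMod 2)
abbrev SL3 := Matrix.SpecialLinearGroup (Fin 3) (ZMod 2)

theorem card_SL3 : Nat.card SL3 = 168 := by
  have h := Cfsg.Agent.Lib.Helper6.card_sl (F := ZMod 2) (q := 2) (by simp [ZMod.card]) 3 (by norm_num)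
  simpa [Fin.prod_univ_succ] using h

theorem mem_cent_iff (s : SL5) (hs : (s : Matrix (Fin 5) (Fin 5) (ZMod 2)) = Matrix.transvection 0 1 1)
    (g : SL5) : g ∈ Subgroup.centralizer ({s} : Set SL5) ↔ Shape g.1 := by
  rw [Subgroup.mem_centralizer_singleton_iff, ← comm_iff, ← hs]
  constructor
  · intro h
    have := congrArg (fun x : SL5 => (x : Matrix (Fin 5) (Fin 5) (ZMod 2))) h
    simpa using this.symm
  · intro h
    apply Subtype.ext
    simpa using h.symm

/-- The explicit parametrisation of the centraliser. -/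
noncomputable def centEquiv (s : SL5)
    (hs : (s : Matrix (Fin 5) (Fin 5) (ZMod 2)) = Matrix.transvection 0 1 1) :
    Subgroup.centralizer ({s} : Set SL5) ≃ (Fin 4 → ZMod 2) × (Fin 3 → ZMod 2) × SL3 where
  toFun g := (fun j => g.1.1 0 j.succ, fun i => g.1.1 i.succ.succ 1,
    ⟨block g.1.1, by
      have hsh := (mem_cent_iff s hs g.1).mp g.2
      have hdet := det_of_shape _ hsh
      rw [g.1.2] at hdet
      exact (zmod2_facts _ _ _ hdet.symm).2.2⟩)
  invFun x := ⟨(⟨build x.1 x.2.1 x.2.2.1, by rw [det_build]; exact x.2.2.2⟩ : SL5),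
    (mem_cent_iff s hs _).mpr (shape_build _ _ _)⟩
  left_inv g := by
    have hsh := (mem_cent_iff s hs g.1).mp g.2
    have hdet := det_of_shape _ hsh
    rw [g.1.2] at hdet
    have h00 := (zmod2_facts _ _ _ hdet.symm).1
    apply Subtype.ext
    apply Subtype.ext
    exact build_eq _ hsh h00
  right_inv x := by
    obtain ⟨b, d, D⟩ := x
    refine Prod.ext ?_ (Prod.ext ?_ ?_)
    · funext j
      fin_cases j <;> rfl
    · funext i
      fin_cases i <;> rfl
    · apply Subtype.ext
      exact block_build b d D.1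

/-- In the special linear group of dimension 5 over the field with two elements, the centraliser of a transvection has order 21504 = 2 ^ 7 · 168 (it is an extension of an extraspecial group of order 2 ^ 7 by the simple group of order 168). -/
theorem result (s : Matrix.SpecialLinearGroup (Fin 5) (ZMod 2)) (hs : (s : Matrix (Fin 5) (Fin 5) (ZMod 2)) = Matrix.transvection 0 1 1) : Nat.card (Subgroup.centralizer ({s} : Set (Matrix.SpecialLinearGroup (Fin 5) (ZMod 2)))) = 21504 := by
  rw [Nat.card_congr (centEquiv s hs), Nat.card_prod, Nat.card_prod, card_SL3]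
  simp [Nat.card_eq_fintype_card, ZMod.card]

end Cfsg.Agent.S0445
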