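import Mathlib
import Cfsg.Statements.S2133
import Cfsg.Agent.S0445
import Cfsg.Agent.Lib.Helper10.OctadStab

set_option autoImplicit false
open Cfsg

namespace Cfsg.Agent.S2133

open Matrix

abbrev V := Fin 4 → ZMod 2
abbrev W := Fin 5 → ZMod 2

def emb (x : ZMod 2) (v : V) : W := ![v 0, x, v 1, v 2, v 3]
def rem (w : W) : V := ![w 0, w 2, w 3, w 4]

theorem rem_emb (x : ZMod 2) (v : V) : rem (emb x v) = v := by
  ext i; fin_cases i <;> rfl

theorem emb_one (x : ZMod 2) (v : V) : emb x v 1 = x := rfl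

theorem emb_rem (w : W) : emb (w 1) (rem w) = w := by
  ext i; fin_cases i <;> rfl

theorem rem_add (w w' : W) : rem (w + w') = rem w + rem w' := by
  ext i; fin_cases i <;> rfl

theorem emb_add (x x' : ZMod 2) (v v' : V) : emb (x + x') (v + v') = emb x v + emb x' v' := by
  ext i; fin_cases i <;> rfl

theorem rem_smul (c : ZMod 2) (w : W) : rem (c • w) = c • rem w := by
  ext i; fin_cases i <;> rfl

theorem emb_smul (c x : ZMod 2) (v : V) : emb (c * x) (c • v) = c • emb x v := by
  ext i; fin_cases i <;> rfl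

/-- The linear map on `W` attached to an affine map `a ↦ L a + t` of `V`. -/
def Phi (L : V →ₗ[ZMod 2] V) (t : V) : W →ₗ[ZMod 2] W where
  toFun w := emb (w 1) (L (rem w) + w 1 • t)
  map_add' w w' := by
    rw [← emb_add, rem_add, map_add, Pi.add_apply, add_smul]
    congr 1
    abel
  map_smul' c w := by
    rw [RingHom.id_apply, ← emb_smul, rem_smul, map_smul, Pi.smul_apply, smul_add, smul_smul,
      smul_eq_mul]

theorem Phi_apply (L : V →ₗ[ZMod 2] V) (t : V) (w : W) :
    Phi L t w = emb (w 1) (L (rem w) + w 1 • t) := rfl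

theorem Phi_comp (L L' : V →ₗ[ZMod 2] V) (t t' : V) :
    Phi L t ∘ₗ Phi L' t' = Phi (L ∘ₗ L') (L t' + t) := by
  apply LinearMap.ext
  intro w
  rw [LinearMap.comp_apply, Phi_apply, Phi_apply, Phi_apply, rem_emb, emb_one, map_add, map_smul,
    LinearMap.comp_apply, smul_add, add_assoc]

theorem Phi_id : Phi LinearMap.id 0 = LinearMap.id := by
  apply LinearMap.ext
  intro w
  rw [Phi_apply, LinearMap.id_apply, smul_zero, add_zero, LinearMap.id_apply, emb_rem]

theorem zmod2_ne (x : ZMod 2) (h : x ≠ 0) : x = 1 := by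
  revert x; decide

theorem abstract_iso {H Ω : Type*} [Group H] [Finite H] (ρ : H →* Equiv.Perm Ω)
    (k : V → Equiv.Perm Ω) (hk : ∀ a b, k (a + b) = k a * k b) (c0 : Ω)
    (h1 : ∀ g a, ∃ b, ρ g * k a * (ρ g)⁻¹ = k b)
    (h2 : ∀ g, ∃ b, ρ g c0 = k b c0)
    (h3 : ∀ a b, k a c0 = k b c0 → a = b)
    (h4 : ∀ g, ρ g * k (Pi.single 0 1) * (ρ g)⁻¹ = k (Pi.single 0 1))
    (h5 : ∀ g, (∀ a, ρ g (k a c0) = k a c0) → g = 1)
    (h6 : 21504 ≤ Nat.card H)
    (s : Matrix.SpecialLinearGroup (Fin 5) (ZMod 2))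
    (hs : (s : Matrix (Fin 5) (Fin 5) (ZMod 2)) = Matrix.transvection 0 1 1) :
    Nonempty (H ≃* ↥(Subgroup.centralizer
      ({s} : Set (Matrix.SpecialLinearGroup (Fin 5) (ZMod 2))))) := by
  classical
  have kinj : ∀ a b, k a = k b → a = b := fun a b h => h3 a b (by rw [h])
  have k0 : k 0 = 1 := by
    have := hk 0 0
    rw [add_zero] at this
    exact (mul_eq_left.mp this.symm)
  choose L hL using h1
  choose t ht using h2
  have L_add : ∀ g a b, L g (a + b) = L g a + L g b := by
    intro g a b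
    apply kinj
    rw [← hL, hk, hk, ← hL, ← hL]
    group
  have L_mul : ∀ g h a, L (g * h) a = L g (L h a) := by
    intro g h a
    apply kinj
    rw [← hL, ← hL, ← hL, map_mul]
    group
  have L_one : ∀ a, L 1 a = a := by
    intro a
    apply kinj
    rw [← hL, map_one]
    group
  have act : ∀ g a, ρ g (k a c0) = k (L g a + t g) c0 := by
    intro g a
    rw [hk, Equiv.Perm.mul_apply, ← ht, ← hL]
    simp
  have t_mul : ∀ g h, t (g * h) = L g (t h) + t g := by
    intro g h
    apply h3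
    rw [← ht, map_mul, Equiv.Perm.mul_apply, ht h, act]
  have t_one : t 1 = 0 := by
    apply h3
    rw [← ht, map_one, k0]
  have L_e0 : ∀ g, L g (Pi.single 0 1) = Pi.single 0 1 := by
    intro g
    apply kinj
    rw [← hL, h4]
  -- linear structure
  let Ll : H → (V →ₗ[ZMod 2] V) := fun g =>
    (AddMonoidHom.mk' (L g) (L_add g)).toZModLinearMap 2
  have Ll_apply : ∀ g a, Ll g a = L g a := fun g a => rfl
  let M : H → Matrix (Fin 5) (Fin 5) (ZMod 2) := fun g => LinearMap.toMatrix' (Phi (Ll g) (t g))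
  have M_mul : ∀ g h, M (g * h) = M g * M h := by
    intro g h
    show LinearMap.toMatrix' _ = LinearMap.toMatrix' _ * LinearMap.toMatrix' _
    rw [← LinearMap.toMatrix'_comp, Phi_comp]
    congr 2
    · apply LinearMap.ext
      intro a
      rw [Ll_apply, LinearMap.comp_apply, Ll_apply, Ll_apply, L_mul]
    · rw [Ll_apply, t_mul]
  have M_one : M 1 = 1 := by
    show LinearMap.toMatrix' _ = 1
    rw [← LinearMap.toMatrix'_id]
    congr 1
    rw [← Phi_id]
    congr 1
    · apply LinearMap.ext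
      intro a
      rw [Ll_apply, L_one, LinearMap.id_apply]
  have M_det : ∀ g, (M g).det = 1 := by
    intro g
    apply zmod2_ne
    intro h0
    have h := congrArg Matrix.det (M_mul g g⁻¹)
    rw [mul_inv_cancel, M_one, Matrix.det_one, Matrix.det_mul, h0, zero_mul] at h
    exact one_ne_zero h
  have M_shape : ∀ g, Cfsg.Agent.S0445.Shape (M g) := by
    intro g
    have e0 : Phi (Ll g) (t g) (Pi.single 0 1) = Pi.single 0 1 := by
      rw [Phi_apply]
      have hr : rem (Pi.single 0 1) = Pi.single 0 1 := by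
        ext i; fin_cases i <;> rfl
      have h10 : (Pi.single 0 1 : W) 1 = 0 := rfl
      rw [hr, h10, zero_smul, add_zero, Ll_apply, L_e0]
      ext i; fin_cases i <;> rfl
    refine ⟨?_, ?_, ?_⟩
    · intro i hi
      show LinearMap.toMatrix' _ i 0 = 0
      rw [LinearMap.toMatrix'_apply, e0]
      simp [hi]
    · intro j hj
      show LinearMap.toMatrix' _ 1 j = 0
      rw [LinearMap.toMatrix'_apply, Phi_apply, emb_one]
      simp [hj.symm]
    · show LinearMap.toMatrix' _ 0 0 = LinearMap.toMatrix' _ 1 1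
      rw [LinearMap.toMatrix'_apply, LinearMap.toMatrix'_apply, e0, Phi_apply, emb_one]
      simp
  let ψ : H →* Matrix.SpecialLinearGroup (Fin 5) (ZMod 2) :=
    { toFun := fun g => ⟨M g, M_det g⟩
      map_one' := Subtype.ext M_one
      map_mul' := fun g h => Subtype.ext (M_mul g h) }
  have ψ_mem : ∀ g, ψ g ∈ Subgroup.centralizer
      ({s} : Set (Matrix.SpecialLinearGroup (Fin 5) (ZMod 2))) := fun g =>
    (Cfsg.Agent.S0445.mem_cent_iff s hs _).mpr (M_shape g)
  let ψ' : H →* ↥(Subgroup.centralizer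
      ({s} : Set (Matrix.SpecialLinearGroup (Fin 5) (ZMod 2)))) := ψ.codRestrict _ ψ_mem
  have ψ_inj : Function.Injective ψ' := by
    rw [injective_iff_map_eq_one]
    intro g hg
    have hM : M g = 1 := by
      have := congrArg (fun x => (x.1 : Matrix.SpecialLinearGroup (Fin 5) (ZMod 2)).1) hg
      exact this
    have hPhi : Phi (Ll g) (t g) = LinearMap.id := by
      apply LinearMap.toMatrix'.injective
      rw [LinearMap.toMatrix'_id]
      exact hM
    have hL1 : ∀ a, L g a = a := by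
      intro a
      have := congrArg (fun f : W →ₗ[ZMod 2] W => rem (f (emb 0 a))) hPhi
      simp only [Phi_apply, LinearMap.id_apply, rem_emb, emb_one, zero_smul, add_zero] at this
      exact this
    have ht0 : t g = 0 := by
      have := congrArg (fun f : W →ₗ[ZMod 2] W => rem (f (emb 1 0))) hPhi
      simp only [Phi_apply, LinearMap.id_apply, rem_emb, emb_one, one_smul, map_zero,
        zero_add] at this
      exact this
    apply h5
    intro a
    rw [act, hL1, ht0, add_zero]
  have hcard : Nat.card ↥(Subgroup.centralizer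
      ({s} : Set (Matrix.SpecialLinearGroup (Fin 5) (ZMod 2)))) ≤ Nat.card H := by
    rw [Cfsg.Agent.S0445.result s hs]
    exact h6
  have hbij : Function.Bijective ψ' := ψ_inj.bijective_of_nat_card_le hcard
  exact ⟨MulEquiv.ofBijective ψ' hbij⟩


open Cfsg.Agent.Lib.Helper9 Cfsg.Agent.Lib.Helper10
open scoped Pointwise

def wordB (x0 x1 x2 x3 : ZMod 2) : List ℕ :=
  (if x0 = 1 then [24] else []) ++ (if x1 = 1 then [26] else []) ++
  (if x2 = 1 then [28] else []) ++ (if x3 = 1 then [30] else [])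

def tabB (x0 x1 x2 x3 : ZMod 2) : List ℕ := prodT sgsTabs (wordB x0 x1 x2 x3)

theorem tabB_add : ∀ x0 x1 x2 x3 y0 y1 y2 y3 : ZMod 2,
    tabB (x0 + y0) (x1 + y1) (x2 + y2) (x3 + y3) = compT (tabB x0 x1 x2 x3) (tabB y0 y1 y2 y3) := by
  decide +kernel

theorem wordB_mem : ∀ x0 x1 x2 x3 : ZMod 2, wordB x0 x1 x2 x3 ∈ W16 := by decide +kernel

theorem W16_wordB : ∀ w ∈ W16, ∃ x0 x1 x2 x3 : ZMod 2, w = wordB x0 x1 x2 x3 := by decide +kernel

theorem tabB_inj : ∀ x0 x1 x2 x3 y0 y1 y2 y3 : ZMod 2,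
    (tabB x0 x1 x2 x3).getD 4 0 = (tabB y0 y1 y2 y3).getD 4 0 →
      x0 = y0 ∧ x1 = y1 ∧ x2 = y2 ∧ x3 = y3 := by
  decide +kernel

theorem tabB_surj : ∀ i < 24, i ∉ octL → ∃ x0 x1 x2 x3 : ZMod 2,
    (tabB x0 x1 x2 x3).getD 4 0 = i := by
  decide +kernel

theorem tabB_fix : ∀ i < 24, ((tabB 1 0 0 0).getD i 0 = i ↔ i ∈ octL) := by decide +kernel

def L16 : List ℕ := [4, 6, 7, 8, 9, 10, 11, 12, 13, 15, 16, 18, 19, 20, 21, 22]

def cert16 : List (ℕ × ℕ × ℕ) :=
  [(6053905, 4721045, 0), (6554826, 3719203, 1), (3277413, 1337732, 2), (6554826, 6554826, 3), (3277413, 42232, 5), (6053905, 6053905, 14), (3277413, 3277413, 17), (8391797, 8391797, 23)]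

theorem fix16 : M24 ⊓ fixing L16 = ⊥ := by
  apply eq_bot_of_fixMask
  have := (fixMask_fixing M24 L16).certRun inf_le_left cert16
  have e : certRun (maskOf L16) cert16 = 16777215 := by decide +kernel
  rwa [e] at this

theorem L16_spec : ∀ i < 24, i ∉ octL → i ∈ L16 := by decide


theorem L16_lt : ∀ i ∈ L16, i < 24 := by decide

theorem L16_not : ∀ i ∈ L16, i ∉ octL := by decide

/-- The sixteen elements fixing the reference octad pointwise, indexed by `V`. -/
noncomputable def kk (a : V) : Equiv.Perm GolayPt :=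
  prodW sgsEnv (wordB (a 0) (a 1) (a 2) (a 3))

def tabK (a : V) : List ℕ := tabB (a 0) (a 1) (a 2) (a 3)

theorem kk_table (a : V) : HasTable (kk a) (tabK a) := (good_sgs_M24.prod _).2

theorem kk_mem (a : V) : kk a ∈ M24 := (good_sgs_M24.prod _).1

theorem kk_K0 (a : V) : kk a ∈ K0 := word16_mem (wordB_mem _ _ _ _)

theorem kk_add (a b : V) : kk (a + b) = kk a * kk b := by
  have h1 := kk_table (a + b)
  have h2 := hasTable_mul (kk_table a) (kk_table b)
  have e : tabK (a + b) = compT (tabK a) (tabK b) := tabB_add _ _ _ _ _ _ _ _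
  rw [e] at h1
  exact h1.eq_of_eq h2

theorem kk_zero : kk 0 = 1 := by
  have := kk_add 0 0
  rw [add_zero] at this
  exact mul_eq_left.mp this.symm

theorem kk_apply4 (a : V) : kk a (pt 4) = pt ((tabK a).getD 4 0) :=
  (kk_table a).apply_pt (by norm_num)

theorem kk_inj (a b : V) (h : kk a (pt 4) = kk b (pt 4)) : a = b := by
  rw [kk_apply4, kk_apply4] at h
  have h2 := congrArg idx h
  rw [idx_pt ((kk_table a).getD_lt 4), idx_pt ((kk_table b).getD_lt 4)] at h2
  obtain ⟨e0, e1, e2, e3⟩ := tabB_inj _ _ _ _ _ _ _ _ h2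
  ext i
  fin_cases i
  · exact e0
  · exact e1
  · exact e2
  · exact e3

theorem exists_kk (q : GolayPt) (hq : q ∉ O0f) : ∃ a : V, kk a (pt 4) = q := by
  have h1 : idx q ∉ octL := fun h => hq (mem_O0f.mpr ((octL_spec _ (idx_lt q)).mpr h))
  obtain ⟨x0, x1, x2, x3, hx⟩ := tabB_surj (idx q) (idx_lt q) h1
  refine ⟨![x0, x1, x2, x3], ?_⟩
  rw [kk_apply4]
  show pt ((tabB x0 x1 x2 x3).getD 4 0) = q
  rw [hx, pt_idx]

def e0 : V := ![1, 0, 0, 0]

theorem single_eq : (Pi.single 0 1 : V) = e0 := by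
  ext i; fin_cases i <;> rfl

theorem z0_fix (p : GolayPt) : kk e0 p = p ↔ p ∈ O0f := by
  rw [(kk_table e0).2 p, mem_O0f, octL_spec _ (idx_lt p), ← tabB_fix _ (idx_lt p)]
  have hlt := (kk_table e0).getD_lt (idx p)
  change (tabB 1 0 0 0).getD (idx p) 0 < 24 at hlt
  show pt ((tabB 1 0 0 0).getD (idx p) 0) = p ↔ _
  constructor
  · intro h
    have := congrArg idx h
    rwa [idx_pt hlt] at this
  · intro h
    rw [h, pt_idx]

/-- The involution. -/
noncomputable def z : ↥M24 := ⟨kk e0, kk_mem e0⟩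

/-- The action of the centraliser on the 24 points. -/
noncomputable def rho : ↥(Subgroup.centralizer ({z} : Set ↥M24)) →* Equiv.Perm GolayPt :=
  M24.subtype.comp (Subgroup.subtype _)

theorem rho_mem (g : ↥(Subgroup.centralizer ({z} : Set ↥M24))) : rho g ∈ M24 := g.1.2

theorem comm_z (g : ↥(Subgroup.centralizer ({z} : Set ↥M24))) :
    rho g * kk e0 = kk e0 * rho g := by
  have h := Subgroup.mem_centralizer_singleton_iff.mp g.2
  exact congrArg Subtype.val h

theorem pres (g : ↥(Subgroup.centralizer ({z} : Set ↥M24))) (p : GolayPt) (hp : p ∈ O0f) :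
    rho g p ∈ O0f := by
  rw [← z0_fix] at hp ⊢
  have := congrArg (fun σ : Equiv.Perm GolayPt => σ p) (comm_z g)
  simp only [Equiv.Perm.mul_apply] at this
  rw [← this, hp]

theorem pres_inv (g : ↥(Subgroup.centralizer ({z} : Set ↥M24))) (p : GolayPt) (hp : p ∈ O0f) :
    (rho g)⁻¹ p ∈ O0f := by
  have := pres g⁻¹ p hp
  rwa [map_inv] at this

theorem conj_kk (g : ↥(Subgroup.centralizer ({z} : Set ↥M24))) (a : V) :
    ∃ b, rho g * kk a * (rho g)⁻¹ = kk b := by
  have hmem : rho g * kk a * (rho g)⁻¹ ∈ K0 := by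
    refine Subgroup.mem_inf.mpr
      ⟨M24.mul_mem (M24.mul_mem (rho_mem g) (kk_mem a)) (M24.inv_mem (rho_mem g)), ?_⟩
    rw [mem_fixingSubgroup_iff]
    intro p hp
    have h1 : (rho g)⁻¹ p ∈ O0f := pres_inv g p (Finset.mem_coe.mp hp)
    have h2 : kk a ((rho g)⁻¹ p) = (rho g)⁻¹ p :=
      (mem_fixingSubgroup_iff _).mp (kk_K0 a).2 _ (Finset.mem_coe.mpr h1)
    rw [Equiv.Perm.smul_def, Equiv.Perm.mul_apply, Equiv.Perm.mul_apply, h2]
    simp
  obtain ⟨w, hw, hσ, -⟩ := exists_word16 hmem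
  obtain ⟨x0, x1, x2, x3, rfl⟩ := W16_wordB w hw
  exact ⟨![x0, x1, x2, x3], hσ⟩

theorem base_kk (g : ↥(Subgroup.centralizer ({z} : Set ↥M24))) :
    ∃ b, rho g (pt 4) = kk b (pt 4) := by
  have h4 : pt 4 ∉ O0f := by
    rw [mem_O0f, idx_pt (by norm_num)]
    decide
  have h5 : rho g (pt 4) ∉ O0f := by
    intro h
    have := pres_inv g _ h
    have e : (rho g)⁻¹ (rho g (pt 4)) = pt 4 := by simp
    rw [e] at this
    exact h4 this
  obtain ⟨b, hb⟩ := exists_kk _ h5
  exact ⟨b, hb.symm⟩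

theorem faithful (g : ↥(Subgroup.centralizer ({z} : Set ↥M24)))
    (h : ∀ a, rho g (kk a (pt 4)) = kk a (pt 4)) : g = 1 := by
  have hmem : rho g ∈ M24 ⊓ fixing L16 := by
    refine ⟨rho_mem g, ?_⟩
    intro i hi
    have hi24 : i < 24 := L16_lt i hi
    have hq : pt i ∉ O0f := by
      rw [mem_O0f, idx_pt hi24, octL_spec i hi24]
      exact L16_not i hi
    obtain ⟨a, ha⟩ := exists_kk _ hq
    rw [← ha]
    exact h a
  rw [fix16, Subgroup.mem_bot] at hmem
  apply Subtype.ext
  apply Subtype.ext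
  exact hmem

theorem z_order : orderOf z = 2 := by
  apply orderOf_eq_prime
  · apply Subtype.ext
    show kk e0 ^ 2 = 1
    rw [pow_two, ← kk_add]
    have : e0 + e0 = 0 := by ext i; fin_cases i <;> rfl
    rw [this]
    exact kk_zero
  · intro h
    have h' : kk e0 = 1 := congrArg Subtype.val h
    have h2 := kk_inj e0 0 (by rw [h', kk_zero])
    have h3 := congrFun h2 0
    exact absurd h3 (by decide)

theorem card_CZ : 21504 ≤ Nat.card ↥(Subgroup.centralizer ({z} : Set ↥M24)) := by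
  classical
  let _ : MulAction ↥M24 (Equiv.Perm GolayPt) :=
    MulAction.compHom (Equiv.Perm GolayPt) ((MulAut.conj).comp M24.subtype)
  have hsmul : ∀ (g : ↥M24) (x : Equiv.Perm GolayPt),
      g • x = (g : Equiv.Perm GolayPt) * x * (g : Equiv.Perm GolayPt)⁻¹ := fun g x => rfl
  have hstab : MulAction.stabilizer ↥M24 (kk e0) = Subgroup.centralizer ({z} : Set ↥M24) := by
    ext g
    rw [MulAction.mem_stabilizer_iff, hsmul, Subgroup.mem_centralizer_singleton_iff,
      mul_inv_eq_iff_eq_mul]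
    constructor
    · intro h
      exact Subtype.ext h
    · intro h
      exact congrArg Subtype.val h
  have hfin : (octads : Set (Finset GolayPt)).Finite := Set.toFinite _
  have hoctF : hfin.toFinset.card = 759 := by
    rw [← ncard_octads, Set.ncard_eq_toFinset_card octads hfin]
  let T : Finset GolayPt → Finset (Equiv.Perm GolayPt) := fun o =>
    (Finset.univ.filter (fun x =>
      x ∈ M24 ⊓ fixingSubgroup (Equiv.Perm GolayPt) (o : Set GolayPt))).erase 1
  have hT : ∀ o ∈ hfin.toFinset, (T o).card ≤ 15 := by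
    intro o ho
    have ho' : o ∈ octads := (Set.Finite.mem_toFinset hfin).mp ho
    have h16 := (octad_pointwise o ho').1
    have h1mem : (1 : Equiv.Perm GolayPt) ∈ Finset.univ.filter (fun x =>
        x ∈ M24 ⊓ fixingSubgroup (Equiv.Perm GolayPt) (o : Set GolayPt)) := by
      rw [Finset.mem_filter]
      exact ⟨Finset.mem_univ _, Subgroup.one_mem _⟩
    have hc : (Finset.univ.filter (fun x =>
        x ∈ M24 ⊓ fixingSubgroup (Equiv.Perm GolayPt) (o : Set GolayPt))).card = 16 := by
      rw [← h16, Nat.card_eq_fintype_card, Fintype.card_subtype]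
    show ((Finset.univ.filter (fun x =>
      x ∈ M24 ⊓ fixingSubgroup (Equiv.Perm GolayPt) (o : Set GolayPt))).erase 1).card ≤ 15
    rw [Finset.card_erase_of_mem h1mem, hc]
  have hsub : MulAction.orbit ↥M24 (kk e0) ⊆ ↑(hfin.toFinset.biUnion T) := by
    rintro x ⟨g, rfl⟩
    show g • kk e0 ∈ _
    rw [Finset.mem_coe, Finset.mem_biUnion]
    refine ⟨(g : Equiv.Perm GolayPt) • O0f,
      (Set.Finite.mem_toFinset hfin).mpr (smul_octad_mem g.2 O0f_mem), ?_⟩
    show g • kk e0 ∈ (Finset.univ.filter (fun x =>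
      x ∈ M24 ⊓ fixingSubgroup (Equiv.Perm GolayPt)
        (((g : Equiv.Perm GolayPt) • O0f : Finset GolayPt) : Set GolayPt))).erase 1
    rw [Finset.mem_erase, Finset.mem_filter]
    have hconj : MulAut.conj (g : Equiv.Perm GolayPt)⁻¹ (g • kk e0) = kk e0 := by
      rw [hsmul, MulAut.conj_apply]
      group
    refine ⟨?_, Finset.mem_univ _, ?_⟩
    · intro h1
      rw [h1, map_one] at hconj
      have h2 := kk_inj e0 0 (by rw [← hconj, kk_zero])
      have h3 := congrFun h2 0
      exact absurd h3 (by decide)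
    · rw [mem_fix_smul_iff g.2, hconj]
      exact kk_K0 e0
  have hcardS : (MulAction.orbit ↥M24 (kk e0)).ncard ≤ 11385 := by
    calc (MulAction.orbit ↥M24 (kk e0)).ncard
        ≤ (↑(hfin.toFinset.biUnion T) : Set (Equiv.Perm GolayPt)).ncard :=
          Set.ncard_le_ncard hsub (Finset.finite_toSet _)
      _ = (hfin.toFinset.biUnion T).card := Set.ncard_coe_finset _
      _ ≤ ∑ o ∈ hfin.toFinset, (T o).card := Finset.card_biUnion_le
      _ ≤ hfin.toFinset.card • 15 := Finset.sum_le_card_nsmul _ _ _ hT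
      _ = 11385 := by rw [hoctF]; rfl
  have h1 := Subgroup.card_mul_index (MulAction.stabilizer ↥M24 (kk e0))
  rw [MulAction.index_stabilizer, card_M24, hstab] at h1
  by_contra hlt
  push Not at hlt
  have h2 : Nat.card ↥(Subgroup.centralizer ({z} : Set ↥M24)) *
      (MulAction.orbit ↥M24 (kk e0)).ncard ≤ 21503 * 11385 :=
    Nat.mul_le_mul (by omega) hcardS
  omega

/-- The Mathieu group M₂₄ (the automorphism group of the length-24 binary code) has an involution whose centraliser is isomorphic to the centraliser of a transvection in SL(5, 2) (a group of shape 2^{1+6}:GL(3, 2)). -/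
theorem result (s : Matrix.SpecialLinearGroup (Fin 5) (ZMod 2)) (hs : (s : Matrix (Fin 5) (Fin 5) (ZMod 2)) = Matrix.transvection 0 1 1) : ∃ z : ↥Cfsg.M24, orderOf z = 2 ∧ Nonempty (↥(Subgroup.centralizer ({z} : Set ↥Cfsg.M24)) ≃* ↥(Subgroup.centralizer ({s} : Set (Matrix.SpecialLinearGroup (Fin 5) (ZMod 2))))) := by
  refine ⟨z, z_order, ?_⟩
  refine abstract_iso rho kk kk_add (pt 4) conj_kk base_kk kk_inj ?_ faithful card_CZ s hs
  intro g
  rw [single_eq, mul_inv_eq_iff_eq_mul]
  exact comm_z g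

end Cfsg.Agent.S2133
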