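import Cfsg.Statements.S0026
import Cfsg.Agent.Lib.Helper1.Coprime

set_option autoImplicit false
open Cfsg
open Cfsg.Agent.Lib.Helper1
open scoped commutatorElement

namespace Cfsg.Agent.S0026

theorem result {G : Type*} [Group G] [Finite G] (A K : Subgroup G) (hAK : A ≤ Subgroup.normalizer (K : Set G))
    (hcop : (Nat.card A).Coprime (Nat.card K)) (hsolv : Group.IsSolvable A ∨ Group.IsSolvable K) :
    ⁅K, A⁆ ⊔ (K ⊓ Subgroup.centralizer (A : Set G)) = K := by
  have hDK : ⁅K, A⁆ ≤ K := commutator_le_of_le_normalizer hAK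
  apply le_antisymm (sup_le hDK inf_le_left)
  intro k hk
  have hcop' : (Nat.card A).Coprime (Nat.card (⁅K, A⁆ : Subgroup G)) :=
    Nat.Coprime.coprime_dvd_right (Subgroup.card_dvd_of_le hDK) hcop
  have hsolv' : Group.IsSolvable A ∨ Group.IsSolvable (⁅K, A⁆ : Subgroup G) :=
    solvable_or_of_le hDK hsolv
  obtain ⟨d, hd, hc⟩ := coprime_coset_fixed (le_normalizer_commutator hAK) hcop' hsolv' k
    (fun a ha => by
      have h1 : k⁻¹ * (a * k * a⁻¹) = ⁅k⁻¹, a⁆ := by simp [commutatorElement_def, mul_assoc]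
      rw [h1]
      exact Subgroup.commutator_mem_commutator (K.inv_mem hk) ha)
  have h3 : k = (k * d) * d⁻¹ := by group
  rw [h3]
  have h4 : k * d ∈ K ⊓ Subgroup.centralizer (A : Set G) := ⟨K.mul_mem hk (hDK hd), hc⟩
  exact Subgroup.mul_mem _ (Subgroup.mem_sup_right h4) (Subgroup.mem_sup_left (Subgroup.inv_mem _ hd))

end Cfsg.Agent.S0026
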