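import Cfsg.Statements.S5256
import Cfsg.Agent.S5134
import Cfsg.Agent.Lib.Helper90.Lift

set_option autoImplicit false
open Cfsg

namespace Cfsg.Agent.S5256

open Cfsg.Agent.Lib.Helper90 Cfsg.FusionSystem

section aux

theorem pRes_map {G H : Type*} [Group G] [Group H] (p : ℕ) (ρ : G →* H) {g : G}
    (hg : g ∈ pResidual p G) : ρ g ∈ pResidual p H := by
  have h : (pResidual p G).map ρ ≤ pResidual p H := by
    unfold pResidual
    rw [MonoidHom.map_closure]
    apply Subgroup.closure_mono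
    rintro _ ⟨x, hx, rfl⟩
    exact Nat.Coprime.coprime_dvd_left (orderOf_map_dvd ρ x) hx
  exact h ⟨g, hg, rfl⟩

theorem pRes_surj {G H : Type*} [Group G] [Group H] [Finite G] (p : ℕ) [hp : Fact p.Prime]
    (ρ : G →* H) (hρ : Function.Surjective ρ) {h : H} (hh : h ∈ pResidual p H) :
    ∃ g ∈ pResidual p G, ρ g = h := by
  have hle : pResidual p H ≤ (pResidual p G).map ρ := by
    show Subgroup.closure {g : H | Nat.Coprime (orderOf g) p} ≤ _
    rw [Subgroup.closure_le]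
    intro y hy
    obtain ⟨g, rfl⟩ := hρ y
    have hy' : Nat.Coprime (orderOf (ρ g)) p := hy
    have h0 : orderOf g ≠ 0 := (orderOf_pos g).ne'
    obtain ⟨a, m, hm, hgm⟩ := Nat.exists_eq_pow_mul_and_not_dvd h0 p hp.out.ne_one
    have hcop : Nat.Coprime (p ^ a) (orderOf (ρ g)) := Nat.Coprime.pow_left a hy'.symm
    obtain ⟨c, hc⟩ := exists_pow_eq_self_of_coprime hcop
    refine ⟨(g ^ p ^ a) ^ c, ?_, by rw [map_pow, map_pow, hc]⟩
    apply Subgroup.pow_mem
    apply Subgroup.subset_closure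
    show Nat.Coprime (orderOf (g ^ p ^ a)) p
    have h1 : orderOf (g ^ p ^ a) = m := by
      rw [orderOf_pow' g (pow_pos hp.out.pos a).ne', hgm, Nat.gcd_eq_right (dvd_mul_right _ _)]
      exact Nat.mul_div_cancel_left m (pow_pos hp.out.pos a)
    rw [h1]
    exact (Nat.Coprime.symm ((Nat.Prime.coprime_iff_not_dvd hp.out).mpr hm))
  exact hle hh

theorem exists_hom_of_rel {P P' : Type*} [Group P] [Group P'] (π : P →* P')
    (hπ : Function.Surjective π) (A : Subgroup (MulAut P)) (B : Subgroup (MulAut P'))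
    (h : ∀ α ∈ A, ∃ α' ∈ B, ∀ x, α' (π x) = π (α x)) :
    ∃ ρ : A →* B, ∀ (α : A) (x : P), (ρ α : MulAut P') (π x) = π ((α : MulAut P) x) := by
  choose f hfB hf using fun (α : A) => h α α.2
  refine ⟨MonoidHom.mk' (fun α => ⟨f α, hfB α⟩) ?_, fun α x => hf α x⟩
  intro α β
  apply Subtype.ext
  ext y
  obtain ⟨x, rfl⟩ := hπ y
  show f (α * β) (π x) = f α (f β (π x))
  rw [hf, hf, hf]
  rfl

variable {Ω : Type*} [Group Ω] {S : Subgroup Ω} {Ω' : Type*} [Group Ω'] {S' : Subgroup Ω'}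

/-- The surjection `P → θ(P)`. -/
def thetaP (θ : S →* Ω') {P : Subgroup Ω} (hP : P ≤ S) : P →* imageAlong θ P :=
  (θ.comp (Subgroup.inclusion hP)).codRestrict _
    (fun x => Subgroup.mem_map.mpr ⟨⟨x, hP x.2⟩, Subgroup.mem_subgroupOf.mpr x.2, rfl⟩)

theorem thetaP_apply (θ : S →* Ω') {P : Subgroup Ω} (hP : P ≤ S) (x : P) :
    ((thetaP θ hP x : imageAlong θ P) : Ω') = θ ⟨x, hP x.2⟩ := rfl

theorem thetaP_surjective (θ : S →* Ω') {P : Subgroup Ω} (hP : P ≤ S) :
    Function.Surjective (thetaP θ hP) := by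
  rintro ⟨y, hy⟩
  obtain ⟨s, hs, rfl⟩ := Subgroup.mem_map.mp hy
  exact ⟨⟨s, Subgroup.mem_subgroupOf.mp hs⟩, rfl⟩

theorem exists_induced_aut [Finite S] (F : FusionSystem S) (E : FusionSystem S') (θ : S →* Ω')
    (hmor : ∀ (P : Subgroup Ω) (φ : P →* Ω), φ ∈ F.Hom P →
      ∃ φ' ∈ E.Hom (imageAlong θ P), InducedAlong θ φ φ')
    {P : Subgroup Ω} (hP : P ≤ S) (α : MulAut P) (hα : α ∈ F.autGroup P) :
    ∃ α' ∈ E.autGroup (imageAlong θ P), ∀ x : P, α' (thetaP θ hP x) = thetaP θ hP (α x) := by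
  have : Finite P := finite_of_le hP
  have : Finite (imageAlong θ P) := Finite.of_surjective _ (thetaP_surjective θ hP)
  obtain ⟨φ, hφ, hφf⟩ := (mem_autGroup_iff F hP α).mp hα
  obtain ⟨φ', hφ', hP₁, hφS, hP'₁, hind⟩ := hmor P φ hφ
  have key : ∀ x : P, φ' (thetaP θ hP x) = ((thetaP θ hP (α x) : imageAlong θ P) : Ω') := by
    intro x
    rw [thetaP_apply]
    have h1 := hind x
    have h2 : (⟨φ x, hφS x⟩ : S) = ⟨((α x : P) : Ω), hP (α x).2⟩ := by
      apply Subtype.ext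
      show φ x = _
      rw [hφf, autFun_apply]
    rw [h2] at h1
    exact h1
  have hmem : ∀ y ∈ imageAlong θ P, extFun (imageAlong θ P) φ' y ∈ imageAlong θ P := by
    intro y hy
    obtain ⟨x, hx⟩ := thetaP_surjective θ hP ⟨y, hy⟩
    rw [extFun_apply' _ _ hy, ← hx, key]
    exact (thetaP θ hP (α x)).2
  obtain ⟨α', hα', hα'f⟩ := exists_aut_of_mor (mor_of_hom hφ') hmem
  refine ⟨α', hα', fun x => Subtype.ext ?_⟩
  rw [hα'f, extFun_apply, key]

theorem exists_lift_aut [Finite S] (F : FusionSystem S) (E : FusionSystem S') (θ : S →* Ω')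
    (hsurjm : ∀ (P' : Subgroup Ω'), P' ≤ S' → ∀ φ' ∈ E.Hom P',
      ∃ φ ∈ F.Hom (preimageAlong θ P'), InducedAlong θ φ φ')
    {P : Subgroup Ω} (hP : P ≤ S) (hPP : preimageAlong θ (imageAlong θ P) = P)
    (hP' : imageAlong θ P ≤ S') (α' : MulAut (imageAlong θ P))
    (hα' : α' ∈ E.autGroup (imageAlong θ P)) :
    ∃ α ∈ F.autGroup P, ∀ x : P, α' (thetaP θ hP x) = thetaP θ hP (α x) := by
  have : Finite P := finite_of_le hP
  obtain ⟨φ', hφ', hφ'f⟩ := (mem_autGroup_iff E hP' α').mp hα'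
  have h0 := hsurjm _ hP' φ' hφ'
  rw [hPP] at h0
  obtain ⟨φ, hφ, hP₁, hφS, hP'₁, hind⟩ := h0
  have key : ∀ x : P, θ ⟨φ x, hφS x⟩ = ((α' (thetaP θ hP x) : imageAlong θ P) : Ω') := by
    intro x
    rw [← hind x, hφ'f, ← autFun_apply]
    rfl
  have hmem : ∀ x ∈ P, extFun P φ x ∈ P := by
    intro x hx
    rw [extFun_apply' _ _ hx]
    have h1 : φ ⟨x, hx⟩ ∈ preimageAlong θ (imageAlong θ P) := by
      refine Subgroup.mem_map.mpr ⟨⟨φ ⟨x, hx⟩, hφS _⟩, Subgroup.mem_comap.mpr ?_, rfl⟩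
      rw [key]
      exact (α' _).2
    rw [hPP] at h1
    exact h1
  obtain ⟨α, hα, hαf⟩ := exists_aut_of_mor (mor_of_hom hφ) hmem
  refine ⟨α, hα, fun x => Subtype.ext ?_⟩
  rw [← key, thetaP_apply]
  congr 1
  apply Subtype.ext
  show φ x = _
  rw [hαf, extFun_apply]

end aux

/-- Let F be a saturated fusion system over a finite p-group S, T a subgroup of S strongly closed in F, and E a factor system F/T realised along a homomorphism θ of S with kernel T. Then the hyperfocal subgroup of E is the image under θ of the hyperfocal subgroup of F (hyp(F/T) = T·hyp(F)/T). -/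
theorem result {Ω : Type*} [Group Ω] {S : Subgroup Ω} [Finite S] (p : ℕ) [Fact p.Prime] (hS : IsPGroup p S) (F : Cfsg.FusionSystem S) (hF : F.IsSaturated p) (T : Subgroup Ω) (hT : F.StronglyClosed T) {Ω' : Type*} [Group Ω'] {S' : Subgroup Ω'} (θ : ↥S →* Ω') (E : Cfsg.FusionSystem S') (hE : F.IsFactorSystem T θ E) : E.hyperfocalSubgroup p = ((F.hyperfocalSubgroup p).subgroupOf S).map θ := by
  obtain ⟨⟨hθS', hmor⟩, hrange, hsurjm⟩ := Cfsg.Agent.S5134.result p hS F hF T hT θ E hE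
  have himle : ∀ P : Subgroup Ω, imageAlong θ P ≤ S' := by
    intro P y hy
    obtain ⟨s, -, rfl⟩ := Subgroup.mem_map.mp hy
    exact hθS' s
  apply le_antisymm
  · -- generators of the hyperfocal subgroup of the factor system lift
    unfold FusionSystem.hyperfocalSubgroup
    rw [Subgroup.closure_le]
    rintro y' ⟨P', α', x', hP', hα', rfl⟩
    obtain ⟨P, hPdef⟩ : ∃ P : Subgroup Ω, P = preimageAlong θ P' := ⟨_, rfl⟩
    have hP : P ≤ S := by
      rw [hPdef]
      intro x hx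
      obtain ⟨s, -, rfl⟩ := Subgroup.mem_map.mp hx
      exact s.2
    have hP'eq : P' = imageAlong θ P := by
      ext y
      constructor
      · intro hy
        have hyS' : y ∈ θ.range := by rw [hrange]; exact hP' hy
        obtain ⟨s, rfl⟩ := hyS'
        refine Subgroup.mem_map.mpr ⟨s, Subgroup.mem_subgroupOf.mpr ?_, rfl⟩
        rw [hPdef]
        exact Subgroup.mem_map.mpr ⟨s, Subgroup.mem_comap.mpr hy, rfl⟩
      · intro hy
        obtain ⟨s, hs, rfl⟩ := Subgroup.mem_map.mp hy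
        have hs' : (s : Ω) ∈ P := Subgroup.mem_subgroupOf.mp hs
        rw [hPdef] at hs'
        obtain ⟨t, ht, hts⟩ := Subgroup.mem_map.mp hs'
        have : t = s := Subtype.ext hts
        rw [← this]
        exact Subgroup.mem_comap.mp ht
    subst hP'eq
    have : Finite P := finite_of_le hP
    obtain ⟨ρ, hρ⟩ := exists_hom_of_rel (thetaP θ hP) (thetaP_surjective θ hP) (F.autGroup P)
      (E.autGroup (imageAlong θ P)) (fun α hα => exists_induced_aut F E θ hmor hP α hα)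
    have hρsurj : Function.Surjective ρ := by
      intro β'
      obtain ⟨β, hβ, hrel⟩ := exists_lift_aut F E θ hsurjm hP hPdef.symm hP' β' β'.2
      refine ⟨⟨β, hβ⟩, Subtype.ext ?_⟩
      ext y
      obtain ⟨x, rfl⟩ := thetaP_surjective θ hP y
      rw [hρ, hrel]
    obtain ⟨α, hα, hρα⟩ := pRes_surj p ρ hρsurj hα'
    obtain ⟨x, rfl⟩ := thetaP_surjective θ hP x'
    have hgen : (x : Ω)⁻¹ * (((α : MulAut P) x : P) : Ω) ∈ Subgroup.closure
        {y : Ω | ∃ (P : Subgroup Ω) (α : F.autGroup P) (x : P), P ≤ S ∧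
          α ∈ pResidual p (F.autGroup P) ∧ y = (x : Ω)⁻¹ * ((α : MulAut P) x : P)} :=
      Subgroup.subset_closure ⟨P, α, x, hP, hα, rfl⟩
    have hmemS : (x : Ω)⁻¹ * (((α : MulAut P) x : P) : Ω) ∈ S :=
      S.mul_mem (S.inv_mem (hP x.2)) (hP ((α : MulAut P) x).2)
    refine Subgroup.mem_map.mpr ⟨⟨_, hmemS⟩, Subgroup.mem_subgroupOf.mpr hgen, ?_⟩
    have e : (⟨(x : Ω)⁻¹ * (((α : MulAut P) x : P) : Ω), hmemS⟩ : S) =
        (⟨x, hP x.2⟩ : S)⁻¹ * ⟨(((α : MulAut P) x : P) : Ω), hP ((α : MulAut P) x).2⟩ := rfl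
    rw [e, map_mul, map_inv, ← hρα, ← thetaP_apply θ hP x, ← thetaP_apply θ hP ((α : MulAut P) x),
      ← hρ]
  · -- generators of the hyperfocal subgroup map to generators
    have hle : F.hyperfocalSubgroup p ≤ preimageAlong θ (E.hyperfocalSubgroup p) := by
      unfold FusionSystem.hyperfocalSubgroup
      rw [Subgroup.closure_le]
      rintro y ⟨P, α, x, hP, hα, rfl⟩
      have : Finite P := finite_of_le hP
      obtain ⟨ρ, hρ⟩ := exists_hom_of_rel (thetaP θ hP) (thetaP_surjective θ hP) (F.autGroup P)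
        (E.autGroup (imageAlong θ P)) (fun α hα => exists_induced_aut F E θ hmor hP α hα)
      have hmemS : (x : Ω)⁻¹ * (((α : MulAut P) x : P) : Ω) ∈ S :=
        S.mul_mem (S.inv_mem (hP x.2)) (hP ((α : MulAut P) x).2)
      refine Subgroup.mem_map.mpr ⟨⟨_, hmemS⟩, Subgroup.mem_comap.mpr ?_, rfl⟩
      have e : (⟨(x : Ω)⁻¹ * (((α : MulAut P) x : P) : Ω), hmemS⟩ : S) =
          (⟨x, hP x.2⟩ : S)⁻¹ * ⟨(((α : MulAut P) x : P) : Ω), hP ((α : MulAut P) x).2⟩ := rfl
      rw [e, map_mul, map_inv, ← thetaP_apply θ hP x, ← thetaP_apply θ hP ((α : MulAut P) x),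
        ← hρ]
      exact Subgroup.subset_closure ⟨imageAlong θ P, ρ α, thetaP θ hP x, himle P,
        pRes_map p ρ hα, rfl⟩
    rintro y' hy'
    obtain ⟨s, hs, rfl⟩ := Subgroup.mem_map.mp hy'
    have hs' := hle (Subgroup.mem_subgroupOf.mp hs)
    obtain ⟨t, ht, hts⟩ := Subgroup.mem_map.mp hs'
    have : t = s := Subtype.ext hts
    rw [← this]
    exact Subgroup.mem_comap.mp ht

end Cfsg.Agent.S5256
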