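import Cfsg.Statements.S0355
import Cfsg.Agent.Lib.Helper9.Steiner5824

set_option autoImplicit false
open Cfsg

namespace Cfsg.Agent.S0355

open Finset Cfsg.Agent.Lib.Helper9 in
/-- In a Steiner system S(4, 7, 23), two distinct blocks intersect in 1 or 3 points. -/
theorem result {α : Type*} [Fintype α] [DecidableEq α] (hα : Fintype.card α = 23) {B : Set (Finset α)} (hB : Cfsg.IsSteinerSystem 4 7 B) {b c : Finset α} (hb : b ∈ B) (hc : c ∈ B) (hbc : b ≠ c) : (b ∩ c).card = 1 ∨ (b ∩ c).card = 3 := by
  classical
  have hbcard : b.card = 7 := hB.1 b hb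
  have e := fun j (hj : j ≤ 4) =>
    sum_choose_mul_card_inter hB ∅ b (disjoint_empty_left b) j (by simpa using hj)
  have e0 := e 0 (by norm_num)
  have e1 := e 1 (by norm_num)
  have e2 := e 2 (by norm_num)
  have e3 := e 3 (by norm_num)
  simp only [interNum_eq, hbcard, hα, card_empty, zero_add, sum_range_succ, sum_range_zero] at e0 e1 e2 e3
  have h7 := interNum_self hB hb
  have h4 := interNum_eq_zero hB hb (i := 4) (by norm_num) (by norm_num)
  have h5 := interNum_eq_zero hB hb (i := 5) (by norm_num) (by norm_num)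
  have h6 := interNum_eq_zero hB hb (i := 6) (by norm_num) (by norm_num)
  rw [h4, h5, h6, h7] at e0 e1 e2 e3
  norm_num [Nat.choose] at e0 e1 e2 e3
  have h0 : interNum B b 0 = 0 := by omega
  have h2 : interNum B b 2 = 0 := by omega
  have hlt : (b ∩ c).card < 4 := by
    by_contra h
    exact hbc (eq_of_le_card_inter hB hb hc (by omega))
  have hne : ∀ i, interNum B b i = 0 → (b ∩ c).card ≠ i := by
    intro i hi h
    rw [interNum, card_eq_zero, filter_eq_empty_iff] at hi
    exact hi (mem_blocksFin.mpr hc) h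
  have := hne 0 h0
  have := hne 2 h2
  omega

end Cfsg.Agent.S0355
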