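import Cfsg.Statements.S0369
import Cfsg.Agent.Lib.Helper9.M24Trans

set_option autoImplicit false
open Cfsg
open scoped Pointwise

namespace Cfsg.Agent.S0369

open Cfsg.Agent.Lib.Helper9 in
theorem gB_popc : gB.all (fun b => popc b == 8) = true := by decide +kernel

open Cfsg.Agent.Lib.Helper9 in
/-- The group of the length-24 code coincides with the automorphism group of its octad system. -/
theorem result : Cfsg.M24 = Cfsg.setSystemAut Cfsg.octads := by
  apply le_antisymm
  · intro σ hσ
    show σ ∈ MulAction.stabilizer (Equiv.Perm GolayPt) octads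
    rw [MulAction.mem_stabilizer_iff]
    apply Set.Subset.antisymm
    · intro b hb
      rw [Set.mem_smul_set] at hb
      obtain ⟨b0, hb0, rfl⟩ := hb
      exact smul_octad_mem hσ hb0
    · intro b hb
      rw [Set.mem_smul_set]
      refine ⟨σ⁻¹ • b, smul_octad_mem (M24.inv_mem hσ) hb, ?_⟩
      rw [smul_inv_smul]
  · intro σ hσ
    have hinv : σ⁻¹ ∈ MulAction.stabilizer (Equiv.Perm GolayPt) octads :=
      Subgroup.inv_mem _ hσ
    rw [MulAction.mem_stabilizer_iff] at hinv
    apply mem_M24_of_span (dec '' {b | b ∈ gB}) (golay_eq_spanL_genL.trans spanL_genL_eq)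
    rintro w ⟨b, hb, rfl⟩
    have hb8 : popc b = 8 := by
      have := List.all_eq_true.mp gB_popc b hb
      simpa using this
    have hsum : b ∈ sums gB := by
      have h1 : dec b ∈ golayCode := by
        rw [golay_eq_spanL_genL, spanL_genL_eq]
        exact Submodule.subset_span ⟨b, hb, rfl⟩
      exact mem_sums_of_dec_mem (gB_lt b hb) h1
    have hoct : support₂ (dec b) ∈ octads := (mem_octads_iff _).mpr ⟨b, hsum, hb8, rfl⟩
    have h2 : σ⁻¹ • support₂ (dec b) ∈ σ⁻¹ • octads := Set.smul_mem_smul_set hoct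
    rw [hinv, smul_support₂, inv_inv] at h2
    obtain ⟨⟨w', hw', hw'eq⟩, _⟩ := h2
    rw [← support₂_injective hw'eq]
    exact hw'

end Cfsg.Agent.S0369
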