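import Cfsg.Statements.S0245
import Mathlib
import Cfsg.Agent.Lib.Helper6.SpCard

set_option autoImplicit false
open Cfsg

namespace Cfsg.Agent.S0245

open Matrix Cfsg.Agent.Lib.Helper18 Cfsg.Agent.Lib.Helper6

theorem mem_of_isometry {F : Type*} [Field F] (m : ℕ)
    (g : (Fin m ⊕ Fin m → F) →ₗ[F] (Fin m ⊕ Fin m → F))
    (hg : ∀ x y, sympB m (g x) (g y) = sympB m x y) :
    LinearMap.toMatrix' g ∈ Matrix.symplecticGroup (Fin m) F := by
  rw [SymplecticGroup.mem_iff']
  have h1 : Matrix.toBilin' ((LinearMap.toMatrix' g)ᵀ * J (Fin m) F * LinearMap.toMatrix' g) =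
      Matrix.toBilin' (J (Fin m) F) := by
    rw [← Matrix.toBilin'_comp]
    refine LinearMap.ext fun x => LinearMap.ext fun y => ?_
    rw [LinearMap.BilinForm.comp_apply, Matrix.toLin'_toMatrix']
    exact hg x y
  exact Matrix.toBilin'.injective h1

theorem card_eq {F : Type*} [Field F] (m : ℕ) :
    Nat.card (Matrix.symplecticGroup (Fin m) F) = Nat.card (Isom (sympB (F := F) m)) := by
  refine Nat.card_congr ?_
  exact
    { toFun := fun A => ⟨Matrix.toLin' A.1, symplectic_isometry m A.1 A.2⟩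
      invFun := fun g => ⟨LinearMap.toMatrix' g.1, mem_of_isometry m g.1 g.2⟩
      left_inv := fun A => Subtype.ext (LinearMap.toMatrix'_toLin' _)
      right_inv := fun g => Subtype.ext (Matrix.toLin'_toMatrix' _) }

/-- Order of the finite symplectic group: |Sp_{2m}(q)| = q^(m^2) * prod_{i=1}^{m} (q^(2i) - 1). -/
theorem result {F : Type*} [Field F] [Fintype F] {q : ℕ} (hF : Fintype.card F = q) (m : ℕ) : Nat.card (Matrix.symplecticGroup (Fin m) F) = q ^ (m ^ 2) * ∏ i ∈ Finset.range m, (q ^ (2 * (i + 1)) - 1) := by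
  rw [card_eq]
  refine card_isom q hF m _ (sympB m) (sympB_isAlt m) (sympB_nondegenerate m).1 ?_
  rw [Nat.card_eq_fintype_card, Fintype.card_fun, hF, Fintype.card_sum, Fintype.card_fin, two_mul]

end Cfsg.Agent.S0245
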