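import Cfsg.Statements.S0246
import Mathlib
import Cfsg.Agent.Lib.Helper18.Symp

set_option autoImplicit false
open Cfsg

namespace Cfsg.Agent.S0246

open Matrix Cfsg.Agent.Lib.Helper18

section aux
variable {F : Type*} [Field F] (m : ℕ)

/-- the element `-1` of the symplectic group -/
def negOne : Matrix.symplecticGroup (Fin m) F :=
  ⟨-1, SymplecticGroup.neg_mem (Submonoid.one_mem _)⟩

theorem central_key (A : Matrix.symplecticGroup (Fin m) F)
    (hA : A ∈ Subgroup.center (Matrix.symplecticGroup (Fin m) F)) (x w : Fin m ⊕ Fin m → F) :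
    (sympB m x w) • (A.1 *ᵥ w) = (sympB m (A.1 *ᵥ x) w) • w := by
  let T : Matrix.symplecticGroup (Fin m) F :=
    ⟨Cfsg.sympTransvection m w 1, sympTransvection_mem m w 1⟩
  have hc : A * T = T * A := (Subgroup.mem_center_iff.mp hA T).symm
  have hc' : A.1 * T.1 = T.1 * A.1 := congrArg Subtype.val hc
  have h1 := congrArg (fun M => M *ᵥ x) hc'
  simp only [← Matrix.mulVec_mulVec] at h1
  have hT : ∀ y, T.1 *ᵥ y = y + (sympB m y w) • w := by
    intro y
    have := congrArg (fun f => f y) (toLin'_sympTransvection m w (1:F))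
    simp only [Matrix.toLin'_apply, transv_apply, one_mul] at this
    exact this
  rw [hT, hT, Matrix.mulVec_add, Matrix.mulVec_smul] at h1
  exact add_left_cancel h1

theorem central_scalar (A : Matrix.symplecticGroup (Fin m) F)
    (hA : A ∈ Subgroup.center (Matrix.symplecticGroup (Fin m) F)) :
    ∃ c : F, A.1 = c • (1 : Matrix (Fin m ⊕ Fin m) (Fin m ⊕ Fin m) F) := by
  have hex : ∀ v, ¬ LinearIndependent F ![v, Matrix.toLin' A.1 v] := by
    intro v
    by_cases hv : v = 0
    · subst hv
      simp [linearIndependent_fin2]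
    · have hnd := sympB_nondegenerate (F := F) m
      obtain ⟨x, hx⟩ : ∃ x, sympB m x v ≠ 0 := by
        by_contra hcon
        push Not at hcon
        exact hv (hnd.2 v hcon)
      have key := central_key m A hA x v
      rw [LinearIndependent.pair_iff' hv]
      push Not
      refine ⟨(sympB m x v)⁻¹ * sympB m (A.1 *ᵥ x) v, ?_⟩
      rw [Matrix.toLin'_apply, mul_smul, ← key, smul_smul, inv_mul_cancel₀ hx, one_smul]
  obtain ⟨a, ha⟩ := LinearMap.exists_eq_smul_id_of_forall_notLinearIndependent hex
  refine ⟨a, ?_⟩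
  have := congrArg LinearMap.toMatrix' ha
  rw [LinearMap.toMatrix'_toLin'] at this
  rw [this]
  simp

theorem scalar_pm (hm : 1 ≤ m) (c : F)
    (h : c • (1 : Matrix (Fin m ⊕ Fin m) (Fin m ⊕ Fin m) F) ∈ Matrix.symplecticGroup (Fin m) F) :
    c = 1 ∨ c = -1 := by
  rw [SymplecticGroup.mem_iff] at h
  have h1 := congrFun (congrFun h (Sum.inl ⟨0, hm⟩)) (Sum.inr ⟨0, hm⟩)
  simp [Matrix.J, Matrix.smul_mul, Matrix.mul_smul] at h1
  exact mul_self_eq_one_iff.mp h1

theorem negOne_mem_center : negOne (F := F) m ∈ Subgroup.center (Matrix.symplecticGroup (Fin m) F) := by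
  rw [Subgroup.mem_center_iff]
  intro g
  apply Subtype.ext
  simp [negOne]

theorem center_eq (hm : 1 ≤ m) :
    Subgroup.center (Matrix.symplecticGroup (Fin m) F) = Subgroup.zpowers (negOne m) := by
  ext A
  constructor
  · intro hA
    obtain ⟨c, hc⟩ := central_scalar m A hA
    have hmem : c • (1 : Matrix (Fin m ⊕ Fin m) (Fin m ⊕ Fin m) F) ∈
        Matrix.symplecticGroup (Fin m) F := hc ▸ A.2
    rcases scalar_pm m hm c hmem with rfl | rfl
    · have : A = 1 := Subtype.ext (by rw [hc]; simp)
      rw [this]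
      exact Subgroup.one_mem _
    · have : A = negOne m := Subtype.ext (by rw [hc]; simp [negOne])
      rw [this]
      exact Subgroup.mem_zpowers _
  · intro hA
    exact (Subgroup.zpowers_le.mpr (negOne_mem_center m)) hA

end aux

/-- The centre of Sp_{2m}(q), m at least 1, is {1, -1}: it has order gcd(2, q-1). -/
theorem result {F : Type*} [Field F] [Fintype F] {q : ℕ} (hF : Fintype.card F = q) (m : ℕ) (hm : 1 ≤ m) : Nat.card (Subgroup.center (Matrix.symplecticGroup (Fin m) F)) = Nat.gcd 2 (q - 1) := by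
  rw [center_eq m hm, Nat.card_zpowers]
  have hq1 : 1 < q := hF ▸ Fintype.one_lt_card
  by_cases h2 : (2 : F) = 0
  · have hchar : ringChar F = 2 := CharP.ringChar_of_prime_eq_zero Nat.prime_two (by exact_mod_cast h2)
    have hq : q % 2 = 0 := hF ▸ FiniteField.even_card_iff_char_two.mp hchar
    have hneg : (-1 : F) = 1 := by
      rw [neg_eq_iff_add_eq_zero, one_add_one_eq_two, h2]
    have h1 : negOne (F := F) m = 1 := by
      apply Subtype.ext
      show (-1 : Matrix (Fin m ⊕ Fin m) (Fin m ⊕ Fin m) F) = 1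
      rw [← neg_one_smul F (1 : Matrix (Fin m ⊕ Fin m) (Fin m ⊕ Fin m) F), hneg, one_smul]
    rw [h1, orderOf_one]
    symm
    exact (Nat.Prime.coprime_iff_not_dvd Nat.prime_two).mpr (by omega)
  · have hchar : ringChar F ≠ 2 := by
      intro hc
      apply h2
      have := ringChar.Nat.cast_ringChar (R := F)
      rw [hc] at this
      exact_mod_cast this
    have hq : q % 2 = 1 := by
      have := mt FiniteField.even_card_iff_char_two.mpr hchar
      rw [hF] at this
      omega
    have hne : negOne (F := F) m ≠ 1 := by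
      intro h1
      have h3 := congrArg Subtype.val h1
      have h4 := congrFun (congrFun h3 (Sum.inl ⟨0, hm⟩)) (Sum.inl ⟨0, hm⟩)
      simp [negOne] at h4
      apply h2
      rw [← one_add_one_eq_two]
      exact (neg_eq_iff_add_eq_zero.mp h4)
    have hsq : negOne (F := F) m ^ 2 = 1 := by
      apply Subtype.ext
      simp [negOne, pow_two]
    rw [orderOf_eq_prime hsq hne]
    symm
    exact Nat.gcd_eq_left (by omega)

end Cfsg.Agent.S0246
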