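import Cfsg.Statements.S0781
import Mathlib
import Cfsg.Agent.Lib.Helper18.Unitary

set_option autoImplicit false
open Cfsg

namespace Cfsg.Agent.S0781

open Matrix Cfsg.Agent.Lib.Helper18 Cfsg.Agent.Lib.Helper7

/-- In SU_n(q) with n ≥ 4, or n = 3 and q > 2, every element whose matrix is a unitary transvection x ↦ x + c h(x, v) v (v isotropic) is a commutator ⁅B, C⁆ of two elements of SU_n(q). -/
theorem result {F : Type*} [Field F] [Fintype F] {q : ℕ} (hF : Fintype.card F = q ^ 2) (n : ℕ) (hn : 4 ≤ n ∨ (n = 3 ∧ 3 ≤ q)) (A : ↥(Cfsg.SU n F q)) (v : Fin n → F) (c : F) (hv0 : Cfsg.hermForm n F q v v = 0) (hA : ((A : Matrix.SpecialLinearGroup (Fin n) F) : Matrix (Fin n) (Fin n) F) = Cfsg.unitaryTransvection n q v c) : A ∈ commutatorSet ↥(Cfsg.SU n F q) := by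
  classical
  have hn3 : 3 ≤ n := by rcases hn with h | ⟨h, -⟩ <;> omega
  have hq0 := herm_q_ne_zero hF
  by_cases htriv : c + c ^ q = 0
  swap
  · -- then `v = 0` and `A = 1`
    have hv : v = 0 := by
      by_contra hv
      obtain ⟨i, hi⟩ : ∃ i, v i ≠ 0 := by
        by_contra h
        push Not at h
        exact hv (funext h)
      obtain ⟨x, hx⟩ : ∃ x : Fin n → F, Cfsg.hermForm n F q x v = v i ^ q :=
        ⟨Pi.single i 1, hf_single_left n i v⟩
      have hpres := (mem_SU_iff A.1).mp A.2 x x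
      rw [hA, unitaryTransvection_mulVec, hx] at hpres
      have e1 : Cfsg.hermForm n F q (x + (c * v i ^ q) • v) (x + (c * v i ^ q) • v) =
          Cfsg.hermForm n F q x x + (c + c ^ q) * (v i ^ q * (v i ^ q) ^ q) := by
        rw [hf_add_left, hf_add_right hF, hf_add_right hF, hf_smul_left, hf_smul_left,
          hf_smul_right, hf_smul_right, hv0, hf_conj hF n x v, hx, mul_pow]
        ring
      rw [e1] at hpres
      have h2 : (c + c ^ q) * (v i ^ q * (v i ^ q) ^ q) = 0 := by linear_combination hpres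
      rcases mul_eq_zero.mp h2 with h | h
      · exact htriv h
      · exact mul_ne_zero (pow_ne_zero _ hi) (pow_ne_zero _ (pow_ne_zero _ hi)) h
    have hA1 : A = 1 := by
      apply Subtype.ext
      apply Subtype.ext
      rw [hA, hv]
      simp [Cfsg.unitaryTransvection]
    rw [hA1]
    exact ⟨1, 1, commutatorElement_one_right 1⟩
  · obtain ⟨w, w2, hwv, hw2v, hww2⟩ := exists_perp_pair hF n hn3 v
    obtain ⟨l, hl⟩ := exists_trace_one hF
    obtain ⟨s, hs⟩ : ∃ s : F, s = -(l * c) := ⟨_, rfl⟩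
    have hsc : s ^ q - s = c := by
      rw [hs, herm_neg_pow hF, mul_pow]
      linear_combination c * hl - l ^ q * htriv
    obtain ⟨w', hw'⟩ : ∃ w' : Fin n → F, w' = s • w2 := ⟨_, rfl⟩
    have hw'v : Cfsg.hermForm n F q w' v = 0 := by
      rw [hw', hf_smul_left, hw2v, mul_zero]
    have h1 : Cfsg.hermForm n F q w w' = s ^ q := by
      rw [hw', hf_smul_right, hww2, mul_one]
    have h2 : Cfsg.hermForm n F q w' w = s := by
      rw [hw', hf_smul_left, hf_conj hF n w w2, hww2, one_pow, mul_one]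
    obtain ⟨a, ha⟩ : ∃ a : F, a = -(l * Cfsg.hermForm n F q w w) := ⟨_, rfl⟩
    obtain ⟨a', ha'⟩ : ∃ a' : F, a' = -(l * Cfsg.hermForm n F q w' w') := ⟨_, rfl⟩
    have haa : a + a ^ q + Cfsg.hermForm n F q w w = 0 := by
      rw [ha, herm_neg_pow hF, mul_pow, hf_self_pow hF]
      linear_combination (-Cfsg.hermForm n F q w w) * hl
    have haa' : a' + a' ^ q + Cfsg.hermForm n F q w' w' = 0 := by
      rw [ha', herm_neg_pow hF, mul_pow, hf_self_pow hF]
      linear_combination (-Cfsg.hermForm n F q w' w') * hl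
    obtain ⟨B₁, hB₁⟩ : ∃ B₁ : ↥(Cfsg.SU n F q),
        ((B₁ : Matrix.SpecialLinearGroup (Fin n) F) : Matrix (Fin n) (Fin n) F) =
          heis q n v w a :=
      ⟨⟨⟨heis q n v w a, heis_det hF n v w a hv0 hwv⟩,
        (mem_SU_iff _).mpr (heis_preserves hF n v w a hv0 hwv haa)⟩, rfl⟩
    obtain ⟨B₂, hB₂⟩ : ∃ B₂ : ↥(Cfsg.SU n F q),
        ((B₂ : Matrix.SpecialLinearGroup (Fin n) F) : Matrix (Fin n) (Fin n) F) =
          heis q n v w' a' :=
      ⟨⟨⟨heis q n v w' a', heis_det hF n v w' a' hv0 hw'v⟩,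
        (mem_SU_iff _).mpr (heis_preserves hF n v w' a' hv0 hw'v haa')⟩, rfl⟩
    refine ⟨B₁, B₂, ?_⟩
    have hprod : B₁ * B₂ = A * (B₂ * B₁) := by
      apply Subtype.ext
      apply Subtype.ext
      simp only [Subgroup.coe_mul, Matrix.SpecialLinearGroup.coe_mul]
      rw [hA, hB₁, hB₂, heis_mul hF n v w w' a a' hv0 hwv hw'v,
        heis_mul hF n v w' w a' a hv0 hw'v hwv,
        transvection_mul_heis hF n v (w' + w) _ c hv0
          (by rw [hf_add_left, hw'v, hwv, add_zero]), add_comm w' w, h1, h2]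
      congr 1
      linear_combination hsc
    rw [commutatorElement_def, hprod]
    group

end Cfsg.Agent.S0781
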