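import Cfsg.Statements.S5246
import Cfsg.Agent.Lib.Helper90.PStable

set_option autoImplicit false
open Cfsg

namespace Cfsg.Agent.S5246

open Cfsg.Agent.Lib.Helper90 Cfsg.FusionSystem

open scoped Pointwise commutatorElement

section aux

variable {Ω : Type*} [Group Ω]

/-- The conjugation action of the normalizer of `Q` on `Q`. -/
noncomputable def normAut (Q : Subgroup Ω) : Subgroup.normalizer (Q : Set Ω) →* MulAut Q :=
  (MulAut.congr (Subgroup.subgroupOfEquivOfLe (Subgroup.le_normalizer (H := Q)))).toMonoidHom.comp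
    (MulAut.conjNormal (H := Q.subgroupOf (Subgroup.normalizer (Q : Set Ω))))

theorem normAut_apply (Q : Subgroup Ω) (n : Subgroup.normalizer (Q : Set Ω)) (x : Q) :
    ((normAut Q n x : Q) : Ω) = n * x * (n : Ω)⁻¹ := rfl

theorem ker_normAut (Q : Subgroup Ω) :
    (Subgroup.centralizer (Q : Set Ω)).subgroupOf (Subgroup.normalizer (Q : Set Ω)) =
      (normAut Q).ker := by
  ext n
  rw [Subgroup.mem_subgroupOf, MonoidHom.mem_ker, Subgroup.mem_centralizer_iff]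
  constructor
  · intro h
    ext x
    rw [normAut_apply]
    show (n : Ω) * x * (n : Ω)⁻¹ = x
    rw [← h x x.2]
    group
  · intro h x hx
    have h1 := congrArg (fun α : MulAut Q => ((α ⟨x, hx⟩ : Q) : Ω)) h
    have h2 : (n : Ω) * x * (n : Ω)⁻¹ = x := h1
    calc x * (n : Ω) = ((n : Ω) * x * (n : Ω)⁻¹) * n := by rw [h2]
      _ = n * x := by group

theorem mem_range_normAut_iff (Q : Subgroup Ω) [Finite Q] (α : MulAut Q) :
    α ∈ (normAut Q).range ↔ ∃ n : Ω, ∀ x : Q, ((α x : Q) : Ω) = n * x * n⁻¹ := by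
  constructor
  · rintro ⟨n, rfl⟩
    exact ⟨n, fun x => normAut_apply Q n x⟩
  · rintro ⟨n, hn⟩
    have hnN : n ∈ Subgroup.normalizer (Q : Set Ω) :=
      mem_normalizer_of_finite (fun x hx => by rw [← hn ⟨x, hx⟩]; exact (α _).2)
    refine ⟨⟨n, hnN⟩, ?_⟩
    ext x
    rw [normAut_apply, hn]

theorem autGroup_group_eq (S : Subgroup Ω) {Q : Subgroup Ω} [Finite Q] (hQ : Q ≤ S) :
    (groupFusionSystem S).autGroup Q = (normAut Q).range := by
  ext α
  rw [mem_autGroup_iff _ hQ, mem_range_normAut_iff]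
  constructor
  · rintro ⟨φ, ⟨-, -, g, hg⟩, hφ⟩
    exact ⟨g, fun x => by rw [← autFun_apply, ← hφ, hg]⟩
  · rintro ⟨g, hg⟩
    exact ⟨Q.subtype.comp α.toMonoidHom, ⟨hQ, fun x => hQ (α x).2, g, fun x => hg x⟩,
      fun x => (autFun_apply α x).symm⟩

theorem mk_mem_pCore_iff {N A : Type*} [Group N] [Group A] (p : ℕ) (Φ : N →* A) (K : Subgroup N)
    [K.Normal] (hK : K = Φ.ker) (x : N) :
    (QuotientGroup.mk x : N ⧸ K) ∈ pCore p (N ⧸ K) ↔
      Φ x ∈ (pCore p Φ.range).map Φ.range.subtype := by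
  subst hK
  rw [← mem_pCore_equiv p (QuotientGroup.quotientKerEquivRange Φ)]
  constructor
  · intro h
    exact ⟨_, h, rfl⟩
  · rintro ⟨y, hy, hyx⟩
    have : y = QuotientGroup.quotientKerEquivRange Φ (QuotientGroup.mk x) := Subtype.ext hyx
    rwa [← this]

theorem comm_bot_iff (Q : Subgroup Ω) (g : Ω) :
    ⁅⁅Q, Subgroup.zpowers g⁆, Subgroup.zpowers g⁆ = ⊥ ↔
      ∀ a ∈ Q, Commute (a * g * a⁻¹ * g⁻¹) g := by
  constructor
  · intro h a ha
    have h1 : ⁅a, g⁆ ∈ ⁅Q, Subgroup.zpowers g⁆ :=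
      Subgroup.commutator_mem_commutator ha (Subgroup.mem_zpowers g)
    have h2 : ⁅⁅a, g⁆, g⁆ ∈ ⁅⁅Q, Subgroup.zpowers g⁆, Subgroup.zpowers g⁆ :=
      Subgroup.commutator_mem_commutator h1 (Subgroup.mem_zpowers g)
    rw [h, Subgroup.mem_bot, commutatorElement_eq_one_iff_commute] at h2
    exact h2
  · intro h
    rw [Subgroup.commutator_eq_bot_iff_le_centralizer, Subgroup.commutator_le]
    intro a ha b hb
    obtain ⟨k, rfl⟩ := Subgroup.mem_zpowers_iff.mp hb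
    have hu := h a ha
    have h1 : ⁅a, g ^ k⁆ = (a * g * a⁻¹ * g⁻¹) ^ k := by
      have h2 : a * g ^ k * a⁻¹ = (a * g * a⁻¹ * g⁻¹) ^ k * g ^ k := by
        rw [← hu.mul_zpow, ← conj_zpow]
        congr 1
        group
      rw [commutatorElement_def, h2, mul_assoc, mul_inv_cancel, mul_one]
    rw [h1, Subgroup.mem_centralizer_iff]
    intro c hc
    obtain ⟨j, rfl⟩ := Subgroup.mem_zpowers_iff.mp hc
    exact ((hu.zpow_left k).zpow_right j).eq.symm

theorem quad_iff (Q : Subgroup Ω) (g : Ω) (χ : MulAut Q)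
    (hχ : ∀ x : Q, ((χ x : Q) : Ω) = g * x * g⁻¹) :
    (∀ a : Q, χ a⁻¹ * a * χ a⁻¹ * χ (χ a) = 1) ↔
      ⁅⁅Q, Subgroup.zpowers g⁆, Subgroup.zpowers g⁆ = ⊥ := by
  rw [comm_bot_iff]
  constructor
  · intro h a ha
    have h1 := congrArg Subtype.val (h ⟨a⁻¹, Q.inv_mem ha⟩)
    simp only [Subgroup.coe_mul, Subgroup.coe_inv, hχ, Subgroup.coe_one, inv_inv] at h1
    have h2 : (a * g * a⁻¹ * g⁻¹)⁻¹ * g * (a * g * a⁻¹ * g⁻¹) * g⁻¹ = 1 := by
      rw [← h1]
      group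
    show (a * g * a⁻¹ * g⁻¹) * g = g * (a * g * a⁻¹ * g⁻¹)
    calc (a * g * a⁻¹ * g⁻¹) * g
        = (a * g * a⁻¹ * g⁻¹) *
          ((a * g * a⁻¹ * g⁻¹)⁻¹ * g * (a * g * a⁻¹ * g⁻¹) * g⁻¹) * g := by rw [h2, mul_one]
      _ = g * (a * g * a⁻¹ * g⁻¹) := by group
  · intro h a
    apply Subtype.ext
    simp only [Subgroup.coe_mul, Subgroup.coe_inv, hχ, Subgroup.coe_one]
    have hu := (h (a : Ω)⁻¹ (Q.inv_mem a.2)).eq
    rw [inv_inv] at hu
    calc g * (a : Ω)⁻¹ * g⁻¹ * a * (g * (a : Ω)⁻¹ * g⁻¹) * (g * (g * a * g⁻¹) * g⁻¹)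
        = ((a : Ω)⁻¹ * g * a * g⁻¹)⁻¹ * (g * ((a : Ω)⁻¹ * g * a * g⁻¹)) * g⁻¹ := by group
      _ = ((a : Ω)⁻¹ * g * a * g⁻¹)⁻¹ * (((a : Ω)⁻¹ * g * a * g⁻¹) * g) * g⁻¹ := by rw [hu]
      _ = 1 := by group

end aux

/-- Let p be an odd prime, G a finite group and P a Sylow p-subgroup. Call a fusion system F p-stable when, for every fully normalized subgroup Q and every χ ∈ Aut_F(Q) acting quadratically on Q (that is, χ fixes a⁻¹χ(a) for every a ∈ Q; equivalently χ(a⁻¹)·a·χ(a⁻¹)·χ(χ(a)) = 1), χ lies in O_p(Aut_F(Q)). Then G is p-stable in the normalizer form (for every p-subgroup Q and x ∈ N_G(Q) with [Q, x, x] = 1, the image of x lies in O_p(N_G(Q)/C_G(Q))) if and only if the fusion system of G on P is p-stable. -/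
theorem result {Ω : Type*} [Group Ω] [Finite Ω] {p : ℕ} [Fact p.Prime] (hp : p ≠ 2) (P : Sylow p Ω) : Cfsg.IsNormalizerPStable p Ω ↔ (∀ Q : Subgroup Ω, (Cfsg.groupFusionSystem (P : Subgroup Ω)).IsFullyNormalized Q → ∀ χ : MulAut ↥Q, χ ∈ (Cfsg.groupFusionSystem (P : Subgroup Ω)).autGroup Q → (∀ a : ↥Q, (χ a⁻¹) * a * (χ a⁻¹) * (χ (χ a)) = 1) → χ ∈ ((Cfsg.pCore p ↥((Cfsg.groupFusionSystem (P : Subgroup Ω)).autGroup Q)).map ((Cfsg.groupFusionSystem (P : Subgroup Ω)).autGroup Q).subtype : Subgroup (MulAut ↥Q))) := by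
  constructor
  · intro hG Q hfn χ hχ hquad
    have hQ : Q ≤ (P : Subgroup Ω) := hfn.1
    rw [autGroup_group_eq _ hQ] at hχ ⊢
    obtain ⟨n, rfl⟩ := hχ
    have hcomm := (quad_iff Q n (normAut Q n) (normAut_apply Q n)).mp hquad
    have h1 := hG Q (P.2.to_le hQ) n n.2 hcomm
    exact (mk_mem_pCore_iff p (normAut Q) _ (ker_normAut Q) n).mp h1
  · intro hF Q hQ g hg hcomm
    have hall : ∀ Q' : Subgroup Ω, Q' ≤ (P : Subgroup Ω) →
        PStableAt (groupFusionSystem (P : Subgroup Ω)) p Q' :=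
      fun Q' hQ' => pStableAt_all (fun Q'' hfn => hF Q'' hfn) hQ'
    -- conjugate `Q` into `P`
    obtain ⟨P', hP'⟩ := hQ.exists_le_sylow
    obtain ⟨z, hz⟩ := MulAction.exists_smul_eq Ω P' P
    have hzQ : ∀ x ∈ Q, z * x * z⁻¹ ∈ (P : Subgroup Ω) := by
      intro x hx
      rw [← hz]
      have hcoe : ((z • P' : Sylow p Ω) : Subgroup Ω) = MulAut.conj z • (P' : Subgroup Ω) := rfl
      rw [hcoe, Subgroup.mem_pointwise_smul_iff_inv_smul_mem]
      simpa [MulAut.smul_def, mul_assoc] using hP' hx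
    obtain ⟨Q', hQ'def⟩ : ∃ Q' : Subgroup Ω, Q' = Q.map (MulAut.conj z).toMonoidHom := ⟨_, rfl⟩
    have hmemQ' : ∀ y, y ∈ Q' ↔ ∃ x ∈ Q, z * x * z⁻¹ = y := by
      intro y
      rw [hQ'def]
      exact Subgroup.mem_map
    have hQ'P : Q' ≤ (P : Subgroup Ω) := by
      intro y hy
      obtain ⟨x, hx, rfl⟩ := (hmemQ' y).mp hy
      exact hzQ x hx
    have hg' : z * g * z⁻¹ ∈ Subgroup.normalizer (Q' : Set Ω) := by
      apply mem_normalizer_of_finite
      intro y hy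
      obtain ⟨x, hx, rfl⟩ := (hmemQ' y).mp hy
      refine (hmemQ' _).mpr ⟨g * x * g⁻¹, conj_mem_of_mem_normalizer hg hx, ?_⟩
      group
    have hcomm' : ⁅⁅Q', Subgroup.zpowers (z * g * z⁻¹)⁆, Subgroup.zpowers (z * g * z⁻¹)⁆ = ⊥ := by
      rw [comm_bot_iff] at hcomm ⊢
      intro y hy
      obtain ⟨x, hx, rfl⟩ := (hmemQ' y).mp hy
      have h1 := Commute.conj_iff (h := z) |>.mpr (hcomm x hx)
      have h2 : z * x * z⁻¹ * (z * g * z⁻¹) * (z * x * z⁻¹)⁻¹ * (z * g * z⁻¹)⁻¹ =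
          z * (x * g * x⁻¹ * g⁻¹) * z⁻¹ := by group
      rw [h2]
      exact h1
    have hquad' := (quad_iff Q' (z * g * z⁻¹) (normAut Q' ⟨_, hg'⟩) (normAut_apply Q' ⟨_, hg'⟩)).mpr
      hcomm'
    have h1 := hall Q' hQ'P (normAut Q' ⟨_, hg'⟩)
      (by rw [autGroup_group_eq _ hQ'P]; exact ⟨_, rfl⟩) hquad'
    rw [autGroup_group_eq _ hQ'P] at h1
    -- transport back to `Q`
    obtain ⟨e, he⟩ : ∃ e : Q ≃* Q', ∀ x : Q, ((e x : Q') : Ω) = z * x * z⁻¹ := by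
      subst hQ'def
      exact ⟨Q.equivMapOfInjective _ (MulAut.conj z).injective, fun x => rfl⟩
    have he' : ∀ y : Q', ((e.symm y : Q) : Ω) = z⁻¹ * y * z := by
      intro y
      have h2 := he (e.symm y)
      rw [MulEquiv.apply_symm_apply] at h2
      rw [h2]
      group
    have hE : ∀ (α : MulAut Q') (x : Q), ((MulAut.congr e.symm α x : Q) : Ω) =
        z⁻¹ * ((α (e x) : Q') : Ω) * z := fun α x => he' (α (e x))
    have h2 := mem_pCore_map_congr p (MulAut.congr e.symm) (normAut Q').range (normAut Q).range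
      (by
        intro α
        rw [mem_range_normAut_iff, mem_range_normAut_iff]
        constructor
        · rintro ⟨n, hn⟩
          refine ⟨z⁻¹ * n * z, fun x => ?_⟩
          rw [hE, hn, he]
          group
        · rintro ⟨m, hm⟩
          refine ⟨z * m * z⁻¹, fun y => ?_⟩
          have h3 := hm (e.symm y)
          rw [hE, MulEquiv.apply_symm_apply, he'] at h3
          calc ((α y : Q') : Ω) = z * (z⁻¹ * ((α y : Q') : Ω) * z) * z⁻¹ := by group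
            _ = z * m * z⁻¹ * y * (z * m * z⁻¹)⁻¹ := by rw [h3]; group) h1
    have h3 : MulAut.congr e.symm (normAut Q' ⟨_, hg'⟩) = normAut Q ⟨g, hg⟩ := by
      ext x
      rw [hE, normAut_apply, normAut_apply, he]
      group
    rw [h3] at h2
    exact (mk_mem_pCore_iff p (normAut Q) _ (ker_normAut Q) ⟨g, hg⟩).mpr h2

end Cfsg.Agent.S5246
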