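import Cfsg.Statements.S5301
import Cfsg.Agent.Lib.Helper90.Ext
-- import your own Cfsg.Agent.* helpers here

set_option autoImplicit false
universe u
open Cfsg

namespace Cfsg.Agent.S5301

open Cfsg.FusionSystem Cfsg.Agent.Lib.Helper90

/-- Let F be a saturated fusion system over a finite p-group S. If for every subgroup P of S that is fully normalized, centric and radical in F the automorphism group that F induces on P has a normal Sylow p-subgroup, then S is normal in F. -/
theorem result {Ω : Type u} [Group Ω] {S : Subgroup Ω} [Finite S] (p : ℕ) [Fact p.Prime] (hS : IsPGroup p S)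
    (F : Cfsg.FusionSystem S) (hF : F.IsSaturated p)
    (hcl : ∀ P : Subgroup Ω, F.IsFullyNormalized P → F.IsCentric P → F.IsRadical p P →
      ∃ R : Sylow p ↥(F.autGroup P), (R : Subgroup ↥(F.autGroup P)).Normal) :
    F.IsNormal S := by
  apply isNormal_of_extQ le_rfl
  apply extQ_of_alperin hS hF le_rfl
  intro P hfa hrec prem f hf hfP
  have hP : P ≤ S := hf.le
  have : Finite P := finite_of_le hP
  by_cases hE : ∃ a ∈ extFn S P f, a ∉ P
  · obtain ⟨a, ha, haP⟩ := hE
    exact extQ_of_extFn hrec hf hfP prem ha haP
  · push Not at hE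
    rcases eq_or_lt_of_le hP with hPS | hPS
    · refine extQ_of_le (by rw [hPS]) hf ?_
      intro x hx
      exact hf.mem (by rw [hPS]; exact hx)
    · exfalso
      have hcent : centralizerIn S P ≤ P := fun z hz => hE z (hf.centralizerIn_le_extFn hz)
      have hcentric := centric_of_rec hrec hcent
      have hfn := fullyNormalized_of_fa_rec hS hfa hrec
      obtain ⟨α, hα, hαf⟩ := exists_aut_of_mor hf hfP
      -- normal `p`-subgroups of the automizer consist of inner automorphisms
      have key : ∀ B : Subgroup (MulAut P), IsPGroup p B → B ≤ F.autGroup P →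
          (∀ α ∈ F.autGroup P, ∀ β ∈ B, α * β * α⁻¹ ∈ B) → B ≤ Inn P := by
        intro B hB hBle hBn β hβ
        have hBS := normal_pSubgroup_le_autInducedBy hfa B hB hBle hBn
        obtain ⟨a, ha, hβa⟩ := (mem_autInducedBy_iff S P β).mp (hBS hβ)
        obtain ⟨b, hb, hαβ⟩ := (mem_autInducedBy_iff S P _).mp (hBS (hBn α hα β hβ))
        have haN : a ∈ Subgroup.normalizer (P : Set Ω) := by
          apply mem_normalizer_of_finite
          intro x hx
          rw [← hβa ⟨x, hx⟩]
          exact (β ⟨x, hx⟩).2
        have haE : a ∈ extFn S P f := by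
          rw [hf.mem_extFn]
          refine ⟨ha, haN, b, hb, fun x hx => ?_⟩
          have h1 := hαβ (α ⟨x, hx⟩)
          have h2 : (α * β * α⁻¹) (α ⟨x, hx⟩) = α (β ⟨x, hx⟩) := by
            show α (β (α⁻¹ (α ⟨x, hx⟩))) = _
            simp
          rw [h2, hαf, hαf, hβa] at h1
          exact h1
        exact (mem_Inn_iff β).mpr ⟨a, hE a haE, hβa⟩
      have hrad : F.IsRadical p P :=
        ⟨hP, le_antisymm (pCore_map_le_of_forall F P _ key) (Inn_le_pCore_map F hS hP)⟩
      obtain ⟨R, hRn⟩ := hcl P hfn hcentric hrad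
      obtain ⟨-, R₀, hR₀⟩ := hfa
      have hRR : R₀ = R := by
        obtain ⟨γ, hγ⟩ := MulAction.exists_smul_eq (F.autGroup P) R R₀
        rw [← hγ]
        exact Sylow.smul_eq_of_normal
      have hnorm : ((autInducedBy S P).subgroupOf (F.autGroup P)).Normal := by
        rw [← hR₀, hRR]
        exact hRn
      have hASle : autInducedBy S P ≤ Inn P := by
        refine key _ (isPGroup_autInducedBy hS P) (autInducedBy_le_autGroup F hP) ?_
        intro α hα β hβ
        have h1 := hnorm.conj_mem ⟨β, autInducedBy_le_autGroup F hP hβ⟩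
          (Subgroup.mem_subgroupOf.mpr hβ) ⟨α, hα⟩
        exact Subgroup.mem_subgroupOf.mp h1
      have hN : normalizerIn S P ≤ P := by
        intro a ha
        obtain ⟨β, -, hβ⟩ := exists_aut_of_mor (mor_conj F hP ha.1)
          (fun x hx => conj_mem_of_mem_normalizer ha.2 hx)
        have hβS : β ∈ autInducedBy S P := (mem_autInducedBy_iff S P β).mpr ⟨a, ha.1, hβ⟩
        obtain ⟨x, hx, hβx⟩ := (mem_Inn_iff β).mp (hASle hβS)
        have hc : x⁻¹ * a ∈ centralizerIn S P := by
          refine ⟨S.mul_mem (S.inv_mem (hP hx)) ha.1, ?_⟩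
          show x⁻¹ * a ∈ Subgroup.centralizer (P : Set Ω)
          rw [Subgroup.mem_centralizer_iff]
          intro y hy
          have h1 : a * y * a⁻¹ = x * y * x⁻¹ := by
            rw [← hβ ⟨y, hy⟩, hβx]
          have h2 : a * y = x * y * x⁻¹ * a := by
            rw [← h1]; group
          rw [mul_assoc, h2]
          group
        have := P.mul_mem hx (hcent hc)
        simpa using this
      exact absurd hN (not_le_of_gt (lt_normalizerIn hS hPS))

end Cfsg.Agent.S5301
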