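import Cfsg.Statements.S0261
import Mathlib
import Cfsg.Agent.Lib.Helper7.SL2Torus
import Cfsg.Agent.Lib.Helper7.Quat
import Cfsg.Agent.S0268

set_option autoImplicit false
open Cfsg

namespace Cfsg.Agent.S0261

open Cfsg.Agent.Lib.Helper7 Matrix

/-- an element inverting `cmp t` -/
def xel {F : Type*} [Field F] (t x y : F) (h : x ^ 2 - t * x * y + y ^ 2 = -1) :
    SpecialLinearGroup (Fin 2) F :=
  ⟨!![x, y; y - t * x, -x], by rw [Matrix.det_fin_two_of]; linear_combination -h⟩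

lemma xel_coe {F : Type*} [Field F] (t x y : F) (h : x ^ 2 - t * x * y + y ^ 2 = -1) :
    (xel t x y h : Matrix (Fin 2) (Fin 2) F) = !![x, y; y - t * x, -x] := rfl

lemma xel_sq {F : Type*} [Field F] (t x y : F) (h : x ^ 2 - t * x * y + y ^ 2 = -1) :
    ((xel t x y h * xel t x y h : SpecialLinearGroup (Fin 2) F) : Matrix (Fin 2) (Fin 2) F) =
      -1 := by
  show (xel t x y h : Matrix (Fin 2) (Fin 2) F) * (xel t x y h : Matrix (Fin 2) (Fin 2) F) = -1
  rw [xel_coe]
  ext i j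
  fin_cases i <;> fin_cases j <;> simp [Matrix.mul_apply, Fin.sum_univ_two]
  · linear_combination h
  · ring
  · ring
  · linear_combination h

lemma cmp_xel {F : Type*} [Field F] (t x y : F) (h : x ^ 2 - t * x * y + y ^ 2 = -1) :
    cmp t * xel t x y h = xel t x y h * (cmp t)⁻¹ := by
  have key : cmp t * xel t x y h * cmp t = xel t x y h := by
    apply Subtype.ext
    show (cmp t : Matrix (Fin 2) (Fin 2) F) * (xel t x y h : Matrix (Fin 2) (Fin 2) F) *
      (cmp t : Matrix (Fin 2) (Fin 2) F) = (xel t x y h : Matrix (Fin 2) (Fin 2) F)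
    rw [xel_coe, cmp_coe]
    ext i j
    fin_cases i <;> fin_cases j <;> simp [Matrix.mul_apply, Fin.sum_univ_two] <;> ring
  calc cmp t * xel t x y h = cmp t * xel t x y h * cmp t * (cmp t)⁻¹ := by group
    _ = xel t x y h * (cmp t)⁻¹ := by rw [key]

lemma exists_xy {F : Type*} [Field F] [Fintype F] (hF : Odd (Fintype.card F)) (t : F)
    (ht : t ^ 2 ≠ 4) : ∃ x y : F, x ^ 2 - t * x * y + y ^ 2 = -1 := by
  have hchar : ringChar F ≠ 2 := by
    intro h
    have := FiniteField.even_card_of_char_two h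
    rcases hF with ⟨k, hk⟩
    omega
  have h2 : (2 : F) ≠ 0 := Ring.two_ne_zero hchar
  have h4 : (4 : F) ≠ 0 := by
    have : (4 : F) = 2 * 2 := by norm_num
    rw [this]; exact mul_ne_zero h2 h2
  set δ : F := 1 - t ^ 2 / 4 with hδ
  have hδ0 : δ ≠ 0 := by
    intro h0
    apply ht
    rw [hδ] at h0
    field_simp at h0
    linear_combination -h0
  obtain ⟨a, b, hab⟩ := FiniteField.exists_root_sum_quadratic
    (f := (Polynomial.X ^ 2 + Polynomial.C 1 : Polynomial F))
    (g := (Polynomial.C δ * Polynomial.X ^ 2 : Polynomial F))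
    (Polynomial.degree_X_pow_add_C (by norm_num) 1)
    (Polynomial.degree_C_mul_X_pow 2 hδ0)
    (Nat.odd_iff.mp hF)
  simp only [Polynomial.eval_add, Polynomial.eval_pow, Polynomial.eval_X, Polynomial.eval_C,
    Polynomial.eval_mul] at hab
  refine ⟨a + t / 2 * b, b, ?_⟩
  rw [hδ] at hab
  field_simp at hab ⊢
  linear_combination hab

/-- For q odd, the Sylow 2-subgroups of SL_2(q) are generalised quaternion. -/
theorem result {F : Type*} [Field F] [Fintype F] (hF : Odd (Fintype.card F)) (P : Sylow 2 (Matrix.SpecialLinearGroup (Fin 2) F)) : ∃ k : ℕ, 1 ≤ k ∧ Nonempty ((P : Subgroup (Matrix.SpecialLinearGroup (Fin 2) F)) ≃* QuaternionGroup (2 ^ k)) := by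
  classical
  set m := (Nat.card (Matrix.SpecialLinearGroup (Fin 2) F)).factorization 2 with hm
  have hcard : Nat.card (Matrix.SpecialLinearGroup (Fin 2) F) =
      (Fintype.card F - 1) * Fintype.card F * (Fintype.card F + 1) := card_SL2
  obtain ⟨j, hj⟩ := hF
  have hcard' : Nat.card (Matrix.SpecialLinearGroup (Fin 2) F) =
      (2 * j) * (2 * j + 1) * (2 * j + 2) := by
    rw [hcard, hj]; simp
  have hq1 : 1 < Fintype.card F := Fintype.one_lt_card
  have hj0 : 0 < j := by omega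
  have hcpos : Nat.card (Matrix.SpecialLinearGroup (Fin 2) F) ≠ 0 := Nat.card_pos.ne'
  -- 8 divides the order
  have h8 : 2 ^ 3 ∣ Nat.card (Matrix.SpecialLinearGroup (Fin 2) F) := by
    rw [hcard']
    obtain ⟨c, hc⟩ := Nat.even_mul_succ_self j
    refine ⟨c * (2 * j + 1), ?_⟩
    have : 2 * j * (2 * j + 1) * (2 * j + 2) = 4 * (j * (j + 1)) * (2 * j + 1) := by ring
    rw [this, hc]; ring
  have hm3 : 3 ≤ m := (Nat.Prime.pow_dvd_iff_le_factorization Nat.prime_two hcpos).mp h8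
  -- 2^(m-1) divides q - 1 or q + 1
  have hdvd : 2 ^ m ∣ (2 * j) * (2 * j + 1) * (2 * j + 2) := by
    rw [← hcard']; exact Nat.ordProj_dvd _ _
  have hdvd2 : 2 ^ (m - 2) ∣ j * (j + 1) := by
    have hcop : Nat.Coprime (2 ^ m) (2 * j + 1) :=
      Nat.Coprime.pow_left _ (Nat.coprime_two_left.mpr ⟨j, rfl⟩)
    have h1 : (2 * j) * (2 * j + 1) * (2 * j + 2) = (2 * j + 1) * (2 ^ 2 * (j * (j + 1))) := by ring
    rw [h1] at hdvd
    have h2 := hcop.dvd_of_dvd_mul_left hdvd
    have h3 : 2 ^ m = 2 ^ 2 * 2 ^ (m - 2) := by rw [← pow_add]; congr 1; omega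
    rw [h3] at h2
    exact Nat.dvd_of_mul_dvd_mul_left (by norm_num) h2
  have hd : 2 ^ (m - 1) ∣ Fintype.card F - 1 ∨ 2 ^ (m - 1) ∣ Fintype.card F + 1 := by
    have h3 : 2 ^ (m - 1) = 2 * 2 ^ (m - 2) := by rw [← pow_succ']; congr 1; omega
    rw [h3, hj]
    rcases Nat.even_or_odd j with he | ho
    · -- j even, so j + 1 odd and 2^(m-2) ∣ j
      left
      have hcop : Nat.Coprime (2 ^ (m - 2)) (j + 1) :=
        Nat.Coprime.pow_left _ (Nat.coprime_two_left.mpr he.add_one)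
      have := hcop.dvd_of_dvd_mul_right hdvd2
      simp only [Nat.add_sub_cancel]
      exact Nat.mul_dvd_mul_left 2 this
    · right
      have hcop : Nat.Coprime (2 ^ (m - 2)) j :=
        Nat.Coprime.pow_left _ (Nat.coprime_two_left.mpr ho)
      have := hcop.dvd_of_dvd_mul_left hdvd2
      have e : 2 * j + 1 + 1 = 2 * (j + 1) := by ring
      rw [e]
      exact Nat.mul_dvd_mul_left 2 this
  have h3le : 3 ≤ 2 ^ (m - 1) := by
    calc 3 ≤ 2 ^ 2 := by norm_num
      _ ≤ 2 ^ (m - 1) := Nat.pow_le_pow_right (by norm_num) (by omega)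
  obtain ⟨t, ht4, ht⟩ := exists_cmp_orderOf (F := F) (2 ^ (m - 1)) h3le hd
  obtain ⟨x, y, hxy⟩ := exists_xy ⟨j, hj⟩ t ht4
  set n := 2 ^ (m - 2) with hn
  have hn2 : 2 ≤ n := by
    calc 2 = 2 ^ 1 := by norm_num
      _ ≤ 2 ^ (m - 2) := Nat.pow_le_pow_right (by norm_num) (by omega)
  have hord : orderOf (cmp t) = 2 * n := by
    rw [ht, hn, ← pow_succ']; congr 1; omega
  -- X * X = A ^ n
  have hAn1 : cmp t ^ n ≠ 1 := by
    intro h
    have := orderOf_dvd_of_pow_eq_one h
    rw [hord] at this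
    have := Nat.le_of_dvd (by omega) this
    omega
  have hAn2 : cmp t ^ n * cmp t ^ n = 1 := by
    rw [← pow_add, ← two_mul, ← hord]; exact pow_orderOf_eq_one _
  have hAn : ((cmp t ^ n : SpecialLinearGroup (Fin 2) F) : Matrix (Fin 2) (Fin 2) F) = -1 :=
    Cfsg.Agent.S0268.result ⟨j, hj⟩ _ hAn1 hAn2
  have hX : xel t x y hxy * xel t x y hxy = cmp t ^ n := by
    apply Subtype.ext
    rw [xel_sq, hAn]
  have hinj := quatHom_injective hn2 (cmp t) (xel t x y hxy) hord hX (cmp_xel t x y hxy)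
  set f := quatHom (by omega : 0 < n) (cmp t) (xel t x y hxy)
    (by rw [← hord]; exact pow_orderOf_eq_one _) hX (cmp_xel t x y hxy) with hf
  have : NeZero n := ⟨by omega⟩
  have hQcard : Nat.card f.range = 2 ^ (Nat.card (Matrix.SpecialLinearGroup (Fin 2) F)).factorization 2 := by
    rw [← Nat.card_congr (MonoidHom.ofInjective hinj).toEquiv, Nat.card_eq_fintype_card,
      QuaternionGroup.card, hn, ← hm]
    have : 4 * 2 ^ (m - 2) = 2 ^ 2 * 2 ^ (m - 2) := by norm_num
    rw [this, ← pow_add]; congr 1; omega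
  let S : Sylow 2 (Matrix.SpecialLinearGroup (Fin 2) F) := Sylow.ofCard f.range hQcard
  let e1 : P ≃* S := Sylow.equiv P S
  let e2 : QuaternionGroup n ≃* f.range := MonoidHom.ofInjective hinj
  refine ⟨m - 2, by omega, ⟨e1.trans e2.symm⟩⟩

end Cfsg.Agent.S0261
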