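import Cfsg.Statements.S0283
import Mathlib
import Cfsg.Agent.Lib.Helper7.SUSimpB
import Cfsg.Agent.S0781

set_option autoImplicit false
open Cfsg

namespace Cfsg.Agent.S0283

open Cfsg.Agent.Lib.Helper7

/-- PSU_n(q) is simple for n at least 3 and (n, q) other than (3, 2). -/
theorem result {F : Type*} [Field F] [Fintype F] {q : ℕ} (hF : Fintype.card F = q ^ 2) (n : ℕ) (hn : 3 ≤ n) (h : ¬ (n = 3 ∧ q = 2)) : IsSimpleGroup (Cfsg.PSU n F q) := by
  classical
  have hq2 := herm_two_le hF
  have hnq : 4 ≤ n ∨ 3 ≤ q := by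
    by_cases h3 : n = 3
    · right
      by_contra hq
      exact h ⟨h3, by omega⟩
    · left
      omega
  have hnq' : 4 ≤ n ∨ (n = 3 ∧ 3 ≤ q) := by
    by_cases h3 : n = 3
    · right
      refine ⟨h3, ?_⟩
      by_contra hq
      exact h ⟨h3, by omega⟩
    · left
      omega
  have hcl := su_closure_eq_top hF n hn hnq
  have hperf : commutator ↥(Cfsg.SU n F q) = ⊤ := by
    rw [commutator_eq_closure, eq_top_iff, ← hcl]
    apply Subgroup.closure_mono
    rintro A ⟨v, c, hv, hA⟩
    exact Cfsg.Agent.S0781.result hF n hnq' A v c hv hA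
  haveI := suPt_preprimitive hF n
  -- a nontrivial element
  have hcen : Subgroup.center ↥(Cfsg.SU n F q) ≠ ⊤ := by
    intro htop
    have h1 := (commutator_eq_bot_iff_center_eq_top (G := ↥(Cfsg.SU n F q))).2 htop
    rw [hperf] at h1
    have hx : Cfsg.hermForm n F q (Pi.single (⟨0, by omega⟩ : Fin n) (1 : F))
        (Pi.single (⟨0, by omega⟩ : Fin n) (1 : F)) = 1 := by
      rw [hf_single_right hF, Pi.single_eq_same]
    obtain ⟨z, hxz, hzz⟩ := exists_unit_perp1 hF (by omega : 2 ≤ n) _ hx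
    have hzx := hf_eq_zero_symm hF n _ _ hxz
    obtain ⟨ω, hω0, hω⟩ := Cfsg.Agent.Lib.Helper18.exists_omega hF
    obtain ⟨e, he⟩ : ∃ e : Fin n → F, e = Pi.single (⟨0, by omega⟩ : Fin n) (1 : F) + ω • z :=
      ⟨_, rfl⟩
    have hee : Cfsg.hermForm n F q e e = 0 := by
      rw [he]
      simp only [hf_add_left, hf_add_right hF, hf_smul_left, hf_smul_right, hx, hzz, hxz, hzx]
      rw [pow_succ'] at hω
      linear_combination hω
    have he0 : e ≠ 0 := by
      intro h0
      have h2 : Cfsg.hermForm n F q e (Pi.single (⟨0, by omega⟩ : Fin n) (1 : F)) = 1 := by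
        rw [he, hf_add_left, hf_smul_left, hx, hzx]
        ring
      rw [h0, hf_zero_left] at h2
      exact zero_ne_one h2
    obtain ⟨f, hef, -⟩ := exists_iso_partner hF n e hee he0
    have hfe := hf_eq_one_symm hF n _ _ hef
    obtain ⟨c, hc0, hc⟩ := exists_trace_zero_ne hF
    have hmem : Cfsg.unitaryTransvection n q e c ∈ suHM F q n :=
      suTM_le_HM hF n (Submonoid.subset_closure ⟨e, c, hee, by rw [hc]; ring, rfl⟩)
    obtain ⟨hg, hgd⟩ := suHM_pres_det hF hmem
    have h2 : suMk hF _ hgd (isFr_of_preserves hF _ hg) ∈ (⊥ : Subgroup ↥(Cfsg.SU n F q)) :=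
      h1 ▸ Subgroup.mem_top _
    rw [Subgroup.mem_bot] at h2
    have h3 : Cfsg.unitaryTransvection n q e c = 1 := congrArg (fun A : ↥(Cfsg.SU n F q) =>
      ((A : Matrix.SpecialLinearGroup (Fin n) F) : Matrix (Fin n) (Fin n) F)) h2
    have h4 := congrArg (fun M => Matrix.mulVec M f) h3
    simp only [Cfsg.Agent.Lib.Helper18.unitaryTransvection_mulVec, hfe, mul_one,
      Matrix.one_mulVec] at h4
    have h5 : c • e = 0 := by
      have h6 : f + c • e = f + 0 := by rw [add_zero]; exact h4
      exact add_left_cancel h6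
    rcases smul_eq_zero.mp h5 with h6 | h6
    · exact hc0 h6
    · exact he0 h6
  haveI : Nontrivial (Cfsg.PSU n F q) := QuotientGroup.nontrivial_iff.2 hcen
  apply IsSimpleGroup.mk
  intro Nbar hNbar
  have hmap : (Nbar.comap (QuotientGroup.mk' (Subgroup.center ↥(Cfsg.SU n F q)))).map
      (QuotientGroup.mk' _) = Nbar :=
    Subgroup.map_comap_eq_self_of_surjective (QuotientGroup.mk'_surjective _) Nbar
  haveI : (Nbar.comap (QuotientGroup.mk' (Subgroup.center ↥(Cfsg.SU n F q)))).Normal :=
    hNbar.comap _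
  by_cases hfix : MulAction.fixedPoints
      (Nbar.comap (QuotientGroup.mk' (Subgroup.center ↥(Cfsg.SU n F q))))
      (SUPt F q n) = Set.univ
  · left
    have hNc : Nbar.comap (QuotientGroup.mk' (Subgroup.center ↥(Cfsg.SU n F q))) ≤
        Subgroup.center ↥(Cfsg.SU n F q) := by
      intro g hg
      apply su_central_of_fix hF n hn hnq
      intro p
      have hp : p ∈ MulAction.fixedPoints
          (Nbar.comap (QuotientGroup.mk' (Subgroup.center ↥(Cfsg.SU n F q))))
          (SUPt F q n) := by rw [hfix]; trivial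
      exact hp ⟨g, hg⟩
    rw [← hmap, eq_bot_iff]
    rintro _ ⟨g, hg, rfl⟩
    rw [Subgroup.mem_bot]
    exact (QuotientGroup.eq_one_iff g).2 (hNc hg)
  · right
    have h1 := (suIwasawa hF n hn hnq).commutator_le _ hfix
    rw [hperf, top_le_iff] at h1
    rw [← hmap, h1]
    exact Subgroup.map_top_of_surjective _ (QuotientGroup.mk'_surjective _)

end Cfsg.Agent.S0283
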