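import Cfsg.Statements.S2872
import Cfsg.Agent.Lib.Helper56.Transfer
import Mathlib

set_option autoImplicit false
open Cfsg
open Cfsg.Agent.Lib.Helper56
open scoped Pointwise commutatorElement

namespace Cfsg.Agent.S2872

/-- Let S be a Sylow 2-subgroup of the finite group G. Then G has a proper normal subgroup of 2-power index (O²(G) ≠ G), or Ω₁(Z(S)) is contained in the Frattini subgroup of S, or N_G(S) acts nontrivially on Ω₁(Z(S)) by conjugation. -/
theorem result {G : Type*} [Group G] [Finite G] (S : Sylow 2 G) : Cfsg.pResidual 2 G ≠ ⊤ ∨ Cfsg.omegaOne 2 ((S : Subgroup G) ⊓ Subgroup.centralizer ((S : Subgroup G) : Set G)) ≤ (frattini ↥(S : Subgroup G)).map (S : Subgroup G).subtype ∨ ∃ g ∈ Subgroup.normalizer ((S : Subgroup G) : Set G), ∃ z ∈ Cfsg.omegaOne 2 ((S : Subgroup G) ⊓ Subgroup.centralizer ((S : Subgroup G) : Set G)), g * z * g⁻¹ ≠ z := by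
  by_contra hcon
  push Not at hcon
  obtain ⟨h1, h2, h3⟩ := hcon
  haveI : Fact (Nat.Prime 2) := ⟨Nat.prime_two⟩
  obtain ⟨z, ⟨hzZ, hz2⟩, hzF⟩ : ∃ z, (z ∈ (S : Subgroup G) ⊓ Subgroup.centralizer ((S : Subgroup G) : Set G) ∧ z ^ 2 = 1) ∧ z ∉ (frattini ↥(S : Subgroup G)).map (S : Subgroup G).subtype := by
    by_contra hno
    push Not at hno
    apply h2
    unfold Cfsg.omegaOne
    rw [Subgroup.closure_le]
    intro x hx
    exact hno x hx
  have hzS : z ∈ (S : Subgroup G) := (Subgroup.mem_inf.mp hzZ).1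
  have hzC : z ∈ Subgroup.centralizer ((S : Subgroup G) : Set G) := (Subgroup.mem_inf.mp hzZ).2
  have hzΩ : z ∈ Cfsg.omegaOne 2 ((S : Subgroup G) ⊓ Subgroup.centralizer ((S : Subgroup G) : Set G)) :=
    Subgroup.subset_closure ⟨hzZ, hz2⟩
  have hzz : z * z = 1 := by rw [← pow_two]; exact hz2
  obtain ⟨M, hM, hzM⟩ : ∃ M : Subgroup ↥(S : Subgroup G), IsCoatom M ∧ (⟨z, hzS⟩ : ↥(S : Subgroup G)) ∉ M := by
    by_contra hno
    push Not at hno
    apply hzF
    refine ⟨⟨z, hzS⟩, ?_, rfl⟩
    show (⟨z, hzS⟩ : ↥(S : Subgroup G)) ∈ frattini ↥(S : Subgroup G)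
    simp only [frattini, Order.radical, Subgroup.mem_iInf]
    exact fun M hM => hno M hM
  have hMi : M.index = 2 := coatom_index_of_pgroup S.isPGroup' M hM
  let ϕ : ↥(S : Subgroup G) →* ℤˣ := indexTwoHom M hMi
  have hϕz : ϕ ⟨z, hzS⟩ = -1 := indexTwoHom_apply_of_not_mem M hMi hzM
  let V : G →* ℤˣ := MonoidHom.transfer ϕ
  have hVz : V z = -1 := by
    show MonoidHom.transfer ϕ z = -1
    rw [transfer_involution_units ϕ z hzz]
    have hodd : Odd (Nat.card {q : G ⧸ (S : Subgroup G) // z • q = q ∧ ext1 ϕ (q.out⁻¹ * z * q.out) = -1}) := by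
      let Ysub : SubMulAction ↥(S : Subgroup G) (G ⧸ (S : Subgroup G)) :=
        { carrier := {q | z • q = q ∧ ext1 ϕ (q.out⁻¹ * z * q.out) = -1}
          smul_mem' := by
            intro c q hq
            obtain ⟨hq1, hq2⟩ := hq
            have hcz : (c : G) * z = z * c := (Subgroup.mem_centralizer_iff.mp hzC) c c.2
            have hsm : c • q = (c : G) • q := rfl
            have e : ((c:G) * q.out)⁻¹ * z * ((c:G) * q.out) = q.out⁻¹ * z * q.out := by
              have : ((c:G) * q.out)⁻¹ * z * ((c:G) * q.out) = q.out⁻¹ * ((c:G)⁻¹ * (z * c)) * q.out := by group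
              rw [this, ← hcz]; group
            refine ⟨?_, ?_⟩
            · rw [hsm, smul_smul, ← hcz, ← smul_smul, hq1]
            · have hrep := ext1_rep ϕ z ((c : G) * q.out) ((c • q).out)
                (by
                  rw [QuotientGroup.out_eq']
                  show (c : G) • ((q.out : G) : G ⧸ (S : Subgroup G)) = c • q
                  rw [QuotientGroup.out_eq']; rfl)
                (by rw [e]; exact out_conj_mem_of_smul_eq z q hq1)
              rw [hrep, e]; exact hq2 }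
      have hcY : Nat.card ↥Ysub ≡ Nat.card (MulAction.fixedPoints ↥(S : Subgroup G) ↥Ysub) [MOD 2] :=
        S.isPGroup'.card_modEq_card_fixedPoints _
      have hcX : Nat.card (G ⧸ (S : Subgroup G)) ≡ Nat.card (MulAction.fixedPoints ↥(S : Subgroup G) (G ⧸ (S : Subgroup G))) [MOD 2] :=
        S.isPGroup'.card_modEq_card_fixedPoints _
      have hfixY : ∀ q : G ⧸ (S : Subgroup G), q ∈ MulAction.fixedPoints ↥(S : Subgroup G) (G ⧸ (S : Subgroup G)) → q ∈ Ysub := by
        intro q hq
        obtain ⟨g, rfl⟩ := QuotientGroup.mk_surjective q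
        have hgN : g ∈ Subgroup.normalizer ((S : Subgroup G) : Set G) :=
          Sylow.mem_fixedPoints_mul_left_cosets_iff_mem_normalizer.mp hq
        have hginv := Subgroup.inv_mem _ hgN
        have hgz : g⁻¹ * z * g = z := by
          have := h3 g⁻¹ hginv z hzΩ
          rwa [inv_inv] at this
        refine ⟨?_, ?_⟩
        · show ((z * g : G) : G ⧸ (S : Subgroup G)) = g
          rw [eq_comm, QuotientGroup.eq, ← mul_assoc, hgz]; exact hzS
        · have hrep := ext1_rep ϕ z g ((g : G ⧸ (S : Subgroup G)).out) (QuotientGroup.out_eq' _).symm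
            (by rw [hgz]; exact hzS)
          show ext1 ϕ (((g : G ⧸ (S : Subgroup G)).out)⁻¹ * z * ((g : G ⧸ (S : Subgroup G)).out)) = -1
          rw [hrep, hgz, ext1_mem ϕ hzS]; exact hϕz
      have hequiv : Nat.card (MulAction.fixedPoints ↥(S : Subgroup G) ↥Ysub) = Nat.card (MulAction.fixedPoints ↥(S : Subgroup G) (G ⧸ (S : Subgroup G))) := by
        refine Nat.card_congr ?_
        exact
        { toFun := fun x => ⟨x.1.1, fun c => by have := x.2 c; exact congrArg Subtype.val this⟩
          invFun := fun x => ⟨⟨x.1, hfixY x.1 x.2⟩, fun c => Subtype.ext (x.2 c)⟩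
          left_inv := fun x => rfl
          right_inv := fun x => rfl }
      have hidx : ¬ 2 ∣ Nat.card (G ⧸ (S : Subgroup G)) := by
        rw [← Subgroup.index_eq_card]; exact S.not_dvd_index
      have hc : Nat.card {q : G ⧸ (S : Subgroup G) // z • q = q ∧ ext1 ϕ (q.out⁻¹ * z * q.out) = -1} = Nat.card ↥Ysub :=
        Nat.card_congr (Equiv.subtypeEquivRight (fun q => Iff.rfl))
      rw [hc, Nat.odd_iff]
      have h5 := hcY
      rw [hequiv] at h5
      have h6 := h5.trans hcX.symm
      unfold Nat.ModEq at h6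
      omega
    exact hodd.neg_one_pow
  have hle : Cfsg.pResidual 2 G ≤ V.ker := by
    unfold Cfsg.pResidual
    rw [Subgroup.closure_le]
    intro g hg
    rw [SetLike.mem_coe, MonoidHom.mem_ker]
    have ho : orderOf (V g) ∣ orderOf g := orderOf_map_dvd V g
    have ho2 : orderOf (V g) ∣ 2 := orderOf_dvd_of_pow_eq_one (by rw [pow_two]; exact Int.units_mul_self _)
    have h7 : orderOf (V g) ∣ 1 := by
      have h8 := Nat.dvd_gcd ho ho2
      have h9 : Nat.gcd (orderOf g) 2 = 1 := hg
      rwa [h9] at h8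
    exact orderOf_eq_one_iff.mp (Nat.dvd_one.mp h7)
  have hzk : z ∈ V.ker := hle (by rw [h1]; exact Subgroup.mem_top z)
  rw [MonoidHom.mem_ker, hVz] at hzk
  exact absurd hzk (by decide)

end Cfsg.Agent.S2872
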