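import Cfsg.Statements.S2882
import Cfsg.Agent.Lib.Helper94.M24Syl2

set_option autoImplicit false
open Cfsg

namespace Cfsg.Agent.S2882

open Cfsg.Agent.Lib.Helper9 Cfsg.Agent.Lib.Helper94

theorem fact2 : (Nat.card ↥M24).factorization 2 = 10 := by
  rw [card_M24, show (244823040 : ℕ) = 2 ^ 10 * 239085 by norm_num,
    Nat.factorization_mul (by norm_num) (by norm_num), Finsupp.add_apply,
    Nat.Prime.factorization_pow Nat.prime_two,
    Nat.factorization_eq_zero_of_not_dvd (by norm_num)]
  simp

/-- The explicit Sylow 2-subgroup, inside the group. -/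
def P0 : Subgroup ↥M24 := syl2.subgroupOf M24

theorem card_P0 : Nat.card ↥P0 = 2 ^ (Nat.card ↥M24).factorization 2 := by
  rw [fact2, P0, Nat.card_congr (Subgroup.subgroupOfEquivOfLe syl2_le).toEquiv, card_syl2]
  norm_num

theorem normalizer_P0 : Subgroup.normalizer (P0 : Set ↥M24) = P0 := by
  apply le_antisymm _ Subgroup.le_normalizer
  intro n hn
  rw [P0, Subgroup.mem_subgroupOf]
  apply syl2_normalizer n.2
  apply Subgroup.mem_normalizer_fintype
  intro h hh
  have h1 : (⟨h, syl2_le hh⟩ : ↥M24) ∈ P0 := Subgroup.mem_subgroupOf.2 hh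
  have h2 := (Subgroup.mem_normalizer_iff.1 hn _).1 h1
  exact Subgroup.mem_subgroupOf.1 h2

/-- In the Mathieu group of degree 24 (realised as the automorphism group of the extended binary Golay code) every Sylow 2-subgroup is self-normalizing. -/
theorem result (S : Sylow 2 ↥Cfsg.M24) : Subgroup.normalizer ((S : Subgroup ↥Cfsg.M24) : Set ↥Cfsg.M24) = (S : Subgroup ↥Cfsg.M24) := by
  have : Fact (Nat.Prime 2) := ⟨Nat.prime_two⟩
  have h1 : Nat.card (Sylow 2 ↥M24) =
      (Subgroup.normalizer ((P0 : Subgroup ↥M24) : Set ↥M24)).index :=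
    (Sylow.ofCard P0 card_P0).card_eq_index_normalizer
  have h2 : Nat.card (Sylow 2 ↥M24) =
      (Subgroup.normalizer ((S : Subgroup ↥M24) : Set ↥M24)).index :=
    S.card_eq_index_normalizer
  rw [normalizer_P0] at h1
  have h3 := Subgroup.card_mul_index (Subgroup.normalizer ((S : Subgroup ↥M24) : Set ↥M24))
  have h4 := Subgroup.card_mul_index P0
  rw [← h2, h1] at h3
  have h5 : Nat.card (S : Subgroup ↥M24) = Nat.card P0 := by
    rw [S.card_eq_multiplicity, card_P0]
  have hpos : 0 < P0.index := Nat.pos_of_ne_zero Subgroup.index_ne_zero_of_finite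
  have h6 := Nat.eq_of_mul_eq_mul_right hpos (h3.trans h4.symm)
  exact (Subgroup.eq_of_le_of_card_ge Subgroup.le_normalizer (by rw [h6, h5])).symm

end Cfsg.Agent.S2882
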