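import Cfsg.Statements.S1687
import Cfsg.Agent.Lib.Helper38.Fi22Pres
import Cfsg.Agent.Lib.Helper38.Fi22x3510V
import Cfsg.Agent.Lib.Helper38.Fi22x3510N
import Cfsg.Agent.Lib.Helper38.Fi22x3510O

set_option autoImplicit false
open Cfsg

namespace Cfsg.Agent.S1687

open Cfsg.Agent.Lib.Helper38 Cfsg.Agent.Lib.Helper38.Fi22x3510 Cfsg.Agent.Lib.Helper38.Fi22P

set_option maxRecDepth 100000
set_option maxHeartbeats 0
set_option linter.unusedSimpArgs false

theorem chkG_ok : cert.chkG = true := by decide +kernel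

theorem words_eq : (List.range cert.nrel).map cert.wordL = words := by decide +kernel

theorem chkRoots_ok : cert.chkRoots = true := by decide +kernel

theorem cnt_1 : cert.cnt 1 = 693 := by decide +kernel

theorem cnt_2 : cert.cnt 2 = 2816 := by decide +kernel

/-- the generators of the subgroup -/
abbrev S : Set (FreeGroup Cfsg.Spor.Fi22.Gen) :=
  {Cfsg.Spor.Fi22.a, Cfsg.Spor.Fi22.c, Cfsg.Spor.Fi22.d, Cfsg.Spor.Fi22.e, Cfsg.Spor.Fi22.f, Cfsg.Spor.Fi22.g, Cfsg.Spor.Fi22.h, Cfsg.Spor.Fi22.i, (Cfsg.Spor.Fi22.a * Cfsg.Spor.Fi22.b * Cfsg.Spor.Fi22.c * Cfsg.Spor.Fi22.d * Cfsg.Spor.Fi22.e * Cfsg.Spor.Fi22.h) ^ 5}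

theorem w_48 : cert.wordL 48 = [0] := by decide +kernel

theorem e_48 : ((cert.wordL 48).map (fun s => (PresentedGroup.of (gen s) : PresentedGroup rels))).prod =
    PresentedGroup.mk rels (Cfsg.Spor.Fi22.a) := by
  rw [w_48]
  simp only [List.map_cons, List.map_nil, List.prod_cons, List.prod_nil, mul_one, gen, PresentedGroup.of,
    map_mul, pow_succ, pow_zero, one_mul, mul_assoc]

theorem w_49 : cert.wordL 49 = [2] := by decide +kernel

theorem e_49 : ((cert.wordL 49).map (fun s => (PresentedGroup.of (gen s) : PresentedGroup rels))).prod =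
    PresentedGroup.mk rels (Cfsg.Spor.Fi22.c) := by
  rw [w_49]
  simp only [List.map_cons, List.map_nil, List.prod_cons, List.prod_nil, mul_one, gen, PresentedGroup.of,
    map_mul, pow_succ, pow_zero, one_mul, mul_assoc]

theorem w_50 : cert.wordL 50 = [3] := by decide +kernel

theorem e_50 : ((cert.wordL 50).map (fun s => (PresentedGroup.of (gen s) : PresentedGroup rels))).prod =
    PresentedGroup.mk rels (Cfsg.Spor.Fi22.d) := by
  rw [w_50]
  simp only [List.map_cons, List.map_nil, List.prod_cons, List.prod_nil, mul_one, gen, PresentedGroup.of,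
    map_mul, pow_succ, pow_zero, one_mul, mul_assoc]

theorem w_51 : cert.wordL 51 = [4] := by decide +kernel

theorem e_51 : ((cert.wordL 51).map (fun s => (PresentedGroup.of (gen s) : PresentedGroup rels))).prod =
    PresentedGroup.mk rels (Cfsg.Spor.Fi22.e) := by
  rw [w_51]
  simp only [List.map_cons, List.map_nil, List.prod_cons, List.prod_nil, mul_one, gen, PresentedGroup.of,
    map_mul, pow_succ, pow_zero, one_mul, mul_assoc]

theorem w_52 : cert.wordL 52 = [5] := by decide +kernel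

theorem e_52 : ((cert.wordL 52).map (fun s => (PresentedGroup.of (gen s) : PresentedGroup rels))).prod =
    PresentedGroup.mk rels (Cfsg.Spor.Fi22.f) := by
  rw [w_52]
  simp only [List.map_cons, List.map_nil, List.prod_cons, List.prod_nil, mul_one, gen, PresentedGroup.of,
    map_mul, pow_succ, pow_zero, one_mul, mul_assoc]

theorem w_53 : cert.wordL 53 = [6] := by decide +kernel

theorem e_53 : ((cert.wordL 53).map (fun s => (PresentedGroup.of (gen s) : PresentedGroup rels))).prod =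
    PresentedGroup.mk rels (Cfsg.Spor.Fi22.g) := by
  rw [w_53]
  simp only [List.map_cons, List.map_nil, List.prod_cons, List.prod_nil, mul_one, gen, PresentedGroup.of,
    map_mul, pow_succ, pow_zero, one_mul, mul_assoc]

theorem w_54 : cert.wordL 54 = [7] := by decide +kernel

theorem e_54 : ((cert.wordL 54).map (fun s => (PresentedGroup.of (gen s) : PresentedGroup rels))).prod =
    PresentedGroup.mk rels (Cfsg.Spor.Fi22.h) := by
  rw [w_54]
  simp only [List.map_cons, List.map_nil, List.prod_cons, List.prod_nil, mul_one, gen, PresentedGroup.of,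
    map_mul, pow_succ, pow_zero, one_mul, mul_assoc]

theorem w_55 : cert.wordL 55 = [8] := by decide +kernel

theorem e_55 : ((cert.wordL 55).map (fun s => (PresentedGroup.of (gen s) : PresentedGroup rels))).prod =
    PresentedGroup.mk rels (Cfsg.Spor.Fi22.i) := by
  rw [w_55]
  simp only [List.map_cons, List.map_nil, List.prod_cons, List.prod_nil, mul_one, gen, PresentedGroup.of,
    map_mul, pow_succ, pow_zero, one_mul, mul_assoc]

theorem w_56 : cert.wordL 56 = [0, 1, 2, 3, 4, 7, 0, 1, 2, 3, 4, 7, 0, 1, 2, 3, 4, 7, 0, 1, 2, 3, 4, 7, 0, 1, 2, 3, 4, 7] := by decide +kernel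

theorem e_56 : ((cert.wordL 56).map (fun s => (PresentedGroup.of (gen s) : PresentedGroup rels))).prod =
    PresentedGroup.mk rels ((Cfsg.Spor.Fi22.a * Cfsg.Spor.Fi22.b * Cfsg.Spor.Fi22.c * Cfsg.Spor.Fi22.d * Cfsg.Spor.Fi22.e * Cfsg.Spor.Fi22.h) ^ 5) := by
  rw [w_56]
  simp only [List.map_cons, List.map_nil, List.prod_cons, List.prod_nil, mul_one, gen, PresentedGroup.of,
    map_mul, pow_succ, pow_zero, one_mul, mul_assoc]

theorem hS : PresentedGroup.mk rels '' S = {x | ∃ wid, cert.nsub ≤ wid ∧ wid < cert.nw ∧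
    ((cert.wordL wid).map (fun s => (PresentedGroup.of (gen s) : PresentedGroup rels))).prod = x} := by
  ext x
  constructor
  · rintro ⟨w, hw, rfl⟩
    rcases hw with rfl | rfl | rfl | rfl | rfl | rfl | rfl | rfl | rfl
    · exact ⟨48, by decide, by decide, e_48⟩
    · exact ⟨49, by decide, by decide, e_49⟩
    · exact ⟨50, by decide, by decide, e_50⟩
    · exact ⟨51, by decide, by decide, e_51⟩
    · exact ⟨52, by decide, by decide, e_52⟩
    · exact ⟨53, by decide, by decide, e_53⟩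
    · exact ⟨54, by decide, by decide, e_54⟩
    · exact ⟨55, by decide, by decide, e_55⟩
    · exact ⟨56, by decide, by decide, e_56⟩
  · rintro ⟨wid, h1, h2, rfl⟩
    have h1' : 48 ≤ wid := h1
    have h2' : wid < 57 := h2
    interval_cases wid
    · exact ⟨_, Or.inl rfl, e_48.symm⟩
    · exact ⟨_, Or.inr (Or.inl rfl), e_49.symm⟩
    · exact ⟨_, Or.inr (Or.inr (Or.inl rfl)), e_50.symm⟩
    · exact ⟨_, Or.inr (Or.inr (Or.inr (Or.inl rfl))), e_51.symm⟩
    · exact ⟨_, Or.inr (Or.inr (Or.inr (Or.inr (Or.inl rfl)))), e_52.symm⟩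
    · exact ⟨_, Or.inr (Or.inr (Or.inr (Or.inr (Or.inr (Or.inl rfl))))), e_53.symm⟩
    · exact ⟨_, Or.inr (Or.inr (Or.inr (Or.inr (Or.inr (Or.inr (Or.inl rfl)))))), e_54.symm⟩
    · exact ⟨_, Or.inr (Or.inr (Or.inr (Or.inr (Or.inr (Or.inr (Or.inr (Or.inl rfl))))))), e_55.symm⟩
    · exact ⟨_, Or.inr (Or.inr (Or.inr (Or.inr (Or.inr (Or.inr (Or.inr (Or.inr (rfl)))))))), e_56.symm⟩

theorem hP : Cert.Pres cert (fun s => (PresentedGroup.of (gen s) : PresentedGroup rels))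
    ((Subgroup.closure S).map (PresentedGroup.mk rels)) :=
  cert.pres_of rels gen idx gen_idx idx_lt idx_gen words words_eq of_invol of_words
    (fun σ hσ hw => lift_one σ hσ hw) S hS chkN_all

theorem hC : Cert.Checks cert := ⟨chkV_all, chkN_all, chkG_ok⟩

theorem hO : Cert.OChecks cert := ⟨chkO_all, chkRoots_ok⟩


/-- In the presented Fischer group Fi₂₂, let H be the subgroup generated by the images of a, c, d, e, f, g, h, i and (abcdeh)^5. Then H has index 3510, H has orbits of sizes 693 and 2816 on the cosets of H other than H itself. -/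
theorem result : (((Subgroup.closure ({Cfsg.Spor.Fi22.a, Cfsg.Spor.Fi22.c, Cfsg.Spor.Fi22.d, Cfsg.Spor.Fi22.e, Cfsg.Spor.Fi22.f, Cfsg.Spor.Fi22.g, Cfsg.Spor.Fi22.h, Cfsg.Spor.Fi22.i, (Cfsg.Spor.Fi22.a * Cfsg.Spor.Fi22.b * Cfsg.Spor.Fi22.c * Cfsg.Spor.Fi22.d * Cfsg.Spor.Fi22.e * Cfsg.Spor.Fi22.h) ^ 5} : Set (FreeGroup Cfsg.Spor.Fi22.Gen))).map (PresentedGroup.mk (Cfsg.Spor.coxRelators Cfsg.Spor.Fi22.edges ∪ {r | r ∈ Cfsg.Spor.Fi22.extra})))).index = 3510 ∧ ∃ q₁ q₂ : Cfsg.Spor.Fi22 ⧸ (((Subgroup.closure ({Cfsg.Spor.Fi22.a, Cfsg.Spor.Fi22.c, Cfsg.Spor.Fi22.d, Cfsg.Spor.Fi22.e, Cfsg.Spor.Fi22.f, Cfsg.Spor.Fi22.g, Cfsg.Spor.Fi22.h, Cfsg.Spor.Fi22.i, (Cfsg.Spor.Fi22.a * Cfsg.Spor.Fi22.b * Cfsg.Spor.Fi22.c * Cfsg.Spor.Fi22.d * Cfsg.Spor.Fi22.e * Cfsg.Spor.Fi22.h) ^ 5} : Set (FreeGroup Cfsg.Spor.Fi22.Gen))).map (PresentedGroup.mk (Cfsg.Spor.coxRelators Cfsg.Spor.Fi22.edges ∪ {r | r ∈ Cfsg.Spor.Fi22.extra})))), (MulAction.orbit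 (((Subgroup.closure ({Cfsg.Spor.Fi22.a, Cfsg.Spor.Fi22.c, Cfsg.Spor.Fi22.d, Cfsg.Spor.Fi22.e, Cfsg.Spor.Fi22.f, Cfsg.Spor.Fi22.g, Cfsg.Spor.Fi22.h, Cfsg.Spor.Fi22.i, (Cfsg.Spor.Fi22.a * Cfsg.Spor.Fi22.b * Cfsg.Spor.Fi22.c * Cfsg.Spor.Fi22.d * Cfsg.Spor.Fi22.e * Cfsg.Spor.Fi22.h) ^ 5} : Set (FreeGroup Cfsg.Spor.Fi22.Gen))).map (PresentedGroup.mk (Cfsg.Spor.coxRelators Cfsg.Spor.Fi22.edges ∪ {r | r ∈ Cfsg.Spor.Fi22.extra})))) q₁).ncard = 693 ∧ (MulAction.orbit (((Subgroup.closure ({Cfsg.Spor.Fi22.a, Cfsg.Spor.Fi22.c, Cfsg.Spor.Fi22.d, Cfsg.Spor.Fi22.e, Cfsg.Spor.Fi22.f, Cfsg.Spor.Fi22.g, Cfsg.Spor.Fi22.h, Cfsg.Spor.Fi22.i, (Cfsg.Spor.Fi22.a * Cfsg.Spor.Fi22.b * Cfsg.Spor.Fi22.c * Cfsg.Spor.Fi22.d * Cfsg.Spor.Fi22.e * Cfsg.Spor.Fi22.h) ^ 5} : Set (FreeGroup Cfsg.Spor.Fi22.Gen))).map (PresentedGroup.mk (Cfsg.Spor.coxRelators Cfsg.Spor.Fi22.edges ∪ {r | r ∈ Cfsg.Spor.Fi22.extra})))) q₂).ncard = 2816 := by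
  obtain ⟨Q, hQ⟩ := Cert.orbits hP hC hO
  exact ⟨Cert.index_eq hP hC,
    Q 1,
    Q 2,
    (hQ 1 (by decide)).1.trans cnt_1,
    (hQ 2 (by decide)).1.trans cnt_2⟩

end Cfsg.Agent.S1687
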