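import Cfsg.Statements.S1696
import Cfsg.Agent.S1687
import Cfsg.Agent.Lib.Helper38.CosetSimple
import Cfsg.Agent.Lib.Helper38.Fi22BV
import Cfsg.Agent.Lib.Helper38.Fi22BN
import Cfsg.Agent.Lib.Helper38.Fi22BT
import Cfsg.Agent.Lib.Helper38.Fi22C2V
import Cfsg.Agent.Lib.Helper38.Fi22C2N
import Cfsg.Agent.Lib.Helper38.Fi22C3V
import Cfsg.Agent.Lib.Helper38.Fi22C3N
import Cfsg.Agent.Lib.Helper38.Fi22C4V
import Cfsg.Agent.Lib.Helper38.Fi22C4N
import Cfsg.Agent.Lib.Helper38.Fi22C5V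
import Cfsg.Agent.Lib.Helper38.Fi22C5N

set_option autoImplicit false
open Cfsg

namespace Cfsg.Agent.S1696

open Cfsg.Agent.Lib.Helper38 Cfsg.Agent.Lib.Helper38.Fi22P

set_option maxRecDepth 100000
set_option maxHeartbeats 0

/-- the generators -/
noncomputable abbrev γ : ℕ → PresentedGroup rels := fun s => PresentedGroup.of (gen s)

/-! ### The base certificate -/

theorem B_chkG : Fi22B.cert.chkG = true := by decide +kernel

theorem B_words : (List.range Fi22B.cert.nrel).map Fi22B.cert.wordL = words := by decide +kernel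

theorem B_hP : Cert.Pres Fi22B.cert γ (Fi22B.cert.subgp γ) :=
  Fi22B.cert.pres_sub rels gen idx gen_idx idx_lt idx_gen words B_words of_invol of_words
    (fun σ hσ hw => lift_one σ hσ hw) Fi22B.chkN_all

theorem B_hC : Cert.Checks Fi22B.cert := ⟨Fi22B.chkV_all, Fi22B.chkN_all, B_chkG⟩

/-! ### The chain of presentations: an upper bound for the order -/

/-- the relator words of the presentation number 1 of the chain -/
def W1 : List (List ℕ) := [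
  [1, 2, 1, 2, 1, 2],
  [1, 3, 1, 3],
  [1, 4, 1, 4],
  [1, 5, 1, 5],
  [1, 6, 1, 6],
  [1, 7, 1, 7],
  [1, 8, 1, 8],
  [2, 3, 2, 3, 2, 3],
  [2, 4, 2, 4],
  [2, 5, 2, 5],
  [2, 6, 2, 6],
  [2, 7, 2, 7],
  [2, 8, 2, 8],
  [3, 4, 3, 4, 3, 4],
  [3, 5, 3, 5],
  [3, 6, 3, 6],
  [3, 7, 3, 7, 3, 7],
  [3, 8, 3, 8],
  [4, 5, 4, 5, 4, 5],
  [4, 6, 4, 6],
  [4, 7, 4, 7],
  [4, 8, 4, 8],
  [5, 6, 5, 6, 5, 6],
  [5, 7, 5, 7],
  [5, 8, 5, 8],
  [6, 7, 6, 7],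
  [6, 8, 6, 8],
  [7, 8, 7, 8, 7, 8],
  [3, 2, 1, 3, 4, 5, 3, 7, 8, 3, 2, 1, 3, 4, 5, 3, 7, 8, 3, 2, 1, 3, 4, 5, 3, 7, 8, 3, 2, 1, 3, 4, 5, 3, 7, 8, 3, 2, 1, 3, 4, 5, 3, 7, 8, 3, 2, 1, 3, 4, 5, 3, 7, 8, 3, 2, 1, 3, 4, 5, 3, 7, 8, 3, 2, 1, 3, 4, 5, 3, 7, 8, 3, 2, 1, 3, 4, 5, 3, 7, 8, 3, 2, 1, 3, 4, 5, 3, 7, 8],
  [1, 2, 3, 4, 5, 6, 7, 1, 2, 3, 4, 5, 6, 7, 1, 2, 3, 4, 5, 6, 7, 1, 2, 3, 4, 5, 6, 7, 1, 2, 3, 4, 5, 6, 7, 1, 2, 3, 4, 5, 6, 7, 1, 2, 3, 4, 5, 6, 7, 1, 2, 3, 4, 5, 6, 7, 1, 2, 3, 4, 5, 6, 7],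
  [0]]

theorem C1_chkG : Fi22C2.cert.chkG = true := by decide +kernel

theorem C1_words : (List.range Fi22C2.cert.nrel).map Fi22C2.cert.wordL = W1 := by decide +kernel

theorem C1_hP : Cert.Pres Fi22C2.cert (WP.gen 9 W1) (Fi22C2.cert.subgp (WP.gen 9 W1)) :=
  WP.pres Fi22C2.cert W1 C1_words Fi22C2.chkN_all

theorem C1_hC : Cert.Checks Fi22C2.cert := ⟨Fi22C2.chkV_all, Fi22C2.chkN_all, C1_chkG⟩

/-- the relator words of the presentation number 2 of the chain -/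
def W2 : List (List ℕ) := [
  [1, 2, 1, 2, 1, 2],
  [1, 3, 1, 3],
  [1, 4, 1, 4],
  [1, 5, 1, 5],
  [1, 6, 1, 6],
  [1, 7, 1, 7],
  [2, 3, 2, 3, 2, 3],
  [2, 4, 2, 4],
  [2, 5, 2, 5],
  [2, 6, 2, 6],
  [2, 7, 2, 7],
  [3, 4, 3, 4, 3, 4],
  [3, 5, 3, 5],
  [3, 6, 3, 6],
  [3, 7, 3, 7, 3, 7],
  [4, 5, 4, 5, 4, 5],
  [4, 6, 4, 6],
  [4, 7, 4, 7],
  [5, 6, 5, 6, 5, 6],
  [5, 7, 5, 7],
  [6, 7, 6, 7],
  [1, 2, 3, 4, 5, 6, 7, 1, 2, 3, 4, 5, 6, 7, 1, 2, 3, 4, 5, 6, 7, 1, 2, 3, 4, 5, 6, 7, 1, 2, 3, 4, 5, 6, 7, 1, 2, 3, 4, 5, 6, 7, 1, 2, 3, 4, 5, 6, 7, 1, 2, 3, 4, 5, 6, 7, 1, 2, 3, 4, 5, 6, 7],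
  [0],
  [8]]

theorem C2_chkG : Fi22C3.cert.chkG = true := by decide +kernel

theorem C2_words : (List.range Fi22C3.cert.nrel).map Fi22C3.cert.wordL = W2 := by decide +kernel

theorem C2_hP : Cert.Pres Fi22C3.cert (WP.gen 9 W2) (Fi22C3.cert.subgp (WP.gen 9 W2)) :=
  WP.pres Fi22C3.cert W2 C2_words Fi22C3.chkN_all

theorem C2_hC : Cert.Checks Fi22C3.cert := ⟨Fi22C3.chkV_all, Fi22C3.chkN_all, C2_chkG⟩

/-- the relator words of the presentation number 3 of the chain -/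
def W3 : List (List ℕ) := [
  [1, 2, 1, 2, 1, 2],
  [1, 3, 1, 3],
  [1, 4, 1, 4],
  [1, 5, 1, 5],
  [1, 7, 1, 7],
  [2, 3, 2, 3, 2, 3],
  [2, 4, 2, 4],
  [2, 5, 2, 5],
  [2, 7, 2, 7],
  [3, 4, 3, 4, 3, 4],
  [3, 5, 3, 5],
  [3, 7, 3, 7, 3, 7],
  [4, 5, 4, 5, 4, 5],
  [4, 7, 4, 7],
  [5, 7, 5, 7],
  [0],
  [6],
  [8]]

theorem C3_chkG : Fi22C4.cert.chkG = true := by decide +kernel

theorem C3_words : (List.range Fi22C4.cert.nrel).map Fi22C4.cert.wordL = W3 := by decide +kernel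

theorem C3_hP : Cert.Pres Fi22C4.cert (WP.gen 9 W3) (Fi22C4.cert.subgp (WP.gen 9 W3)) :=
  WP.pres Fi22C4.cert W3 C3_words Fi22C4.chkN_all

theorem C3_hC : Cert.Checks Fi22C4.cert := ⟨Fi22C4.chkV_all, Fi22C4.chkN_all, C3_chkG⟩

/-- the relator words of the presentation number 4 of the chain -/
def W4 : List (List ℕ) := [
  [1, 2, 1, 2, 1, 2],
  [1, 3, 1, 3],
  [1, 4, 1, 4],
  [1, 7, 1, 7],
  [2, 3, 2, 3, 2, 3],
  [2, 4, 2, 4],
  [2, 7, 2, 7],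
  [3, 4, 3, 4, 3, 4],
  [3, 7, 3, 7, 3, 7],
  [4, 7, 4, 7],
  [0],
  [5],
  [6],
  [8]]

theorem C4_chkG : Fi22C5.cert.chkG = true := by decide +kernel

theorem C4_words : (List.range Fi22C5.cert.nrel).map Fi22C5.cert.wordL = W4 := by decide +kernel

theorem C4_hP : Cert.Pres Fi22C5.cert (WP.gen 9 W4) (Fi22C5.cert.subgp (WP.gen 9 W4)) :=
  WP.pres Fi22C5.cert W4 C4_words Fi22C5.chkN_all

theorem C4_hC : Cert.Checks Fi22C5.cert := ⟨Fi22C5.chkV_all, Fi22C5.chkN_all, C4_chkG⟩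

theorem fin4 : Finite (WP 9 W4) ∧ Nat.card (WP 9 W4) = 1920 :=
  ub_bot C4_hP C4_hC (by decide)

theorem fin3 : Finite (WP 9 W3) ∧ Nat.card (WP 9 W3) ≤ 27 * (1920) := by
  have := fin4.1
  have h := ub_step C3_hP C3_hC W3 (fun w hw => WP.gen_word 9 W3 hw) 9 W4 (actL [1, 2, 3, 4, 7])
    (actL_ge _ 9 (by decide)) (by decide +kernel) (Cert.hsub_of (by decide +kernel))
  exact ⟨h.1, h.2.trans (Nat.mul_le_mul_left _ fin4.2.le)⟩

theorem fin2 : Finite (WP 9 W2) ∧ Nat.card (WP 9 W2) ≤ 28 * (27 * (1920)) := by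
  have := fin3.1
  have h := ub_step C2_hP C2_hC W2 (fun w hw => WP.gen_word 9 W2 hw) 9 W3 (actL [1, 2, 3, 4, 5, 7])
    (actL_ge _ 9 (by decide)) (by decide +kernel) (Cert.hsub_of (by decide +kernel))
  exact ⟨h.1, h.2.trans (Nat.mul_le_mul_left _ fin3.2)⟩

theorem fin1 : Finite (WP 9 W1) ∧ Nat.card (WP 9 W1) ≤ 3159 * (28 * (27 * (1920))) := by
  have := fin2.1
  have h := ub_step C1_hP C1_hC W1 (fun w hw => WP.gen_word 9 W1 hw) 9 W2 (actL [1, 2, 3, 4, 5, 6, 7])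
    (actL_ge _ 9 (by decide)) (by decide +kernel) (Cert.hsub_of (by decide +kernel))
  exact ⟨h.1, h.2.trans (Nat.mul_le_mul_left _ fin2.2)⟩

theorem fin0 : Finite (PresentedGroup rels) ∧ Nat.card (PresentedGroup rels) ≤ 14080 * (3159 * (28 * (27 * (1920)))) := by
  have := fin1.1
  have h := ub_step B_hP B_hC words of_words 9 W1 (actL [1, 2, 3, 4, 5, 6, 7, 8])
    (actL_ge _ 9 (by decide)) (by decide +kernel) (Cert.hsub_of (by decide +kernel))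
  exact ⟨h.1, h.2.trans (Nat.mul_le_mul_left _ fin1.2)⟩

/-! ### The stabiliser chain: the order and a base -/

theorem order_and_base : ∃ φ : PresentedGroup rels →* Equiv.Perm ℕ, (∀ s < 9, φ (γ s) = Fi22B.cert.σ s) ∧
    Nat.card (PresentedGroup rels) = 64561751654400 ∧
    ∀ x : PresentedGroup rels, (∀ p ∈ [0, 1, 2, 10677, 3], φ x p = p) → x = 1 := by
  obtain ⟨φ, hφ⟩ := B_hP.hφ
  have := fin0.1
  have r0 : Reach φ [] 0 14080 := reach_top B_hP B_hC φ hφ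
  have r1 : Reach φ [0] 1 3159 := by
    have h := Fi22B.T1.reach B_hC φ hφ [0] Fi22B.T1_fix Fi22B.T1_pc0 Fi22B.chkT1_all
    rw [Fi22B.T1_tot] at h
    exact h
  have r2 : Reach φ [1, 0] 2 288 := by
    have h := Fi22B.T2.reach B_hC φ hφ [1, 0] Fi22B.T2_fix Fi22B.T2_pc0 Fi22B.chkT2_all
    rw [Fi22B.T2_tot] at h
    exact h
  have r3 : Reach φ [2, 1, 0] 10677 2520 := by
    have h := Fi22B.T3.reach B_hC φ hφ [2, 1, 0] Fi22B.T3_fix Fi22B.T3_pc0 Fi22B.chkT3_all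
    rw [Fi22B.T3_tot] at h
    exact h
  have r4 : Reach φ [10677, 2, 1, 0] 3 2 := by
    have h := Fi22B.T4.reach B_hC φ hφ [10677, 2, 1, 0] Fi22B.T4_fix Fi22B.T4_pc0 Fi22B.chkT4_all
    rw [Fi22B.T4_tot] at h
    exact h
  have hch : Chain φ [] [(0, 14080), (1, 3159), (2, 288), (10677, 2520), (3, 2)] :=
    ⟨r0, r1, r2, r3, r4, trivial⟩
  have hub : Nat.card (PresentedGroup rels) ≤ ([(0, 14080), (1, 3159), (2, 288), (10677, 2520), (3, 2)].map Prod.snd).prod :=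
    fin0.2.trans (by decide)
  have h := order_base φ _ hch hub
  exact ⟨φ, hφ, h.1.trans (by decide), h.2⟩

/-! ### Word identities -/

/-- the word `u` with `z = u s0 u⁻¹` -/
def uw : List ℕ := []

/-- the word of the involution `z` -/
def zw : List ℕ := uw ++ 0 :: uw.reverse

theorem cw_1 : Fi22B.cert.wordL 64 = [0, 1] ++ 0 :: (([0, 1] : List ℕ).reverse ++ [1]) := by decide +kernel

theorem cw_2 : Fi22B.cert.wordL 65 = [1, 2, 0, 1] ++ 0 :: (([1, 2, 0, 1] : List ℕ).reverse ++ [2]) := by decide +kernel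

theorem cw_3 : Fi22B.cert.wordL 66 = [2, 3, 1, 2, 0, 1] ++ 0 :: (([2, 3, 1, 2, 0, 1] : List ℕ).reverse ++ [3]) := by decide +kernel

theorem cw_4 : Fi22B.cert.wordL 67 = [3, 4, 2, 3, 1, 2, 0, 1] ++ 0 :: (([3, 4, 2, 3, 1, 2, 0, 1] : List ℕ).reverse ++ [4]) := by decide +kernel

theorem cw_5 : Fi22B.cert.wordL 68 = [4, 5, 3, 4, 2, 3, 1, 2, 0, 1] ++ 0 :: (([4, 5, 3, 4, 2, 3, 1, 2, 0, 1] : List ℕ).reverse ++ [5]) := by decide +kernel

theorem cw_6 : Fi22B.cert.wordL 69 = [5, 6, 4, 5, 3, 4, 2, 3, 1, 2, 0, 1] ++ 0 :: (([5, 6, 4, 5, 3, 4, 2, 3, 1, 2, 0, 1] : List ℕ).reverse ++ [6]) := by decide +kernel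

theorem cw_7 : Fi22B.cert.wordL 70 = [3, 7, 2, 3, 1, 2, 0, 1] ++ 0 :: (([3, 7, 2, 3, 1, 2, 0, 1] : List ℕ).reverse ++ [7]) := by decide +kernel

theorem cw_8 : Fi22B.cert.wordL 71 = [7, 8, 3, 7, 2, 3, 1, 2, 0, 1] ++ 0 :: (([7, 8, 3, 7, 2, 3, 1, 2, 0, 1] : List ℕ).reverse ++ [8]) := by decide +kernel

theorem zc_48 : Fi22B.cert.wordL 72 = Fi22x3510.cert.wordL 48 ++ (zw ++ ((Fi22x3510.cert.wordL 48).reverse ++ zw)) := by decide +kernel

theorem zc_49 : Fi22B.cert.wordL 73 = Fi22x3510.cert.wordL 49 ++ (zw ++ ((Fi22x3510.cert.wordL 49).reverse ++ zw)) := by decide +kernel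

theorem zc_50 : Fi22B.cert.wordL 74 = Fi22x3510.cert.wordL 50 ++ (zw ++ ((Fi22x3510.cert.wordL 50).reverse ++ zw)) := by decide +kernel

theorem zc_51 : Fi22B.cert.wordL 75 = Fi22x3510.cert.wordL 51 ++ (zw ++ ((Fi22x3510.cert.wordL 51).reverse ++ zw)) := by decide +kernel

theorem zc_52 : Fi22B.cert.wordL 76 = Fi22x3510.cert.wordL 52 ++ (zw ++ ((Fi22x3510.cert.wordL 52).reverse ++ zw)) := by decide +kernel

theorem zc_53 : Fi22B.cert.wordL 77 = Fi22x3510.cert.wordL 53 ++ (zw ++ ((Fi22x3510.cert.wordL 53).reverse ++ zw)) := by decide +kernel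

theorem zc_54 : Fi22B.cert.wordL 78 = Fi22x3510.cert.wordL 54 ++ (zw ++ ((Fi22x3510.cert.wordL 54).reverse ++ zw)) := by decide +kernel

theorem zc_55 : Fi22B.cert.wordL 79 = Fi22x3510.cert.wordL 55 ++ (zw ++ ((Fi22x3510.cert.wordL 55).reverse ++ zw)) := by decide +kernel

theorem zc_56 : Fi22B.cert.wordL 80 = Fi22x3510.cert.wordL 56 ++ (zw ++ ((Fi22x3510.cert.wordL 56).reverse ++ zw)) := by decide +kernel

theorem zc_all : ∀ wid, Fi22x3510.cert.nsub ≤ wid → wid < Fi22x3510.cert.nw →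
    Fi22B.cert.wordL (24 + wid) = Fi22x3510.cert.wordL wid ++ (zw ++ ((Fi22x3510.cert.wordL wid).reverse ++ zw)) := by
  intro wid h1 h2
  have h1' : 48 ≤ wid := h1
  have h2' : wid < 57 := h2
  interval_cases wid
  · exact zc_48
  · exact zc_49
  · exact zc_50
  · exact zc_51
  · exact zc_52
  · exact zc_53
  · exact zc_54
  · exact zc_55
  · exact zc_56

/-- a relator of odd length -/
def oddw : List ℕ := [0, 1, 2, 3, 4, 5, 7, 0, 1, 2, 3, 4, 5, 7, 0, 1, 2, 3, 4, 5, 7, 0, 1, 2, 3, 4, 5, 7, 0, 1, 2, 3, 4, 5, 7, 0, 1, 2, 3, 4, 5, 7, 0, 1, 2, 3, 4, 5, 7, 0, 1, 2, 3, 4, 5, 7, 0, 1, 2, 3, 4, 5, 7]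

/-! ### The maximal subgroup and simplicity -/

theorem M_cnt0 : Fi22x3510.cert.cnt 0 = 1 := by decide +kernel

theorem M_comp0 : Fi22x3510.cert.comp 0 = 0 := by decide +kernel

theorem M_max : ∀ M : Subgroup (PresentedGroup rels), ((Subgroup.closure Cfsg.Agent.S1687.S).map (PresentedGroup.mk rels)) ≤ M → M = ((Subgroup.closure Cfsg.Agent.S1687.S).map (PresentedGroup.mk rels)) ∨ M = ⊤ :=
  Cert.maximal_of_rank3 Cfsg.Agent.S1687.hP Cfsg.Agent.S1687.hC Cfsg.Agent.S1687.hO (by decide) M_comp0 M_cnt0 (Cert.cnt_sum3 Cfsg.Agent.S1687.hO (by decide))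
    (by rw [Cfsg.Agent.S1687.cnt_1]; decide) (by rw [Cfsg.Agent.S1687.cnt_2]; decide)


/-- The presented Fischer group Fi22 is simple of the expected order (that is, it is a simple group of the order of the Fischer group Fi₂₂). -/
theorem result : Cfsg.IsFi22 Cfsg.Spor.Fi22 := by
  show IsSimpleGroup (PresentedGroup rels) ∧ Nat.card (PresentedGroup rels) = 64561751654400
  obtain ⟨φ, hφ, hcard, hbase⟩ := order_and_base
  have : Finite (PresentedGroup rels) := fin0.1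
  have : Nontrivial (PresentedGroup rels) :=
    Finite.one_lt_card_iff_nontrivial.mp (by rw [hcard]; norm_num)
  have hγ : ∀ s, γ s * γ s = 1 := B_hP.hγ
  have hid := words_one_of_base B_hC φ hφ [0, 1, 2, 10677, 3] hbase 64 17 (by decide +kernel)
  have hconj : ∀ s < 9, ∃ x : PresentedGroup rels, γ s = x * γ 0 * x⁻¹ := by
    intro s hs
    interval_cases s
    · exact ⟨1, by rw [one_mul, inv_one, mul_one]⟩
    · exact ⟨_, conj_of_word hγ [0, 1] 0 1 (by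
        have h := hid 64 (by decide) (by decide)
        rw [cw_1] at h
        exact h)⟩
    · exact ⟨_, conj_of_word hγ [1, 2, 0, 1] 0 2 (by
        have h := hid 65 (by decide) (by decide)
        rw [cw_2] at h
        exact h)⟩
    · exact ⟨_, conj_of_word hγ [2, 3, 1, 2, 0, 1] 0 3 (by
        have h := hid 66 (by decide) (by decide)
        rw [cw_3] at h
        exact h)⟩
    · exact ⟨_, conj_of_word hγ [3, 4, 2, 3, 1, 2, 0, 1] 0 4 (by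
        have h := hid 67 (by decide) (by decide)
        rw [cw_4] at h
        exact h)⟩
    · exact ⟨_, conj_of_word hγ [4, 5, 3, 4, 2, 3, 1, 2, 0, 1] 0 5 (by
        have h := hid 68 (by decide) (by decide)
        rw [cw_5] at h
        exact h)⟩
    · exact ⟨_, conj_of_word hγ [5, 6, 4, 5, 3, 4, 2, 3, 1, 2, 0, 1] 0 6 (by
        have h := hid 69 (by decide) (by decide)
        rw [cw_6] at h
        exact h)⟩
    · exact ⟨_, conj_of_word hγ [3, 7, 2, 3, 1, 2, 0, 1] 0 7 (by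
        have h := hid 70 (by decide) (by decide)
        rw [cw_7] at h
        exact h)⟩
    · exact ⟨_, conj_of_word hγ [7, 8, 3, 7, 2, 3, 1, 2, 0, 1] 0 8 (by
        have h := hid 71 (by decide) (by decide)
        rw [cw_8] at h
        exact h)⟩
  have hcen : ∀ c : PresentedGroup rels, (∀ x, c * x = x * c) → c = 1 := fun c hc =>
    central_eq_one B_hP B_hC φ hφ [1, 2, 3, 4, 5, 6, 7, 8] (by decide +kernel) (allB_iff.mpr Fi22B.cenF_all)
      [0, 1, 2, 10677, 3] hbase (by decide) c hc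
  have hcz : ∀ h ∈ Fi22x3510.cert.subgp γ, h * (zw.map γ).prod = (zw.map γ).prod * h :=
    centralizes hγ Fi22x3510.cert zw (by decide) 24 zc_all (fun wid h1 h2 => by
      have h1' : 48 ≤ wid := h1
      have h2' : wid < 57 := h2
      exact hid (24 + wid) (by omega) (by omega))
  have hHz : ∀ h ∈ ((Subgroup.closure Cfsg.Agent.S1687.S).map (PresentedGroup.mk rels)), h * (zw.map γ).prod = (zw.map γ).prod * h := by
    intro h hh
    have e := Cfsg.Agent.S1687.hP.hH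
    rw [e] at hh
    exact hcz h hh
  have hsimple : IsSimpleGroup (PresentedGroup rels) :=
    simple_of_transp_word γ 9 hγ B_hP.hgen uw 0 hconj ((Subgroup.closure Cfsg.Agent.S1687.S).map (PresentedGroup.mk rels)) hHz M_max hcen oddw (by decide) (by decide)
      (of_words oddw (by decide))
  exact ⟨hsimple, hcard⟩

end Cfsg.Agent.S1696
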