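import Cfsg.Statements.S0061
import Mathlib

set_option autoImplicit false
open Cfsg

namespace Cfsg.Agent.S0061

universe u

section Main

variable {G : Type u} [Group G] [Finite G]

/-- In a group whose Sylow `p`-subgroup is nontrivial of prime index `q ≠ p`, there is a
nontrivial proper normal subgroup. -/
lemma exists_normal (p q : ℕ) [hp : Fact p.Prime] [hq : Fact q.Prime] (hpq : p ≠ q)
    (P : Sylow p G) (hP : (P : Subgroup G) ≠ ⊥) (hidx : (P : Subgroup G).index = q) :
    ∃ N : Subgroup G, N.Normal ∧ N ≠ ⊥ ∧ N ≠ ⊤ := by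
  classical
  by_cases hn : (P : Subgroup G).Normal
  · refine ⟨P, hn, hP, ?_⟩
    intro h
    rw [h, Subgroup.index_top] at hidx
    exact hq.out.ne_one hidx.symm
  have hcardG : Nat.card G = Nat.card (P : Subgroup G) * q := by
    rw [← hidx, Subgroup.card_mul_index]
  have hcardS : ∀ P' : Sylow p G, Nat.card (P' : Subgroup G) = Nat.card (P : Subgroup G) :=
    fun P' => Nat.card_congr (Sylow.equiv P' P).toEquiv
  have hPpos : 0 < Nat.card (P : Subgroup G) := Nat.card_pos
  obtain ⟨a, ha⟩ := IsPGroup.iff_card.1 P.2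
  have hcop : Nat.Coprime (Nat.card (P : Subgroup G)) q := by
    rw [ha]; exact Nat.Coprime.pow_left _ ((Nat.coprime_primes hp.out hq.out).2 hpq)
  have hPne : ∀ P' : Sylow p G, (P' : Subgroup G) ≠ ⊤ := by
    intro P' h
    have := hcardS P'
    rw [h, Subgroup.card_top, hcardG] at this
    have hq2 := hq.out.two_le
    nlinarith
  have hex : ∃ P₁ P₂ : Sylow p G, P₁ ≠ P₂ := by
    by_contra h
    have h' : ∀ R R' : Sylow p G, R = R' := fun R R' => by_contra (fun hab => h ⟨R, R', hab⟩)
    haveI : Subsingleton (Sylow p G) := ⟨h'⟩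
    exact hn (Sylow.normal_of_subsingleton P)
  obtain ⟨Q₁, Q₂, hQ⟩ := hex
  haveI : Nonempty {pp : Sylow p G × Sylow p G // pp.1 ≠ pp.2} := ⟨⟨(Q₁, Q₂), hQ⟩⟩
  obtain ⟨⟨⟨P₁, P₂⟩, hne⟩, hmax⟩ := Finite.exists_max
    (fun pp : {pp : Sylow p G × Sylow p G // pp.1 ≠ pp.2} =>
      Nat.card ↥((pp.1.1 : Subgroup G) ⊓ (pp.1.2 : Subgroup G)))
  simp only at hne
  have hmax' : ∀ R R' : Sylow p G, R ≠ R' →
      Nat.card ↥((R : Subgroup G) ⊓ (R' : Subgroup G)) ≤
        Nat.card ↥((P₁ : Subgroup G) ⊓ (P₂ : Subgroup G)) := fun R R' h => hmax ⟨(R, R'), h⟩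
  by_cases hD : (P₁ : Subgroup G) ⊓ (P₂ : Subgroup G) = ⊥
  · -- all Sylow `p`-subgroups intersect trivially: count elements
    have hTI : ∀ R R' : Sylow p G, R ≠ R' → (R : Subgroup G) ⊓ (R' : Subgroup G) = ⊥ := by
      intro R R' h
      apply Subgroup.eq_bot_of_card_le
      have := hmax' R R' h
      rw [hD, Subgroup.card_bot] at this
      exact this
    -- number of Sylow `p`-subgroups is `q`
    have hnp : Nat.card (Sylow p G) = q := by
      rw [Sylow.card_eq_index_normalizer P]
      have hdvd : (Subgroup.normalizer ((P : Subgroup G) : Set G)).index ∣ q := by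
        rw [← hidx]; exact Subgroup.index_dvd_of_le Subgroup.le_normalizer
      rcases (Nat.dvd_prime hq.out).1 hdvd with h1 | h1
      · exfalso
        apply hn
        rw [← Subgroup.normalizer_eq_top_iff]
        exact Subgroup.index_eq_one.1 h1
      · exact h1
    -- the set of nonidentity `p`-elements
    let I : Set G := {g | g ≠ 1 ∧ ∃ R : Sylow p G, g ∈ (R : Subgroup G)}
    have hIcard : Nat.card G ≤ I.ncard + q := by
      let f : (Σ R : Sylow p G, {g : G // g ∈ (R : Subgroup G) ∧ g ≠ 1}) → I :=
        fun x => ⟨x.2.1, x.2.2.2, x.1, x.2.2.1⟩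
      have hf : Function.Injective f := by
        rintro ⟨R, g, hg, hg1⟩ ⟨R', g', hg', hg1'⟩ h
        have hgg : g = g' := congrArg Subtype.val h
        subst hgg
        have hRR : R = R' := by
          by_contra hRR
          have : g ∈ (R : Subgroup G) ⊓ (R' : Subgroup G) := ⟨hg, hg'⟩
          rw [hTI R R' hRR, Subgroup.mem_bot] at this
          exact hg1 this
        subst hRR
        rfl
      have h1 := Nat.card_le_card_of_injective f hf
      have h2 : Nat.card (Σ R : Sylow p G, {g : G // g ∈ (R : Subgroup G) ∧ g ≠ 1}) =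
          q * (Nat.card (P : Subgroup G) - 1) := by
        haveI : Fintype (Sylow p G) := Fintype.ofFinite _
        rw [Nat.card_sigma]
        have : ∀ R : Sylow p G, Nat.card {g : G // g ∈ (R : Subgroup G) ∧ g ≠ 1} =
            Nat.card (P : Subgroup G) - 1 := by
          intro R
          have e : {g : G // g ∈ (R : Subgroup G) ∧ g ≠ 1} = ↥(((R : Subgroup G) : Set G) \ {1}) := rfl
          rw [e, Nat.card_coe_set_eq, Set.ncard_sdiff_singleton_of_mem (Subgroup.one_mem _),
            ← Nat.card_coe_set_eq]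
          exact congrArg (· - 1) (hcardS R)
        simp only [this, Finset.sum_const, Finset.card_univ, smul_eq_mul]
        rw [← Nat.card_eq_fintype_card, hnp]
      rw [h2, Nat.card_coe_set_eq] at h1
      rw [hcardG]
      have : Nat.card (P : Subgroup G) * q = q * (Nat.card (P : Subgroup G) - 1) + q := by
        obtain ⟨c, hc⟩ : ∃ c, Nat.card (P : Subgroup G) = c + 1 := ⟨_, (Nat.succ_pred_eq_of_pos hPpos).symm⟩
        rw [hc]; simp; ring
      omega
    -- any Sylow `q`-subgroup is the complement of `I`
    have hQcard : ∀ Q : Sylow q G, Nat.card (Q : Subgroup G) = q := by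
      intro Q
      rw [Sylow.card_eq_multiplicity, hcardG, ha]
      have : (p ^ a * q).factorization q = 1 := by
        rw [Nat.factorization_mul (pow_ne_zero _ hp.out.ne_zero) hq.out.ne_zero,
          Nat.factorization_pow]
        simp [hp.out.factorization, hq.out.factorization, hpq]
      rw [this, pow_one]
    have hQI : ∀ Q : Sylow q G, ((Q : Subgroup G) : Set G) = Iᶜ := by
      intro Q
      apply Set.eq_of_subset_of_ncard_le
      · intro g hg hgI
        obtain ⟨hg1, R, hgR⟩ := hgI
        have h1 : orderOf g ∣ q := by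
          rw [← hQcard Q]; exact Subgroup.orderOf_dvd_natCard _ hg
        have h2 : orderOf g ∣ Nat.card (P : Subgroup G) := by
          rw [← hcardS R]; exact Subgroup.orderOf_dvd_natCard _ hgR
        have h3 : orderOf g = 1 := Nat.eq_one_of_dvd_coprimes hcop h2 h1
        exact hg1 (orderOf_eq_one_iff.1 h3)
      · rw [Set.ncard_compl]
        have h4 : ((Q : Subgroup G) : Set G).ncard = q := by
          rw [← Nat.card_coe_set_eq]; exact hQcard Q
        rw [h4]
        omega
      · exact Set.toFinite _
    let Q : Sylow q G := default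
    haveI : Subsingleton (Sylow q G) :=
      ⟨fun Q₁ Q₂ => Sylow.ext (SetLike.coe_injective ((hQI Q₁).trans (hQI Q₂).symm))⟩
    refine ⟨Q, Sylow.normal_of_subsingleton Q, ?_, ?_⟩
    · rw [← Subgroup.one_lt_card_iff_ne_bot, hQcard]
      exact hq.out.one_lt
    · intro h
      have := hQcard Q
      rw [h, Subgroup.card_top, hcardG] at this
      have h5 : 1 < Nat.card (P : Subgroup G) := (Subgroup.one_lt_card_iff_ne_bot _).2 hP
      have hq2 := hq.out.two_le
      nlinarith
  · -- the intersection `D` is nontrivial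
    set D : Subgroup G := (P₁ : Subgroup G) ⊓ (P₂ : Subgroup G) with hDdef
    have hD1 : D < (P₁ : Subgroup G) := by
      refine lt_of_le_of_ne inf_le_left ?_
      intro h
      have h12 : (P₁ : Subgroup G) ≤ P₂ := by rw [← h]; exact inf_le_right
      exact hne (Sylow.ext (Subgroup.eq_of_le_of_card_ge h12 (by rw [hcardS P₁, hcardS P₂])))
    have hD2 : D < (P₂ : Subgroup G) := by
      refine lt_of_le_of_ne inf_le_right ?_
      intro h
      have h21 : (P₂ : Subgroup G) ≤ P₁ := by rw [← h]; exact inf_le_left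
      exact hne (Sylow.ext (Subgroup.eq_of_le_of_card_ge h21 (by rw [hcardS P₁, hcardS P₂]))).symm
    have grow : ∀ R : Sylow p G, D < (R : Subgroup G) →
        ∃ x : G, x ∈ (R : Subgroup G) ∧ x ∈ Subgroup.normalizer (D : Set G) ∧ x ∉ D := by
      intro R hR
      haveI : Group.IsNilpotent ↥(R : Subgroup G) := R.2.isNilpotent
      have hnc := Group.normalizerCondition_of_isNilpotent (G := ↥(R : Subgroup G))
      have hlt : D.subgroupOf R < ⊤ := by
        rw [lt_top_iff_ne_top, Ne, Subgroup.subgroupOf_eq_top]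
        exact not_le_of_gt hR
      have h2 := hnc _ hlt
      obtain ⟨x, hx, hxD⟩ := SetLike.exists_of_lt h2
      rw [← Subgroup.subgroupOf_normalizer_eq hR.le] at hx
      exact ⟨x, x.2, Subgroup.mem_subgroupOf.1 hx, fun h => hxD (Subgroup.mem_subgroupOf.2 h)⟩
    have hNp : ¬ IsPGroup p ↥(Subgroup.normalizer (D : Set G)) := by
      intro hN
      obtain ⟨P₃, hP₃⟩ := hN.exists_le_sylow
      have key : ∀ R : Sylow p G, D < (R : Subgroup G) → R = P₃ := by
        intro R hR
        by_contra hRP
        obtain ⟨x, hxR, hxN, hxD⟩ := grow R hR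
        have hle : D ≤ (R : Subgroup G) ⊓ P₃ := le_inf hR.le (Subgroup.le_normalizer.trans hP₃)
        have hx : x ∈ (R : Subgroup G) ⊓ P₃ := ⟨hxR, hP₃ hxN⟩
        have := Subgroup.eq_of_le_of_card_ge hle (hmax' R P₃ hRP)
        rw [← this] at hx
        exact hxD hx
      exact hne ((key P₁ hD1).trans (key P₂ hD2).symm)
    -- so `q` divides the order of the normalizer
    have hqN : q ∣ Nat.card ↥(Subgroup.normalizer (D : Set G)) := by
      by_contra hq'
      apply hNp
      have hdvd : Nat.card ↥(Subgroup.normalizer (D : Set G)) ∣ p ^ a * q := by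
        rw [← ha, ← hcardG]; exact Subgroup.card_subgroup_dvd_card _
      have hc : Nat.Coprime (Nat.card ↥(Subgroup.normalizer (D : Set G))) q :=
        (Nat.Coprime.symm ((Nat.Prime.coprime_iff_not_dvd hq.out).2 hq'))
      obtain ⟨b, -, hb⟩ := (Nat.dvd_prime_pow hp.out).1 (hc.dvd_of_dvd_mul_right hdvd)
      exact IsPGroup.of_card hb
    obtain ⟨y, hy⟩ := exists_prime_orderOf_dvd_card' q hqN
    have hy' : orderOf (y : G) = q := by rw [Subgroup.orderOf_coe, hy]
    have hZN : Subgroup.zpowers (y : G) ≤ Subgroup.normalizer (D : Set G) := by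
      rw [Subgroup.zpowers_le]; exact y.2
    have hcompl : Subgroup.IsComplement' (P₁ : Subgroup G) (Subgroup.zpowers (y : G)) := by
      apply Subgroup.isComplement'_of_coprime
      · rw [Nat.card_zpowers, hy', hcardS, hcardG]
      · rw [Nat.card_zpowers, hy', hcardS]; exact hcop
    have hNC : Subgroup.normalClosure (D : Set G) ≤ (P₁ : Subgroup G) := by
      rw [Subgroup.normalClosure, Subgroup.closure_le]
      intro c hc
      obtain ⟨d, hd, hdc⟩ := Group.mem_conjugatesOfSet_iff.1 hc
      obtain ⟨g, rfl⟩ := isConj_iff.1 hdc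
      obtain ⟨⟨x, z⟩, hxz⟩ := hcompl.2 g
      simp only at hxz
      subst hxz
      have hz : (z : G) * d * (z : G)⁻¹ ∈ D := (Subgroup.mem_normalizer_iff.1 (hZN z.2) d).1 hd
      have : (x : G) * (z : G) * d * ((x : G) * (z : G))⁻¹ =
          (x : G) * ((z : G) * d * (z : G)⁻¹) * (x : G)⁻¹ := by group
      rw [this]
      exact (P₁ : Subgroup G).mul_mem ((P₁ : Subgroup G).mul_mem x.2 (hD1.le hz))
        ((P₁ : Subgroup G).inv_mem x.2)
    refine ⟨Subgroup.normalClosure (D : Set G), inferInstance, ?_, ?_⟩
    · intro h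
      apply hD
      rw [eq_bot_iff, ← h]
      exact Subgroup.le_normalClosure
    · intro h
      rw [h, top_le_iff] at hNC
      exact hPne P₁ hNC

end Main

theorem aux : ∀ (n : ℕ) (G : Type u) [Group G] [Finite G], Nat.card G = n →
    (∃ p q m : ℕ, p.Prime ∧ q.Prime ∧ Nat.card G ∣ p ^ m * q) → Group.IsSolvable G := by
  intro n
  induction n using Nat.strong_induction_on with
  | _ n ih =>
    intro G _ _ hn hshape
    obtain ⟨p, q, m, hp, hq, hdvd⟩ := hshape
    by_cases hN : ∃ N : Subgroup G, N.Normal ∧ N ≠ ⊥ ∧ N ≠ ⊤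
    · obtain ⟨N, hNn, hNb, hNt⟩ := hN
      haveI := hNn
      have hN1 : 1 < Nat.card N := (Subgroup.one_lt_card_iff_ne_bot _).2 hNb
      have hmul := Subgroup.card_mul_index N
      have hidxpos : 0 < N.index := Nat.pos_of_ne_zero (Subgroup.index_ne_zero_of_finite)
      have h1 : Nat.card N < n := by
        rw [← hn]
        exact lt_of_le_of_ne (Subgroup.card_le_card_group N)
          (fun h => hNt (Subgroup.eq_top_of_card_eq N h))
      have h2 : Nat.card (G ⧸ N) < n := by
        rw [← hn, ← Subgroup.index_eq_card, ← hmul]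
        nlinarith
      haveI : Group.IsSolvable N :=
        ih _ h1 N rfl ⟨p, q, m, hp, hq, (Subgroup.card_subgroup_dvd_card N).trans hdvd⟩
      haveI : Group.IsSolvable (G ⧸ N) :=
        ih _ h2 (G ⧸ N) rfl ⟨p, q, m, hp, hq, (Subgroup.card_quotient_dvd_card N).trans hdvd⟩
      exact Group.isSolvable_of_ker_le_range N.subtype (QuotientGroup.mk' N) (by simp)
    · haveI : Fact p.Prime := ⟨hp⟩
      haveI : Fact q.Prime := ⟨hq⟩
      let P : Sylow p G := default
      by_cases hPt : (P : Subgroup G) = ⊤
      · have hpg : IsPGroup p G := by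
          have h := P.2
          rw [hPt] at h
          exact IsPGroup.of_equiv h Subgroup.topEquiv
        haveI := hpg.isNilpotent
        infer_instance
      by_cases hPb : (P : Subgroup G) = ⊥
      · have hnd : ¬ p ∣ Nat.card G := fun h => P.ne_bot_of_dvd_card h hPb
        have hc : Nat.Coprime (Nat.card G) (p ^ m) :=
          Nat.Coprime.pow_right _ (Nat.Coprime.symm ((Nat.Prime.coprime_iff_not_dvd hp).2 hnd))
        have hq' : Nat.card G ∣ q := hc.dvd_of_dvd_mul_left hdvd
        have hqg : IsPGroup q G := by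
          rcases (Nat.dvd_prime hq).1 hq' with h | h
          · exact IsPGroup.of_card (n := 0) (by rw [h, pow_zero])
          · exact IsPGroup.of_card (n := 1) (by rw [h, pow_one])
        haveI := hqg.isNilpotent
        infer_instance
      · exfalso
        have hnd : ¬ p ∣ (P : Subgroup G).index := P.not_dvd_index
        have hmul := Subgroup.card_mul_index (P : Subgroup G)
        have hdvd' : (P : Subgroup G).index ∣ p ^ m * q :=
          (Dvd.intro_left _ hmul).trans hdvd
        have hc : Nat.Coprime ((P : Subgroup G).index) (p ^ m) :=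
          Nat.Coprime.pow_right _ (Nat.Coprime.symm ((Nat.Prime.coprime_iff_not_dvd hp).2 hnd))
        have hq' : (P : Subgroup G).index ∣ q := hc.dvd_of_dvd_mul_left hdvd'
        have hidx : (P : Subgroup G).index = q := by
          rcases (Nat.dvd_prime hq).1 hq' with h | h
          · exact absurd (Subgroup.index_eq_one.1 h) hPt
          · exact h
        have hpq : p ≠ q := by
          rintro rfl
          exact hnd (by rw [hidx])
        exact hN (exists_normal p q hpq P hPb hidx)

/-- A finite group whose order is a prime power times a prime is solvable. -/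
theorem result {G : Type*} [Group G] [Finite G] (p q m : ℕ) (hp : p.Prime) (hq : q.Prime)
    (hG : Nat.card G = p ^ m * q) : Group.IsSolvable G := by
  exact aux _ G rfl ⟨p, q, m, hp, hq, by rw [hG]⟩

end Cfsg.Agent.S0061
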