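import Cfsg.Statements.S0081
import Cfsg.Agent.Lib.Helper2.Tate

set_option autoImplicit false
open Cfsg

namespace Cfsg.Agent.S0081

open Cfsg.Agent.Lib.Helper2

/-- If a normal subgroup meets a Sylow p-subgroup P inside the Frattini subgroup of P, then it has a normal p-complement. -/
theorem result {G : Type*} [Group G] [Finite G] {p : ℕ} [Fact p.Prime] (P : Sylow p G) (N : Subgroup G) [N.Normal] (h : N ⊓ (P : Subgroup G) ≤ (frattini P).map (P : Subgroup G).subtype) : Cfsg.HasNormalPComplement p N := by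
  have hPG₀ : (P : Subgroup G) ≤ N ⊔ (P : Subgroup G) := le_sup_right
  have hNG₀ : N ≤ N ⊔ (P : Subgroup G) := le_sup_left
  let P₀ : Sylow p (N ⊔ (P : Subgroup G) : Subgroup G) := P.subtype hPG₀
  -- elements of `O^p(NP)` lie in `N`
  have hresN : Cfsg.pResidual p (N ⊔ (P : Subgroup G) : Subgroup G) ≤
      N.subgroupOf (N ⊔ (P : Subgroup G)) := by
    unfold Cfsg.pResidual
    rw [Subgroup.closure_le]
    intro y hy
    show (y : G) ∈ N
    have hy' : (y : G) ∈ N ⊔ (P : Subgroup G) := y.2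
    rw [← SetLike.mem_coe, Subgroup.normal_mul] at hy'
    obtain ⟨n, hn, x, hx, hnx⟩ := hy'
    obtain ⟨k, hk⟩ := P.isPGroup' ⟨x, hx⟩
    have hk' : x ^ p ^ k = 1 := by simpa using congrArg Subtype.val hk
    have h1 : ((y : G) : G ⧸ N) = (x : G ⧸ N) := by
      rw [← hnx]
      apply QuotientGroup.eq.2
      have : (n * x)⁻¹ * x = x⁻¹ * n⁻¹ * x := by group
      rw [this]
      have := (inferInstance : N.Normal).conj_mem n⁻¹ (N.inv_mem hn) x⁻¹
      simpa using this
    have h2 : orderOf ((y : G) : G ⧸ N) ∣ p ^ k := by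
      apply orderOf_dvd_of_pow_eq_one
      rw [h1, ← QuotientGroup.mk_pow, hk', QuotientGroup.mk_one]
    have h3 : orderOf ((y : G) : G ⧸ N) ∣ orderOf y := by
      rw [← Subgroup.orderOf_coe]
      exact orderOf_map_dvd (QuotientGroup.mk' N) (y : G)
    have h4 : orderOf ((y : G) : G ⧸ N) = 1 :=
      Nat.Coprime.eq_one_of_dvd (Nat.Coprime.pow_right k (Nat.Coprime.coprime_dvd_left h3 hy)) h2
    exact (QuotientGroup.eq_one_iff _).1 (orderOf_eq_one_iff.mp h4)
  have claim : ∀ x : ((P : Subgroup G).subgroupOf (N ⊔ (P : Subgroup G))),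
      (x : (N ⊔ (P : Subgroup G) : Subgroup G)) ∈
        Cfsg.pResidual p (N ⊔ (P : Subgroup G) : Subgroup G) →
      x ∈ frattini ((P : Subgroup G).subgroupOf (N ⊔ (P : Subgroup G))) := by
    intro x hx
    have hxN : ((x : (N ⊔ (P : Subgroup G) : Subgroup G)) : G) ∈ N := hresN hx
    have hxP : ((x : (N ⊔ (P : Subgroup G) : Subgroup G)) : G) ∈ (P : Subgroup G) := x.2
    obtain ⟨y, hy, hyx⟩ := h ⟨hxN, hxP⟩
    have h1 := frattini_le_comap_frattini_of_surjective
      (φ := (Subgroup.subgroupOfEquivOfLe hPG₀).symm.toMonoidHom)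
      (Subgroup.subgroupOfEquivOfLe hPG₀).symm.surjective hy
    have h2 : (Subgroup.subgroupOfEquivOfLe hPG₀).symm y = x := by
      rw [MulEquiv.symm_apply_eq]
      apply Subtype.ext
      rw [Subgroup.subgroupOfEquivOfLe_apply_coe]
      exact hyx
    rw [← h2]
    exact h1
  have key : (P₀ : Subgroup (N ⊔ (P : Subgroup G) : Subgroup G)) ⊓
      Cfsg.pResidual p (N ⊔ (P : Subgroup G) : Subgroup G) = ⊥ := by
    apply tate_frattini P₀
    exact claim
  -- conclusion
  haveI : (Cfsg.pResidual p N).Normal := pResidual_normal p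
  obtain ⟨k, hk⟩ := index_pResidual (G := N) p
  refine ⟨default, Cfsg.pResidual p N, pResidual_normal p, ?_⟩
  apply isComplement'_of_normal_coprime_index_pow _ _ ?_ hk
  rw [Nat.coprime_comm, Nat.Prime.coprime_iff_not_dvd Fact.out]
  intro hdvd
  obtain ⟨c, hc⟩ := exists_prime_orderOf_dvd_card' p hdvd
  have hc'ord : orderOf (Subgroup.inclusion hNG₀ (c : N)) = p := by
    rw [orderOf_injective _ (Subgroup.inclusion_injective hNG₀), Subgroup.orderOf_coe]
    exact hc
  have hle : Cfsg.pResidual p N ≤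
      (Cfsg.pResidual p (N ⊔ (P : Subgroup G) : Subgroup G)).comap (Subgroup.inclusion hNG₀) := by
    unfold Cfsg.pResidual
    rw [Subgroup.closure_le]
    intro g hg
    apply Subgroup.subset_closure
    show Nat.Coprime (orderOf (Subgroup.inclusion hNG₀ g)) p
    rw [orderOf_injective _ (Subgroup.inclusion_injective hNG₀)]
    exact hg
  have hc'K : Subgroup.inclusion hNG₀ (c : N) ∈
      Cfsg.pResidual p (N ⊔ (P : Subgroup G) : Subgroup G) := hle c.2
  have hpg : IsPGroup p (Subgroup.zpowers (Subgroup.inclusion hNG₀ (c : N))) :=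
    IsPGroup.of_card (n := 1) (by rw [Nat.card_zpowers, hc'ord, pow_one])
  obtain ⟨Q₀, hQ₀⟩ := hpg.exists_le_sylow
  obtain ⟨a, ha⟩ := MulAction.exists_smul_eq (N ⊔ (P : Subgroup G) : Subgroup G) Q₀ P₀
  have h1 : a * Subgroup.inclusion hNG₀ (c : N) * a⁻¹ ∈
      (P₀ : Subgroup (N ⊔ (P : Subgroup G) : Subgroup G)) := by
    rw [← ha, mem_smul_sylow]
    have : a⁻¹ * (a * Subgroup.inclusion hNG₀ (c : N) * a⁻¹) * a =
        Subgroup.inclusion hNG₀ (c : N) := by group
    rw [this]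
    exact hQ₀ (Subgroup.mem_zpowers _)
  have h2 : a * Subgroup.inclusion hNG₀ (c : N) * a⁻¹ ∈
      Cfsg.pResidual p (N ⊔ (P : Subgroup G) : Subgroup G) :=
    (pResidual_normal p).conj_mem _ hc'K a
  have h3 : a * Subgroup.inclusion hNG₀ (c : N) * a⁻¹ ∈
      (P₀ : Subgroup (N ⊔ (P : Subgroup G) : Subgroup G)) ⊓
        Cfsg.pResidual p (N ⊔ (P : Subgroup G) : Subgroup G) := ⟨h1, h2⟩
  rw [key, Subgroup.mem_bot] at h3
  have h4 : Subgroup.inclusion hNG₀ (c : N) = 1 := by simpa using h3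
  rw [h4, orderOf_one] at hc'ord
  exact (Fact.out : p.Prime).one_lt.ne hc'ord

end Cfsg.Agent.S0081
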