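import Cfsg.Statements.S0095
import Mathlib

set_option autoImplicit false
open Cfsg

namespace Cfsg.Agent.S0095

open scoped commutatorElement

universe u

theorem hom_card_le {C : Type*} [Group C] (p : ℕ) [Fact p.Prime] (hC : Nat.card C = p) :
    ∀ (n : ℕ) (Y : Type u) [Group Y] [Finite Y], Nat.card Y = n → IsPGroup p Y →
      Nat.card (Y →* C) ≤ Nat.card Y := by
  have hpp : p.Prime := Fact.out
  have hCfin : Finite C := Nat.finite_of_card_ne_zero (hC ▸ hpp.ne_zero)
  intro n
  induction n using Nat.strong_induction_on with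
  | _ n ih =>
  intro Y _ _ hn hY
  have hfin : Finite (Y →* C) := DFunLike.finite _
  obtain ⟨k, hk⟩ := IsPGroup.iff_card.mp hY
  rcases Nat.eq_zero_or_pos k with rfl | hkpos
  · rw [pow_zero] at hk
    have hsub : Subsingleton Y := (Nat.card_eq_one_iff_unique.mp hk).1
    have hsub2 : Subsingleton (Y →* C) :=
      ⟨fun f g => by ext y; rw [Subsingleton.elim y 1, map_one, map_one]⟩
    rw [hk]
    exact Finite.card_le_one_iff_subsingleton.mpr hsub2
  · obtain ⟨M, hM⟩ := Sylow.exists_subgroup_card_pow_prime p (G := Y) (n := k - 1)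
      (by rw [hk]; exact pow_dvd_pow p (Nat.sub_le k 1))
    have hMlt : Nat.card M < Nat.card Y := by
      rw [hM, hk]; exact Nat.pow_lt_pow_right hpp.one_lt (by omega)
    have hMne : M ≠ ⊤ := fun h => by
      rw [h, Subgroup.card_top] at hMlt; exact lt_irrefl _ hMlt
    obtain ⟨y₀, hy₀⟩ : ∃ y₀, y₀ ∉ M := by
      by_contra hcon
      push Not at hcon
      exact hMne (eq_top_iff.mpr (fun y _ => hcon y))
    have hgen : M ⊔ Subgroup.zpowers y₀ = ⊤ := by
      obtain ⟨j, hj⟩ := IsPGroup.iff_card.mp (hY.to_subgroup (M ⊔ Subgroup.zpowers y₀))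
      have h1 : Nat.card M ≤ Nat.card (M ⊔ Subgroup.zpowers y₀ : Subgroup Y) :=
        Subgroup.card_le_of_le le_sup_left
      have h2 : Nat.card M ≠ Nat.card (M ⊔ Subgroup.zpowers y₀ : Subgroup Y) := by
        intro heq
        have h3 : M = M ⊔ Subgroup.zpowers y₀ :=
          Subgroup.eq_of_le_of_card_ge le_sup_left heq.ge
        apply hy₀
        rw [h3]
        exact Subgroup.mem_sup_right (Subgroup.mem_zpowers y₀)
      have h4 : p ^ (k - 1) < p ^ j := by
        rw [← hM, ← hj]; exact lt_of_le_of_ne h1 h2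
      have h5 : k - 1 < j := (Nat.pow_lt_pow_iff_right hpp.one_lt).mp h4
      apply Subgroup.eq_top_of_le_card
      rw [hj, hk]
      exact Nat.pow_le_pow_right hpp.pos (by omega)
    have hfinM : Finite (M →* C) := DFunLike.finite _
    have hinj : Function.Injective
        (fun f : Y →* C => ((f.comp M.subtype, f y₀) : (M →* C) × C)) := by
      intro f g hfg
      have h1 : f.comp M.subtype = g.comp M.subtype := congrArg Prod.fst hfg
      have h2 : f y₀ = g y₀ := congrArg Prod.snd hfg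
      have hle : M ⊔ Subgroup.zpowers y₀ ≤ MonoidHom.eqLocus f g := by
        apply sup_le
        · intro m hm
          exact DFunLike.congr_fun h1 ⟨m, hm⟩
        · rw [Subgroup.zpowers_le]
          exact h2
      ext y
      exact hle (hgen ▸ Subgroup.mem_top y)
    calc Nat.card (Y →* C) ≤ Nat.card ((M →* C) × C) := Nat.card_le_card_of_injective _ hinj
      _ = Nat.card (M →* C) * p := by rw [Nat.card_prod, hC]
      _ ≤ Nat.card M * p :=
          Nat.mul_le_mul_right p (ih (Nat.card M) (hn ▸ hMlt) M rfl (hY.to_subgroup M))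
      _ = Nat.card Y := by
          rw [hM, hk, ← pow_succ]
          congr 1
          omega

section pairing
open scoped IsMulCommutative
variable {P : Type u} [Group P]

theorem comm_mul_right (hcl : ∀ x y : P, ⁅x, y⁆ ∈ Subgroup.center P) (g a b : P) :
    ⁅g, a * b⁆ = ⁅g, a⁆ * ⁅g, b⁆ := by
  have hc2 : a⁻¹ * ⁅g, b⁆ = ⁅g, b⁆ * a⁻¹ := Subgroup.mem_center_iff.mp (hcl g b) a⁻¹
  calc ⁅g, a * b⁆ = g * a * g⁻¹ * (⁅g, b⁆ * a⁻¹) := by
        simp only [commutatorElement_def]; group
    _ = g * a * g⁻¹ * (a⁻¹ * ⁅g, b⁆) := by rw [hc2]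
    _ = ⁅g, a⁆ * ⁅g, b⁆ := by
        simp only [commutatorElement_def]; group

theorem comm_mul_left (hcl : ∀ x y : P, ⁅x, y⁆ ∈ Subgroup.center P) (a b e : P) :
    ⁅a * b, e⁆ = ⁅a, e⁆ * ⁅b, e⁆ := by
  have hc2 : a * ⁅b, e⁆ = ⁅b, e⁆ * a := Subgroup.mem_center_iff.mp (hcl b e) a
  have hc3 : ⁅a, e⁆ * ⁅b, e⁆ = ⁅b, e⁆ * ⁅a, e⁆ := Subgroup.mem_center_iff.mp (hcl b e) ⁅a, e⁆
  calc ⁅a * b, e⁆ = a * ⁅b, e⁆ * e * a⁻¹ * e⁻¹ := by
        simp only [commutatorElement_def]; group
    _ = ⁅b, e⁆ * a * e * a⁻¹ * e⁻¹ := by rw [hc2]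
    _ = ⁅b, e⁆ * ⁅a, e⁆ := by
        simp only [commutatorElement_def]; group
    _ = ⁅a, e⁆ * ⁅b, e⁆ := hc3.symm

theorem pairing_bound [Finite P] {p : ℕ} [Fact p.Prime] (hP : IsPGroup p P)
    (hcl : ∀ x y : P, ⁅x, y⁆ ∈ Subgroup.center P) (hZ : Nat.card (Subgroup.center P) = p)
    (X Y N : Subgroup P) [N.Normal] (hXN : ∀ x ∈ X, ∀ n ∈ N, x * n = n * x) :
    (Subgroup.centralizer (Y : Set P)).relIndex X ≤ N.relIndex Y := by
  let φ : P → (Y →* Subgroup.center P) := fun x =>
    { toFun := fun y => ⟨⁅x, (y : P)⁆, hcl x y⟩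
      map_one' := Subtype.ext (by simp)
      map_mul' := fun a b => Subtype.ext (comm_mul_right hcl x a b) }
  have hφN : ∀ x ∈ X, N.subgroupOf Y ≤ (φ x).ker := by
    intro x hx n hn
    rw [MonoidHom.mem_ker]
    apply Subtype.ext
    show ⁅x, ((n : Y) : P)⁆ = 1
    exact commutatorElement_eq_one_iff_commute.mpr (hXN x hx n (Subgroup.mem_subgroupOf.mp hn))
  let Ψ : X →* (Y ⧸ N.subgroupOf Y →* Subgroup.center P) :=
    { toFun := fun x => QuotientGroup.lift (N.subgroupOf Y) (φ x) (hφN x x.2)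
      map_one' := by
        ext y
        simp [φ]
      map_mul' := fun a b => by
        ext y
        exact comm_mul_left hcl a b y }
  have hker : Ψ.ker = (Subgroup.centralizer (Y : Set P)).subgroupOf X := by
    ext x
    rw [MonoidHom.mem_ker, Subgroup.mem_subgroupOf, Subgroup.mem_centralizer_iff]
    constructor
    · intro hx y hy
      have h1 : Ψ x (QuotientGroup.mk ⟨y, hy⟩) = 1 := by rw [hx]; rfl
      have h2 : ⁅(x : P), y⁆ = 1 := congrArg Subtype.val h1
      exact (commutatorElement_eq_one_iff_commute.mp h2).eq.symm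
    · intro hx
      ext y
      show ⁅(x : P), (y : P)⁆ = 1
      exact commutatorElement_eq_one_iff_commute.mpr (hx y y.2).symm
  have hfin : Finite (Y ⧸ N.subgroupOf Y →* Subgroup.center P) := DFunLike.finite _
  have h1 : (Subgroup.centralizer (Y : Set P)).relIndex X = Nat.card Ψ.range := by
    rw [← Subgroup.index_ker, hker]; rfl
  have h2 : Nat.card Ψ.range ≤ Nat.card (Y ⧸ N.subgroupOf Y →* Subgroup.center P) :=
    Subgroup.card_le_card_group _
  have h3 := hom_card_le (C := Subgroup.center P) p hZ _ (Y ⧸ N.subgroupOf Y) rfl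
    ((hP.to_subgroup Y).to_quotient _)
  have h4 : Nat.card (Y ⧸ N.subgroupOf Y) = N.relIndex Y := (Subgroup.index_eq_card _).symm
  omega

end pairing


theorem extraspecial_card {P : Type u} [Group P] [Finite P] {p : ℕ} [Fact p.Prime]
    (h : Cfsg.IsExtraspecial p P) : ∃ n : ℕ, 1 ≤ n ∧ Nat.card P = p ^ (2 * n + 1) := by
  obtain ⟨⟨hP, hfr, hcomm⟩, hZ⟩ := h
  have hpp : p.Prime := Fact.out
  have hcl : ∀ x y : P, ⁅x, y⁆ ∈ Subgroup.center P := fun x y =>
    hcomm ▸ Subgroup.commutator_mem_commutator (Subgroup.mem_top x) (Subgroup.mem_top y)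
  obtain ⟨A, hAc, hAmax⟩ : ∃ A : Subgroup P, IsMulCommutative A ∧
      ∀ B : Subgroup P, IsMulCommutative B → Nat.card B ≤ Nat.card A := by
    have hne : Nonempty {A : Subgroup P // IsMulCommutative A} :=
      ⟨⟨⊥, Subgroup.le_centralizer_iff_isMulCommutative.mp bot_le⟩⟩
    obtain ⟨⟨A, hA⟩, hmax⟩ :=
      Finite.exists_max (fun A : {A : Subgroup P // IsMulCommutative A} => Nat.card A.1)
    exact ⟨A, hA, fun B hB => hmax ⟨B, hB⟩⟩
  have hAcent : A ≤ Subgroup.centralizer (A : Set P) :=
    Subgroup.le_centralizer_iff_isMulCommutative.mpr hAc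
  have hCA : Subgroup.centralizer (A : Set P) = A := by
    apply le_antisymm _ hAcent
    intro x hx
    have hzx : Subgroup.zpowers x ≤ Subgroup.centralizer (A : Set P) :=
      (Subgroup.zpowers_le).mpr hx
    have hzz : Subgroup.zpowers x ≤ Subgroup.centralizer (Subgroup.zpowers x : Set P) :=
      Subgroup.le_centralizer_iff_isMulCommutative.mpr inferInstance
    have hcommB : IsMulCommutative (A ⊔ Subgroup.zpowers x : Subgroup P) := by
      rw [← Subgroup.le_centralizer_iff_isMulCommutative]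
      apply sup_le
      · rw [Subgroup.le_centralizer_iff]
        exact sup_le hAcent hzx
      · rw [Subgroup.le_centralizer_iff]
        exact sup_le (Subgroup.le_centralizer_iff.mp hzx) hzz
    have hle := hAmax _ hcommB
    have heq : A = A ⊔ Subgroup.zpowers x := Subgroup.eq_of_le_of_card_ge le_sup_left hle
    rw [heq]
    exact Subgroup.mem_sup_right (Subgroup.mem_zpowers x)
  have hZA : Subgroup.center P ≤ A := by
    rw [← hCA]; exact Subgroup.center_le_centralizer _
  have hAn : A.Normal := ⟨fun a ha g => by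
    have h1 : g * a * g⁻¹ = ⁅g, a⁆ * a := by simp [commutatorElement_def]
    rw [h1]
    exact A.mul_mem (hZA (hcl g a)) ha⟩
  have h1 := pairing_bound hP hcl hZ ⊤ A (Subgroup.center P)
    (fun x _ n hn => Subgroup.mem_center_iff.mp hn x)
  have h2 := pairing_bound hP hcl hZ A ⊤ A
    (fun x hx n hn => by
      have := hAcent hn
      rw [Subgroup.mem_centralizer_iff] at this
      exact this x hx)
  rw [hCA, Subgroup.relIndex_top_right] at h1
  rw [Subgroup.relIndex_top_right, Subgroup.coe_top, Subgroup.centralizer_univ] at h2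
  have heq : A.index = (Subgroup.center P).relIndex A := le_antisymm h1 h2
  have hcardA : Nat.card A = p * (Subgroup.center P).relIndex A := by
    have h3 := ((Subgroup.center P).subgroupOf A).card_mul_index
    have h4 : Nat.card ((Subgroup.center P).subgroupOf A) = Nat.card (Subgroup.center P) :=
      Nat.card_congr (Subgroup.subgroupOfEquivOfLe hZA).toEquiv
    rw [h4, hZ] at h3
    exact h3.symm
  have hcardP : Nat.card P =
      p * (Subgroup.center P).relIndex A * (Subgroup.center P).relIndex A := by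
    rw [← A.card_mul_index, hcardA, heq]
  obtain ⟨N, hN⟩ := IsPGroup.iff_card.mp hP
  have hr : (Subgroup.center P).relIndex A ∣ p ^ N := by
    rw [← hN, hcardP]
    exact Dvd.intro_left _ rfl
  obtain ⟨j, -, hj⟩ := (Nat.dvd_prime_pow hpp).mp hr
  refine ⟨j, ?_, by rw [hcardP, hj]; ring⟩
  by_contra hj0
  have hj00 : j = 0 := by omega
  rw [hj00, pow_zero] at hj
  have hAZ : A ≤ Subgroup.center P := Subgroup.relIndex_eq_one.mp hj
  have hAeq : A = Subgroup.center P := le_antisymm hAZ hZA
  have htop : Subgroup.center P = ⊤ := by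
    rw [eq_top_iff, ← hAeq, ← hCA, hAeq]
    intro x _
    rw [Subgroup.mem_centralizer_iff]
    intro z hz
    exact (Subgroup.mem_center_iff.mp hz x).symm
  have hbot : commutator P = ⊥ := (commutator_eq_bot_iff_center_eq_top P).mpr htop
  rw [hcomm] at hbot
  rw [hbot, Subgroup.card_bot] at hZ
  exact hpp.one_lt.ne hZ

/-- The order of an extraspecial p-group is an odd power p^(2n+1) of p with n ≥ 1. -/
theorem result {P : Type*} [Group P] [Finite P] {p : ℕ} [Fact p.Prime] (h : Cfsg.IsExtraspecial p P) : ∃ n : ℕ, 1 ≤ n ∧ Nat.card P = p ^ (2 * n + 1) :=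
  extraspecial_card h

end Cfsg.Agent.S0095
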