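import Cfsg.Statements.S0099
import Cfsg.Agent.Lib.Helper3.Extra
import Mathlib

set_option autoImplicit false
open Cfsg

namespace Cfsg.Agent.S0099

open Cfsg.Agent.Lib.Helper3.Extra

universe u v w

/-- `D`-type data: a pair of non-commuting involutions. -/
def DData (E : Type*) [Group E] : Prop :=
  ∃ x y z : E, z ∈ Subgroup.center E ∧ z ≠ 1 ∧ x * y = z * y * x ∧ x ^ 2 = 1 ∧ y ^ 2 = 1

/-- `Q`-type data: a quaternion pair generating the whole group. -/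
def QData (E : Type*) [Group E] : Prop :=
  ∃ x y z : E, z ∈ Subgroup.center E ∧ z ≠ 1 ∧ x * y = z * y * x ∧ x ^ 2 = z ∧ y ^ 2 = z ∧
    Subgroup.centralizer ({x, y} : Set E) ≤ Subgroup.center E

section
variable {E : Type*} [Group E] [Finite E]

theorem es2_center (hE : Cfsg.IsExtraspecial 2 E) (z : E) (hz : z ∈ Subgroup.center E)
    (hz1 : z ≠ 1) (w : E) (hw : w ∈ Subgroup.center E) : w = 1 ∨ w = z := by
  obtain ⟨i, rfl⟩ := es_center_gen hE z hz hz1 w hw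
  have hz2 : z ^ 2 = 1 := es_center_pow hE z hz
  rcases Int.even_or_odd' i with ⟨k, rfl | rfl⟩
  · left; rw [zpow_mul, zpow_ofNat, hz2, one_zpow]
  · right; rw [zpow_add, zpow_mul, zpow_ofNat, hz2, one_zpow, one_mul, zpow_one]

theorem ddata_of_invol (hE : Cfsg.IsExtraspecial 2 E) (x y z : E) (hz : z ∈ Subgroup.center E)
    (hz1 : z ≠ 1) (h : x * y = z * y * x) (hx : x ^ 2 = 1) : DData E := by
  have hz2 : z ^ 2 = 1 := es_center_pow hE z hz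
  rcases es2_center hE z hz hz1 (y ^ 2) (es_pow_mem hE y) with hy | hy
  · exact ⟨x, y, z, hz, hz1, h, hx, hy⟩
  · have hzx : x * z = z * x := Subgroup.mem_center_iff.mp hz x
    have hxx : x * x = 1 := by rw [← pow_two]; exact hx
    have hyy : y * y = z := by rw [← pow_two]; exact hy
    have hzz : z * z = 1 := by rw [← pow_two]; exact hz2
    refine ⟨x, x * y, z, hz, hz1, ?_, hx, ?_⟩
    · calc x * (x * y) = x * (z * y * x) := by rw [h]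
        _ = (x * z) * y * x := by simp only [mul_assoc]
        _ = z * (x * y) * x := by rw [hzx]; simp only [mul_assoc]
    · calc (x * y) ^ 2 = (x * y) * (x * y) := pow_two _
        _ = (z * y * x) * (x * y) := congrArg (· * (x * y)) h
        _ = z * y * (x * x) * y := by simp only [mul_assoc]
        _ = z * (y * y) := by rw [hxx]; simp only [mul_one, mul_assoc]
        _ = 1 := by rw [hyy, hzz]

theorem dichotomy (hE : Cfsg.IsExtraspecial 2 E) : DData E ∨ QData E := by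
  obtain ⟨z, hz, hz1⟩ := es_exists_central hE
  obtain ⟨x, y, hxy⟩ := es_exists_pair hE z hz hz1
  have hz2 : z ^ 2 = 1 := es_center_pow hE z hz
  have hzz : z * z = 1 := by rw [← pow_two]; exact hz2
  rcases es2_center hE z hz hz1 (x ^ 2) (es_pow_mem hE x) with hx | hx
  · exact Or.inl (ddata_of_invol hE x y z hz hz1 hxy hx)
  rcases es2_center hE z hz hz1 (y ^ 2) (es_pow_mem hE y) with hy | hy
  · left
    refine ddata_of_invol hE y x z hz hz1 ?_ hy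
    rw [mul_assoc, hxy, ← mul_assoc, ← mul_assoc, hzz, one_mul]
  by_cases hC : Subgroup.centralizer ({x, y} : Set E) ≤ Subgroup.center E
  · exact Or.inr ⟨x, y, z, hz, hz1, hxy, hx, hy, hC⟩
  left
  obtain ⟨hes, hcen⟩ := cent_extraspecial hE x y z hxy hz hz1 hC
  have hzC : z ∈ Subgroup.centralizer ({x, y} : Set E) := es_center_le_cent x y hz
  obtain ⟨u, v, huv⟩ := es_exists_pair hes ⟨z, hzC⟩ ((hcen _).mpr hz)
    (fun h => hz1 (congrArg Subtype.val h))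
  have huv' : (u : E) * v = z * v * u := congrArg Subtype.val huv
  rcases es2_center hE z hz hz1 ((u : E) ^ 2) (es_pow_mem hE u) with hu | hu
  · exact ddata_of_invol hE u v z hz hz1 huv' hu
  · obtain ⟨hux, huy⟩ := mem_cent_pair.mp u.2
    have hxx : x * x = z := by rw [← pow_two]; exact hx
    have huu : (u : E) * u = z := by rw [← pow_two]; exact hu
    refine ddata_of_invol hE (x * u) y z hz hz1 ?_ ?_
    · calc x * u * y = x * (y * u) := by rw [mul_assoc, ← huy]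
        _ = (x * y) * u := by rw [mul_assoc]
        _ = z * y * (x * u) := by rw [hxy]; simp only [mul_assoc]
    · calc (x * (u : E)) ^ 2 = x * u * (x * u) := pow_two _
        _ = x * (u * x) * u := by simp only [mul_assoc]
        _ = x * x * (u * u) := by rw [← hux]; simp only [mul_assoc]
        _ = 1 := by rw [hxx, huu, hzz]

theorem cent_le_of_card8 (hE : Cfsg.IsExtraspecial 2 E) (x y z : E) (h : x * y = z * y * x)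
    (hz : z ∈ Subgroup.center E) (hz1 : z ≠ 1) (hcard : Nat.card E = 8) :
    Subgroup.centralizer ({x, y} : Set E) ≤ Subgroup.center E := by
  apply es_cent_le_of_card hE x y
  have h3 := es_card hE x y z h hz hz1
  omega

theorem card8_of_cent_le (hE : Cfsg.IsExtraspecial 2 E) (x y z : E) (h : x * y = z * y * x)
    (hz : z ∈ Subgroup.center E) (hz1 : z ≠ 1)
    (hC : Subgroup.centralizer ({x, y} : Set E) ≤ Subgroup.center E) : Nat.card E = 8 := by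
  rw [es_card hE x y z h hz hz1, es_cent_card_of_le hE x y hC]
  norm_num

theorem card8_of_QData (hE : Cfsg.IsExtraspecial 2 E) (q : QData E) : Nat.card E = 8 := by
  obtain ⟨x, y, z, hz, hz1, hxy, -, -, hC⟩ := q
  exact card8_of_cent_le hE x y z hxy hz hz1 hC

end

section
variable {E₁ : Type*} {E₂ : Type*} [Group E₁] [Group E₂] [Finite E₁] [Finite E₂]

theorem iso_DD_card8 (h₁ : Cfsg.IsExtraspecial 2 E₁) (h₂ : Cfsg.IsExtraspecial 2 E₂)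
    (d₁ : DData E₁) (d₂ : DData E₂) (hc₁ : Nat.card E₁ = 8) (hc₂ : Nat.card E₂ = 8) :
    Nonempty (E₁ ≃* E₂) := by
  obtain ⟨x₁, y₁, z₁, hz₁, hz₁1, hxy₁, hx₁, hy₁⟩ := d₁
  obtain ⟨x₂, y₂, z₂, hz₂, hz₂1, hxy₂, hx₂, hy₂⟩ := d₂
  have hker : (esHom x₁ y₁ z₁ hxy₁ hz₁).ker = (esHom x₂ y₂ z₂ hxy₂ hz₂).ker := by
    ext u
    rw [MonoidHom.mem_ker, MonoidHom.mem_ker,
      heis_ker_exp 2 x₁ y₁ z₁ hxy₁ hz₁ hz₁1 (es_center_pow h₁ z₁ hz₁) hx₁ hy₁,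
      heis_ker_exp 2 x₂ y₂ z₂ hxy₂ hz₂ hz₂1 (es_center_pow h₂ z₂ hz₂) hx₂ hy₂]
  obtain ⟨φ, -⟩ := surj_equiv _ _
    (es_range_top h₁ x₁ y₁ z₁ hxy₁ hz₁ hz₁1 (cent_le_of_card8 h₁ x₁ y₁ z₁ hxy₁ hz₁ hz₁1 hc₁))
    (es_range_top h₂ x₂ y₂ z₂ hxy₂ hz₂ hz₂1 (cent_le_of_card8 h₂ x₂ y₂ z₂ hxy₂ hz₂ hz₂1 hc₂)) hker
  exact ⟨φ⟩

theorem iso_QQ (h₁ : Cfsg.IsExtraspecial 2 E₁) (h₂ : Cfsg.IsExtraspecial 2 E₂)
    (q₁ : QData E₁) (q₂ : QData E₂) : Nonempty (E₁ ≃* E₂) := by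
  obtain ⟨x₁, y₁, z₁, hz₁, hz₁1, hxy₁, hx₁, hy₁, hC₁⟩ := q₁
  obtain ⟨x₂, y₂, z₂, hz₂, hz₂1, hxy₂, hx₂, hy₂, hC₂⟩ := q₂
  have hker : (esHom x₁ y₁ z₁ hxy₁ hz₁).ker = (esHom x₂ y₂ z₂ hxy₂ hz₂).ker := by
    ext u
    rw [MonoidHom.mem_ker, MonoidHom.mem_ker,
      heis_ker_Q x₁ y₁ z₁ hxy₁ hz₁ hz₁1 (es_center_pow h₁ z₁ hz₁) hx₁ hy₁,
      heis_ker_Q x₂ y₂ z₂ hxy₂ hz₂ hz₂1 (es_center_pow h₂ z₂ hz₂) hx₂ hy₂]
  obtain ⟨φ, -⟩ := surj_equiv _ _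
    (es_range_top h₁ x₁ y₁ z₁ hxy₁ hz₁ hz₁1 hC₁)
    (es_range_top h₂ x₂ y₂ z₂ hxy₂ hz₂ hz₂1 hC₂) hker
  exact ⟨φ⟩

theorem iso_glue (h₁ : Cfsg.IsExtraspecial 2 E₁) (h₂ : Cfsg.IsExtraspecial 2 E₂)
    (hc : Nat.card E₁ = Nat.card E₂)
    (x₁ y₁ z₁ : E₁) (hz₁ : z₁ ∈ Subgroup.center E₁) (hz₁1 : z₁ ≠ 1)
    (hxy₁ : x₁ * y₁ = z₁ * y₁ * x₁) (hx₁ : x₁ ^ 2 = 1) (hy₁ : y₁ ^ 2 = 1)
    (x₂ y₂ z₂ : E₂) (hz₂ : z₂ ∈ Subgroup.center E₂) (hz₂1 : z₂ ≠ 1)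
    (hxy₂ : x₂ * y₂ = z₂ * y₂ * x₂) (hx₂ : x₂ ^ 2 = 1) (hy₂ : y₂ ^ 2 = 1)
    (hC₁ : ¬ Subgroup.centralizer ({x₁, y₁} : Set E₁) ≤ Subgroup.center E₁)
    (hC₂ : ¬ Subgroup.centralizer ({x₂, y₂} : Set E₂) ≤ Subgroup.center E₂)
    (β : Subgroup.centralizer ({x₁, y₁} : Set E₁) ≃* Subgroup.centralizer ({x₂, y₂} : Set E₂)) :
    Nonempty (E₁ ≃* E₂) := by
  have hker : (esHom x₁ y₁ z₁ hxy₁ hz₁).ker = (esHom x₂ y₂ z₂ hxy₂ hz₂).ker := by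
    ext u
    rw [MonoidHom.mem_ker, MonoidHom.mem_ker,
      heis_ker_exp 2 x₁ y₁ z₁ hxy₁ hz₁ hz₁1 (es_center_pow h₁ z₁ hz₁) hx₁ hy₁,
      heis_ker_exp 2 x₂ y₂ z₂ hxy₂ hz₂ hz₂1 (es_center_pow h₂ z₂ hz₂) hx₂ hy₂]
  obtain ⟨hes₁, hcen₁⟩ := cent_extraspecial h₁ x₁ y₁ z₁ hxy₁ hz₁ hz₁1 hC₁
  obtain ⟨hes₂, hcen₂⟩ := cent_extraspecial h₂ x₂ y₂ z₂ hxy₂ hz₂ hz₂1 hC₂
  have hz₁C : z₁ ∈ Subgroup.centralizer ({x₁, y₁} : Set E₁) := es_center_le_cent x₁ y₁ hz₁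
  have hz₂C : z₂ ∈ Subgroup.centralizer ({x₂, y₂} : Set E₂) := es_center_le_cent x₂ y₂ hz₂
  have hβ : β ⟨z₁, hz₁C⟩ = ⟨z₂, hz₂C⟩ := by
    have hcz : β ⟨z₁, hz₁C⟩ ∈ Subgroup.center (Subgroup.centralizer ({x₂, y₂} : Set E₂)) := by
      rw [Subgroup.mem_center_iff]
      intro g
      have h3 := Subgroup.mem_center_iff.mp ((hcen₁ ⟨z₁, hz₁C⟩).mpr hz₁) (β.symm g)
      have h4 := congrArg β h3
      rw [map_mul, map_mul, MulEquiv.apply_symm_apply] at h4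
      exact h4
    have hne : ((β ⟨z₁, hz₁C⟩ : Subgroup.centralizer ({x₂, y₂} : Set E₂)) : E₂) ≠ 1 := by
      intro h3
      have h4 : β ⟨z₁, hz₁C⟩ = 1 := Subtype.ext h3
      rw [MulEquiv.map_eq_one_iff] at h4
      exact hz₁1 (congrArg Subtype.val h4)
    rcases es2_center h₂ z₂ hz₂ hz₂1 _ ((hcen₂ _).mp hcz) with h3 | h3
    · exact absurd h3 hne
    · exact Subtype.ext h3
  obtain ⟨α, hα⟩ := range_equiv _ _ hker
  have hαβ : ∀ (w : E₁) (hD : w ∈ (esHom x₁ y₁ z₁ hxy₁ hz₁).range)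
      (hC : w ∈ Subgroup.centralizer ({x₁, y₁} : Set E₁)),
      (α ⟨w, hD⟩ : E₂) = β ⟨w, hC⟩ := by
    intro w hD hC
    have hwc := es_inter_le h₁ x₁ y₁ z₁ hxy₁ hz₁ hz₁1 w hD hC
    obtain ⟨i, rfl⟩ := es_center_gen h₁ z₁ hz₁ hz₁1 w hwc
    have e1 := hα ⟨i, 0, 0⟩ (z₁ ^ i) hD (by simp [esHom_apply])
    rw [e1]
    have e2 : (⟨z₁ ^ i, hC⟩ : Subgroup.centralizer ({x₁, y₁} : Set E₁)) =
        (⟨z₁, hz₁C⟩ : Subgroup.centralizer ({x₁, y₁} : Set E₁)) ^ i := Subtype.ext (by simp)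
    rw [e2, map_zpow, hβ]
    simp [esHom_apply]
  obtain ⟨φ, -, -⟩ := glue hc (esHom x₁ y₁ z₁ hxy₁ hz₁).range
    (Subgroup.centralizer ({x₁, y₁} : Set E₁)) (esHom x₂ y₂ z₂ hxy₂ hz₂).range
    (Subgroup.centralizer ({x₂, y₂} : Set E₂))
    (es_decomp h₁ x₁ y₁ z₁ hxy₁ hz₁ hz₁1) (es_decomp h₂ x₂ y₂ z₂ hxy₂ hz₂ hz₂1)
    (es_comm_DC x₁ y₁ z₁ hxy₁ hz₁) (es_comm_DC x₂ y₂ z₂ hxy₂ hz₂) α β hαβ
  exact ⟨φ⟩

end

theorem main : ∀ (n : ℕ) (E₁ : Type u) (E₂ : Type v) (E₃ : Type w) [Group E₁] [Group E₂]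
    [Group E₃] [Finite E₁] [Finite E₂] [Finite E₃],
    Nat.card E₁ = n → Cfsg.IsExtraspecial 2 E₁ → Cfsg.IsExtraspecial 2 E₂ →
    Cfsg.IsExtraspecial 2 E₃ → Nat.card E₁ = Nat.card E₂ → Nat.card E₂ = Nat.card E₃ →
    Nonempty (E₁ ≃* E₂) ∨ Nonempty (E₂ ≃* E₃) ∨ Nonempty (E₁ ≃* E₃) := by
  intro n
  induction n using Nat.strong_induction_on with
  | _ n ih =>
    intro E₁ E₂ E₃ _ _ _ _ _ _ hn h₁ h₂ h₃ h12 h23
    rcases dichotomy h₁ with d₁ | q₁ <;> rcases dichotomy h₂ with d₂ | q₂ <;>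
      rcases dichotomy h₃ with d₃ | q₃
    · -- DDD
      obtain ⟨x₁, y₁, z₁, hz₁, hz₁1, hxy₁, hx₁, hy₁⟩ := d₁
      obtain ⟨x₂, y₂, z₂, hz₂, hz₂1, hxy₂, hx₂, hy₂⟩ := d₂
      obtain ⟨x₃, y₃, z₃, hz₃, hz₃1, hxy₃, hx₃, hy₃⟩ := d₃
      have hcard₁ := es_card h₁ x₁ y₁ z₁ hxy₁ hz₁ hz₁1
      have hcard₂ := es_card h₂ x₂ y₂ z₂ hxy₂ hz₂ hz₂1
      have hcard₃ := es_card h₃ x₃ y₃ z₃ hxy₃ hz₃ hz₃1
      by_cases hC₁ : Subgroup.centralizer ({x₁, y₁} : Set E₁) ≤ Subgroup.center E₁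
      · have hc₁ := card8_of_cent_le h₁ x₁ y₁ z₁ hxy₁ hz₁ hz₁1 hC₁
        exact Or.inl (iso_DD_card8 h₁ h₂ ⟨x₁, y₁, z₁, hz₁, hz₁1, hxy₁, hx₁, hy₁⟩
          ⟨x₂, y₂, z₂, hz₂, hz₂1, hxy₂, hx₂, hy₂⟩ hc₁ (by rw [← h12]; exact hc₁))
      · have hne8 : Nat.card E₁ ≠ 8 := fun h8 =>
          hC₁ (cent_le_of_card8 h₁ x₁ y₁ z₁ hxy₁ hz₁ hz₁1 h8)
        have hC₂ : ¬ Subgroup.centralizer ({x₂, y₂} : Set E₂) ≤ Subgroup.center E₂ := fun hC =>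
          hne8 (by rw [h12]; exact card8_of_cent_le h₂ x₂ y₂ z₂ hxy₂ hz₂ hz₂1 hC)
        have hC₃ : ¬ Subgroup.centralizer ({x₃, y₃} : Set E₃) ≤ Subgroup.center E₃ := fun hC =>
          hne8 (by rw [h12, h23]; exact card8_of_cent_le h₃ x₃ y₃ z₃ hxy₃ hz₃ hz₃1 hC)
        obtain ⟨hes₁, -⟩ := cent_extraspecial h₁ x₁ y₁ z₁ hxy₁ hz₁ hz₁1 hC₁
        obtain ⟨hes₂, -⟩ := cent_extraspecial h₂ x₂ y₂ z₂ hxy₂ hz₂ hz₂1 hC₂
        obtain ⟨hes₃, -⟩ := cent_extraspecial h₃ x₃ y₃ z₃ hxy₃ hz₃ hz₃1 hC₃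
        have hlt : Nat.card (Subgroup.centralizer ({x₁, y₁} : Set E₁)) < n := by
          have hpos : 0 < Nat.card (Subgroup.centralizer ({x₁, y₁} : Set E₁)) := Nat.card_pos
          omega
        have hCC12 : Nat.card (Subgroup.centralizer ({x₁, y₁} : Set E₁)) =
            Nat.card (Subgroup.centralizer ({x₂, y₂} : Set E₂)) := by omega
        have hCC23 : Nat.card (Subgroup.centralizer ({x₂, y₂} : Set E₂)) =
            Nat.card (Subgroup.centralizer ({x₃, y₃} : Set E₃)) := by omega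
        rcases ih _ hlt (↥(Subgroup.centralizer ({x₁, y₁} : Set E₁)))
          (↥(Subgroup.centralizer ({x₂, y₂} : Set E₂)))
          (↥(Subgroup.centralizer ({x₃, y₃} : Set E₃))) rfl hes₁ hes₂ hes₃ hCC12 hCC23
          with ⟨⟨β⟩⟩ | ⟨⟨β⟩⟩ | ⟨⟨β⟩⟩
        · exact Or.inl (iso_glue h₁ h₂ h12 x₁ y₁ z₁ hz₁ hz₁1 hxy₁ hx₁ hy₁
            x₂ y₂ z₂ hz₂ hz₂1 hxy₂ hx₂ hy₂ hC₁ hC₂ β)
        · exact Or.inr (Or.inl (iso_glue h₂ h₃ h23 x₂ y₂ z₂ hz₂ hz₂1 hxy₂ hx₂ hy₂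
            x₃ y₃ z₃ hz₃ hz₃1 hxy₃ hx₃ hy₃ hC₂ hC₃ β))
        · exact Or.inr (Or.inr (iso_glue h₁ h₃ (h12.trans h23) x₁ y₁ z₁ hz₁ hz₁1 hxy₁ hx₁ hy₁
            x₃ y₃ z₃ hz₃ hz₃1 hxy₃ hx₃ hy₃ hC₁ hC₃ β))
    · -- DDQ
      have h8 := card8_of_QData h₃ q₃
      exact Or.inl (iso_DD_card8 h₁ h₂ d₁ d₂ (by rw [h12, h23]; exact h8) (by rw [h23]; exact h8))
    · -- DQD
      have h8 := card8_of_QData h₂ q₂
      exact Or.inr (Or.inr (iso_DD_card8 h₁ h₃ d₁ d₃ (by rw [h12]; exact h8)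
        (by rw [← h23]; exact h8)))
    · -- DQQ
      exact Or.inr (Or.inl (iso_QQ h₂ h₃ q₂ q₃))
    · -- QDD
      have h8 := card8_of_QData h₁ q₁
      exact Or.inr (Or.inl (iso_DD_card8 h₂ h₃ d₂ d₃ (by rw [← h12]; exact h8)
        (by rw [← h23, ← h12]; exact h8)))
    · -- QDQ
      exact Or.inr (Or.inr (iso_QQ h₁ h₃ q₁ q₃))
    · -- QQD
      exact Or.inl (iso_QQ h₁ h₂ q₁ q₂)
    · -- QQQ
      exact Or.inl (iso_QQ h₁ h₂ q₁ q₂)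

/-- Among three extraspecial 2-groups of equal order, some two are isomorphic. -/
theorem result {E₁ : Type*} {E₂ : Type*} {E₃ : Type*} [Group E₁] [Group E₂] [Group E₃] [Finite E₁] [Finite E₂] [Finite E₃] (h₁ : Cfsg.IsExtraspecial 2 E₁) (h₂ : Cfsg.IsExtraspecial 2 E₂) (h₃ : Cfsg.IsExtraspecial 2 E₃) (h12 : Nat.card E₁ = Nat.card E₂) (h23 : Nat.card E₂ = Nat.card E₃) : Nonempty (E₁ ≃* E₂) ∨ Nonempty (E₂ ≃* E₃) ∨ Nonempty (E₁ ≃* E₃) :=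
  main _ E₁ E₂ E₃ rfl h₁ h₂ h₃ h12 h23

end Cfsg.Agent.S0099
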