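import Cfsg.Statements.S0214
import Mathlib

set_option autoImplicit false
open Cfsg

namespace Cfsg.Agent.S0214

variable {G : Type*} [Group G] [Finite G]

/-- conjugate of a subgroup -/
abbrev cj (g : G) (T : Subgroup G) : Subgroup G := T.map (MulAut.conj g).toMonoidHom

theorem mem_cj {g : G} {T : Subgroup G} {y : G} : y ∈ cj g T ↔ g⁻¹ * y * g ∈ T := by
  constructor
  · rintro ⟨x, hx, rfl⟩
    simpa [mul_assoc] using hx
  · intro h
    exact ⟨g⁻¹ * y * g, h, by simp [mul_assoc]⟩

theorem card_cj (g : G) (T : Subgroup G) : Nat.card (cj g T) = Nat.card T :=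
  Subgroup.card_map_of_injective (MulAut.conj g).injective

theorem mem_normalizer_of_cj_le {a : G} {T : Subgroup G} (h : cj a T ≤ T) :
    a ∈ Subgroup.normalizer (T : Set G) := by
  have e : cj a T = T := Subgroup.eq_of_le_of_card_ge h (by rw [card_cj])
  rw [Subgroup.mem_normalizer_iff'']
  intro y
  conv_lhs => rw [← e]
  exact mem_cj

theorem sylow_conj (H : Subgroup G) (P : Sylow 2 ↥H) (T : Subgroup G) (hT : IsPGroup 2 T)
    (hTH : T ≤ H) : ∃ h ∈ H, cj h T ≤ (P : Subgroup ↥H).map H.subtype := by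
  haveI : Fact (Nat.Prime 2) := ⟨Nat.prime_two⟩
  have h1 : IsPGroup 2 (T.subgroupOf H) := hT.comap_subtype
  obtain ⟨Q, hQ⟩ := h1.exists_le_sylow
  obtain ⟨h, hh⟩ := MulAction.exists_smul_eq ↥H Q P
  refine ⟨h, h.2, ?_⟩
  intro y hy
  rw [mem_cj] at hy
  have hxH : (h : G)⁻¹ * y * h ∈ H := hTH hy
  have hxQ : (⟨(h : G)⁻¹ * y * h, hxH⟩ : H) ∈ (Q : Subgroup H) :=
    hQ (Subgroup.mem_subgroupOf.mpr hy)
  have hmem : h * ⟨(h : G)⁻¹ * y * h, hxH⟩ * h⁻¹ ∈ (P : Subgroup H) := by
    rw [← hh, Sylow.coe_subgroup_smul, Subgroup.mem_pointwise_smul_iff_inv_smul_mem]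
    simpa [MulAut.smul_def, mul_assoc] using hxQ
  refine ⟨_, hmem, ?_⟩
  simp [mul_assoc]

theorem claim (H : Subgroup G) (P : Sylow 2 ↥H)
    (hN : ∀ X : Subgroup ↥H, X ≤ (P : Subgroup ↥H) → X ≠ ⊥ →
      Subgroup.normalizer ((X.map H.subtype : Subgroup G) : Set G) ≤ H) :
    ∀ (n : ℕ) (T : Subgroup G), IsPGroup 2 T → T ≠ ⊥ → T ≤ H → Nat.card G - Nat.card T = n →
      ∀ g : G, T ≤ cj g H → g ∈ H := by
  haveI : Fact (Nat.Prime 2) := ⟨Nat.prime_two⟩
  intro n
  induction n using Nat.strong_induction_on with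
  | _ n ih =>
    intro T hT hT1 hTH hn g hg
    obtain ⟨P', hP'⟩ : ∃ P' : Subgroup G, P' = (P : Subgroup ↥H).map H.subtype := ⟨_, rfl⟩
    have hP'H : P' ≤ H := by rw [hP']; exact Subgroup.map_subtype_le _
    have hP'2 : IsPGroup 2 P' := by rw [hP']; exact P.2.map _
    have hN' : ∀ X : Subgroup G, X ≤ P' → X ≠ ⊥ → Subgroup.normalizer (X : Set G) ≤ H := by
      intro X hX hX1
      have hmap : (X.subgroupOf H).map H.subtype = X :=
        Subgroup.map_subgroupOf_eq_of_le (hX.trans hP'H)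
      have := hN (X.subgroupOf H) ?_ ?_
      · rwa [hmap] at this
      · intro x hx
        have hx' := hX (Subgroup.mem_subgroupOf.mp hx)
        rw [hP'] at hx'
        obtain ⟨y, hy, hyx⟩ := hx'
        have : y = x := Subtype.ext hyx
        rwa [← this]
      · intro h0
        apply hX1
        rw [← hmap, h0, Subgroup.map_bot]
    obtain ⟨h, hh, hh2⟩ := sylow_conj H P T hT hTH
    rw [← hP'] at hh2
    have hT'H : cj g⁻¹ T ≤ H := by
      intro y hy
      rw [mem_cj] at hy
      have := hg hy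
      rw [mem_cj] at this
      simpa [mul_assoc] using this
    have hT'2 : IsPGroup 2 (cj g⁻¹ T) := hT.map _
    obtain ⟨k, hk, hk2⟩ := sylow_conj H P (cj g⁻¹ T) hT'2 hT'H
    rw [← hP'] at hk2
    obtain ⟨T1, hT1def⟩ : ∃ T1 : Subgroup G, T1 = cj h T := ⟨_, rfl⟩
    rw [← hT1def] at hh2
    obtain ⟨g1, hg1⟩ : ∃ g1 : G, g1 = h * g * k⁻¹ := ⟨_, rfl⟩
    suffices hg1H : g1 ∈ H by
      have : g = h⁻¹ * g1 * k := by rw [hg1]; group
      rw [this]
      exact H.mul_mem (H.mul_mem (H.inv_mem hh) hg1H) hk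
    have hT1' : cj g1⁻¹ T1 ≤ P' := by
      intro y hy
      rw [hT1def, mem_cj, mem_cj] at hy
      apply hk2
      rw [mem_cj, mem_cj]
      convert hy using 1
      rw [hg1]; group
    have hcard1 : Nat.card T1 = Nat.card T := by rw [hT1def]; exact card_cj h T
    have hT1ne : T1 ≠ ⊥ := by
      intro h0
      rw [h0, Subgroup.card_bot] at hcard1
      exact hT1 (Subgroup.card_eq_one.mp hcard1.symm)
    have hT12 : IsPGroup 2 T1 := by rw [hT1def]; exact hT.map _
    by_cases hTP : T1 = P'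
    · rw [hTP] at hT1'
      have h1 : g1⁻¹ ∈ Subgroup.normalizer (P' : Set G) := mem_normalizer_of_cj_le hT1'
      have h2 := hN' P' le_rfl (hTP ▸ hT1ne) h1
      exact (H.inv_mem_iff).mp h2
    · obtain ⟨P'', hP''⟩ : ∃ P'' : Subgroup G, P'' = cj g1 P' := ⟨_, rfl⟩
      have hT1P'' : T1 ≤ P'' := by
        intro y hy
        rw [hP'', mem_cj]
        apply hT1'
        rw [mem_cj]
        simpa [mul_assoc] using hy
      have hcardP'' : Nat.card P'' = Nat.card P' := by rw [hP'']; exact card_cj g1 P'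
      have hP''2 : IsPGroup 2 P'' := by rw [hP'']; exact hP'2.map _
      have hcardlt : Nat.card T1 < Nat.card P' := by
        by_contra hc
        push Not at hc
        exact hTP (Subgroup.eq_of_le_of_card_ge hh2 hc)
      have hnil : Group.IsNilpotent P'' := hP''2.isNilpotent
      have hnc := Group.normalizerCondition_of_isNilpotent (G := P'')
      have hlt2 : T1.subgroupOf P'' < ⊤ := by
        rw [lt_top_iff_ne_top]
        intro htop
        rw [Subgroup.subgroupOf_eq_top] at htop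
        have := Subgroup.card_le_of_le htop
        omega
      have hgrow := hnc _ hlt2
      obtain ⟨y, hyN, hyT⟩ := SetLike.exists_of_lt hgrow
      obtain ⟨T2, hT2⟩ : ∃ T2 : Subgroup G,
        T2 = (Subgroup.normalizer ((T1.subgroupOf P'' : Subgroup P'') : Set P'')).map P''.subtype :=
        ⟨_, rfl⟩
      have hT2P'' : T2 ≤ P'' := by rw [hT2]; exact Subgroup.map_subtype_le _
      have hT2p : IsPGroup 2 T2 := hP''2.to_le hT2P''
      have hT1T2 : T1 ≤ T2 := by
        intro x hx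
        rw [hT2]
        exact ⟨⟨x, hT1P'' hx⟩, Subgroup.le_normalizer (Subgroup.mem_subgroupOf.mpr hx), rfl⟩
      have hyT2 : (y : G) ∈ T2 := by rw [hT2]; exact ⟨y, hyN, rfl⟩
      have hyT1 : (y : G) ∉ T1 := fun hc => hyT (Subgroup.mem_subgroupOf.mpr hc)
      have hcard2 : Nat.card T1 < Nat.card T2 := by
        by_contra hc
        push Not at hc
        have := Subgroup.eq_of_le_of_card_ge hT1T2 hc
        rw [← this] at hyT2
        exact hyT1 hyT2
      have hT2N : T2 ≤ Subgroup.normalizer (T1 : Set G) := by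
        intro z hz
        apply mem_normalizer_of_cj_le
        intro u hu
        rw [mem_cj] at hu
        rw [hT2] at hz
        obtain ⟨w, hw, rfl⟩ := hz
        rw [SetLike.mem_coe, Subgroup.mem_normalizer_iff] at hw
        have h1 := (hw ⟨(w : G)⁻¹ * u * w, hT1P'' hu⟩).mp (Subgroup.mem_subgroupOf.mpr hu)
        rw [Subgroup.mem_subgroupOf] at h1
        simpa [mul_assoc] using h1
      have hT2H : T2 ≤ H := hT2N.trans (hN' T1 hh2 hT1ne)
      have hT2g : T2 ≤ cj g1 H := by
        refine hT2P''.trans ?_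
        rw [hP'']
        exact Subgroup.map_mono hP'H
      have hT2ne : T2 ≠ ⊥ := by
        intro h0
        rw [h0] at hT1T2
        exact hT1ne (le_bot_iff.mp hT1T2)
      have hle := Subgroup.card_le_card_group T2
      exact ih (Nat.card G - Nat.card T2) (by omega) T2 hT2p hT2ne hT2H rfl g1 hT2g

theorem result {G : Type*} [Group G] [Finite G] (H : Subgroup G) (hH : H ≠ ⊤) (P : Sylow 2 ↥H) (hP : (P : Subgroup ↥H) ≠ ⊥) : Cfsg.IsStronglyEmbedded H ↔ (∀ X : Subgroup ↥H, X ≤ (P : Subgroup ↥H) → X ≠ ⊥ → Subgroup.normalizer ((X.map H.subtype : Subgroup G) : Set G) ≤ H) := by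
  haveI : Fact (Nat.Prime 2) := ⟨Nat.prime_two⟩
  have two_dvd : ∀ X : Subgroup ↥H, X ≤ (P : Subgroup ↥H) → X ≠ ⊥ → 2 ∣ Nat.card X := by
    intro X hX hX1
    have hXp : IsPGroup 2 X := P.2.to_le hX
    obtain ⟨k, hk⟩ := IsPGroup.iff_card.mp hXp
    rw [hk]
    have : k ≠ 0 := by
      rintro rfl
      rw [pow_zero] at hk
      exact hX1 (Subgroup.card_eq_one.mp hk)
    exact dvd_pow_self 2 this
  constructor
  · rintro ⟨-, -, hodd⟩ X hX hX1 g hg
    by_contra hgH
    have ho := hodd g hgH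
    have hle : X.map H.subtype ≤ H ⊓ H.map (MulAut.conj g).toMonoidHom := by
      apply le_inf (Subgroup.map_subtype_le X)
      intro y hy
      rw [Subgroup.mem_normalizer_iff''] at hg
      exact mem_cj.mpr (Subgroup.map_subtype_le X ((hg y).mp hy))
    have h2 : 2 ∣ Nat.card (X.map H.subtype) := by
      rw [Subgroup.card_map_of_injective H.subtype_injective]
      exact two_dvd X hX hX1
    have h3 : 2 ∣ Nat.card (H ⊓ H.map (MulAut.conj g).toMonoidHom : Subgroup G) :=
      h2.trans (Subgroup.card_dvd_of_le hle)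
    exact (Nat.not_even_iff_odd.mpr ho) (even_iff_two_dvd.mpr h3)
  · intro hN
    refine ⟨hH, ?_, ?_⟩
    · exact even_iff_two_dvd.mpr ((two_dvd _ le_rfl hP).trans (Subgroup.card_subgroup_dvd_card _))
    · intro g hg
      rw [← Nat.not_even_iff_odd]
      intro hev
      obtain ⟨x, hx⟩ := exists_prime_orderOf_dvd_card' 2 (even_iff_two_dvd.mp hev)
      have hxo : orderOf (x : G) = 2 := by rw [Subgroup.orderOf_coe]; exact hx
      have hcard : Nat.card (Subgroup.zpowers (x : G)) = 2 := by rw [Nat.card_zpowers, hxo]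
      have hT2 : IsPGroup 2 (Subgroup.zpowers (x : G)) := IsPGroup.of_card (n := 1) (by rw [hcard]; rfl)
      have hT1 : Subgroup.zpowers (x : G) ≠ ⊥ := by
        intro h0
        rw [h0, Subgroup.card_bot] at hcard
        omega
      have hTle : Subgroup.zpowers (x : G) ≤ H ⊓ H.map (MulAut.conj g).toMonoidHom :=
        Subgroup.zpowers_le.mpr x.2
      exact hg (claim H P hN _ _ hT2 hT1 (hTle.trans inf_le_left) rfl g (hTle.trans inf_le_right))

end Cfsg.Agent.S0214
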