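import Cfsg.Statements.S0223
import Mathlib

set_option autoImplicit false
open Cfsg

namespace Cfsg.Agent.S0223

theorem mem_conj_map {G : Type*} [Group G] (H : Subgroup G) (g y : G) :
    y ∈ H.map (MulAut.conj g).toMonoidHom ↔ g⁻¹ * y * g ∈ H := by
  rw [Subgroup.mem_map]
  constructor
  · rintro ⟨h, hh, rfl⟩
    simpa [MulAut.conj_apply, mul_assoc] using hh
  · intro h
    refine ⟨g⁻¹ * y * g, h, ?_⟩
    simp [MulAut.conj_apply, mul_assoc]

theorem orderOf_conj_inv {G : Type*} [Group G] (g s : G) : orderOf (g⁻¹ * s * g) = orderOf s := by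
  have := MulEquiv.orderOf_eq (MulAut.conj g⁻¹) s
  simpa [MulAut.conj_apply] using this

theorem not_odd_of_involution {G : Type*} [Group G] [Finite G] (K : Subgroup G) (t : G) (ht : orderOf t = 2)
    (htK : t ∈ K) : ¬ Odd (Nat.card K) := by
  intro hodd
  have h4 : orderOf (⟨t, htK⟩ : K) = orderOf t := Subgroup.orderOf_mk _ _
  have h5 : 2 ∣ Nat.card K := by
    rw [← ht, ← h4]
    exact orderOf_dvd_natCard _
  rw [← even_iff_two_dvd] at h5
  exact (Nat.not_even_iff_odd.mpr hodd) h5

theorem exists_involution_of_not_odd {G : Type*} [Group G] [Finite G] (K : Subgroup G)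
    (h : ¬ Odd (Nat.card K)) : ∃ t ∈ K, orderOf t = 2 := by
  rw [Nat.not_odd_iff_even, even_iff_two_dvd] at h
  obtain ⟨t, ht⟩ := exists_prime_orderOf_dvd_card' 2 h
  refine ⟨t.1, t.2, ?_⟩
  rw [← ht]
  exact (Subgroup.orderOf_coe t)

/-- Let H be a proper subgroup of even order of the finite group G. Then H is strongly embedded if and only if (i) C_G(t) ≤ H for every involution t of H and (ii) H controls fusion of its involutions: involutions of H conjugate in G are conjugate in H. -/
theorem result {G : Type*} [Group G] [Finite G] (H : Subgroup G) (hH : H ≠ ⊤) (heven : Even (Nat.card H)) : Cfsg.IsStronglyEmbedded H ↔ ((∀ t ∈ H, orderOf t = 2 → Subgroup.centralizer ({t} : Set G) ≤ H) ∧ (∀ t ∈ H, ∀ s ∈ H, orderOf t = 2 → orderOf s = 2 → IsConj t s → ∃ h ∈ H, h * t * h⁻¹ = s)) := by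
  constructor
  · rintro ⟨_, _, hodd⟩
    refine ⟨?_, ?_⟩
    · intro t htH ht g hg
      by_contra hgH
      refine not_odd_of_involution _ t ht ?_ (hodd g hgH)
      refine Subgroup.mem_inf.mpr ⟨htH, ?_⟩
      rw [mem_conj_map]
      rw [Subgroup.mem_centralizer_singleton_iff] at hg
      have : g⁻¹ * t * g = t := by
        rw [mul_assoc, ← hg, ← mul_assoc, inv_mul_cancel, one_mul]
      rw [this]
      exact htH
    · intro t htH s hsH ht hs hconj
      obtain ⟨g, hg⟩ := isConj_iff.mp hconj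
      refine ⟨g, ?_, hg⟩
      by_contra hgH
      refine not_odd_of_involution _ s hs ?_ (hodd g hgH)
      refine Subgroup.mem_inf.mpr ⟨hsH, ?_⟩
      rw [mem_conj_map, ← hg]
      have : g⁻¹ * (g * t * g⁻¹) * g = t := by group
      rw [this]
      exact htH
  · rintro ⟨hcent, hfus⟩
    refine ⟨hH, heven, ?_⟩
    intro g hgH
    by_contra hnodd
    obtain ⟨s, hsK, hs⟩ := exists_involution_of_not_odd _ hnodd
    obtain ⟨hsH, hsg⟩ := Subgroup.mem_inf.mp hsK
    rw [mem_conj_map] at hsg
    have ht : orderOf (g⁻¹ * s * g) = 2 := by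
      rw [orderOf_conj_inv, hs]
    obtain ⟨h, hhH, hh⟩ := hfus (g⁻¹ * s * g) hsg s hsH ht hs
      (isConj_iff.mpr ⟨g, by group⟩)
    have hmem : h * g⁻¹ ∈ Subgroup.centralizer ({s} : Set G) := by
      rw [Subgroup.mem_centralizer_singleton_iff]
      have h1 : h * g⁻¹ * s = s * (h * g⁻¹) := by
        nth_rewrite 2 [← hh]
        group
      exact h1
    have h2 := hcent s hsH hs hmem
    apply hgH
    have h3 : g = (h * g⁻¹)⁻¹ * h := by group
    rw [h3]
    exact H.mul_mem (H.inv_mem h2) hhH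

end Cfsg.Agent.S0223
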