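import Cfsg.Statements.S0224
import Mathlib

set_option autoImplicit false
open Cfsg

namespace Cfsg.Agent.S0224

theorem mem_conj_map {G : Type*} [Group G] (H : Subgroup G) (g y : G) :
    y ∈ H.map (MulAut.conj g).toMonoidHom ↔ g⁻¹ * y * g ∈ H := by
  rw [Subgroup.mem_map]
  constructor
  · rintro ⟨h, hh, rfl⟩
    simpa [MulAut.conj_apply, mul_assoc] using hh
  · intro h
    refine ⟨g⁻¹ * y * g, h, ?_⟩
    simp [MulAut.conj_apply, mul_assoc]

theorem not_odd_of_involution {G : Type*} [Group G] [Finite G] (K : Subgroup G) (t : G) (ht : orderOf t = 2)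
    (htK : t ∈ K) : ¬ Odd (Nat.card K) := by
  intro hodd
  have h4 : orderOf (⟨t, htK⟩ : K) = orderOf t := Subgroup.orderOf_mk _ _
  have h5 : 2 ∣ Nat.card K := by
    rw [← ht, ← h4]
    exact orderOf_dvd_natCard _
  rw [← even_iff_two_dvd] at h5
  exact (Nat.not_even_iff_odd.mpr hodd) h5

theorem exists_involution_of_not_odd {G : Type*} [Group G] [Finite G] (K : Subgroup G)
    (h : ¬ Odd (Nat.card K)) : ∃ t ∈ K, orderOf t = 2 := by
  rw [Nat.not_odd_iff_even, even_iff_two_dvd] at h
  obtain ⟨t, ht⟩ := exists_prime_orderOf_dvd_card' 2 h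
  refine ⟨t.1, t.2, ?_⟩
  rw [← ht]
  exact (Subgroup.orderOf_coe t)

theorem fix_iff {G : Type*} [Group G] (H : Subgroup G) (t g : G) :
    t • (g : G ⧸ H) = (g : G ⧸ H) ↔ g⁻¹ * t * g ∈ H := by
  have h1 : t • (g : G ⧸ H) = ((t * g : G) : G ⧸ H) := rfl
  rw [h1, eq_comm, QuotientGroup.eq, mul_assoc]

/-- Let H be a proper subgroup of even order of the finite group G. Then H is strongly embedded if and only if each involution of H fixes exactly one point (namely the coset H) in the action of G on the cosets of H. -/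
theorem result {G : Type*} [Group G] [Finite G] (H : Subgroup G) (hH : H ≠ ⊤) (heven : Even (Nat.card H)) : Cfsg.IsStronglyEmbedded H ↔ ∀ t ∈ H, orderOf t = 2 → Nat.card {c : G ⧸ H // t • c = c} = 1 := by
  constructor
  · rintro ⟨_, _, hodd⟩ t htH ht
    rw [Nat.card_eq_one_iff_unique]
    have h1 : t • ((1 : G) : G ⧸ H) = ((1 : G) : G ⧸ H) := by
      rw [fix_iff]
      simpa using htH
    refine ⟨⟨?_⟩, ⟨⟨((1 : G) : G ⧸ H), h1⟩⟩⟩
    have key : ∀ c : {c : G ⧸ H // t • c = c}, c.1 = ((1 : G) : G ⧸ H) := by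
      rintro ⟨c, hc⟩
      induction c using QuotientGroup.induction_on with
      | H g =>
        simp only
        rw [fix_iff] at hc
        rw [QuotientGroup.eq]
        by_contra hgH
        have hgH' : g ∉ H := by
          intro h
          apply hgH
          simpa using H.inv_mem h
        refine not_odd_of_involution _ t ht ?_ (hodd g hgH')
        exact Subgroup.mem_inf.mpr ⟨htH, (mem_conj_map H g t).mpr hc⟩
    intro a b
    apply Subtype.ext
    rw [key a, key b]
  · intro hfix
    refine ⟨hH, heven, ?_⟩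
    intro g hgH
    by_contra hnodd
    obtain ⟨s, hsK, hs⟩ := exists_involution_of_not_odd _ hnodd
    obtain ⟨hsH, hsg⟩ := Subgroup.mem_inf.mp hsK
    rw [mem_conj_map] at hsg
    have h1 := hfix s hsH hs
    rw [Nat.card_eq_one_iff_unique] at h1
    obtain ⟨hsub, _⟩ := h1
    have ha : s • ((1 : G) : G ⧸ H) = ((1 : G) : G ⧸ H) := by
      rw [fix_iff]
      simpa using hsH
    have hb : s • ((g : G) : G ⧸ H) = ((g : G) : G ⧸ H) := by
      rw [fix_iff]
      exact hsg
    have h2 := congrArg Subtype.val (hsub.elim ⟨_, ha⟩ ⟨_, hb⟩)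
    simp only at h2
    rw [QuotientGroup.eq] at h2
    apply hgH
    simpa using h2

end Cfsg.Agent.S0224
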