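import Cfsg.Statements.S1697
import Cfsg.Agent.Lib.Helper38.Fi23Pres
import Cfsg.Agent.Lib.Helper38.CosetCover
import Cfsg.Agent.Lib.Helper38.Fi23BV
import Cfsg.Agent.Lib.Helper38.Fi23BN
import Cfsg.Agent.Lib.Helper38.Fi23BT
import Cfsg.Agent.Lib.Helper38.Fi23BO
import Cfsg.Agent.Lib.Helper38.Fi23D2V
import Cfsg.Agent.Lib.Helper38.Fi23D2N
import Cfsg.Agent.Lib.Helper38.Fi23D3V
import Cfsg.Agent.Lib.Helper38.Fi23D3N
import Cfsg.Agent.Lib.Helper38.Fi23D4V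
import Cfsg.Agent.Lib.Helper38.Fi23D4N
import Cfsg.Agent.Lib.Helper38.Fi23D5V
import Cfsg.Agent.Lib.Helper38.Fi23D5N
import Cfsg.Agent.Lib.Helper38.Fi23D6V
import Cfsg.Agent.Lib.Helper38.Fi23D6N

set_option autoImplicit false
open Cfsg

namespace Cfsg.Agent.S1697

open Cfsg.Agent.Lib.Helper38 Cfsg.Agent.Lib.Helper38.Fi23P

set_option maxRecDepth 100000
set_option maxHeartbeats 0

/-- the generators -/
noncomputable abbrev γ : ℕ → PresentedGroup rels := fun s => PresentedGroup.of (gen s)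

/-! ### The base certificate -/

theorem B_chkG : Fi23B.cert.chkG = true := by decide +kernel

theorem B_words : (List.range Fi23B.cert.nrel).map Fi23B.cert.wordL = words := by decide +kernel

theorem B_hP : Cert.Pres Fi23B.cert γ (Fi23B.cert.subgp γ) :=
  Fi23B.cert.pres_sub rels gen idx gen_idx idx_lt idx_gen words B_words of_invol of_words
    (fun σ hσ hw => lift_one σ hσ hw) Fi23B.chkN_all

theorem B_hC : Cert.Checks Fi23B.cert := ⟨Fi23B.chkV_all, Fi23B.chkN_all, B_chkG⟩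

/-! ### The chain of presentations: an upper bound for the order -/

/-- the relator words of the presentation number 1 of the chain -/
def W1 : List (List ℕ) := [
  [0, 1, 0, 1, 0, 1],
  [0, 2, 0, 2],
  [0, 3, 0, 3],
  [0, 4, 0, 4],
  [0, 5, 0, 5],
  [0, 6, 0, 6],
  [0, 8, 0, 8],
  [0, 9, 0, 9],
  [1, 2, 1, 2, 1, 2],
  [1, 3, 1, 3],
  [1, 4, 1, 4],
  [1, 5, 1, 5],
  [1, 6, 1, 6],
  [1, 8, 1, 8],
  [1, 9, 1, 9],
  [2, 3, 2, 3, 2, 3],
  [2, 4, 2, 4],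
  [2, 5, 2, 5],
  [2, 6, 2, 6],
  [2, 8, 2, 8],
  [2, 9, 2, 9],
  [3, 4, 3, 4, 3, 4],
  [3, 5, 3, 5],
  [3, 6, 3, 6],
  [3, 8, 3, 8, 3, 8],
  [3, 9, 3, 9],
  [4, 5, 4, 5, 4, 5],
  [4, 6, 4, 6],
  [4, 8, 4, 8],
  [4, 9, 4, 9],
  [5, 6, 5, 6, 5, 6],
  [5, 8, 5, 8],
  [5, 9, 5, 9],
  [6, 8, 6, 8],
  [6, 9, 6, 9],
  [8, 9, 8, 9, 8, 9],
  [3, 2, 1, 3, 4, 5, 3, 8, 9, 3, 2, 1, 3, 4, 5, 3, 8, 9, 3, 2, 1, 3, 4, 5, 3, 8, 9, 3, 2, 1, 3, 4, 5, 3, 8, 9, 3, 2, 1, 3, 4, 5, 3, 8, 9, 3, 2, 1, 3, 4, 5, 3, 8, 9, 3, 2, 1, 3, 4, 5, 3, 8, 9, 3, 2, 1, 3, 4, 5, 3, 8, 9, 3, 2, 1, 3, 4, 5, 3, 8, 9, 3, 2, 1, 3, 4, 5, 3, 8, 9],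
  [0, 1, 2, 3, 4, 5, 8, 0, 1, 2, 3, 4, 5, 8, 0, 1, 2, 3, 4, 5, 8, 0, 1, 2, 3, 4, 5, 8, 0, 1, 2, 3, 4, 5, 8, 0, 1, 2, 3, 4, 5, 8, 0, 1, 2, 3, 4, 5, 8, 0, 1, 2, 3, 4, 5, 8, 0, 1, 2, 3, 4, 5, 8],
  [7]]

theorem C1_chkG : Fi23D2.cert.chkG = true := by decide +kernel

theorem C1_words : (List.range Fi23D2.cert.nrel).map Fi23D2.cert.wordL = W1 := by decide +kernel

theorem C1_hP : Cert.Pres Fi23D2.cert (WP.gen 10 W1) (Fi23D2.cert.subgp (WP.gen 10 W1)) :=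
  WP.pres Fi23D2.cert W1 C1_words Fi23D2.chkN_all

theorem C1_hC : Cert.Checks Fi23D2.cert := ⟨Fi23D2.chkV_all, Fi23D2.chkN_all, C1_chkG⟩

/-- the relator words of the presentation number 2 of the chain -/
def W2 : List (List ℕ) := [
  [1, 2, 1, 2, 1, 2],
  [1, 3, 1, 3],
  [1, 4, 1, 4],
  [1, 5, 1, 5],
  [1, 6, 1, 6],
  [1, 8, 1, 8],
  [1, 9, 1, 9],
  [2, 3, 2, 3, 2, 3],
  [2, 4, 2, 4],
  [2, 5, 2, 5],
  [2, 6, 2, 6],
  [2, 8, 2, 8],
  [2, 9, 2, 9],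
  [3, 4, 3, 4, 3, 4],
  [3, 5, 3, 5],
  [3, 6, 3, 6],
  [3, 8, 3, 8, 3, 8],
  [3, 9, 3, 9],
  [4, 5, 4, 5, 4, 5],
  [4, 6, 4, 6],
  [4, 8, 4, 8],
  [4, 9, 4, 9],
  [5, 6, 5, 6, 5, 6],
  [5, 8, 5, 8],
  [5, 9, 5, 9],
  [6, 8, 6, 8],
  [6, 9, 6, 9],
  [8, 9, 8, 9, 8, 9],
  [3, 2, 1, 3, 4, 5, 3, 8, 9, 3, 2, 1, 3, 4, 5, 3, 8, 9, 3, 2, 1, 3, 4, 5, 3, 8, 9, 3, 2, 1, 3, 4, 5, 3, 8, 9, 3, 2, 1, 3, 4, 5, 3, 8, 9, 3, 2, 1, 3, 4, 5, 3, 8, 9, 3, 2, 1, 3, 4, 5, 3, 8, 9, 3, 2, 1, 3, 4, 5, 3, 8, 9, 3, 2, 1, 3, 4, 5, 3, 8, 9, 3, 2, 1, 3, 4, 5, 3, 8, 9],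
  [0],
  [7]]

theorem C2_chkG : Fi23D3.cert.chkG = true := by decide +kernel

theorem C2_words : (List.range Fi23D3.cert.nrel).map Fi23D3.cert.wordL = W2 := by decide +kernel

theorem C2_hP : Cert.Pres Fi23D3.cert (WP.gen 10 W2) (Fi23D3.cert.subgp (WP.gen 10 W2)) :=
  WP.pres Fi23D3.cert W2 C2_words Fi23D3.chkN_all

theorem C2_hC : Cert.Checks Fi23D3.cert := ⟨Fi23D3.chkV_all, Fi23D3.chkN_all, C2_chkG⟩

/-- the relator words of the presentation number 3 of the chain -/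
def W3 : List (List ℕ) := [
  [1, 2, 1, 2, 1, 2],
  [1, 3, 1, 3],
  [1, 4, 1, 4],
  [1, 5, 1, 5],
  [1, 6, 1, 6],
  [1, 8, 1, 8],
  [2, 3, 2, 3, 2, 3],
  [2, 4, 2, 4],
  [2, 5, 2, 5],
  [2, 6, 2, 6],
  [2, 8, 2, 8],
  [3, 4, 3, 4, 3, 4],
  [3, 5, 3, 5],
  [3, 6, 3, 6],
  [3, 8, 3, 8, 3, 8],
  [4, 5, 4, 5, 4, 5],
  [4, 6, 4, 6],
  [4, 8, 4, 8],
  [5, 6, 5, 6, 5, 6],
  [5, 8, 5, 8],
  [6, 8, 6, 8],
  [0],
  [7],
  [9]]

theorem C3_chkG : Fi23D4.cert.chkG = true := by decide +kernel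

theorem C3_words : (List.range Fi23D4.cert.nrel).map Fi23D4.cert.wordL = W3 := by decide +kernel

theorem C3_hP : Cert.Pres Fi23D4.cert (WP.gen 10 W3) (Fi23D4.cert.subgp (WP.gen 10 W3)) :=
  WP.pres Fi23D4.cert W3 C3_words Fi23D4.chkN_all

theorem C3_hC : Cert.Checks Fi23D4.cert := ⟨Fi23D4.chkV_all, Fi23D4.chkN_all, C3_chkG⟩

/-- the relator words of the presentation number 4 of the chain -/
def W4 : List (List ℕ) := [
  [1, 2, 1, 2, 1, 2],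
  [1, 3, 1, 3],
  [1, 4, 1, 4],
  [1, 5, 1, 5],
  [1, 8, 1, 8],
  [2, 3, 2, 3, 2, 3],
  [2, 4, 2, 4],
  [2, 5, 2, 5],
  [2, 8, 2, 8],
  [3, 4, 3, 4, 3, 4],
  [3, 5, 3, 5],
  [3, 8, 3, 8, 3, 8],
  [4, 5, 4, 5, 4, 5],
  [4, 8, 4, 8],
  [5, 8, 5, 8],
  [0],
  [6],
  [7],
  [9]]

theorem C4_chkG : Fi23D5.cert.chkG = true := by decide +kernel

theorem C4_words : (List.range Fi23D5.cert.nrel).map Fi23D5.cert.wordL = W4 := by decide +kernel

theorem C4_hP : Cert.Pres Fi23D5.cert (WP.gen 10 W4) (Fi23D5.cert.subgp (WP.gen 10 W4)) :=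
  WP.pres Fi23D5.cert W4 C4_words Fi23D5.chkN_all

theorem C4_hC : Cert.Checks Fi23D5.cert := ⟨Fi23D5.chkV_all, Fi23D5.chkN_all, C4_chkG⟩

/-- the relator words of the presentation number 5 of the chain -/
def W5 : List (List ℕ) := [
  [1, 2, 1, 2, 1, 2],
  [1, 3, 1, 3],
  [1, 4, 1, 4],
  [1, 8, 1, 8],
  [2, 3, 2, 3, 2, 3],
  [2, 4, 2, 4],
  [2, 8, 2, 8],
  [3, 4, 3, 4, 3, 4],
  [3, 8, 3, 8, 3, 8],
  [4, 8, 4, 8],
  [0],
  [5],
  [6],
  [7],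
  [9]]

theorem C5_chkG : Fi23D6.cert.chkG = true := by decide +kernel

theorem C5_words : (List.range Fi23D6.cert.nrel).map Fi23D6.cert.wordL = W5 := by decide +kernel

theorem C5_hP : Cert.Pres Fi23D6.cert (WP.gen 10 W5) (Fi23D6.cert.subgp (WP.gen 10 W5)) :=
  WP.pres Fi23D6.cert W5 C5_words Fi23D6.chkN_all

theorem C5_hC : Cert.Checks Fi23D6.cert := ⟨Fi23D6.chkV_all, Fi23D6.chkN_all, C5_chkG⟩

theorem fin5 : Finite (WP 10 W5) ∧ Nat.card (WP 10 W5) = 1920 :=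
  ub_bot C5_hP C5_hC (by decide)

theorem fin4 : Finite (WP 10 W4) ∧ Nat.card (WP 10 W4) ≤ 27 * (1920) := by
  have := fin5.1
  have h := ub_step C4_hP C4_hC W4 (fun w hw => WP.gen_word 10 W4 hw) 10 W5 (actL [1, 2, 3, 4, 8])
    (actL_ge _ 10 (by decide)) (by decide +kernel) (Cert.hsub_of (by decide +kernel))
  exact ⟨h.1, h.2.trans (Nat.mul_le_mul_left _ fin5.2.le)⟩

theorem fin3 : Finite (WP 10 W3) ∧ Nat.card (WP 10 W3) ≤ 56 * (27 * (1920)) := by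
  have := fin4.1
  have h := ub_step C3_hP C3_hC W3 (fun w hw => WP.gen_word 10 W3 hw) 10 W4 (actL [1, 2, 3, 4, 5, 8])
    (actL_ge _ 10 (by decide)) (by decide +kernel) (Cert.hsub_of (by decide +kernel))
  exact ⟨h.1, h.2.trans (Nat.mul_le_mul_left _ fin4.2)⟩

theorem fin2 : Finite (WP 10 W2) ∧ Nat.card (WP 10 W2) ≤ 3159 * (56 * (27 * (1920))) := by
  have := fin3.1
  have h := ub_step C2_hP C2_hC W2 (fun w hw => WP.gen_word 10 W2 hw) 10 W3 (actL [1, 2, 3, 4, 5, 6, 8])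
    (actL_ge _ 10 (by decide)) (by decide +kernel) (Cert.hsub_of (by decide +kernel))
  exact ⟨h.1, h.2.trans (Nat.mul_le_mul_left _ fin3.2)⟩

theorem fin1 : Finite (WP 10 W1) ∧ Nat.card (WP 10 W1) ≤ 14080 * (3159 * (56 * (27 * (1920)))) := by
  have := fin2.1
  have h := ub_step C1_hP C1_hC W1 (fun w hw => WP.gen_word 10 W1 hw) 10 W2 (actL [1, 2, 3, 4, 5, 6, 8, 9])
    (actL_ge _ 10 (by decide)) (by decide +kernel) (Cert.hsub_of (by decide +kernel))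
  exact ⟨h.1, h.2.trans (Nat.mul_le_mul_left _ fin2.2)⟩

theorem fin0 : Finite (PresentedGroup rels) ∧ Nat.card (PresentedGroup rels) ≤ 31671 * (14080 * (3159 * (56 * (27 * (1920))))) := by
  have := fin1.1
  have h := ub_step B_hP B_hC words of_words 10 W1 (actL [0, 1, 2, 3, 4, 5, 6, 8, 9])
    (actL_ge _ 10 (by decide)) (by decide +kernel) (Cert.hsub_of (by decide +kernel))
  exact ⟨h.1, h.2.trans (Nat.mul_le_mul_left _ fin1.2)⟩

/-! ### The stabiliser chain: the order and a base -/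

theorem order_and_base : ∃ φ : PresentedGroup rels →* Equiv.Perm ℕ, (∀ s < 10, φ (γ s) = Fi23B.cert.σ s) ∧
    Nat.card (PresentedGroup rels) = 4089470473293004800 ∧
    ∀ x : PresentedGroup rels, (∀ p ∈ [0, 1, 2, 3, 11246], φ x p = p) → x = 1 := by
  obtain ⟨φ, hφ⟩ := B_hP.hφ
  have := fin0.1
  have r0 : Reach φ [] 0 31671 := reach_top B_hP B_hC φ hφ
  have r1 : Reach φ [0] 1 28160 := by
    have h := Fi23B.T1.reach B_hC φ hφ [0] Fi23B.T1_fix Fi23B.T1_pc0 Fi23B.chkT1_all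
    rw [Fi23B.T1_tot] at h
    exact h
  have r2 : Reach φ [1, 0] 2 3159 := by
    have h := Fi23B.T2.reach B_hC φ hφ [1, 0] Fi23B.T2_fix Fi23B.T2_pc0 Fi23B.chkT2_all
    rw [Fi23B.T2_tot] at h
    exact h
  have r3 : Reach φ [2, 1, 0] 3 288 := by
    have h := Fi23B.T3.reach B_hC φ hφ [2, 1, 0] Fi23B.T3_fix Fi23B.T3_pc0 Fi23B.chkT3_all
    rw [Fi23B.T3_tot] at h
    exact h
  have r4 : Reach φ [3, 2, 1, 0] 11246 5040 := by
    have h := Fi23B.T4.reach B_hC φ hφ [3, 2, 1, 0] Fi23B.T4_fix Fi23B.T4_pc0 Fi23B.chkT4_all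
    rw [Fi23B.T4_tot] at h
    exact h
  have hch : Chain φ [] [(0, 31671), (1, 28160), (2, 3159), (3, 288), (11246, 5040)] :=
    ⟨r0, r1, r2, r3, r4, trivial⟩
  have hub : Nat.card (PresentedGroup rels) ≤ ([(0, 31671), (1, 28160), (2, 3159), (3, 288), (11246, 5040)].map Prod.snd).prod :=
    fin0.2.trans (by decide)
  have h := order_base φ _ hch hub
  exact ⟨φ, hφ, h.1.trans (by decide), h.2⟩

theorem card_eq : Nat.card (PresentedGroup rels) = 4089470473293004800 := by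
  obtain ⟨φ, hφ, hcard, hbase⟩ := order_and_base
  exact hcard

theorem hγ : ∀ s, γ s * γ s = 1 := B_hP.hγ

/-! ### Word identities -/

/-- the word `u` with `z = u s0 u⁻¹` -/
def uw : List ℕ := [7, 6, 5, 4, 3, 2, 1, 8, 3, 2, 4, 3, 5, 4, 6, 5, 7, 6, 8, 3, 2, 4, 3, 5, 4, 8, 3, 2]

/-- the word of the involution `z` -/
def zw : List ℕ := uw ++ 1 :: uw.reverse

/-- the identity words of the base certificate are trivial -/
theorem ids : ∀ wid, 75 ≤ wid → wid < 75 + 19 →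
    ((Fi23B.cert.wordL wid).map γ).prod = 1 := by
  obtain ⟨φ, hφ, hcard, hbase⟩ := order_and_base
  exact words_one_of_base B_hC φ hφ [0, 1, 2, 3, 11246] hbase 75 19 (by decide +kernel)

theorem cw_0 : Fi23B.cert.wordL 75 = [1, 0] ++ 1 :: (([1, 0] : List ℕ).reverse ++ [0]) := by decide +kernel

theorem cw_2 : Fi23B.cert.wordL 76 = [1, 2] ++ 1 :: (([1, 2] : List ℕ).reverse ++ [2]) := by decide +kernel

theorem cw_3 : Fi23B.cert.wordL 77 = [2, 3, 1, 2] ++ 1 :: (([2, 3, 1, 2] : List ℕ).reverse ++ [3]) := by decide +kernel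

theorem cw_4 : Fi23B.cert.wordL 78 = [3, 4, 2, 3, 1, 2] ++ 1 :: (([3, 4, 2, 3, 1, 2] : List ℕ).reverse ++ [4]) := by decide +kernel

theorem cw_5 : Fi23B.cert.wordL 79 = [4, 5, 3, 4, 2, 3, 1, 2] ++ 1 :: (([4, 5, 3, 4, 2, 3, 1, 2] : List ℕ).reverse ++ [5]) := by decide +kernel

theorem cw_6 : Fi23B.cert.wordL 80 = [5, 6, 4, 5, 3, 4, 2, 3, 1, 2] ++ 1 :: (([5, 6, 4, 5, 3, 4, 2, 3, 1, 2] : List ℕ).reverse ++ [6]) := by decide +kernel

theorem cw_7 : Fi23B.cert.wordL 81 = [6, 7, 5, 6, 4, 5, 3, 4, 2, 3, 1, 2] ++ 1 :: (([6, 7, 5, 6, 4, 5, 3, 4, 2, 3, 1, 2] : List ℕ).reverse ++ [7]) := by decide +kernel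

theorem cw_8 : Fi23B.cert.wordL 82 = [3, 8, 2, 3, 1, 2] ++ 1 :: (([3, 8, 2, 3, 1, 2] : List ℕ).reverse ++ [8]) := by decide +kernel

theorem cw_9 : Fi23B.cert.wordL 83 = [8, 9, 3, 8, 2, 3, 1, 2] ++ 1 :: (([8, 9, 3, 8, 2, 3, 1, 2] : List ℕ).reverse ++ [9]) := by decide +kernel

theorem zc_57 : Fi23B.cert.wordL 84 = Fi23B.cert.wordL 57 ++ (zw ++ ((Fi23B.cert.wordL 57).reverse ++ zw)) := by decide +kernel

theorem zc_58 : Fi23B.cert.wordL 85 = Fi23B.cert.wordL 58 ++ (zw ++ ((Fi23B.cert.wordL 58).reverse ++ zw)) := by decide +kernel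

theorem zc_59 : Fi23B.cert.wordL 86 = Fi23B.cert.wordL 59 ++ (zw ++ ((Fi23B.cert.wordL 59).reverse ++ zw)) := by decide +kernel

theorem zc_60 : Fi23B.cert.wordL 87 = Fi23B.cert.wordL 60 ++ (zw ++ ((Fi23B.cert.wordL 60).reverse ++ zw)) := by decide +kernel

theorem zc_61 : Fi23B.cert.wordL 88 = Fi23B.cert.wordL 61 ++ (zw ++ ((Fi23B.cert.wordL 61).reverse ++ zw)) := by decide +kernel

theorem zc_62 : Fi23B.cert.wordL 89 = Fi23B.cert.wordL 62 ++ (zw ++ ((Fi23B.cert.wordL 62).reverse ++ zw)) := by decide +kernel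

theorem zc_63 : Fi23B.cert.wordL 90 = Fi23B.cert.wordL 63 ++ (zw ++ ((Fi23B.cert.wordL 63).reverse ++ zw)) := by decide +kernel

theorem zc_64 : Fi23B.cert.wordL 91 = Fi23B.cert.wordL 64 ++ (zw ++ ((Fi23B.cert.wordL 64).reverse ++ zw)) := by decide +kernel

theorem zc_65 : Fi23B.cert.wordL 92 = Fi23B.cert.wordL 65 ++ (zw ++ ((Fi23B.cert.wordL 65).reverse ++ zw)) := by decide +kernel

theorem zc_all : ∀ wid, Fi23B.cert.nsub ≤ wid → wid < Fi23B.cert.nw →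
    Fi23B.cert.wordL (27 + wid) = Fi23B.cert.wordL wid ++ (zw ++ ((Fi23B.cert.wordL wid).reverse ++ zw)) := by
  intro wid h1 h2
  have h1' : 57 ≤ wid := h1
  have h2' : wid < 66 := h2
  interval_cases wid
  · exact zc_57
  · exact zc_58
  · exact zc_59
  · exact zc_60
  · exact zc_61
  · exact zc_62
  · exact zc_63
  · exact zc_64
  · exact zc_65

/-- a word equal to `z` -/
def xw_0 : List ℕ := [1, 2, 3, 4, 5, 6, 8, 1, 2, 3, 4, 5, 6, 8, 1, 2, 3, 4, 5, 6, 8, 1, 2, 3, 4, 5, 6, 8, 1, 2, 3, 4, 5, 6, 8, 1, 2, 3, 4, 5, 6, 8, 1, 2, 3, 4, 5, 6, 8, 1, 2, 3, 4, 5, 6, 8, 1, 2, 3, 4, 5, 6, 8]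

theorem xc_0 : Fi23B.cert.wordL 93 = xw_0 ++ zw := by decide +kernel

theorem xw_0_eq : (xw_0.map γ).prod = (zw.map γ).prod :=
  eq_of_word_mul hγ xw_0 zw (by decide) (by
    have h := ids 93 (by decide) (by decide)
    rw [xc_0] at h
    exact h)

/-- all generators are conjugate -/
theorem conj_all : ∀ s < 10, ∃ x : PresentedGroup rels, γ s = x * γ 1 * x⁻¹ := by
  intro s hs
  interval_cases s
  · exact ⟨_, conj_of_word hγ [1, 0] 1 0 (by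
      have h := ids 75 (by decide) (by decide)
      rw [cw_0] at h
      exact h)⟩
  · exact ⟨1, by rw [one_mul, inv_one, mul_one]⟩
  · exact ⟨_, conj_of_word hγ [1, 2] 1 2 (by
      have h := ids 76 (by decide) (by decide)
      rw [cw_2] at h
      exact h)⟩
  · exact ⟨_, conj_of_word hγ [2, 3, 1, 2] 1 3 (by
      have h := ids 77 (by decide) (by decide)
      rw [cw_3] at h
      exact h)⟩
  · exact ⟨_, conj_of_word hγ [3, 4, 2, 3, 1, 2] 1 4 (by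
      have h := ids 78 (by decide) (by decide)
      rw [cw_4] at h
      exact h)⟩
  · exact ⟨_, conj_of_word hγ [4, 5, 3, 4, 2, 3, 1, 2] 1 5 (by
      have h := ids 79 (by decide) (by decide)
      rw [cw_5] at h
      exact h)⟩
  · exact ⟨_, conj_of_word hγ [5, 6, 4, 5, 3, 4, 2, 3, 1, 2] 1 6 (by
      have h := ids 80 (by decide) (by decide)
      rw [cw_6] at h
      exact h)⟩
  · exact ⟨_, conj_of_word hγ [6, 7, 5, 6, 4, 5, 3, 4, 2, 3, 1, 2] 1 7 (by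
      have h := ids 81 (by decide) (by decide)
      rw [cw_7] at h
      exact h)⟩
  · exact ⟨_, conj_of_word hγ [3, 8, 2, 3, 1, 2] 1 8 (by
      have h := ids 82 (by decide) (by decide)
      rw [cw_8] at h
      exact h)⟩
  · exact ⟨_, conj_of_word hγ [8, 9, 3, 8, 2, 3, 1, 2] 1 9 (by
      have h := ids 83 (by decide) (by decide)
      rw [cw_9] at h
      exact h)⟩

/-- the centre is trivial -/
theorem cen_one : ∀ c : PresentedGroup rels, (∀ x, c * x = x * c) → c = 1 := by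
  obtain ⟨φ, hφ, hcard, hbase⟩ := order_and_base
  exact fun c hc => central_eq_one B_hP B_hC φ hφ [0, 1, 2, 3, 4, 5, 6, 8, 9] (by decide +kernel) (allB_iff.mpr Fi23B.cenF_all)
    [0, 1, 2, 3, 11246] hbase (by decide) c hc

/-- the subgroup centralises `z` -/
theorem z_comm : ∀ h ∈ Fi23B.cert.subgp γ, h * (zw.map γ).prod = (zw.map γ).prod * h :=
  centralizes hγ Fi23B.cert zw (by decide) 27 zc_all (fun wid h1 h2 => by
    have h1' : 57 ≤ wid := h1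
    have h2' : wid < 66 := h2
    exact ids (27 + wid) (by omega) (by omega))

/-- a relator of odd length -/
def oddw : List ℕ := [0, 1, 2, 3, 4, 5, 8, 0, 1, 2, 3, 4, 5, 8, 0, 1, 2, 3, 4, 5, 8, 0, 1, 2, 3, 4, 5, 8, 0, 1, 2, 3, 4, 5, 8, 0, 1, 2, 3, 4, 5, 8, 0, 1, 2, 3, 4, 5, 8, 0, 1, 2, 3, 4, 5, 8, 0, 1, 2, 3, 4, 5, 8]

/-! ### The maximal subgroup and simplicity -/

theorem B_chkRoots : Fi23B.cert.chkRoots = true := by decide +kernel

theorem B_hO : Cert.OChecks Fi23B.cert := ⟨Fi23B.chkO_all, B_chkRoots⟩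

theorem M_cnt0 : Fi23B.cert.cnt 0 = 1 := by decide +kernel

theorem M_cnt1 : Fi23B.cert.cnt 1 = 3510 := by decide +kernel

theorem M_cnt2 : Fi23B.cert.cnt 2 = 28160 := by
  have hs := Cert.cnt_sum3 B_hO (by decide)
  rw [M_cnt0, M_cnt1] at hs
  have hn : Fi23B.cert.n = 31671 := by decide
  omega

theorem M_comp0 : Fi23B.cert.comp 0 = 0 := by decide +kernel

theorem M_max : ∀ M : Subgroup (PresentedGroup rels), (Fi23B.cert.subgp γ) ≤ M → M = (Fi23B.cert.subgp γ) ∨ M = ⊤ :=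
  Cert.maximal_of_rank3 B_hP B_hC B_hO (by decide) M_comp0 M_cnt0 (Cert.cnt_sum3 B_hO (by decide))
    (by rw [M_cnt1]; decide) (by rw [M_cnt2]; decide)

theorem simple : IsSimpleGroup (PresentedGroup rels) := by
  have : Finite (PresentedGroup rels) := fin0.1
  have : Nontrivial (PresentedGroup rels) :=
    Finite.one_lt_card_iff_nontrivial.mp (by rw [card_eq]; norm_num)
  have hHz : ∀ h ∈ (Fi23B.cert.subgp γ), h * (zw.map γ).prod = (zw.map γ).prod * h := by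
    intro h hh
    have e := B_hP.hH
    rw [e] at hh
    exact z_comm h hh
  exact simple_of_transp_word γ 10 hγ B_hP.hgen uw 1 conj_all (Fi23B.cert.subgp γ) hHz M_max cen_one oddw (by decide) (by decide)
    (of_words oddw (by decide))


/-- The presented Fischer group Fi23 is simple of the expected order (that is, it is a simple group of the order of the Fischer group Fi₂₃). -/
theorem result : Cfsg.IsFi23 Cfsg.Spor.Fi23 := by
  exact ⟨simple, card_eq⟩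

end Cfsg.Agent.S1697
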