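import Cfsg.Statements.S1688
import Cfsg.Agent.S1696
import Cfsg.Agent.S1697
import Cfsg.Agent.Lib.Helper38.CosetCover

set_option autoImplicit false
open Cfsg

namespace Cfsg.Agent.S1688

open Cfsg.Agent.Lib.Helper38 Cfsg.Agent.Lib.Helper38.Fi23P Cfsg.Agent.S1697

set_option maxRecDepth 100000
set_option maxHeartbeats 0
set_option linter.unusedSimpArgs false

/-- the generators of the subgroup -/
abbrev S : Set (FreeGroup Cfsg.Spor.Fi23.Gen) :=
  {Cfsg.Spor.Fi23.a, Cfsg.Spor.Fi23.b, Cfsg.Spor.Fi23.c, Cfsg.Spor.Fi23.d, Cfsg.Spor.Fi23.e, Cfsg.Spor.Fi23.f, Cfsg.Spor.Fi23.g, Cfsg.Spor.Fi23.h, Cfsg.Spor.Fi23.i}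

theorem w_57 : Fi23B.cert.wordL 57 = [0] := by decide +kernel

theorem e_57 : ((Fi23B.cert.wordL 57).map (fun s => (PresentedGroup.of (gen s) : PresentedGroup rels))).prod =
    PresentedGroup.mk rels (Cfsg.Spor.Fi23.a) := by
  rw [w_57]
  simp only [List.map_cons, List.map_nil, List.prod_cons, List.prod_nil, mul_one, gen, PresentedGroup.of,
    map_mul, pow_succ, pow_zero, one_mul, mul_assoc]

theorem w_58 : Fi23B.cert.wordL 58 = [1] := by decide +kernel

theorem e_58 : ((Fi23B.cert.wordL 58).map (fun s => (PresentedGroup.of (gen s) : PresentedGroup rels))).prod =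
    PresentedGroup.mk rels (Cfsg.Spor.Fi23.b) := by
  rw [w_58]
  simp only [List.map_cons, List.map_nil, List.prod_cons, List.prod_nil, mul_one, gen, PresentedGroup.of,
    map_mul, pow_succ, pow_zero, one_mul, mul_assoc]

theorem w_59 : Fi23B.cert.wordL 59 = [2] := by decide +kernel

theorem e_59 : ((Fi23B.cert.wordL 59).map (fun s => (PresentedGroup.of (gen s) : PresentedGroup rels))).prod =
    PresentedGroup.mk rels (Cfsg.Spor.Fi23.c) := by
  rw [w_59]
  simp only [List.map_cons, List.map_nil, List.prod_cons, List.prod_nil, mul_one, gen, PresentedGroup.of,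
    map_mul, pow_succ, pow_zero, one_mul, mul_assoc]

theorem w_60 : Fi23B.cert.wordL 60 = [3] := by decide +kernel

theorem e_60 : ((Fi23B.cert.wordL 60).map (fun s => (PresentedGroup.of (gen s) : PresentedGroup rels))).prod =
    PresentedGroup.mk rels (Cfsg.Spor.Fi23.d) := by
  rw [w_60]
  simp only [List.map_cons, List.map_nil, List.prod_cons, List.prod_nil, mul_one, gen, PresentedGroup.of,
    map_mul, pow_succ, pow_zero, one_mul, mul_assoc]

theorem w_61 : Fi23B.cert.wordL 61 = [4] := by decide +kernel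

theorem e_61 : ((Fi23B.cert.wordL 61).map (fun s => (PresentedGroup.of (gen s) : PresentedGroup rels))).prod =
    PresentedGroup.mk rels (Cfsg.Spor.Fi23.e) := by
  rw [w_61]
  simp only [List.map_cons, List.map_nil, List.prod_cons, List.prod_nil, mul_one, gen, PresentedGroup.of,
    map_mul, pow_succ, pow_zero, one_mul, mul_assoc]

theorem w_62 : Fi23B.cert.wordL 62 = [5] := by decide +kernel

theorem e_62 : ((Fi23B.cert.wordL 62).map (fun s => (PresentedGroup.of (gen s) : PresentedGroup rels))).prod =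
    PresentedGroup.mk rels (Cfsg.Spor.Fi23.f) := by
  rw [w_62]
  simp only [List.map_cons, List.map_nil, List.prod_cons, List.prod_nil, mul_one, gen, PresentedGroup.of,
    map_mul, pow_succ, pow_zero, one_mul, mul_assoc]

theorem w_63 : Fi23B.cert.wordL 63 = [6] := by decide +kernel

theorem e_63 : ((Fi23B.cert.wordL 63).map (fun s => (PresentedGroup.of (gen s) : PresentedGroup rels))).prod =
    PresentedGroup.mk rels (Cfsg.Spor.Fi23.g) := by
  rw [w_63]
  simp only [List.map_cons, List.map_nil, List.prod_cons, List.prod_nil, mul_one, gen, PresentedGroup.of,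
    map_mul, pow_succ, pow_zero, one_mul, mul_assoc]

theorem w_64 : Fi23B.cert.wordL 64 = [8] := by decide +kernel

theorem e_64 : ((Fi23B.cert.wordL 64).map (fun s => (PresentedGroup.of (gen s) : PresentedGroup rels))).prod =
    PresentedGroup.mk rels (Cfsg.Spor.Fi23.h) := by
  rw [w_64]
  simp only [List.map_cons, List.map_nil, List.prod_cons, List.prod_nil, mul_one, gen, PresentedGroup.of,
    map_mul, pow_succ, pow_zero, one_mul, mul_assoc]

theorem w_65 : Fi23B.cert.wordL 65 = [9] := by decide +kernel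

theorem e_65 : ((Fi23B.cert.wordL 65).map (fun s => (PresentedGroup.of (gen s) : PresentedGroup rels))).prod =
    PresentedGroup.mk rels (Cfsg.Spor.Fi23.i) := by
  rw [w_65]
  simp only [List.map_cons, List.map_nil, List.prod_cons, List.prod_nil, mul_one, gen, PresentedGroup.of,
    map_mul, pow_succ, pow_zero, one_mul, mul_assoc]

theorem hS : PresentedGroup.mk rels '' S = {x | ∃ wid, Fi23B.cert.nsub ≤ wid ∧ wid < Fi23B.cert.nw ∧
    ((Fi23B.cert.wordL wid).map (fun s => (PresentedGroup.of (gen s) : PresentedGroup rels))).prod = x} := by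
  ext x
  constructor
  · rintro ⟨w, hw, rfl⟩
    rcases hw with rfl | rfl | rfl | rfl | rfl | rfl | rfl | rfl | rfl
    · exact ⟨57, by decide, by decide, e_57⟩
    · exact ⟨58, by decide, by decide, e_58⟩
    · exact ⟨59, by decide, by decide, e_59⟩
    · exact ⟨60, by decide, by decide, e_60⟩
    · exact ⟨61, by decide, by decide, e_61⟩
    · exact ⟨62, by decide, by decide, e_62⟩
    · exact ⟨63, by decide, by decide, e_63⟩
    · exact ⟨64, by decide, by decide, e_64⟩
    · exact ⟨65, by decide, by decide, e_65⟩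
  · rintro ⟨wid, h1, h2, rfl⟩
    have h1' : 57 ≤ wid := h1
    have h2' : wid < 66 := h2
    interval_cases wid
    · exact ⟨_, Or.inl rfl, e_57.symm⟩
    · exact ⟨_, Or.inr (Or.inl rfl), e_58.symm⟩
    · exact ⟨_, Or.inr (Or.inr (Or.inl rfl)), e_59.symm⟩
    · exact ⟨_, Or.inr (Or.inr (Or.inr (Or.inl rfl))), e_60.symm⟩
    · exact ⟨_, Or.inr (Or.inr (Or.inr (Or.inr (Or.inl rfl)))), e_61.symm⟩
    · exact ⟨_, Or.inr (Or.inr (Or.inr (Or.inr (Or.inr (Or.inl rfl))))), e_62.symm⟩
    · exact ⟨_, Or.inr (Or.inr (Or.inr (Or.inr (Or.inr (Or.inr (Or.inl rfl)))))), e_63.symm⟩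
    · exact ⟨_, Or.inr (Or.inr (Or.inr (Or.inr (Or.inr (Or.inr (Or.inr (Or.inl rfl))))))), e_64.symm⟩
    · exact ⟨_, Or.inr (Or.inr (Or.inr (Or.inr (Or.inr (Or.inr (Or.inr (Or.inr (rfl)))))))), e_65.symm⟩

/-- the subgroup of the statement is the subgroup of the certificate -/
theorem hH : (Subgroup.closure S).map (PresentedGroup.mk rels) = Fi23B.cert.subgp γ := by
  rw [MonoidHom.map_closure, hS]
  rfl

/-- the index of the generators of Fi22 among the generators of Fi23 -/
def iota (s : ℕ) : ℕ := if s < 7 then s else s + 1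

/-- the generators of the subgroup -/
def actK : List ℕ := [0, 1, 2, 3, 4, 5, 6, 8, 9]

theorem rel_split : ∀ w ∈ Fi22P.words, w.map iota ∈ W1 ∨ w.map iota = xw_0 := by decide +kernel

theorem hmem : ∀ s, actL actK s = true → γ s ∈ Fi23B.cert.subgp γ :=
  Cert.gens_mem B_hP actK (by decide +kernel)

theorem exP : ∃ ψ : WP 10 W1 →* PresentedGroup rels, ψ.range = Fi23B.cert.subgp γ ∧
    ∀ s, ψ (WP.gen 10 W1 s) = if actL actK s = true then γ s else 1 :=
  exists_hom_onto B_hP words of_words 10 W1 (actL actK) (actL_ge _ 10 (by decide)) (by decide +kernel)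
    (Cert.hsub_of (by decide +kernel)) hmem

theorem relP : ∀ w ∈ W1, (w.map (WP.gen 10 W1)).prod = 1 := fun w hw => WP.gen_word 10 W1 hw

theorem dead7 : WP.gen 10 W1 7 = 1 := by
  have h := relP [7] (by decide +kernel)
  simpa using h

theorem conjP : ∀ s < 10, s ≠ 7 → IsConj (WP.gen 10 W1 0) (WP.gen 10 W1 s) := by
  intro s hs hne
  interval_cases s
  · exact IsConj.refl _
  · exact (isConj_of_rel (WP.gen_mul_self 10 W1) 0 1 (relP _ (by decide +kernel)))
  · exact ((isConj_of_rel (WP.gen_mul_self 10 W1) 0 1 (relP _ (by decide +kernel))).trans (isConj_of_rel (WP.gen_mul_self 10 W1) 1 2 (relP _ (by decide +kernel))))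
  · exact ((isConj_of_rel (WP.gen_mul_self 10 W1) 0 1 (relP _ (by decide +kernel))).trans ((isConj_of_rel (WP.gen_mul_self 10 W1) 1 2 (relP _ (by decide +kernel))).trans (isConj_of_rel (WP.gen_mul_self 10 W1) 2 3 (relP _ (by decide +kernel)))))
  · exact ((isConj_of_rel (WP.gen_mul_self 10 W1) 0 1 (relP _ (by decide +kernel))).trans ((isConj_of_rel (WP.gen_mul_self 10 W1) 1 2 (relP _ (by decide +kernel))).trans ((isConj_of_rel (WP.gen_mul_self 10 W1) 2 3 (relP _ (by decide +kernel))).trans (isConj_of_rel (WP.gen_mul_self 10 W1) 3 4 (relP _ (by decide +kernel))))))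
  · exact ((isConj_of_rel (WP.gen_mul_self 10 W1) 0 1 (relP _ (by decide +kernel))).trans ((isConj_of_rel (WP.gen_mul_self 10 W1) 1 2 (relP _ (by decide +kernel))).trans ((isConj_of_rel (WP.gen_mul_self 10 W1) 2 3 (relP _ (by decide +kernel))).trans ((isConj_of_rel (WP.gen_mul_self 10 W1) 3 4 (relP _ (by decide +kernel))).trans (isConj_of_rel (WP.gen_mul_self 10 W1) 4 5 (relP _ (by decide +kernel)))))))
  · exact ((isConj_of_rel (WP.gen_mul_self 10 W1) 0 1 (relP _ (by decide +kernel))).trans ((isConj_of_rel (WP.gen_mul_self 10 W1) 1 2 (relP _ (by decide +kernel))).trans ((isConj_of_rel (WP.gen_mul_self 10 W1) 2 3 (relP _ (by decide +kernel))).trans ((isConj_of_rel (WP.gen_mul_self 10 W1) 3 4 (relP _ (by decide +kernel))).trans ((isConj_of_rel (WP.gen_mul_self 10 W1) 4 5 (relP _ (by decide +kernel))).trans (isConj_of_rel (WP.gen_mul_self 10 W1) 5 6 (relP _ (by decide +kernel))))))))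
  · exact absurd rfl hne
  · exact ((isConj_of_rel (WP.gen_mul_self 10 W1) 0 1 (relP _ (by decide +kernel))).trans ((isConj_of_rel (WP.gen_mul_self 10 W1) 1 2 (relP _ (by decide +kernel))).trans ((isConj_of_rel (WP.gen_mul_self 10 W1) 2 3 (relP _ (by decide +kernel))).trans (isConj_of_rel (WP.gen_mul_self 10 W1) 3 8 (relP _ (by decide +kernel))))))
  · exact ((isConj_of_rel (WP.gen_mul_self 10 W1) 0 1 (relP _ (by decide +kernel))).trans ((isConj_of_rel (WP.gen_mul_self 10 W1) 1 2 (relP _ (by decide +kernel))).trans ((isConj_of_rel (WP.gen_mul_self 10 W1) 2 3 (relP _ (by decide +kernel))).trans ((isConj_of_rel (WP.gen_mul_self 10 W1) 3 8 (relP _ (by decide +kernel))).trans (isConj_of_rel (WP.gen_mul_self 10 W1) 8 9 (relP _ (by decide +kernel)))))))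

theorem oddw_ok : ∀ s ∈ oddw, s < 10 ∧ s ≠ 7 := by decide

theorem ab_ne : γ 0 * γ 1 ≠ γ 1 * γ 0 :=
  gens_ne_comm B_hP B_hC 0 1 6 (by decide) (by decide) (by decide) (by decide +kernel)

theorem cardH : Nat.card ↥(Fi23B.cert.subgp γ) = 2 * Nat.card (PresentedGroup Fi22P.rels) := by
  have h1 := Cert.index_eq B_hP B_hC
  have h2 := Subgroup.index_mul_card (Fi23B.cert.subgp γ)
  rw [h1, card_eq] at h2
  have h3 : Fi23B.cert.n = 31671 := by decide
  rw [h3] at h2
  have h4 : Nat.card (PresentedGroup Fi22P.rels) = 64561751654400 := Cfsg.Agent.S1696.result.2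
  rw [h4]
  omega

theorem cover : Cfsg.IsNonsplitDoubleCover ↥(Fi23B.cert.subgp γ) (PresentedGroup Fi22P.rels) := by
  obtain ⟨ψ, hrange, hψ⟩ := exP
  have hFs : IsSimpleGroup (PresentedGroup Fi22P.rels) := Cfsg.Agent.S1696.result.1
  have hFf : Finite (PresentedGroup Fi22P.rels) :=
    Nat.finite_of_card_ne_zero (by rw [Cfsg.Agent.S1696.result.2]; norm_num)
  have hψw : ∀ w : List ℕ, w.all (actL actK) = true → ψ ((w.map (WP.gen 10 W1)).prod) = (w.map γ).prod :=
    fun w hw => hom_word ψ (WP.gen 10 W1) γ (actL actK) hψ w hw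
  refine cover_of_hom Fi22P.rels (Fi23B.cert.subgp γ) ψ hrange (WP.gen 10 W1) 10 (WP.closure_gen 10 W1)
    (WP.gen_mul_self 10 W1) 0
    (fun s hs => if h : s = 7 then Or.inl (by rw [h]; exact dead7) else Or.inr (conjP s hs h))
    oddw (fun s hs => conjP s (oddw_ok s hs).1 (oddw_ok s hs).2) (by decide) (relP oddw (by decide +kernel))
    Fi22P.gen Fi22P.idx 9 Fi22P.idx_gen Fi22P.words (fun σ hσ hw => Fi22P.lift_one σ hσ hw) iota ?_ ?_ cardH
    (WP.gen 10 W1 0) (WP.gen 10 W1 1) ?_
  · intro w hw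
    rcases rel_split w hw with h | h
    · exact Or.inl (relP _ h)
    · right
      intro k hk
      rw [h, hψw xw_0 (by decide +kernel), xw_0_eq]
      exact z_comm k hk
  · intro t ht
    interval_cases t
    · exact Or.inr ⟨0, by decide, by decide⟩
    · exact Or.inr ⟨1, by decide, by decide⟩
    · exact Or.inr ⟨2, by decide, by decide⟩
    · exact Or.inr ⟨3, by decide, by decide⟩
    · exact Or.inr ⟨4, by decide, by decide⟩
    · exact Or.inr ⟨5, by decide, by decide⟩
    · exact Or.inr ⟨6, by decide, by decide⟩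
    · exact Or.inl dead7
    · exact Or.inr ⟨7, by decide, by decide⟩
    · exact Or.inr ⟨8, by decide, by decide⟩
  · have e0 : ψ (WP.gen 10 W1 0) = γ 0 := by rw [hψ]; rfl
    have e1 : ψ (WP.gen 10 W1 1) = γ 1 := by rw [hψ]; rfl
    rw [e0, e1]
    exact ab_ne


/-- In the presented Fischer group Fi₂₃, the subgroup generated by the images of a, …, i is a non-split double cover of the presented Fischer group Fi₂₂. -/
theorem result : Cfsg.IsNonsplitDoubleCover (((Subgroup.closure ({Cfsg.Spor.Fi23.a, Cfsg.Spor.Fi23.b, Cfsg.Spor.Fi23.c, Cfsg.Spor.Fi23.d, Cfsg.Spor.Fi23.e, Cfsg.Spor.Fi23.f, Cfsg.Spor.Fi23.g, Cfsg.Spor.Fi23.h, Cfsg.Spor.Fi23.i} : Set (FreeGroup Cfsg.Spor.Fi23.Gen))).map (PresentedGroup.mk (Cfsg.Spor.coxRelators Cfsg.Spor.Fi23.edges ∪ {r | r ∈ Cfsg.Spor.Fi23.extra})))) Cfsg.Spor.Fi22 := by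
  have e := hH
  rw [e]
  exact cover

end Cfsg.Agent.S1688
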