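import Cfsg.Statements.S0472
import Cfsg.Agent.S1688
import Cfsg.Agent.Lib.Helper38.CosetTransp

set_option autoImplicit false
open Cfsg

namespace Cfsg.Agent.S0472

open Cfsg.Agent.Lib.Helper38 Cfsg.Agent.Lib.Helper38.Fi23P Cfsg.Agent.S1697

set_option maxRecDepth 100000
set_option maxHeartbeats 0

/-- the word of a double coset representative -/
def rw0 : List ℕ := []

/-- the word of a double coset representative -/
def rw1 : List ℕ := [7, 6, 5, 4, 3, 8, 2, 3, 4, 5, 6, 7]

/-- the word of a double coset representative -/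
def rw2 : List ℕ := [7]

/-- the words of the double coset representatives -/
def rwd : ℕ → List ℕ
  | 0 => rw0
  | 1 => rw1
  | _ => rw2

/-- the 3-transposition -/
noncomputable abbrev z : PresentedGroup rels := (zw.map γ).prod

theorem z_sq : z * z = 1 := zword_sq hγ uw 1

theorem g_ne : γ 1 ≠ 1 := by
  intro h
  apply Cfsg.Agent.S1688.ab_ne
  rw [h, mul_one, one_mul]

theorem z_ne : z ≠ 1 := zword_ne hγ uw 1 g_ne

theorem z_conj : ∀ s < 10, ∃ x : PresentedGroup rels, γ s = x * z * x⁻¹ := zword_conj hγ uw 1 10 conj_all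

theorem main : Subgroup.centralizer ({z} : Set (PresentedGroup rels)) = Fi23B.cert.subgp γ ∧
    Cfsg.IsThreeTranspositionClass (conjugatesOf z) ∧
    Nat.card (conjugatesOf z) = (Fi23B.cert.subgp γ).index := by
  obtain ⟨φ, hφ, hcard, hbase⟩ := order_and_base
  have hdc := Cert.double_coset B_hP B_hC B_hO φ hφ (fun k => ((rwd k).map γ).prod) (by
    intro k hk
    have hk' : k < 3 := hk
    interval_cases k
    · show φ ((rw0.map γ).prod) 0 = Fi23B.cert.root 0
      rw [Cert.phi_list B_hC φ hφ rw0 0 (by decide +kernel)]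
      decide +kernel
    · show φ ((rw1.map γ).prod) 0 = Fi23B.cert.root 1
      rw [Cert.phi_list B_hC φ hφ rw1 0 (by decide +kernel)]
      decide +kernel
    · show φ ((rw2.map γ).prod) 0 = Fi23B.cert.root 2
      rw [Cert.phi_list B_hC φ hφ rw2 0 (by decide +kernel)]
      decide +kernel)
  refine transp_class γ 10 B_hP.hgen z z_sq z_ne z_conj (Fi23B.cert.subgp γ) z_comm M_max cen_one
    (fun k => ((rwd k).map γ).prod) 3 hdc ?_
  intro k hk
  interval_cases k
  · exact Or.inl (transp_pair2 hγ zw rw0
      (list_one_of_base B_hC φ hφ [0, 1, 2, 3, 11246] hbase _ (by decide +kernel)))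
  · exact Or.inl (transp_pair2 hγ zw rw1
      (list_one_of_base B_hC φ hφ [0, 1, 2, 3, 11246] hbase _ (by decide +kernel)))
  · exact Or.inr (transp_pair3 hγ zw rw2
      (list_one_of_base B_hC φ hφ [0, 1, 2, 3, 11246] hbase _ (by decide +kernel)))


/-- The Fischer group of order 4089470473293004800 exists as a 3-transposition group: a simple group of that order generated by a conjugacy class of 31671 3-transpositions, the centraliser of each being a non-split double cover of a simple group of order 64561751654400. -/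
theorem result : ∃ (G : Type) (_ : Group G) (_ : Finite G), Cfsg.IsFi23 G ∧ ∃ D : Set G, Cfsg.IsThreeTranspositionClass D ∧ Nat.card D = 31671 ∧ ∀ d ∈ D, ∃ (K : Type) (_ : Group K), Cfsg.IsFi22 K ∧ Cfsg.IsNonsplitDoubleCover (Subgroup.centralizer ({d} : Set G)) K := by
  obtain ⟨hc, hD, hcard⟩ := main
  refine ⟨PresentedGroup rels, inferInstance, fin0.1, Cfsg.Agent.S1697.result, conjugatesOf z, hD, ?_, ?_⟩
  · rw [hcard]
    exact Cert.index_eq B_hP B_hC
  · intro d hd
    obtain ⟨x, rfl⟩ := isConj_iff.mp hd
    refine ⟨PresentedGroup Fi22P.rels, inferInstance, Cfsg.Agent.S1696.result, ?_⟩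
    obtain ⟨e⟩ := centralizer_conj_equiv x z
    have hcov : Cfsg.IsNonsplitDoubleCover ↥(Subgroup.centralizer ({z} : Set (PresentedGroup rels)))
        (PresentedGroup Fi22P.rels) := by
      rw [hc]
      exact Cfsg.Agent.S1688.cover
    have hfin : Finite (PresentedGroup rels) := fin0.1
    exact nonsplit_of_equiv e hcov

end Cfsg.Agent.S0472
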