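import Cfsg.Statements.S0496
import Mathlib
import Cfsg.Agent.S0499
import Cfsg.Agent.S0988
import Cfsg.Agent.Lib.Helper11.S496Route
import Cfsg.Agent.Lib.Helper11.S496PSLORD
import Cfsg.Agent.Lib.Helper77.S496NS904
import Cfsg.Agent.Lib.Helper64.S496NSEMB
import Cfsg.Agent.Lib.Helper64.S496NS420
import Cfsg.Agent.Lib.Helper69.S496SMOOTH
import Cfsg.Agent.Lib.Helper85.S496N720NUM
import Cfsg.Agent.Lib.Helper31.S496N40A
import Cfsg.Agent.Lib.Helper31.S496N40B
import Cfsg.Agent.Lib.Helper75.S496N40C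
import Cfsg.Agent.Lib.Helper86.S496N10TI
import Cfsg.Agent.Lib.Helper61.S496N10SET
import Cfsg.Agent.Lib.Helper35.S496N10AB
import Cfsg.Agent.Lib.Helper88.S496N10D
import Cfsg.Agent.Lib.Helper4.S496N10C
import Cfsg.Agent.Lib.Helper2.S496NS756B
import Cfsg.Agent.Lib.Helper2.S496NS756A

set_option autoImplicit false
open Cfsg

namespace Cfsg.Agent.S0496

theorem ns720 {G : Type*} [Group G] [Finite G] [IsSimpleGroup G] (h : Nat.card G = 720) :
    False := by
  rcases Cfsg.Agent.S496.n3_720 h with h10 | h40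
  · obtain ⟨P, Q, hPQ, hT, hfix, hswap, huniq⟩ :=
      Cfsg.Agent.S496.n10_setup h h10 (Cfsg.Agent.S496.n10_ti h h10)
    exact Cfsg.Agent.S496.n10_c h P Q hPQ hT hswap huniq
      (fun s hsP hsQ hs8 => Cfsg.Agent.S496.n10_a h h10 P Q hPQ hfix s hsP hsQ hs8)
      (fun x hxP hxQ hx4 => Cfsg.Agent.S496.n10_b h h10 P Q hPQ hfix x hxP hxQ hx4)
      (fun u huP huQ hu8 => Cfsg.Agent.S496.n10_d h h10 P Q hPQ hT hfix u huP huQ hu8)
  · obtain ⟨D, hD, hN⟩ :=
      Cfsg.Agent.S496.n40_exists h h40 (Cfsg.Agent.S496.n40_norm h h40)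
    exact Cfsg.Agent.S496.n40_final h h40 (Cfsg.Agent.S496.n40_norm h h40) D hD hN

theorem ns756 {G : Type*} [Group G] [Finite G] [IsSimpleGroup G] (h : Nat.card G = 756) :
    False :=
  Cfsg.Agent.S496.count_756 h
    (fun x hx P Q hPQ hxP hxQ => Cfsg.Agent.S496.bad_756 h x hx P Q hPQ hxP hxQ)

/-- A non-abelian finite simple group of order at most 1092 has order 60, 168, 360, 504, 660 or 1092. -/
theorem result {G : Type*} [Group G] [Finite G] [IsSimpleGroup G]
    (hG : ¬ IsMulCommutative G) (h : Nat.card G ≤ 1092) :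
    Nat.card G = 60 ∨ Nat.card G = 168 ∨ Nat.card G = 360 ∨ Nat.card G = 504 ∨ Nat.card G = 660 ∨
      Nat.card G = 1092 := by
  have hpos : 0 < Nat.card G := Nat.card_pos
  by_cases hbig : ∃ p : ℕ, p.Prime ∧ p ∣ Nat.card G ∧ 11 ≤ p
  · obtain ⟨p, hp, hdvd, h11⟩ := hbig
    have hlt : Nat.card G < p ^ 3 := by
      have : 11 ^ 3 ≤ p ^ 3 := Nat.pow_le_pow_left h11 3
      omega
    rcases Cfsg.Agent.S496.card_of_large_prime hG p hp hdvd hlt h with h1 | h1 | h1 | h1
    · exact Or.inl h1
    · exact Or.inr (Or.inl h1)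
    · exact Or.inr (Or.inr (Or.inr (Or.inr (Or.inl h1))))
    · exact Or.inr (Or.inr (Or.inr (Or.inr (Or.inr h1))))
  · have hs : ∀ p : ℕ, p.Prime → p ∣ Nat.card G → p ≤ 7 := by
      intro p hp hd
      by_contra hlt
      have h11 : 11 ≤ p := by
        by_contra h'
        have h8 : 8 ≤ p := by omega
        have h10 : p ≤ 10 := by omega
        interval_cases p
        · exact absurd hp (by norm_num)
        · exact absurd hp (by norm_num)
        · exact absurd hp (by norm_num)
      exact hbig ⟨p, hp, hd, h11⟩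
    have hd := Cfsg.Agent.S496.smooth_le hpos h hs
    rcases Cfsg.Agent.S496.route h hd with h1 | h2 | h3 | h4 | h5 | h6
    · rcases h1 with h1 | h1 | h1 | h1 | h1
      · have := Finite.one_lt_card (α := G)
        omega
      · exact Or.inl h1
      · exact Or.inr (Or.inl h1)
      · exact Or.inr (Or.inr (Or.inl h1))
      · exact Or.inr (Or.inr (Or.inr (Or.inl h1)))
    · exfalso
      rcases h2 with h2 | h2 | h2 | h2 | h2 | h2
      · exact Cfsg.Agent.S496.solv_false hG 2 3 10 6 (by norm_num) (by norm_num) h2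
      · exact Cfsg.Agent.S496.solv_false hG 2 5 10 4 (by norm_num) (by norm_num) h2
      · exact Cfsg.Agent.S496.solv_false hG 2 7 10 3 (by norm_num) (by norm_num) h2
      · exact Cfsg.Agent.S496.solv_false hG 3 5 6 4 (by norm_num) (by norm_num) h2
      · exact Cfsg.Agent.S496.solv_false hG 3 7 6 3 (by norm_num) (by norm_num) h2
      · exact Cfsg.Agent.S496.solv_false hG 5 7 4 3 (by norm_num) (by norm_num) h2
    · exfalso
      obtain ⟨he, h12, h16, h56⟩ := h3
      have heven : Even (Nat.card G) := Nat.even_iff.mpr he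
      rcases Cfsg.Agent.S0499.result hG heven with h' | h' | h' <;> omega
    · obtain ⟨h7, hlt⟩ := h4
      rcases Cfsg.Agent.S496.card_of_large_prime hG 7 (by norm_num) (Nat.dvd_of_mod_eq_zero h7)
        (by norm_num; omega) h with h1 | h1 | h1 | h1
      · omega
      · exact Or.inr (Or.inl h1)
      · omega
      · omega
    · obtain ⟨h5', hlt⟩ := h5
      rcases Cfsg.Agent.S496.card_of_large_prime hG 5 (by norm_num) (Nat.dvd_of_mod_eq_zero h5')
        (by norm_num; omega) h with h1 | h1 | h1 | h1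
      · exact Or.inl h1
      · omega
      · omega
      · omega
    · exfalso
      rcases h6 with h6 | h6 | h6 | h6 | h6 | h6 | h6 | h6 | h6 | h6 | h6 | h6 | h6 | h6 | h6 | h6 |
        h6 | h6 | h6 | h6
      · exact Cfsg.Agent.S496.ns180 h6
      · exact Cfsg.Agent.S496.ns240 h6
      · exact Cfsg.Agent.S496.ns300 h6
      · exact Cfsg.Agent.S496.ns420 h6
      · exact Cfsg.Agent.S496.ns480 h6
      · have := Cfsg.Agent.S0988.result (G := G) 5 3 7 (by norm_num) (by norm_num) (by norm_num)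
          (by rw [h6]; norm_num)
        omega
      · exact Cfsg.Agent.S496.ns540 h6
      · exact Cfsg.Agent.S496.ns560 h6
      · exact Cfsg.Agent.S496.ns588 h6
      · exact Cfsg.Agent.S496.ns600 h6
      · exact Cfsg.Agent.S496.ns672 h6
      · exact ns720 h6
      · have := Cfsg.Agent.S0988.result (G := G) 7 3 5 (by norm_num) (by norm_num) (by norm_num)
          (by rw [h6]; norm_num)
        omega
      · exact ns756 h6
      · exact Cfsg.Agent.S496.ns840 h6
      · exact Cfsg.Agent.S496.ns900 h6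
      · exact Cfsg.Agent.S496.ns945 h6
      · exact Cfsg.Agent.S496.ns960 h6
      · exact Cfsg.Agent.S496.ns1008 h6
      · exact Cfsg.Agent.S496.ns1080 h6

end Cfsg.Agent.S0496
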