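import Cfsg.Statements.S0508
import Cfsg.Agent.Lib.Helper46.BSWMain
import Cfsg.Agent.Lib.Helper62.BSW2DI
import Cfsg.Agent.Lib.Helper79.BSWD1
import Cfsg.Agent.Lib.Helper86.BSW2D2
import Cfsg.Agent.Lib.Helper87.BSWD3
import Cfsg.Agent.Lib.Helper46.BSW2Z

set_option autoImplicit false
open Cfsg

namespace Cfsg.Agent.S0508

/-- Let G be a finite simple group with a dihedral Sylow 2-subgroup S (of order at least 4), t an involution in the
centre of S, C the centralizer of t and O the core of C (its largest normal subgroup of odd order). Suppose that: if O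
is nontrivial then the centralizer of O in S is cyclic of index 2 in S; every element of S not centralizing O inverts
every element of O; and the normalizer of every nontrivial subgroup of O lies in C. Then G is isomorphic to a projective
special linear group of dimension 2 over a field of odd order. -/
theorem result {G : Type*} [Group G] [Finite G] [IsSimpleGroup G] (S : Sylow 2 G) (n : ℕ)
    (hn : 2 ≤ n) (hS : Nonempty ((S : Subgroup G) ≃* DihedralGroup n)) (t : G) (ht : orderOf t = 2)
    (htS : t ∈ (S : Subgroup G))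
    (htZ : ∀ s ∈ (S : Subgroup G), s * t = t * s) (O : Subgroup G)
    (hO : O = (Cfsg.oddCore (Subgroup.centralizer ({t} : Set G))).map (Subgroup.centralizer ({t} : Set G)).subtype)
    (ha : O ≠ ⊥ → IsCyclic ((S : Subgroup G) ⊓ Subgroup.centralizer (O : Set G) : Subgroup G) ∧
      ((S : Subgroup G) ⊓ Subgroup.centralizer (O : Set G)).relIndex (S : Subgroup G) = 2)
    (hb : ∀ s ∈ (S : Subgroup G), s ∉ Subgroup.centralizer (O : Set G) → ∀ y ∈ O, s * y * s⁻¹ = y⁻¹)
    (hc : ∀ Y : Subgroup G, Y ≤ O → Y ≠ ⊥ → Subgroup.normalizer (Y : Set G) ≤ Subgroup.centralizer ({t} : Set G)) :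
    ∃ (F : Type) (_ : Field F) (_ : Fintype F), Odd (Fintype.card F) ∧ Nonempty (G ≃* Matrix.ProjectiveSpecialLinearGroup (Fin 2) F) := by
  have hconj := Cfsg.Agent.Lib.Helper46.BSW.dih_invol_conj S n hn hS
  obtain ⟨hOodd, hOC, hOn, hOS⟩ :=
    Cfsg.Agent.Lib.Helper46.BSW.dih_cent_struct S n hn hS t ht htS htZ O hO
  obtain ⟨A, hAS, hAcyc, hAidx, htA, hA2, hAinv, hAuniq⟩ :=
    Cfsg.Agent.Lib.Helper46.BSW.dih_cyclic_sub (S : Subgroup G) S.isPGroup' n hn hS t ht htS htZ
  have hSC : (S : Subgroup G) ≤ Subgroup.centralizer ({t} : Set G) := by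
    intro x hx
    rw [Subgroup.mem_centralizer_iff]
    intro y hy
    rw [Set.mem_singleton_iff] at hy
    rw [hy]
    exact (htZ x hx).symm
  obtain ⟨s, K, hSet⟩ := Cfsg.Agent.Lib.Helper46.BSW.dih_setup_core (S : Subgroup G) t ht htS O A
    S.isPGroup' hSC hOodd hOC hOn hOS hAS hAcyc hAidx htA hA2 hAinv hAuniq ha hb hc hconj
  exact Cfsg.Agent.Lib.Helper46.BSW.psl_of_concl (Cfsg.Agent.Lib.Helper46.BSW.bsw_main hSet)

end Cfsg.Agent.S0508
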