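import Cfsg.Statements.S3800
import Mathlib

set_option autoImplicit false
open Cfsg
open scoped Pointwise

namespace Cfsg.Agent.S3800

theorem card_mul_relIndex_of_le {G : Type*} [Group G] {H K : Subgroup G} (h : H ≤ K) :
    Nat.card H * H.relIndex K = Nat.card K := by
  rw [Subgroup.relIndex, ← Subgroup.card_mul_index (H.subgroupOf K),
    Nat.card_congr (Subgroup.subgroupOfEquivOfLe h).toEquiv]

theorem relIndex_of_normal_eq {G : Type*} [Group G] [Finite G] (R T : Subgroup G) [T.Normal] :
    R.relIndex T = R.relIndex (R ⊔ T) := by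
  have hA := card_mul_relIndex_of_le (le_sup_left : R ≤ R ⊔ T)
  have hB := card_mul_relIndex_of_le (le_sup_right : T ≤ R ⊔ T)
  have hB' : T.relIndex (R ⊔ T) = T.relIndex R := Subgroup.relIndex_sup_right R T
  have hC := card_mul_relIndex_of_le (inf_le_left : R ⊓ T ≤ R)
  have hD := card_mul_relIndex_of_le (inf_le_right : R ⊓ T ≤ T)
  rw [Subgroup.inf_relIndex_right] at hD
  rw [inf_comm, Subgroup.inf_relIndex_right, inf_comm] at hC
  rw [hB'] at hB
  have hpos : 0 < Nat.card (R ⊓ T : Subgroup G) := Nat.card_pos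
  have hposR : 0 < Nat.card R := Nat.card_pos
  have key : Nat.card (R ⊓ T : Subgroup G) * Nat.card R * R.relIndex T =
      Nat.card (R ⊓ T : Subgroup G) * Nat.card R * R.relIndex (R ⊔ T) := by
    calc Nat.card (R ⊓ T : Subgroup G) * Nat.card R * R.relIndex T
        = Nat.card R * (Nat.card (R ⊓ T : Subgroup G) * R.relIndex T) := by ring
      _ = Nat.card R * Nat.card T := by rw [hD]
      _ = Nat.card T * (Nat.card (R ⊓ T : Subgroup G) * T.relIndex R) := by rw [hC]; ring
      _ = Nat.card (R ⊓ T : Subgroup G) * (Nat.card T * T.relIndex R) := by ring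
      _ = Nat.card (R ⊓ T : Subgroup G) * (Nat.card R * R.relIndex (R ⊔ T)) := by rw [hB, hA]
      _ = Nat.card (R ⊓ T : Subgroup G) * Nat.card R * R.relIndex (R ⊔ T) := by ring
  exact Nat.eq_of_mul_eq_mul_left (Nat.mul_pos hpos hposR) key

theorem conj_map_mul {G : Type*} [Group G] (H : Subgroup G) (a b : G) :
    H.map (MulAut.conj (a * b)).toMonoidHom =
      (H.map (MulAut.conj b).toMonoidHom).map (MulAut.conj a).toMonoidHom := by
  rw [Subgroup.map_map]
  congr 1
  ext x
  simp [MulAut.conj_apply, mul_assoc]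

theorem conj_map_one {G : Type*} [Group G] (H : Subgroup G) :
    H.map (MulAut.conj (1 : G)).toMonoidHom = H := by
  ext y
  simp

theorem conj_map_of_mem {G : Type*} [Group G] (H : Subgroup G) (u : G) (hu : u ∈ H) :
    H.map (MulAut.conj u).toMonoidHom = H := by
  apply le_antisymm
  · rintro _ ⟨y, hy, rfl⟩
    simp only [MulEquiv.toMonoidHom_eq_coe, MonoidHom.coe_coe, MulAut.conj_apply]
    exact H.mul_mem (H.mul_mem hu hy) (H.inv_mem hu)
  · intro y hy
    refine ⟨u⁻¹ * y * u, H.mul_mem (H.mul_mem (H.inv_mem hu) hy) hu, ?_⟩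
    simp only [MulEquiv.toMonoidHom_eq_coe, MonoidHom.coe_coe, MulAut.conj_apply]
    group

theorem normalizer_part {G : Type*} [Group G] [Finite G] {p : ℕ} [Fact p.Prime] (N : Subgroup G)
    [N.Normal] (hN : (Nat.card N).Coprime p) (P : Subgroup G) (hP : IsPGroup p P) (g : G)
    (hg : (g : G ⧸ N) ∈ Subgroup.normalizer ((P.map (QuotientGroup.mk' N)) : Set (G ⧸ N))) :
    ∃ c ∈ Subgroup.normalizer (P : Set G), (c : G ⧸ N) = (g : G ⧸ N) := by
  have hpp : p.Prime := Fact.out
  set L := N ⊔ P with hL
  have hPL : P ≤ L := le_sup_right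
  set P' := P.map (MulAut.conj g).toMonoidHom with hP'
  have hP'L : P' ≤ L := by
    rintro _ ⟨u, hu, rfl⟩
    have h1 : ((g * u * g⁻¹ : G) : G ⧸ N) ∈ P.map (QuotientGroup.mk' N) := by
      rw [Subgroup.mem_normalizer_iff] at hg
      have := (hg (u : G ⧸ N)).mp ⟨u, hu, rfl⟩
      simpa using this
    have h2 : g * u * g⁻¹ ∈ (P.map (QuotientGroup.mk' N)).comap (QuotientGroup.mk' N) := h1
    rw [Subgroup.comap_map_eq, QuotientGroup.ker_mk', sup_comm] at h2
    simpa using h2
  have hrel : P.relIndex L = P.relIndex N := by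
    rw [hL, sup_comm, ← relIndex_of_normal_eq]
  have hcardP' : Nat.card P' = Nat.card P :=
    (Nat.card_congr (Subgroup.equivMapOfInjective P (MulAut.conj g).toMonoidHom
      (MulAut.conj g).injective).toEquiv).symm
  have hrel' : P'.relIndex L = P.relIndex L := by
    have h1 := card_mul_relIndex_of_le hPL
    have h2 := card_mul_relIndex_of_le hP'L
    rw [hcardP', ← h1] at h2
    exact Nat.eq_of_mul_eq_mul_left Nat.card_pos h2
  have hnd : ¬ p ∣ P.relIndex L := by
    rw [hrel]
    intro h
    have h3 : p ∣ Nat.card N := h.trans (Subgroup.relIndex_dvd_card P N)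
    exact (Nat.Prime.coprime_iff_not_dvd hpp).mp hN.symm h3
  have hnd' : ¬ p ∣ P'.relIndex L := by rw [hrel']; exact hnd
  have hp1 : IsPGroup p (P.subgroupOf L) := hP.comap_of_injective L.subtype L.subtype_injective
  have hp2 : IsPGroup p (P'.subgroupOf L) :=
    (hP.map _).comap_of_injective L.subtype L.subtype_injective
  obtain ⟨l, hl⟩ := MulAction.exists_smul_eq L (hp1.toSylow hnd) (hp2.toSylow hnd')
  have hl1 : MulAut.conj l • P.subgroupOf L = P'.subgroupOf L := by
    have := congrArg (fun S : Sylow p L => (S : Subgroup L)) hl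
    exact this
  rw [Subgroup.conj_smul_subgroupOf hPL l] at hl1
  have hl2 : MulAut.conj (l : G) • P = P' := by
    have := congrArg (fun K => K.map L.subtype) hl1
    simp only [Subgroup.subgroupOf_map_subtype] at this
    rwa [inf_of_le_left (Subgroup.conj_smul_le_of_le hPL l), inf_of_le_left hP'L] at this
  have hl3 : P.map (MulAut.conj (l : G)).toMonoidHom = P' := hl2
  obtain ⟨n, hn, u, hu, hnu⟩ := Subgroup.mem_sup_of_normal_left.mp l.2
  refine ⟨n⁻¹ * g, ?_, ?_⟩
  · rw [Subgroup.mem_normalizer_iff_map_conj_eq]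
    have h4 : P.map (MulAut.conj (n⁻¹ * g)).toMonoidHom = P := by
      rw [conj_map_mul, ← hP', ← hl3, ← hnu, ← conj_map_mul, ← mul_assoc, inv_mul_cancel, one_mul,
        conj_map_of_mem P u hu]
    exact h4
  · rw [QuotientGroup.eq]
    have : (n⁻¹ * g)⁻¹ * g = g⁻¹ * n * g⁻¹⁻¹ := by group
    rw [this]
    exact (inferInstance : N.Normal).conj_mem n hn g⁻¹

theorem centralizer_part {G : Type*} [Group G] [Finite G] {p : ℕ} [Fact p.Prime] (N : Subgroup G)
    [N.Normal] (hN : (Nat.card N).Coprime p) (P : Subgroup G) (hP : IsPGroup p P) (g : G)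
    (hg : (g : G ⧸ N) ∈ Subgroup.centralizer ((P.map (QuotientGroup.mk' N)) : Set (G ⧸ N))) :
    ∃ c ∈ Subgroup.centralizer (P : Set G), (c : G ⧸ N) = (g : G ⧸ N) := by
  have hpp : p.Prime := Fact.out
  let X := {y : G // (y : G ⧸ N) = (g : G ⧸ N)}
  have hmemX : ∀ (u : P) (y : X), (((u : G) * (y : G) * (u : G)⁻¹ : G) : G ⧸ N) = (g : G ⧸ N) := by
    intro u y
    rw [Subgroup.mem_centralizer_iff] at hg
    have h1 := hg (u : G ⧸ N) ⟨u, u.2, rfl⟩
    rw [QuotientGroup.mk_mul, QuotientGroup.mk_mul, y.2, h1, QuotientGroup.mk_inv]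
    group
  let _ : MulAction P X :=
    { smul := fun u y => ⟨(u : G) * (y : G) * (u : G)⁻¹, hmemX u y⟩
      one_smul := by
        intro y
        apply Subtype.ext
        change ((1 : P) : G) * (y : G) * ((1 : P) : G)⁻¹ = y
        simp
      mul_smul := by
        intro u v y
        apply Subtype.ext
        change ((u * v : P) : G) * (y : G) * ((u * v : P) : G)⁻¹ =
          (u : G) * ((v : G) * (y : G) * (v : G)⁻¹) * (u : G)⁻¹
        simp [mul_assoc] }
  have hsmul : ∀ (u : P) (y : X), ((u • y : X) : G) = (u : G) * (y : G) * (u : G)⁻¹ :=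
    fun u y => rfl
  let e : N ≃ X :=
    { toFun := fun n => ⟨g * n, by
        rw [QuotientGroup.eq]
        have : (g * (n : G))⁻¹ * g = (n : G)⁻¹ := by group
        rw [this]
        exact N.inv_mem n.2⟩
      invFun := fun y => ⟨g⁻¹ * y, by
        have := QuotientGroup.eq.mp y.2.symm
        exact this⟩
      left_inv := by
        intro n
        apply Subtype.ext
        simp
      right_inv := by
        intro y
        apply Subtype.ext
        simp }
  have hcard : Nat.card X = Nat.card N := (Nat.card_congr e).symm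
  have hnd : ¬ p ∣ Nat.card X := by
    rw [hcard]
    exact (Nat.Prime.coprime_iff_not_dvd hpp).mp hN.symm
  obtain ⟨y, hy⟩ := hP.nonempty_fixed_point_of_prime_not_dvd_card X hnd
  refine ⟨y, ?_, y.2⟩
  rw [Subgroup.mem_centralizer_iff]
  intro u hu
  have h1 := hy ⟨u, hu⟩
  have h2 : u * (y : G) * u⁻¹ = y := by
    have := congrArg Subtype.val h1
    rwa [hsmul] at this
  calc u * (y : G) = u * (y : G) * u⁻¹ * u := by group
    _ = y * u := by rw [h2]

/-- Let G be a finite group, N a normal subgroup of G whose order is prime to p, and P a p-subgroup of G. Then in G/N the normalizer of the image of P is the image of N_G(P), and the centralizer of the image of P is the image of C_G(P). -/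
theorem result {G : Type*} [Group G] [Finite G] {p : ℕ} [Fact p.Prime] (N : Subgroup G) [N.Normal] (hN : (Nat.card N).Coprime p) (P : Subgroup G) (hP : IsPGroup p P) : Subgroup.normalizer ((P.map (QuotientGroup.mk' N)) : Set (G ⧸ N)) = (Subgroup.normalizer (P : Set G)).map (QuotientGroup.mk' N) ∧ Subgroup.centralizer ((P.map (QuotientGroup.mk' N)) : Set (G ⧸ N)) = (Subgroup.centralizer (P : Set G)).map (QuotientGroup.mk' N) := by
  constructor
  · apply le_antisymm
    · intro q hq
      obtain ⟨g, rfl⟩ := QuotientGroup.mk'_surjective N q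
      obtain ⟨c, hc, hcg⟩ := normalizer_part N hN P hP g hq
      exact ⟨c, hc, hcg⟩
    · exact Subgroup.le_normalizer_map _
  · apply le_antisymm
    · intro q hq
      obtain ⟨g, rfl⟩ := QuotientGroup.mk'_surjective N q
      obtain ⟨c, hc, hcg⟩ := centralizer_part N hN P hP g hq
      exact ⟨c, hc, hcg⟩
    · rintro _ ⟨c, hc, rfl⟩
      rw [Subgroup.mem_centralizer_iff]
      rintro _ ⟨u, hu, rfl⟩
      have := (Subgroup.mem_centralizer_iff.mp hc) u hu
      simp only [QuotientGroup.mk'_apply]
      rw [← QuotientGroup.mk_mul, ← QuotientGroup.mk_mul, this]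

end Cfsg.Agent.S3800
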