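import Cfsg.Statements.S0629
import Cfsg.Agent.S3800
import Cfsg.Agent.Lib.Helper30.PLayer
import Cfsg.Agent.Lib.Helper40.HallHigman

set_option autoImplicit false
open Cfsg
open Cfsg.Agent.Lib.Helper30

namespace Cfsg.Agent.S0629

theorem isPSolvable_of_surjective {A B : Type*} [Group A] [Group B] (p : ℕ) [Fact p.Prime]
    (f : A →* B) (hf : Function.Surjective f) (h : IsPSolvable p A) : IsPSolvable p B := by
  obtain ⟨n, H, h0, hlast, hmono, hnorm, hfac⟩ := h
  refine ⟨n, fun i => (H i).map f, ?_, ?_, ?_, ?_, ?_⟩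
  · simp [h0]
  · simp only [hlast]; exact Subgroup.map_top_of_surjective f hf
  · intro i j hij; exact Subgroup.map_mono (hmono hij)
  · intro i; exact (hnorm i).map f hf
  · intro i
    have hle : H i.castSucc ≤ H i.succ := hmono (Fin.castSucc_lt_succ).le
    have hn0 : (H i.castSucc).Normal := hnorm _
    have hdvd : ((H i.castSucc).map f).relIndex ((H i.succ).map f) ∣
        (H i.castSucc).relIndex (H i.succ) := by
      rw [Subgroup.relIndex_map_map]
      have e1 : H i.succ ⊔ f.ker = H i.succ ⊔ (H i.castSucc ⊔ f.ker) := by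
        rw [← sup_assoc, sup_eq_left.mpr hle]
      rw [e1, Subgroup.relIndex_sup_right, ← Subgroup.inf_relIndex_right]
      have h1 : H i.castSucc ≤ (H i.castSucc ⊔ f.ker) ⊓ H i.succ := le_inf le_sup_left hle
      exact Dvd.intro_left _ (Subgroup.relIndex_mul_relIndex _ _ _ h1 inf_le_right)
    rcases hfac i with ⟨m, hm⟩ | hc
    · left
      rw [hm] at hdvd
      obtain ⟨j, -, hj⟩ := (Nat.dvd_prime_pow Fact.out).mp hdvd
      exact ⟨j, hj⟩
    · right
      exact Nat.Coprime.coprime_dvd_left hdvd hc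

/-- If `C_G(P)` is `p`-solvable for a Sylow `p`-subgroup `P` of `O_{p',p}(G)`, then in
`G / O_{p'}(G)` the centralizer of `O_p` lies in `O_p`. -/
theorem centralizer_pCore_quotient_le {G : Type*} [Group G] [Finite G] {p : ℕ} [Fact p.Prime]
    (P : Sylow p ↥(pPrimePCore p G))
    (hsol : IsPSolvable p ↥(Subgroup.centralizer
      (((P : Subgroup ↥(pPrimePCore p G)).map (pPrimePCore p G).subtype : Subgroup G) : Set G))) :
    Subgroup.centralizer (pCore p (G ⧸ pPrimeCore p G) : Set (G ⧸ pPrimeCore p G))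
      ≤ pCore p (G ⧸ pPrimeCore p G) := by
  have hOc : (Nat.card (pPrimeCore p G)).Coprime p := pPrimeCore_coprime p
  have hPp : IsPGroup p ((P : Subgroup ↥(pPrimePCore p G)).map (pPrimePCore p G).subtype) :=
    P.isPGroup'.map _
  have hPmap := sylow_pPrimePCore_map p P
  obtain ⟨-, hcent⟩ := Cfsg.Agent.S3800.result (pPrimeCore p G) hOc _ hPp
  rw [hPmap] at hcent
  have hDn : (Subgroup.centralizer
      (pCore p (G ⧸ pPrimeCore p G) : Set (G ⧸ pPrimeCore p G))).Normal := inferInstance
  have hDsol : IsPSolvable p ↥(Subgroup.centralizer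
      (pCore p (G ⧸ pPrimeCore p G) : Set (G ⧸ pPrimeCore p G))) := by
    have h1 := isPSolvable_of_surjective p _
      (MonoidHom.subgroupMap_surjective (QuotientGroup.mk' (pPrimeCore p G)) _) hsol
    rw [← hcent] at h1
    exact h1
  have hDbot : pPrimeCore p ↥(Subgroup.centralizer
      (pCore p (G ⧸ pPrimeCore p G) : Set (G ⧸ pPrimeCore p G))) = ⊥ := by
    have h1 := pPrimeCore_map_subtype_le p hDn.isSubnormal
    rw [pPrimeCore_quotient_eq_bot, le_bot_iff,
      Subgroup.map_eq_bot_iff_of_injective _ (Subgroup.subtype_injective _)] at h1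
    exact h1
  have hHH := Cfsg.Agent.Lib.Helper40.centralizer_pCore_le hDsol hDbot
  have hQle := pCore_map_subtype_le p hDn.isSubnormal
  intro d hd
  have htop : (⟨d, hd⟩ : ↥(Subgroup.centralizer
      (pCore p (G ⧸ pPrimeCore p G) : Set (G ⧸ pPrimeCore p G)))) ∈ Subgroup.centralizer
      (pCore p ↥(Subgroup.centralizer
        (pCore p (G ⧸ pPrimeCore p G) : Set (G ⧸ pPrimeCore p G))) : Set _) := by
    rw [Subgroup.mem_centralizer_iff]
    intro q hq
    have hq' := hQle (Subgroup.mem_map_of_mem _ hq)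
    have h2 := hd
    rw [Subgroup.mem_centralizer_iff] at h2
    exact Subtype.ext (h2 _ hq')
  exact hQle (Subgroup.mem_map_of_mem _ (hHH htop))

/-- A group in which the centralizer of a Sylow p-subgroup of O_{p',p}(G) is p-solvable is p-constrained. -/
theorem result {G : Type*} [Group G] [Finite G] {p : ℕ} [Fact p.Prime] (P : Sylow p ↥(Cfsg.pPrimePCore p G)) (hsol : Cfsg.IsPSolvable p ↥(Subgroup.centralizer (((P : Subgroup ↥(Cfsg.pPrimePCore p G)).map (Cfsg.pPrimePCore p G).subtype : Subgroup G) : Set G))) : Cfsg.IsPConstrained p G := by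
  have hDQ := centralizer_pCore_quotient_le P hsol
  intro P' c hc
  have hP'map := sylow_pPrimePCore_map p P'
  have h1 : (QuotientGroup.mk' (pPrimeCore p G)) c ∈ Subgroup.centralizer
      ((((P' : Subgroup ↥(pPrimePCore p G)).map (pPrimePCore p G).subtype).map
        (QuotientGroup.mk' (pPrimeCore p G)) : Subgroup (G ⧸ pPrimeCore p G)) :
          Set (G ⧸ pPrimeCore p G)) := by
    rw [Subgroup.mem_centralizer_iff]
    rintro _ ⟨y, hy, rfl⟩
    rw [Subgroup.mem_centralizer_iff] at hc
    rw [← map_mul, ← map_mul, hc y hy]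
  rw [hP'map] at h1
  exact hDQ h1

end Cfsg.Agent.S0629
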