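import Cfsg.Statements.S0652
import Cfsg.Agent.S0651

set_option autoImplicit false
open Cfsg

namespace Cfsg.Agent.S0652

theorem elem_map_iff {S : Type*} [Group S] (p : ℕ) (D : Subgroup S) (A₀ : Subgroup D) :
    IsElementaryAbelian p A₀ ↔ IsElementaryAbelian p (A₀.map D.subtype) := by
  unfold IsElementaryAbelian
  rw [← Cfsg.Agent.S0651.comm_map_iff D A₀]
  refine and_congr_right fun _ => ?_
  constructor
  · rintro h a ⟨a₀, ha₀, rfl⟩
    have h2 := congrArg Subtype.val (h a₀ ha₀)
    simpa using h2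
  · intro h a₀ ha₀
    have h2 := h _ (Subgroup.mem_map_of_mem D.subtype ha₀)
    apply Subtype.ext
    simpa using h2

/-- For odd p and D normal in the p-group S, the elementary abelian subgroups of D of largest order satisfy the replacement property for class-2 normal subgroups of S. -/
theorem result {S : Type*} [Group S] [Finite S] {p : ℕ} [Fact p.Prime] (hS : IsPGroup p S) (hp : p ≠ 2) (D : Subgroup S) [D.Normal] : ∀ (B : Subgroup S) [B.Normal], ⁅⁅B, B⁆, B⁆ = ⊥ → (∃ U ∈ (Set.image (fun A : Subgroup ↥D => A.map D.subtype) (Cfsg.maxElementaryAbelianSubgroups p ↥D)), ⁅B, B⁆ ≤ U ∧ ¬ B ≤ U) → ∃ A ∈ (Set.image (fun A : Subgroup ↥D => A.map D.subtype) (Cfsg.maxElementaryAbelianSubgroups p ↥D)), ⁅B, B⁆ ≤ A ∧ ¬ B ≤ A ∧ B ≤ Subgroup.normalizer (A : Set S) := by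
  intro B _ _ hU
  have key := Cfsg.Agent.S0651.mem_image_iff D (fun A₀ : Subgroup D => IsElementaryAbelian p A₀)
    (fun A : Subgroup S => IsElementaryAbelian p A) (fun A₀ => elem_map_iff p D A₀)
  obtain ⟨U, hU1, hU2, hU3⟩ := hU
  have hU1' := (key U).1 hU1
  obtain ⟨A, hA1, hA2, hA3, hA4⟩ := Cfsg.Agent.S0651.replacement_general hS hp D
    (fun A => IsElementaryAbelian p A) (fun A h => h.1) (fun A A' hA hc hdvd => by
      refine ⟨hc, fun a ha => ?_⟩
      have h1 : Monoid.exponent A ∣ p := by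
        apply Monoid.exponent_dvd_of_forall_pow_eq_one
        intro g
        apply Subtype.ext
        have h2 := hA.2 g.1 g.2
        simpa using h2
      obtain ⟨k, hk⟩ := hdvd.trans h1
      have h3 : (⟨a, ha⟩ : A') ^ p = 1 := by
        rw [hk, pow_mul, Monoid.pow_exponent_eq_one, one_pow]
      have h4 := congrArg Subtype.val h3
      simpa using h4) B ⟨U, hU1', hU2, hU3⟩
  exact ⟨A, (key A).2 hA1, hA2, hA3, hA4⟩

end Cfsg.Agent.S0652
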