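import Cfsg.Statements.S0655
import Mathlib

set_option autoImplicit false
open Cfsg

namespace Cfsg.Agent.S0655

theorem exists_max {S : Type*} [Group S] [Finite S] (p : ℕ) :
    (Cfsg.maxElementaryAbelianSubgroups p S).Nonempty := by
  classical
  have hbot : Cfsg.IsElementaryAbelian p (⊥ : Subgroup S) := by
    refine ⟨inferInstance, ?_⟩
    intro a ha
    rw [Subgroup.mem_bot] at ha
    subst ha
    exact one_pow p
  have : Nonempty {A : Subgroup S // Cfsg.IsElementaryAbelian p A} := ⟨⟨⊥, hbot⟩⟩
  obtain ⟨A, hA⟩ := Finite.exists_max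
    (fun A : {A : Subgroup S // Cfsg.IsElementaryAbelian p A} => Nat.card (A : Subgroup S))
  exact ⟨A.1, A.2, fun B hB => hA ⟨B, hB⟩⟩

/-- In a p-group the intersection of all elementary abelian subgroups of largest order is the subgroup generated by the elements of order dividing p in the centre (equivalently the centralizer) of the elementary-version Thompson subgroup. -/
theorem result {S : Type*} [Group S] [Finite S] {p : ℕ} [Fact p.Prime] (hS : IsPGroup p S) : sInf (Cfsg.maxElementaryAbelianSubgroups p S) = Cfsg.omegaCenterThompson p S ∧ Cfsg.omegaCenterThompson p S = Cfsg.omegaOne p (Subgroup.centralizer (Cfsg.thompsonSubgroup p S : Set S)) := by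
  classical
  have h1 : sInf (Cfsg.maxElementaryAbelianSubgroups p S) ≤ Cfsg.omegaCenterThompson p S := by
    intro x hx
    obtain ⟨A₀, hA₀⟩ := exists_max (S := S) p
    have hxA₀ : x ∈ A₀ := (Subgroup.mem_sInf.mp hx) A₀ hA₀
    apply Subgroup.subset_closure
    refine ⟨Subgroup.mem_inf.mpr ⟨?_, ?_⟩, hA₀.1.2 x hxA₀⟩
    · exact (le_sSup hA₀ : A₀ ≤ sSup (Cfsg.maxElementaryAbelianSubgroups p S)) hxA₀
    · have h1 : sSup (Cfsg.maxElementaryAbelianSubgroups p S) ≤
          Subgroup.centralizer ({x} : Set S) := by
        apply sSup_le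
        intro A hA y hy
        rw [Subgroup.mem_centralizer_singleton_iff]
        have hxA : x ∈ A := (Subgroup.mem_sInf.mp hx) A hA
        have := hA.1.1
        exact setLike_mul_comm hy hxA
      rw [Subgroup.mem_centralizer_iff]
      intro y hy
      have h3 := h1 hy
      rw [Subgroup.mem_centralizer_singleton_iff] at h3
      exact h3
  have h2 : Cfsg.omegaCenterThompson p S ≤
      Cfsg.omegaOne p (Subgroup.centralizer (Cfsg.thompsonSubgroup p S : Set S)) := by
    apply Subgroup.closure_mono
    rintro x ⟨hx, hxp⟩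
    exact ⟨hx.2, hxp⟩
  have h3 : Cfsg.omegaOne p (Subgroup.centralizer (Cfsg.thompsonSubgroup p S : Set S)) ≤
      sInf (Cfsg.maxElementaryAbelianSubgroups p S) := by
    apply (Subgroup.closure_le _).mpr
    rintro x ⟨hx, hxp⟩
    rw [SetLike.mem_coe, Subgroup.mem_sInf]
    intro A hA
    have hxA : ∀ y ∈ A, y * x = x * y := by
      intro y hy
      exact hx y ((le_sSup hA : A ≤ sSup (Cfsg.maxElementaryAbelianSubgroups p S)) hy)
    have := hA.1.1
    have hcomm : IsMulCommutative (Subgroup.closure ((A : Set S) ∪ {x})) := by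
      apply Subgroup.isMulCommutative_closure
      rintro y (hy | hy) z (hz | hz)
      · exact setLike_mul_comm hy hz
      · rw [Set.mem_singleton_iff] at hz; subst hz; exact hxA y hy
      · rw [Set.mem_singleton_iff] at hy; subst hy; exact (hxA z hz).symm
      · rw [Set.mem_singleton_iff] at hy hz; subst hy; subst hz; rfl
    have hexp : ∀ y ∈ Subgroup.closure ((A : Set S) ∪ {x}), y ^ p = 1 := by
      intro y hy
      induction hy using Subgroup.closure_induction with
      | mem y hy =>
        rcases hy with hy | hy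
        · exact hA.1.2 y hy
        · rw [Set.mem_singleton_iff] at hy; subst hy; exact hxp
      | one => exact one_pow p
      | mul y z hy hz ihy ihz =>
        have hc : Commute y z := setLike_mul_comm hy hz
        rw [hc.mul_pow, ihy, ihz, one_mul]
      | inv y hy ihy => rw [inv_pow, ihy, inv_one]
    have hle : A ≤ Subgroup.closure ((A : Set S) ∪ {x}) :=
      fun y hy => Subgroup.subset_closure (Or.inl hy)
    have hcard := hA.2 _ ⟨hcomm, hexp⟩
    have heq := Subgroup.eq_of_le_of_card_ge hle hcard
    rw [heq]
    exact Subgroup.subset_closure (Or.inr rfl)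
  exact ⟨le_antisymm h1 (h2.trans h3), le_antisymm h2 (h3.trans h1)⟩

end Cfsg.Agent.S0655
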