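import Cfsg.Statements.S0654
import Cfsg.Agent.S0655
import Cfsg.Agent.S0652
import Cfsg.Agent.Lib.Helper15.ZJ

set_option autoImplicit false
open Cfsg

namespace Cfsg.Agent.S0654

open Cfsg.Agent.Lib.Helper15

theorem omega_eq_wSub {G : Type*} [Group G] [Finite G] {p : ℕ} [Fact p.Prime] (S : Subgroup G)
    (hS : IsPGroup p S) :
    (Cfsg.omegaCenterThompson p ↥S).map S.subtype =
      wSub (fun A : Subgroup G => IsElementaryAbelian p A) S := by
  rw [wSub_eq_map_sInf S (fun A₀ : Subgroup ↥S => IsElementaryAbelian p A₀) _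
    Cfsg.Agent.Lib.Helper14.ea_bot (fun A₀ => Cfsg.Agent.S0652.elem_map_iff p S A₀)]
  have hS' : IsPGroup p ↥S := hS
  rw [← (Cfsg.Agent.S0655.result hS').1]
  rfl

/-- The ZJ-Theorem for the elementary-abelian Thompson subgroup: for an odd prime p, a finite group G with C_G(O_p(G)) ≤ O_p(G) acting p-stably on its normal p-subgroups, and a Sylow p-subgroup S of G, the subgroup generated by the elements of order dividing p in Z(J_e(S)) is characteristic in G. -/
theorem result {G : Type*} [Group G] [Finite G] {p : ℕ} [Fact p.Prime] (hp : p ≠ 2) (hc : Subgroup.centralizer (Cfsg.pCore p G : Set G) ≤ Cfsg.pCore p G) (hst : ∀ (P : Subgroup G) [P.Normal], IsPGroup p P → Cfsg.IsPStableOn p P) (S : Sylow p G) : ((Cfsg.omegaCenterThompson p ↥(S : Subgroup G)).map (S : Subgroup G).subtype).Characteristic := by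
  rw [omega_eq_wSub _ S.isPGroup']
  exact wSub_characteristic hp Cfsg.Agent.Lib.Helper14.ea_bot
    (fun φ A h => Cfsg.Agent.Lib.Helper14.ea_map φ.toMonoidHom h)
    (fun A h => h.1)
    (fun A A' hA hc hdvd => by
      refine ⟨hc, fun a ha => ?_⟩
      have h1 : Monoid.exponent A ∣ p := by
        apply Monoid.exponent_dvd_of_forall_pow_eq_one
        intro g
        apply Subtype.ext
        have h2 := hA.2 g.1 g.2
        simpa using h2
      obtain ⟨k, hk⟩ := hdvd.trans h1
      have h3 : (⟨a, ha⟩ : A') ^ p = 1 := by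
        rw [hk, pow_mul, Monoid.pow_exponent_eq_one, one_pow]
      have h4 := congrArg Subtype.val h3
      simpa using h4) hc hst S

end Cfsg.Agent.S0654
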