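import Cfsg.Statements.S0658
import Cfsg.Agent.S0647
import Cfsg.Agent.S0650
import Cfsg.Agent.Lib.Helper15.ZJ2
import Cfsg.Agent.Lib.Helper14.VOmega

set_option autoImplicit false
open Cfsg

namespace Cfsg.Agent.S0658

open Cfsg.Agent.Lib.Helper15

theorem exists_normalizer_not_mem' {G : Type*} [Group G] [Finite G] (p : ℕ) [Fact p.Prime]
    (R D : Subgroup G) (hR : IsPGroup p R) (hDR : D ≤ R) (hne : ¬ R ≤ D) :
    ∃ t ∈ R, t ∉ D ∧ t ∈ Subgroup.normalizer (D : Set G) := by
  have : Group.IsNilpotent R := hR.isNilpotent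
  have hlt : D.subgroupOf R < ⊤ := by
    rw [lt_top_iff_ne_top]
    intro h
    exact hne (Subgroup.subgroupOf_eq_top.mp h)
  have hnc := Group.normalizerCondition_of_isNilpotent (G := R) (D.subgroupOf R) hlt
  obtain ⟨t, htN, htD⟩ := SetLike.exists_of_lt hnc
  refine ⟨t, t.2, fun h => htD (Subgroup.mem_subgroupOf.mpr h), ?_⟩
  apply Cfsg.Agent.S0650.mem_normalizer_of_finite
  intro r hr
  rw [Subgroup.mem_normalizer_iff] at htN
  have := (htN ⟨r, hDR hr⟩).mp (Subgroup.mem_subgroupOf.mpr hr)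
  exact Subgroup.mem_subgroupOf.mp this

theorem card_lt_of_le_of_not_mem {G : Type*} [Group G] [Finite G] {A B : Subgroup G}
    (hAB : A ≤ B) {t : G} (htB : t ∈ B) (htA : t ∉ A) : Nat.card A < Nat.card B := by
  by_contra hge
  push Not at hge
  have := Subgroup.eq_of_le_of_card_ge hAB hge
  rw [this] at htA
  exact htA htB

theorem le_normalizer_centerThompsonAOf {G : Type*} [Group G] [Finite G] {p : ℕ} [Fact p.Prime]
    (hp : p ≠ 2) (H : Subgroup G) (h1 : Cfsg.pPrimeCore p ↥H = ⊥)
    (h2 : Cfsg.IsPConstrained p ↥H) (h3 : Cfsg.IsPStable p ↥H) (R' : Sylow p ↥H) :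
    H ≤ Subgroup.normalizer
      (Cfsg.centerThompsonAOf ((R' : Subgroup ↥H).map H.subtype) : Set G) := by
  have hz := zj_of_surjective hp h2 h3 (MonoidHom.id ↥H) Function.surjective_id
    (by rw [h1]; exact MonoidHom.ker_id) R'
  rw [centerThompsonAOf_map H.subtype _ (fun x _ hx => by simpa using hx)]
  have hn : Subgroup.normalizer (Cfsg.centerThompsonAOf (R' : Subgroup ↥H) : Set ↥H) = ⊤ :=
    Subgroup.normalizer_eq_top_iff.mpr (by have := hz; infer_instance)
  have h5 := Subgroup.le_normalizer_map (H := Cfsg.centerThompsonAOf (R' : Subgroup ↥H)) H.subtype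
  rw [hn, ← MonoidHom.range_eq_map, Subgroup.range_subtype] at h5
  exact h5

theorem normalizer_le_normalizer_centerThompsonAOf {G : Type*} [Group G] [Finite G]
    (R : Subgroup G) :
    Subgroup.normalizer (R : Set G) ≤
      Subgroup.normalizer (Cfsg.centerThompsonAOf R : Set G) := by
  intro g hg
  apply Cfsg.Agent.S0650.mem_normalizer_of_finite
  intro z hz
  have h1 := centerThompsonAOf_map (MulAut.conj g).toMonoidHom R
    (fun x _ hx => by simpa using hx)
  rw [map_conj_eq_of_mem_normalizer hg] at h1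
  rw [h1]
  exact ⟨z, hz, rfl⟩

theorem exists_conj_le_sylow {G : Type*} [Group G] [Finite G] {p : ℕ} [Fact p.Prime]
    (P : Sylow p G) (M T : Subgroup G) (hPM : (P : Subgroup G) ≤ M) (hTM : T ≤ M)
    (hT : IsPGroup p T) : ∃ m ∈ M, ∀ t ∈ T, m⁻¹ * t * m ∈ (P : Subgroup G) := by
  have hT' : IsPGroup p (T.subgroupOf M) := hT.comap_subtype
  obtain ⟨Q', hQ'⟩ := hT'.exists_le_sylow
  obtain ⟨m, hm⟩ := MulAction.exists_smul_eq ↥M (P.subtype hPM) Q'
  refine ⟨m, m.2, fun t ht => ?_⟩
  have h1 : (⟨t, hTM ht⟩ : ↥M) ∈ (Q' : Subgroup ↥M) := hQ' (Subgroup.mem_subgroupOf.mpr ht)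
  rw [← hm, Cfsg.Agent.Lib.Helper14.sylow_smul_coe_eq_map] at h1
  obtain ⟨s, hs, hst⟩ := h1
  have hs' : (s : G) ∈ (P : Subgroup G) := Subgroup.mem_subgroupOf.mp hs
  have h2 : (m : G) * s * (m : G)⁻¹ = t := congrArg Subtype.val hst
  rw [← h2]
  have : (m : G)⁻¹ * ((m : G) * s * (m : G)⁻¹) * m = s := by group
  rw [this]; exact hs'

theorem centerThompsonAOf_ne_bot {G : Type*} [Group G] [Finite G] {p : ℕ} [Fact p.Prime]
    (R : Subgroup G) (hR : IsPGroup p R) (hR1 : R ≠ ⊥) : Cfsg.centerThompsonAOf R ≠ ⊥ := by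
  have hne : (Cfsg.maxAbelianSubgroups ↥R).Nonempty := by
    obtain ⟨A, hA, hmax⟩ := Set.exists_max_image {A : Subgroup ↥R | IsMulCommutative A}
      (fun A => Nat.card A) (Set.toFinite _)
      ⟨⊥, .of_setLike_mul_comm fun a ha b hb => by
        rw [Subgroup.mem_bot.mp ha, Subgroup.mem_bot.mp hb]⟩
    exact ⟨A, hA, fun B hB => hmax B hB⟩
  have h := (Cfsg.Agent.S0647.result (Cfsg.maxAbelianSubgroups ↥R) hne (fun A hA => hA.1)
    (fun A hA B hB hAB => (Subgroup.eq_of_le_of_card_ge hAB (hA.2 B hB)).symm)).2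
  have hc : Subgroup.center ↥R ≤ sInf (Cfsg.maxAbelianSubgroups ↥R) := by
    rw [h]; exact Subgroup.center_le_centralizer _
  have : Nontrivial ↥R := (Subgroup.nontrivial_iff_ne_bot R).mpr hR1
  have hR' : IsPGroup p ↥R := hR
  have hcn : Nontrivial (Subgroup.center ↥R) := hR'.center_nontrivial
  rw [centerThompsonAOf_eq_map_sInf]
  intro hbot
  rw [Subgroup.map_eq_bot_iff_of_injective _ R.subtype_injective] at hbot
  rw [hbot, le_bot_iff] at hc
  exact (Subgroup.nontrivial_iff_ne_bot _).mp hcn hc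

/-- In a group of characteristic p type all of whose p-locals are p-stable (p odd), the normalizer of Z(J(P)) contains the normalizer of every nontrivial subgroup of the Sylow p-subgroup P. -/
theorem result {G : Type*} [Group G] [Finite G] {p : ℕ} [Fact p.Prime] (hp : p ≠ 2) (hloc : ∀ Q : Subgroup G, IsPGroup p Q → Q ≠ ⊥ → Cfsg.pPrimeCore p ↥(Subgroup.normalizer (Q : Set G)) = ⊥ ∧ Cfsg.IsPConstrained p ↥(Subgroup.normalizer (Q : Set G)) ∧ Cfsg.IsPStable p ↥(Subgroup.normalizer (Q : Set G))) (P : Sylow p G) (Q : Subgroup G) (hQP : Q ≤ (P : Subgroup G)) (hQ1 : Q ≠ ⊥) : Subgroup.normalizer (Q : Set G) ≤ Subgroup.normalizer (Cfsg.centerThompsonAOf ((P : Subgroup G)) : Set G) := by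
  obtain ⟨M, hM⟩ : ∃ M, M = Subgroup.normalizer
    (Cfsg.centerThompsonAOf (P : Subgroup G) : Set G) := ⟨_, rfl⟩
  rw [← hM]
  have hPp : IsPGroup p (P : Subgroup G) := P.isPGroup'
  have hPM : (P : Subgroup G) ≤ M := by
    rw [hM]
    exact Subgroup.le_normalizer.trans (normalizer_le_normalizer_centerThompsonAOf _)
  have key : ∀ (n : ℕ) (Q : Subgroup G), Q ≤ (P : Subgroup G) → Q ≠ ⊥ →
      Nat.card (P : Subgroup G) -
        Nat.card ↥((P : Subgroup G) ⊓ Subgroup.normalizer (Q : Set G)) = n →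
      Subgroup.normalizer (Q : Set G) ≤ M := by
    intro n
    induction n using Nat.strong_induction_on with
    | _ n ih =>
      intro Q hQP hQ1 hn
      subst hn
      have ih' : ∀ Q' : Subgroup G, Q' ≤ (P : Subgroup G) → Q' ≠ ⊥ →
          Nat.card ↥((P : Subgroup G) ⊓ Subgroup.normalizer (Q : Set G)) <
            Nat.card ↥((P : Subgroup G) ⊓ Subgroup.normalizer (Q' : Set G)) →
          Subgroup.normalizer (Q' : Set G) ≤ M := by
        intro Q' hQ'P hQ'1 hlt
        refine ih _ ?_ Q' hQ'P hQ'1 rfl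
        have hle : Nat.card ↥((P : Subgroup G) ⊓ Subgroup.normalizer (Q' : Set G)) ≤
            Nat.card (P : Subgroup G) := Subgroup.card_le_of_le inf_le_left
        omega
      obtain ⟨H, hH⟩ : ∃ H, H = Subgroup.normalizer (Q : Set G) := ⟨_, rfl⟩
      rw [← hH] at ih' ⊢
      obtain ⟨R, hR⟩ : ∃ R, R = (P : Subgroup G) ⊓ H := ⟨_, rfl⟩
      rw [← hR] at ih'
      have hQp : IsPGroup p Q := hPp.to_le hQP
      have hRP : R ≤ (P : Subgroup G) := by rw [hR]; exact inf_le_left
      have hRH : R ≤ H := by rw [hR]; exact inf_le_right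
      have hQR : Q ≤ R := by rw [hR, hH]; exact le_inf hQP Subgroup.le_normalizer
      have hR1 : R ≠ ⊥ := by
        intro h
        rw [h] at hQR
        exact hQ1 (le_bot_iff.mp hQR)
      have hRp : IsPGroup p R := hPp.to_le hRP
      have hl : Cfsg.pPrimeCore p ↥H = ⊥ ∧ Cfsg.IsPConstrained p ↥H ∧ Cfsg.IsPStable p ↥H := by
        rw [hH]; exact hloc Q hQp hQ1
      obtain ⟨hK, hcon, hstab⟩ := hl
      have hR₀p : IsPGroup p (R.subgroupOf H) := hRp.comap_subtype
      obtain ⟨R', hR'⟩ := hR₀p.exists_le_sylow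
      obtain ⟨RG, hRG⟩ : ∃ RG, RG = (R' : Subgroup ↥H).map H.subtype := ⟨_, rfl⟩
      have hRGH : RG ≤ H := by rw [hRG]; exact Subgroup.map_subtype_le _
      have hRRG : R ≤ RG := by
        rw [hRG, ← Subgroup.map_subgroupOf_eq_of_le hRH]
        exact Subgroup.map_mono hR'
      have hRGp : IsPGroup p RG := by rw [hRG]; exact R'.isPGroup'.map _
      have hA := le_normalizer_centerThompsonAOf hp H hK hcon hstab R'
      rw [← hRG] at hA
      by_cases hcase : RG ≤ R
      · have hRGR : RG = R := le_antisymm hcase hRRG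
        rw [hRGR] at hA
        by_cases hPR : (P : Subgroup G) ≤ R
        · have : R = (P : Subgroup G) := le_antisymm hRP hPR
          rw [this, ← hM] at hA
          exact hA
        · obtain ⟨t, htP, htR, htN⟩ :=
            exists_normalizer_not_mem' p (P : Subgroup G) R hPp hRP hPR
          have hZR : Cfsg.centerThompsonAOf R ≤ (P : Subgroup G) :=
            (centerThompsonAOf_le R).trans hRP
          have hZ1 : Cfsg.centerThompsonAOf R ≠ ⊥ := centerThompsonAOf_ne_bot R hRp hR1
          have hNN := normalizer_le_normalizer_centerThompsonAOf R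
          have hlt : Nat.card ↥R < Nat.card ↥((P : Subgroup G) ⊓
              Subgroup.normalizer (Cfsg.centerThompsonAOf R : Set G)) :=
            card_lt_of_le_of_not_mem (le_inf hRP (Subgroup.le_normalizer.trans hNN)) (t := t)
              ⟨htP, hNN htN⟩ htR
          exact hA.trans (ih' _ hZR hZ1 hlt)
      · obtain ⟨t, htRG, htR, htN⟩ := exists_normalizer_not_mem' p RG R hRGp hRRG hcase
        have hPR : ¬ (P : Subgroup G) ≤ R := by
          intro hPR
          have h1 : (P : Subgroup G) ≤ RG := hPR.trans hRRG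
          have h2 : RG = (P : Subgroup G) := P.is_maximal' hRGp h1
          apply hcase
          rw [h2]; exact hPR
        obtain ⟨t', ht'P, ht'R, ht'N⟩ :=
          exists_normalizer_not_mem' p (P : Subgroup G) R hPp hRP hPR
        have hNR : Subgroup.normalizer (R : Set G) ≤ M := by
          apply ih' R hRP hR1
          exact card_lt_of_le_of_not_mem (le_inf hRP Subgroup.le_normalizer) (t := t')
            ⟨ht'P, ht'N⟩ ht'R
        obtain ⟨T, hT⟩ : ∃ T, T = RG ⊓ Subgroup.normalizer (R : Set G) := ⟨_, rfl⟩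
        have hTRG : T ≤ RG := by rw [hT]; exact inf_le_left
        have hTM : T ≤ M := by rw [hT]; exact inf_le_right.trans hNR
        have hTp : IsPGroup p T := hRGp.to_le hTRG
        have hRT : R ≤ T := by rw [hT]; exact le_inf hRRG Subgroup.le_normalizer
        have hcardT : Nat.card ↥R < Nat.card ↥T :=
          card_lt_of_le_of_not_mem hRT (t := t) (by rw [hT]; exact ⟨htRG, htN⟩) htR
        obtain ⟨m, hmM, hmT⟩ := exists_conj_le_sylow P M T hPM hTM hTp
        obtain ⟨φ, hφ⟩ : ∃ φ : G →* G, φ = (MulAut.conj m⁻¹).toMonoidHom := ⟨_, rfl⟩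
        have hφapp : ∀ x, φ x = m⁻¹ * x * m := by
          intro x; rw [hφ]; simp
        have hφinj : Function.Injective φ := by rw [hφ]; exact (MulAut.conj m⁻¹).injective
        have hQ'P : Q.map φ ≤ (P : Subgroup G) := by
          rintro _ ⟨x, hx, rfl⟩
          rw [hφapp]; exact hmT x (hRT (hQR hx))
        have hQ'1 : Q.map φ ≠ ⊥ := by
          intro h; exact hQ1 ((Subgroup.map_eq_bot_iff_of_injective Q hφinj).mp h)
        have hTN : T.map φ ≤ (P : Subgroup G) ⊓
            Subgroup.normalizer ((Q.map φ : Subgroup G) : Set G) := by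
          refine le_inf ?_ ?_
          · rintro _ ⟨x, hx, rfl⟩
            rw [hφapp]; exact hmT x hx
          · refine (Subgroup.map_mono ?_).trans (Subgroup.le_normalizer_map φ)
            rw [← hH]; exact hTRG.trans hRGH
        have hlt : Nat.card ↥R < Nat.card ↥((P : Subgroup G) ⊓
            Subgroup.normalizer ((Q.map φ : Subgroup G) : Set G)) := by
          have h1 : Nat.card ↥(T.map φ) = Nat.card ↥T := Subgroup.card_map_of_injective hφinj
          have h2 := Subgroup.card_le_of_le hTN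
          omega
        have hNQ' := ih' _ hQ'P hQ'1 hlt
        intro h hh
        have hh' : h ∈ Subgroup.normalizer (Q : Set G) := by rw [← hH]; exact hh
        have h1 : φ h ∈ M :=
          hNQ' (Subgroup.le_normalizer_map φ (Subgroup.mem_map_of_mem φ hh'))
        rw [hφapp] at h1
        have : h = m * (m⁻¹ * h * m) * m⁻¹ := by group
        rw [this]
        exact M.mul_mem (M.mul_mem hmM h1) (M.inv_mem hmM)
  exact key _ Q hQP hQ1 rfl

end Cfsg.Agent.S0658
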