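import Cfsg.Statements.S0660
import Mathlib

set_option autoImplicit false
open Cfsg

namespace Cfsg.Agent.S0660

open scoped IsMulCommutative in
theorem maschke_comm {V : Type*} [Group V] [Finite V] [IsMulCommutative V] {A : Type*} [Group A]
    [Finite A] (c : A → V → V) (h1 : ∀ v, c 1 v = v) (hmul : ∀ a b v, c (a * b) v = c a (c b v))
    (hhom : ∀ a v v', c a (v * v') = c a v * c a v')
    (hcop : (Nat.card A).Coprime (Nat.card V)) (U W : Subgroup V)
    (hU : ∀ a : A, ∀ u ∈ U, c a u ∈ U) (hinf : U ⊓ W = ⊥) (hsup : U ⊔ W = ⊤) :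
    ∃ W' : Subgroup V, (∀ a : A, ∀ w ∈ W', c a w ∈ W') ∧ U ⊓ W' = ⊥ ∧ U ⊔ W' = ⊤ := by
  classical
  let _ : Fintype A := Fintype.ofFinite A
  have hex : ∀ v : V, ∃ u ∈ U, ∃ w ∈ W, u * w = v := fun v =>
    Subgroup.mem_sup.mp (hsup ▸ Subgroup.mem_top v)
  choose f hfU g hgW hfg using hex
  have huniq : ∀ u ∈ U, ∀ w ∈ W, ∀ u' ∈ U, ∀ w' ∈ W, u * w = u' * w' → u = u' := by
    intro u hu w hw u' hu' w' hw' h
    have h2 : u'⁻¹ * u = w' * w⁻¹ := by
      rw [inv_mul_eq_iff_eq_mul, ← mul_assoc, ← h, mul_inv_cancel_right]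
    have h3 : u'⁻¹ * u ∈ U ⊓ W :=
      ⟨U.mul_mem (U.inv_mem hu') hu, h2 ▸ W.mul_mem hw' (W.inv_mem hw)⟩
    rw [hinf, Subgroup.mem_bot] at h3
    exact (inv_mul_eq_one.mp h3).symm
  have hf_mul : ∀ v v' : V, f (v * v') = f v * f v' := by
    intro v v'
    apply huniq _ (hfU _) _ (hgW _) _ (U.mul_mem (hfU v) (hfU v')) _ (W.mul_mem (hgW v) (hgW v'))
    rw [hfg, mul_mul_mul_comm, hfg, hfg]
  have hf_U : ∀ u ∈ U, f u = u := by
    intro u hu
    exact huniq _ (hfU u) _ (hgW u) u hu 1 W.one_mem (by rw [hfg, mul_one])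
  let θ : V → V := fun v => ∏ a : A, c a⁻¹ (f (c a v))
  have hθ_def : ∀ v, θ v = ∏ a : A, c a⁻¹ (f (c a v)) := fun v => rfl
  have hθ_mul : ∀ v v' : V, θ (v * v') = θ v * θ v' := by
    intro v v'
    rw [hθ_def, hθ_def, hθ_def, ← Finset.prod_mul_distrib]
    apply Finset.prod_congr rfl
    intro a _
    rw [hhom, hf_mul, hhom]
  have hθ_one : θ 1 = 1 := by
    have h2 := hθ_mul 1 1
    rw [mul_one] at h2
    exact left_eq_mul.mp h2
  have hθ_inv : ∀ v : V, θ v⁻¹ = (θ v)⁻¹ := by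
    intro v
    have h2 := hθ_mul v⁻¹ v
    rw [inv_mul_cancel, hθ_one] at h2
    exact eq_inv_of_mul_eq_one_left h2.symm
  have hθ_mem : ∀ v : V, θ v ∈ U := by
    intro v
    rw [hθ_def]
    apply Subgroup.prod_mem
    intro a _
    exact hU a⁻¹ _ (hfU _)
  have hθ_U : ∀ u ∈ U, θ u = u ^ Nat.card A := by
    intro u hu
    have h2 : ∀ a ∈ (Finset.univ : Finset A), c a⁻¹ (f (c a u)) = u := by
      intro a _
      rw [hf_U _ (hU a u hu), ← hmul, inv_mul_cancel, h1]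
    rw [hθ_def, Finset.prod_congr rfl h2, Finset.prod_const, Finset.card_univ,
      Nat.card_eq_fintype_card]
  have hθ_equiv : ∀ (b : A) (v : V), θ (c b v) = c b (θ v) := by
    intro b v
    have h2 : c b (θ v) = ∏ a : A, c b (c a⁻¹ (f (c a v))) := by
      rw [hθ_def]
      exact map_prod (MonoidHom.mk' (c b) (hhom b)) _ _
    rw [h2, hθ_def]
    apply Fintype.prod_equiv (Equiv.mulRight b)
    intro a
    rw [Equiv.coe_mulRight, ← hmul b, ← hmul a b v]
    congr 2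
    group
  let W' : Subgroup V :=
    { carrier := {v | θ v = 1}
      one_mem' := hθ_one
      mul_mem' := fun {a b} ha hb => by
        change θ (a * b) = 1
        rw [hθ_mul, (ha : θ a = 1), (hb : θ b = 1), mul_one]
      inv_mem' := fun {a} ha => by
        change θ a⁻¹ = 1
        rw [hθ_inv, (ha : θ a = 1), inv_one] }
  have hW'mem : ∀ v, v ∈ W' ↔ θ v = 1 := fun v => Iff.rfl
  refine ⟨W', ?_, ?_, ?_⟩
  · intro a w hw
    rw [hW'mem] at hw ⊢
    rw [hθ_equiv, hw]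
    have h2 := hhom a 1 1
    rw [mul_one] at h2
    exact left_eq_mul.mp h2
  · rw [eq_bot_iff]
    rintro u ⟨hu, hw⟩
    have h2 : u ^ Nat.card A = 1 := by rw [← hθ_U u hu]; exact hw
    have h3 : u ^ Nat.card V = 1 := pow_card_eq_one'
    have h4 : orderOf u ∣ Nat.gcd (Nat.card A) (Nat.card V) :=
      Nat.dvd_gcd (orderOf_dvd_of_pow_eq_one h2) (orderOf_dvd_of_pow_eq_one h3)
    rw [hcop.gcd_eq_one] at h4
    rw [Subgroup.mem_bot]; exact orderOf_eq_one_iff.mp (Nat.dvd_one.mp h4)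
  · rw [eq_top_iff]
    intro v _
    have hcopU : (Nat.card U).Coprime (Nat.card A) :=
      Nat.Coprime.coprime_dvd_left (Subgroup.card_subgroup_dvd_card U) hcop.symm
    obtain ⟨u, hu⟩ := (powCoprime hcopU).surjective ⟨θ v, hθ_mem v⟩
    have hu' : (u : V) ^ Nat.card A = θ v := by
      have h5 := congrArg Subtype.val hu
      simpa using h5
    have hw : v * (u : V)⁻¹ ∈ W' := by
      rw [hW'mem, hθ_mul, hθ_inv, hθ_U u u.2, hu', mul_inv_cancel]
    have h6 : v = (u : V) * (v * (u : V)⁻¹) := by rw [mul_comm, inv_mul_cancel_right]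
    rw [h6]
    exact Subgroup.mul_mem_sup u.2 hw

/-- Under a coprime action on an abelian group, an invariant subgroup that is complemented admits an invariant complement. -/
theorem result {G : Type*} [Group G] [Finite G] (V A U : Subgroup G) (hVab : IsMulCommutative V) (hAV : A ≤ Subgroup.normalizer (V : Set G)) (hcop : (Nat.card A).Coprime (Nat.card V)) (hUV : U ≤ V) (hAU : A ≤ Subgroup.normalizer (U : Set G)) (W : Subgroup G) (hWV : W ≤ V) (hUW : U ⊓ W = ⊥) (hUWV : U ⊔ W = V) : ∃ W' : Subgroup G, W' ≤ V ∧ A ≤ Subgroup.normalizer (W' : Set G) ∧ U ⊓ W' = ⊥ ∧ U ⊔ W' = V := by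
  classical
  let c : ↥A → ↥V → ↥V := fun a v =>
    ⟨a * v * (a : G)⁻¹, (Subgroup.mem_normalizer_iff.mp (hAV a.2) v).mp v.2⟩
  have hc_val : ∀ (a : ↥A) (v : ↥V), ((c a v : ↥V) : G) = a * v * (a : G)⁻¹ := fun a v => rfl
  have h1 : ∀ v, c 1 v = v := by
    intro v; apply Subtype.ext; rw [hc_val]; simp
  have hmul : ∀ a b v, c (a * b) v = c a (c b v) := by
    intro a b v; apply Subtype.ext; rw [hc_val, hc_val, hc_val]; simp [mul_assoc]
  have hhom : ∀ a v v', c a (v * v') = c a v * c a v' := by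
    intro a v v'; apply Subtype.ext
    rw [Subgroup.coe_mul, hc_val, hc_val, hc_val]; simp [mul_assoc]
  have hU' : ∀ a : ↥A, ∀ u ∈ U.subgroupOf V, c a u ∈ U.subgroupOf V := by
    intro a u hu
    rw [Subgroup.mem_subgroupOf] at hu ⊢
    rw [hc_val]
    exact (Subgroup.mem_normalizer_iff.mp (hAU a.2) u).mp hu
  have hinf : U.subgroupOf V ⊓ W.subgroupOf V = ⊥ := by
    rw [eq_bot_iff]
    intro x hx
    obtain ⟨hx1, hx2⟩ := Subgroup.mem_inf.mp hx
    rw [Subgroup.mem_subgroupOf] at hx1 hx2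
    have h2 : (x : G) ∈ U ⊓ W := Subgroup.mem_inf.mpr ⟨hx1, hx2⟩
    rw [hUW, Subgroup.mem_bot] at h2
    rw [Subgroup.mem_bot]; exact Subtype.ext h2
  have hsup : U.subgroupOf V ⊔ W.subgroupOf V = ⊤ := by
    rw [← Subgroup.subgroupOf_sup hUV hWV, hUWV, Subgroup.subgroupOf_self]
  obtain ⟨W'', hW''inv, hW''inf, hW''sup⟩ :=
    maschke_comm c h1 hmul hhom hcop (U.subgroupOf V) (W.subgroupOf V) hU' hinf hsup
  refine ⟨W''.map V.subtype, ?_, ?_, ?_, ?_⟩
  · rintro _ ⟨x, -, rfl⟩; exact x.2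
  · rw [Subgroup.le_normalizer_iff]
    rintro a ha _ ⟨w, hw, rfl⟩
    exact ⟨c ⟨a, ha⟩ w, hW''inv ⟨a, ha⟩ w hw, rfl⟩
  · rw [eq_bot_iff]
    intro x hx
    obtain ⟨hx1, hx2⟩ := Subgroup.mem_inf.mp hx
    obtain ⟨w, hw, hwx⟩ := hx2
    have h2 : w ∈ U.subgroupOf V ⊓ W'' := by
      refine Subgroup.mem_inf.mpr ⟨?_, hw⟩
      rw [Subgroup.mem_subgroupOf]
      have h3 : (w : G) = x := hwx
      rw [h3]; exact hx1
    rw [hW''inf, Subgroup.mem_bot] at h2
    rw [Subgroup.mem_bot, ← hwx, h2]; rfl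
  · have h2 : (U.subgroupOf V ⊔ W'').map V.subtype = V := by
      rw [hW''sup, ← MonoidHom.range_eq_map, Subgroup.range_subtype]
    rw [Subgroup.map_sup, Subgroup.map_subgroupOf_eq_of_le hUV] at h2
    exact h2

end Cfsg.Agent.S0660
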