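import Cfsg.Statements.S0667
import Cfsg.Agent.S3800
import Cfsg.Agent.Lib.Helper15.ZJ2

set_option autoImplicit false
open Cfsg

namespace Cfsg.Agent.S0667

open Cfsg.Agent.Lib.Helper15


/-- Glauberman's Theorem in the p-constrained, p-stable vocabulary: for odd p such a group is the product of its largest normal subgroup of order prime to p with the normalizer of Z(J(P)), and Z(J(P)) is normal when that p'-subgroup is trivial. -/
theorem result {G : Type*} [Group G] [Finite G] {p : ℕ} [Fact p.Prime] (hp : p ≠ 2) (hc : Cfsg.IsPConstrained p G) (hs : Cfsg.IsPStable p G) (P : Sylow p G) : Cfsg.pPrimeCore p G ⊔ Subgroup.normalizer (Cfsg.centerThompsonAOf ((P : Subgroup G)) : Set G) = ⊤ ∧ (Cfsg.pPrimeCore p G = ⊥ → (Cfsg.centerThompsonAOf ((P : Subgroup G))).Normal) := by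
  have hKc : (Nat.card (Cfsg.pPrimeCore p G)).Coprime p :=
    Cfsg.Agent.Lib.Helper14.pPrimeCore_coprime
  have hπ : Function.Surjective (QuotientGroup.mk' (Cfsg.pPrimeCore p G)) :=
    QuotientGroup.mk'_surjective _
  have h1 := zj_of_surjective hp hc hs (QuotientGroup.mk' (Cfsg.pPrimeCore p G)) hπ
    (QuotientGroup.ker_mk' _) (P.mapSurjective hπ)
  have hdisj : (P : Subgroup G) ⊓ Cfsg.pPrimeCore p G = ⊥ := by
    apply disjoint_iff.mp
    apply Subgroup.disjoint_of_coprime_natCard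
    obtain ⟨n, hn⟩ := IsPGroup.iff_card.mp P.isPGroup'
    rw [hn]
    exact Nat.Coprime.pow_left n hKc.symm
  have hinj : ∀ x ∈ (P : Subgroup G), QuotientGroup.mk' (Cfsg.pPrimeCore p G) x = 1 → x = 1 := by
    intro x hx h
    have hxK : x ∈ Cfsg.pPrimeCore p G := by
      rwa [← MonoidHom.mem_ker, QuotientGroup.ker_mk'] at h
    have : x ∈ (P : Subgroup G) ⊓ Cfsg.pPrimeCore p G := ⟨hx, hxK⟩
    rw [hdisj] at this
    exact Subgroup.mem_bot.mp this
  rw [Sylow.coe_mapSurjective, centerThompsonAOf_map _ _ hinj] at h1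
  have hZp : IsPGroup p (Cfsg.centerThompsonAOf (P : Subgroup G)) :=
    P.isPGroup'.to_le (centerThompsonAOf_le _)
  have h2 := (Cfsg.Agent.S3800.result (Cfsg.pPrimeCore p G) hKc _ hZp).1
  have h3 : Subgroup.normalizer (((Cfsg.centerThompsonAOf (P : Subgroup G)).map
      (QuotientGroup.mk' (Cfsg.pPrimeCore p G)) : Subgroup (G ⧸ Cfsg.pPrimeCore p G)) :
      Set (G ⧸ Cfsg.pPrimeCore p G)) = ⊤ :=
    Subgroup.normalizer_eq_top_iff.mpr (by have := h1; infer_instance)
  rw [h3] at h2
  have part1 : Cfsg.pPrimeCore p G ⊔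
      Subgroup.normalizer (Cfsg.centerThompsonAOf (P : Subgroup G) : Set G) = ⊤ := by
    rw [eq_top_iff]
    intro g _
    have hg : QuotientGroup.mk' (Cfsg.pPrimeCore p G) g ∈
        (Subgroup.normalizer (Cfsg.centerThompsonAOf (P : Subgroup G) : Set G)).map
          (QuotientGroup.mk' (Cfsg.pPrimeCore p G)) := by
      rw [← h2]; trivial
    obtain ⟨n, hn, hng⟩ := hg
    have hk : g * n⁻¹ ∈ Cfsg.pPrimeCore p G := by
      rw [← QuotientGroup.ker_mk' (Cfsg.pPrimeCore p G), MonoidHom.mem_ker, map_mul, map_inv, hng,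
        mul_inv_cancel]
    have : g = (g * n⁻¹) * n := by group
    rw [this]
    exact Subgroup.mul_mem_sup hk hn
  refine ⟨part1, fun hK => ?_⟩
  rw [hK, bot_sup_eq] at part1
  exact Subgroup.normalizer_eq_top_iff.mp part1

end Cfsg.Agent.S0667
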