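import Cfsg.Statements.S0678
import Mathlib
import Cfsg.Agent.S0675
import Cfsg.Agent.Lib.Helper11.Sharp
import Cfsg.Agent.Lib.Helper23.PrimeDeg2
import Cfsg.Agent.Lib.Helper4.Burnside

set_option autoImplicit false
open Cfsg

namespace Cfsg.Agent.S0678

/-- Jordan: in a primitive group not containing the alternating group, non-identity elements
of a group of degree 7 fix at most 3 points. -/
theorem card_fixedBy_le_three {α : Type*} [Fintype α] [DecidableEq α] (hα : Fintype.card α = 7)
    (G : Subgroup (Equiv.Perm α)) (hprim : MulAction.IsPreprimitive G α)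
    (hA : ¬ alternatingGroup α ≤ G) (g : G) (hg : g ≠ 1) :
    Nat.card (MulAction.fixedBy α g) ≤ 3 := by
  have hset : (MulAction.fixedBy α g) = ((↑((g : Equiv.Perm α).support) : Set α)ᶜ) := by
    ext x
    rw [MulAction.mem_fixedBy, Set.mem_compl_iff, Finset.mem_coe, Equiv.Perm.notMem_support]
    rfl
  rw [hset, Nat.card_coe_set_eq, ← Finset.coe_compl, Set.ncard_coe_finset, Finset.card_compl, hα]
  have h0 : (g : Equiv.Perm α).support.card ≠ 0 := by
    intro h
    rw [Finset.card_eq_zero, Equiv.Perm.support_eq_empty_iff] at h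
    exact hg (Subtype.ext h)
  have h1 := Equiv.Perm.card_support_ne_one (g : Equiv.Perm α)
  have h2 : (g : Equiv.Perm α).support.card ≠ 2 := by
    intro h
    rw [Equiv.Perm.card_support_eq_two] at h
    have := Equiv.Perm.subgroup_eq_top_of_isPreprimitive_of_isSwap_mem hprim _ h g.2
    exact hA (this ▸ le_top)
  have h3 : (g : Equiv.Perm α).support.card ≠ 3 := by
    intro h
    rw [card_support_eq_three_iff] at h
    exact hA (Equiv.Perm.alternatingGroup_le_of_isPreprimitive_of_isThreeCycle_mem hprim h g.2)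
  omega

theorem arith_aux : ∀ d ∈ Finset.range 7, ∀ n ∈ Finset.range 121, d ∣ 6 → d * n ∣ 120 →
    n % 7 = 1 → n = 1 ∨ d = 1 ∨ (d = 3 ∧ n = 8) ∨ (d = 2 ∧ n = 15) := by
  decide +kernel

set_option maxHeartbeats 1000000 in
/-- A non-solvable transitive permutation group on 7 points that does not contain the alternating group is a simple group of order 168. -/
theorem result {α : Type*} [Fintype α] [DecidableEq α] (hα : Fintype.card α = 7) (G : Subgroup (Equiv.Perm α)) [MulAction.IsPretransitive G α] (hG : ¬ Group.IsSolvable G) (hA : ¬ alternatingGroup α ≤ G) : Nat.card G = 168 ∧ IsSimpleGroup G := by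
  classical
  have hprime : (Fintype.card α).Prime := by rw [hα]; norm_num
  have hcardα : Nat.card α = 7 := by rw [Nat.card_eq_fintype_card, hα]
  haveI : Fact (Nat.Prime 7) := ⟨by norm_num⟩
  haveI : Nonempty α := by
    apply Fintype.card_pos_iff.mp
    rw [hα]; norm_num
  have h2 : MulAction.IsMultiplyPretransitive G α 2 :=
    (Cfsg.Agent.S0675.result hprime G).resolve_left hG
  have hprim : MulAction.IsPreprimitive G α :=
    MulAction.IsPreprimitive.of_prime_card (by rw [hcardα]; norm_num)
  have hfaith : ∀ g : G, (∀ a : α, g • a = a) → g = 1 := by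
    intro g h
    apply Subtype.ext
    ext a
    exact h a
  letI : Fintype G := Fintype.ofFinite G
  -- |G| ∣ 840
  have h840 : Nat.card G ∣ 840 := by
    have hB := Cfsg.Agent.Lib.Helper23.sum_descFactorial_fixedBy G α 4
    rw [Finset.sum_eq_single (1 : G)] at hB
    · have h1 : Nat.card (MulAction.fixedBy α (1 : G)) = 7 := by
        rw [MulAction.fixedBy_one_eq_univ, Nat.card_coe_set_eq, Set.ncard_univ, hcardα]
      rw [h1] at hB
      have h7 : Nat.descFactorial 7 4 = 840 := by decide
      rw [h7] at hB
      exact Dvd.intro_left _ hB.symm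
    · intro g _ hg
      exact Nat.descFactorial_of_lt (by
        have := card_fixedBy_le_three hα G hprim hA g hg
        omega)
    · intro h
      exact absurd (Finset.mem_univ _) h
  have h7G : 7 ∣ Nat.card G := hcardα ▸ Cfsg.Agent.Lib.Helper23.card_dvd_of_pretransitive G α
  have h49 : ¬ 7 ^ 2 ∣ Nat.card G := by
    intro h
    have := h.trans h840
    omega
  let P : Sylow 7 G := default
  obtain ⟨d, hd6, hNP⟩ :=
    Cfsg.Agent.Lib.Helper11.card_normalizer_sylow_prime_degree hcardα hfaith h7G h49 P
  have hn7 : Nat.card (Sylow 7 G) ≡ 1 [MOD 7] := card_sylow_modEq_one 7 G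
  have hidx : Nat.card (Sylow 7 G) = (Subgroup.normalizer ((P : Subgroup G) : Set G)).index :=
    Sylow.card_eq_index_normalizer P
  have hmul := Subgroup.card_mul_index (Subgroup.normalizer ((P : Subgroup G) : Set G))
  rw [← hidx, hNP] at hmul
  obtain ⟨n7, hn7def⟩ : ∃ n7, n7 = Nat.card (Sylow 7 G) := ⟨_, rfl⟩
  rw [← hn7def] at hmul hn7 hidx
  have hd0 : 0 < d := Nat.pos_of_dvd_of_pos hd6 (by norm_num)
  have hdle : d ≤ 6 := Nat.le_of_dvd (by norm_num) hd6
  have hdn : d * n7 ∣ 120 := by
    have : 7 * (d * n7) ∣ 7 * 120 := by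
      rw [← mul_assoc, hmul]
      exact h840
    exact Nat.dvd_of_mul_dvd_mul_left (by norm_num) this
  have hn7pos : 0 < n7 := by
    rw [hn7def]; exact Nat.card_pos
  have hn7le : n7 ≤ 120 := by
    have h1 : d * n7 ≤ 120 := Nat.le_of_dvd (by norm_num) hdn
    nlinarith
  have hPcard : Nat.card (P : Subgroup G) = 7 :=
    Cfsg.Agent.Lib.Helper11.card_sylow_of_prime_exact h7G h49 P
  have hd6' : d ∣ 6 := hd6
  have hn7' : n7 % 7 = 1 := hn7
  by_cases hn1 : n7 = 1
  · -- n7 = 1 : P normal, G solvable
    exfalso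
    apply hG
    have hnorm : (P : Subgroup G).Normal := by
      rw [← Subgroup.normalizer_eq_top_iff, ← Subgroup.index_eq_one, ← hidx, hn1]
    have hPsolv : Group.IsSolvable (P : Subgroup G) :=
      Cfsg.Agent.Lib.Helper4.isSolvable_of_card_prime_pow 7 1 (by norm_num)
        (by rw [hPcard]; norm_num)
    have hQcard : Nat.card (G ⧸ (P : Subgroup G)) = d := by
      have h1 := Subgroup.card_mul_index (P : Subgroup G)
      rw [hPcard, ← hmul, hn1, Subgroup.index] at h1
      omega
    have hQsolv : Group.IsSolvable (G ⧸ (P : Subgroup G)) := by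
      have hd' : d = 1 ∨ d = 2 ∨ d = 3 ∨ d = 6 := by
        clear hNP hmul hdn hQcard
        interval_cases d <;> omega
      rcases hd' with hd' | hd' | hd' | hd'
      · exact Cfsg.Agent.Lib.Helper4.burnside 2 3 0 0 (by norm_num) (by norm_num)
          (by rw [hQcard, hd']; norm_num)
      · exact Cfsg.Agent.Lib.Helper4.burnside 2 3 1 0 (by norm_num) (by norm_num)
          (by rw [hQcard, hd']; norm_num)
      · exact Cfsg.Agent.Lib.Helper4.burnside 2 3 0 1 (by norm_num) (by norm_num)
          (by rw [hQcard, hd']; norm_num)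
      · exact Cfsg.Agent.Lib.Helper4.burnside 2 3 1 1 (by norm_num) (by norm_num)
          (by rw [hQcard, hd']; norm_num)
    exact solvable_of_ker_le_range (P : Subgroup G).subtype (QuotientGroup.mk' (P : Subgroup G))
      (by simp)
  rcases arith_aux d (Finset.mem_range.mpr (by omega)) n7 (Finset.mem_range.mpr (by omega))
    hd6' hdn hn7' with h | h | ⟨hd, hn⟩ | ⟨hd, hn⟩
  · exact absurd h hn1
  · -- d = 1 : transfer
    exfalso
    rw [h, mul_one] at hNP hmul
    have hNeq : Subgroup.normalizer ((P : Subgroup G) : Set G) = (P : Subgroup G) := by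
      symm
      apply Subgroup.eq_of_le_of_card_ge Subgroup.le_normalizer
      rw [hNP, hPcard]
    have hcomm : ∀ a ∈ (P : Subgroup G), ∀ b ∈ (P : Subgroup G), a * b = b * a := by
      haveI : IsCyclic (P : Subgroup G) := isCyclic_of_prime_card hPcard
      intro a ha b hb
      have := (IsCyclic.commutative (α := (P : Subgroup G))).is_comm.comm ⟨a, ha⟩ ⟨b, hb⟩
      exact congrArg Subtype.val this
    have hP : Subgroup.normalizer ((P : Subgroup G) : Set G) ≤
        Subgroup.centralizer ((P : Subgroup G) : Set G) := by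
      rw [hNeq]
      intro a ha b hb
      exact hcomm b hb a ha
    have hcompl := MonoidHom.ker_transferSylow_isComplement' P hP
    obtain ⟨K, hKdef⟩ : ∃ K : Subgroup G, K = (MonoidHom.transferSylow P hP).ker := ⟨_, rfl⟩
    rw [← hKdef] at hcompl
    haveI hKn : K.Normal := by rw [hKdef]; infer_instance
    have hKcard : Nat.card K * 7 = Nat.card G := by
      rw [← hPcard]; exact hcompl.card_mul
    have hKn7 : Nat.card K = n7 := by omega
    by_cases hKbot : K = ⊥
    · rw [hKbot, Subgroup.card_bot] at hKn7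
      exact hn1 hKn7.symm
    · haveI : MulAction.IsPretransitive K α :=
        Cfsg.Agent.Lib.Helper23.normal_pretransitive_of_prime_card (by rw [hcardα]; norm_num)
          K hKbot
      have h7K : 7 ∣ Nat.card K := hcardα ▸ Cfsg.Agent.Lib.Helper23.card_dvd_of_pretransitive K α
      rw [hKn7] at h7K
      omega
  · -- d = 3, n7 = 8
    subst hd hn
    have hG168 : Nat.card G = 168 := by omega
    refine ⟨hG168, ?_⟩
    apply Cfsg.Agent.Lib.Helper23.simple_of_prime_degree hcardα P (by rw [← hn7def]; norm_num)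
    have h1 := Subgroup.relIndex_mul_index
      (Subgroup.le_normalizer : (P : Subgroup G) ≤ Subgroup.normalizer ((P : Subgroup G) : Set G))
    have h2 := Subgroup.card_mul_index (P : Subgroup G)
    rw [hPcard, hG168] at h2
    rw [← hidx] at h1
    have h3 : (P : Subgroup G).relIndex (Subgroup.normalizer ((P : Subgroup G) : Set G)) = 3 := by
      omega
    rw [h3]
    norm_num
  · -- d = 2, n7 = 15
    exfalso
    subst hd
    obtain ⟨a, F, _, _, h7, -, -⟩ := Cfsg.Agent.Lib.Helper23.prime_degree_two_sl2
      (by norm_num : 2 < 7) hcardα h2 P (hNP.trans (by norm_num))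
    have h6 : 2 ^ a = 6 := by omega
    rcases Nat.lt_or_ge a 3 with ha | ha
    · interval_cases a <;> omega
    · have : 2 ^ 3 ≤ 2 ^ a := Nat.pow_le_pow_right (by norm_num) ha
      omega

end Cfsg.Agent.S0678
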