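import Cfsg.Statements.S0713
import Mathlib

set_option autoImplicit false
open Cfsg

namespace Cfsg.Agent.S0713


open MulAction Equiv.Perm in
theorem stepA {α : Type*} [Fintype α] [DecidableEq α] (G : Subgroup (Equiv.Perm α))
    (hG : MulAction.IsPreprimitive G α) {p : ℕ} (hp : p.Prime) (hpn : p + 3 ≤ Fintype.card α)
    {g : Equiv.Perm α} (hgc : g.IsCycle) (hgp : g.support.card = p) (hg : g ∈ G) :
    MulAction.IsMultiplyPretransitive G α (Fintype.card α - p) := by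
  classical
  obtain ⟨m, hm⟩ : ∃ m, Fintype.card α = p + (m + 1) := ⟨Fintype.card α - p - 1, by omega⟩
  have hcard : Nat.card α = Fintype.card α := Nat.card_eq_fintype_card
  have h2 : IsMultiplyPreprimitive G α (m + 2) := by
    apply hG.isMultiplyPreprimitive (s := (g.supportᶜ : Set α))
    · apply Nat.add_left_cancel
      rw [Set.ncard_add_ncard_compl, Set.ncard_coe_finset, hgp, hcard, hm]
    · have := hp.two_le
      rw [hcard]; omega
    have := isPretransitive_of_isCycle_mem hgc hg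
    apply IsPreprimitive.of_prime_card
    convert! hp
    rw [Nat.card_eq_fintype_card, Fintype.card_subtype, ← hgp]
    apply congr_arg
    ext x
    simp [SubMulAction.mem_ofFixingSubgroup_iff]
  have h3 : IsMultiplyPretransitive G α (m + 2) :=
    IsMultiplyPreprimitive.isMultiplyPretransitive ..
  have h4 : Fintype.card α - p = m + 1 := by omega
  rw [h4]
  exact isMultiplyPretransitive_of_le (n := m + 2) (by omega) (by
    rw [hcard]
    have := hp.two_le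
    exact_mod_cast (by omega : m + 2 ≤ Fintype.card α))



theorem exists_of_pretrans {α : Type*} [Fintype α] [DecidableEq α] (G : Subgroup (Equiv.Perm α))
    (Δ : Finset α) (h : MulAction.IsMultiplyPretransitive G α Δ.card) (σ : Equiv.Perm α) :
    ∃ x ∈ G, ∀ d ∈ Δ, x d = σ d := by
  let e : Fin Δ.card ↪ α := (Δ.equivFin.symm.toEmbedding).trans (Function.Embedding.subtype _)
  let e' : Fin Δ.card ↪ α := e.trans σ.toEmbedding
  obtain ⟨x, hx⟩ := h.exists_smul_eq e e'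
  refine ⟨x.1, x.2, ?_⟩
  intro d hd
  have := congrArg (fun f : Fin Δ.card ↪ α => f (Δ.equivFin ⟨d, hd⟩)) hx
  have h2 : x • d = σ d := by simpa [e, e'] using this
  exact h2

theorem sylow_conj {T : Type*} [Group T] [Finite T] {p : ℕ} [Fact p.Prime]
    (hp2 : ¬ p ^ 2 ∣ Nat.card T) (g g' : T) (hg : orderOf g = p) (hg' : orderOf g' = p) :
    ∃ y : T, y * g' * y⁻¹ ∈ Subgroup.zpowers g := by
  have hpp : p.Prime := Fact.out
  have hP : IsPGroup p (Subgroup.zpowers g) :=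
    IsPGroup.of_card (n := 1) (by rw [Nat.card_zpowers, hg, pow_one])
  have hP' : IsPGroup p (Subgroup.zpowers g') :=
    IsPGroup.of_card (n := 1) (by rw [Nat.card_zpowers, hg', pow_one])
  obtain ⟨S, hS⟩ := hP.exists_le_sylow
  obtain ⟨S', hS'⟩ := hP'.exists_le_sylow
  have hcardS : Nat.card S = p := by
    obtain ⟨e, he⟩ := IsPGroup.iff_card.mp S.isPGroup'
    have hdvd : Nat.card S ∣ Nat.card T := Subgroup.card_subgroup_dvd_card _
    have h1 : p ≤ Nat.card S := by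
      have h0 : Nat.card (Subgroup.zpowers g) = p := by rw [Nat.card_zpowers, hg]
      have := Subgroup.card_le_of_le hS
      omega
    have he1 : e = 1 := by
      rcases Nat.lt_or_ge e 2 with h | h
      · interval_cases e
        · rw [he, pow_zero] at h1
          exact absurd h1 (by have := hpp.two_le; omega)
        · rfl
      · exfalso
        apply hp2
        exact dvd_trans (pow_dvd_pow p h) (he ▸ hdvd)
    rw [he, he1, pow_one]
  have hSeq : Subgroup.zpowers g = (S : Subgroup T) :=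
    Subgroup.eq_of_le_of_card_ge hS (by rw [hcardS, Nat.card_zpowers, hg])
  obtain ⟨y, hy⟩ := MulAction.exists_smul_eq T S' S
  refine ⟨y, ?_⟩
  rw [hSeq, ← hy, Sylow.coe_subgroup_smul]
  have h1 : g' ∈ (S' : Subgroup T) := hS' (Subgroup.mem_zpowers g')
  have h2 := Subgroup.smul_mem_pointwise_smul g' (MulAut.conj y) (S' : Subgroup T) h1
  simpa [MulAut.smul_def] using h2


/-- the subgroup of `G` fixing `Δ` pointwise -/
def fixG {α : Type*} (G : Subgroup (Equiv.Perm α)) (Δ : Finset α) : Subgroup (Equiv.Perm α) where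
  carrier := {t | t ∈ G ∧ ∀ d ∈ Δ, t d = d}
  one_mem' := ⟨G.one_mem, fun d _ => rfl⟩
  mul_mem' := fun {s t} hs ht => ⟨G.mul_mem hs.1 ht.1, fun d hd => by
    rw [Equiv.Perm.mul_apply, ht.2 d hd, hs.2 d hd]⟩
  inv_mem' := fun {s} hs => ⟨G.inv_mem hs.1, fun d hd => by
    rw [Equiv.Perm.inv_eq_iff_eq, hs.2 d hd]⟩

theorem mem_fixG {α : Type*} (G : Subgroup (Equiv.Perm α)) (Δ : Finset α) (t : Equiv.Perm α) :
    t ∈ fixG G Δ ↔ t ∈ G ∧ ∀ d ∈ Δ, t d = d := Iff.rfl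

theorem not_sq_dvd_card_fixG {α : Type*} [Fintype α] [DecidableEq α] (G : Subgroup (Equiv.Perm α))
    {p : ℕ} (hp : p.Prime) (S : Finset α) (hS : S.card = p) :
    ¬ p ^ 2 ∣ Nat.card (fixG G Sᶜ) := by
  have hle : fixG G Sᶜ ≤ (Equiv.Perm.ofSubtype : Equiv.Perm {x // x ∈ S} →* Equiv.Perm α).range := by
    intro t ht
    rw [mem_fixG] at ht
    have h2 : ∀ x, t x ≠ x → x ∈ S := by
      intro x hx
      by_contra hxS
      exact hx (ht.2 x (Finset.mem_compl.mpr hxS))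
    have h1 : ∀ x, t x ∈ S ↔ x ∈ S := by
      intro x
      constructor
      · intro h
        by_contra hxS
        rw [ht.2 x (Finset.mem_compl.mpr hxS)] at h
        exact hxS h
      · intro h
        by_contra htS
        have h3 := ht.2 (t x) (Finset.mem_compl.mpr htS)
        have h4 : t x = x := t.injective h3
        rw [h4] at htS
        exact htS h
    exact ⟨Equiv.Perm.subtypePerm t h1, Equiv.Perm.ofSubtype_subtypePerm h1 h2⟩
  have hcard : Nat.card (Equiv.Perm.ofSubtype : Equiv.Perm {x // x ∈ S} →* Equiv.Perm α).range =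
      p.factorial := by
    rw [← Nat.card_congr (MonoidHom.ofInjective Equiv.Perm.ofSubtype_injective).toEquiv,
      Nat.card_perm, Nat.card_eq_fintype_card, Fintype.card_coe, hS]
  intro hdvd
  have h1 : p ^ 2 ∣ p.factorial := hcard ▸ dvd_trans hdvd (Subgroup.card_dvd_of_le hle)
  obtain ⟨q, hq⟩ : ∃ q, p = q + 1 := ⟨p - 1, by have := hp.pos; omega⟩
  rw [hq, Nat.factorial_succ, pow_two] at h1
  have h2 : q + 1 ∣ q.factorial := Nat.dvd_of_mul_dvd_mul_left (by omega) h1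
  rw [← hq] at h2
  have h3 := (hp.dvd_factorial).mp h2
  omega

theorem swap_mem_iff {α : Type*} [DecidableEq α] (Δ : Finset α) {a b : α} (ha : a ∈ Δ)
    (hb : b ∈ Δ) (d : α) : d ∈ Δ ↔ Equiv.swap a b d ∈ Δ := by
  rw [Equiv.swap_apply_def]
  split_ifs with h1 h2
  · rw [h1]; exact ⟨fun _ => hb, fun _ => ha⟩
  · rw [h2]; exact ⟨fun _ => ha, fun _ => hb⟩
  · rfl

theorem inv_eq_on {α : Type*} (Δ : Finset α) (x σ : Equiv.Perm α)
    (hσ : ∀ d, d ∈ Δ ↔ σ d ∈ Δ) (hx : ∀ d ∈ Δ, x d = σ d) : ∀ d ∈ Δ, x⁻¹ d = σ⁻¹ d := by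
  intro d hd
  have h1 : σ⁻¹ d ∈ Δ := by
    rw [hσ]
    simpa using hd
  rw [Equiv.Perm.inv_eq_iff_eq, hx _ h1]
  simp

/-- Jordan's Theorem: a primitive permutation group of degree `n ≥ 5` containing a `p`-cycle for a prime `p ≤ n - 3` contains the alternating group. -/
theorem result {α : Type*} [Fintype α] [DecidableEq α] (G : Subgroup (Equiv.Perm α)) (hG : MulAction.IsPreprimitive G α) {p : ℕ} (hp : p.Prime) (hn : 5 ≤ Fintype.card α) (hpn : p + 3 ≤ Fintype.card α) {g : Equiv.Perm α} (hgc : g.IsCycle) (hgp : g.support.card = p) (hg : g ∈ G) : alternatingGroup α ≤ G := by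
  have : Fact p.Prime := ⟨hp⟩
  set Δ : Finset α := g.supportᶜ with hΔ
  have hΔmem : ∀ d, d ∈ Δ ↔ g d = d := by
    intro d
    rw [hΔ, Finset.mem_compl, Equiv.Perm.notMem_support]
  have hΔcard : Δ.card = Fintype.card α - p := by rw [hΔ, Finset.card_compl, hgp]
  have hk : MulAction.IsMultiplyPretransitive G α Δ.card := by
    rw [hΔcard]
    exact stepA G hG hp hpn hgc hgp hg
  have h3 : 2 < Δ.card := by omega
  obtain ⟨a, ha, b, hb, c, hc, hab, hac, hbc⟩ := Finset.two_lt_card.mp h3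
  have hp2 : ¬ p ^ 2 ∣ Nat.card (fixG G Δ) := not_sq_dvd_card_fixG G hp g.support hgp
  have hgT : g ∈ fixG G Δ := ⟨hg, fun d hd => (hΔmem d).mp hd⟩
  have hog : orderOf g = p := by rw [hgc.orderOf, hgp]
  -- the main claim
  have claim : ∀ σ : Equiv.Perm α, (∀ d, d ∈ Δ ↔ σ d ∈ Δ) →
      ∃ x ∈ G, (∀ d ∈ Δ, x d = σ d) ∧ x * g * x⁻¹ ∈ Subgroup.zpowers g := by
    intro σ hσ
    obtain ⟨x, hxG, hx⟩ := exists_of_pretrans G Δ hk σ
    have hxinv := inv_eq_on Δ x σ hσ hx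
    have hσinv : ∀ d ∈ Δ, σ⁻¹ d ∈ Δ := by
      intro d hd
      rw [hσ]
      simpa using hd
    have hg'T : x * g * x⁻¹ ∈ fixG G Δ := by
      refine ⟨G.mul_mem (G.mul_mem hxG hg) (G.inv_mem hxG), ?_⟩
      intro d hd
      rw [Equiv.Perm.mul_apply, Equiv.Perm.mul_apply, hxinv d hd,
        (hΔmem _).mp (hσinv d hd), hx _ (hσinv d hd)]
      simp
    have hog' : orderOf (x * g * x⁻¹) = p := by
      rw [(hgc.conj (g := x)).orderOf, Equiv.Perm.card_support_conj, hgp]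
    obtain ⟨y, hy⟩ := sylow_conj (T := fixG G Δ) hp2 ⟨g, hgT⟩ ⟨x * g * x⁻¹, hg'T⟩
      (by rw [Subgroup.orderOf_mk]; exact hog) (by rw [Subgroup.orderOf_mk]; exact hog')
    obtain ⟨k, hk'⟩ := Subgroup.mem_zpowers_iff.mp hy
    have hk'' : g ^ k = (y : Equiv.Perm α) * (x * g * x⁻¹) * (y : Equiv.Perm α)⁻¹ := by
      have := congrArg Subtype.val hk'
      simpa using this
    have hyT := y.2
    rw [mem_fixG] at hyT
    refine ⟨(y : Equiv.Perm α) * x, G.mul_mem hyT.1 hxG, ?_, ?_⟩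
    · intro d hd
      rw [Equiv.Perm.mul_apply, hx d hd, hyT.2 _ ((hσ d).mp hd)]
    · rw [Subgroup.mem_zpowers_iff]
      refine ⟨k, ?_⟩
      rw [hk'']
      group
  -- two swaps
  have hσ₁ := swap_mem_iff Δ ha hb
  have hσ₂ := swap_mem_iff Δ ha hc
  obtain ⟨x₁, hx₁G, hx₁, hx₁g⟩ := claim (Equiv.swap a b) hσ₁
  obtain ⟨x₂, hx₂G, hx₂, hx₂g⟩ := claim (Equiv.swap a c) hσ₂
  obtain ⟨i, hi⟩ := Subgroup.mem_zpowers_iff.mp hx₁g
  obtain ⟨j, hj⟩ := Subgroup.mem_zpowers_iff.mp hx₂g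
  have hA : (x₁ * x₂) * g * (x₁ * x₂)⁻¹ = g ^ (i * j) := by
    calc (x₁ * x₂) * g * (x₁ * x₂)⁻¹ = x₁ * (x₂ * g * x₂⁻¹) * x₁⁻¹ := by group
      _ = x₁ * g ^ j * x₁⁻¹ := by rw [hj]
      _ = (x₁ * g * x₁⁻¹) ^ j := by rw [conj_zpow]
      _ = g ^ (i * j) := by rw [← hi, zpow_mul]
  have hB : (x₂ * x₁) * g * (x₂ * x₁)⁻¹ = g ^ (i * j) := by
    calc (x₂ * x₁) * g * (x₂ * x₁)⁻¹ = x₂ * (x₁ * g * x₁⁻¹) * x₂⁻¹ := by group
      _ = x₂ * g ^ i * x₂⁻¹ := by rw [hi]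
      _ = (x₂ * g * x₂⁻¹) ^ i := by rw [conj_zpow]
      _ = g ^ (i * j) := by rw [← hj, mul_comm i j, zpow_mul]
  set cc : Equiv.Perm α := (x₂ * x₁)⁻¹ * (x₁ * x₂) with hcc
  have hccG : cc ∈ G := G.mul_mem (G.inv_mem (G.mul_mem hx₂G hx₁G)) (G.mul_mem hx₁G hx₂G)
  have hcomm : cc * g = g * cc := by
    calc cc * g = (x₂ * x₁)⁻¹ * ((x₁ * x₂) * g * (x₁ * x₂)⁻¹) * (x₁ * x₂) := by
          rw [hcc]; group
      _ = (x₂ * x₁)⁻¹ * ((x₂ * x₁) * g * (x₂ * x₁)⁻¹) * (x₁ * x₂) := by rw [hA, hB]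
      _ = g * cc := by rw [hcc]; group
  -- action of cc on Δ
  have hx₁inv := inv_eq_on Δ x₁ _ hσ₁ hx₁
  have hx₂inv := inv_eq_on Δ x₂ _ hσ₂ hx₂
  set ρ : Equiv.Perm α := (Equiv.swap a b * Equiv.swap a c) * (Equiv.swap a b * Equiv.swap a c)
    with hρ
  have hccΔ : ∀ d ∈ Δ, cc d = ρ d := by
    intro d hd
    have h1 : Equiv.swap a c d ∈ Δ := (hσ₂ d).mp hd
    have h2 : Equiv.swap a b (Equiv.swap a c d) ∈ Δ := (hσ₁ _).mp h1
    have h3 : (Equiv.swap a c)⁻¹ (Equiv.swap a b (Equiv.swap a c d)) ∈ Δ := by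
      rw [Equiv.swap_inv]
      exact (hσ₂ _).mp h2
    simp only [hcc, hρ, mul_inv_rev, Equiv.Perm.mul_apply]
    rw [hx₂ d hd, hx₁ _ h1, hx₂inv _ h2, hx₁inv _ h3, Equiv.swap_inv, Equiv.swap_inv]
  have hρΔ : ∀ d, d ∈ Δ → ρ d ∈ Δ := by
    intro d hd
    simp only [hρ, Equiv.Perm.mul_apply]
    exact (hσ₁ _).mp ((hσ₂ _).mp ((hσ₁ _).mp ((hσ₂ _).mp hd)))
  have hρfix : ∀ z, z ∉ Δ → ρ z = z := by
    intro z hz
    have hza : z ≠ a := fun h => hz (h ▸ ha)
    have hzb : z ≠ b := fun h => hz (h ▸ hb)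
    have hzc : z ≠ c := fun h => hz (h ▸ hc)
    simp only [hρ, Equiv.Perm.mul_apply]
    rw [Equiv.swap_apply_of_ne_of_ne hza hzc, Equiv.swap_apply_of_ne_of_ne hza hzb,
      Equiv.swap_apply_of_ne_of_ne hza hzc, Equiv.swap_apply_of_ne_of_ne hza hzb]
  -- the cycle structure
  obtain ⟨s₀, hs₀, hcyc⟩ := hgc
  have hccs₀ : g (cc s₀) ≠ cc s₀ := by
    have : g (cc s₀) = cc (g s₀) := by
      rw [← Equiv.Perm.mul_apply, ← hcomm, Equiv.Perm.mul_apply]
    rw [this]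
    exact fun h => hs₀ (cc.injective h)
  obtain ⟨m, hm⟩ := hcyc hccs₀
  have hcommz : ∀ i : ℤ, cc * g ^ i = g ^ i * cc := fun i => (Commute.zpow_right hcomm i)
  have hgfix : ∀ (i : ℤ) (d : α), g d = d → (g ^ i) d = d := by
    intro i d hd
    exact Equiv.Perm.zpow_apply_eq_self_of_apply_eq_self hd i
  have ht : (g ^ m)⁻¹ * cc = ρ := by
    ext z
    by_cases hz : g z = z
    · have hzΔ : z ∈ Δ := (hΔmem z).mpr hz
      rw [Equiv.Perm.mul_apply, hccΔ z hzΔ, Equiv.Perm.inv_eq_iff_eq,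
        hgfix m _ ((hΔmem _).mp (hρΔ z hzΔ))]
    · have hzΔ : z ∉ Δ := fun h => hz ((hΔmem z).mp h)
      obtain ⟨i, hi'⟩ := hcyc hz
      rw [hρfix z hzΔ, Equiv.Perm.mul_apply, Equiv.Perm.inv_eq_iff_eq, ← hi',
        ← Equiv.Perm.mul_apply, hcommz i, Equiv.Perm.mul_apply, ← hm, ← Equiv.Perm.mul_apply,
        ← Equiv.Perm.mul_apply, ← zpow_add, ← zpow_add, add_comm]
  have hρG : ρ ∈ G := by
    rw [← ht]
    exact G.mul_mem (G.inv_mem (G.zpow_mem hg m)) hccG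
  have h3c : Equiv.Perm.IsThreeCycle ρ :=
    Equiv.Perm.IsThreeCycle.isThreeCycle_sq (Equiv.Perm.isThreeCycle_swap_mul_swap_same hab hac hbc)
  exact Equiv.Perm.alternatingGroup_le_of_isPreprimitive_of_isThreeCycle_mem hG h3c hρG

end Cfsg.Agent.S0713
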