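import Cfsg.Statements.S0727
import Cfsg.Agent.Lib.Helper23.Sharp3c

set_option autoImplicit false
open Cfsg

namespace Cfsg.Agent.S0727

/-- A sharply triply transitive permutation group of degree `2^f + 1` is isomorphic to the projective general linear group of degree 2 over the field with `2^f` elements. -/
theorem result {α : Type*} [Fintype α] [DecidableEq α] {f : ℕ} (hf : 1 ≤ f) (hα : Fintype.card α = 2 ^ f + 1) (G : Subgroup (Equiv.Perm α)) (h3 : MulAction.IsMultiplyPretransitive G α 3) (hsharp : ∀ x : Fin 3 ↪ α, MulAction.stabilizer G x = ⊥) : ∃ (F : Type) (_ : Field F) (_ : Fintype F), Fintype.card F = 2 ^ f ∧ Nonempty (G ≃* Matrix.ProjGenLinGroup (Fin 2) F) := by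
  have hS : Cfsg.Agent.Lib.Helper23.Sharp3 G α := by
    apply Cfsg.Agent.Lib.Helper23.sharp3_of_pretransitive h3
    intro g a b c hab hac hbc ha hb hc
    have hinj : Function.Injective ![a, b, c] := by
      intro i j hij
      fin_cases i <;> fin_cases j <;> simp_all
    have hg : g ∈ MulAction.stabilizer G (⟨![a, b, c], hinj⟩ : Fin 3 ↪ α) := by
      rw [MulAction.mem_stabilizer_iff]
      ext i
      fin_cases i
      · exact ha
      · exact hb
      · exact hc
    rw [hsharp] at hg
    exact Subgroup.mem_bot.mp hg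
  have h2f : 2 ≤ 2 ^ f := by
    calc 2 = 2 ^ 1 := rfl
      _ ≤ 2 ^ f := Nat.pow_le_pow_right (by norm_num) hf
  have hodd : Odd (Fintype.card α) := by
    rw [hα]
    exact Even.add_one (Nat.even_pow.mpr ⟨even_two, by omega⟩)
  have hm : 3 ≤ Fintype.card α := by omega
  obtain ⟨a, ha, hcard, F, instF, instFin, hF, hchar, ⟨e⟩⟩ :=
    Cfsg.Agent.Lib.Helper23.sharp3_psl2_galois hS hodd hm
  have haf : a = f := by
    have : 2 ^ a = 2 ^ f := by omega
    exact Nat.pow_right_injective (le_refl 2) this
  subst haf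
  have := hchar
  obtain ⟨e2⟩ := Cfsg.Agent.Lib.Helper23.psl_iso_pgl_char2 F
  exact ⟨F, instF, instFin, hF, ⟨e.trans e2⟩⟩

end Cfsg.Agent.S0727
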