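import Cfsg.Statements.S0801
import Mathlib
import Cfsg.Agent.Lib.Helper19.DkO
import Cfsg.Agent.Lib.Helper19.A5P

set_option autoImplicit false
open Cfsg

namespace Cfsg.Agent.S0801

open Matrix Cfsg.Agent.S0809 Cfsg.Agent.Lib.Helper19.Dk

section Helpers

variable {F : Type*} [Field F]

theorem isSc_of_rep (x m : S2 F) (p : F × F) (h : Rep x m p) (hp : p.2 = 0) : IsSc m := by
  obtain ⟨a1, a2, a3, a4⟩ := h
  rw [hp] at a1 a2 a3 a4
  exact ⟨by rw [a2, zero_mul], by rw [a3, zero_mul], by rw [a1, a4]; ring⟩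

theorem card_A5' : Nat.card (alternatingGroup (Fin 5)) = 60 := by
  rw [nat_card_alternatingGroup]
  simp
  decide

/-- the exceptional case: `q = 9`, `λ² = -1` -/
theorem exc_card [Finite F] (h3 : (3 : F) = 0) (lam : F) (hl : lam ^ 2 + 1 = 0)
    (L : Subgroup (S2 F)) (hL : L = Subgroup.closure {ll 1, uu lam}) : Nat.card L = 120 := by
  have h2 : (2 : F) ≠ 0 := by
    intro h
    have : (1 : F) = 0 := by linear_combination h3 - h
    exact one_ne_zero this
  have hu : uu lam ∈ L := by rw [hL]; exact Subgroup.subset_closure (by simp)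
  have hlm : ll (1 : F) ∈ L := by rw [hL]; exact Subgroup.subset_closure (by simp)
  obtain ⟨a, ha⟩ : ∃ a : S2 F, a = mk2 lam 0 0 (-lam) (by linear_combination (-1 : F) * hl) :=
    ⟨_, rfl⟩
  obtain ⟨x, hx⟩ : ∃ x : S2 F, x = uu lam * ll 1 := ⟨_, rfl⟩
  have haL : a ∈ L := by
    have e : uu lam * ll 1 * uu (-lam) * ll (-1) * uu lam * ll 1 = a := by
      rw [ha]
      apply ext2 <;> simp only [mul00, mul01, mul10, mul11, uu_00, uu_01, uu_10, uu_11, ll_00,
        ll_01, ll_10, ll_11, mk2_00, mk2_01, mk2_10, mk2_11]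
      · linear_combination ((1) + (1) * lam) * hl
      · linear_combination ((1) * lam) * hl
      · linear_combination ((1)) * hl
      · linear_combination ((1)) * hl
    rw [← e, ← uu_inv, ← ll_inv]
    exact L.mul_mem (L.mul_mem (L.mul_mem (L.mul_mem (L.mul_mem hu hlm) (L.inv_mem hu))
      (L.inv_mem hlm)) hu) hlm
  have hxL : x ∈ L := by rw [hx]; exact L.mul_mem hu hlm
  have haa : a * a = negOne := by
    rw [ha]
    apply ext2 <;> simp only [mul00, mul01, mul10, mul11, mk2_00, mk2_01, mk2_10, mk2_11, negOne]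
    · linear_combination hl
    · ring
    · ring
    · linear_combination hl
  have hZ : Subgroup.center (S2 F) ≤ L := by
    intro z hz
    rcases isSc_eq z ((isSc_iff_center z).2 hz) with h | h
    · rw [h]; exact L.one_mem
    · rw [h, ← haa]; exact L.mul_mem haL haL
  have hcard := card_map_prj L hZ
  rw [center_card_two h2] at hcard
  have hx00 : x 0 0 = 1 + lam := by
    rw [hx, mul00]; simp only [uu_00, uu_01, ll_00, ll_10]; ring
  have hx01 : x 0 1 = lam := by
    rw [hx, mul01]; simp only [uu_00, uu_01, ll_01, ll_11]; ring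
  have hx10 : x 1 0 = 1 := by
    rw [hx, mul10]; simp only [uu_10, uu_11, ll_00, ll_10]; ring
  have hx11 : x 1 1 = 1 := by
    rw [hx, mul11]; simp only [uu_10, uu_11, ll_01, ll_11]; ring
  have r1 : prj F a * prj F a = 1 := by
    rw [← map_mul, prj_eq_one_iff, haa]; exact isSc_negOne
  have r2 : prj F x ^ 5 = 1 := by
    rw [← map_pow, prj_eq_one_iff]
    refine isSc_of_rep _ _ _ (rep_pow5 x) ?_
    show tr x ^ 4 - 3 * tr x ^ 2 + 1 = 0
    unfold tr
    rw [hx00, hx11]
    linear_combination ((20) + (8) * lam + (1) * lam ^ 2) * hl + ((-5) + (4) * lam) * h3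
  have r3 : prj F a * prj F x * prj F a * prj F x * prj F a * prj F x = 1 := by
    have h : IsSc ((a * x) ^ 3) := by
      refine isSc_of_rep _ _ _ (rep_pow3 (a * x)) ?_
      show tr (a * x) ^ 2 - 1 = 0
      unfold tr
      rw [mul00, mul11, hx00, hx01, hx10, hx11, ha]
      simp only [mk2_00, mk2_01, mk2_10, mk2_11]
      linear_combination ((-1) + (1) * lam ^ 2) * hl
    rw [← prj_eq_one_iff, map_pow, map_mul] at h
    rw [← h]
    simp only [pow_succ, pow_zero, one_mul, mul_assoc]
  have r4 : prj F x ≠ 1 := by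
    rw [Ne, prj_eq_one_iff]
    intro h
    have := h.2.1
    rw [hx10] at this
    exact one_ne_zero this
  obtain ⟨e⟩ := Cfsg.Agent.Lib.Helper19.A5P.a5_of_rel (prj F a) (prj F x) r1 r2 r3 r4
  have h60 : Nat.card (Subgroup.closure {prj F a, prj F x}) = 60 := by
    rw [Nat.card_congr e.toEquiv, card_A5']
  have hmap : L.map (prj F) = Subgroup.closure {prj F a, prj F x} := by
    have hua : prj F (uu lam) ∈ Subgroup.closure {prj F a, prj F x} := by
      have e6 : a * x⁻¹ * x⁻¹ * a * x * x = uu lam := by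
        apply ext2 <;> simp only [mul00, mul01, mul10, mul11, inv00, inv01, inv10, inv11, hx00,
          hx01, hx10, hx11, uu_00, uu_01, uu_10, uu_11, ha, mk2_00, mk2_01, mk2_10, mk2_11]
        · linear_combination ((-7) + (6) * lam + (8) * lam ^ 2 + (2) * lam ^ 3) * hl + ((2) + (-2) * lam) * h3
        · linear_combination ((-6) + (2) * lam + (6) * lam ^ 2 + (2) * lam ^ 3) * hl + ((2) + (-1) * lam) * h3
        · linear_combination ((-6) + (12) * lam + (10) * lam ^ 2 + (2) * lam ^ 3) * hl + ((2) + (-4) * lam) * h3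
        · linear_combination ((-7) + (6) * lam + (8) * lam ^ 2 + (2) * lam ^ 3) * hl + ((2) + (-2) * lam) * h3
      have hA : prj F a ∈ Subgroup.closure {prj F a, prj F x} :=
        Subgroup.subset_closure (by simp)
      have hX : prj F x ∈ Subgroup.closure {prj F a, prj F x} :=
        Subgroup.subset_closure (by simp)
      rw [← e6]
      simp only [map_mul, map_inv]
      exact Subgroup.mul_mem _ (Subgroup.mul_mem _ (Subgroup.mul_mem _ (Subgroup.mul_mem _
        (Subgroup.mul_mem _ hA (Subgroup.inv_mem _ hX)) (Subgroup.inv_mem _ hX)) hA) hX) hX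
    apply le_antisymm
    · rw [Subgroup.map_le_iff_le_comap, hL, Subgroup.closure_le]
      rintro g (rfl | rfl)
      · show prj F (ll 1) ∈ Subgroup.closure {prj F a, prj F x}
        have e7 : ll (1 : F) = (uu lam)⁻¹ * x := by rw [hx, inv_mul_cancel_left]
        rw [e7, map_mul, map_inv]
        exact Subgroup.mul_mem _ (Subgroup.inv_mem _ hua) (Subgroup.subset_closure (by simp))
      · exact hua
    · rw [Subgroup.closure_le]
      rintro g (rfl | rfl)
      · exact Subgroup.mem_map_of_mem _ haL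
      · exact Subgroup.mem_map_of_mem _ hxL
  rw [hmap, h60] at hcard
  exact hcard

theorem odd_mem_of_sq {G : Type*} [Group G] (A : Subgroup G) (g : G) (p : ℕ) (hp : Odd p)
    (hg : g ^ p = 1) (h : g * g ∈ A) : g ∈ A := by
  obtain ⟨m, rfl⟩ := hp
  have e : g = (g * g) ^ (m + 1) := by
    rw [← pow_two, ← pow_mul]
    have : 2 * (m + 1) = 2 * m + 1 + 1 := by ring
    rw [this, pow_succ, hg, one_mul]
  rw [e]
  exact A.pow_mem h _

theorem sq_mem_of_sup (L : Subgroup (S2 F)) (g : S2 F)
    (hg : g ∈ L ⊔ Subgroup.center (S2 F)) : g * g ∈ L := by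
  rw [Subgroup.mem_sup_of_normal_right] at hg
  obtain ⟨y, hy, z, hz, rfl⟩ := hg
  have hzs := (isSc_iff_center z).2 hz
  have e : y * z * (y * z) = y * y := by
    rw [mul_assoc, ← mul_assoc z y z, isSc_comm z hzs y, mul_assoc y z z, isSc_mul_self z hzs,
      mul_one]
  rw [e]
  exact L.mul_mem hy hy

theorem tr_ll (c : F) : tr (ll c) = 2 := by
  unfold tr
  rw [ll_00, ll_11]
  norm_num

theorem tr_ul (mu : F) : tr (uu mu * ll 1) = 2 + mu := by
  unfold tr
  rw [mul00, mul11]
  simp only [uu_00, uu_01, uu_10, uu_11, ll_00, ll_01, ll_10, ll_11]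
  ring

theorem ord_of_iso {X : Type*} [Group X] (H : Subgroup (P2 F)) (φ : H ≃* X) (n : ℕ) (g : S2 F)
    (hg : prj F g ∈ H) (h : φ ⟨prj F g, hg⟩ ^ n = 1) : IsSc (g ^ n) := by
  rw [← map_pow, ← map_one φ] at h
  have h1 := φ.injective h
  have h2 := congrArg Subtype.val h1
  rw [← prj_eq_one_iff, map_pow]
  simpa using h2

theorem tr_of_ord4 (g : S2 F) (h : IsSc (g ^ 2) ∨ IsSc (g ^ 3)) :
    tr g = 0 ∨ tr g ^ 2 = 4 ∨ tr g ^ 2 - 1 = 0 := by
  by_cases hs : IsSc g
  · right; left; exact isSc_tr g hs
  · rcases h with h | h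
    · left; exact isSc_pow2 g hs h
    · right; right; exact isSc_pow3 g hs h

theorem tr_of_ord5 (g : S2 F) (h : IsSc (g ^ 2) ∨ IsSc (g ^ 3) ∨ IsSc (g ^ 5)) :
    tr g = 0 ∨ tr g ^ 2 = 4 ∨ tr g ^ 2 - 1 = 0 ∨ tr g ^ 4 - 3 * tr g ^ 2 + 1 = 0 := by
  by_cases hs : IsSc g
  · right; left; exact isSc_tr g hs
  · rcases h with h | h | h
    · left; exact isSc_pow2 g hs h
    · right; right; left; exact isSc_pow3 g hs h
    · right; right; right; exact isSc_pow5 g hs h

theorem lam_frob3 (h3 : (3 : F) = 0) (lam : F) (hlam : lam ≠ 0)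
    (h : 2 + lam = 0 ∨ (2 + lam) ^ 2 = 4 ∨ (2 + lam) ^ 2 - 1 = 0) : lam ^ 3 = lam := by
  rcases h with h | h | h
  · have e : lam = -2 := by linear_combination h
    rw [e]
    linear_combination (-2 : F) * h3
  · have : lam * (lam + 4) = 0 := by linear_combination h
    rcases mul_eq_zero.1 this with h0 | h0
    · exact absurd h0 hlam
    · have e : lam = -4 := by linear_combination h0
      rw [e]
      linear_combination (-20 : F) * h3
  · have : (lam + 1) * (lam + 3) = 0 := by linear_combination h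
    rcases mul_eq_zero.1 this with h0 | h0
    · have e : lam = -1 := by linear_combination h0
      rw [e]
      ring
    · exact absurd (by linear_combination h0 - h3) hlam

theorem lam_frob5 (h5 : (5 : F) = 0) (lam : F) (hlam : lam ≠ 0)
    (h : 2 + lam = 0 ∨ (2 + lam) ^ 2 = 4 ∨ (2 + lam) ^ 2 - 1 = 0 ∨
      (2 + lam) ^ 4 - 3 * (2 + lam) ^ 2 + 1 = 0) : lam ^ 5 = lam := by
  have h4 : lam * (lam + 4) = 0 → lam ^ 5 = lam := by
    intro this
    rcases mul_eq_zero.1 this with h0 | h0
    · exact absurd h0 hlam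
    · have e : lam = -4 := by linear_combination h0
      rw [e]
      linear_combination (-204 : F) * h5
  rcases h with h | h | h | h
  · have e : lam = -2 := by linear_combination h
    rw [e]
    linear_combination (-6 : F) * h5
  · exact h4 (by linear_combination h)
  · have : (lam + 1) * (lam + 3) = 0 := by linear_combination h
    rcases mul_eq_zero.1 this with h0 | h0
    · have e : lam = -1 := by linear_combination h0
      rw [e]
      ring
    · have e : lam = -3 := by linear_combination h0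
      rw [e]
      linear_combination (-48 : F) * h5
  · have h6 : ((2 + lam) ^ 2 + 1) ^ 2 = 0 := by linear_combination h + (2 + lam) ^ 2 * h5
    have h7 := pow_eq_zero_iff (two_ne_zero) |>.1 h6
    exact h4 (by linear_combination h7 - h5)

theorem lam_cases3 (h3 : (3 : F) = 0) (mu : F)
    (h : 2 + mu = 0 ∨ (2 + mu) ^ 2 = 4 ∨ (2 + mu) ^ 2 - 1 = 0 ∨
      (2 + mu) ^ 4 - 3 * (2 + mu) ^ 2 + 1 = 0) :
    mu ^ 3 = mu ∨ mu ^ 2 + 1 = 0 ∨ mu ^ 2 - mu - 1 = 0 := by
  rcases h with h | h | h | h
  · left
    have e : mu = -2 := by linear_combination h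
    rw [e]
    linear_combination (-2 : F) * h3
  · left
    have : mu * (mu + 4) = 0 := by linear_combination h
    rcases mul_eq_zero.1 this with h0 | h0
    · rw [h0]; ring
    · have e : mu = -4 := by linear_combination h0
      rw [e]
      linear_combination (-20 : F) * h3
  · left
    have : (mu + 1) * (mu + 3) = 0 := by linear_combination h
    rcases mul_eq_zero.1 this with h0 | h0
    · have e : mu = -1 := by linear_combination h0
      rw [e]
      ring
    · have e : mu = -3 := by linear_combination h0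
      rw [e]
      linear_combination (-8 : F) * h3
  · right
    have : (mu ^ 2 + 1) * (mu ^ 2 - mu - 1) = 0 := by
      linear_combination h - (3 * mu ^ 3 + 7 * mu ^ 2 + 7 * mu + 2) * h3
    exact mul_eq_zero.1 this

theorem card_eq_of_le [Fintype F] (p : ℕ) [Fact p.Prime] [CharP F p] (h : Fintype.card F ≤ p) :
    Fintype.card F = p := by
  obtain ⟨n, -, hn⟩ := FiniteField.card F p
  have hp : 2 ≤ p := (Fact.out : p.Prime).two_le
  have h1 : p ^ 1 ≤ p ^ (n : ℕ) := Nat.pow_le_pow_right (by omega) n.pos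
  rw [pow_one, ← hn] at h1
  omega

set_option maxHeartbeats 1600000 in
theorem gen_main [Fintype F] (h2 : (2 : F) ≠ 0) (lam : F) (hlam : lam ≠ 0)
    (hgen : Subfield.closure ({lam} : Set F) = ⊤)
    (hexc : ¬ (Fintype.card F = 9 ∧ lam ^ 2 = -1))
    (L : Subgroup (S2 F)) (hL : L = Subgroup.closure {ll 1, uu lam}) : L = ⊤ := by
  classical
  obtain ⟨p, hp⟩ := CharP.exists F
  haveI : CharP F p := hp
  haveI : Fact p.Prime := ⟨CharP.char_is_prime F p⟩
  have hpp : p.Prime := Fact.out
  have hp2 : p ≠ 2 := char_ne_two_of p h2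
  have hodd : Odd p := hpp.odd_of_ne_two hp2
  have hu : uu lam ∈ L := by rw [hL]; exact Subgroup.subset_closure (by simp)
  have hlm : ll (1 : F) ∈ L := by rw [hL]; exact Subgroup.subset_closure (by simp)
  obtain ⟨M, hM⟩ : ∃ M : Subgroup (S2 F), M = L ⊔ Subgroup.center (S2 F) := ⟨_, rfl⟩
  have hLM : L ≤ M := by rw [hM]; exact le_sup_left
  have hZ : Subgroup.center (S2 F) ≤ M := by rw [hM]; exact le_sup_right
  have hfin : M = ⊤ → L = ⊤ := by
    intro hMt
    have hsq : ∀ g : S2 F, g * g ∈ L := by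
      intro g
      apply sq_mem_of_sup
      rw [← hM, hMt]
      exact Subgroup.mem_top g
    apply gen_top
    · intro b
      have e : uu b = uu (b / 2) * uu (b / 2) := by
        rw [uu_mul]
        congr 1
        field_simp
        ring
      rw [e]
      exact hsq _
    · intro c
      have e : ll c = ll (c / 2) * ll (c / 2) := by
        rw [ll_mul]
        congr 1
        field_simp
        ring
      rw [e]
      exact hsq _
  apply hfin
  have hnc : uu lam * ll 1 ≠ ll 1 * uu lam := by
    intro h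
    have h00 := congrArg (fun g : S2 F => g 0 0) h
    simp only [mul00, uu_00, uu_01, ll_00, ll_01, ll_10] at h00
    apply hlam
    linear_combination h00
  have hMle : ∀ N : Subgroup (S2 F), uu lam ∈ N → ll (1 : F) ∈ N →
      Subgroup.center (S2 F) ≤ N → M ≤ N := by
    intro N h1 h2 h3
    rw [hM, hL]
    refine sup_le ?_ h3
    rw [Subgroup.closure_le]
    rintro g (rfl | rfl)
    · exact h2
    · exact h1
  have hup : uu lam ^ p = 1 := pow_char_of_tr p _ (tr_uu lam)
  have hlp : ll (1 : F) ^ p = 1 := pow_char_of_tr p _ (tr_ll 1)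
  have hu1 : uu lam ≠ 1 := by
    intro h
    exact not_isSc_uu lam hlam (h ▸ isSc_one)
  have hpM : p ∣ Nat.card M := by
    have h1 := orderOf_eq_prime hup hu1
    have h2 := Subgroup.orderOf_dvd_natCard M (hLM hu)
    rwa [h1] at h2
  have hz2 := center_card_two h2 (F := F)
  have eLof : Lof (M.map (prj F)) = M :=
    Subgroup.comap_map_eq_self (f := prj F) (H := M) (by rw [ker_prj]; exact hZ)
  have hgM : uu lam * ll 1 ∈ M := M.mul_mem (hLM hu) (hLM hlm)
  have hgM' : uu (-lam) * ll 1 ∈ M := by
    rw [← uu_inv]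
    exact M.mul_mem (M.inv_mem (hLM hu)) (hLM hlm)
  have hprjM : ∀ g ∈ M, prj F g ∈ M.map (prj F) := fun g hg => Subgroup.mem_map_of_mem _ hg
  have hS2 := card_S2 (K := F)
  have hO := main_cases p M hZ
  unfold Outcome at hO
  rcases hO with c1 | ⟨x, hxM, hx4, hcomm⟩ | ⟨x, hxM, hx4, hcard⟩ | ⟨g, hg⟩ |
    ⟨hcard, x, hxM, hxs, hA, hN⟩ | ⟨hcard, ⟨x, hxM, hxs, hA⟩, hall⟩ | ⟨hcard, hall⟩ |
    ⟨x₀, hx₀M, hsc, h4, q', k, hq3, hcA, hcN, hcard, hk⟩
  · -- central
    exfalso
    have := hLM hu
    rw [c1, ← isSc_iff_center] at this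
    exact not_isSc_uu lam hlam this
  · -- abelian
    exfalso
    exact hnc (comm_trans (uu lam) x (ll 1) (not_isSc_of_tr x hx4) (hcomm _ (hLM hu))
      (hcomm _ (hLM hlm)))
  · -- dihedral type
    exfalso
    have hAle : cenL M x ≤ M := fun g hg => (mem_cenL.1 hg).1
    have hidx : ((cenL M x).subgroupOf M).index = 2 := by
      have h1 := Subgroup.card_mul_index ((cenL M x).subgroupOf M)
      rw [Nat.card_congr (Subgroup.subgroupOfEquivOfLe hAle).toEquiv, hcard] at h1
      have hpos : 0 < cA M x := Nat.card_pos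
      unfold cA at hpos h1
      have h2' : Nat.card (cenL M x) * ((cenL M x).subgroupOf M).index
          = Nat.card (cenL M x) * 2 := by rw [h1]; ring
      exact Nat.eq_of_mul_eq_mul_left hpos h2'
    have key : ∀ g ∈ M, g ^ p = 1 → g * x = x * g := by
      intro g hg hgp
      have h1 := Subgroup.mul_self_mem_of_index_two hidx (⟨g, hg⟩ : M)
      rw [Subgroup.mem_subgroupOf] at h1
      have h2' : g * g ∈ cenL M x := h1
      exact (mem_cenL.1 (odd_mem_of_sq _ g p hodd hgp h2')).2
    exact hnc (comm_trans (uu lam) x (ll 1) (not_isSc_of_tr x hx4) (key _ (hLM hu) hup)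
      (key _ (hLM hlm) hlp))
  · -- Borel
    exfalso
    have h1 := hg _ (hLM hu)
    rw [conj_uu_10] at h1
    have h10 : g 1 0 = 0 := by
      rcases mul_eq_zero.1 h1 with h | h
      · exact absurd (neg_eq_zero.1 h) hlam
      · exact pow_eq_zero_iff (two_ne_zero) |>.1 h
    have h3 := hg _ (hLM hlm)
    simp only [mul10, mul00, mul01, mul11, inv00, inv10, ll_00, ll_01, ll_10, ll_11, h10] at h3
    have h11 : g 1 1 = 0 := by
      have : g 1 1 * g 1 1 = 0 := by linear_combination h3
      exact mul_self_eq_zero.1 this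
    have hd := det2 g
    rw [h10, h11] at hd
    simp at hd
  · -- A4
    rw [hz2] at hcard hA hN
    obtain ⟨φ⟩ := out_A4 (M.map (prj F)) (by rw [eLof, hz2]; exact hcard) x
      (by rw [eLof]; exact hxM) (by rw [eLof, hz2]; exact hA) (by rw [eLof, hz2]; exact hN)
    have hp3 : p = 3 := by
      rw [hcard] at hpM
      have h24 : (12 * 2 : ℕ) = 2 ^ 3 * 3 := by norm_num
      rw [h24] at hpM
      rcases (Nat.Prime.dvd_mul hpp).1 hpM with h | h
      · exact absurd ((Nat.prime_dvd_prime_iff_eq hpp Nat.prime_two).1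
          (hpp.dvd_of_dvd_pow h)) hp2
      · exact (Nat.prime_dvd_prime_iff_eq hpp Nat.prime_three).1 h
    subst hp3
    have h3 : (3 : F) = 0 := by exact_mod_cast CharP.cast_eq_zero F 3
    have htr := tr_of_ord4 (uu lam * ll 1) (by
      rcases a4_ord (φ ⟨prj F (uu lam * ll 1), hprjM _ hgM⟩) with h | h
      · exact Or.inl (ord_of_iso _ φ 2 _ _ h)
      · exact Or.inr (ord_of_iso _ φ 3 _ _ h))
    rw [tr_ul] at htr
    have hf := lam_frob3 h3 lam hlam htr
    have hq := card_eq_of_le 3 (by
      have := card_le_of_frob 3 1 lam hgen (by rw [pow_one]; exact hf) (by norm_num)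
      simpa using this)
    apply Subgroup.eq_top_of_card_eq
    rw [hcard, hS2, hq]
    norm_num
  · -- S4
    exfalso
    rw [hz2] at hcard hA
    obtain ⟨φ⟩ := out_S4 (M.map (prj F)) (by rw [eLof, hz2]; exact hcard) x
      (by rw [eLof]; exact hxM) hxs (by rw [eLof, hz2]; exact hA) (by rw [eLof]; exact hall)
    let ψ : M →* ℤˣ := (Equiv.Perm.sign (α := Fin 4)).comp
      (φ.toMonoidHom.comp ((prj F).subgroupMap M))
    have hψs : Function.Surjective ψ := by
      refine (Equiv.Perm.sign_surjective (Fin 4)).comp (φ.surjective.comp ?_)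
      exact (prj F).subgroupMap_surjective M
    have hψp : ∀ g : M, g ^ p = 1 → ψ g = 1 := by
      intro g hgp
      have h1 : ψ g ^ p = 1 := by rw [← map_pow, hgp, map_one]
      obtain ⟨m, hm⟩ := hodd
      rw [hm, pow_succ, pow_mul, Int.units_sq, one_pow, one_mul] at h1
      exact h1
    have hle := hMle ((ψ.ker).map M.subtype)
      ⟨⟨uu lam, hLM hu⟩, hψp _ (Subtype.ext hup), rfl⟩
      ⟨⟨ll 1, hLM hlm⟩, hψp _ (Subtype.ext hlp), rfl⟩
      (by
        intro z hz
        refine ⟨⟨z, hZ hz⟩, ?_, rfl⟩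
        show ψ ⟨z, hZ hz⟩ = 1
        have h1 : (prj F).subgroupMap M ⟨z, hZ hz⟩ = 1 := by
          apply Subtype.ext
          show prj F z = 1
          rw [prj_eq_one_iff, isSc_iff_center]
          exact hz
        show Equiv.Perm.sign (φ ((prj F).subgroupMap M ⟨z, hZ hz⟩)) = 1
        rw [h1, map_one, map_one])
    obtain ⟨g, hg⟩ := hψs (-1)
    obtain ⟨g', hg', hgg⟩ := hle g.2
    have : g' = g := Subtype.ext hgg
    rw [this] at hg'
    have hg'' : ψ g = 1 := hg'
    rw [hg] at hg''
    exact absurd hg'' (by decide)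
  · -- A5
    rw [hz2] at hcard
    obtain ⟨φ⟩ := out_A5 (M.map (prj F)) (by rw [eLof, hz2]; exact hcard)
      (by rw [eLof]; exact hall)
    have htrM : ∀ g ∈ M, tr g = 0 ∨ tr g ^ 2 = 4 ∨ tr g ^ 2 - 1 = 0 ∨
        tr g ^ 4 - 3 * tr g ^ 2 + 1 = 0 := by
      intro g hg
      apply tr_of_ord5
      rcases a5_ord (φ ⟨prj F g, hprjM _ hg⟩) with h | h | h
      · exact Or.inl (ord_of_iso _ φ 2 _ _ h)
      · exact Or.inr (Or.inl (ord_of_iso _ φ 3 _ _ h))
      · exact Or.inr (Or.inr (ord_of_iso _ φ 5 _ _ h))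
    have htr := htrM _ hgM
    have htr' := htrM _ hgM'
    rw [tr_ul] at htr htr'
    have hp35 : p = 3 ∨ p = 5 := by
      rw [hcard] at hpM
      have h120 : (60 * 2 : ℕ) = 2 ^ 3 * 3 * 5 := by norm_num
      rw [h120] at hpM
      rcases (Nat.Prime.dvd_mul hpp).1 hpM with h | h
      · rcases (Nat.Prime.dvd_mul hpp).1 h with h | h
        · exact absurd ((Nat.prime_dvd_prime_iff_eq hpp Nat.prime_two).1
            (hpp.dvd_of_dvd_pow h)) hp2
        · exact Or.inl ((Nat.prime_dvd_prime_iff_eq hpp Nat.prime_three).1 h)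
      · exact Or.inr ((Nat.prime_dvd_prime_iff_eq hpp Nat.prime_five).1 h)
    rcases hp35 with hp3 | hp5
    · exfalso
      subst hp3
      have h3 : (3 : F) = 0 := by exact_mod_cast CharP.cast_eq_zero F 3
      have c1 := lam_cases3 h3 lam htr
      have c2 := lam_cases3 h3 (-lam) htr'
      have hcase : lam ^ 3 = lam ∨ lam ^ 2 + 1 = 0 := by
        rcases c1 with c1 | c1 | c1
        · exact Or.inl c1
        · exact Or.inr c1
        · rcases c2 with c2 | c2 | c2
          · exact Or.inl (by linear_combination -c2)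
          · exact Or.inr (by linear_combination c2)
          · exfalso
            apply hlam
            have h2l : 2 * lam = 0 := by linear_combination c2 - c1
            exact (mul_eq_zero.1 h2l).resolve_left h2
      rcases hcase with hf | hl
      · have hq := card_eq_of_le 3 (by
          have := card_le_of_frob 3 1 lam hgen (by rw [pow_one]; exact hf) (by norm_num)
          simpa using this)
        have hle := Subgroup.card_le_card_group M
        rw [hcard, hS2, hq] at hle
        norm_num at hle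
      · have h9 : lam ^ (3 ^ 2) = lam := by
          linear_combination (lam * (lam ^ 2 - 1) * (lam ^ 4 + 1)) * hl
        have hle := card_le_of_frob 3 2 lam hgen h9 (by norm_num)
        obtain ⟨n, -, hn⟩ := FiniteField.card F 3
        have hn2 : (n : ℕ) ≤ 2 := by
          by_contra hcon
          have : 3 ^ 3 ≤ 3 ^ (n : ℕ) := Nat.pow_le_pow_right (by norm_num) (by omega)
          rw [← hn] at this
          omega
        have hn1 : (n : ℕ) ≠ 1 := by
          intro h1
          rw [h1, pow_one] at hn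
          have h3' := FiniteField.pow_card lam
          rw [hn] at h3'
          have : lam * (lam ^ 2 - 1) = 0 := by linear_combination h3'
          rcases mul_eq_zero.1 this with h0 | h0
          · exact hlam h0
          · exact h2 (by linear_combination hl - h0)
        have hn' : (n : ℕ) = 2 := by
          have := n.pos
          omega
        rw [hn'] at hn
        exact hexc ⟨by rw [hn]; norm_num, by linear_combination hl⟩
    · subst hp5
      have h5 : (5 : F) = 0 := by exact_mod_cast CharP.cast_eq_zero F 5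
      have hf := lam_frob5 h5 lam hlam htr
      have hq := card_eq_of_le 5 (by
        have := card_le_of_frob 5 1 lam hgen (by rw [pow_one]; exact hf) (by norm_num)
        simpa using this)
      apply Subgroup.eq_top_of_card_eq
      rw [hcard, hS2, hq]
      norm_num
  · -- field case
    have hk1 : 1 ≤ k := by omega
    obtain ⟨θ, hNF, hcardθ, htr⟩ := exists_nf' M hZ x₀ hx₀M hsc h4 q' k (by omega) hk1 hcA hcN
      hcard
    obtain ⟨Kf, hKc, hsub, hsq⟩ := field_conc p (M.map θ.toMonoidHom) q' k hNF hq3 hcardθ hk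
    have ha' : θ (uu lam) ∈ SLsub Kf := by
      apply odd_mem_of_sq _ _ p hodd
      · rw [← map_pow, hup, map_one]
      · exact hsq _ ((mem_map_equiv' θ M _).2 (hLM hu))
    have hb' : θ (ll 1) ∈ SLsub Kf := by
      apply odd_mem_of_sq _ _ p hodd
      · rw [← map_pow, hlp, map_one]
      · exact hsq _ ((mem_map_equiv' θ M _).2 (hLM hlm))
    have hab := (SLsub Kf).mul_mem ha' hb'
    rw [← map_mul, mem_SLsub] at hab
    have htK : tr (θ (uu lam * ll 1)) ∈ Kf := Kf.add_mem (hab 0 0) (hab 1 1)
    rw [htr, tr_ul] at htK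
    have h2K : (2 : F) ∈ Kf := by
      rw [← one_add_one_eq_two]
      exact Kf.add_mem Kf.one_mem Kf.one_mem
    have hlK : lam ∈ Kf := by
      have := Kf.sub_mem htK h2K
      rwa [add_sub_cancel_left] at this
    have hKtop : Kf = ⊤ := by
      rw [eq_top_iff, ← hgen, Subfield.closure_le]
      intro y hy
      rw [Set.mem_singleton_iff] at hy
      rw [hy]
      exact hlK
    have hθtop : M.map θ.toMonoidHom = ⊤ := by
      rw [eq_top_iff]
      refine le_trans ?_ hsub
      intro g _
      rw [mem_SLsub, hKtop]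
      intro i j
      exact Subfield.mem_top _
    rw [eq_top_iff]
    intro g _
    rw [← mem_map_equiv' θ M g, hθtop]
    exact Subgroup.mem_top _

end Helpers

/-- Let F be a finite field of odd characteristic and λ ≠ 0 an element generating F as a field. Then the lower and upper unitriangular matrices with off-diagonal entries 1 and λ generate SL_2(F), unless |F| = 9 and λ² = −1, in which case they generate a subgroup of order 120. -/
theorem result {F : Type*} [Field F] [Fintype F] (h2 : (2 : F) ≠ 0) (lam : F) (hlam : lam ≠ 0) (hgen : Subfield.closure ({lam} : Set F) = ⊤) : (Subgroup.closure {g : Matrix.SpecialLinearGroup (Fin 2) F | (g : Matrix (Fin 2) (Fin 2) F) = !![1, 0; 1, 1] ∨ (g : Matrix (Fin 2) (Fin 2) F) = !![1, lam; 0, 1]} = ⊤ ∧ ¬ (Fintype.card F = 9 ∧ lam ^ 2 = -1)) ∨ (Fintype.card F = 9 ∧ lam ^ 2 = -1 ∧ Nat.card ↥(Subgroup.closure {g : Matrix.SpecialLinearGroup (Fin 2) F | (g : Matrix (Fin 2) (Fin 2) F) = !![1, 0; 1, 1] ∨ (g : Matrix (Fin 2) (Fin 2) F) = !![1, lam; 0, 1]}) = 120) :=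 by
  have hset : {g : Matrix.SpecialLinearGroup (Fin 2) F |
      (g : Matrix (Fin 2) (Fin 2) F) = !![1, 0; 1, 1] ∨
      (g : Matrix (Fin 2) (Fin 2) F) = !![1, lam; 0, 1]} = {ll 1, uu lam} := by
    ext g
    simp only [Set.mem_setOf_eq, Set.mem_insert_iff, Set.mem_singleton_iff]
    constructor
    · rintro (h | h)
      · left; exact Subtype.ext h
      · right; exact Subtype.ext h
    · rintro (h | h)
      · left; rw [h]; rfl
      · right; rw [h]; rfl
  rw [hset]
  by_cases hexc : Fintype.card F = 9 ∧ lam ^ 2 = -1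
  · right
    refine ⟨hexc.1, hexc.2, ?_⟩
    have h9 : ((9 : ℕ) : F) = 0 := by
      rw [← hexc.1]
      exact FiniteField.cast_card_eq_zero F
    have h3 : (3 : F) = 0 := by
      have : (3 : F) * 3 = 0 := by
        push_cast at h9
        linear_combination h9
      exact mul_self_eq_zero.1 this
    exact exc_card h3 lam (by linear_combination hexc.2) _ rfl
  · left
    exact ⟨gen_main h2 lam hlam hgen hexc _ rfl, hexc⟩

end Cfsg.Agent.S0801
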