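import Cfsg.Statements.S0927
import Mathlib
import Cfsg.Agent.Lib.Helper22.Defect2

set_option autoImplicit false
open Cfsg
open scoped ComplexConjugate

namespace Cfsg.Agent.S0927

open Cfsg.Agent.Lib.Helper4 Cfsg.Agent.Lib.Helper21 Cfsg.Agent.Lib.Helper22

theorem result {G : Type*} [Group G] [Finite G] (p : ℕ) [Fact p.Prime] (M : Ideal Cfsg.AlgInt) (hM : Cfsg.IsPModular p M) (B : Set (Cfsg.IrrCharacter G)) (hB : Cfsg.IsPBlock M B) (y : G) (hy : Cfsg.IsDefectClass M B y) (P : Sylow p (Subgroup.centralizer ({y} : Set G))) (x : Subgroup.centralizer ({y} : Set G)) (hx : x ∈ (P : Subgroup (Subgroup.centralizer ({y} : Set G)))) : (∀ χ ∈ B, Cfsg.blockHeight p B (χ : G → ℂ) = 0 → ¬ Cfsg.MemLocalIdeal M ((χ : G → ℂ) ((x : G) * y))) ∧ ((∀ w ∈ (P : Subgroup (Subgroup.centralizer ({y} : Set G))), x * w = w * x) → ∀ χ ∈ B, ¬ Cfsg.MemLocalIdeal M (Cfsg.centralChar (χ : G → ℂ) ((x : G) * y))) := by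
  classical
  have := Fintype.ofFinite G
  have hp := pmod_prime hM
  have hyreg : ¬ p ∣ orderOf y := by
    apply pRegular_of_blockCoeff_ne_zero hM B hB y
    intro h0
    apply hy.2.1
    rw [h0]
    exact locIdeal_zero hM
  obtain ⟨k, hk⟩ := P.isPGroup' ⟨x, hx⟩
  have hxk : (x : G) ^ (p ^ k) = 1 := by
    have h1 := congrArg (fun z : (P : Subgroup (Subgroup.centralizer ({y} : Set G))) => ((z : (Subgroup.centralizer ({y} : Set G))) : G)) hk
    simpa using h1
  have hcomm : Commute (x : G) y := by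
    have := Subgroup.mem_centralizer_iff.mp x.2 y (Set.mem_singleton y)
    exact this.symm
  have hidx0 : (Subgroup.centralizer ({y} : Set G)).index ≠ 0 := Subgroup.index_ne_zero_of_finite
  -- (a') : height zero characters do not vanish mod M at y
  have ha' : ∀ χ ∈ B, blockHeight p B (χ : G → ℂ) = 0 → ¬ MemLocalIdeal M ((χ : G → ℂ) y) := by
    intro χ hχ hh hmem
    obtain ⟨n, hn, hχ1⟩ := irr_one_nat χ
    have hfac := factorization_eq_of_height_zero hM B hB y hy χ hχ hh
    rw [charDegree_eq_of_one_eq _ n hχ1] at hfac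
    apply hy.2.2 χ hχ
    apply locIdeal_of_mul_natCast_div hM n (Subgroup.centralizer ({y} : Set G)).index hn.ne' hidx0 hfac
    have hn0 : (n : ℂ) ≠ 0 := by exact_mod_cast hn.ne'
    have hi0 : ((Subgroup.centralizer ({y} : Set G)).index : ℂ) ≠ 0 := by exact_mod_cast hidx0
    have e : (n : ℂ) * centralChar (χ : G → ℂ) y / ((Subgroup.centralizer ({y} : Set G)).index : ℂ) = (χ : G → ℂ) y := by
      unfold centralChar
      rw [hχ1]
      field_simp
    rw [e]
    exact hmem
  have ha : ∀ χ ∈ B, blockHeight p B (χ : G → ℂ) = 0 →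
      ¬ MemLocalIdeal M ((χ : G → ℂ) ((x : G) * y)) := by
    intro χ hχ hh hmem
    apply ha' χ hχ hh
    have h1 := char_ppart_mul_congr hM χ (x : G) y hcomm k hxk hyreg
    have h2 := locIdeal_sub hM hmem h1
    have e : (χ : G → ℂ) ((x : G) * y) - ((χ : G → ℂ) ((x : G) * y) - (χ : G → ℂ) y) =
        (χ : G → ℂ) y := by ring
    rw [e] at h2
    exact h2
  refine ⟨ha, ?_⟩
  intro hcen χ hχ hmem
  set C' := Subgroup.centralizer ({(x : G) * y} : Set G) with hC'
  have hCle : C' ≤ (Subgroup.centralizer ({y} : Set G)) := centralizer_mul_le hp (x : G) y hcomm k hxk hyreg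
  have hPC' : (P : Subgroup (Subgroup.centralizer ({y} : Set G))).map (Subgroup.centralizer ({y} : Set G)).subtype ≤ C' := by
    rintro _ ⟨w, hw, rfl⟩
    rw [hC', Subgroup.mem_centralizer_iff]
    intro z hz
    rw [Set.mem_singleton_iff] at hz
    rw [hz]
    have h1 : Commute (x : G) (w : G) := by
      have := congrArg (fun z : (Subgroup.centralizer ({y} : Set G)) => (z : G)) (hcen w hw)
      exact this
    have h2 : Commute y (w : G) := Subgroup.mem_centralizer_iff.mp w.2 y (Set.mem_singleton y)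
    exact h1.mul_left h2
  have hC0 : Nat.card (Subgroup.centralizer ({y} : Set G)) ≠ 0 := Nat.card_pos.ne'
  have hC'0 : Nat.card C' ≠ 0 := Nat.card_pos.ne'
  have hidx'0 : C'.index ≠ 0 := Subgroup.index_ne_zero_of_finite
  have hfacC : (Nat.card C').factorization p = (Nat.card (Subgroup.centralizer ({y} : Set G))).factorization p := by
    apply le_antisymm
    · exact (Nat.factorization_le_iff_dvd hC'0 hC0).mpr (Subgroup.card_dvd_of_le hCle) p
    · have h1 : Nat.card ((P : Subgroup (Subgroup.centralizer ({y} : Set G))).map (Subgroup.centralizer ({y} : Set G)).subtype) = p ^ (Nat.card (Subgroup.centralizer ({y} : Set G))).factorization p := by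
        rw [Subgroup.card_map_of_injective (Subgroup.centralizer ({y} : Set G)).subtype_injective]
        exact P.card_eq_multiplicity
      have h2 := Subgroup.card_dvd_of_le hPC'
      rw [h1] at h2
      exact (hp.pow_dvd_iff_le_factorization hC'0).mp h2
  have hfacI : C'.index.factorization p = (Subgroup.centralizer ({y} : Set G)).index.factorization p := by
    have e1 : (Nat.card G).factorization p =
        (Subgroup.centralizer ({y} : Set G)).index.factorization p + (Nat.card (Subgroup.centralizer ({y} : Set G))).factorization p := by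
      rw [← Subgroup.index_mul_card (Subgroup.centralizer ({y} : Set G)), Nat.factorization_mul hidx0 hC0]
      rfl
    have e2 : (Nat.card G).factorization p =
        C'.index.factorization p + (Nat.card C').factorization p := by
      rw [← Subgroup.index_mul_card C', Nat.factorization_mul hidx'0 hC'0]
      rfl
    omega
  obtain ⟨χ₁, hχ₁, hh₁⟩ := exists_height_zero hM B hB
  obtain ⟨n₁, hn₁, hχ₁1⟩ := irr_one_nat χ₁
  have hfac₁ := factorization_eq_of_height_zero hM B hB y hy χ₁ hχ₁ hh₁
  rw [charDegree_eq_of_one_eq _ n₁ hχ₁1] at hfac₁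
  -- ω_{χ₁}(xy) is a unit
  have hu₁ : ¬ MemLocalIdeal M (centralChar (χ₁ : G → ℂ) ((x : G) * y)) := by
    intro hmem₁
    apply ha χ₁ hχ₁ hh₁
    apply locIdeal_of_mul_natCast_div hM C'.index n₁ hidx'0 hn₁.ne' (hfacI.trans hfac₁.symm)
    have e : (C'.index : ℂ) * (χ₁ : G → ℂ) ((x : G) * y) / (n₁ : ℂ) =
        centralChar (χ₁ : G → ℂ) ((x : G) * y) := by
      unfold centralChar
      rw [hχ₁1]
    rw [e]
    exact hmem₁
  apply hu₁
  obtain ⟨χ₀, hχ₀⟩ := hB
  rw [hχ₀] at hχ hχ₁
  have s1 : MemLocalIdeal M (centralChar (χ₀ : G → ℂ) ((x : G) * y) -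
      centralChar (χ : G → ℂ) ((x : G) * y)) := hχ _
  have s2 : MemLocalIdeal M (centralChar (χ₀ : G → ℂ) ((x : G) * y) -
      centralChar (χ₁ : G → ℂ) ((x : G) * y)) := hχ₁ _
  have s3 := locIdeal_sub hM (locIdeal_add hM hmem s1) s2
  have e : centralChar (χ : G → ℂ) ((x : G) * y) + (centralChar (χ₀ : G → ℂ) ((x : G) * y) -
      centralChar (χ : G → ℂ) ((x : G) * y)) - (centralChar (χ₀ : G → ℂ) ((x : G) * y) -
      centralChar (χ₁ : G → ℂ) ((x : G) * y)) = centralChar (χ₁ : G → ℂ) ((x : G) * y) := by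
    ring
  rw [e] at s3
  exact s3

end Cfsg.Agent.S0927
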