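import Cfsg.Statements.S0929
import Mathlib
import Cfsg.Agent.Lib.Helper22.FMT
import Cfsg.Agent.Lib.Helper22.PPart
import Cfsg.Agent.Lib.Helper79.Blk2
import Cfsg.Agent.S0918
import Cfsg.Agent.S0920
import Cfsg.Agent.S0924

set_option autoImplicit false
open Cfsg

namespace Cfsg.Agent.S0929

open Cfsg.Agent.Lib.Helper4 Cfsg.Agent.Lib.Helper21 Cfsg.Agent.Lib.Helper22 Cfsg.Agent.Lib.Helper79

/-- The `p`-part in a subgroup is the `p`-part in the group. -/
theorem isPPart_subtype {G : Type*} [Group G] {p : ℕ} (H : Subgroup G) {h z : H}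
    (hz : IsPPart p h z) : IsPPart p (h : G) (z : G) := by
  obtain ⟨y, hzy, hc, ⟨k, hk⟩, hy⟩ := hz
  refine ⟨(y : G), ?_, ?_, ⟨k, ?_⟩, ?_⟩
  · rw [← hzy]; rfl
  · exact congrArg Subtype.val hc.eq
  · rw [Subgroup.orderOf_coe]; exact hk
  · rw [Subgroup.orderOf_coe]; exact hy

/-- Every defect group of a block with a normal defect group is contained in it. -/
theorem defectGroup_le_of_normal {G : Type*} [Group G] [Finite G] {p : ℕ} [Fact p.Prime]
    {M : Ideal AlgInt} (hM : IsPModular p M) (b : Set (IrrCharacter G)) (hb : IsPBlock M b)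
    (K : Subgroup G) [K.Normal] (hK : IsDefectGroup p M b K) (D : Subgroup G)
    (hD : IsDefectGroup p M b D) : D ≤ K := by
  classical
  letI := Fintype.ofFinite G
  obtain ⟨g₂, hg₂, Q, rfl⟩ := hD
  have hle : (Q : Subgroup (Subgroup.centralizer ({g₂} : Set G))).map
      (Subgroup.centralizer ({g₂} : Set G)).subtype ≤ Subgroup.centralizer ({g₂} : Set G) := by
    rintro _ ⟨z, _, rfl⟩
    exact z.2
  obtain ⟨t, ht⟩ := subConj_defectGroup_of_coeff_unit hM b hb K hK g₂ hg₂.2.1 _
    (Q.isPGroup'.map _) hle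
  rwa [map_conj_eq_of_normal K t] at ht

theorem result {G : Type*} [Group G] [Finite G] (p : ℕ) [Fact p.Prime] (M : Ideal Cfsg.AlgInt) (hM : Cfsg.IsPModular p M) (B : Set (Cfsg.IrrCharacter G)) (hB : Cfsg.IsPBlock M B) (P : Subgroup G) (hP : Cfsg.IsDefectGroup p M B P) (g : G) (hg : ∃ χ ∈ B, ¬ Cfsg.MemLocalIdeal M (Cfsg.centralChar (χ : G → ℂ) g)) : ∃ x : G, IsConj g x ∧ x ∈ Subgroup.centralizer (P : Set G) ∧ ∀ z : G, Cfsg.IsPPart p x z → z ∈ P ∧ ∀ w ∈ P, z * w = w * z := by
  classical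
  have hp : p.Prime := Fact.out
  obtain ⟨χ, hχB, hχg⟩ := hg
  have hPp : IsPGroup p P := isDefectGroup_isPGroup B P hP
  obtain ⟨b, ⟨hb, hDb, hind⟩, -⟩ := (Cfsg.Agent.S0920.result p M hM P hPp).2 B hB hP
  have hCN : Subgroup.centralizer (P : Set G) ≤ Subgroup.normalizer (P : Set G) := by
    intro c hc
    rw [Subgroup.mem_normalizer_iff]
    intro w
    have hcw : ∀ w ∈ P, c * w * c⁻¹ = w := by
      intro w hw
      have := Subgroup.mem_centralizer_iff.mp hc w hw
      rw [← this, mul_inv_cancel_right]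
    constructor
    · intro hw
      rw [hcw w hw]; exact hw
    · intro hw
      have hc' : c⁻¹ ∈ Subgroup.centralizer (P : Set G) := inv_mem hc
      have h1 := Subgroup.mem_centralizer_iff.mp hc' _ hw
      have h2 : w = c⁻¹ * (c * w * c⁻¹) * c := by group
      rw [h2, ← h1]
      simpa using hw
  have hbr := (Cfsg.Agent.S0918.result p M hM P (Subgroup.normalizer (P : Set G)) hPp
    Subgroup.le_normalizer hCN le_rfl b hb B hB).mp hind
  have hb' := hb
  obtain ⟨ξ₀, hξ₀⟩ := hb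
  have hξb : ξ₀ ∈ b := by rw [hξ₀]; exact Cfsg.Agent.Lib.Helper22.mem_blockOf_self hM ξ₀
  have h1 := hbr ξ₀ hξb χ hχB g
  have h2 : ¬ MemLocalIdeal M (brauerCentralChar P (Subgroup.normalizer (P : Set G))
      (ξ₀ : Subgroup.normalizer (P : Set G) → ℂ) g) := by
    intro h
    apply hχg
    have h3 := locIdeal_sub hM h h1
    simpa using h3
  have h3 : ∃ h : Subgroup.normalizer (P : Set G), IsConj g (h : G) ∧
      (h : G) ∈ Subgroup.centralizer (P : Set G) ∧
      (ξ₀ : Subgroup.normalizer (P : Set G) → ℂ) h ≠ 0 := by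
    by_contra hcon
    push Not at hcon
    apply h2
    have h4 : brauerCentralChar P (Subgroup.normalizer (P : Set G))
        (ξ₀ : Subgroup.normalizer (P : Set G) → ℂ) g = 0 := by
      unfold brauerCentralChar
      apply finsum_mem_eq_zero_of_forall_eq_zero
      intro h hh
      rw [hcon h hh.1 hh.2, zero_div]
    rw [h4]; exact locIdeal_zero hM
  obtain ⟨h, hconj, hcent, hne⟩ := h3
  obtain ⟨z', hz'⟩ := exists_isPPart hp h
  have hz'P : (z' : G) ∈ P := by
    by_contra hnot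
    apply hne
    apply Cfsg.Agent.S0924.result p M hM ξ₀ h z' hz'
    intro D hD hz'D
    apply hnot
    rw [← hξ₀] at hD
    have hle := defectGroup_le_of_normal hM b hb'
      (P.subgroupOf (Subgroup.normalizer (P : Set G))) hDb D hD
    exact Subgroup.mem_subgroupOf.mp (hle hz'D)
  have hz'G : IsPPart p (h : G) (z' : G) := isPPart_subtype _ hz'
  refine ⟨(h : G), hconj, hcent, ?_⟩
  intro z hz
  have hzz' := isPPart_unique hp hz hz'G
  subst hzz'
  refine ⟨hz'P, ?_⟩
  intro w hw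
  obtain ⟨s, hs⟩ := isPPart_exists_pow hp hz'G
  rw [hs]
  have hcomm : Commute w (h : G) := Subgroup.mem_centralizer_iff.mp hcent w hw
  exact (hcomm.pow_right s).eq.symm

end Cfsg.Agent.S0929
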