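import Cfsg.Statements.S0930
import Mathlib
import Cfsg.Agent.Lib.Helper22.FMT
import Cfsg.Agent.Lib.Helper22.PPart
import Cfsg.Agent.Lib.Helper22.IndBlock
import Cfsg.Agent.Lib.Helper22.IndDefect
import Cfsg.Agent.Lib.Helper22.Defect
import Cfsg.Agent.S0927
import Cfsg.Agent.S0929
import Cfsg.Agent.S0932

set_option autoImplicit false
open Cfsg

namespace Cfsg.Agent.S0930

open Cfsg.Agent.Lib.Helper4 Cfsg.Agent.Lib.Helper21 Cfsg.Agent.Lib.Helper22

/-- The induced central character lies in the local ideal if the central character does at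
all elements of the subgroup in the class. -/
theorem inducedCentralChar_locIdeal {G : Type*} [Group G] [Finite G] {p : ℕ} {M : Ideal AlgInt}
    (hM : IsPModular p M) (H : Subgroup G) (ξ : IrrCharacter H) (g : G)
    (h : ∀ k : H, IsConj g (k : G) → MemLocalIdeal M (centralChar (ξ : H → ℂ) k)) :
    MemLocalIdeal M (inducedCentralChar H (ξ : H → ℂ) g) := by
  classical
  letI := Fintype.ofFinite G
  letI := Fintype.ofFinite H
  rw [Cfsg.Agent.S0932.result H _ (isCharacter_of_irr ξ) g,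
    ← omega_classInd _ (isClassFunction_indFun H _) g,
    omega_indFun_res H _ _ (classInd_isClassFunction g),
    omega_eq_sum_classes _ _ (isClassFunction_irr ξ)
      (isClassFunction_res H _ (classInd_isClassFunction g))]
  refine locIdeal_sum hM _ _ fun c _ => ?_
  show MemLocalIdeal M (classInd g ((Quotient.out c : H) : G) * _)
  rw [classInd_apply]
  split_ifs with hc
  · rw [one_mul]; exact h _ hc.symm
  · rw [zero_mul]; exact locIdeal_zero hM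

theorem result {G : Type*} [Group G] [Finite G] (p : ℕ) [Fact p.Prime] (M : Ideal Cfsg.AlgInt) (hM : Cfsg.IsPModular p M) (H : Subgroup G) (b : Set (Cfsg.IrrCharacter H)) (B : Set (Cfsg.IrrCharacter G)) (hind : Cfsg.IsInducedBlock M H b B) (D : Subgroup H) (hD : Cfsg.IsDefectGroup p M b D) (P : Subgroup G) (hP : Cfsg.IsDefectGroup p M B P) (x : G) (hx : x ∈ P) (hxc : ∀ w ∈ P, x * w = w * x) : ∃ g : G, g * x * g⁻¹ ∈ D.map H.subtype ∧ ∀ w ∈ D.map H.subtype, (g * x * g⁻¹) * w = w * (g * x * g⁻¹) := by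
  classical
  letI := Fintype.ofFinite G
  have hp : p.Prime := Fact.out
  obtain ⟨hb, hB, hcong⟩ := hind
  have hb' := hb
  have hB' := hB
  obtain ⟨y, hy, Q, rfl⟩ := hP
  obtain ⟨x', hx'Q, rfl⟩ := hx
  have hxc' : ∀ w ∈ (Q : Subgroup (Subgroup.centralizer ({y} : Set G))), x' * w = w * x' := by
    intro w hw
    apply Subtype.ext
    exact hxc (w : G) ⟨w, hw, rfl⟩
  have hω := (Cfsg.Agent.S0927.result p M hM B hB y hy Q x' hx'Q).2 hxc'
  obtain ⟨χ₀, hχ₀⟩ := hB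
  have hχB : χ₀ ∈ B := by rw [hχ₀]; exact Cfsg.Agent.Lib.Helper22.mem_blockOf_self hM χ₀
  obtain ⟨ξ₀, hξ₀⟩ := hb
  have hξb : ξ₀ ∈ b := by rw [hξ₀]; exact Cfsg.Agent.Lib.Helper22.mem_blockOf_self hM ξ₀
  have h1 := hcong ξ₀ hξb χ₀ hχB ((x' : G) * y)
  have h2 : ¬ MemLocalIdeal M (inducedCentralChar H (ξ₀ : H → ℂ) ((x' : G) * y)) := by
    intro h
    apply hω χ₀ hχB
    have h3 := locIdeal_sub hM h h1
    simpa using h3
  have h3 : ∃ k : H, IsConj ((x' : G) * y) (k : G) ∧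
      ¬ MemLocalIdeal M (centralChar (ξ₀ : H → ℂ) k) := by
    by_contra hcon
    push Not at hcon
    exact h2 (inducedCentralChar_locIdeal hM H ξ₀ _ hcon)
  obtain ⟨k, hkconj, hk⟩ := h3
  obtain ⟨x₁, hx₁conj, hx₁cent, hx₁p⟩ :=
    Cfsg.Agent.S0929.result p M hM b hb' D hD k ⟨ξ₀, hξb, hk⟩
  have hpp : IsPPart p ((x' : G) * y) (x' : G) := by
    refine ⟨y, rfl, ?_, ?_, ?_⟩
    · have hx2 : (x' : G) ∈ Subgroup.centralizer ({y} : Set G) := x'.2
      exact (Subgroup.mem_centralizer_iff.mp hx2 y rfl).symm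
    · obtain ⟨j, hj⟩ := IsPGroup.iff_orderOf.mp Q.isPGroup' ⟨x', hx'Q⟩
      refine ⟨j, ?_⟩
      rw [Subgroup.orderOf_coe, ← hj]
      exact Subgroup.orderOf_coe (⟨x', hx'Q⟩ :
        (Q : Subgroup (Subgroup.centralizer ({y} : Set G))))
    · apply pRegular_of_blockCoeff_ne_zero hM B hB' y
      intro h0
      apply hy.2.1
      rw [h0]; exact locIdeal_zero hM
  obtain ⟨c₁, hc₁⟩ := isConj_iff.mp hkconj
  obtain ⟨c₂, hc₂⟩ := isConj_iff.mp hx₁conj
  have ht : ((c₂ : G) * c₁) * ((x' : G) * y) * ((c₂ : G) * c₁)⁻¹ = (x₁ : G) := by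
    rw [← hc₂]
    push_cast
    rw [← hc₁]
    group
  obtain ⟨z₁, hz₁⟩ := exists_isPPart hp x₁
  have hz₁G : IsPPart p (x₁ : G) (z₁ : G) := Cfsg.Agent.S0929.isPPart_subtype H hz₁
  have hconjpp : IsPPart p (x₁ : G) (((c₂ : G) * c₁) * (x' : G) * ((c₂ : G) * c₁)⁻¹) := by
    rw [← ht]; exact isPPart_conj hpp _
  have heq : (z₁ : G) = ((c₂ : G) * c₁) * (x' : G) * ((c₂ : G) * c₁)⁻¹ :=
    isPPart_unique hp hz₁G hconjpp
  obtain ⟨hz₁D, hz₁c⟩ := hx₁p z₁ hz₁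
  refine ⟨(c₂ : G) * c₁, ?_, ?_⟩
  · show ((c₂ : G) * c₁) * (x' : G) * ((c₂ : G) * c₁)⁻¹ ∈ D.map H.subtype
    rw [← heq]; exact ⟨z₁, hz₁D, rfl⟩
  · rintro _ ⟨w, hw, rfl⟩
    show ((c₂ : G) * c₁) * (x' : G) * ((c₂ : G) * c₁)⁻¹ * (w : G) =
      (w : G) * (((c₂ : G) * c₁) * (x' : G) * ((c₂ : G) * c₁)⁻¹)
    rw [← heq]
    exact congrArg Subtype.val (hz₁c w hw)

end Cfsg.Agent.S0930
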