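import Cfsg.Statements.S0931
import Mathlib
import Cfsg.Agent.Lib.Helper22.FMT
import Cfsg.Agent.S0906
import Cfsg.Agent.S0908
import Cfsg.Agent.S0917
import Cfsg.Agent.S0930

set_option autoImplicit false
open Cfsg

namespace Cfsg.Agent.S0931

open Cfsg.Agent.Lib.Helper4 Cfsg.Agent.Lib.Helper21 Cfsg.Agent.Lib.Helper22

/-- Every block has a defect group. -/
theorem exists_defectGroup {G : Type*} [Group G] [Finite G] (p : ℕ) [Fact p.Prime]
    (M : Ideal AlgInt) (hM : IsPModular p M) (B : Set (IrrCharacter G)) (hB : IsPBlock M B) :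
    ∃ D : Subgroup G, IsDefectGroup p M B D := by
  obtain ⟨g, hg⟩ := Cfsg.Agent.S0906.result p M hM B hB
  obtain ⟨Q⟩ : Nonempty (Sylow p (Subgroup.centralizer ({g} : Set G))) := inferInstance
  exact ⟨_, g, hg, Q, rfl⟩

theorem result {G : Type*} [Group G] [Finite G] (p : ℕ) [Fact p.Prime] (M : Ideal Cfsg.AlgInt) (hM : Cfsg.IsPModular p M) (H : Subgroup G) (b : Set (Cfsg.IrrCharacter H)) (B : Set (Cfsg.IrrCharacter G)) (hind : Cfsg.IsInducedBlock M H b B) : Cfsg.blockDefect p b = 0 ↔ Cfsg.blockDefect p B = 0 := by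
  classical
  have hp : p.Prime := Fact.out
  have hb := hind.1
  have hB := hind.2.1
  obtain ⟨D, hD⟩ := exists_defectGroup p M hM b hb
  obtain ⟨P, hP⟩ := exists_defectGroup p M hM B hB
  have hcD := Cfsg.Agent.S0908.result p M hM b hb D hD
  have hcP := Cfsg.Agent.S0908.result p M hM B hB P hP
  constructor
  · intro h0
    rw [h0, pow_zero] at hcD
    have hDbot : D = ⊥ := Subgroup.card_eq_one.mp hcD
    by_contra hne
    have hPcard : Nat.card P ≠ 1 := by
      rw [hcP]
      intro h1
      rcases (Nat.pow_eq_one.mp h1) with h2 | h2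
      · exact hp.one_lt.ne' h2
      · exact hne h2
    have hPp : IsPGroup p P := isDefectGroup_isPGroup B P hP
    haveI : Nontrivial P := by
      by_contra hnt
      rw [not_nontrivial_iff_subsingleton] at hnt
      exact hPcard (Nat.card_eq_one_iff_unique.mpr ⟨hnt, ⟨1⟩⟩)
    haveI := hPp.center_nontrivial
    obtain ⟨c, hc⟩ := exists_ne (1 : Subgroup.center P)
    have hcc : ∀ w ∈ P, ((c : P) : G) * w = w * ((c : P) : G) := by
      intro w hw
      have h1 := Subgroup.mem_center_iff.mp c.2 ⟨w, hw⟩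
      exact (congrArg Subtype.val h1).symm
    obtain ⟨g, hg, -⟩ := Cfsg.Agent.S0930.result p M hM H b B hind D hD P hP ((c : P) : G)
      (c : P).2 hcc
    rw [hDbot, Subgroup.map_bot, Subgroup.mem_bot] at hg
    have h2 : ((c : P) : G) = 1 := by
      calc ((c : P) : G) = g⁻¹ * (g * ((c : P) : G) * g⁻¹) * g := by group
        _ = 1 := by rw [hg]; group
    apply hc
    apply Subtype.ext
    apply Subtype.ext
    exact h2
  · intro h0
    obtain ⟨E, hE, hDE⟩ := Cfsg.Agent.S0917.result p M hM H b hb B hB hind D hD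
    have hcE := Cfsg.Agent.S0908.result p M hM B hB E hE
    rw [h0, pow_zero] at hcE
    have hEbot : E = ⊥ := Subgroup.card_eq_one.mp hcE
    rw [hEbot, le_bot_iff] at hDE
    have hDbot : D = ⊥ := by
      rw [eq_bot_iff]
      intro d hd
      have h1 : (d : G) ∈ D.map H.subtype := ⟨d, hd, rfl⟩
      rw [hDE, Subgroup.mem_bot] at h1
      rw [Subgroup.mem_bot]
      exact Subtype.ext h1
    rw [hDbot, Subgroup.card_bot] at hcD
    rcases (Nat.pow_eq_one.mp hcD.symm) with h2 | h2
    · exact absurd h2 hp.one_lt.ne'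
    · exact h2

end Cfsg.Agent.S0931
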