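import Mathlib
import Cfsg.Statements.S0976
import Cfsg.Agent.Lib.Helper20.G4032

set_option autoImplicit false
open Cfsg

namespace Cfsg.Agent.S0976

open Subgroup
open Cfsg.Agent.Lib.Helper23
open Cfsg.Agent.Lib.Helper76.SylPrime
open Cfsg.Agent.Lib.Helper20

/-- No finite simple group has order 4032 = 2^6 * 3^2 * 7. -/
theorem result {G : Type*} [Group G] [Finite G] [IsSimpleGroup G] : Nat.card G ≠ 4032 := by
  intro hcard
  have hG : ¬ IsMulCommutative G :=
    not_comm_of_simple_of_not_prime (by rw [hcard]; norm_num)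
  have hp7 : Fact (Nat.Prime 7) := ⟨by norm_num⟩
  have h7 : Nat.card G = 7 ^ 1 * 576 := by rw [hcard]; norm_num
  have hm : ¬ 7 ∣ 576 := by norm_num
  have hc : ∀ Q : Sylow 7 G, Nat.card (Q : Subgroup G) = 7 := fun Q => by
    have := sylow_card_of_eq h7 hm Q
    simpa using this
  have hn1 : Nat.card (Sylow 7 G) ≠ 1 :=
    simple_sylow_card_ne_one h7 hm (by norm_num) (by norm_num)
  have hmem := card_sylow_mem_filter h7 hm
  have hfilter : (Nat.divisors 576).filter (fun d => d % 7 = 1) = {1, 8, 36, 64, 288} := by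
    decide +kernel
  rw [hfilter] at hmem
  simp only [Finset.mem_insert, Finset.mem_singleton] at hmem
  obtain ⟨P⟩ : Nonempty (Sylow 7 G) := inferInstance
  obtain ⟨r, c, hr, hr1, hC, hN, hmul⟩ := card_centralizer_mul hG hc P
  rw [hcard] at hmul
  have hr6 : r = 2 ∨ r = 3 ∨ r = 6 := by
    have hle : r ≤ 6 := Nat.le_of_dvd (by norm_num) hr
    have hpos : 1 ≤ r := Nat.pos_of_dvd_of_pos hr (by norm_num)
    interval_cases r <;> simp_all
  rcases hmem with h | h | h | h | h
  · exact hn1 h
  · -- n_7 = 8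
    rw [h] at hmul
    refine g4032_n8 hG h P ?_
    rw [hC]
    rcases hr6 with rfl | rfl | rfl <;> omega
  · -- n_7 = 36
    rw [h] at hmul
    refine g4032_n36 hG h P ?_
    rw [hC]
    rcases hr6 with rfl | rfl | rfl <;> omega
  · -- n_7 = 64
    rw [h] at hmul
    refine g4032_n64 hcard hG hc h P ?_
    rw [hC]
    rcases hr6 with rfl | rfl | rfl <;> omega
  · -- n_7 = 288
    rw [h] at hmul
    have hrc : r = 2 ∧ c = 1 := by
      rcases hr6 with rfl | rfl | rfl <;> omega
    obtain ⟨rfl, rfl⟩ := hrc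
    exact g4032_n288 hcard hc P (by rw [hC]) (by rw [hN])

end Cfsg.Agent.S0976
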