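import Cfsg.Statements.S0983
import Mathlib
import Cfsg.Agent.S0499
import Cfsg.Agent.S0988
import Cfsg.Agent.S0975
import Cfsg.Agent.S0976
import Cfsg.Agent.S0977
import Cfsg.Agent.S0978
import Cfsg.Agent.S0980
import Cfsg.Agent.Lib.Helper11.S496Route
import Cfsg.Agent.Lib.Helper11.S983Route
import Cfsg.Agent.Lib.Helper11.S983Gen
import Cfsg.Agent.Lib.Helper30.S983N4200
import Cfsg.Agent.Lib.Helper31.S983N4620
import Cfsg.Agent.Lib.Helper31.S983T5
import Cfsg.Agent.Lib.Helper4.S983N3960
import Cfsg.Agent.Lib.Helper42.S983N5400B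
import Cfsg.Agent.Lib.Helper43.S983N5940
import Cfsg.Agent.Lib.Helper56.S983N4500
import Cfsg.Agent.Lib.Helper77.S983T4
import Cfsg.Agent.Lib.Helper8.S983N5460
import Cfsg.Agent.Lib.Helper82.S983N5400A

set_option autoImplicit false
open Cfsg

namespace Cfsg.Agent.S0983

open Cfsg.Agent.S983

theorem ns5400 {G : Type*} [Group G] [Finite G] [IsSimpleGroup G] (h : Nat.card G = 5400) :
    False := by
  haveI : Fact (Nat.Prime 5) := ⟨by norm_num⟩
  exact n5400_count h (fun Q x hx hx1 => n5400_local h Q x hx hx1)

theorem explicit_false {G : Type*} [Group G] [Finite G] [IsSimpleGroup G]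
    (hmem : Nat.card G ∈ explicitOrders) : False := by
  unfold explicitOrders at hmem
  simp only [List.mem_cons, List.not_mem_nil, or_false] at hmem
  rcases hmem with h | h | h | h | h | h | h | h | h | h | h | h | h | h | h | h | h | h | h | h | h | h | h | h | h | h | h | h | h | h | h | h | h | h | h | h | h | h | h | h | h | h | h | h | h | h | h | h | h | h | h | h | h | h | h | h | h | h | h | h | h | h | h | h | h | h | h | h | h | h | h | h | h | h | h | h | h | h | h | h | h
  · exact ns3675 h
  · exact ns3696 h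
  · exact Cfsg.Agent.S0975.result h
  · exact ns3780 h
  · exact ns3840 h
  · exact ns3861 h
  · exact ns3900 h
  · exact ns3920 h
  · exact ns3960 h
  · exact Cfsg.Agent.S0976.result h
  · exact ns4056 h
  · exact ns4095 h
  · exact ns4116 h
  · exact ns4125 h
  · exact ns4160 h
  · exact ns4200 h
  · exact ns4212 h
  · exact ns4224 h
  · have := Cfsg.Agent.S0988.result (G := G) 11 5 7 (by norm_num) (by norm_num) (by norm_num)
      (by rw [h]; norm_num)
    omega
  · exact ns4312 h
  · exact Cfsg.Agent.S0977.result h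
  · exact ns4356 h
  · exact ns4368 h
  · exact ns4400 h
  · exact ns4455 h
  · exact ns4480 h
  · exact ns4500 h
  · exact ns4536 h
  · exact ns4576 h
  · exact ns4620 h
  · exact ns4680 h
  · exact ns4704 h
  · have := Cfsg.Agent.S0988.result (G := G) 11 3 13 (by norm_num) (by norm_num) (by norm_num)
      (by rw [h]; norm_num)
    omega
  · exact ns4725 h
  · exact ns4752 h
  · exact ns4800 h
  · exact ns4851 h
  · exact ns4860 h
  · exact ns4875 h
  · exact ns4928 h
  · exact ns4992 h
  · exact ns5005 h
  · exact Cfsg.Agent.S0978.result h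
  · exact ns5049 h
  · exact ns5096 h
  · exact ns5100 h
  · exact ns5145 h
  · exact ns5148 h
  · exact ns5200 h
  · exact ns5265 h
  · exact ns5280 h
  · exact ns5292 h
  · exact ns5304 h
  · exact ns5355 h
  · exact ns5376 h
  · exact ns5400 h
  · exact ns5440 h
  · exact ns5445 h
  · exact ns5460 h
  · exact ns5508 h
  · have := Cfsg.Agent.S0988.result (G := G) 5 13 17 (by norm_num) (by norm_num) (by norm_num)
      (by rw [h]; norm_num)
    omega
  · exact ns5544 h
  · have := Cfsg.Agent.S0988.result (G := G) 13 3 11 (by norm_num) (by norm_num) (by norm_num)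
      (by rw [h]; norm_num)
    omega
  · exact ns5600 h
  · exact ns5712 h
  · exact ns5733 h
  · exact Cfsg.Agent.S0980.result h
  · exact ns5775 h
  · exact ns5808 h
  · exact ns5824 h
  · exact ns5880 h
  · have := Cfsg.Agent.S0988.result (G := G) 13 5 7 (by norm_num) (by norm_num) (by norm_num)
      (by rw [h]; norm_num)
    omega
  · exact ns5940 h
  · exact ns5967 h
  · exact ns5984 h
  · exact ns6000 h
  · have := Cfsg.Agent.S0988.result (G := G) 17 3 7 (by norm_num) (by norm_num) (by norm_num)
      (by rw [h]; norm_num)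
    omega
  · exact ns6084 h
  · exact ns6120 h
  · exact ns6160 h
  · have := Cfsg.Agent.S0988.result (G := G) 11 3 17 (by norm_num) (by norm_num) (by norm_num)
      (by rw [h]; norm_num)
    omega

/-- A non-abelian finite simple group of order greater than 3640 and at most 6232 has order 4080, 5616, 6048 or 6072. -/
theorem result {G : Type*} [Group G] [Finite G] [IsSimpleGroup G] (hG : ¬ IsMulCommutative G) (h1 : 3640 < Nat.card G) (h2 : Nat.card G ≤ 6232) : Nat.card G = 4080 ∨ Nat.card G = 5616 ∨ Nat.card G = 6048 ∨ Nat.card G = 6072 := by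
  have hpos : 0 < Nat.card G := Nat.card_pos
  by_cases hbig : ∃ p : ℕ, p.Prime ∧ p ∣ Nat.card G ∧ 19 ≤ p
  · obtain ⟨p, hp, hdvd, h19⟩ := hbig
    have hlt : Nat.card G < p ^ 3 := by
      have : 19 ^ 3 ≤ p ^ 3 := Nat.pow_le_pow_left h19 3
      omega
    rcases card_of_large_prime hG p hp (by omega) hdvd hlt h1 h2 with h | h
    · exact Or.inl h
    · exact Or.inr (Or.inr (Or.inr h))
  · have hs : ∀ p : ℕ, p.Prime → p ∣ Nat.card G → p ≤ 17 := by
      intro p hp hd
      by_contra hlt
      have h19 : 19 ≤ p := by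
        by_contra h'
        have h18 : p = 18 := by omega
        rw [h18] at hp
        exact absurd hp (by norm_num)
      exact hbig ⟨p, hp, hd, h19⟩
    have hd := smooth_dvd hpos h2 hs
    rcases route h1 h2 hd with h | h | h | h | h
    · exact h
    · obtain ⟨h17, hlt⟩ := h
      rcases card_of_large_prime hG 17 (by norm_num) (by norm_num)
        (Nat.dvd_of_mod_eq_zero h17) (by norm_num; omega) h1 h2 with h | h
      · exact Or.inl h
      · exact Or.inr (Or.inr (Or.inr h))
    · exfalso
      obtain ⟨t, ht, hdv⟩ := h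
      simp only [List.mem_cons, List.not_mem_nil, or_false] at ht
      rcases ht with rfl | rfl | rfl | rfl | rfl | rfl | rfl | rfl | rfl | rfl | rfl | rfl | rfl | rfl | rfl | rfl | rfl | rfl | rfl | rfl | rfl
      · exact Cfsg.Agent.S496.solv_false hG 2 3 12 7 (by norm_num) (by norm_num) hdv
      · exact Cfsg.Agent.S496.solv_false hG 2 5 12 5 (by norm_num) (by norm_num) hdv
      · exact Cfsg.Agent.S496.solv_false hG 2 7 12 4 (by norm_num) (by norm_num) hdv
      · exact Cfsg.Agent.S496.solv_false hG 2 11 12 3 (by norm_num) (by norm_num) hdv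
      · exact Cfsg.Agent.S496.solv_false hG 2 13 12 3 (by norm_num) (by norm_num) hdv
      · exact Cfsg.Agent.S496.solv_false hG 2 17 12 3 (by norm_num) (by norm_num) hdv
      · exact Cfsg.Agent.S496.solv_false hG 3 5 7 5 (by norm_num) (by norm_num) hdv
      · exact Cfsg.Agent.S496.solv_false hG 3 7 7 4 (by norm_num) (by norm_num) hdv
      · exact Cfsg.Agent.S496.solv_false hG 3 11 7 3 (by norm_num) (by norm_num) hdv
      · exact Cfsg.Agent.S496.solv_false hG 3 13 7 3 (by norm_num) (by norm_num) hdv
      · exact Cfsg.Agent.S496.solv_false hG 3 17 7 3 (by norm_num) (by norm_num) hdv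
      · exact Cfsg.Agent.S496.solv_false hG 5 7 5 4 (by norm_num) (by norm_num) hdv
      · exact Cfsg.Agent.S496.solv_false hG 5 11 5 3 (by norm_num) (by norm_num) hdv
      · exact Cfsg.Agent.S496.solv_false hG 5 13 5 3 (by norm_num) (by norm_num) hdv
      · exact Cfsg.Agent.S496.solv_false hG 5 17 5 3 (by norm_num) (by norm_num) hdv
      · exact Cfsg.Agent.S496.solv_false hG 7 11 4 3 (by norm_num) (by norm_num) hdv
      · exact Cfsg.Agent.S496.solv_false hG 7 13 4 3 (by norm_num) (by norm_num) hdv
      · exact Cfsg.Agent.S496.solv_false hG 7 17 4 3 (by norm_num) (by norm_num) hdv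
      · exact Cfsg.Agent.S496.solv_false hG 11 13 3 3 (by norm_num) (by norm_num) hdv
      · exact Cfsg.Agent.S496.solv_false hG 11 17 3 3 (by norm_num) (by norm_num) hdv
      · exact Cfsg.Agent.S496.solv_false hG 13 17 3 3 (by norm_num) (by norm_num) hdv
    · exfalso
      obtain ⟨he, h12, h16, h56⟩ := h
      have heven : Even (Nat.card G) := Nat.even_iff.mpr he
      rcases Cfsg.Agent.S0499.result hG heven with h' | h' | h' <;> omega
    · exact (explicit_false h).elim

end Cfsg.Agent.S0983
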