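import Cfsg.Statements.S0994
import Cfsg.Agent.Lib.Helper23.Syl

set_option autoImplicit false
open Cfsg

namespace Cfsg.Agent.S0994

/-- No finite simple group has order 1188 = 2^2 * 3^3 * 11. -/
theorem result {G : Type*} [Group G] [Finite G] [IsSimpleGroup G] : Nat.card G ≠ 1188 := by
  intro h
  have hG : ¬ IsMulCommutative G :=
    Cfsg.Agent.Lib.Helper23.not_comm_of_simple_of_not_prime (by rw [h]; norm_num)
  have : Fact (Nat.Prime 11) := ⟨by norm_num⟩
  have h1 : Nat.card G = 11 ^ 1 * 108 := h.trans (by norm_num)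
  have hm : ¬ 11 ∣ 108 := by norm_num
  have hmem := Cfsg.Agent.Lib.Helper23.card_sylow_mem_filter h1 hm
  have hne := Cfsg.Agent.Lib.Helper23.simple_sylow_card_ne_one h1 hm (by norm_num) (by norm_num)
  have hb := Cfsg.Agent.Lib.Helper23.simple_burnside_prime hG (p := 11) (m := 108)
    (h.trans (by norm_num)) hm
  rw [show (Nat.divisors 108).filter (fun d => d % 11 = 1) = {1, 12} from by decide +kernel] at hmem
  simp only [Finset.mem_insert, Finset.mem_singleton] at hmem
  rcases hmem with h2 | h2
  · exact hne h2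
  · rw [h2] at hb
    exact hb (by norm_num)

end Cfsg.Agent.S0994
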