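import Cfsg.Statements.S1249
import Mathlib

set_option autoImplicit false
open Cfsg

namespace Cfsg.Agent.S1249

/-- Let P and Q be Sylow p-subgroups of the finite group G both containing the subgroup A. If A is strongly closed in P, then A is strongly closed in Q. -/
theorem result {G : Type*} [Group G] [Finite G] {p : ℕ} [Fact p.Prime] (P Q : Sylow p G) (A : Subgroup G) (hAQ : A ≤ Q) (hA : Cfsg.IsStronglyClosed A (P : Subgroup G)) : Cfsg.IsStronglyClosed A (Q : Subgroup G) := by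
  obtain ⟨g, hg⟩ := MulAction.exists_smul_eq G P Q
  have hmem : ∀ x : G, x ∈ (Q : Subgroup G) ↔ g⁻¹ * x * g ∈ (P : Subgroup G) := by
    intro x
    rw [← hg, Sylow.coe_subgroup_smul, Subgroup.mem_pointwise_smul_iff_inv_smul_mem]
    simp [MulAut.smul_def]
  have ha : ∀ a ∈ A, g⁻¹ * a * g ∈ A := by
    intro a ha
    have h1 := (hmem a).mp (hAQ ha)
    have h2 := hA.2 a ha g⁻¹
    rw [inv_inv] at h2
    exact h2 h1
  have hb : ∀ y ∈ A, g * y * g⁻¹ ∈ A := by
    intro y hy
    let f : A → A := fun a => ⟨g⁻¹ * a.1 * g, ha a.1 a.2⟩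
    have hinj : Function.Injective f := by
      intro s t h
      have := congrArg Subtype.val h
      simp only [f] at this
      exact Subtype.ext (by simpa using this)
    obtain ⟨a, hfa⟩ := (Finite.injective_iff_surjective.mp hinj) ⟨y, hy⟩
    have h3 : g⁻¹ * a.1 * g = y := congrArg Subtype.val hfa
    rw [← h3]
    have : g * (g⁻¹ * a.1 * g) * g⁻¹ = a.1 := by group
    rw [this]; exact a.2
  refine ⟨hAQ, ?_⟩
  intro x hx h hh
  have h1 := (hmem _).mp hh
  have h2 := hA.2 x hx (g⁻¹ * h)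
  have e : g⁻¹ * h * x * (g⁻¹ * h)⁻¹ = g⁻¹ * (h * x * h⁻¹) * g := by group
  rw [e] at h2
  have h3 := hb _ (h2 h1)
  have e2 : g * (g⁻¹ * (h * x * h⁻¹) * g) * g⁻¹ = h * x * h⁻¹ := by group
  rw [e2] at h3
  exact h3

end Cfsg.Agent.S1249
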