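import Cfsg.Statements.S1250
import Mathlib

set_option autoImplicit false
open Cfsg

namespace Cfsg.Agent.S1250

open scoped Pointwise

/-- a `p`-element of `S ⊔ N` is `N`-conjugate into the Sylow subgroup `S`. -/
theorem conj_into_sylow {G : Type*} [Group G] [Finite G] {p : ℕ} [Fact p.Prime] (S : Sylow p G)
    (N : Subgroup G) [N.Normal] (y : G) (hy : y ∈ (S : Subgroup G) ⊔ N) (k : ℕ)
    (hyk : y ^ p ^ k = 1) : ∃ n ∈ N, n * y * n⁻¹ ∈ (S : Subgroup G) := by
  set H : Subgroup G := (S : Subgroup G) ⊔ N with hH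
  have hSH : (S : Subgroup G) ≤ H := le_sup_left
  let S' : Sylow p H := S.subtype hSH
  let z : H := ⟨y, hy⟩
  have hz : z ^ p ^ k = 1 := Subtype.ext (by simpa [z] using hyk)
  have hZ : IsPGroup p (Subgroup.zpowers z) := by
    rintro ⟨w, hw⟩
    obtain ⟨m, rfl⟩ := Subgroup.mem_zpowers_iff.mp hw
    refine ⟨k, Subtype.ext ?_⟩
    simp only [Subgroup.coe_pow, Subgroup.coe_one]
    rw [← zpow_natCast, ← zpow_mul, mul_comm, zpow_mul, zpow_natCast, hz, one_zpow]
  obtain ⟨Q, hQ⟩ := hZ.exists_le_sylow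
  obtain ⟨h, hh⟩ := MulAction.exists_smul_eq H S' Q
  have hzQ : z ∈ (Q : Subgroup H) := hQ (Subgroup.mem_zpowers z)
  rw [← hh, Sylow.coe_subgroup_smul, Subgroup.mem_pointwise_smul_iff_inv_smul_mem] at hzQ
  have hzS : ((h⁻¹ * z * h : H) : G) ∈ (S : Subgroup G) := by
    have : (MulAut.conj h)⁻¹ • z = h⁻¹ * z * h := by simp [MulAut.smul_def]
    rw [this] at hzQ
    exact hzQ
  have hinv : ((h⁻¹ : H) : G) ∈ ((S : Subgroup G) : Set G) * (N : Set G) := by
    rw [← Subgroup.mul_normal]; exact (h⁻¹).2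
  obtain ⟨s, hs, n, hn, hsn⟩ := hinv
  refine ⟨n, hn, ?_⟩
  have e : n * y * n⁻¹ = s⁻¹ * ((h⁻¹ * z * h : H) : G) * s := by
    have h1 : ((h⁻¹ * z * h : H) : G) = (s * n) * y * (s * n)⁻¹ := by
      have hsn' : s * n = (h : G)⁻¹ := by simpa using hsn
      have hh' : (h : G) = (s * n)⁻¹ := by rw [hsn', inv_inv]
      simp only [Subgroup.coe_mul, Subgroup.coe_inv, z]
      rw [hh']; simp
    rw [h1]; group
  rw [e]
  exact mul_mem (mul_mem (inv_mem hs) hzS) hs

/-- Let S be a Sylow p-subgroup of the finite group G, A ≤ S strongly closed in S, and N a normal subgroup. Then the image of A in G ⧸ N is strongly closed in the image of S (which is a Sylow p-subgroup of G ⧸ N). -/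
theorem result {G : Type*} [Group G] [Finite G] {p : ℕ} [Fact p.Prime] (S : Sylow p G) (A : Subgroup G) (hA : Cfsg.IsStronglyClosed A (S : Subgroup G)) (N : Subgroup G) [N.Normal] : Cfsg.IsStronglyClosed (A.map (QuotientGroup.mk' N)) ((S : Subgroup G).map (QuotientGroup.mk' N)) := by
  refine ⟨Subgroup.map_mono hA.1, ?_⟩
  rintro _ ⟨a, ha, rfl⟩ gbar hg
  obtain ⟨g, rfl⟩ := QuotientGroup.mk'_surjective N gbar
  obtain ⟨s, hs, hs2⟩ := hg
  have hs3 : (QuotientGroup.mk' N) s = (QuotientGroup.mk' N) (g * a * g⁻¹) := by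
    rw [hs2]; simp
  simp only [QuotientGroup.mk'_apply] at hs3
  rw [QuotientGroup.eq] at hs3
  have hy : g * a * g⁻¹ ∈ (S : Subgroup G) ⊔ N := by
    have : g * a * g⁻¹ = s * (s⁻¹ * (g * a * g⁻¹)) := by group
    rw [this]
    exact mul_mem (Subgroup.mem_sup_left hs) (Subgroup.mem_sup_right hs3)
  obtain ⟨k, hk⟩ := S.2 ⟨a, hA.1 ha⟩
  have hak : a ^ p ^ k = 1 := by
    have := congrArg Subtype.val hk
    simpa using this
  have hyk : (g * a * g⁻¹) ^ p ^ k = 1 := by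
    rw [conj_pow, hak]; group
  obtain ⟨n, hn, hn2⟩ := conj_into_sylow S N (g * a * g⁻¹) hy k hyk
  have e : n * (g * a * g⁻¹) * n⁻¹ = (n * g) * a * (n * g)⁻¹ := by group
  rw [e] at hn2
  have h3 := hA.2 a ha (n * g) hn2
  refine ⟨(n * g) * a * (n * g)⁻¹, h3, ?_⟩
  have hn1 : (QuotientGroup.mk' N) n = 1 := by
    simp only [QuotientGroup.mk'_apply]
    exact (QuotientGroup.eq_one_iff n).mpr hn
  simp only [map_mul, map_inv, hn1, one_mul]

end Cfsg.Agent.S1250
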