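import Cfsg.Statements.S1293
import Cfsg.Agent.Lib.Helper30.PLayer

set_option autoImplicit false
open Cfsg
open Cfsg.Agent.Lib.Helper30

namespace Cfsg.Agent.S1293

theorem result {G : Type*} [Group G] [Finite G] (p : ℕ) [Fact p.Prime] (hL : Cfsg.pLayer p G = ⊥) (P : Subgroup G) (hP : IsPGroup p ↥P) (hP1 : P ≠ ⊥) : Cfsg.pLayer p ↥(Subgroup.normalizer (P : Set G)) = ⊥ ∧ (Cfsg.pPrimeCore p ↥(Subgroup.normalizer (P : Set G))).map (Subgroup.normalizer (P : Set G)).subtype ≤ Cfsg.pPrimeCore p G := by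
  have hlay : layer (G ⧸ pPrimeCore p G) = ⊥ := (pLayer_eq_bot_iff_layer_quotient p).mp hL
  have hcent : Subgroup.centralizer (pCore p (G ⧸ pPrimeCore p G) : Set (G ⧸ pPrimeCore p G))
      ≤ pCore p (G ⧸ pPrimeCore p G) :=
    (genFitting_eq_pCore_iff_centralizer p).mp
      (genFitting_eq_pCore_of_cores p (pPrimeCore_quotient_eq_bot p) hlay)
  have hM : generalizedFittingSubgroup
        ↥((Subgroup.normalizer (P : Set G)).map (QuotientGroup.mk' (pPrimeCore p G)))
      = pCore p ↥((Subgroup.normalizer (P : Set G)).map (QuotientGroup.mk' (pPrimeCore p G))) :=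
    genFitting_eq_pCore_of_local p hcent (U := P.map (QuotientGroup.mk' (pPrimeCore p G)))
      (hP.map _) (Subgroup.map_mono Subgroup.le_normalizer) (Subgroup.le_normalizer_map _) (by
        intro c hc
        obtain ⟨x, hx, rfl⟩ := exists_lift_centralizer p (not_dvd_card_pPrimeCore p) hP hc.2
        exact Subgroup.mem_map_of_mem _ (Subgroup.centralizer_le_normalizer _ hx))
  obtain ⟨hM1, hM2⟩ := (genFitting_eq_pCore_iff_cores p).mp hM
  have hφ : Function.Surjective ((QuotientGroup.mk' (pPrimeCore p G)).subgroupMap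
      (Subgroup.normalizer (P : Set G))) :=
    (QuotientGroup.mk' (pPrimeCore p G)).subgroupMap_surjective _
  have hmem : ∀ w ∈ ((QuotientGroup.mk' (pPrimeCore p G)).subgroupMap
      (Subgroup.normalizer (P : Set G))).ker, (w : G) ∈ pPrimeCore p G := by
    intro w hw
    have h1 : (QuotientGroup.mk' (pPrimeCore p G)) (w : G) = 1 :=
      congrArg Subtype.val (MonoidHom.mem_ker.mp hw)
    exact (QuotientGroup.eq_one_iff _).mp h1
  have hker : (Nat.card ((QuotientGroup.mk' (pPrimeCore p G)).subgroupMap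
      (Subgroup.normalizer (P : Set G))).ker).Coprime p := by
    rw [← card_map_subtype]
    refine Nat.Coprime.coprime_dvd_left (Subgroup.card_dvd_of_le ?_) (pPrimeCore_coprime (G := G) p)
    rintro _ ⟨w, hw, rfl⟩
    exact hmem w hw
  constructor
  · exact pLayer_eq_bot_of_surjective p _ hφ hker hM1 hM2
  · rintro _ ⟨w, hw, rfl⟩
    apply hmem
    rw [← pPrimeCore_eq_ker p _ hφ hker hM1]
    exact hw

end Cfsg.Agent.S1293
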