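import Cfsg.Statements.S1323
import Cfsg.Agent.Lib.Helper30.Basic

set_option autoImplicit false
open Cfsg

namespace Cfsg.Agent.S1323

open Equiv Equiv.Perm

variable {n : ℕ}

/-- the 3-cycle `a ↦ b ↦ c ↦ a` -/
def tc (a b c : Fin n) : Perm (Fin n) := swap a b * swap b c

theorem tc_apply_a {a b c : Fin n} (hab : a ≠ b) (hac : a ≠ c) : tc a b c a = b := by
  simp [tc, Equiv.swap_apply_of_ne_of_ne hab hac]

theorem tc_apply_of_ne {a b c x : Fin n} (hxa : x ≠ a) (hxb : x ≠ b) (hxc : x ≠ c) :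
    tc a b c x = x := by
  simp [tc, Equiv.swap_apply_of_ne_of_ne hxb hxc, Equiv.swap_apply_of_ne_of_ne hxa hxb]

theorem tc_mem {a b c : Fin n} (hab : a ≠ b) (hbc : b ≠ c) : tc a b c ∈ alternatingGroup (Fin n) := by
  rw [Equiv.Perm.mem_alternatingGroup, tc, Equiv.Perm.sign_mul, Equiv.Perm.sign_swap hab,
    Equiv.Perm.sign_swap hbc]
  rfl

/-- elements fixing the points `< 4` -/
def Lfix (n : ℕ) : Subgroup ↥(alternatingGroup (Fin n)) where
  carrier := {σ | ∀ x : Fin n, x.val < 4 → σ.1 x = x}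
  mul_mem' := by
    intro a b ha hb x hx
    simp only [Set.mem_setOf_eq] at ha hb
    simp [Subgroup.coe_mul, Equiv.Perm.mul_apply, hb x hx, ha x hx]
  one_mem' := by intro x _; simp
  inv_mem' := by
    intro a ha x hx
    simp only [Set.mem_setOf_eq] at ha
    have := ha x hx
    simp only [Subgroup.coe_inv]
    rw [Equiv.Perm.inv_eq_iff_eq]
    exact this.symm

/-- elements fixing the points `≥ 4` -/
def Kfix (n : ℕ) : Subgroup ↥(alternatingGroup (Fin n)) where
  carrier := {σ | ∀ x : Fin n, 4 ≤ x.val → σ.1 x = x}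
  mul_mem' := by
    intro a b ha hb x hx
    simp only [Set.mem_setOf_eq] at ha hb
    simp [Subgroup.coe_mul, Equiv.Perm.mul_apply, hb x hx, ha x hx]
  one_mem' := by intro x _; simp
  inv_mem' := by
    intro a ha x hx
    simp only [Set.mem_setOf_eq] at ha
    have := ha x hx
    simp only [Subgroup.coe_inv]
    rw [Equiv.Perm.inv_eq_iff_eq]
    exact this.symm

theorem mem_Lfix {σ : ↥(alternatingGroup (Fin n))} :
    σ ∈ Lfix n ↔ ∀ x : Fin n, x.val < 4 → σ.1 x = x := Iff.rfl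

theorem mem_Kfix {σ : ↥(alternatingGroup (Fin n))} :
    σ ∈ Kfix n ↔ ∀ x : Fin n, 4 ≤ x.val → σ.1 x = x := Iff.rfl

theorem stab_eq_Lfix (h4 : 4 ≤ n) :
    (⨅ i : Fin 4, MulAction.stabilizer ↥(alternatingGroup (Fin n)) (Fin.castLE h4 i : Fin n))
      = Lfix n := by
  ext σ
  simp only [Subgroup.mem_iInf, MulAction.mem_stabilizer_iff, mem_Lfix]
  constructor
  · intro h x hx
    have := h ⟨x.val, hx⟩
    simpa [Subgroup.smul_def] using this
  · intro h i
    have := h (Fin.castLE h4 i) (by simp)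
    simpa [Subgroup.smul_def] using this

theorem ex_hi (hn : 9 ≤ n) (x y u : Fin n) :
    ∃ v : Fin n, 4 ≤ v.val ∧ v ≠ x ∧ v ≠ y ∧ v ≠ u := by
  by_contra hcon
  push_neg at hcon
  have h4 := hcon ⟨4, by omega⟩ (by simp)
  have h5 := hcon ⟨5, by omega⟩ (by simp)
  have h6 := hcon ⟨6, by omega⟩ (by simp)
  have h7 := hcon ⟨7, by omega⟩ (by simp)
  simp only [ne_eq, Fin.ext_iff] at h4 h5 h6 h7
  omega

theorem ex_lo (hn : 9 ≤ n) (x y u : Fin n) :
    ∃ v : Fin n, v.val < 4 ∧ v ≠ x ∧ v ≠ y ∧ v ≠ u := by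
  by_contra hcon
  push_neg at hcon
  have h4 := hcon ⟨0, by omega⟩ (by simp)
  have h5 := hcon ⟨1, by omega⟩ (by simp)
  have h6 := hcon ⟨2, by omega⟩ (by simp)
  have h7 := hcon ⟨3, by omega⟩ (by simp)
  simp only [ne_eq, Fin.ext_iff] at h4 h5 h6 h7
  omega

theorem cent_fix (H : Subgroup ↥(alternatingGroup (Fin n))) (σ : ↥(alternatingGroup (Fin n)))
    (hσ : σ ∈ Subgroup.centralizer (H : Set ↥(alternatingGroup (Fin n)))) (x : Fin n)
    (h : ∀ y : Fin n, y ≠ x → ∃ τ ∈ H, (τ.1 x = x ∧ τ.1 y ≠ y) ∨ (τ.1 x ≠ x ∧ τ.1 y = y)) :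
    σ.1 x = x := by
  by_contra hne
  obtain ⟨τ, hτ, hcase⟩ := h (σ.1 x) hne
  have hcomm := hσ τ hτ
  have hc : τ.1 (σ.1 x) = σ.1 (τ.1 x) := by
    have := congrArg (fun g : ↥(alternatingGroup (Fin n)) => g.1 x) hcomm
    simpa [Subgroup.coe_mul, Equiv.Perm.mul_apply] using this
  rcases hcase with ⟨h1, h2⟩ | ⟨h1, h2⟩
  · rw [h1] at hc
    exact h2 hc
  · rw [h2] at hc
    exact h1 (σ.1.injective hc.symm)

theorem comm_KL {σ τ : ↥(alternatingGroup (Fin n))} (hσ : σ ∈ Kfix n) (hτ : τ ∈ Lfix n) :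
    σ * τ = τ * σ := by
  have hd : Equiv.Perm.Disjoint σ.1 τ.1 := by
    intro x
    by_cases hx : x.val < 4
    · exact Or.inr (hτ x hx)
    · exact Or.inl (hσ x (by omega))
  apply Subtype.ext
  simpa [Subgroup.coe_mul] using hd.commute.eq

theorem tcL_mem {a b c : Fin n} (hab : a ≠ b) (hbc : b ≠ c) (ha : 4 ≤ a.val) (hb : 4 ≤ b.val)
    (hc : 4 ≤ c.val) : (⟨tc a b c, tc_mem hab hbc⟩ : ↥(alternatingGroup (Fin n))) ∈ Lfix n := by
  intro x hx
  apply tc_apply_of_ne
  · intro h; rw [h] at hx; omega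
  · intro h; rw [h] at hx; omega
  · intro h; rw [h] at hx; omega

theorem tcK_mem {a b c : Fin n} (hab : a ≠ b) (hbc : b ≠ c) (ha : a.val < 4) (hb : b.val < 4)
    (hc : c.val < 4) : (⟨tc a b c, tc_mem hab hbc⟩ : ↥(alternatingGroup (Fin n))) ∈ Kfix n := by
  intro x hx
  apply tc_apply_of_ne
  · intro h; rw [h] at hx; omega
  · intro h; rw [h] at hx; omega
  · intro h; rw [h] at hx; omega

theorem cent_Lfix (hn : 9 ≤ n) :
    Subgroup.centralizer (Lfix n : Set ↥(alternatingGroup (Fin n))) = Kfix n := by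
  apply le_antisymm
  · intro σ hσ x hx
    apply cent_fix (Lfix n) σ hσ x
    intro y hy
    by_cases hy4 : y.val < 4
    · obtain ⟨u, hu4, hux, -, -⟩ := ex_hi hn x x x
      obtain ⟨v, hv4, hvx, hvu, -⟩ := ex_hi hn x u u
      refine ⟨⟨tc x u v, tc_mem hux.symm hvu.symm⟩, tcL_mem hux.symm hvu.symm hx hu4 hv4, Or.inr ⟨?_, ?_⟩⟩
      · show tc x u v x ≠ x
        rw [tc_apply_a hux.symm hvx.symm]
        exact hux
      · show tc x u v y = y
        apply tc_apply_of_ne hy
        · intro h; rw [h] at hy4; omega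
        · intro h; rw [h] at hy4; omega
    · obtain ⟨u, hu4, hux, huy, -⟩ := ex_hi hn x y y
      obtain ⟨v, hv4, hvx, hvy, hvu⟩ := ex_hi hn x y u
      refine ⟨⟨tc y u v, tc_mem huy.symm hvu.symm⟩,
        tcL_mem huy.symm hvu.symm (by omega) hu4 hv4, Or.inl ⟨?_, ?_⟩⟩
      · show tc y u v x = x
        exact tc_apply_of_ne hy.symm hux.symm hvx.symm
      · show tc y u v y ≠ y
        rw [tc_apply_a huy.symm hvy.symm]
        exact huy
  · intro σ hσ
    rw [Subgroup.mem_centralizer_iff]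
    intro τ hτ
    exact (comm_KL hσ hτ).symm

theorem cent_Kfix (hn : 9 ≤ n) :
    Subgroup.centralizer (Kfix n : Set ↥(alternatingGroup (Fin n))) = Lfix n := by
  apply le_antisymm
  · intro σ hσ x hx
    apply cent_fix (Kfix n) σ hσ x
    intro y hy
    by_cases hy4 : y.val < 4
    · obtain ⟨u, hu4, hux, huy, -⟩ := ex_lo hn x y y
      obtain ⟨v, hv4, hvx, hvy, hvu⟩ := ex_lo hn x y u
      refine ⟨⟨tc y u v, tc_mem huy.symm hvu.symm⟩,
        tcK_mem huy.symm hvu.symm hy4 hu4 hv4, Or.inl ⟨?_, ?_⟩⟩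
      · show tc y u v x = x
        exact tc_apply_of_ne hy.symm hux.symm hvx.symm
      · show tc y u v y ≠ y
        rw [tc_apply_a huy.symm hvy.symm]
        exact huy
    · obtain ⟨u, hu4, hux, -, -⟩ := ex_lo hn x x x
      obtain ⟨v, hv4, hvx, hvu, -⟩ := ex_lo hn x u u
      refine ⟨⟨tc x u v, tc_mem hux.symm hvu.symm⟩, tcK_mem hux.symm hvu.symm hx hu4 hv4, Or.inr ⟨?_, ?_⟩⟩
      · show tc x u v x ≠ x
        rw [tc_apply_a hux.symm hvx.symm]
        exact hux
      · show tc x u v y = y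
        apply tc_apply_of_ne hy
        · intro h; rw [h] at hy4; omega
        · intro h; rw [h] at hy4; omega
  · intro σ hσ
    rw [Subgroup.mem_centralizer_iff]
    intro τ hτ
    exact comm_KL hτ hσ

/-- the points `≥ 4` -/
abbrev Hi (n : ℕ) : Type := {x : Fin n // 4 ≤ x.val}

theorem card_Hi (hn : 9 ≤ n) : 5 ≤ Nat.card (Hi n) := by
  rw [Nat.card_eq_fintype_card]
  let f : Fin 5 → Hi n := fun i => ⟨⟨i.val + 4, by omega⟩, by simp⟩
  have hf : Function.Injective f := by
    intro i j hij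
    simp only [f, Subtype.mk.injEq, Fin.mk.injEq] at hij
    exact Fin.ext (by omega)
  simpa using Fintype.card_le_of_injective f hf

/-- the embedding of `Alt(Hi n)` into `Alt(Fin n)` -/
def emb (n : ℕ) : ↥(alternatingGroup (Hi n)) →* ↥(alternatingGroup (Fin n)) :=
  MonoidHom.codRestrict
    ((Equiv.Perm.ofSubtype : Perm (Hi n) →* Perm (Fin n)).comp (alternatingGroup (Hi n)).subtype)
    (alternatingGroup (Fin n))
    (fun σ => by
      rw [Equiv.Perm.mem_alternatingGroup]
      simp only [MonoidHom.coe_comp, Subgroup.coe_subtype, Function.comp_apply]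
      rw [Equiv.Perm.sign_ofSubtype]
      exact Equiv.Perm.mem_alternatingGroup.mp σ.2)

theorem emb_coe (σ : ↥(alternatingGroup (Hi n))) :
    ((emb n σ : ↥(alternatingGroup (Fin n))) : Perm (Fin n)) = Equiv.Perm.ofSubtype σ.1 := rfl

theorem emb_injective : Function.Injective (emb n) := by
  intro a b hab
  have h1 : Equiv.Perm.ofSubtype a.1 = Equiv.Perm.ofSubtype b.1 := by
    rw [← emb_coe, ← emb_coe, hab]
  exact Subtype.ext (Equiv.Perm.ofSubtype_injective h1)

theorem emb_range : (emb n).range = Lfix n := by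
  ext τ
  constructor
  · rintro ⟨σ, rfl⟩ x hx
    rw [emb_coe]
    exact Equiv.Perm.ofSubtype_apply_of_not_mem σ.1 (by simpa using hx)
  · intro hτ
    have h₁ : ∀ x : Fin n, 4 ≤ (τ.1 x).val ↔ 4 ≤ x.val := by
      intro x
      constructor
      · intro h
        by_contra hx
        have := hτ x (by omega)
        rw [this] at h
        exact hx h
      · intro h
        by_contra hx
        have h2 := hτ (τ.1 x) (by omega)
        have h3 := τ.1.injective h2
        rw [h3] at hx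
        exact hx h
    have h₂ : ∀ x : Fin n, τ.1 x ≠ x → 4 ≤ x.val := by
      intro x hx
      by_contra h
      exact hx (hτ x (by omega))
    have hof : Equiv.Perm.ofSubtype (Equiv.Perm.subtypePerm τ.1 h₁) = τ.1 :=
      Equiv.Perm.ofSubtype_subtypePerm h₁ h₂
    have hsgn : Equiv.Perm.subtypePerm τ.1 h₁ ∈ alternatingGroup (Hi n) := by
      rw [Equiv.Perm.mem_alternatingGroup, ← Equiv.Perm.sign_ofSubtype, hof]
      exact Equiv.Perm.mem_alternatingGroup.mp τ.2
    refine ⟨⟨Equiv.Perm.subtypePerm τ.1 h₁, hsgn⟩, ?_⟩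
    apply Subtype.ext
    rw [emb_coe]
    exact hof

theorem qs_alt (hn : 9 ≤ n) : IsQuasisimple ↥(alternatingGroup (Hi n)) := by
  have h5 := card_Hi hn
  refine ⟨⟨commutator_alternatingGroup_eq_top h5⟩, ?_⟩
  have hc : Subgroup.center ↥(alternatingGroup (Hi n)) = ⊥ :=
    alternatingGroup.center_eq_bot (by omega)
  haveI : IsSimpleGroup ↥(alternatingGroup (Hi n)) := alternatingGroup.isSimpleGroup h5
  exact ((QuotientGroup.quotientMulEquivOfEq hc).trans QuotientGroup.quotientBot).isSimpleGroup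

theorem qs_Lfix (hn : 9 ≤ n) : IsQuasisimple ↥(Lfix n) := by
  have e : ↥(alternatingGroup (Hi n)) ≃* ↥(Lfix n) :=
    (MonoidHom.ofInjective (emb_injective (n := n))).trans (MulEquiv.subgroupCongr emb_range)
  exact Cfsg.Agent.Lib.Helper30.isQuasisimple_of_mulEquiv e (qs_alt hn)

theorem invol_moves (h4 : 4 ≤ n) (τ : ↥(alternatingGroup (Fin n))) (hτ : τ ∈ Kfix n)
    (ho : orderOf τ = 2) : ∀ x : Fin n, x.val < 4 → τ.1 x ≠ x := by
  have ho' : orderOf τ.1 = 2 := by rw [← ho]; exact Subgroup.orderOf_coe τ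
  obtain ⟨m, hm⟩ := Equiv.Perm.cycleType_prime_order (σ := τ.1) (by rw [ho']; exact Nat.prime_two)
  have hsign := Equiv.Perm.sign_of_cycleType τ.1
  have h1 : Equiv.Perm.sign τ.1 = 1 := Equiv.Perm.mem_alternatingGroup.mp τ.2
  have hsum := Equiv.Perm.sum_cycleType τ.1
  rw [hm, ho'] at hsign hsum
  simp only [Multiset.sum_replicate, Multiset.card_replicate, smul_eq_mul] at hsign hsum
  rw [h1] at hsign
  have hev : Even ((m + 1) * 2 + (m + 1)) := by
    by_contra hne
    rw [Nat.not_even_iff_odd] at hne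
    rw [hne.neg_one_pow] at hsign
    exact absurd hsign (by decide)
  have hm1 : 1 ≤ m := by
    rcases hev with ⟨r, hr⟩
    omega
  let D : Finset (Fin n) := (Finset.univ : Finset (Fin 4)).image (Fin.castLE h4)
  have hD : D.card = 4 := by
    rw [Finset.card_image_of_injective _ (Fin.castLE_injective h4)]
    simp
  have hsub : τ.1.support ⊆ D := by
    intro x hx
    rw [Equiv.Perm.mem_support] at hx
    have hx4 : x.val < 4 := by
      by_contra h
      exact hx (hτ x (by omega))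
    exact Finset.mem_image.mpr ⟨⟨x.val, hx4⟩, Finset.mem_univ _, by ext; simp⟩
  have heq : τ.1.support = D := Finset.eq_of_subset_of_card_le hsub (by rw [hD, ← hsum]; omega)
  intro x hx
  rw [← Equiv.Perm.mem_support, heq]
  exact Finset.mem_image.mpr ⟨⟨x.val, hx⟩, Finset.mem_univ _, by ext; simp⟩

theorem even_card_Kfix (hn : 9 ≤ n) : Even (Nat.card ↥(Kfix n)) := by
  let a : Fin n := ⟨0, by omega⟩
  let b : Fin n := ⟨1, by omega⟩
  let c : Fin n := ⟨2, by omega⟩
  let d : Fin n := ⟨3, by omega⟩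
  have hab : a ≠ b := by simp [a, b, Fin.ext_iff]
  have hcd : c ≠ d := by simp [c, d, Fin.ext_iff]
  have hnd : [a, b, c, d].Nodup := by simp [a, b, c, d, Fin.ext_iff]
  let t : Perm (Fin n) := swap a b * swap c d
  have ht : t ∈ alternatingGroup (Fin n) := by
    rw [Equiv.Perm.mem_alternatingGroup, Equiv.Perm.sign_mul, Equiv.Perm.sign_swap hab,
      Equiv.Perm.sign_swap hcd]
    rfl
  have hcomm : swap a b * swap c d = swap c d * swap a b :=
    (Equiv.Perm.disjoint_swap_swap hnd).commute.eq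
  have hsq : t ^ 2 = 1 := by
    show (swap a b * swap c d) ^ 2 = 1
    rw [sq]
    calc swap a b * swap c d * (swap a b * swap c d)
        = swap a b * (swap c d * swap a b) * swap c d := by group
      _ = swap a b * (swap a b * swap c d) * swap c d := by rw [hcomm]
      _ = (swap a b * swap a b) * (swap c d * swap c d) := by group
      _ = 1 := by simp
  have hne : t ≠ 1 := by
    intro h
    have h2 : t a = b := by
      show (swap a b * swap c d) a = b
      have hac : a ≠ c := by simp [a, c, Fin.ext_iff]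
      have had : a ≠ d := by simp [a, d, Fin.ext_iff]
      simp [Equiv.swap_apply_of_ne_of_ne hac had]
    rw [h] at h2
    exact hab (by simpa using h2)
  have hK : (⟨t, ht⟩ : ↥(alternatingGroup (Fin n))) ∈ Kfix n := by
    intro x hx
    show (swap a b * swap c d) x = x
    have h1 : x ≠ a := by intro h; rw [h] at hx; simp [a] at hx
    have h2 : x ≠ b := by intro h; rw [h] at hx; simp [b] at hx
    have h3 : x ≠ c := by intro h; rw [h] at hx; simp [c] at hx
    have h4 : x ≠ d := by intro h; rw [h] at hx; simp [d] at hx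
    simp [Equiv.swap_apply_of_ne_of_ne h3 h4, Equiv.swap_apply_of_ne_of_ne h1 h2]
  have hord : orderOf (⟨⟨t, ht⟩, hK⟩ : ↥(Kfix n)) = 2 := by
    haveI : Fact (Nat.Prime 2) := ⟨Nat.prime_two⟩
    apply orderOf_eq_prime
    · apply Subtype.ext
      apply Subtype.ext
      simpa using hsq
    · intro h
      apply hne
      have := congrArg (fun z : ↥(Kfix n) => (z.1.1 : Perm (Fin n))) h
      simpa using this
  rw [even_iff_two_dvd, ← hord]
  exact orderOf_dvd_natCard _

theorem norm_of_pres (g : ↥(alternatingGroup (Fin n)))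
    (hA : ∀ x : Fin n, x.val < 4 → (g.1 x).val < 4)
    (hB : ∀ x : Fin n, x.val < 4 → (g.1⁻¹ x).val < 4) :
    g ∈ Subgroup.normalizer (Kfix n : Set ↥(alternatingGroup (Fin n))) := by
  rw [Subgroup.mem_normalizer_iff]
  intro h
  constructor
  · intro hh x hx
    show (g.1 * h.1 * g.1⁻¹) x = x
    have h1 : 4 ≤ (g.1⁻¹ x).val := by
      by_contra hlt
      have := hA (g.1⁻¹ x) (by omega)
      simp at this
      omega
    simp only [Equiv.Perm.mul_apply]
    rw [hh _ h1]
    simp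
  · intro hh x hx
    have h1 : 4 ≤ (g.1 x).val := by
      by_contra hlt
      have := hB (g.1 x) (by omega)
      simp at this
      omega
    have h2 : (g.1 * h.1 * g.1⁻¹) (g.1 x) = g.1 x := hh _ h1
    simp only [Equiv.Perm.mul_apply, Equiv.Perm.coe_inv, Equiv.symm_apply_apply] at h2
    exact g.1.injective h2

theorem tight_Kfix (hn : 9 ≤ n) : IsTightlyEmbedded (Kfix n) := by
  refine ⟨even_card_Kfix hn, ?_⟩
  intro g hg
  by_contra hodd
  rw [Nat.not_odd_iff_even, even_iff_two_dvd] at hodd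
  haveI : Fact (Nat.Prime 2) := ⟨Nat.prime_two⟩
  obtain ⟨τ, hτ⟩ := exists_prime_orderOf_dvd_card' 2 hodd
  have hτK : τ.1 ∈ Kfix n := τ.2.1
  obtain ⟨τ', hτ'K, hτ'⟩ := Subgroup.mem_map.mp τ.2.2
  have ho : orderOf τ.1 = 2 := by rw [← hτ]; exact Subgroup.orderOf_coe τ
  have ho' : orderOf τ' = 2 := by
    rw [← ho, ← hτ']
    exact ((MulAut.conj g).orderOf_eq τ').symm
  have hm := invol_moves (by omega) τ.1 hτK ho
  have hm' := invol_moves (by omega) τ' hτ'K ho'
  have hrel : τ.1.1 = g.1 * τ'.1 * g.1⁻¹ := by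
    rw [← hτ']
    simp [MulAut.conj_apply]
  apply hg
  apply norm_of_pres
  · intro x hx
    by_contra hlt
    have h1 := hτK (g.1 x) (by omega)
    rw [hrel] at h1
    simp only [Equiv.Perm.mul_apply, Equiv.Perm.coe_inv, Equiv.symm_apply_apply] at h1
    exact hm' x hx (g.1.injective h1)
  · intro x hx
    by_contra hlt
    have h1 := hτ'K (g.1⁻¹ x) (by omega)
    have h2 : τ.1.1 x = x := by
      rw [hrel]
      simp only [Equiv.Perm.mul_apply]
      rw [h1]
      simp
    exact hm x hx h2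

theorem norm_le_norm_cent {G : Type*} [Group G] (H : Subgroup G) :
    Subgroup.normalizer (H : Set G) ≤
      Subgroup.normalizer (Subgroup.centralizer (H : Set G) : Set G) := by
  intro g hg
  rw [Subgroup.mem_normalizer_iff] at hg ⊢
  intro x
  simp only [Subgroup.mem_centralizer_iff]
  constructor
  · intro hx h hh
    have h1 : g⁻¹ * h * g ∈ H := by
      rw [hg]
      simpa [mul_assoc] using hh
    have h2 := hx _ h1
    calc h * (g * x * g⁻¹) = g * ((g⁻¹ * h * g) * x) * g⁻¹ := by group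
      _ = g * (x * (g⁻¹ * h * g)) * g⁻¹ := by rw [h2]
      _ = g * x * g⁻¹ * h := by group
  · intro hx h hh
    have h1 : g * h * g⁻¹ ∈ H := (hg h).mp hh
    have h2 := hx _ h1
    have h3 : g * (h * x) * g⁻¹ = g * (x * h) * g⁻¹ := by
      calc g * (h * x) * g⁻¹ = (g * h * g⁻¹) * (g * x * g⁻¹) := by group
        _ = (g * x * g⁻¹) * (g * h * g⁻¹) := h2
        _ = g * (x * h) * g⁻¹ := by group
    exact mul_left_cancel (mul_right_cancel h3)

theorem ex_hi_inj (hn : 9 ≤ n) (f : Fin n → Fin n) (hf : Function.Injective f) :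
    ∃ z : Fin n, 4 ≤ z.val ∧ 4 ≤ (f z).val := by
  by_contra hcon
  push_neg at hcon
  have h4 := hcon ⟨4, by omega⟩ (by simp)
  have h5 := hcon ⟨5, by omega⟩ (by simp)
  have h6 := hcon ⟨6, by omega⟩ (by simp)
  have h7 := hcon ⟨7, by omega⟩ (by simp)
  have h8 := hcon ⟨8, by omega⟩ (by simp)
  have key : ∀ i j : ℕ, ∀ (hi : i < n) (hj : j < n), i ≠ j →
      (f ⟨i, hi⟩).val ≠ (f ⟨j, hj⟩).val := by
    intro i j hi hj hij h
    exact hij (by simpa using hf (Fin.ext h))
  have k45 := key 4 5 (by omega) (by omega) (by omega)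
  have k46 := key 4 6 (by omega) (by omega) (by omega)
  have k47 := key 4 7 (by omega) (by omega) (by omega)
  have k48 := key 4 8 (by omega) (by omega) (by omega)
  have k56 := key 5 6 (by omega) (by omega) (by omega)
  have k57 := key 5 7 (by omega) (by omega) (by omega)
  have k58 := key 5 8 (by omega) (by omega) (by omega)
  have k67 := key 6 7 (by omega) (by omega) (by omega)
  have k68 := key 6 8 (by omega) (by omega) (by omega)
  have k78 := key 7 8 (by omega) (by omega) (by omega)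
  omega

theorem comm_ne_bot (hn : 9 ≤ n) (g : ↥(alternatingGroup (Fin n))) :
    ⁅Lfix n, (Lfix n).map (MulAut.conj g).toMonoidHom⁆ ≠ ⊥ := by
  intro hbot
  rw [Subgroup.commutator_eq_bot_iff_le_centralizer] at hbot
  have hle : (Lfix n).map (MulAut.conj g).toMonoidHom ≤ Kfix n := by
    rw [← cent_Lfix hn]
    exact Subgroup.le_centralizer_iff.mp hbot
  obtain ⟨z, hz4, hw4⟩ := ex_hi_inj hn (fun x => g.1⁻¹ x) (g.1⁻¹).injective
  set w : Fin n := g.1⁻¹ z with hw
  obtain ⟨u, hu4, huw, -, -⟩ := ex_hi hn w w w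
  obtain ⟨v, hv4, hvw, hvu, -⟩ := ex_hi hn w u u
  have hτL : (⟨tc w u v, tc_mem huw.symm hvu.symm⟩ : ↥(alternatingGroup (Fin n))) ∈ Lfix n :=
    tcL_mem huw.symm hvu.symm hw4 hu4 hv4
  have hmem := hle (Subgroup.mem_map_of_mem _ hτL)
  have h1 := hmem z hz4
  have h2 : g.1 (tc w u v (g.1⁻¹ z)) = z := by
    simpa [MulAut.conj_apply, Equiv.Perm.mul_apply] using h1
  rw [← hw, tc_apply_a huw.symm hvw.symm] at h2
  have h3 : u = w := by
    rw [hw, Equiv.Perm.eq_inv_iff_eq]
    exact h2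
  exact huw h3

theorem result (n : ℕ) (h4 : 4 ≤ n) (hn : 9 ≤ n) : Cfsg.IsStandardSubgroup (⨅ i : Fin 4, MulAction.stabilizer ↥(alternatingGroup (Fin n)) (Fin.castLE h4 i : Fin n)) := by
  rw [stab_eq_Lfix h4]
  refine ⟨qs_Lfix hn, ?_, ?_, ?_⟩
  · rw [cent_Lfix hn]
    exact tight_Kfix hn
  · intro g _
    exact comm_ne_bot hn g
  · rw [cent_Lfix hn]
    apply le_antisymm
    · have := norm_le_norm_cent (Lfix n)
      rwa [cent_Lfix hn] at this
    · have := norm_le_norm_cent (Kfix n)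
      rwa [cent_Kfix hn] at this

end Cfsg.Agent.S1323
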