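-- Statement S1324: coprime action, generation by hyperplane centralizers.
import Cfsg.Statements.S1324
import Mathlib
import Cfsg.Agent.S0058
import Cfsg.Agent.Lib.Helper30.PType

set_option autoImplicit false
open Cfsg

namespace Cfsg.Agent.S1324

open Subgroup

/-- Rank induction: for a solvable `A`-invariant subgroup `Y ≤ X` and `B₀ ≤ A`, the fixed points of
`B₀` on `Y` lie in any subgroup `L` containing the fixed points on `X` of the hyperplanes. -/
theorem key {H : Type*} [Group H] [Finite H] (p : ℕ) [Fact p.Prime] (A X : Subgroup H)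
    (hA : Cfsg.IsElementaryAbelian p A) (hX : ¬ p ∣ Nat.card ↥X)
    (L : Subgroup H)
    (hL : ∀ B : Subgroup H, B ≤ A → B.relIndex A ≤ p → X ⊓ centralizer (B : Set H) ≤ L)
    (Y : Subgroup H) (hYX : Y ≤ X) (hAY : A ≤ normalizer (Y : Set H)) (hYs : Group.IsSolvable Y)
    (B₀ : Subgroup H) (hB₀ : B₀ ≤ A) : Y ⊓ centralizer (B₀ : Set H) ≤ L := by
  have hp := (Fact.out : p.Prime)
  have hcomm : ∀ a ∈ A, ∀ b ∈ A, a * b = b * a := fun a ha b hb =>
    congrArg Subtype.val (hA.1.is_comm.comm ⟨a, ha⟩ ⟨b, hb⟩)
  induction B₀ using WellFoundedGT.induction with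
  | ind B₀ ih =>
    by_cases hle : B₀.relIndex A ≤ p
    · exact le_trans (inf_le_inf_right _ hYX) (hL B₀ hB₀ hle)
    · push Not at hle
      obtain ⟨a, b, haA, hbA, haB, hab⟩ :
          ∃ a b : H, a ∈ A ∧ b ∈ A ∧ a ∉ B₀ ∧ ∀ i : ℕ, a ^ i * b ∉ B₀ := by
        haveI : (B₀.subgroupOf A).Normal := ⟨fun n hn g => by
          have h1 : g * n * g⁻¹ = n := by
            have := hA.1.is_comm.comm g n
            rw [this, mul_inv_cancel_right]
          rw [h1]; exact hn⟩
        have hcard : p < Nat.card (A ⧸ B₀.subgroupOf A) := by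
          rw [← Subgroup.index_eq_card]; exact hle
        haveI : Nontrivial (A ⧸ B₀.subgroupOf A) := by
          rw [← Finite.one_lt_card_iff_nontrivial]
          exact lt_trans hp.one_lt hcard
        obtain ⟨a', ha'⟩ := exists_ne (1 : A ⧸ B₀.subgroupOf A)
        have hpow : ∀ x : A ⧸ B₀.subgroupOf A, x ^ p = 1 := by
          intro x
          obtain ⟨y, rfl⟩ := QuotientGroup.mk_surjective x
          rw [← QuotientGroup.mk_pow]
          have : y ^ p = 1 := Subtype.ext (by simpa using hA.2 y y.2)
          rw [this]; rfl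
        have hz : Nat.card (zpowers a') ≤ p := by
          rw [Nat.card_zpowers]
          exact Nat.le_of_dvd hp.pos (orderOf_dvd_of_pow_eq_one (hpow a'))
        have hnt : zpowers a' ≠ ⊤ := by
          intro h
          have := Subgroup.card_top (G := A ⧸ B₀.subgroupOf A)
          rw [← h] at this
          omega
        obtain ⟨b', hb'⟩ : ∃ b', b' ∉ zpowers a' := by
          by_contra hcon
          push Not at hcon
          exact hnt (eq_top_iff.mpr fun x _ => hcon x)
        obtain ⟨a, rfl⟩ := QuotientGroup.mk_surjective a'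
        obtain ⟨b, rfl⟩ := QuotientGroup.mk_surjective b'
        refine ⟨a, b, a.2, b.2, ?_, ?_⟩
        · intro h
          apply ha'
          rw [QuotientGroup.eq_one_iff]
          exact Subgroup.mem_subgroupOf.mpr h
        · intro i h
          apply hb'
          have h1 : ((a ^ i * b : A) : A ⧸ B₀.subgroupOf A) = 1 := by
            rw [QuotientGroup.eq_one_iff]
            exact Subgroup.mem_subgroupOf.mpr (by simpa using h)
          rw [QuotientGroup.mk_mul, QuotientGroup.mk_pow] at h1
          have h2 : (b : A ⧸ B₀.subgroupOf A) = ((a : A ⧸ B₀.subgroupOf A) ^ i)⁻¹ :=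
            eq_inv_of_mul_eq_one_right h1
          rw [h2]
          exact inv_mem (Subgroup.pow_mem _ (Subgroup.mem_zpowers _) _)
      have hZs : Group.IsSolvable (Y ⊓ centralizer (B₀ : Set H) : Subgroup H) :=
        solvable_of_solvable_injective
          (Subgroup.inclusion_injective (inf_le_left : Y ⊓ centralizer (B₀ : Set H) ≤ Y))
      have hnorm : ∀ c ∈ A, c ∈ normalizer ((Y ⊓ centralizer (B₀ : Set H) : Subgroup H) : Set H) := by
        intro c hc
        have h1 : c ∈ normalizer (Y : Set H) := hAY hc
        have h2 : c ∈ normalizer ((centralizer (B₀ : Set H) : Subgroup H) : Set H) := by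
          apply Cfsg.Agent.Lib.Helper30.normalizer_le_normalizer_centralizer
          apply Subgroup.centralizer_le_normalizer
          rw [Subgroup.mem_centralizer_iff]
          intro h hh
          exact hcomm h (hB₀ hh) c hc
        exact Cfsg.Agent.Lib.Helper30.normalizer_inf_le _ _ (Subgroup.mem_inf.mpr ⟨h1, h2⟩)
      have hcopZ : p.Coprime (Nat.card (Y ⊓ centralizer (B₀ : Set H) : Subgroup H)) := by
        rw [Nat.Prime.coprime_iff_not_dvd hp]
        intro h
        exact hX (dvd_trans h (Subgroup.card_dvd_of_le (le_trans inf_le_left hYX)))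
      have hpiece : ∀ c ∈ A, c ∉ B₀ →
          (Y ⊓ centralizer (B₀ : Set H)) ⊓ centralizer {c} ≤ L := by
        intro c hcA hcB
        have hlt : B₀ < B₀ ⊔ zpowers c := by
          refine lt_of_le_of_ne le_sup_left ?_
          intro h
          apply hcB
          rw [h]
          exact (le_sup_right : zpowers c ≤ _) (Subgroup.mem_zpowers c)
        have hle' : B₀ ⊔ zpowers c ≤ A := sup_le hB₀ (by rw [Subgroup.zpowers_le]; exact hcA)
        refine le_trans ?_ (ih _ hlt hle')
        intro g hg
        obtain ⟨hg1, hg2⟩ := Subgroup.mem_inf.mp hg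
        obtain ⟨hg3, hg4⟩ := Subgroup.mem_inf.mp hg1
        refine Subgroup.mem_inf.mpr ⟨hg3, ?_⟩
        rw [Subgroup.mem_centralizer_iff]
        intro h hh
        have h5 : B₀ ⊔ zpowers c ≤ centralizer {g} := by
          apply sup_le
          · intro k hk
            rw [Subgroup.mem_centralizer_iff]
            intro x hx
            rw [Set.mem_singleton_iff] at hx
            subst hx
            exact ((Subgroup.mem_centralizer_iff.mp hg4) k hk).symm
          · rw [Subgroup.zpowers_le, Subgroup.mem_centralizer_iff]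
            intro x hx
            rw [Set.mem_singleton_iff] at hx
            subst hx
            exact ((Subgroup.mem_centralizer_iff.mp hg2) c rfl).symm
        have h6 := Subgroup.mem_centralizer_iff.mp (h5 hh) g rfl
        exact h6.symm
      haveI := hZs
      have hgen := Cfsg.Agent.S0058.gen_sub p a b (hcomm a haA b hbA) (hA.2 a haA) (hA.2 b hbA)
        (Y ⊓ centralizer (B₀ : Set H)) (hnorm a haA) (hnorm b hbA) hcopZ
      exact le_trans hgen (sup_le (hpiece a haA haB)
        (iSup_le fun i => hpiece _ (A.mul_mem (A.pow_mem haA _) hbA) (hab _)))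

/-- Let A be a noncyclic elementary abelian p-subgroup of a finite group H normalizing a subgroup X of order prime to p. Then X is generated by the subgroups X ∩ C_H(B), B ranging over the subgroups of A of index at most p. -/
theorem result {H : Type*} [Group H] [Finite H] (p : ℕ) [Fact p.Prime] (A X : Subgroup H) (hA : Cfsg.IsElementaryAbelian p A) (hA2 : p ^ 2 ≤ Nat.card ↥A) (hX : ¬ p ∣ Nat.card ↥X) (hAX : A ≤ Subgroup.normalizer (X : Set H)) : X = ⨆ B : {B : Subgroup H // B ≤ A ∧ B.relIndex A ≤ p}, X ⊓ Subgroup.centralizer ((B : Subgroup H) : Set H) := by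
  have hp := (Fact.out : p.Prime)
  have hLX : (⨆ B : {B : Subgroup H // B ≤ A ∧ B.relIndex A ≤ p},
      X ⊓ Subgroup.centralizer ((B : Subgroup H) : Set H)) ≤ X := iSup_le fun B => inf_le_left
  have hL : ∀ B : Subgroup H, B ≤ A → B.relIndex A ≤ p → X ⊓ centralizer (B : Set H) ≤
      ⨆ B : {B : Subgroup H // B ≤ A ∧ B.relIndex A ≤ p},
      X ⊓ Subgroup.centralizer ((B : Subgroup H) : Set H) := by
    intro B h1 h2
    exact le_iSup (fun B : {B : Subgroup H // B ≤ A ∧ B.relIndex A ≤ p} =>
      X ⊓ Subgroup.centralizer ((B : Subgroup H) : Set H)) ⟨B, h1, h2⟩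
  have hApg : IsPGroup p A := fun a =>
    ⟨1, by rw [pow_one]; exact Subtype.ext (by simpa using hA.2 a a.2)⟩
  obtain ⟨n, hn⟩ := IsPGroup.iff_card.mp hApg
  have hcop : (Nat.card A).Coprime (Nat.card X) := by
    rw [hn]; exact Nat.Coprime.pow_left _ ((Nat.Prime.coprime_iff_not_dvd hp).mpr hX)
  have hsolvA : Group.IsSolvable A := Group.isSolvable_of_comm (fun a b => hA.1.is_comm.comm a b)
  have hdvd : Nat.card X ∣ Nat.card (⨆ B : {B : Subgroup H // B ≤ A ∧ B.relIndex A ≤ p},
      X ⊓ Subgroup.centralizer ((B : Subgroup H) : Set H) : Subgroup H) := by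
    rw [← Nat.factorization_le_iff_dvd (Nat.card_pos.ne') (Nat.card_pos.ne')]
    intro q
    by_cases hq : q.Prime
    · haveI := Fact.mk hq
      obtain ⟨P, hPX, hAP, hPcard⟩ := Cfsg.Agent.S0057.inv_sylow hAX hcop (Or.inl hsolvA) q
      have hPsolv : Group.IsSolvable P := by
        haveI := (IsPGroup.of_card hPcard).isNilpotent
        infer_instance
      have hPL : P ≤ ⨆ B : {B : Subgroup H // B ≤ A ∧ B.relIndex A ≤ p},
          X ⊓ Subgroup.centralizer ((B : Subgroup H) : Set H) := by
        have h1 := key p A X hA hX _ hL P hPX hAP hPsolv ⊥ bot_le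
        intro g hg
        apply h1
        refine Subgroup.mem_inf.mpr ⟨hg, ?_⟩
        rw [Subgroup.mem_centralizer_iff]
        intro h hh
        have : h = 1 := by simpa using hh
        rw [this, one_mul, mul_one]
      have h1 : q ^ (Nat.card X).factorization q ∣ Nat.card (⨆ B : {B : Subgroup H // B ≤ A ∧ B.relIndex A ≤ p},
          X ⊓ Subgroup.centralizer ((B : Subgroup H) : Set H) : Subgroup H) :=
        hPcard ▸ Subgroup.card_dvd_of_le hPL
      exact (hq.pow_dvd_iff_le_factorization (Nat.card_pos.ne')).1 h1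
    · rw [Nat.factorization_eq_zero_of_not_prime _ hq]
      exact Nat.zero_le _
  exact (Subgroup.eq_of_le_of_card_ge hLX (Nat.le_of_dvd Nat.card_pos hdvd)).symm

end Cfsg.Agent.S1324
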