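import Cfsg.Statements.S1339
import Mathlib
import Cfsg.Agent.Lib.Helper31.Comp

set_option autoImplicit false
open Cfsg

namespace Cfsg.Agent.S1339

open Cfsg.Agent.Lib.Helper31

section mat

variable {F : Type*} [Field F] {n : ℕ}

/-- column `i` is `e_i` and row `j` is `e_j`. -/
def InC (i j : Fin n) (A : Matrix (Fin n) (Fin n) F) : Prop :=
  A * Matrix.single i i (1 : F) = Matrix.single i i 1 ∧
    Matrix.single j j (1 : F) * A = Matrix.single j j 1

/-- trivial action on the section. -/
def InQ (i j : Fin n) (A : Matrix (Fin n) (Fin n) F) : Prop :=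
  (1 - Matrix.single i i (1 : F)) * (A - 1) * (1 - Matrix.single j j (1 : F)) = 0

variable {i j : Fin n} {A B : Matrix (Fin n) (Fin n) F}

theorem di_mul_ei (i : Fin n) :
    (1 - Matrix.single i i (1 : F)) * Matrix.single i i (1 : F) = 0 := by
  rw [sub_mul, one_mul, Matrix.single_mul_single_same, mul_one, sub_self]

theorem ej_mul_dj (j : Fin n) :
    Matrix.single j j (1 : F) * (1 - Matrix.single j j (1 : F)) = 0 := by
  rw [mul_sub, mul_one, Matrix.single_mul_single_same, mul_one, sub_self]

theorem inC_sub_mul (h : InC i j A) : (A - 1) * Matrix.single i i (1 : F) = 0 := by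
  rw [sub_mul, one_mul, h.1, sub_self]

theorem inC_mul_sub (h : InC i j A) : Matrix.single j j (1 : F) * (A - 1) = 0 := by
  rw [mul_sub, mul_one, h.2, sub_self]

theorem inC_mul_di (h : InC i j A) : (A - 1) * (1 - Matrix.single i i (1 : F)) = A - 1 := by
  rw [mul_sub, mul_one, inC_sub_mul h, sub_zero]

theorem inC_dj_mul (h : InC i j A) : (1 - Matrix.single j j (1 : F)) * (A - 1) = A - 1 := by
  rw [sub_mul, one_mul, inC_mul_sub h, sub_zero]

theorem inC_one : InC i j (1 : Matrix (Fin n) (Fin n) F) := ⟨one_mul _, mul_one _⟩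

theorem inC_mul (hA : InC i j A) (hB : InC i j B) : InC i j (A * B) :=
  ⟨by rw [mul_assoc, hB.1, hA.1], by rw [← mul_assoc, hA.2, hB.2]⟩

theorem inQ_one : InQ i j (1 : Matrix (Fin n) (Fin n) F) := by
  simp [InQ]

theorem ring_conj {R : Type*} [Ring R] {D₁ D₂ c c' a : R} (h2 : D₁ * c = D₁ * c * D₁)
    (h3 : c' * D₂ = D₂ * c' * D₂) (q : D₁ * a * D₂ = 0) : D₁ * (c * a * c') * D₂ = 0 := by
  calc D₁ * (c * a * c') * D₂ = (D₁ * c) * a * (c' * D₂) := by simp only [mul_assoc]
    _ = (D₁ * c * D₁) * a * (D₂ * c' * D₂) := by rw [← h2, ← h3]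
    _ = D₁ * c * (D₁ * a * D₂) * (c' * D₂) := by simp only [mul_assoc]
    _ = 0 := by rw [q, mul_zero, zero_mul]

theorem ring_inv {R : Type*} [Ring R] {D₁ D₂ a b : R} (hb : D₂ * b = b)
    (q : D₁ * a * D₂ = 0) (h : b = -a - a * b) : D₁ * b * D₂ = 0 := by
  calc D₁ * b * D₂ = D₁ * (-a - a * (D₂ * b)) * D₂ := by rw [hb, ← h]
    _ = -(D₁ * a * D₂) - (D₁ * a * D₂) * b * D₂ := by noncomm_ring
    _ = 0 := by rw [q]; simp

theorem ring_mul {R : Type*} [Ring R] {D₁ D₂ a b : R} (hb : D₂ * b = b)
    (qa : D₁ * a * D₂ = 0) (qb : D₁ * b * D₂ = 0) : D₁ * (a * b + a + b) * D₂ = 0 := by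
  calc D₁ * (a * b + a + b) * D₂ = D₁ * (a * (D₂ * b) + a + b) * D₂ := by rw [hb]
    _ = (D₁ * a * D₂) * b * D₂ + D₁ * a * D₂ + D₁ * b * D₂ := by noncomm_ring
    _ = 0 := by rw [qa, qb]; simp

theorem inQ_mul (hB : InC i j B) (qA : InQ i j A) (qB : InQ i j B) :
    InQ i j (A * B) := by
  unfold InQ at *
  have h1 : A * B - 1 = (A - 1) * (B - 1) + (A - 1) + (B - 1) := by noncomm_ring
  rw [h1]
  exact ring_mul (inC_dj_mul hB) qA qB

theorem inQ_inv (hB : InC i j B) (qA : InQ i j A) (hAB : A * B = 1) : InQ i j B := by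
  unfold InQ at *
  have h1 : B - 1 = -(A - 1) - (A - 1) * (B - 1) := by
    have : (A - 1) * (B - 1) = A * B - A - B + 1 := by noncomm_ring
    rw [this, hAB]
    noncomm_ring
  exact ring_inv (inC_dj_mul hB) qA h1

theorem inQ_conj {c c' : Matrix (Fin n) (Fin n) F} (hc : InC i j c) (hc' : InC i j c')
    (hcc' : c * c' = 1) (qA : InQ i j A) : InQ i j (c * A * c') := by
  unfold InQ at *
  have h1 : c * A * c' - 1 = c * (A - 1) * c' := by
    rw [mul_sub, sub_mul, mul_one, hcc']
  have h2 : (1 - Matrix.single i i (1 : F)) * c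
      = (1 - Matrix.single i i (1 : F)) * c * (1 - Matrix.single i i (1 : F)) := by
    rw [mul_sub, mul_one, mul_assoc, hc.1, di_mul_ei, sub_zero]
  have h3 : c' * (1 - Matrix.single j j (1 : F))
      = (1 - Matrix.single j j (1 : F)) * c' * (1 - Matrix.single j j (1 : F)) := by
    rw [sub_mul, one_mul, sub_mul, hc'.2, ej_mul_dj, sub_zero]
  rw [h1]
  exact ring_conj h2 h3 qA

theorem inQ_cube (hA : InC i j A) (qA : InQ i j A) : (A - 1) * (A - 1) * (A - 1) = 0 := by
  unfold InQ at qA
  calc (A - 1) * (A - 1) * (A - 1)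
      = ((A - 1) * (1 - Matrix.single i i (1 : F))) * (A - 1) *
          ((1 - Matrix.single j j (1 : F)) * (A - 1)) := by
        rw [inC_mul_di hA, inC_dj_mul hA]
    _ = (A - 1) * ((1 - Matrix.single i i (1 : F)) * (A - 1) *
          (1 - Matrix.single j j (1 : F))) * (A - 1) := by
        simp only [mul_assoc]
    _ = 0 := by rw [qA, mul_zero, zero_mul]

theorem inQ_pow_four (h2 : (1 + 1 : F) = 0) (hA : InC i j A) (qA : InQ i j A) : A ^ 4 = 1 := by
  have hc := inQ_cube hA qA
  have hdbl : ∀ X : Matrix (Fin n) (Fin n) F, X + X = 0 := by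
    intro X
    have : X + X = (1 + 1 : F) • X := by rw [add_smul, one_smul]
    rw [this, h2, zero_smul]
  have e1 : A = 1 + (A - 1) := by abel
  have e2 : A ^ 2 = 1 + (A - 1) * (A - 1) := by
    have : A ^ 2 = 1 + ((A - 1) + (A - 1)) + (A - 1) * (A - 1) := by noncomm_ring
    rw [this, hdbl, add_zero]
  have e3 : A ^ 4 = A ^ 2 * A ^ 2 := by rw [← pow_add]
  rw [e3, e2]
  have : (1 + (A - 1) * (A - 1)) * (1 + (A - 1) * (A - 1))
      = 1 + ((A - 1) * (A - 1) + (A - 1) * (A - 1)) +
        ((A - 1) * (A - 1) * (A - 1)) * (A - 1) := by noncomm_ring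
  rw [this, hdbl, hc, zero_mul, add_zero, add_zero]

end mat

section sl

variable {F : Type*} [Field F] [Fintype F] [DecidableEq F] {n : ℕ}

theorem f2_cases (hF : Fintype.card F = 2) (x : F) : x = 0 ∨ x = 1 := by
  by_cases hx : x = 0
  · exact Or.inl hx
  · right
    have h1 : Fintype.card Fˣ = 1 := by rw [Fintype.card_units, hF]
    have h2 : Subsingleton Fˣ := Fintype.card_le_one_iff_subsingleton.mp h1.le
    have h3 := Subsingleton.elim (Units.mk0 x hx) 1
    simpa using congrArg Units.val h3

theorem f2_two (hF : Fintype.card F = 2) : (1 + 1 : F) = 0 := by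
  rcases f2_cases hF (1 + 1 : F) with h | h
  · exact h
  · exfalso
    have : (1 : F) = 0 := by
      have h' : (1 : F) + 1 = 1 + 0 := by rw [h, add_zero]
      exact add_left_cancel h'
    exact one_ne_zero this

theorem inC_of_commute (hF : Fintype.card F = 2) {i j : Fin n} {A : Matrix (Fin n) (Fin n) F}
    (hc : Commute (Matrix.single i j (1 : F)) A) (hdet : A.det ≠ 0) : InC i j A := by
  have hcol : ∀ k, k ≠ i → A k i = 0 := fun k hk => Matrix.col_eq_zero_of_commute_single hc hk
  have hrow : ∀ k, k ≠ j → A j k = 0 := fun k hk => Matrix.row_eq_zero_of_commute_single hc hk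
  have hdiag : A i i = A j j := Matrix.diag_eq_of_commute_single hc
  have hii : A i i = 1 := by
    rcases f2_cases hF (A i i) with h | h
    · exfalso
      apply hdet
      apply Matrix.det_eq_zero_of_column_eq_zero i
      intro k
      by_cases hk : k = i
      · rw [hk, h]
      · exact hcol k hk
    · exact h
  have hjj : A j j = 1 := hdiag ▸ hii
  constructor
  · ext a b
    by_cases hb : b = i
    · subst hb
      rw [Matrix.mul_single_apply_same, mul_one]
      by_cases ha : a = b
      · subst ha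
        rw [hii, Matrix.single_apply_same]
      · rw [hcol a ha, Matrix.single_apply_of_ne]
        intro h
        exact ha h.1.symm
    · rw [Matrix.mul_single_apply_of_ne _ _ _ _ _ hb, Matrix.single_apply_of_ne]
      intro h
      exact hb h.2.symm
  · ext a b
    by_cases ha : a = j
    · subst ha
      rw [Matrix.single_mul_apply_same, one_mul]
      by_cases hb : b = a
      · subst hb
        rw [hjj, Matrix.single_apply_same]
      · rw [hrow b hb, Matrix.single_apply_of_ne]
        intro h
        exact hb h.2.symm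
    · rw [Matrix.single_mul_apply_of_ne _ _ _ _ _ ha, Matrix.single_apply_of_ne]
      intro h
      exact ha h.1.symm

theorem commute_of_inC {i j : Fin n} {A : Matrix (Fin n) (Fin n) F} (h : InC i j A) :
    A * Matrix.single i j (1 : F) = Matrix.single i j (1 : F) * A := by
  have e1 : Matrix.single i j (1 : F)
      = Matrix.single i i (1 : F) * Matrix.single i j (1 : F) := by
    rw [Matrix.single_mul_single_same, mul_one]
  have e2 : Matrix.single i j (1 : F)
      = Matrix.single i j (1 : F) * Matrix.single j j (1 : F) := by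
    rw [Matrix.single_mul_single_same, mul_one]
  calc A * Matrix.single i j (1 : F)
      = A * Matrix.single i i (1 : F) * Matrix.single i j (1 : F) := by rw [mul_assoc, ← e1]
    _ = Matrix.single i j (1 : F) := by rw [h.1, ← e1]
    _ = Matrix.single i j (1 : F) * (Matrix.single j j (1 : F) * A) := by rw [h.2, ← e2]
    _ = Matrix.single i j (1 : F) * A := by rw [← mul_assoc, ← e2]

theorem mem_centralizer_iff_inC (hF : Fintype.card F = 2) {i j : Fin n}
    (t : Matrix.SpecialLinearGroup (Fin n) F)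
    (ht : (t : Matrix (Fin n) (Fin n) F) = Matrix.transvection i j 1)
    (c : Matrix.SpecialLinearGroup (Fin n) F) :
    c ∈ Subgroup.centralizer ({t} : Set (Matrix.SpecialLinearGroup (Fin n) F)) ↔
      InC i j (c : Matrix (Fin n) (Fin n) F) := by
  rw [Subgroup.mem_centralizer_iff]
  constructor
  · intro h
    have h1 := h t rfl
    have h2 : (t : Matrix (Fin n) (Fin n) F) * (c : Matrix (Fin n) (Fin n) F)
        = (c : Matrix (Fin n) (Fin n) F) * (t : Matrix (Fin n) (Fin n) F) := by
      rw [← Matrix.SpecialLinearGroup.coe_mul, ← Matrix.SpecialLinearGroup.coe_mul, h1]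
    rw [ht, Matrix.transvection, add_mul, mul_add, one_mul, mul_one, add_right_inj] at h2
    exact inC_of_commute hF h2 (by rw [c.det_coe]; exact one_ne_zero)
  · intro h x hx
    rw [Set.mem_singleton_iff] at hx
    subst hx
    apply Subtype.ext
    show (x : Matrix (Fin n) (Fin n) F) * (c : Matrix (Fin n) (Fin n) F)
        = (c : Matrix (Fin n) (Fin n) F) * (x : Matrix (Fin n) (Fin n) F)
    rw [ht, Matrix.transvection, add_mul, mul_add, one_mul, mul_one, commute_of_inC h]

/-- The candidate for `O_2` of the centralizer. -/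
def Qsub (i j : Fin n) (C : Subgroup (Matrix.SpecialLinearGroup (Fin n) F))
    (hC : ∀ c ∈ C, InC i j ((c : Matrix.SpecialLinearGroup (Fin n) F) : Matrix (Fin n) (Fin n) F)) :
    Subgroup ↥C where
  carrier := {c | InQ i j (((c : Matrix.SpecialLinearGroup (Fin n) F)) : Matrix (Fin n) (Fin n) F)}
  one_mem' := inQ_one
  mul_mem' := fun {a b} ha hb => by
    show InQ i j ((((a * b : ↥C) : Matrix.SpecialLinearGroup (Fin n) F)) :
      Matrix (Fin n) (Fin n) F)
    rw [Subgroup.coe_mul, Matrix.SpecialLinearGroup.coe_mul]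
    exact inQ_mul (hC _ b.2) ha hb
  inv_mem' := fun {a} ha => by
    show InQ i j ((((a⁻¹ : ↥C) : Matrix.SpecialLinearGroup (Fin n) F)) :
      Matrix (Fin n) (Fin n) F)
    refine inQ_inv (hC _ (a⁻¹).2) ha ?_
    rw [← Matrix.SpecialLinearGroup.coe_mul, ← Subgroup.coe_mul, mul_inv_cancel]
    rfl

theorem mem_Qsub {i j : Fin n} {C : Subgroup (Matrix.SpecialLinearGroup (Fin n) F)}
    {hC : ∀ c ∈ C, InC i j ((c : Matrix.SpecialLinearGroup (Fin n) F) : Matrix (Fin n) (Fin n) F)}
    {c : ↥C} : c ∈ Qsub i j C hC ↔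
      InQ i j (((c : Matrix.SpecialLinearGroup (Fin n) F)) : Matrix (Fin n) (Fin n) F) := Iff.rfl

theorem Qsub_normal {i j : Fin n} {C : Subgroup (Matrix.SpecialLinearGroup (Fin n) F)}
    (hC : ∀ c ∈ C, InC i j ((c : Matrix.SpecialLinearGroup (Fin n) F) : Matrix (Fin n) (Fin n) F)) :
    (Qsub i j C hC).Normal := by
  refine ⟨fun q hq g => ?_⟩
  rw [mem_Qsub] at hq ⊢
  have h1 : (((g * q * g⁻¹ : ↥C) : Matrix.SpecialLinearGroup (Fin n) F) : Matrix (Fin n) (Fin n) F)
      = ((g : Matrix.SpecialLinearGroup (Fin n) F) : Matrix (Fin n) (Fin n) F) *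
        ((q : Matrix.SpecialLinearGroup (Fin n) F) : Matrix (Fin n) (Fin n) F) *
        (((g⁻¹ : ↥C) : Matrix.SpecialLinearGroup (Fin n) F) : Matrix (Fin n) (Fin n) F) := by
    rw [Subgroup.coe_mul, Subgroup.coe_mul, Matrix.SpecialLinearGroup.coe_mul,
      Matrix.SpecialLinearGroup.coe_mul]
  rw [h1]
  refine inQ_conj (hC _ g.2) (hC _ (g⁻¹).2) ?_ hq
  rw [← Matrix.SpecialLinearGroup.coe_mul, ← Subgroup.coe_mul, mul_inv_cancel]
  rfl

theorem Qsub_isPGroup (hF : Fintype.card F = 2) {i j : Fin n}
    {C : Subgroup (Matrix.SpecialLinearGroup (Fin n) F)}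
    (hC : ∀ c ∈ C, InC i j ((c : Matrix.SpecialLinearGroup (Fin n) F) : Matrix (Fin n) (Fin n) F)) :
    IsPGroup 2 ↥(Qsub i j C hC) := by
  intro q
  refine ⟨2, ?_⟩
  apply Subtype.ext
  apply Subtype.ext
  apply Subtype.ext
  have h4 := inQ_pow_four (f2_two hF) (hC _ q.1.2) (mem_Qsub.mp q.2)
  simpa using h4

theorem inC_transvection {i j l : Fin n} (hij : i ≠ j) (hil : i ≠ l) :
    InC i j (1 + Matrix.single i l (1 : F)) := by
  constructor
  · rw [add_mul, one_mul, Matrix.single_mul_single_of_ne _ _ _ _ hil.symm, add_zero]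
  · rw [mul_add, mul_one, Matrix.single_mul_single_of_ne _ _ _ _ hij.symm, add_zero]

theorem inQ_transvection {i j l : Fin n} :
    InQ i j (1 + Matrix.single i l (1 : F)) := by
  unfold InQ
  rw [add_sub_cancel_left, sub_mul, one_mul, Matrix.single_mul_single_same, mul_one, sub_self,
    zero_mul]

theorem inQ_of_commute {i j : Fin n} {A : Matrix (Fin n) (Fin n) F} (hA : InC i j A)
    (hcomm : ∀ l : Fin n, i ≠ l → Commute (Matrix.single i l (1 : F)) A) : InQ i j A := by
  have hii : A i i = 1 := by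
    have := congrFun (congrFun hA.1 i) i
    rwa [Matrix.mul_single_apply_same, mul_one, Matrix.single_apply_same] at this
  have h0 : (1 - Matrix.single i i (1 : F)) * (A - 1) = 0 := by
    ext a b
    rw [sub_mul, one_mul, Matrix.sub_apply, Matrix.zero_apply]
    by_cases ha : a = i
    · subst ha
      rw [Matrix.single_mul_apply_same, one_mul, sub_self]
    · rw [Matrix.single_mul_apply_of_ne _ _ _ _ _ ha, sub_zero, Matrix.sub_apply]
      have hc := hcomm a (Ne.symm ha)
      by_cases hb : b = a
      · subst hb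
        rw [← Matrix.diag_eq_of_commute_single hc, hii, Matrix.one_apply_eq, sub_self]
      · rw [Matrix.row_eq_zero_of_commute_single hc hb, Matrix.one_apply_ne (Ne.symm hb), sub_zero]
  unfold InQ
  rw [h0, zero_mul]

theorem Qsub_centralizer_le {i j : Fin n} (hij : i ≠ j)
    {C : Subgroup (Matrix.SpecialLinearGroup (Fin n) F)}
    (hC : ∀ c ∈ C, InC i j ((c : Matrix.SpecialLinearGroup (Fin n) F) : Matrix (Fin n) (Fin n) F))
    (hC' : ∀ c : Matrix.SpecialLinearGroup (Fin n) F,
      InC i j (c : Matrix (Fin n) (Fin n) F) → c ∈ C) :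
    Subgroup.centralizer ((Qsub i j C hC : Subgroup ↥C) : Set ↥C) ≤ Qsub i j C hC := by
  intro h hh
  rw [mem_Qsub]
  apply inQ_of_commute (hC _ h.2)
  intro l hil
  have hT : InC i j ((Matrix.SpecialLinearGroup.transvection hil (1 : F) :
      Matrix.SpecialLinearGroup (Fin n) F) : Matrix (Fin n) (Fin n) F) := by
    rw [Matrix.SpecialLinearGroup.transvection_coe]
    exact inC_transvection hij hil
  have hTQ : (⟨Matrix.SpecialLinearGroup.transvection hil (1 : F), hC' _ hT⟩ : ↥C) ∈
      Qsub i j C hC := by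
    rw [mem_Qsub]
    show InQ i j ((Matrix.SpecialLinearGroup.transvection hil (1 : F) :
      Matrix.SpecialLinearGroup (Fin n) F) : Matrix (Fin n) (Fin n) F)
    rw [Matrix.SpecialLinearGroup.transvection_coe]
    exact inQ_transvection
  have h1 := Subgroup.mem_centralizer_iff.mp hh _ hTQ
  have h2 : ((Matrix.SpecialLinearGroup.transvection hil (1 : F) :
      Matrix.SpecialLinearGroup (Fin n) F) : Matrix (Fin n) (Fin n) F) *
      ((h : Matrix.SpecialLinearGroup (Fin n) F) : Matrix (Fin n) (Fin n) F)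
      = ((h : Matrix.SpecialLinearGroup (Fin n) F) : Matrix (Fin n) (Fin n) F) *
      ((Matrix.SpecialLinearGroup.transvection hil (1 : F) :
      Matrix.SpecialLinearGroup (Fin n) F) : Matrix (Fin n) (Fin n) F) := by
    have := congrArg (fun x : ↥C => ((x : Matrix.SpecialLinearGroup (Fin n) F) :
      Matrix (Fin n) (Fin n) F)) h1
    simpa using this
  rw [Matrix.SpecialLinearGroup.transvection_coe, add_mul, mul_add,
    one_mul, mul_one, add_right_inj] at h2
  exact h2

end sl

section gt

theorem genFitting_eq_pCore {C : Type*} [Group C] [Finite C] (Q : Subgroup C) (hQn : Q.Normal)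
    (hQ2 : IsPGroup 2 ↥Q) (hcent : Subgroup.centralizer (Q : Set C) ≤ Q) :
    generalizedFittingSubgroup C = pCore 2 C := by
  have : Fact (Nat.Prime 2) := ⟨Nat.prime_two⟩
  have hQsol : Group.IsSolvable ↥Q := by
    have := hQ2.isNilpotent
    infer_instance
  have hlayer : layer C = ⊥ := by
    unfold layer
    rw [sSup_eq_bot]
    intro K hK
    exfalso
    have h1 := component_commute_solvable hK hQn.isSubnormal hQsol
    have h2 : K ≤ Q := h1.trans hcent
    have : Group.IsSolvable ↥K :=
      Group.isSolvable_of_isSolvable_injective (Subgroup.inclusion_injective h2)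
    exact quasisimple_not_isSolvable hK.2 this
  have hfit : fittingSubgroup C = pCore 2 C := by
    apply le_antisymm
    · apply sSup_le
      rintro N ⟨hNn, hNnil⟩
      apply le_pCore hNn
      -- every Sylow q-subgroup of N with q ≠ 2 is trivial
      have key : ∀ q : ℕ, q.Prime → q ∣ Nat.card ↥N → q = 2 := by
        intro q hq hdvd
        by_contra hne
        have : Fact q.Prime := ⟨hq⟩
        obtain ⟨S⟩ : Nonempty (Sylow q ↥N) := inferInstance
        have hSn : (S : Subgroup ↥N).Normal :=
          Sylow.normal_of_normalizerCondition Group.normalizerCondition_of_isNilpotent S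
        have hSc : (S : Subgroup ↥N).Characteristic := S.characteristic_of_normal hSn
        have hS'n : ((S : Subgroup ↥N).map N.subtype).Normal := inferInstance
        have hS'q : IsPGroup q ↥((S : Subgroup ↥N).map N.subtype) := S.isPGroup'.map _
        have hdisj : Disjoint ((S : Subgroup ↥N).map N.subtype) Q :=
          IsPGroup.disjoint_of_ne q 2 hne _ _ hS'q hQ2
        have hcomm : ⁅(S : Subgroup ↥N).map N.subtype, Q⁆ = ⊥ :=
          Subgroup.commutator_eq_bot_of_disjoint hdisj
        have hle : (S : Subgroup ↥N).map N.subtype ≤ Q :=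
          (Subgroup.commutator_eq_bot_iff_le_centralizer.mp hcomm).trans hcent
        have hbot : (S : Subgroup ↥N).map N.subtype = ⊥ := by
          rw [eq_bot_iff]
          exact (le_inf le_rfl hle).trans (disjoint_iff.mp hdisj).le
        have hSbot : (S : Subgroup ↥N) = ⊥ := by
          rw [eq_bot_iff]
          intro x hx
          have : (x : C) ∈ (S : Subgroup ↥N).map N.subtype := ⟨x, hx, rfl⟩
          rw [hbot, Subgroup.mem_bot] at this
          rw [Subgroup.mem_bot]
          exact Subtype.ext this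
        exact S.ne_bot_of_dvd_card hdvd hSbot
      have hcard := Nat.eq_prime_pow_of_unique_prime_dvd (Nat.card_pos (α := ↥N)).ne'
        (fun {d} hd hdvd => key d hd hdvd)
      exact IsPGroup.of_card hcard
    · apply le_sSup
      exact ⟨inferInstance, (pCore_isPGroup 2).isNilpotent⟩
  unfold generalizedFittingSubgroup
  rw [hlayer, hfit, bot_sup_eq]

end gt

/-- Let F be a field with 2 elements, n ≥ 3, and t ∈ SL(n, F) a transvection (t = 1 + E_{ij}, i ≠ j). Then the generalized Fitting subgroup of C(t) is O_2(C(t)). -/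
theorem result {F : Type*} [Field F] [Fintype F] [DecidableEq F] (hF : Fintype.card F = 2) (n : ℕ) (hn : 3 ≤ n) (i j : Fin n) (hij : i ≠ j) (t : Matrix.SpecialLinearGroup (Fin n) F) (ht : (t : Matrix (Fin n) (Fin n) F) = Matrix.transvection i j 1) : Cfsg.generalizedFittingSubgroup ↥(Subgroup.centralizer ({t} : Set (Matrix.SpecialLinearGroup (Fin n) F))) = Cfsg.pCore 2 ↥(Subgroup.centralizer ({t} : Set (Matrix.SpecialLinearGroup (Fin n) F))) := by
  have hC : ∀ c ∈ Subgroup.centralizer ({t} : Set (Matrix.SpecialLinearGroup (Fin n) F)),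
      InC i j (c : Matrix (Fin n) (Fin n) F) :=
    fun c hc => (mem_centralizer_iff_inC hF t ht c).mp hc
  have hC' : ∀ c : Matrix.SpecialLinearGroup (Fin n) F,
      InC i j (c : Matrix (Fin n) (Fin n) F) →
        c ∈ Subgroup.centralizer ({t} : Set (Matrix.SpecialLinearGroup (Fin n) F)) :=
    fun c hc => (mem_centralizer_iff_inC hF t ht c).mpr hc
  have hfin : Finite (Matrix.SpecialLinearGroup (Fin n) F) := by
    unfold Matrix.SpecialLinearGroup
    infer_instance
  exact genFitting_eq_pCore (Qsub i j _ hC) (Qsub_normal hC) (Qsub_isPGroup hF hC)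
    (Qsub_centralizer_le hij hC hC')

end Cfsg.Agent.S1339
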