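import Cfsg.Statements.S1348
import Cfsg.Agent.S0249
import Cfsg.Agent.Lib.Helper31.Comp
import Mathlib

set_option autoImplicit false
open Cfsg
open Cfsg.Agent.Lib.Helper31

namespace Cfsg.Agent.S1348
open Matrix

section mat
variable {ι F : Type*} [DecidableEq ι] [Fintype ι] [Field F]

/-- the diagonal matrix with `b` at `i₀` and `a` elsewhere -/
def dg (i₀ : ι) (a b : F) : Matrix ι ι F := Matrix.diagonal (fun i => if i = i₀ then b else a)

/-- block diagonal with respect to the index `i₀` -/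
def BD (i₀ : ι) (M : Matrix ι ι F) : Prop := ∀ j, j ≠ i₀ → M i₀ j = 0 ∧ M j i₀ = 0

lemma dg_mul_apply (i₀ : ι) (a b : F) (M : Matrix ι ι F) (i j : ι) :
    (dg i₀ a b * M) i j = (if i = i₀ then b else a) * M i j := by
  simp [dg, Matrix.diagonal_mul]

lemma mul_dg_apply (i₀ : ι) (a b : F) (M : Matrix ι ι F) (i j : ι) :
    (M * dg i₀ a b) i j = M i j * (if j = i₀ then b else a) := by
  simp [dg, Matrix.mul_diagonal]

lemma zero_of_mul {a b x : F} (hab : a ≠ b) (h : a * x = x * b) : x = 0 := by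
  have h2 : (a - b) * x = 0 := by linear_combination h
  rcases mul_eq_zero.mp h2 with h3 | h3
  · exact absurd (sub_eq_zero.mp h3) hab
  · exact h3

lemma bd_of_comm {i₀ : ι} {a b : F} (hab : a ≠ b) {M : Matrix ι ι F}
    (h : dg i₀ a b * M = M * dg i₀ a b) : BD i₀ M := by
  intro j hj
  constructor
  · have := congrFun (congrFun h i₀) j
    rw [dg_mul_apply, mul_dg_apply] at this
    simp only [hj, if_true, if_false] at this
    exact zero_of_mul hab.symm this
  · have := congrFun (congrFun h j) i₀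
    rw [dg_mul_apply, mul_dg_apply] at this
    simp only [hj, if_true, if_false] at this
    exact zero_of_mul hab this

lemma comm_of_bd {i₀ : ι} (a b : F) {M : Matrix ι ι F} (h : BD i₀ M) :
    dg i₀ a b * M = M * dg i₀ a b := by
  ext i j
  rw [dg_mul_apply, mul_dg_apply]
  by_cases hi : i = i₀ <;> by_cases hj : j = i₀
  · simp [hi, hj, mul_comm]
  · subst hi; simp [hj, (h j hj).1]
  · subst hj; simp [hi, (h i hi).2]
  · simp [hi, hj, mul_comm]

lemma bd_of_intertwine {i₀ : ι} (hk : ∃ k l : ι, k ≠ i₀ ∧ l ≠ i₀ ∧ k ≠ l) {a b a' b' : F}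
    (hab : a ≠ b) {g h : Matrix ι ι F} (hgh : g * h = 1)
    (he : dg i₀ a b * g = g * dg i₀ a' b') : BD i₀ g := by
  have key : ∀ i j, (if i = i₀ then b else a) * g i j = g i j * (if j = i₀ then b' else a') := by
    intro i j
    have := congrFun (congrFun he i) j
    rwa [dg_mul_apply, mul_dg_apply] at this
  have hrow : ∀ i, ∃ j, g i j ≠ 0 := by
    intro i
    by_contra hcon
    push Not at hcon
    have := congrFun (congrFun hgh i) i
    rw [Matrix.mul_apply] at this
    simp [hcon] at this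
  obtain ⟨k, l, hk, hl, hkl⟩ := hk
  have haa : a' = a := by
    by_contra hne
    have hz : ∀ i j, i ≠ i₀ → j ≠ i₀ → g i j = 0 := by
      intro i j hi hj
      have := key i j
      simp only [hi, hj, if_false] at this
      exact zero_of_mul (Ne.symm hne) this
    have hsum : ∀ i j, i ≠ i₀ → (g * h) i j = g i i₀ * h i₀ j := by
      intro i j hi
      rw [Matrix.mul_apply]
      exact Finset.sum_eq_single i₀ (fun x _ hx => by rw [hz i x hi hx, zero_mul])
        (fun hh => absurd (Finset.mem_univ _) hh)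
    have h1 := hsum l l hl
    have h2 := hsum k l hk
    have h3 := hsum k k hk
    rw [hgh] at h1 h2 h3
    simp only [Matrix.one_apply_eq, Matrix.one_apply_ne hkl] at h1 h2 h3
    rcases mul_eq_zero.mp h2.symm with h4 | h4
    · rw [h4, zero_mul] at h3; exact one_ne_zero h3
    · rw [h4, mul_zero] at h1; exact one_ne_zero h1
  subst haa
  have h0 : ∀ j, j ≠ i₀ → g i₀ j = 0 := by
    intro j hj
    have := key i₀ j
    simp only [hj, if_true, if_false] at this
    exact zero_of_mul hab.symm this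
  have hc : g i₀ i₀ ≠ 0 := by
    obtain ⟨j, hj⟩ := hrow i₀
    by_cases hji : j = i₀
    · rwa [hji] at hj
    · exact absurd (h0 j hji) hj
  have hbb : b' = b := by
    have := key i₀ i₀
    simp only [if_true] at this
    rw [mul_comm] at this
    exact (mul_left_cancel₀ hc this).symm
  subst hbb
  intro j hj
  refine ⟨h0 j hj, ?_⟩
  have := key j i₀
  simp only [hj, if_true, if_false] at this
  exact zero_of_mul hab this

lemma bd_corner_mul {i₀ : ι} {M : Matrix ι ι F} (hM : BD i₀ M) (N : Matrix ι ι F) :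
    (M * N) i₀ i₀ = M i₀ i₀ * N i₀ i₀ := by
  rw [Matrix.mul_apply]
  exact Finset.sum_eq_single i₀ (fun x _ hx => by rw [(hM x hx).1, zero_mul])
    (fun hh => absurd (Finset.mem_univ _) hh)

/-- the embedding of the matrices on the complement of `i₀`, as a block with corner `1` -/
def emb (i₀ : ι) (A : Matrix {i : ι // i ≠ i₀} {i : ι // i ≠ i₀} F) : Matrix ι ι F :=
  (Matrix.fromBlocks A 0 0 (1 : Matrix {i : ι // ¬ i ≠ i₀} {i : ι // ¬ i ≠ i₀} F)).submatrix
    (Equiv.sumCompl (· ≠ i₀)).symm (Equiv.sumCompl (· ≠ i₀)).symm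

lemma emb_mul (i₀ : ι) (A B : Matrix {i : ι // i ≠ i₀} {i : ι // i ≠ i₀} F) :
    emb i₀ (A * B) = emb i₀ A * emb i₀ B := by
  unfold emb
  rw [Matrix.submatrix_mul_equiv, Matrix.fromBlocks_multiply]
  simp

lemma emb_one (i₀ : ι) : emb i₀ (1 : Matrix {i : ι // i ≠ i₀} {i : ι // i ≠ i₀} F) = 1 := by
  unfold emb
  rw [Matrix.fromBlocks_one, Matrix.submatrix_one_equiv]

lemma det_emb (i₀ : ι) (A : Matrix {i : ι // i ≠ i₀} {i : ι // i ≠ i₀} F) :
    (emb i₀ A).det = A.det := by
  unfold emb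
  rw [Matrix.det_submatrix_equiv_self, Matrix.det_fromBlocks_zero₂₁, Matrix.det_one, mul_one]

lemma emb_apply_ne (i₀ : ι) (A : Matrix {i : ι // i ≠ i₀} {i : ι // i ≠ i₀} F) {i j : ι}
    (hi : i ≠ i₀) (hj : j ≠ i₀) : emb i₀ A i j = A ⟨i, hi⟩ ⟨j, hj⟩ := by
  unfold emb
  rw [Matrix.submatrix_apply, Equiv.sumCompl_symm_apply_of_pos (p := (· ≠ i₀)) hi,
    Equiv.sumCompl_symm_apply_of_pos (p := (· ≠ i₀)) hj, Matrix.fromBlocks_apply₁₁]

lemma emb_apply_corner (i₀ : ι) (A : Matrix {i : ι // i ≠ i₀} {i : ι // i ≠ i₀} F) :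
    emb i₀ A i₀ i₀ = 1 := by
  unfold emb
  have h : ¬ (i₀ ≠ i₀) := fun h => h rfl
  rw [Matrix.submatrix_apply, Equiv.sumCompl_symm_apply_of_neg (p := (· ≠ i₀)) h,
    Matrix.fromBlocks_apply₂₂, Matrix.one_apply_eq]

lemma emb_bd (i₀ : ι) (A : Matrix {i : ι // i ≠ i₀} {i : ι // i ≠ i₀} F) : BD i₀ (emb i₀ A) := by
  intro j hj
  have h : ¬ (i₀ ≠ i₀) := fun h => h rfl
  unfold emb
  constructor
  · rw [Matrix.submatrix_apply, Equiv.sumCompl_symm_apply_of_neg (p := (· ≠ i₀)) h,
      Equiv.sumCompl_symm_apply_of_pos (p := (· ≠ i₀)) hj, Matrix.fromBlocks_apply₂₁,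
      Matrix.zero_apply]
  · rw [Matrix.submatrix_apply, Equiv.sumCompl_symm_apply_of_neg (p := (· ≠ i₀)) h,
      Equiv.sumCompl_symm_apply_of_pos (p := (· ≠ i₀)) hj, Matrix.fromBlocks_apply₁₂,
      Matrix.zero_apply]

lemma emb_injective (i₀ : ι) : Function.Injective (emb (F := F) i₀) := by
  intro A B h
  ext i j
  have := congrFun (congrFun h i.1) j.1
  rwa [emb_apply_ne i₀ A i.2 j.2, emb_apply_ne i₀ B i.2 j.2] at this

lemma exists_emb {i₀ : ι} {M : Matrix ι ι F} (hM : BD i₀ M) (h1 : M i₀ i₀ = 1) :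
    emb i₀ (M.submatrix (Subtype.val : {i : ι // i ≠ i₀} → ι) Subtype.val) = M := by
  ext i j
  by_cases hi : i = i₀ <;> by_cases hj : j = i₀
  · rw [hi, hj, emb_apply_corner, h1]
  · rw [hi, (emb_bd _ _ j hj).1, (hM j hj).1]
  · rw [hj, (emb_bd _ _ i hi).2, (hM i hi).2]
  · rw [emb_apply_ne _ _ hi hj, Matrix.submatrix_apply]

end mat


section grp
variable {ι F : Type*} [DecidableEq ι] [Fintype ι] [Field F]
open Matrix.SpecialLinearGroup

lemma dg_comm (i₀ : ι) (a b a' b' : F) : dg i₀ a b * dg i₀ a' b' = dg i₀ a' b' * dg i₀ a b := by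
  unfold dg
  rw [Matrix.diagonal_mul_diagonal, Matrix.diagonal_mul_diagonal]
  congr 1
  funext i
  exact mul_comm _ _

/-- the embedding of `SL` of the complement of `i₀` -/
def ψ (i₀ : ι) : SpecialLinearGroup {i : ι // i ≠ i₀} F →* SpecialLinearGroup ι F where
  toFun A := ⟨emb i₀ A.1, by rw [det_emb]; exact A.2⟩
  map_one' := Subtype.ext (emb_one i₀)
  map_mul' A B := Subtype.ext (emb_mul i₀ A.1 B.1)

lemma ψ_injective (i₀ : ι) : Function.Injective (ψ (F := F) i₀) := fun _ _ h =>
  Subtype.ext (emb_injective i₀ (congrArg Subtype.val h))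

lemma mem_range_ψ {i₀ : ι} {g : SpecialLinearGroup ι F} :
    g ∈ (ψ i₀).range ↔ BD i₀ g.1 ∧ g.1 i₀ i₀ = 1 := by
  constructor
  · rintro ⟨A, rfl⟩
    exact ⟨emb_bd i₀ A.1, emb_apply_corner i₀ A.1⟩
  · rintro ⟨h1, h2⟩
    refine ⟨⟨g.1.submatrix Subtype.val Subtype.val, ?_⟩, Subtype.ext (exists_emb h1 h2)⟩
    rw [← det_emb i₀, exists_emb h1 h2]
    exact g.2

lemma mem_centralizer_t {i₀ : ι} (hne : (-1 : F) ≠ 1) {t : SpecialLinearGroup ι F}
    (ht : t.1 = dg i₀ (-1) 1) {g : SpecialLinearGroup ι F} :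
    g ∈ Subgroup.centralizer ({t} : Set (SpecialLinearGroup ι F)) ↔ BD i₀ g.1 := by
  rw [Subgroup.mem_centralizer_iff]
  constructor
  · intro h
    have h1 := congrArg Subtype.val (h t rfl)
    rw [coe_mul, coe_mul, ht] at h1
    exact bd_of_comm hne h1
  · intro h x hx
    rw [Set.mem_singleton_iff] at hx
    subst hx
    apply Subtype.ext
    rw [coe_mul, coe_mul, ht]
    exact comm_of_bd _ _ h

lemma qs_range (i₀ : ι) (h3 : 3 ≤ Fintype.card {i : ι // i ≠ i₀}) :
    IsQuasisimple ↥(ψ (F := F) i₀).range := by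
  have h : IsQuasisimple (SpecialLinearGroup {i : ι // i ≠ i₀} F) :=
    ⟨⟨Cfsg.Agent.S0249.commutator_eq_top h3⟩, Cfsg.Agent.S0249.isSimpleGroup h3⟩
  exact isQuasisimple_of_mulEquiv (MonoidHom.ofInjective (ψ_injective i₀)) h

lemma transvection_mem_range {i₀ k l : ι} (hk : k ≠ i₀) (hl : l ≠ i₀) (hkl : k ≠ l) :
    transvection hkl (1 : F) ∈ (ψ i₀).range := by
  rw [mem_range_ψ]
  refine ⟨?_, ?_⟩
  · intro j hj
    have e : (transvection hkl (1 : F)).1 = 1 + Matrix.single k l 1 := transvection_coe _ _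
    rw [e]
    constructor
    · rw [Matrix.add_apply, Matrix.one_apply_ne hj.symm, Matrix.single_apply_of_ne, add_zero]
      exact fun h => hk h.1
    · rw [Matrix.add_apply, Matrix.one_apply_ne hj, Matrix.single_apply_of_ne, add_zero]
      exact fun h => hl h.2
  · have e : (transvection hkl (1 : F)).1 = 1 + Matrix.single k l 1 := transvection_coe _ _
    rw [e, Matrix.add_apply, Matrix.one_apply_eq, Matrix.single_apply_of_ne, add_zero]
    exact fun h => hk h.1

lemma mem_centralizer_range {i₀ : ι} (hk : ∃ k l : ι, k ≠ i₀ ∧ l ≠ i₀ ∧ k ≠ l)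
    {g : SpecialLinearGroup ι F} :
    g ∈ Subgroup.centralizer ((ψ (F := F) i₀).range : Set (SpecialLinearGroup ι F)) ↔
      ∃ a b : F, g.1 = dg i₀ a b := by
  constructor
  · intro hg
    have hT : ∀ k l : ι, k ≠ i₀ → l ≠ i₀ → k ≠ l →
        g.1 * Matrix.single k l (1 : F) = Matrix.single k l 1 * g.1 := by
      intro k l hk hl hkl
      have h1 := congrArg Subtype.val (hg _ (transvection_mem_range (F := F) hk hl hkl))
      have e : (transvection hkl (1 : F)).1 = 1 + Matrix.single k l 1 := transvection_coe _ _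
      rw [coe_mul, coe_mul, e, add_mul, mul_add, one_mul, mul_one] at h1
      exact (add_left_cancel h1).symm
    -- a partner for every index
    have hpart : ∀ k : ι, k ≠ i₀ → ∃ l : ι, l ≠ i₀ ∧ k ≠ l := by
      intro k _
      obtain ⟨k₁, l₁, hk₁, hl₁, hkl₁⟩ := hk
      by_cases h : k = k₁
      · exact ⟨l₁, hl₁, h ▸ hkl₁⟩
      · exact ⟨k₁, hk₁, h⟩
    have hcol : ∀ i k : ι, k ≠ i₀ → i ≠ k → g.1 i k = 0 := by
      intro i k hk hik
      obtain ⟨l, hl, hkl⟩ := hpart k hk
      have := congrFun (congrFun (hT k l hk hl hkl) i) l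
      rw [Matrix.mul_single_apply_same, Matrix.single_mul_apply_of_ne _ _ _ _ _ hik, mul_one] at this
      exact this
    have hrow : ∀ l j : ι, l ≠ i₀ → j ≠ l → g.1 l j = 0 := by
      intro l j hl hjl
      obtain ⟨k, hk, hlk⟩ := hpart l hl
      have := congrFun (congrFun (hT k l hk hl hlk.symm) k) j
      rw [Matrix.single_mul_apply_same, Matrix.mul_single_apply_of_ne _ _ _ _ _ hjl, one_mul] at this
      exact this.symm
    have hdiag : ∀ k l : ι, k ≠ i₀ → l ≠ i₀ → g.1 k k = g.1 l l := by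
      intro k l hk hl
      by_cases hkl : k = l
      · rw [hkl]
      · have := congrFun (congrFun (hT k l hk hl hkl) k) l
        rw [Matrix.mul_single_apply_same, Matrix.single_mul_apply_same, mul_one, one_mul] at this
        exact this
    obtain ⟨k₀, _, hk₀, _, _⟩ := hk
    refine ⟨g.1 k₀ k₀, g.1 i₀ i₀, ?_⟩
    ext i j
    unfold dg
    by_cases hij : i = j
    · subst hij
      rw [Matrix.diagonal_apply_eq]
      by_cases hi : i = i₀
      · rw [if_pos hi, hi]
      · rw [if_neg hi]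
        exact hdiag i k₀ hi hk₀
    · rw [Matrix.diagonal_apply_ne _ hij]
      by_cases hj : j = i₀
      · have hi : i ≠ i₀ := fun h => hij (h.trans hj.symm)
        exact hrow i j hi (Ne.symm hij)
      · exact hcol i j hj hij
  · rintro ⟨a, b, hab⟩ x ⟨A, rfl⟩
    apply Subtype.ext
    rw [coe_mul, coe_mul, hab]
    exact (comm_of_bd a b (emb_bd i₀ A.1)).symm

lemma comm_of_centralizer {i₀ : ι} (hk : ∃ k l : ι, k ≠ i₀ ∧ l ≠ i₀ ∧ k ≠ l)
    {x y : SpecialLinearGroup ι F}
    (hx : x ∈ Subgroup.centralizer ((ψ (F := F) i₀).range : Set (SpecialLinearGroup ι F)))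
    (hy : y ∈ Subgroup.centralizer ((ψ (F := F) i₀).range : Set (SpecialLinearGroup ι F))) :
    x * y = y * x := by
  obtain ⟨a, b, hab⟩ := (mem_centralizer_range hk).mp hx
  obtain ⟨a', b', hab'⟩ := (mem_centralizer_range hk).mp hy
  apply Subtype.ext
  rw [coe_mul, coe_mul, hab, hab']
  exact dg_comm _ _ _ _ _

lemma coe_mul_inv (c : SpecialLinearGroup ι F) : c.1 * (c⁻¹).1 = 1 := by
  have := congrArg Subtype.val (mul_inv_cancel c)
  rwa [coe_mul] at this

lemma conj_mem_range {i₀ : ι} (hne : (-1 : F) ≠ 1) {t : SpecialLinearGroup ι F}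
    (ht : t.1 = dg i₀ (-1) 1) {c x : SpecialLinearGroup ι F}
    (hc : c ∈ Subgroup.centralizer ({t} : Set (SpecialLinearGroup ι F)))
    (hx : x ∈ (ψ i₀).range) : c * x * c⁻¹ ∈ (ψ i₀).range := by
  have hxC : x ∈ Subgroup.centralizer ({t} : Set (SpecialLinearGroup ι F)) :=
    (mem_centralizer_t hne ht).mpr (mem_range_ψ.mp hx).1
  have hcx := (mem_centralizer_t hne ht).mp (mul_mem (mul_mem hc hxC) (inv_mem hc))
  have hcb := (mem_centralizer_t hne ht).mp hc
  rw [mem_range_ψ] at hx ⊢
  refine ⟨hcx, ?_⟩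
  have e1 : (c * x * c⁻¹).1 = c.1 * (x.1 * (c⁻¹).1) := by
    rw [coe_mul, coe_mul, mul_assoc]
  rw [e1, bd_corner_mul hcb, bd_corner_mul hx.1, hx.2, one_mul, ← bd_corner_mul hcb,
    coe_mul_inv, Matrix.one_apply_eq]

lemma normalizer_le_normalizer_centralizer {G : Type*} [Group G] (L : Subgroup G) :
    Subgroup.normalizer (L : Set G) ≤
      Subgroup.normalizer (Subgroup.centralizer (L : Set G) : Set G) := by
  have key : ∀ g ∈ Subgroup.normalizer (L : Set G), ∀ x ∈ Subgroup.centralizer (L : Set G),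
      g * x * g⁻¹ ∈ Subgroup.centralizer (L : Set G) := by
    intro g hg x hx y hy
    have hy' : g⁻¹ * y * g⁻¹⁻¹ ∈ L :=
      (Subgroup.mem_normalizer_iff.mp (inv_mem hg) y).mp hy
    have h1 := hx _ hy'
    calc y * (g * x * g⁻¹) = g * ((g⁻¹ * y * g⁻¹⁻¹) * x) * g⁻¹ := by group
      _ = g * (x * (g⁻¹ * y * g⁻¹⁻¹)) * g⁻¹ := by rw [h1]
      _ = g * x * g⁻¹ * y := by group
  intro g hg
  rw [Subgroup.mem_normalizer_iff]
  intro x
  constructor
  · exact key g hg x
  · intro hx
    have := key g⁻¹ (inv_mem hg) _ hx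
    have h2 : g⁻¹ * (g * x * g⁻¹) * g⁻¹⁻¹ = x := by group
    rwa [h2] at this


lemma layer_eq [Finite F] {i₀ : ι} (hne : (-1 : F) ≠ 1)
    (hk : ∃ k l : ι, k ≠ i₀ ∧ l ≠ i₀ ∧ k ≠ l)
    (h3 : 3 ≤ Fintype.card {i : ι // i ≠ i₀}) {t : SpecialLinearGroup ι F}
    (ht : t.1 = dg i₀ (-1) 1) :
    (layer ↥(Subgroup.centralizer ({t} : Set (SpecialLinearGroup ι F)))).map
      (Subgroup.centralizer ({t} : Set (SpecialLinearGroup ι F))).subtype =
        (ψ (F := F) i₀).range := by
  have hle : (ψ (F := F) i₀).range ≤ Subgroup.centralizer ({t} : Set (SpecialLinearGroup ι F)) :=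
    fun g hg => (mem_centralizer_t hne ht).mpr (mem_range_ψ.mp hg).1
  have hnorm : ((ψ (F := F) i₀).range.subgroupOf
      (Subgroup.centralizer ({t} : Set (SpecialLinearGroup ι F)))).Normal := by
    constructor
    intro x hx c
    rw [Subgroup.mem_subgroupOf] at hx ⊢
    exact conj_mem_range hne ht c.2 hx
  have hqs : IsQuasisimple ↥((ψ (F := F) i₀).range.subgroupOf
      (Subgroup.centralizer ({t} : Set (SpecialLinearGroup ι F)))) :=
    isQuasisimple_of_mulEquiv (Subgroup.subgroupOfEquivOfLe hle).symm (qs_range i₀ h3)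
  have hcomp : IsComponent ((ψ (F := F) i₀).range.subgroupOf
      (Subgroup.centralizer ({t} : Set (SpecialLinearGroup ι F)))) := ⟨hnorm.isSubnormal, hqs⟩
  have hlayer : layer ↥(Subgroup.centralizer ({t} : Set (SpecialLinearGroup ι F))) =
      (ψ (F := F) i₀).range.subgroupOf
        (Subgroup.centralizer ({t} : Set (SpecialLinearGroup ι F))) := by
    apply le_antisymm
    · apply sSup_le
      intro X hX
      rcases components_eq_or_commute hX hcomp with h | h
      · exact h.le
      · exfalso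
        apply quasisimple_not_isSolvable hX.2
        apply Group.isSolvable_of_comm
        intro a b
        have hcen : ∀ a : ↥X, (a.1 : SpecialLinearGroup ι F) ∈
            Subgroup.centralizer ((ψ (F := F) i₀).range : Set (SpecialLinearGroup ι F)) := by
          intro a y hy
          have := h a.2 ⟨y, hle hy⟩ (Subgroup.mem_subgroupOf.mpr hy)
          exact congrArg Subtype.val this
        have := comm_of_centralizer hk (hcen a) (hcen b)
        apply Subtype.ext
        apply Subtype.ext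
        exact this
    · exact le_sSup hcomp
  rw [hlayer, Subgroup.subgroupOf_map_subtype, inf_of_le_left hle]

lemma dg_self (i₀ : ι) (a : F) : dg i₀ a a = Matrix.diagonal (fun _ => a) := by
  unfold dg
  congr 1
  funext i
  exact ite_self _

lemma dg_sq (i₀ : ι) (a b : F) : dg i₀ a b * dg i₀ a b = dg i₀ (a * a) (b * b) := by
  unfold dg
  rw [Matrix.diagonal_mul_diagonal]
  congr 1
  funext i
  split_ifs <;> rfl

lemma dg_one (i₀ : ι) : dg i₀ (1 : F) 1 = 1 := by
  rw [dg_self]
  exact Matrix.diagonal_one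

theorem main [Finite F] (i₀ : ι) (hne : (-1 : F) ≠ 1) (hodd : Odd (Fintype.card ι))
    (h3 : 3 ≤ Fintype.card {i : ι // i ≠ i₀}) (t : SpecialLinearGroup ι F)
    (ht : t.1 = dg i₀ (-1) 1) :
    IsStandardSubgroup ((layer ↥(Subgroup.centralizer ({t} : Set (SpecialLinearGroup ι F)))).map
      (Subgroup.centralizer ({t} : Set (SpecialLinearGroup ι F))).subtype) := by
  have hk : ∃ k l : ι, k ≠ i₀ ∧ l ≠ i₀ ∧ k ≠ l := by
    obtain ⟨k, l, hkl⟩ := Fintype.one_lt_card_iff.mp
      (by omega : 1 < Fintype.card {i : ι // i ≠ i₀})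
    exact ⟨k.1, l.1, k.2, l.2, fun h => hkl (Subtype.ext h)⟩
  rw [layer_eq hne hk h3 ht]
  have hqs : IsQuasisimple ↥(ψ (F := F) i₀).range := qs_range i₀ h3
  have hCN : ∀ g : SpecialLinearGroup ι F, BD i₀ g.1 →
      g ∈ Subgroup.normalizer ((ψ (F := F) i₀).range : Set (SpecialLinearGroup ι F)) := by
    intro g hg
    have hgC := (mem_centralizer_t hne ht).mpr hg
    rw [Subgroup.mem_normalizer_iff]
    intro x
    constructor
    · exact conj_mem_range hne ht hgC
    · intro hx
      have := conj_mem_range hne ht (inv_mem hgC) hx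
      have h2 : g⁻¹ * (g * x * g⁻¹) * g⁻¹⁻¹ = x := by group
      rwa [h2] at this
  have hNN := normalizer_le_normalizer_centralizer (ψ (F := F) i₀).range
  have htK : t ∈ Subgroup.centralizer ((ψ (F := F) i₀).range : Set (SpecialLinearGroup ι F)) :=
    (mem_centralizer_range hk).mpr ⟨-1, 1, ht⟩
  have hNC : ∀ g ∈ Subgroup.normalizer (Subgroup.centralizer
      ((ψ (F := F) i₀).range : Set (SpecialLinearGroup ι F)) : Set (SpecialLinearGroup ι F)),
      BD i₀ g.1 := by
    intro g hg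
    have h1 := (Subgroup.mem_normalizer_iff.mp (inv_mem hg) t).mp htK
    obtain ⟨a', b', hab'⟩ := (mem_centralizer_range hk).mp h1
    have h2 : t * g = g * (g⁻¹ * t * g⁻¹⁻¹) := by group
    have h3 := congrArg Subtype.val h2
    rw [coe_mul, coe_mul, ht, hab'] at h3
    exact bd_of_intertwine hk hne (coe_mul_inv g) h3
  obtain ⟨k₀, _, hk₀, _, _⟩ := hk
  have ht2 : orderOf t = 2 := by
    apply orderOf_eq_prime
    · apply Subtype.ext
      rw [sq, coe_mul, ht, dg_sq]
      simp only [neg_mul_neg, one_mul]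
      exact dg_one i₀
    · intro h
      have := congrFun (congrFun (congrArg Subtype.val h) k₀) k₀
      rw [ht] at this
      unfold dg at this
      rw [Matrix.diagonal_apply_eq, if_neg hk₀] at this
      exact hne (by simpa using this)
  refine ⟨hqs, ⟨?_, ?_⟩, ?_, ?_⟩
  · rw [even_iff_two_dvd, ← ht2, ← Subgroup.orderOf_mk t htK]
    exact orderOf_dvd_natCard _
  · intro g hg
    by_contra hnodd
    rw [Nat.not_odd_iff_even] at hnodd
    obtain ⟨x, hx⟩ := exists_prime_orderOf_dvd_card' 2 hnodd.two_dvd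
    apply hg
    apply hNN
    apply hCN
    obtain ⟨a, b, hab⟩ := (mem_centralizer_range ⟨k₀, _, hk₀, ‹_›, ‹_›⟩).mp x.2.1
    obtain ⟨y, hy, hyx⟩ := x.2.2
    obtain ⟨a', b', hab'⟩ := (mem_centralizer_range ⟨k₀, _, hk₀, ‹_›, ‹_›⟩).mp hy
    have hne' : a ≠ b := by
      intro habeq
      subst habeq
      have hx2 : x * x = 1 := by rw [← sq, ← hx]; exact pow_orderOf_eq_one x
      have hx2' : (x.1 : SpecialLinearGroup ι F).1 * (x.1 : SpecialLinearGroup ι F).1 = 1 := by
        have h5 : (x.1 : SpecialLinearGroup ι F) * x.1 = 1 := congrArg Subtype.val hx2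
        have h6 := congrArg Subtype.val h5
        rwa [coe_mul] at h6
      rw [hab, dg_sq] at hx2'
      have ha2 : a * a = 1 := by
        have := congrFun (congrFun hx2' k₀) k₀
        unfold dg at this
        rwa [Matrix.diagonal_apply_eq, if_neg hk₀, Matrix.one_apply_eq] at this
      have hdet : a ^ Fintype.card ι = 1 := by
        have := (x.1 : SpecialLinearGroup ι F).2
        rw [hab, dg_self, Matrix.det_diagonal, Finset.prod_const, Finset.card_univ] at this
        exact this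
      obtain ⟨m, hm⟩ := hodd
      rw [hm, pow_succ, pow_mul, sq, ha2, one_pow, one_mul] at hdet
      subst hdet
      have hx1 : x = 1 := by
        apply Subtype.ext
        apply Subtype.ext
        rw [hab]
        exact dg_one i₀
      rw [hx1, orderOf_one] at hx
      exact absurd hx (by norm_num)
    have h2 : (x.1 : SpecialLinearGroup ι F) * g = g * y := by
      rw [← hyx]
      simp [MulAut.conj_apply]
    have h3 := congrArg Subtype.val h2
    rw [coe_mul, coe_mul, hab, hab'] at h3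
    exact bd_of_intertwine ⟨k₀, _, hk₀, ‹_›, ‹_›⟩ hne' (coe_mul_inv g) h3
  · intro g _ hbot
    rw [Subgroup.commutator_comm, Subgroup.commutator_eq_bot_iff_le_centralizer] at hbot
    apply quasisimple_not_isSolvable hqs
    apply Group.isSolvable_of_comm
    intro a b
    have ha : g * a.1 * g⁻¹ ∈ Subgroup.centralizer
        ((ψ (F := F) i₀).range : Set (SpecialLinearGroup ι F)) :=
      hbot ⟨a.1, a.2, by simp [MulAut.conj_apply]⟩
    have hb : g * b.1 * g⁻¹ ∈ Subgroup.centralizer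
        ((ψ (F := F) i₀).range : Set (SpecialLinearGroup ι F)) :=
      hbot ⟨b.1, b.2, by simp [MulAut.conj_apply]⟩
    have := comm_of_centralizer ⟨k₀, _, hk₀, ‹_›, ‹_›⟩ ha hb
    apply Subtype.ext
    have h4 : (a.1 : SpecialLinearGroup ι F) * b.1 = g⁻¹ * ((g * a.1 * g⁻¹) * (g * b.1 * g⁻¹)) * g := by
      group
    rw [Subgroup.coe_mul, Subgroup.coe_mul, h4, this]
    group
  · exact le_antisymm hNN (fun g hg => hCN g (hNC g hg))

end grp


/-- Let F be a finite field of odd order, n ≥ 7 odd, and t ∈ SL(n, F) the diagonal matrix with entries −1, …, −1, 1. Then E(C(t)) is a standard subgroup of SL(n, F). -/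
theorem result {F : Type*} [Field F] [Fintype F] [DecidableEq F] (hF : Odd (Fintype.card F)) (n : ℕ) (hn : 7 ≤ n) (hodd : Odd n) (t : Matrix.SpecialLinearGroup (Fin n) F) (ht : (t : Matrix (Fin n) (Fin n) F) = Matrix.diagonal (fun i : Fin n => if (i : ℕ) + 1 = n then (1 : F) else -1)) : Cfsg.IsStandardSubgroup ((Cfsg.layer ↥(Subgroup.centralizer ({t} : Set (Matrix.SpecialLinearGroup (Fin n) F)))).map (Subgroup.centralizer ({t} : Set (Matrix.SpecialLinearGroup (Fin n) F))).subtype) := by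
  have hne : (-1 : F) ≠ 1 := by
    intro h
    have h2 : ((2 : ℕ) : F) = 0 := by
      push_cast
      linear_combination (-1 : F) * h
    have h3 : ringChar F = 2 := CharP.ringChar_of_prime_eq_zero Nat.prime_two h2
    have h4 := FiniteField.even_card_iff_char_two.mp h3
    obtain ⟨m, hm⟩ := hF
    omega
  have hi₀ : n - 1 < n := by omega
  have key : ∀ i : Fin n, ((i : ℕ) + 1 = n ↔ i = ⟨n - 1, hi₀⟩) := by
    intro i
    rw [Fin.ext_iff]
    constructor
    · intro h; simp only; omega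
    · intro h; simp only at h; omega
  have ht' : t.1 = dg (⟨n - 1, hi₀⟩ : Fin n) (-1 : F) 1 := by
    rw [ht]
    unfold dg
    congr 1
    funext i
    by_cases h : (i : ℕ) + 1 = n
    · rw [if_pos h, if_pos ((key i).mp h)]
    · rw [if_neg h, if_neg (fun h' => h ((key i).mpr h'))]
  have hcard : Fintype.card {i : Fin n // i ≠ (⟨n - 1, hi₀⟩ : Fin n)} = n - 1 := by
    simp
  exact main (⟨n - 1, hi₀⟩ : Fin n) hne (by simpa using hodd) (by omega) t ht'

end Cfsg.Agent.S1348
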