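import Cfsg.Statements.S1340
import Cfsg.Agent.S1348
import Cfsg.Agent.Lib.Helper29.QS
import Cfsg.Agent.Lib.Helper31.Basic
import Mathlib

set_option autoImplicit false
open Cfsg
open Cfsg.Agent.Lib.Helper31 Cfsg.Agent.Lib.Helper29
open Cfsg.Agent.S1348

namespace Cfsg.Agent.S1340
open Matrix Matrix.SpecialLinearGroup

section grp
variable {ι F : Type*} [DecidableEq ι] [Fintype ι] [Field F]

/-- reindexing `SL` along an equivalence of index types -/
def slReindex {m n : Type*} [Fintype m] [DecidableEq m] [Fintype n] [DecidableEq n] (e : m ≃ n) :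
    SpecialLinearGroup m F ≃* SpecialLinearGroup n F where
  toFun A := ⟨A.1.submatrix e.symm e.symm, by rw [Matrix.det_submatrix_equiv_self]; exact A.2⟩
  invFun A := ⟨A.1.submatrix e e, by rw [Matrix.det_submatrix_equiv_self]; exact A.2⟩
  left_inv A := Subtype.ext (by simp)
  right_inv A := Subtype.ext (by simp)
  map_mul' A B := Subtype.ext (by
    show (A.1 * B.1).submatrix e.symm e.symm = A.1.submatrix e.symm e.symm * B.1.submatrix e.symm e.symm
    rw [Matrix.submatrix_mul_equiv])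

lemma dg_mul_self (i₀ : ι) : dg i₀ (-1 : F) 1 * dg i₀ (-1) 1 = 1 := by
  rw [dg_sq]
  simp only [neg_mul_neg, one_mul]
  exact dg_one i₀

/-- the involution -/
def tG (i₀ : ι) : GL ι F := ⟨dg i₀ (-1) 1, dg i₀ (-1) 1, dg_mul_self i₀, dg_mul_self i₀⟩

lemma mem_centralizer_tG {i₀ : ι} (hne : (-1 : F) ≠ 1) {g : GL ι F} :
    g ∈ Subgroup.centralizer ({tG i₀} : Set (GL ι F)) ↔ BD i₀ g.1 := by
  rw [Subgroup.mem_centralizer_iff]
  constructor
  · intro h
    have h1 := congrArg Units.val (h (tG i₀) rfl)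
    rw [Units.val_mul, Units.val_mul] at h1
    exact bd_of_comm hne h1
  · intro h x hx
    rw [Set.mem_singleton_iff] at hx
    subst hx
    apply Units.ext
    rw [Units.val_mul, Units.val_mul]
    exact comm_of_bd _ _ h

/-- the embedding of `SL` of the complement of `i₀` into `GL` -/
def ψG (i₀ : ι) : SpecialLinearGroup {i : ι // i ≠ i₀} F →* GL ι F := toGL.comp (ψ i₀)

lemma ψG_injective (i₀ : ι) : Function.Injective (ψG (F := F) i₀) :=
  toGL_injective.comp (ψ_injective i₀)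

lemma mem_range_ψG {i₀ : ι} {g : GL ι F} :
    g ∈ (ψG i₀).range ↔ BD i₀ g.1 ∧ g.1 i₀ i₀ = 1 ∧ g.1.det = 1 := by
  constructor
  · rintro ⟨A, rfl⟩
    exact ⟨emb_bd i₀ A.1, emb_apply_corner i₀ A.1, (ψ i₀ A).2⟩
  · rintro ⟨h1, h2, h3⟩
    have hmem : (⟨g.1, h3⟩ : SpecialLinearGroup ι F) ∈ (ψ i₀).range := mem_range_ψ.mpr ⟨h1, h2⟩
    obtain ⟨A, hA⟩ := hmem
    refine ⟨A, ?_⟩
    apply Units.ext
    show (ψ i₀ A).1 = g.1
    rw [hA]

lemma conj_mem_rangeG {i₀ : ι} (hne : (-1 : F) ≠ 1) {c x : GL ι F}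
    (hc : c ∈ Subgroup.centralizer ({tG i₀} : Set (GL ι F)))
    (hx : x ∈ (ψG i₀).range) : c * x * c⁻¹ ∈ (ψG i₀).range := by
  have hxC : x ∈ Subgroup.centralizer ({tG i₀} : Set (GL ι F)) :=
    (mem_centralizer_tG hne).mpr (mem_range_ψG.mp hx).1
  have hcx := (mem_centralizer_tG hne).mp (mul_mem (mul_mem hc hxC) (inv_mem hc))
  have hcb := (mem_centralizer_tG hne).mp hc
  rw [mem_range_ψG] at hx ⊢
  have e1 : (c * x * c⁻¹).1 = c.1 * (x.1 * (c⁻¹).1) := by
    rw [Units.val_mul, Units.val_mul, mul_assoc]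
  have e2 : c.1 * (c⁻¹).1 = 1 := Units.mul_inv c
  refine ⟨hcx, ?_, ?_⟩
  · rw [e1, bd_corner_mul hcb, bd_corner_mul hx.1, hx.2.1, one_mul, ← bd_corner_mul hcb,
      e2, Matrix.one_apply_eq]
  · rw [e1, Matrix.det_mul, Matrix.det_mul, hx.2.2, one_mul, ← Matrix.det_mul, e2, Matrix.det_one]

theorem main [Finite F] (i₀ : ι) (hne : (-1 : F) ≠ 1)
    (hk : ∃ k l : ι, k ≠ i₀ ∧ l ≠ i₀ ∧ k ≠ l)
    (hqs : IsQuasisimple (SpecialLinearGroup {i : ι // i ≠ i₀} F)) :
    ∃ t : GL ι F, orderOf t = 2 ∧ t ∉ Subgroup.center (GL ι F) ∧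
      HasComponent (↥(Subgroup.centralizer ({t} : Set (GL ι F))) ⧸
        oddCore ↥(Subgroup.centralizer ({t} : Set (GL ι F)))) := by
  obtain ⟨k, l, hk, hl, hkl⟩ := hk
  refine ⟨tG i₀, ?_, ?_, ?_⟩
  · apply orderOf_eq_prime
    · rw [sq]
      exact Units.ext (dg_mul_self i₀)
    · intro h
      have h' : dg i₀ (-1 : F) 1 = (1 : Matrix ι ι F) := by
        have e : (tG (F := F) i₀).1 = dg i₀ (-1) 1 := rfl
        rw [← e, h]
        rfl
      have := congrFun (congrFun h' k) k
      unfold dg at this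
      rw [Matrix.diagonal_apply_eq, if_neg hk] at this
      exact hne (by simpa using this)
  · intro hcen
    have h1 : toGL (transvection (Ne.symm hk) (1 : F)) ∈
        Subgroup.centralizer ({tG i₀} : Set (GL ι F)) := by
      intro x hx
      rw [Set.mem_singleton_iff] at hx
      subst hx
      exact (Subgroup.mem_center_iff.mp hcen _).symm
    have h2 := ((mem_centralizer_tG hne).mp h1 k hk).1
    have e : (toGL (transvection (Ne.symm hk) (1 : F))).1 = 1 + Matrix.single i₀ k 1 :=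
      transvection_coe (Ne.symm hk) _
    rw [e, Matrix.add_apply, Matrix.one_apply_ne (Ne.symm hk), Matrix.single_apply_same,
      zero_add] at h2
    exact one_ne_zero h2
  · have hle : (ψG (F := F) i₀).range ≤ Subgroup.centralizer ({tG i₀} : Set (GL ι F)) :=
      fun g hg => (mem_centralizer_tG hne).mpr (mem_range_ψG.mp hg).1
    have hnorm : ((ψG (F := F) i₀).range.subgroupOf
        (Subgroup.centralizer ({tG i₀} : Set (GL ι F)))).Normal := by
      constructor
      intro x hx c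
      rw [Subgroup.mem_subgroupOf] at hx ⊢
      exact conj_mem_rangeG hne c.2 hx
    have hqs' : IsQuasisimple ↥((ψG (F := F) i₀).range.subgroupOf
        (Subgroup.centralizer ({tG i₀} : Set (GL ι F)))) :=
      Cfsg.Agent.Lib.Helper31.isQuasisimple_of_mulEquiv
        ((MonoidHom.ofInjective (ψG_injective i₀)).trans (Subgroup.subgroupOfEquivOfLe hle).symm) hqs
    have hcomp : IsComponent ((ψG (F := F) i₀).range.subgroupOf
        (Subgroup.centralizer ({tG i₀} : Set (GL ι F)))) := ⟨hnorm.isSubnormal, hqs'⟩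
    have hmapne : ((ψG (F := F) i₀).range.subgroupOf
        (Subgroup.centralizer ({tG i₀} : Set (GL ι F)))).map
          (QuotientGroup.mk' (oddCore ↥(Subgroup.centralizer ({tG i₀} : Set (GL ι F))))) ≠ ⊥ := by
      intro hbot
      rw [Subgroup.map_eq_bot_iff, QuotientGroup.ker_mk'] at hbot
      -- an involution in the range
      have hu : toGL (diag2n hkl (-1 : F) (neg_ne_zero.mpr one_ne_zero)) ∈ (ψG (F := F) i₀).range := by
        rw [mem_range_ψG]
        have e : (toGL (diag2n hkl (-1 : F) (neg_ne_zero.mpr one_ne_zero))).1 =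
            Matrix.diagonal (fun j ↦ if j = k then (-1 : F) else if j = l then (-1 : F)⁻¹ else 1) :=
          diag2n_coe hkl _ (neg_ne_zero.mpr one_ne_zero)
        refine ⟨?_, ?_, (diag2n hkl (-1 : F) (neg_ne_zero.mpr one_ne_zero)).2⟩
        · intro j hj
          rw [e]
          exact ⟨Matrix.diagonal_apply_ne _ hj.symm, Matrix.diagonal_apply_ne _ hj⟩
        · rw [e, Matrix.diagonal_apply_eq, if_neg (Ne.symm hk), if_neg (Ne.symm hl)]
      have hu2 : orderOf (toGL (diag2n hkl (-1 : F) (neg_ne_zero.mpr one_ne_zero))) = 2 := by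
        rw [orderOf_injective toGL toGL_injective]
        apply orderOf_eq_prime
        · apply Subtype.ext
          rw [sq, coe_mul, diag2n_coe, Matrix.diagonal_mul_diagonal]
          show _ = (1 : Matrix ι ι F)
          rw [← Matrix.diagonal_one]
          congr 1
          funext j
          simp only [inv_neg_one]
          split_ifs <;> simp
        · intro h
          have := congrFun (congrFun (congrArg Subtype.val h) k) k
          rw [diag2n_coe, Matrix.diagonal_apply_eq, if_pos rfl] at this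
          exact hne (by simpa using this)
      have hmem := hbot (Subgroup.mem_subgroupOf.mpr hu :
        (⟨_, hle hu⟩ : ↥(Subgroup.centralizer ({tG i₀} : Set (GL ι F)))) ∈ _)
      have h2 : 2 ∣ Nat.card ↥(oddCore ↥(Subgroup.centralizer ({tG i₀} : Set (GL ι F)))) := by
        have := orderOf_dvd_natCard (⟨_, hmem⟩ :
          ↥(oddCore ↥(Subgroup.centralizer ({tG i₀} : Set (GL ι F)))))
        rwa [Subgroup.orderOf_mk, Subgroup.orderOf_mk, hu2] at this
      have h3 := pPrimeCore_coprime (G := ↥(Subgroup.centralizer ({tG i₀} : Set (GL ι F)))) 2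
      have h4 := Nat.dvd_gcd h2 (dvd_refl 2)
      rw [Nat.Coprime] at h3
      rw [h3] at h4
      omega
    have := isComponent_map_of_surjective
      (QuotientGroup.mk' (oddCore ↥(Subgroup.centralizer ({tG i₀} : Set (GL ι F)))))
      (QuotientGroup.mk'_surjective _) hcomp hmapne
    exact ⟨_, this.1, this.2⟩

end grp

lemma exists_sq_ne_one {F : Type*} [Field F] (hF : 4 ≤ Nat.card F) :
    ∃ a : F, a ≠ 0 ∧ a ^ 2 ≠ 1 := by
  have : Finite F := (Nat.card_pos_iff.1 (by omega)).2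
  obtain ⟨x, hx⟩ : IsCyclic Fˣ := by infer_instance
  refine ⟨x, Units.ne_zero x, fun h ↦ ?_⟩
  grw [Nat.card_eq_card_units_add_one F, ← orderOf_eq_card_of_forall_mem_zpowers hx,
    orderOf_le_of_pow_eq_one zero_lt_two (Units.ext <| by simpa using h)] at hF
  omega

/-- Let F be a finite field of odd order and n ≥ 3 with (n, |F|) ≠ (3, 3). Then GL(n, F) has a non-central involution t such that C(t) / O(C(t)) has a component. -/
theorem result {F : Type*} [Field F] [Fintype F] [DecidableEq F] (hF : Odd (Fintype.card F)) (n : ℕ) (hn : 3 ≤ n) (h33 : ¬ (n = 3 ∧ Fintype.card F = 3)) : ∃ t : Matrix.GeneralLinearGroup (Fin n) F, orderOf t = 2 ∧ t ∉ Subgroup.center (Matrix.GeneralLinearGroup (Fin n) F) ∧ Cfsg.HasComponent (↥(Subgroup.centralizer ({t} : Set (Matrix.GeneralLinearGroup (Fin n) F))) ⧸ Cfsg.oddCore ↥(Subgroup.centralizer ({t} : Set (Matrix.GeneralLinearGroup (Fin n) F)))) := by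
  have hne : (-1 : F) ≠ 1 := by
    intro h
    have h2 : ((2 : ℕ) : F) = 0 := by
      push_cast
      linear_combination (-1 : F) * h
    have h3 : ringChar F = 2 := CharP.ringChar_of_prime_eq_zero Nat.prime_two h2
    have h4 := FiniteField.even_card_iff_char_two.mp h3
    obtain ⟨m, hm⟩ := hF
    omega
  have hi₀ : n - 1 < n := by omega
  have hcard : Fintype.card {i : Fin n // i ≠ (⟨n - 1, hi₀⟩ : Fin n)} = n - 1 := by
    simp
  have hk : ∃ k l : Fin n, k ≠ (⟨n - 1, hi₀⟩ : Fin n) ∧ l ≠ (⟨n - 1, hi₀⟩ : Fin n) ∧ k ≠ l := by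
    obtain ⟨k, l, hkl⟩ := Fintype.one_lt_card_iff.mp
      (by omega : 1 < Fintype.card {i : Fin n // i ≠ (⟨n - 1, hi₀⟩ : Fin n)})
    exact ⟨k.1, l.1, k.2, l.2, fun h => hkl (Subtype.ext h)⟩
  refine main (⟨n - 1, hi₀⟩ : Fin n) hne hk ?_
  by_cases h4 : 4 ≤ n
  · have h3 : 3 ≤ Fintype.card {i : Fin n // i ≠ (⟨n - 1, hi₀⟩ : Fin n)} := by omega
    exact ⟨⟨Cfsg.Agent.S0249.commutator_eq_top h3⟩, Cfsg.Agent.S0249.isSimpleGroup h3⟩
  · have hn3 : n = 3 := by omega
    have hF3 : Fintype.card F ≠ 3 := fun h => h33 ⟨hn3, h⟩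
    have hF1 : 1 < Fintype.card F := Fintype.one_lt_card
    have hF5 : 4 ≤ Nat.card F := by
      rw [Nat.card_eq_fintype_card]
      obtain ⟨m, hm⟩ := hF
      omega
    obtain ⟨a, ha, hasq⟩ := exists_sq_ne_one hF5
    have hq2 : IsQuasisimple (SpecialLinearGroup (Fin 2) F) :=
      ⟨⟨SL2.commutator_eq_top ha hasq⟩,
        Matrix.ProjectiveSpecialLinearGroup.rank_two_simple' ⟨a, ha, hasq⟩⟩
    have hc2 : Fintype.card {i : Fin n // i ≠ (⟨n - 1, hi₀⟩ : Fin n)} = 2 := by omega
    exact Cfsg.Agent.Lib.Helper31.isQuasisimple_of_mulEquiv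
      (slReindex (Fintype.equivFinOfCardEq hc2).symm) hq2

end Cfsg.Agent.S1340
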