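import Cfsg.Statements.S1349
import Cfsg.Agent.Lib.Helper30.FStar
import Cfsg.Agent.Lib.Helper31.PGrp
import Cfsg.Agent.S0206

set_option autoImplicit false
open Cfsg

namespace Cfsg.Agent.S1349

open Cfsg.Agent.Lib.Helper30 Cfsg.Agent.Lib.Helper31

section abstract

variable {L : Type*} [Group L] [Finite L] {A : Type*} [Group A]

theorem odd_sq (hodd : Odd (Nat.card L)) {x : L} (h : x * x = 1) : x = 1 := by
  have h1 : orderOf x ∣ 2 := orderOf_dvd_of_pow_eq_one (by rw [pow_two]; exact h)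
  have h2 : orderOf x ∣ Nat.card L := orderOf_dvd_natCard x
  have h3 := Nat.dvd_gcd h1 h2
  rw [Nat.Coprime.gcd_eq_one (Nat.coprime_two_left.mpr hodd)] at h3
  exact orderOf_eq_one_iff.mp (Nat.dvd_one.mp h3)

/-- the acting group is an elementary abelian 2-group -/
structure Act (φ : A →* MulAut L) : Prop where
  sq : ∀ a : A, a * a = 1
  comm : ∀ a b : A, a * b = b * a

theorem Act.invol {φ : A →* MulAut L} (hφ : Act φ) (a : A) (x : L) : φ a (φ a x) = x := by
  rw [← MulAut.mul_apply, ← map_mul, hφ.sq, map_one, MulAut.one_apply]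

theorem Act.swap {φ : A →* MulAut L} (hφ : Act φ) (a b : A) (x : L) :
    φ a (φ b x) = φ b (φ a x) := by
  rw [← MulAut.mul_apply, ← MulAut.mul_apply, ← map_mul, ← map_mul, hφ.comm]

/-- invariance of a subgroup under the action -/
def Inv (φ : A →* MulAut L) (N : Subgroup L) : Prop := ∀ a : A, ∀ x ∈ N, φ a x ∈ N

theorem le_normalizer_of_conj_mem {S K : Subgroup L} (h : ∀ g ∈ S, ∀ x ∈ K, g * x * g⁻¹ ∈ K) :
    S ≤ Subgroup.normalizer (K : Set L) := by
  intro g hg
  rw [Subgroup.mem_normalizer_iff]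
  intro x
  constructor
  · exact h g hg x
  · intro hx
    have := h g⁻¹ (S.inv_mem hg) _ hx
    have h2 : g⁻¹ * (g * x * g⁻¹) * g⁻¹⁻¹ = x := by group
    rwa [h2] at this

theorem conj_mem_of_le_normalizer {S K : Subgroup L} (h : S ≤ Subgroup.normalizer (K : Set L))
    {g x : L} (hg : g ∈ S) (hx : x ∈ K) : g * x * g⁻¹ ∈ K :=
  (Subgroup.mem_normalizer_iff.mp (h hg) x).mp hx

theorem fix_of_fix (hodd : Odd (Nat.card L)) (α : MulAut L) (hα : ∀ x, α (α x) = x)
    {K H : Subgroup L} (hKH : H ≤ Subgroup.normalizer (K : Set L)) (hαH : ∀ x ∈ H, α x ∈ H)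
    (hαK : ∀ x ∈ K, α x = x) (hC : H ⊓ Subgroup.centralizer (K : Set L) ≤ K) :
    ∀ x ∈ H, α x = x := by
  intro x hx
  have hcH : x⁻¹ * α x ∈ H := H.mul_mem (H.inv_mem hx) (hαH x hx)
  have hcC : x⁻¹ * α x ∈ Subgroup.centralizer (K : Set L) := by
    intro n hn
    have h1 : x * n * x⁻¹ ∈ K := conj_mem_of_le_normalizer hKH hx hn
    have h2 := hαK _ h1
    rw [map_mul, map_mul, map_inv, hαK n hn] at h2
    calc n * (x⁻¹ * α x) = x⁻¹ * (x * n * x⁻¹) * α x := by group
      _ = x⁻¹ * (α x * n * (α x)⁻¹) * α x := by rw [h2]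
      _ = x⁻¹ * α x * n := by group
  have hcK : x⁻¹ * α x ∈ K := hC ⟨hcH, hcC⟩
  have h3 := hαK _ hcK
  rw [map_mul, map_inv, hα] at h3
  have h4 : (x⁻¹ * α x) * (x⁻¹ * α x) = 1 := by
    calc (x⁻¹ * α x) * (x⁻¹ * α x) = (x⁻¹ * α x) * ((α x)⁻¹ * x) := by rw [h3]
      _ = 1 := by group
  have h5 := odd_sq hodd h4
  calc α x = x * (x⁻¹ * α x) := by group
    _ = x := by rw [h5, mul_one]

theorem exists_homog (hodd : Odd (Nat.card L)) {φ : A →* MulAut L} (hφ : Act φ) :
    ∀ (n : ℕ) (N W : Subgroup L), Nat.card W ≤ n → N ≤ W →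
      W ≤ Subgroup.normalizer (N : Set L) →
      (∀ x ∈ W, ∀ y ∈ W, x * y * x⁻¹ * y⁻¹ ∈ N) → Inv φ W → Inv φ N → ¬ W ≤ N →
      ∃ w ∈ W, w ∉ N ∧ ∀ a : A, (w⁻¹ * φ a w ∈ N ∨ w * φ a w ∈ N) := by
  intro n
  induction n with
  | zero =>
    intro N W hcard
    have := Nat.card_pos (α := W)
    omega
  | succ n ih =>
    intro N W hcard hNW hWN hcomm hW hN hne
    by_cases hall : ∀ a : A, (∀ w ∈ W, w⁻¹ * φ a w ∈ N) ∨ (∀ w ∈ W, w * φ a w ∈ N)
    · obtain ⟨w, hw, hwN⟩ := SetLike.not_le_iff_exists.mp hne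
      exact ⟨w, hw, hwN, fun a => (hall a).imp (fun h => h w hw) (fun h => h w hw)⟩
    · push Not at hall
      obtain ⟨a, ⟨w₁, hw₁, hw₁N⟩, ⟨w₂, hw₂, hw₂N⟩⟩ := hall
      let Wm : Subgroup L :=
        { carrier := {w | w ∈ W ∧ w * φ a w ∈ N}
          mul_mem' := by
            rintro w v ⟨hw, hwN⟩ ⟨hv, hvN⟩
            refine ⟨W.mul_mem hw hv, ?_⟩
            have hκ : v * φ a w * v⁻¹ * (φ a w)⁻¹ ∈ N := hcomm v hv _ (hW a w hw)
            have hκ' := conj_mem_of_le_normalizer hWN hw hκ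
            have : w * v * φ a (w * v) =
                (w * (v * φ a w * v⁻¹ * (φ a w)⁻¹) * w⁻¹) * (w * φ a w) * (v * φ a v) := by
              rw [map_mul]; group
            rw [this]
            exact N.mul_mem (N.mul_mem hκ' hwN) hvN
          one_mem' := ⟨W.one_mem, by rw [map_one, one_mul]; exact N.one_mem⟩
          inv_mem' := by
            rintro w ⟨hw, hwN⟩
            refine ⟨W.inv_mem hw, ?_⟩
            have h1 := conj_mem_of_le_normalizer hWN (W.inv_mem hw) (N.inv_mem hwN)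
            have : w⁻¹ * φ a w⁻¹ = w⁻¹ * (w * φ a w)⁻¹ * w⁻¹⁻¹ := by
              rw [map_inv]; group
            rw [this]
            exact h1 }
      have hWmW : Wm ≤ W := fun w hw => hw.1
      have hNWm : N ≤ Wm := fun x hx => ⟨hNW hx, N.mul_mem hx (hN a x hx)⟩
      have hlt : Wm < W := by
        refine lt_of_le_of_ne hWmW (fun h => hw₂N ?_)
        have : w₂ ∈ Wm := h ▸ hw₂
        exact this.2
      have hcard' : Nat.card Wm ≤ n := by
        have := card_lt_card_of_lt hlt
        omega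
      have hne' : ¬ Wm ≤ N := by
        intro h
        apply hw₁N
        apply h
        refine ⟨W.mul_mem (W.inv_mem hw₁) (hW a w₁ hw₁), ?_⟩
        rw [map_mul, map_inv, hφ.invol]
        have : w₁⁻¹ * φ a w₁ * ((φ a w₁)⁻¹ * w₁) = 1 := by group
        rw [this]
        exact N.one_mem
      have hWm : Inv φ Wm := by
        intro b w hw
        refine ⟨hW b w hw.1, ?_⟩
        rw [hφ.swap a b w, ← map_mul]
        exact hN b _ hw.2
      obtain ⟨w, hw, hwN, hhom⟩ := ih N Wm hcard' hNWm (hWmW.trans hWN)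
        (fun x hx y hy => hcomm x (hWmW hx) y (hWmW hy)) hWm hN hne'
      exact ⟨w, hWmW hw, hwN, hhom⟩

theorem centralizer_inv {φ : A →* MulAut L} (hφ : Act φ) {N : Subgroup L} (hN : Inv φ N) :
    Inv φ (Subgroup.centralizer (N : Set L)) := by
  intro a x hx n hn
  have h1 := hx (φ a n) (hN a n hn)
  have h2 := congrArg (φ a) h1
  rw [map_mul, map_mul, hφ.invol] at h2
  exact h2

theorem exists_central_mod_sub {F C N : Subgroup L} (hF : Group.IsNilpotent F) (hCF : C ≤ F)
    (hFC : F ≤ Subgroup.normalizer (C : Set L)) (h : ¬ C ≤ N) :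
    ∃ x ∈ C, x ∉ N ∧ ∀ g ∈ F, x * g * x⁻¹ * g⁻¹ ∈ N := by
  have : (C.subgroupOf F).Normal := (Subgroup.normal_subgroupOf_iff_le_normalizer hCF).mpr hFC
  have h' : ¬ C.subgroupOf F ≤ N.subgroupOf F := by
    intro hle
    apply h
    intro x hx
    have : (⟨x, hCF hx⟩ : F) ∈ N.subgroupOf F := hle (Subgroup.mem_subgroupOf.mpr hx)
    exact Subgroup.mem_subgroupOf.mp this
  obtain ⟨x, hxC, hxN, hx⟩ := exists_central_mod h'
  refine ⟨x.1, Subgroup.mem_subgroupOf.mp hxC, fun hn => hxN (Subgroup.mem_subgroupOf.mpr hn),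
    fun g hg => ?_⟩
  have := hx ⟨g, hg⟩
  exact Subgroup.mem_subgroupOf.mp this

theorem exists_selfcentralizing (hodd : Odd (Nat.card L)) {φ : A →* MulAut L} (hφ : Act φ)
    {F : Subgroup L} (hFnil : Group.IsNilpotent F) (hF : Inv φ F) :
    ∃ N : Subgroup L, N ≤ F ∧ F ≤ Subgroup.normalizer (N : Set L) ∧
      (∀ x ∈ N, ∀ y ∈ N, x * y = y * x) ∧ Inv φ N ∧
      F ⊓ Subgroup.centralizer (N : Set L) ≤ N := by
  obtain ⟨N, hN⟩ := exists_maximal_of_wellFoundedGT
    (fun N : Subgroup L => N ≤ F ∧ F ≤ Subgroup.normalizer (N : Set L) ∧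
      (∀ x ∈ N, ∀ y ∈ N, x * y = y * x) ∧ Inv φ N)
    ⟨⊥, bot_le, Subgroup.le_normalizer_of_normal, by
      intro x hx y hy
      rw [Subgroup.mem_bot] at hx hy
      rw [hx, hy], by
      intro a x hx
      rw [Subgroup.mem_bot] at hx ⊢
      rw [hx, map_one]⟩
  obtain ⟨hNF, hFN, hNab, hNinv⟩ := hN.1
  refine ⟨N, hNF, hFN, hNab, hNinv, ?_⟩
  by_contra hC
  have hFC : F ≤ Subgroup.normalizer ((F ⊓ Subgroup.centralizer (N : Set L) : Subgroup L) : Set L) := by
    apply le_normalizer_of_conj_mem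
    rintro g hg x ⟨hxF, hxC⟩
    refine ⟨F.mul_mem (F.mul_mem hg hxF) (F.inv_mem hg), ?_⟩
    intro n hn
    have h1 : g⁻¹ * n * g⁻¹⁻¹ ∈ N := conj_mem_of_le_normalizer hFN (F.inv_mem hg) hn
    have h2 := hxC _ h1
    calc n * (g * x * g⁻¹) = g * ((g⁻¹ * n * g⁻¹⁻¹) * x) * g⁻¹ := by group
      _ = g * (x * (g⁻¹ * n * g⁻¹⁻¹)) * g⁻¹ := by rw [h2]
      _ = g * x * g⁻¹ * n := by group
  obtain ⟨x₀, hx₀C, hx₀N, hx₀⟩ := exists_central_mod_sub hFnil inf_le_left hFC hC
  let D : Subgroup L :=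
    { carrier := {x | x ∈ F ⊓ Subgroup.centralizer (N : Set L) ∧ ∀ g ∈ F, x * g * x⁻¹ * g⁻¹ ∈ N}
      mul_mem' := by
        rintro x y ⟨hx, hxg⟩ ⟨hy, hyg⟩
        refine ⟨Subgroup.mul_mem _ hx hy, fun g hg => ?_⟩
        have h1 := conj_mem_of_le_normalizer hFN hx.1 (hyg g hg)
        have : x * y * g * (x * y)⁻¹ * g⁻¹ = (x * (y * g * y⁻¹ * g⁻¹) * x⁻¹) * (x * g * x⁻¹ * g⁻¹) := by
          group
        rw [this]
        exact N.mul_mem h1 (hxg g hg)
      one_mem' := ⟨Subgroup.one_mem _, fun g _ => by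
        have : (1 : L) * g * 1⁻¹ * g⁻¹ = 1 := by group
        rw [this]; exact N.one_mem⟩
      inv_mem' := by
        rintro x ⟨hx, hxg⟩
        refine ⟨Subgroup.inv_mem _ hx, fun g hg => ?_⟩
        have h1 := conj_mem_of_le_normalizer hFN (F.inv_mem hx.1) (N.inv_mem (hxg g hg))
        have : x⁻¹ * g * x⁻¹⁻¹ * g⁻¹ = x⁻¹ * (x * g * x⁻¹ * g⁻¹)⁻¹ * x⁻¹⁻¹ := by group
        rw [this]
        exact h1 }
  have hDF : D ≤ F := fun x hx => hx.1.1
  have hND : N ≤ D := by
    intro n hn
    refine ⟨⟨hNF hn, fun m hm => hNab m hm n hn⟩, fun g hg => ?_⟩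
    have h1 := conj_mem_of_le_normalizer hFN hg (N.inv_mem hn)
    have : n * g * n⁻¹ * g⁻¹ = n * (g * n⁻¹ * g⁻¹) := by group
    rw [this]
    exact N.mul_mem hn h1
  have hDne : ¬ D ≤ N := fun h => hx₀N (h ⟨hx₀C, hx₀⟩)
  have hDinv : Inv φ D := by
    rintro a x ⟨hx, hxg⟩
    refine ⟨⟨hF a x hx.1, centralizer_inv hφ hNinv a x hx.2⟩, fun g hg => ?_⟩
    have h1 := hNinv a _ (hxg (φ a g) (hF a g hg))
    rw [map_mul, map_mul, map_mul, map_inv, map_inv, hφ.invol] at h1
    exact h1
  obtain ⟨w, hwD, hwN, hw⟩ := exists_homog hodd hφ _ N D le_rfl hND (hDF.trans hFN)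
    (fun x hx y hy => hx.2 y (hDF hy)) hDinv hNinv hDne
  have hwF : w ∈ F := hDF hwD
  have hQ : N ⊔ Subgroup.zpowers w ≤ F ∧
      F ≤ Subgroup.normalizer ((N ⊔ Subgroup.zpowers w : Subgroup L) : Set L) ∧
      (∀ x ∈ N ⊔ Subgroup.zpowers w, ∀ y ∈ N ⊔ Subgroup.zpowers w, x * y = y * x) ∧
      Inv φ (N ⊔ Subgroup.zpowers w) := by
    refine ⟨sup_le hNF (Subgroup.zpowers_le.mpr hwF), ?_, ?_, ?_⟩
    · apply le_normalizer_of_conj_mem
      intro g hg
      have : N ⊔ Subgroup.zpowers w ≤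
          (N ⊔ Subgroup.zpowers w).comap (MulAut.conj g).toMonoidHom := by
        refine sup_le ?_ ?_
        · intro n hn
          exact Subgroup.mem_sup_left (conj_mem_of_le_normalizer hFN hg hn)
        · rw [Subgroup.zpowers_le]
          show g * w * g⁻¹ ∈ N ⊔ Subgroup.zpowers w
          have h1 := N.inv_mem (hwD.2 g hg)
          have : g * w * g⁻¹ = (w * g * w⁻¹ * g⁻¹)⁻¹ * w := by group
          rw [this]
          exact Subgroup.mul_mem _ (Subgroup.mem_sup_left h1)
            (Subgroup.mem_sup_right (Subgroup.mem_zpowers w))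
      intro x hx
      exact this hx
    · have hwc : ∀ n ∈ N, n * w = w * n := fun n hn => hwD.1.2 n hn
      have h1 : N ⊔ Subgroup.zpowers w ≤ Subgroup.centralizer (N : Set L) := by
        refine sup_le ?_ ?_
        · intro a ha b hb
          exact hNab b hb a ha
        · rw [Subgroup.zpowers_le]
          exact hwD.1.2
      have h2 : N ⊔ Subgroup.zpowers w ≤ Subgroup.centralizer ({w} : Set L) := by
        refine sup_le ?_ ?_
        · intro a ha b hb
          rw [Set.mem_singleton_iff] at hb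
          subst hb
          exact (hwc a ha).symm
        · rw [Subgroup.zpowers_le]
          intro b hb
          rw [Set.mem_singleton_iff] at hb
          subst hb
          rfl
      intro a ha b hb
      have h3 : N ⊔ Subgroup.zpowers w ≤ Subgroup.centralizer ({a} : Set L) := by
        refine sup_le ?_ ?_
        · intro y hy z hz
          rw [Set.mem_singleton_iff] at hz
          subst hz
          exact (h1 ha y hy).symm
        · rw [Subgroup.zpowers_le]
          intro z hz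
          rw [Set.mem_singleton_iff] at hz
          subst hz
          exact (h2 ha w rfl).symm
      exact h3 hb a rfl
    · intro a
      have : N ⊔ Subgroup.zpowers w ≤ (N ⊔ Subgroup.zpowers w).comap (φ a).toMonoidHom := by
        refine sup_le ?_ ?_
        · intro n hn
          exact Subgroup.mem_sup_left (hNinv a n hn)
        · rw [Subgroup.zpowers_le]
          show φ a w ∈ N ⊔ Subgroup.zpowers w
          rcases hw a with h | h
          · have : φ a w = w * (w⁻¹ * φ a w) := by group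
            rw [this]
            exact Subgroup.mul_mem _ (Subgroup.mem_sup_right (Subgroup.mem_zpowers w))
              (Subgroup.mem_sup_left h)
          · have : φ a w = w⁻¹ * (w * φ a w) := by group
            rw [this]
            exact Subgroup.mul_mem _
              (Subgroup.inv_mem _ (Subgroup.mem_sup_right (Subgroup.mem_zpowers w)))
              (Subgroup.mem_sup_left h)
      intro x hx
      exact this hx
  have := hN.2 hQ le_sup_left
  exact hwN (this (Subgroup.mem_sup_right (Subgroup.mem_zpowers w)))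

theorem fitting_facts (hsolv : Group.IsSolvable L) :
    Subgroup.centralizer (fittingSubgroup L : Set L) ≤ fittingSubgroup L := by
  have hlayer : layer L = ⊥ := by
    unfold layer
    have : {K : Subgroup L | IsComponent K} = ∅ := by
      ext K
      simp only [Set.mem_ofPred_eq, Set.mem_empty_iff_false, iff_false]
      intro hK
      exact comp_not_solvable hK inferInstance
    rw [this, sSup_empty]
  have h := centralizer_genFitting_le (G := L)
  unfold generalizedFittingSubgroup at h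
  rwa [hlayer, bot_sup_eq] at h

theorem faithful_of_fix (hodd : Odd (Nat.card L)) (hsolv : Group.IsSolvable L)
    {φ : A →* MulAut L} (hφ : Act φ) (hinj : Function.Injective φ) :
    ∃ N : Subgroup L, (∀ x ∈ N, ∀ y ∈ N, x * y = y * x) ∧ Inv φ N ∧
      ∀ a : A, (∀ x ∈ N, φ a x = x) → a = 1 := by
  have hFchar : (fittingSubgroup L).Characteristic := fitting_characteristic
  have hFn : (fittingSubgroup L).Normal := fitting_normal
  have hFinv : Inv φ (fittingSubgroup L) := by
    intro a x hx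
    have := hFchar.fixed (φ a)
    rw [← this] at hx
    exact hx
  obtain ⟨N, hNF, hFN, hNab, hNinv, hNC⟩ :=
    exists_selfcentralizing hodd hφ (fitting_nilpotent (G := L)) hFinv
  refine ⟨N, hNab, hNinv, fun a ha => ?_⟩
  have h1 : ∀ x ∈ fittingSubgroup L, φ a x = x :=
    fix_of_fix hodd (φ a) (hφ.invol a) hFN (hFinv a) ha hNC
  have h2 : ∀ x ∈ (⊤ : Subgroup L), φ a x = x :=
    fix_of_fix hodd (φ a) (hφ.invol a) Subgroup.le_normalizer_of_normal (fun x _ => Subgroup.mem_top _) h1
      (inf_le_right.trans (fitting_facts hsolv))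
  apply hinj
  rw [map_one]
  ext x
  rw [MulAut.one_apply]
  exact h2 x (Subgroup.mem_top x)


theorem exists_homog_sep (hodd : Odd (Nat.card L)) {φ : A →* MulAut L} (hφ : Act φ)
    {N : Subgroup L} (hNab : ∀ x ∈ N, ∀ y ∈ N, x * y = y * x) (hNinv : Inv φ N) (a : A)
    (ha : ¬ ∀ x ∈ N, φ a x = x) :
    ∃ y ∈ N, (∀ b : A, φ b y = y ∨ φ b y = y⁻¹) ∧ φ a y ≠ y := by
  push Not at ha
  obtain ⟨w, hwN, hw⟩ := ha
  let W : Subgroup L :=
    { carrier := {w | w ∈ N ∧ φ a w = w⁻¹}
      mul_mem' := by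
        rintro u v ⟨hu, hu'⟩ ⟨hv, hv'⟩
        refine ⟨N.mul_mem hu hv, ?_⟩
        rw [map_mul, hu', hv', mul_inv_rev]
        exact hNab _ (N.inv_mem hu) _ (N.inv_mem hv)
      one_mem' := ⟨N.one_mem, by rw [map_one, inv_one]⟩
      inv_mem' := by
        rintro u ⟨hu, hu'⟩
        exact ⟨N.inv_mem hu, by rw [map_inv, hu']⟩ }
  have hWN : W ≤ N := fun u hu => hu.1
  have hWinv : Inv φ W := by
    rintro b u ⟨hu, hu'⟩
    exact ⟨hNinv b u hu, by rw [hφ.swap a b u, hu', map_inv]⟩
  have hne : ¬ W ≤ ⊥ := by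
    intro h
    have hv : w * (φ a w)⁻¹ ∈ W := by
      refine ⟨N.mul_mem hwN (N.inv_mem (hNinv a w hwN)), ?_⟩
      rw [map_mul, map_inv, hφ.invol, mul_inv_rev, inv_inv]
    have := h hv
    rw [Subgroup.mem_bot, mul_inv_eq_one] at this
    exact hw this.symm
  have hbotinv : Inv φ (⊥ : Subgroup L) := by
    intro b x hx
    rw [Subgroup.mem_bot] at hx ⊢
    rw [hx, map_one]
  obtain ⟨y, hyW, hy1, hy⟩ := exists_homog hodd hφ _ ⊥ W le_rfl bot_le
    Subgroup.le_normalizer_of_normal
    (fun x hx y hy => by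
      rw [Subgroup.mem_bot, hNab x (hWN hx) y (hWN hy)]
      group) hWinv hbotinv hne
  refine ⟨y, hWN hyW, fun b => ?_, ?_⟩
  · rcases hy b with h | h
    · left
      rw [Subgroup.mem_bot] at h
      exact (inv_mul_eq_one.mp h).symm
    · right
      rw [Subgroup.mem_bot] at h
      exact eq_inv_of_mul_eq_one_right h
  · intro h
    have h2 : φ a y = y⁻¹ := hyW.2
    rw [h] at h2
    apply hy1
    rw [Subgroup.mem_bot]
    apply odd_sq hodd
    nth_rewrite 1 [h2]
    exact inv_mul_cancel y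

theorem select (hodd : Odd (Nat.card L)) {φ : A →* MulAut L} (hφ : Act φ) [Finite A] (Y : Set L)
    (hY : ∀ y ∈ Y, ∀ a : A, φ a y = y ∨ φ a y = y⁻¹) :
    ∀ (k : ℕ) (B : Subgroup A), Nat.card B = 2 ^ k →
      (∀ b ∈ B, b ≠ 1 → ∃ y ∈ Y, φ b y ≠ y) →
      ∃ (b : Fin k → A) (y : Fin k → L),
        (∀ i, b i ∈ B ∧ y i ∈ Y ∧ φ (b i) (y i) = (y i)⁻¹ ∧ y i ≠ 1) ∧
        (∀ i j, i ≠ j → φ (b i) (y j) = y j) ∧ B ≤ Subgroup.closure (Set.range b) := by
  classical
  intro k
  induction k with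
  | zero =>
    intro B hB _
    rw [pow_zero] at hB
    have hB' : B = ⊥ := Subgroup.card_eq_one.mp hB
    exact ⟨Fin.elim0, Fin.elim0, fun i => i.elim0, fun i => i.elim0, by rw [hB']; exact bot_le⟩
  | succ k ih =>
    intro B hB hsep
    obtain ⟨b₀, hb₀B, hb₀1⟩ : ∃ b₀ ∈ B, b₀ ≠ 1 := by
      by_contra hcon
      push Not at hcon
      have hB' : B = ⊥ := le_bot_iff.mp (fun b hb => Subgroup.mem_bot.mpr (hcon b hb))
      rw [hB', Subgroup.card_bot] at hB
      have : 1 < 2 ^ (k + 1) := Nat.one_lt_two_pow (Nat.succ_ne_zero k)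
      omega
    obtain ⟨y₀, hy₀Y, hy₀⟩ := hsep b₀ hb₀B hb₀1
    have hy₀inv : φ b₀ y₀ = y₀⁻¹ := (hY y₀ hy₀Y b₀).resolve_left hy₀
    have hy₀1 : y₀ ≠ 1 := by
      rintro rfl
      exact hy₀ (map_one _)
    have hy₀ne : y₀⁻¹ ≠ y₀ := by
      intro h
      apply hy₀1
      apply odd_sq hodd
      nth_rewrite 1 [← h]
      exact inv_mul_cancel y₀
    let B' : Subgroup A :=
      { carrier := {b | b ∈ B ∧ φ b y₀ = y₀}
        mul_mem' := by
          rintro b c ⟨hb, hb'⟩ ⟨hc, hc'⟩
          exact ⟨B.mul_mem hb hc, by rw [map_mul, MulAut.mul_apply, hc', hb']⟩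
        one_mem' := ⟨B.one_mem, by rw [map_one, MulAut.one_apply]⟩
        inv_mem' := by
          rintro b ⟨hb, hb'⟩
          refine ⟨B.inv_mem hb, ?_⟩
          have : φ b⁻¹ (φ b y₀) = y₀ := by
            rw [← MulAut.mul_apply, ← map_mul, inv_mul_cancel, map_one, MulAut.one_apply]
          rwa [hb'] at this }
    have hB'B : B' ≤ B := fun b hb => hb.1
    have hflip : ∀ b ∈ B, φ b y₀ ≠ y₀ → ∀ c : A, φ c y₀ = y₀⁻¹ → φ (c * b) y₀ = y₀ := by
      intro b hb hne c hc
      have h1 : φ b y₀ = y₀⁻¹ := (hY y₀ hy₀Y b).resolve_left hne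
      rw [map_mul, MulAut.mul_apply, h1, map_inv, hc, inv_inv]
    have hB'card : Nat.card B' = 2 ^ k := by
      let f : ↥B → ↥B' × Bool := fun b =>
        if h : φ (b : A) y₀ = y₀ then (⟨b, b.2, h⟩, true)
        else (⟨b₀ * b, B.mul_mem hb₀B b.2, hflip b b.2 h b₀ hy₀inv⟩, false)
      have hf : Function.Injective f := by
        intro x z hxz
        simp only [f] at hxz
        split_ifs at hxz with hx hz hz
        · have := congrArg (fun t => (t.1 : A)) hxz
          exact Subtype.ext this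
        · simp at hxz
        · simp at hxz
        · have := congrArg (fun t => (t.1 : A)) hxz
          simp only [mul_right_inj] at this
          exact Subtype.ext this
      have h1 := Nat.card_le_card_of_injective f hf
      rw [Nat.card_prod, Nat.card_eq_fintype_card (α := Bool), Fintype.card_bool, hB] at h1
      have hlt : B' < B := by
        refine lt_of_le_of_ne hB'B (fun h => hy₀ ?_)
        have : b₀ ∈ B' := h ▸ hb₀B
        exact this.2
      have h2 := card_lt_card_of_lt hlt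
      have hdvd : Nat.card B' ∣ 2 ^ (k + 1) := by
        rw [← hB]; exact Subgroup.card_dvd_of_le hB'B
      obtain ⟨j, -, hj⟩ := (Nat.dvd_prime_pow Nat.prime_two).mp hdvd
      rw [hj, hB] at h2
      rw [hj] at h1 ⊢
      have h3 := (Nat.pow_lt_pow_iff_right (by norm_num : 1 < 2)).mp h2
      have h4 : 2 ^ (k + 1) ≤ 2 ^ (j + 1) := by rw [pow_succ 2 j]; exact h1
      have h5 := (Nat.pow_le_pow_iff_right (by norm_num : 1 < 2)).mp h4
      have : j = k := by omega
      rw [this]
    obtain ⟨b', y', h1, h2, h3⟩ := ih B' hB'card (fun b hb hb1 => hsep b (hB'B hb) hb1)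
    have hsec : ∀ m, m ≤ k → ∃ c ∈ B, φ c y₀ = y₀⁻¹ ∧
        ∀ i : Fin k, i.val < m → φ c (y' i) = y' i := by
      intro m
      induction m with
      | zero => intro _; exact ⟨b₀, hb₀B, hy₀inv, fun i hi => absurd hi (Nat.not_lt_zero _)⟩
      | succ m ihm =>
        intro hm
        obtain ⟨c, hcB, hc0, hc⟩ := ihm (by omega)
        by_cases h : φ c (y' ⟨m, by omega⟩) = y' ⟨m, by omega⟩
        · refine ⟨c, hcB, hc0, fun i hi => ?_⟩
          by_cases him : i.val < m
          · exact hc i him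
          · have : i = ⟨m, by omega⟩ := Fin.ext (by simp only; omega)
            rw [this]; exact h
        · have h' : φ c (y' ⟨m, by omega⟩) = (y' ⟨m, by omega⟩)⁻¹ :=
            (hY _ (h1 _).2.1 c).resolve_left h
          refine ⟨c * b' ⟨m, by omega⟩, B.mul_mem hcB (hB'B (h1 _).1), ?_, fun i hi => ?_⟩
          · rw [map_mul, MulAut.mul_apply, (h1 ⟨m, by omega⟩).1.2, hc0]
          · by_cases him : i.val < m
            · have hne : (⟨m, by omega⟩ : Fin k) ≠ i := by
                intro heq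
                rw [← heq] at him
                simp at him
              rw [map_mul, MulAut.mul_apply, h2 _ i hne, hc i him]
            · have : i = ⟨m, by omega⟩ := Fin.ext (by simp only; omega)
              rw [this, map_mul, MulAut.mul_apply, (h1 ⟨m, by omega⟩).2.2.1, map_inv, h', inv_inv]
    obtain ⟨b₁, hb₁B, hb₁0, hb₁⟩ := hsec k le_rfl
    refine ⟨Fin.cons b₁ b', Fin.cons y₀ y', ?_, ?_, ?_⟩
    · intro i
      refine Fin.cases ?_ (fun i' => ?_) i
      · simp only [Fin.cons_zero]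
        exact ⟨hb₁B, hy₀Y, hb₁0, hy₀1⟩
      · simp only [Fin.cons_succ]
        exact ⟨hB'B (h1 i').1, (h1 i').2.1, (h1 i').2.2.1, (h1 i').2.2.2⟩
    · intro i j
      refine Fin.cases ?_ (fun i' => ?_) i <;> refine Fin.cases ?_ (fun j' => ?_) j
      · intro h; exact absurd rfl h
      · intro _
        simp only [Fin.cons_zero, Fin.cons_succ]
        exact hb₁ j' j'.2
      · intro _
        simp only [Fin.cons_zero, Fin.cons_succ]
        exact (h1 i').1.2
      · intro h
        simp only [Fin.cons_succ]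
        exact h2 i' j' (fun h' => h (by rw [h']))
    · have hsub : Subgroup.closure (Set.range b') ≤
          Subgroup.closure (Set.range (Fin.cons b₁ b' : Fin (k + 1) → A)) := by
        apply Subgroup.closure_mono
        rintro _ ⟨i, rfl⟩
        exact ⟨i.succ, by simp only [Fin.cons_succ]⟩
      have hb₁mem : b₁ ∈ Subgroup.closure (Set.range (Fin.cons b₁ b' : Fin (k + 1) → A)) :=
        Subgroup.subset_closure ⟨0, by simp only [Fin.cons_zero]⟩
      intro b hb
      by_cases h : φ b y₀ = y₀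
      · exact hsub (h3 (show b ∈ B' from ⟨hb, h⟩))
      · have h4 : b₁ * b ∈ B' := ⟨B.mul_mem hb₁B hb, hflip b hb h b₁ hb₁0⟩
        have : b = b₁⁻¹ * (b₁ * b) := by group
        rw [this]
        exact Subgroup.mul_mem _ (Subgroup.inv_mem _ hb₁mem) (hsub (h3 h4))

theorem abstract_main (hodd : Odd (Nat.card L)) (hsolv : Group.IsSolvable L) [Finite A]
    {φ : A →* MulAut L} (hφ : Act φ) (hinj : Function.Injective φ) (d : ℕ)
    (hd : Nat.card A = 2 ^ d) :
    ∃ (b : Fin d → A) (y : Fin d → L), (∀ i, φ (b i) (y i) = (y i)⁻¹ ∧ y i ≠ 1) ∧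
      (∀ i j, i ≠ j → φ (b i) (y j) = y j) ∧ (∀ i j, y i * y j = y j * y i) ∧
      Subgroup.closure (Set.range b) = ⊤ := by
  obtain ⟨N, hNab, hNinv, hNf⟩ := faithful_of_fix hodd hsolv hφ hinj
  have hsep : ∀ b ∈ (⊤ : Subgroup A), b ≠ 1 →
      ∃ y ∈ {y : L | y ∈ N ∧ ∀ a : A, φ a y = y ∨ φ a y = y⁻¹}, φ b y ≠ y := by
    intro b _ hb1
    have : ¬ ∀ x ∈ N, φ b x = x := fun h => hb1 (hNf b h)
    obtain ⟨y, hyN, hyh, hy⟩ := exists_homog_sep hodd hφ hNab hNinv b this
    exact ⟨y, ⟨hyN, hyh⟩, hy⟩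
  obtain ⟨b, y, h1, h2, h3⟩ := select hodd hφ {y : L | y ∈ N ∧ ∀ a : A, φ a y = y ∨ φ a y = y⁻¹}
    (fun y hy => hy.2) d ⊤ (by rw [Subgroup.card_top]; exact hd) hsep
  exact ⟨b, y, fun i => ⟨(h1 i).2.2.1, (h1 i).2.2.2⟩, h2,
    fun i j => hNab _ (h1 i).2.1.1 _ (h1 j).2.1.1, top_le_iff.mp h3⟩


end abstract

section concrete

variable {G : Type*} [Group G]

/-- conjugation action of a normalizing subgroup -/
def conjAct (L A : Subgroup G) (hAL : A ≤ Subgroup.normalizer (L : Set G)) : ↥A →* MulAut ↥L where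
  toFun a :=
    { toFun := fun x => ⟨(a : G) * (x : G) * (a : G)⁻¹,
        (Subgroup.mem_normalizer_iff.mp (hAL a.2) x).mp x.2⟩
      invFun := fun x => ⟨(a : G)⁻¹ * (x : G) * (a : G), by
        have := (Subgroup.mem_normalizer_iff.mp (hAL (A.inv_mem a.2)) x).mp x.2
        rwa [inv_inv] at this⟩
      left_inv := fun x => Subtype.ext (by
        show (a : G)⁻¹ * ((a : G) * (x : G) * (a : G)⁻¹) * (a : G) = x
        group)
      right_inv := fun x => Subtype.ext (by
        show (a : G) * ((a : G)⁻¹ * (x : G) * (a : G)) * (a : G)⁻¹ = x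
        group)
      map_mul' := fun x y => Subtype.ext (by
        show (a : G) * ((x : G) * (y : G)) * (a : G)⁻¹ =
          ((a : G) * (x : G) * (a : G)⁻¹) * ((a : G) * (y : G) * (a : G)⁻¹)
        group) }
  map_one' := by
    ext x
    show ((1 : ↥A) : G) * (x : G) * ((1 : ↥A) : G)⁻¹ = x
    rw [Subgroup.coe_one]
    group
  map_mul' := fun a b => by
    ext x
    show ((a * b : ↥A) : G) * (x : G) * ((a * b : ↥A) : G)⁻¹ =
      (a : G) * ((b : G) * (x : G) * (b : G)⁻¹) * (a : G)⁻¹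
    rw [Subgroup.coe_mul]
    group

theorem conjAct_apply (L A : Subgroup G) (hAL : A ≤ Subgroup.normalizer (L : Set G)) (a : ↥A)
    (x : ↥L) : ((conjAct L A hAL a x : ↥L) : G) = (a : G) * (x : G) * (a : G)⁻¹ := rfl

theorem dihedral_iso [Finite G] {a y : G} (ha : a * a = 1) (ha1 : a ≠ 1)
    (hinv : a * y * a⁻¹ = y⁻¹) (hy : y * y ≠ 1) :
    Nonempty (↥(Subgroup.zpowers a ⊔ Subgroup.zpowers y) ≃* DihedralGroup (orderOf y)) := by
  have hy1 : y ≠ 1 := by
    rintro rfl
    exact hy (one_mul 1)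
  have hoa : orderOf a = 2 := orderOf_eq_prime (by rw [pow_two]; exact ha) ha1
  have hay2 : (a * y) * (a * y) = 1 := by
    have : a * y * (a * y) = (a * y * a⁻¹) * (a * a) * y := by group
    rw [this, hinv, ha, mul_one, inv_mul_cancel]
  have hay1 : a * y ≠ 1 := by
    intro h
    apply hy
    have h1 : y = a⁻¹ := (eq_inv_of_mul_eq_one_right h)
    rw [h1, ← mul_inv_rev, ha, inv_one]
  have hoay : orderOf (a * y) = 2 := orderOf_eq_prime (by rw [pow_two]; exact hay2) hay1
  have hne : a ≠ a * y := by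
    intro h
    apply hy1
    have : a * 1 = a * y := by rw [mul_one]; exact h
    exact (mul_left_cancel this).symm
  obtain ⟨e⟩ := Cfsg.Agent.S0206.result a (a * y) hoa hoay hne
  have hayy : a * (a * y) = y := by rw [← mul_assoc, ha, one_mul]
  rw [hayy] at e
  have heq : Subgroup.closure ({a, a * y} : Set G) = Subgroup.zpowers a ⊔ Subgroup.zpowers y := by
    apply le_antisymm
    · rw [Subgroup.closure_le]
      intro x hx
      rcases hx with rfl | hx
      · exact Subgroup.mem_sup_left (Subgroup.mem_zpowers _)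
      · rw [Set.mem_singleton_iff] at hx
        subst hx
        exact Subgroup.mul_mem _ (Subgroup.mem_sup_left (Subgroup.mem_zpowers _))
          (Subgroup.mem_sup_right (Subgroup.mem_zpowers _))
    · refine sup_le ?_ ?_
      · rw [Subgroup.zpowers_le]
        exact Subgroup.subset_closure (Set.mem_insert _ _)
      · rw [Subgroup.zpowers_le]
        have hmem : a⁻¹ * (a * y) ∈ Subgroup.closure ({a, a * y} : Set G) :=
          Subgroup.mul_mem _
            (Subgroup.inv_mem _ (Subgroup.subset_closure (Set.mem_insert _ _)))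
            (Subgroup.subset_closure (Set.mem_insert_of_mem _ rfl))
        have hy' : a⁻¹ * (a * y) = y := by group
        rw [hy'] at hmem
        exact hmem
  exact ⟨(MulEquiv.subgroupCongr heq.symm).trans e⟩

theorem comm_sup {a y a' y' : G} (h1 : a * a' = a' * a) (h2 : a * y' = y' * a)
    (h3 : y * a' = a' * y) (h4 : y * y' = y' * y) :
    ∀ x ∈ Subgroup.zpowers a ⊔ Subgroup.zpowers y,
      ∀ z ∈ Subgroup.zpowers a' ⊔ Subgroup.zpowers y', x * z = z * x := by
  have key : ∀ g : G, a * g = g * a → y * g = g * y →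
      ∀ x ∈ Subgroup.zpowers a ⊔ Subgroup.zpowers y, x * g = g * x := by
    intro g hag hyg x hx
    have : Subgroup.zpowers a ⊔ Subgroup.zpowers y ≤ Subgroup.centralizer ({g} : Set G) := by
      refine sup_le ?_ ?_
      · rw [Subgroup.zpowers_le]
        intro h hh
        rw [Set.mem_singleton_iff] at hh
        subst hh
        exact hag.symm
      · rw [Subgroup.zpowers_le]
        intro h hh
        rw [Set.mem_singleton_iff] at hh
        subst hh
        exact hyg.symm
    exact (this hx g rfl).symm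
  intro x hx z hz
  have : Subgroup.zpowers a' ⊔ Subgroup.zpowers y' ≤
      Subgroup.centralizer ((Subgroup.zpowers a ⊔ Subgroup.zpowers y : Subgroup G) : Set G) := by
    refine sup_le ?_ ?_
    · rw [Subgroup.zpowers_le]
      exact fun h hh => key a' h1 h3 h hh
    · rw [Subgroup.zpowers_le]
      exact fun h hh => key y' h2 h4 h hh
  exact this hz x hx

end concrete

/-- Let G be finite, L ≤ G solvable of odd order, and A an elementary abelian 2-subgroup of order 2^d (d ≥ 1) normalizing L with C_A(L) = 1. Then there are subgroups A_1, …, A_d of A of order 2 generating A and subgroups L_1, …, L_d of L such that each A_i ⊔ L_i is dihedral of order 2 n_i with n_i odd and at least 3, and A_i ⊔ L_i commutes elementwise with A_j ⊔ L_j for i ≠ j. -/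
theorem result {G : Type*} [Group G] [Finite G] (L A : Subgroup G) (hLs : Group.IsSolvable ↥L) (hLodd : Odd (Nat.card ↥L)) (hA : Cfsg.IsElementaryAbelian 2 A) (d : ℕ) (hd : 1 ≤ d) (hAd : Nat.card ↥A = 2 ^ d) (hAL : A ≤ Subgroup.normalizer (L : Set G)) (hfaith : A ⊓ Subgroup.centralizer (L : Set G) = ⊥) : ∃ (Ai : Fin d → Subgroup G) (Li : Fin d → Subgroup G) (n : Fin d → ℕ), (∀ i, Ai i ≤ A ∧ Nat.card ↥(Ai i) = 2 ∧ Li i ≤ L ∧ Odd (n i) ∧ 3 ≤ n i ∧ Nonempty (↥(Ai i ⊔ Li i) ≃* DihedralGroup (n i))) ∧ (⨆ i, Ai i) = A ∧ ∀ i j, i ≠ j → ∀ x ∈ Ai i ⊔ Li i, ∀ y ∈ Ai j ⊔ Li j, x * y = y * x := by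
  have hφ : Act (conjAct L A hAL) :=
    ⟨fun a => Subtype.ext (by
        have := hA.2 a.1 a.2
        rw [pow_two] at this
        exact this),
      fun a b => hA.1.is_comm.comm a b⟩
  have hinj : Function.Injective (conjAct L A hAL) := by
    rw [injective_iff_map_eq_one]
    intro a ha
    have : (a : G) ∈ A ⊓ Subgroup.centralizer (L : Set G) := by
      refine ⟨a.2, fun x hx => ?_⟩
      have h1 : ((conjAct L A hAL a ⟨x, hx⟩ : ↥L) : G) = x := by rw [ha]; rfl
      rw [conjAct_apply] at h1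
      calc x * (a : G) = ((a : G) * x * (a : G)⁻¹) * (a : G) := by rw [h1]
        _ = (a : G) * x := by group
    rw [hfaith, Subgroup.mem_bot] at this
    exact Subtype.ext this
  obtain ⟨b, y, h1, h2, h3, h4⟩ := abstract_main hLodd hLs hφ hinj d hAd
  have hinv : ∀ i, (b i : G) * (y i : G) * (b i : G)⁻¹ = (y i : G)⁻¹ := by
    intro i
    have := congrArg (Subtype.val) (h1 i).1
    rw [conjAct_apply] at this
    exact this
  have hy1 : ∀ i, (y i : G) ≠ 1 := fun i h => (h1 i).2 (Subtype.ext h)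
  have hbsq : ∀ i, (b i : G) * (b i : G) = 1 := fun i => congrArg Subtype.val (hφ.sq (b i))
  have hyy : ∀ i, (y i : G) * (y i : G) ≠ 1 := by
    intro i h
    exact (h1 i).2 (odd_sq hLodd (Subtype.ext h))
  have hb1 : ∀ i, (b i : G) ≠ 1 := by
    intro i h
    have := hinv i
    rw [h, one_mul, inv_one, mul_one] at this
    apply hyy i
    nth_rewrite 1 [this]
    exact inv_mul_cancel _
  have hfix : ∀ i j, i ≠ j → (b i : G) * (y j : G) = (y j : G) * (b i : G) := by
    intro i j hij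
    have := congrArg (Subtype.val) (h2 i j hij)
    rw [conjAct_apply] at this
    calc (b i : G) * (y j : G) = ((b i : G) * (y j : G) * (b i : G)⁻¹) * (b i : G) := by group
      _ = (y j : G) * (b i : G) := by rw [this]
  refine ⟨fun i => Subgroup.zpowers (b i : G), fun i => Subgroup.zpowers (y i : G),
    fun i => orderOf (y i : G), fun i => ⟨?_, ?_, ?_, ?_, ?_, ?_⟩, ?_, ?_⟩
  · exact Subgroup.zpowers_le.mpr (b i).2
  · rw [Nat.card_zpowers]
    exact orderOf_eq_prime (by rw [pow_two]; exact hbsq i) (hb1 i)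
  · exact Subgroup.zpowers_le.mpr (y i).2
  · have : orderOf (y i : G) ∣ Nat.card ↥L := by
      rw [Subgroup.orderOf_coe]
      exact orderOf_dvd_natCard _
    exact Odd.of_dvd_nat hLodd this
  · have hodd : Odd (orderOf (y i : G)) := by
      have : orderOf (y i : G) ∣ Nat.card ↥L := by
        rw [Subgroup.orderOf_coe]
        exact orderOf_dvd_natCard _
      exact Odd.of_dvd_nat hLodd this
    have hne1 : orderOf (y i : G) ≠ 1 := fun h => hy1 i (orderOf_eq_one_iff.mp h)
    obtain ⟨m, hm⟩ := hodd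
    show 3 ≤ orderOf (y i : G)
    omega
  · exact dihedral_iso (hbsq i) (hb1 i) (hinv i) (hyy i)
  · apply le_antisymm
    · exact iSup_le fun i => Subgroup.zpowers_le.mpr (b i).2
    · intro g hg
      have hle : Subgroup.closure (Set.range b) ≤
          (⨆ i, Subgroup.zpowers (b i : G)).comap A.subtype := by
        rw [Subgroup.closure_le]
        rintro _ ⟨i, rfl⟩
        exact Subgroup.mem_iSup_of_mem i (Subgroup.mem_zpowers _)
      have : (⟨g, hg⟩ : ↥A) ∈ Subgroup.closure (Set.range b) := by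
        rw [h4]; exact Subgroup.mem_top _
      exact hle this
  · intro i j hij
    exact comm_sup (congrArg Subtype.val (hφ.comm (b i) (b j))) (hfix i j hij)
      (hfix j i (Ne.symm hij)).symm (congrArg Subtype.val (h3 i j))

end Cfsg.Agent.S1349
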