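import Cfsg.Statements.S1359
import Cfsg.Agent.S1414
import Cfsg.Agent.S1416
import Cfsg.Agent.S1417
import Cfsg.Agent.Lib.Helper15.BG14e

set_option autoImplicit false
open Cfsg

namespace Cfsg.Agent.S1359

/-- Let G be a minimal simple group of odd order and M a maximal subgroup with standard factorisation M = K U M_σ. Then the subgroup generated by those elements of U which centralize some non-identity element of M_σ is abelian. -/
theorem result {G : Type*} [Group G] [Finite G] (hG : Cfsg.IsMinSimpleOddOrder G)
    (M : Subgroup G) (hM : IsCoatom M) (K U : Subgroup G) (hKU : Cfsg.IsSigmaDecomposition M K U) :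
    IsMulCommutative (Subgroup.closure ((U : Set G) ∩ Cfsg.sigmaHat M)) := by
  have h14 : Cfsg.Agent.Lib.Helper3.BG12.H14 G := fun M hM => Cfsg.Agent.S1414.result hG M hM
  have h16 : Cfsg.Agent.Lib.Helper3.BG12.H16 G :=
    fun M hM p _ A hA => Cfsg.Agent.S1416.result hG M hM p A hA
  have h17 : Cfsg.Agent.Lib.Helper3.BG12.H17 G :=
    fun M hM p _ hp A hA => Cfsg.Agent.S1417.result hG M hM p hp A hA
  exact Cfsg.Agent.Lib.Helper15.BG14.h59_of hG h14 h16 h17
    (Cfsg.Agent.Lib.Helper3.BG12.h18_of hG h16 h17) M hM K U hKU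

end Cfsg.Agent.S1359
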