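import Cfsg.Statements.S1421
import Cfsg.Agent.Lib.Helper92.FT12Defs
import Cfsg.Agent.Lib.Helper15.FT12A
import Cfsg.Agent.Lib.Helper15.FT12Nonab
import Cfsg.Agent.Lib.Helper16.FT12Lin3
import Cfsg.Agent.Lib.Helper77.FT12LinOdd
import Cfsg.Agent.Lib.Helper8.FT12LinA
import Cfsg.Agent.Lib.Helper4.FT12NBar
import Cfsg.Agent.Lib.Helper58.FT12GL
import Cfsg.Agent.Lib.Helper58.FT12GoodLine
import Cfsg.Agent.Lib.Helper17.FT12Cyc
import Cfsg.Agent.Lib.Helper8.FT12EpPure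
import Cfsg.Agent.Lib.Helper46.FT12Inter
import Cfsg.Agent.Lib.Helper56.FT12EpA
import Cfsg.Agent.Lib.Helper34.FT12EpN
import Cfsg.Agent.Lib.Helper84.FT12PartB
import Cfsg.Agent.Lib.Helper92.FT12Tau
import Cfsg.Agent.Lib.Helper12.FT12Norm
import Cfsg.Agent.Lib.Helper3.FT12Key2
import Cfsg.Agent.Lib.Helper87.FT12Key

set_option autoImplicit false
open Cfsg

namespace Cfsg.Agent.S1421

open Cfsg.Agent.Lib.Helper92.FT

/-- B&G Theorem 12.12, assembled from the pieces `FT12*` (skeleton: `Lib/Helper92/FT12Defs.lean`). -/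
theorem s1421_fin.{u} : FinStmt.{u} := by
  have hTau : TauStmt.{u} := Cfsg.Agent.Lib.Helper92.FT12.tau
  have hNSyl : NSylStmt.{u} := Cfsg.Agent.Lib.Helper15.FT12.nsyl
  have hNonab : NonabStmt.{u} := Cfsg.Agent.Lib.Helper15.FT12.nonab
  have hLin3 : Lin3Stmt.{u} := Cfsg.Agent.Lib.Helper16.FT12.lin3
  have hOdd : LinOddStmt.{u} := Cfsg.Agent.Lib.Helper77.FT12.linOdd_of hLin3
  have hLinA : LinAStmt.{u} := Cfsg.Agent.Lib.Helper8.FT12.linA_of hLin3 hOdd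
  have hNBar : NBarStmt.{u} := Cfsg.Agent.Lib.Helper4.FT12.nbar
  have hNorm : NormStmt.{u} := Cfsg.Agent.Lib.Helper12.FT12.norm
  have hKey2 : Key2Stmt.{u} := Cfsg.Agent.Lib.Helper3.FT12.key2
  have hKey : KeyStmt.{u} := Cfsg.Agent.Lib.Helper87.FT12.key_of hTau hNorm hLinA hNBar hNSyl hKey2
  have hGL : GLStmt.{u} := Cfsg.Agent.Lib.Helper58.FT12.gl_of hNBar hOdd hKey
  have hGood : GoodLineStmt.{u} := Cfsg.Agent.Lib.Helper58.FT12.goodLine_of hNSyl hGL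
  have hCyc : CycStmt.{u} := Cfsg.Agent.Lib.Helper17.FT12.cyc
  have hEpP : EpPureStmt.{u} := Cfsg.Agent.Lib.Helper8.FT12.epPure_of hCyc
  have hEpA : EpAStmt.{u} := Cfsg.Agent.Lib.Helper56.FT12.epA_of hNSyl hGood hEpP
  have hEpN : EpNStmt.{u} := Cfsg.Agent.Lib.Helper34.FT12.epN_of hNonab
  have hInter : InterStmt.{u} := Cfsg.Agent.Lib.Helper46.FT12.inter
  have hB : PartBStmt.{u} := Cfsg.Agent.Lib.Helper84.FT12.partB_of hTau hEpA hEpN hInter
  have hA : PartAStmt.{u} := Cfsg.Agent.Lib.Helper15.FT12.partA_of hTau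
  exact fin hA hB

/-- Let G be a minimal simple group of odd order, M a maximal subgroup and E a complement to M_σ in M. Suppose that every non-identity element e of E all of whose order's prime divisors lie in τ₁(M) ∪ τ₃(M) has M_σ ∩ C_G(e) = 1. Then E has an abelian normal subgroup A₀ with E ∩ C_G(x) ≤ A₀ for every non-identity x ∈ M_σ, and E has a subgroup E₀ of the same exponent as E such that no non-identity element of E₀ centralizes a non-identity element of M_σ. -/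
theorem result {G : Type*} [Group G] [Finite G] (hG : Cfsg.IsMinSimpleOddOrder G)
    (M : Subgroup G) (hM : IsCoatom M) (E : Subgroup G) (hE : Cfsg.IsComplIn E (Cfsg.sigmaCore M) M)
    (h : ∀ e ∈ E, e ≠ 1 → (∀ p : ℕ, p.Prime → p ∣ orderOf e → p ∈ Cfsg.tau1 M ∪ Cfsg.tau3 M) →
      Cfsg.sigmaCore M ⊓ Subgroup.centralizer ({e} : Set G) = ⊥) :
    (∃ A₀ : Subgroup G, A₀ ≤ E ∧ E ≤ Subgroup.normalizer (A₀ : Set G) ∧ IsMulCommutative A₀ ∧
        ∀ x ∈ Cfsg.sigmaCore M, x ≠ 1 → E ⊓ Subgroup.centralizer ({x} : Set G) ≤ A₀) ∧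
      ∃ E₀ : Subgroup G, E₀ ≤ E ∧ Monoid.exponent E₀ = Monoid.exponent E ∧
        ∀ e ∈ E₀, e ≠ 1 → Cfsg.sigmaCore M ⊓ Subgroup.centralizer ({e} : Set G) = ⊥ := by
  exact s1421_fin G hG M hM E hE h

end Cfsg.Agent.S1421
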