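import Cfsg.Statements.S1428
import Cfsg.Agent.Lib.Helper11.BG13CG1C
import Cfsg.Agent.Lib.Helper13.BG13CRED
import Cfsg.Agent.Lib.Helper14.BG13CBETAD
import Cfsg.Agent.Lib.Helper15.BG13CAsm
import Cfsg.Agent.Lib.Helper15.BG13CCS15
import Cfsg.Agent.Lib.Helper15.BG13CNC15
import Cfsg.Agent.Lib.Helper17.BG13CGAM
import Cfsg.Agent.Lib.Helper28.BG13CNT2
import Cfsg.Agent.Lib.Helper3.BG13CRED1
import Cfsg.Agent.Lib.Helper35.BG13CFQ
import Cfsg.Agent.Lib.Helper4.BG13CPICK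
import Cfsg.Agent.Lib.Helper42.BG13CBURN
import Cfsg.Agent.Lib.Helper47.BG13CNCPB
import Cfsg.Agent.Lib.Helper56.BG13CBETAA
import Cfsg.Agent.Lib.Helper60.BG13CC0CYC
import Cfsg.Agent.Lib.Helper63.BG13CG1A
import Cfsg.Agent.Lib.Helper66.BG13CCA
import Cfsg.Agent.Lib.Helper67.BG13CCOMMFREE
import Cfsg.Agent.Lib.Helper68.BG13CKB
import Cfsg.Agent.Lib.Helper69.BG13CG1B
import Cfsg.Agent.Lib.Helper76.BG13CFRAT3
import Cfsg.Agent.Lib.Helper87.BG13CF0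
import Cfsg.Agent.Lib.Helper88.BG13CK
import Cfsg.Agent.Lib.Helper94.BG13CCYCFREE

set_option autoImplicit false
open Cfsg

namespace Cfsg.Agent.S1428

/-- Let G be a minimal simple group of odd order, M a maximal subgroup, E a complement to M_σ in M, p ∈ τ₁(M), P ≤ E a subgroup of order p, and R a subgroup of prime order of E ∩ C_G(P). Then M_σ ∩ C_G(P) ≤ M_σ ∩ C_G(R). -/
theorem result {G : Type*} [Group G] [Finite G] (hG : Cfsg.IsMinSimpleOddOrder G)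
    (M : Subgroup G) (hM : IsCoatom M) (E : Subgroup G) (hE : Cfsg.IsComplIn E (Cfsg.sigmaCore M) M) (p : ℕ) (hp : p ∈ Cfsg.tau1 M) (P : Subgroup G) (hPE : P ≤ E) (hP : Nat.card P = p)
    (R : Subgroup G) (hRE : R ≤ E ⊓ Subgroup.centralizer (P : Set G)) (hR : (Nat.card R).Prime) :
    Cfsg.sigmaCore M ⊓ Subgroup.centralizer (P : Set G) ≤ Cfsg.sigmaCore M ⊓ Subgroup.centralizer (R : Set G) := by
  have hFQ : Cfsg.Agent.Lib.Helper15.BG13C.FQStmt G := Cfsg.Agent.Lib.Helper15.BG13C.fq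
  have hK : Cfsg.Agent.Lib.Helper15.BG13C.KStmt G := Cfsg.Agent.Lib.Helper15.BG13C.kk hFQ
  have hF0 : Cfsg.Agent.Lib.Helper15.BG13C.F0Stmt G := Cfsg.Agent.Lib.Helper15.BG13C.f0
  have hFr : Cfsg.Agent.Lib.Helper15.BG13C.Frat3Stmt G := Cfsg.Agent.Lib.Helper15.BG13C.frat3
  have hCF : Cfsg.Agent.Lib.Helper15.BG13C.CycFreeStmt G := Cfsg.Agent.Lib.Helper15.BG13C.cycfree
  have hcrux : Cfsg.Agent.Lib.Helper15.BG13C.CruxStmt G :=
    Cfsg.Agent.Lib.Helper15.BG13C.crux Cfsg.Agent.Lib.Helper15.BG13C.pick hCF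
      Cfsg.Agent.Lib.Helper15.BG13C.commfree Cfsg.Agent.Lib.Helper15.BG13C.c0cyc
      Cfsg.Agent.Lib.Helper15.BG13C.burn Cfsg.Agent.Lib.Helper15.BG13C.ncpb
      Cfsg.Agent.Lib.Helper15.BG13C.cs15 Cfsg.Agent.Lib.Helper15.BG13C.ca
      (Cfsg.Agent.Lib.Helper15.BG13C.kb hK) (Cfsg.Agent.Lib.Helper15.BG13C.betaA hF0)
      (Cfsg.Agent.Lib.Helper15.BG13C.betaD hF0 hFr) Cfsg.Agent.Lib.Helper15.BG13C.nt2
      Cfsg.Agent.Lib.Helper15.BG13C.g1a Cfsg.Agent.Lib.Helper15.BG13C.g1b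
      (Cfsg.Agent.Lib.Helper15.BG13C.g1c hCF) Cfsg.Agent.Lib.Helper15.BG13C.gam
  exact Cfsg.Agent.Lib.Helper15.BG13C.red (Cfsg.Agent.Lib.Helper15.BG13C.red1 hcrux)
    hG M hM E hE p hp P hPE hP R hRE hR

end Cfsg.Agent.S1428
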