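import Cfsg.Statements.S1478
import Mathlib
import Cfsg.Agent.Lib.Helper34.MS6

set_option autoImplicit false
open Cfsg

namespace Cfsg.Agent.S1478

/-- Let G be a minimal simple group of odd order in which every non-identity element has nilpotent centralizer. Then no subgroup of G is a three-step group with respect to any prime. -/
theorem result {G : Type*} [Group G] [Finite G] (hG : Cfsg.IsMinSimpleOddOrder G) (hCN : Cfsg.IsCNGroup G) :
    ∀ (H : Subgroup G) (p : ℕ), ¬ Cfsg.IsThreeStepGroup p ↥H := by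
  intro N p h3
  obtain ⟨hK1, A, hA1, -, -, hAcop, hKAn, hKAtop, -, hfpf, hfrob⟩ := h3
  haveI hKn : (pCore p ↥N).Normal := Cfsg.Agent.Lib.Helper30.pCore_normal p ↥N
  have hKp : IsPGroup p (pCore p ↥N) := Cfsg.Agent.Lib.Helper30.pCore_isPGroup p
  by_cases hN : N = ⊤
  · subst hN
    haveI := hG.2.1
    haveI : Nontrivial ↥(⊤ : Subgroup G) := (Subgroup.nontrivial_iff_ne_bot _).mpr top_ne_bot
    haveI : IsSimpleGroup ↥(⊤ : Subgroup G) :=
      IsSimpleGroup.isSimpleGroup_of_surjective (Subgroup.topEquiv.symm.toMonoidHom)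
        (MulEquiv.surjective _)
    rcases hKAn.eq_bot_or_eq_top with h | h
    · apply hK1
      rw [eq_bot_iff, ← h]
      exact le_sup_left
    · exact hKAtop h
  · obtain ⟨M, hM, hNM⟩ := (eq_top_or_exists_le_coatom N).resolve_left hN
    have hHnil := Cfsg.Agent.Lib.Helper34.ms_fho_nilpotent hG hCN hM
    obtain ⟨a, haA, ha1⟩ := A.bot_or_exists_ne_one.resolve_left hA1
    -- every element of `O_p(N)` is a commutator with `a`
    have hc1 : ∀ k ∈ pCore p ↥N, ((k : ↥N) : G) ∈ fittingHallOf M := by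
      let f : ↥(pCore p ↥N) → ↥(pCore p ↥N) := fun k =>
        ⟨(k : ↥N) * a * (k : ↥N)⁻¹ * a⁻¹, by
          have h1 : a * (k : ↥N)⁻¹ * a⁻¹ ∈ pCore p ↥N := hKn.conj_mem _ (inv_mem k.2) a
          have e : (k : ↥N) * a * (k : ↥N)⁻¹ * a⁻¹ = (k : ↥N) * (a * (k : ↥N)⁻¹ * a⁻¹) := by
            group
          rw [e]
          exact mul_mem k.2 h1⟩
      have hinj : Function.Injective f := by
        intro k k' hkk
        have h1 : (k : ↥N) * a * (k : ↥N)⁻¹ * a⁻¹ = (k' : ↥N) * a * (k' : ↥N)⁻¹ * a⁻¹ :=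
          congrArg Subtype.val hkk
        have h2 : (k' : ↥N)⁻¹ * (k : ↥N) ∈
            pCore p ↥N ⊓ Subgroup.centralizer ({a} : Set ↥N) := by
          refine ⟨(pCore p ↥N).mul_mem ((pCore p ↥N).inv_mem k'.2) k.2, ?_⟩
          apply Cfsg.Agent.Lib.Helper34.mem_centralizer_singleton.mpr
          have h3 : (k : ↥N) * a * (k : ↥N)⁻¹ = (k' : ↥N) * a * (k' : ↥N)⁻¹ := by
            have h4 := congrArg (· * a) h1
            simpa using h4
          calc a * ((k' : ↥N)⁻¹ * (k : ↥N))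
              = (k' : ↥N)⁻¹ * ((k' : ↥N) * a * (k' : ↥N)⁻¹) * (k : ↥N) := by group
            _ = (k' : ↥N)⁻¹ * ((k : ↥N) * a * (k : ↥N)⁻¹) * (k : ↥N) := by rw [h3]
            _ = (k' : ↥N)⁻¹ * (k : ↥N) * a := by group
        rw [hfpf a haA ha1, Subgroup.mem_bot] at h2
        apply Subtype.ext
        have e : (k : ↥N) = (k' : ↥N) * ((k' : ↥N)⁻¹ * (k : ↥N)) := by group
        rw [e, h2, mul_one]
      have hsurj := Finite.surjective_of_injective hinj
      intro k hk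
      obtain ⟨k₀, hk₀⟩ := hsurj ⟨k, hk⟩
      have h1 : (k₀ : ↥N) * a * (k₀ : ↥N)⁻¹ * a⁻¹ = k := congrArg Subtype.val hk₀
      rw [← h1]
      exact Cfsg.Agent.Lib.Helper34.ms_comm_mem_fho hG hCN hM (hNM (k₀ : ↥N).2) (hNM a.2)
    -- an element of `A` in the kernel of `M`
    obtain ⟨x, hx⟩ : ∃ x : ↥N, x ∉ pCore p ↥N ⊔ A := by
      by_contra hcon
      push Not at hcon
      exact hKAtop (eq_top_iff.mpr (fun x _ => hcon x))
    have hcK := hfrob x hx a haA ha1
    have hcKA : x * a * x⁻¹ * a⁻¹ ∈ pCore p ↥N ⊔ A := by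
      have haKA : a ∈ pCore p ↥N ⊔ A := (le_sup_right : A ≤ _) haA
      exact mul_mem (hKAn.conj_mem a haKA x) (inv_mem haKA)
    have hcH : ((x * a * x⁻¹ * a⁻¹ : ↥N) : G) ∈ fittingHallOf M :=
      Cfsg.Agent.Lib.Helper34.ms_comm_mem_fho hG hCN hM (hNM x.2) (hNM a.2)
    obtain ⟨k, hk, a'', ha'', hka⟩ :=
      Cfsg.Agent.Lib.Helper34.exists_mul_of_mem_sup_normal hcKA
    have ha''1 : a'' ≠ 1 := by
      intro h
      apply hcK
      rw [← hka, h, mul_one]
      exact hk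
    have ha''H : ((a'' : ↥N) : G) ∈ fittingHallOf M := by
      have e : a'' = k⁻¹ * (x * a * x⁻¹ * a⁻¹) := by rw [← hka]; group
      rw [e]
      exact mul_mem (inv_mem (hc1 k hk)) hcH
    -- the contradiction
    obtain ⟨n, hnK, hn1⟩ := (pCore p ↥N).bot_or_exists_ne_one.resolve_left hK1
    obtain ⟨j, hj⟩ := hKp ⟨n, hnK⟩
    have hj' : (n : G) ^ (p ^ j) = 1 := by
      have h1 := congrArg (fun z : ↥(pCore p ↥N) => ((z : ↥N) : G)) hj
      simpa using h1
    have ha''pow : ((a'' : ↥N) : G) ^ Nat.card A = 1 := by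
      have h1 := Cfsg.Agent.Lib.Helper34.pow_card_subgroup_eq_one A a'' ha''
      have h2 := congrArg (fun z : ↥N => (z : G)) h1
      simpa using h2
    have hcomm := Cfsg.Agent.Lib.Helper34.commute_of_nilpotent_of_pow hHnil (hc1 n hnK) ha''H
      (p ^ j) (Nat.card A) (Nat.Coprime.pow_left j hAcop.symm) hj' ha''pow
    have hmem : n ∈ pCore p ↥N ⊓ Subgroup.centralizer ({a''} : Set ↥N) := by
      refine ⟨hnK, ?_⟩
      apply Cfsg.Agent.Lib.Helper34.mem_centralizer_singleton.mpr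
      apply Subtype.ext
      exact hcomm.symm
    rw [hfpf a'' ha'' ha''1, Subgroup.mem_bot] at hmem
    exact hn1 hmem

end Cfsg.Agent.S1478
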