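import Cfsg.Statements.S1589
import Cfsg.Agent.Lib.Helper94.M24IdxD

set_option autoImplicit false
open scoped Pointwise
open Cfsg

namespace Cfsg.Agent.S1589

/-- Subgroups of the group of the length-24 code of index 759, 276 and 1771 are exactly the octad, duad and sextet stabilisers, and no subgroup has index 253. -/
theorem result : (∀ H : Subgroup ↥Cfsg.M24, H.index = 759 → ∃ o ∈ Cfsg.octads, H = MulAction.stabilizer Cfsg.M24 o) ∧ (∀ H : Subgroup ↥Cfsg.M24, H.index = 276 → ∃ s : Finset Cfsg.GolayPt, s.card = 2 ∧ H = MulAction.stabilizer Cfsg.M24 s) ∧ (∀ H : Subgroup ↥Cfsg.M24, H.index = 1771 → ∃ S ∈ Cfsg.sextets, H = MulAction.stabilizer Cfsg.M24 S) ∧ ∀ H : Subgroup ↥Cfsg.M24, H.index ≠ 253 := by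
  refine ⟨fun H hH => ?_, fun H hH => ?_, fun H hH => ?_,
    fun H => Cfsg.Agent.Lib.Helper94.idx253 H⟩
  · obtain ⟨g, hg, h⟩ := Cfsg.Agent.Lib.Helper94.idx759 H hH
    refine ⟨g • Cfsg.Agent.Lib.Helper36.ms 8536111,
      Cfsg.Agent.Lib.Helper9.smul_octad_mem hg (Cfsg.Agent.Lib.Helper36.ms_mem_octads
        Cfsg.Agent.Lib.Helper94.inCode_O0 Cfsg.Agent.Lib.Helper94.popc_O0), ?_⟩
    ext x
    rw [MulAction.mem_stabilizer_iff]
    exact h x
  · obtain ⟨s, hs, h⟩ := Cfsg.Agent.Lib.Helper94.idx276 H hH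
    refine ⟨s, hs, ?_⟩
    ext x
    rw [MulAction.mem_stabilizer_iff]
    exact h x
  · obtain ⟨g, hg, h⟩ := Cfsg.Agent.Lib.Helper94.idx1771 H hH
    refine ⟨g • Cfsg.Agent.Lib.Helper94.sxS,
      Cfsg.Agent.Lib.Helper95.smul_sextet_mem hg Cfsg.Agent.Lib.Helper94.sxS_mem, ?_⟩
    ext x
    rw [MulAction.mem_stabilizer_iff]
    exact h x

end Cfsg.Agent.S1589
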