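import Cfsg.Statements.S1609
import Cfsg.Agent.Lib.Helper94.M23IdxB

set_option autoImplicit false
open scoped Pointwise
open Cfsg

namespace Cfsg.Agent.S1609

/-- Subgroups of index 253 in the Mathieu group of degree 23 are exactly the duad stabilisers and the heptad stabilisers. -/
theorem result (x : Cfsg.GolayPt) (H : Subgroup ↥(MulAction.stabilizer Cfsg.M24 x)) (hH : H.index = 253) : (∃ s : Finset Cfsg.GolayPt, s.card = 2 ∧ x ∉ s ∧ H = (MulAction.stabilizer Cfsg.M24 s).subgroupOf (MulAction.stabilizer Cfsg.M24 x)) ∨ ∃ o ∈ Cfsg.octads, x ∈ o ∧ H = (MulAction.stabilizer Cfsg.M24 o).subgroupOf (MulAction.stabilizer Cfsg.M24 x) := by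
  classical
  set K : Subgroup (Equiv.Perm Cfsg.GolayPt) :=
    (H.map (Subgroup.subtype _)).map (Subgroup.subtype Cfsg.M24) with hKdef
  have hmemK : ∀ σ : Equiv.Perm Cfsg.GolayPt, σ ∈ K ↔ ∃ h ∈ H, h.1.1 = σ := by
    intro σ
    rw [hKdef, Subgroup.mem_map]
    constructor
    · rintro ⟨m, hm, rfl⟩
      obtain ⟨h, hh, rfl⟩ := Subgroup.mem_map.1 hm
      exact ⟨h, hh, rfl⟩
    · rintro ⟨h, hh, rfl⟩
      exact ⟨h.1, Subgroup.mem_map.2 ⟨h, hh, rfl⟩, rfl⟩
  have hKM : K ≤ Cfsg.M24 := by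
    intro σ hσ
    obtain ⟨h, -, rfl⟩ := (hmemK σ).1 hσ
    exact h.1.2
  have hKx : ∀ k ∈ K, k x = x := by
    intro σ hσ
    obtain ⟨h, -, rfl⟩ := (hmemK σ).1 hσ
    exact h.2
  have hcard : Nat.card ↥K = 40320 := by
    rw [hKdef, Subgroup.card_map_of_injective (Subgroup.subtype_injective _),
      Subgroup.card_map_of_injective (Subgroup.subtype_injective _)]
    have h1 := Subgroup.card_mul_index H
    rw [hH, Cfsg.Agent.Lib.Helper9.card_stabilizer_M24 x] at h1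
    omega
  have key : ∀ s : Finset Cfsg.GolayPt,
      (∀ σ, σ ∈ K ↔ σ ∈ Cfsg.M24 ∧ σ x = x ∧ σ • s = s) →
      H = (MulAction.stabilizer Cfsg.M24 s).subgroupOf (MulAction.stabilizer Cfsg.M24 x) := by
    intro s hs
    ext h
    rw [Subgroup.mem_subgroupOf, MulAction.mem_stabilizer_iff]
    constructor
    · intro hh
      exact ((hs h.1.1).1 ((hmemK _).2 ⟨h, hh, rfl⟩)).2.2
    · intro hh
      have h1 : h.1.1 ∈ K := (hs h.1.1).2 ⟨h.1.2, h.2, hh⟩
      obtain ⟨h', hh', he⟩ := (hmemK _).1 h1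
      have h2 : h' = h := Subtype.ext (Subtype.ext he)
      rwa [h2] at hh'
  rcases Cfsg.Agent.Lib.Helper94.idx253_main hKM hKx hcard with ⟨s, hs2, hxs, hs⟩ | ⟨o, ho, hxo, hs⟩
  · exact Or.inl ⟨s, hs2, hxs, key s hs⟩
  · exact Or.inr ⟨o, ho, hxo, key o hs⟩

end Cfsg.Agent.S1609
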