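import Cfsg.Statements.S1611
import Cfsg.Agent.Lib.Helper96.F4

set_option autoImplicit false
set_option linter.unusedSectionVars false
open Cfsg

namespace Cfsg.Agent.S1611

open Cfsg.Agent.Lib.Helper96

/-- the three coded generators -/
def hexG (k : Fin 3) (i : Fin 6) : Fin 4 :=
  match k with
  | 0 => hexG1 i
  | 1 => hexG2 i
  | 2 => hexG3 i

/-- decoding of the coefficients from the first three coordinates -/
def decA (w : Fin 6 → Fin 4) : Fin 4 := add4 (mul4 2 (w 0)) (mul4 3 (w 1))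
def decB (w : Fin 6 → Fin 4) : Fin 4 := add4 (add4 (mul4 3 (w 0)) (mul4 3 (w 1))) (w 2)
def decC (w : Fin 6 → Fin 4) : Fin 4 := add4 (w 1) (w 2)

/-- coded membership in the hexacode -/
def isHex (w : Fin 6 → Fin 4) : Prop := ∀ i, w i = hexW (decA w) (decB w) (decC w) i

instance instDecIsHex (w : Fin 6 → Fin 4) : Decidable (isHex w) :=
  inferInstanceAs (Decidable (∀ i, w i = hexW (decA w) (decB w) (decC w) i))

theorem dec_hexW : ∀ a b c : Fin 4,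
    decA (hexW a b c) = a ∧ decB (hexW a b c) = b ∧ decC (hexW a b c) = c := by
  decide +kernel

theorem isHex_iff (w : Fin 6 → Fin 4) : isHex w ↔ ∃ a b c, w = hexW a b c := by
  constructor
  · intro h
    exact ⟨_, _, _, funext h⟩
  · rintro ⟨a, b, c, rfl⟩
    obtain ⟨h1, h2, h3⟩ := dec_hexW a b c
    intro i
    rw [h1, h2, h3]

/-- coded validity of a monomial map (`s` is the inverse permutation, `d` the scalars) -/
def cval (s : Fin 6 → Fin 6) (d : Fin 6 → Fin 4) : Prop :=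
  ∀ k : Fin 3, isHex (fun i => mul4 (d i) (hexG k (s i)))

instance instDecCval (s : Fin 6 → Fin 6) (d : Fin 6 → Fin 4) : Decidable (cval s d) :=
  inferInstanceAs (Decidable (∀ k : Fin 3, isHex (fun i => mul4 (d i) (hexG k (s i)))))

theorem c1 : ∀ d0 d1 d2 d3 d4 d5 : Fin 4, d0 ≠ 0 → d1 ≠ 0 → d2 ≠ 0 → d3 ≠ 0 → d4 ≠ 0 → d5 ≠ 0 →
    cval (fun i => i) ![d0, d1, d2, d3, d4, d5] →
    d1 = d0 ∧ d2 = d0 ∧ d3 = d0 ∧ d4 = d0 ∧ d5 = d0 := by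
  decide +kernel

theorem c3 : ∀ d0 d1 d2 d3 d4 d5 : Fin 4, d0 ≠ 0 → d1 ≠ 0 → d2 ≠ 0 → d3 ≠ 0 → d4 ≠ 0 → d5 ≠ 0 →
    ¬ cval (fun i => (Equiv.swap (0 : Fin 6) 1).symm i) ![d0, d1, d2, d3, d4, d5] := by
  decide +kernel

/-- scalars for the three-cycles `swap a b * swap b c` -/
def certTab : Fin 6 → Fin 6 → Fin 6 → Fin 6 → Fin 4 :=
  ![![![![1, 1, 1, 1, 1, 1], ![1, 1, 1, 1, 1, 1], ![1, 1, 1, 1, 1, 1], ![1, 1, 1, 1, 1, 1], ![1, 1, 1, 1, 1, 1], ![1, 1, 1, 1, 1, 1]], ![![1, 1, 1, 1, 1, 1], ![1, 1, 1, 1, 1, 1], ![1, 1, 1, 1, 3, 2], ![1, 1, 1, 1, 2, 3], ![1, 1, 3, 2, 1, 1], ![1, 1, 2, 3, 1, 1]], ![![1, 1, 1, 1, 1, 1], ![1, 1, 1, 1, 2, 3], ![1, 1, 1, 1, 1, 1], ![1, 1, 1, 1, 3, 2], ![1, 3, 2, 1, 3, 2], ![1, 2, 3, 1, 3, 2]], ![![1, 1, 1, 1, 1, 1], ![1, 1, 1, 1, 3, 2], ![1, 1, 1, 1, 2, 3], ![1, 1, 1, 1, 1, 1], ![1, 2, 1, 3, 2, 3], ![1, 3, 1, 2, 2, 3]],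 ![![1, 1, 1, 1, 1, 1], ![1, 1, 2, 3, 1, 1], ![1, 3, 3, 2, 2, 1], ![1, 2, 3, 2, 3, 1], ![1, 1, 1, 1, 1, 1], ![1, 1, 3, 2, 1, 1]], ![![1, 1, 1, 1, 1, 1], ![1, 1, 3, 2, 1, 1], ![1, 2, 2, 3, 1, 3], ![1, 3, 2, 3, 1, 2], ![1, 1, 2, 3, 1, 1], ![1, 1, 1, 1, 1, 1]]],
  ![![![1, 1, 1, 1, 1, 1], ![1, 1, 1, 1, 1, 1], ![1, 1, 1, 1, 2, 3], ![1, 1, 1, 1, 3, 2], ![1, 1, 2, 3, 1, 1], ![1, 1, 3, 2, 1, 1]], ![![1, 1, 1, 1, 1, 1], ![1, 1, 1, 1, 1, 1], ![1, 1, 1, 1, 1, 1], ![1, 1, 1, 1, 1, 1], ![1, 1, 1, 1, 1, 1], ![1, 1, 1, 1, 1, 1]], ![![1, 1, 1, 1, 3, 2], ![1, 1, 1, 1, 1, 1], ![1, 1, 1, 1, 1, 1], ![1, 1, 1, 1, 2, 3], ![1, 3, 2, 3, 1, 2], ![1, 2, 3, 2, 3, 1]], ![![1, 1, 1, 1, 2, 3], ![1, 1, 1, 1, 1, 1], ![1, 1, 1, 1, 3, 2], ![1, 1, 1, 1, 1, 1], ![1, 2, 2, 3, 1, 3], ![1, 3, 3, 2, 2, 1]], ![![1, 1, 3, 2, 1, 1], ![1, 1, 1, 1, 1, 1], ![1, 3, 1, 2, 2, 3], ![1, 2,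 3, 1, 3, 2], ![1, 1, 1, 1, 1, 1], ![1, 1, 2, 3, 1, 1]], ![![1, 1, 2, 3, 1, 1], ![1, 1, 1, 1, 1, 1], ![1, 2, 1, 3, 2, 3], ![1, 3, 2, 1, 3, 2], ![1, 1, 3, 2, 1, 1], ![1, 1, 1, 1, 1, 1]]],
  ![![![1, 1, 1, 1, 1, 1], ![1, 1, 1, 1, 3, 2], ![1, 1, 1, 1, 1, 1], ![1, 1, 1, 1, 2, 3], ![1, 3, 3, 2, 2, 1], ![1, 2, 2, 3, 1, 3]], ![![1, 1, 1, 1, 2, 3], ![1, 1, 1, 1, 1, 1], ![1, 1, 1, 1, 1, 1], ![1, 1, 1, 1, 3, 2], ![1, 3, 1, 2, 2, 3], ![1, 2, 1, 3, 2, 3]], ![![1, 1, 1, 1, 1, 1], ![1, 1, 1, 1, 1, 1], ![1, 1, 1, 1, 1, 1], ![1, 1, 1, 1, 1, 1], ![1, 1, 1, 1, 1, 1], ![1, 1, 1, 1, 1, 1]], ![![1, 1, 1, 1, 3, 2], ![1, 1, 1, 1, 2, 3], ![1, 1, 1, 1, 1, 1], ![1, 1, 1, 1, 1, 1], ![1, 3, 2, 2, 2, 2], ![1, 2, 3, 3, 3, 3]], ![![1, 3, 2, 1, 3, 2], ![1, 3, 2, 3, 1, 2], ![1, 1, 1, 1, 1, 1], ![1, 2, 3, 3, 3, 3], ![1, 1, 1, 1, 1, 1], ![1, 3, 2, 2, 2, 2]], ![![1, 2, 3, 1, 3,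 2], ![1, 2, 3, 2, 3, 1], ![1, 1, 1, 1, 1, 1], ![1, 3, 2, 2, 2, 2], ![1, 2, 3, 3, 3, 3], ![1, 1, 1, 1, 1, 1]]],
  ![![![1, 1, 1, 1, 1, 1], ![1, 1, 1, 1, 2, 3], ![1, 1, 1, 1, 3, 2], ![1, 1, 1, 1, 1, 1], ![1, 2, 3, 2, 3, 1], ![1, 3, 2, 3, 1, 2]], ![![1, 1, 1, 1, 3, 2], ![1, 1, 1, 1, 1, 1], ![1, 1, 1, 1, 2, 3], ![1, 1, 1, 1, 1, 1], ![1, 2, 3, 1, 3, 2], ![1, 3, 2, 1, 3, 2]], ![![1, 1, 1, 1, 2, 3], ![1, 1, 1, 1, 3, 2], ![1, 1, 1, 1, 1, 1], ![1, 1, 1, 1, 1, 1], ![1, 2, 3, 3, 3, 3], ![1, 3, 2, 2, 2, 2]], ![![1, 1, 1, 1, 1, 1], ![1, 1, 1, 1, 1, 1], ![1, 1, 1, 1, 1, 1], ![1, 1, 1, 1, 1, 1], ![1, 1, 1, 1, 1, 1], ![1, 1, 1, 1, 1, 1]], ![![1, 2, 1, 3, 2, 3], ![1, 2, 2, 3, 1, 3], ![1, 3, 2, 2, 2, 2], ![1, 1, 1, 1, 1, 1], ![1, 1, 1, 1, 1, 1], ![1, 2, 3, 3, 3, 3]], ![![1, 3, 1, 2, 2, 3], ![1, 3, 3, 2, 2, 1], ![1, 2, 3, 3, 3, 3], ![1, 1, 1, 1, 1, 1], ![1, 3,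 2, 2, 2, 2], ![1, 1, 1, 1, 1, 1]]],
  ![![![1, 1, 1, 1, 1, 1], ![1, 1, 3, 2, 1, 1], ![1, 3, 2, 1, 3, 2], ![1, 2, 1, 3, 2, 3], ![1, 1, 1, 1, 1, 1], ![1, 1, 2, 3, 1, 1]], ![![1, 1, 2, 3, 1, 1], ![1, 1, 1, 1, 1, 1], ![1, 3, 2, 3, 1, 2], ![1, 2, 2, 3, 1, 3], ![1, 1, 1, 1, 1, 1], ![1, 1, 3, 2, 1, 1]], ![![1, 3, 3, 2, 2, 1], ![1, 3, 1, 2, 2, 3], ![1, 1, 1, 1, 1, 1], ![1, 3, 2, 2, 2, 2], ![1, 1, 1, 1, 1, 1], ![1, 2, 3, 3, 3, 3]], ![![1, 2, 3, 2, 3, 1], ![1, 2, 3, 1, 3, 2], ![1, 2, 3, 3, 3, 3], ![1, 1, 1, 1, 1, 1], ![1, 1, 1, 1, 1, 1], ![1, 3, 2, 2, 2, 2]], ![![1, 1, 1, 1, 1, 1], ![1, 1, 1, 1, 1, 1], ![1, 1, 1, 1, 1, 1], ![1, 1, 1, 1, 1, 1], ![1, 1, 1, 1, 1, 1], ![1, 1, 1, 1, 1, 1]], ![![1, 1, 3, 2, 1, 1], ![1, 1, 2, 3, 1, 1], ![1, 3, 2, 2, 2, 2], ![1, 2, 3, 3, 3, 3], ![1, 1, 1, 1, 1, 1], ![1, 1, 1, 1, 1, 1]]],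
  ![![![1, 1, 1, 1, 1, 1], ![1, 1, 2, 3, 1, 1], ![1, 2, 3, 1, 3, 2], ![1, 3, 1, 2, 2, 3], ![1, 1, 3, 2, 1, 1], ![1, 1, 1, 1, 1, 1]], ![![1, 1, 3, 2, 1, 1], ![1, 1, 1, 1, 1, 1], ![1, 2, 3, 2, 3, 1], ![1, 3, 3, 2, 2, 1], ![1, 1, 2, 3, 1, 1], ![1, 1, 1, 1, 1, 1]], ![![1, 2, 2, 3, 1, 3], ![1, 2, 1, 3, 2, 3], ![1, 1, 1, 1, 1, 1], ![1, 2, 3, 3, 3, 3], ![1, 3, 2, 2, 2, 2], ![1, 1, 1, 1, 1, 1]], ![![1, 3, 2, 3, 1, 2], ![1, 3, 2, 1, 3, 2], ![1, 3, 2, 2, 2, 2], ![1, 1, 1, 1, 1, 1], ![1, 2, 3, 3, 3, 3], ![1, 1, 1, 1, 1, 1]], ![![1, 1, 2, 3, 1, 1], ![1, 1, 3, 2, 1, 1], ![1, 2, 3, 3, 3, 3], ![1, 3, 2, 2, 2, 2], ![1, 1, 1, 1, 1, 1], ![1, 1, 1, 1, 1, 1]], ![![1, 1, 1, 1, 1, 1], ![1, 1, 1, 1, 1, 1], ![1, 1, 1, 1, 1, 1], ![1, 1, 1, 1, 1, 1], ![1, 1, 1, 1, 1, 1], ![1, 1, 1, 1, 1, 1]]]]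

theorem c2 : ∀ a b c : Fin 6, a ≠ b → b ≠ c → a ≠ c →
    (∀ i, certTab a b c i ≠ 0) ∧
      cval (fun i => (Equiv.swap a b * Equiv.swap b c).symm i) (certTab a b c) := by
  decide +kernel

theorem gens_coded : ∀ k : Fin 3, ∃ a b c : Fin 4, ∀ i, hexG k i = hexW a b c i := by
  decide +kernel

theorem vec6 (d : Fin 6 → Fin 4) : d = ![d 0, d 1, d 2, d 3, d 4, d 5] := by
  funext i
  fin_cases i <;> rfl

section
variable {F : Type*} [Field F] [Fintype F]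

/-- the generators over `F` -/
def gF (ω : F) (k : Fin 3) : Fin 6 → F := fun i => phi4 ω (hexG k i)

theorem monomial_comb (σ : Equiv.Perm (Fin 6)) (c : Fin 6 → Fˣ) (r s t : F) (u v w : Fin 6 → F) :
    monomialMap σ c (r • u + s • v + t • w) =
      r • monomialMap σ c u + s • monomialMap σ c v + t • monomialMap σ c w := by
  funext i
  simp only [monomialMap, Pi.add_apply, Pi.smul_apply, smul_eq_mul]
  ring

theorem monomial_injective (σ : Equiv.Perm (Fin 6)) (c : Fin 6 → Fˣ) :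
    Function.Injective (monomialMap (F := F) σ c) := by
  intro y y' h
  funext i
  have := congrFun h (σ i)
  simp only [monomialMap, Equiv.symm_apply_apply] at this
  exact mul_left_cancel₀ (c (σ i)).ne_zero this

theorem monomial_surj {ω : F} (σ : Equiv.Perm (Fin 6)) (c : Fin 6 → Fˣ)
    (h : ∀ x ∈ hexacode F ω, monomialMap σ c x ∈ hexacode F ω) :
    ∀ x ∈ hexacode F ω, ∃ y ∈ hexacode F ω, monomialMap σ c y = x := by
  classical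
  let f : hexacode F ω → hexacode F ω := fun y => ⟨monomialMap σ c y.1, h y.1 y.2⟩
  have hf : Function.Injective f := fun y y' hyy =>
    Subtype.ext (monomial_injective σ c (congrArg Subtype.val hyy))
  have hs := Finite.surjective_of_injective hf
  intro x hx
  obtain ⟨y, hy⟩ := hs ⟨x, hx⟩
  exact ⟨y.1, y.2, congrArg Subtype.val hy⟩

theorem monomial_mul (σ τ : Equiv.Perm (Fin 6)) (c c' : Fin 6 → Fˣ) (x : Fin 6 → F) :
    monomialMap σ c (monomialMap τ c' x) =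
      monomialMap (σ * τ) (fun i => c i * c' (σ.symm i)) x := by
  funext i
  show (c i : F) * ((c' (σ.symm i) : F) * x (τ.symm (σ.symm i))) =
    ((c i * c' (σ.symm i) : Fˣ) : F) * x (τ.symm (σ.symm i))
  rw [Units.val_mul, mul_assoc]

/-- the permutation parts of the monomial automorphisms -/
def autPerms (ω : F) : Subgroup (Equiv.Perm (Fin 6)) where
  carrier := {σ | ∃ c : Fin 6 → Fˣ, ∀ x ∈ hexacode F ω, monomialMap σ c x ∈ hexacode F ω}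
  one_mem' := ⟨fun _ => 1, fun x hx => by
    have : monomialMap 1 (fun _ => (1 : Fˣ)) x = x := by
      funext i
      show ((1 : Fˣ) : F) * x i = x i
      rw [Units.val_one, one_mul]
    rw [this]; exact hx⟩
  mul_mem' := by
    rintro σ τ ⟨c, hc⟩ ⟨c', hc'⟩
    refine ⟨fun i => c i * c' (σ.symm i), fun x hx => ?_⟩
    rw [← monomial_mul]
    exact hc _ (hc' x hx)
  inv_mem' := by
    rintro σ ⟨c, hc⟩
    refine ⟨fun i => (c (σ i))⁻¹, fun x hx => ?_⟩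
    obtain ⟨y, hy, rfl⟩ := monomial_surj σ c hc x hx
    have : monomialMap σ⁻¹ (fun i => (c (σ i))⁻¹) (monomialMap σ c y) = y := by
      funext i
      show (((c (σ i))⁻¹ : Fˣ) : F) * ((c (σ i) : F) * y (σ.symm (σ i))) = y i
      rw [← mul_assoc, ← Units.val_mul, inv_mul_cancel, Units.val_one, one_mul,
        Equiv.symm_apply_apply]
    rw [this]; exact hy

variable (hF : Fintype.card F = 4) {ω : F} (hω : ω ^ 2 + ω + 1 = 0)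
include hF hω

theorem word_eq_comb (a b c : Fin 4) : (fun i => phi4 ω (hexW a b c i)) =
    phi4 ω a • gF ω 0 + phi4 ω b • gF ω 1 + phi4 ω c • gF ω 2 := by
  funext i
  simp only [hexW, phi4_add hF hω, phi4_mul hF hω, gF, Pi.add_apply, Pi.smul_apply, smul_eq_mul]
  rfl

theorem gF_mem (k : Fin 3) : gF ω k ∈ hexacode F ω := by
  rw [mem_hexacode_iff hF hω]
  obtain ⟨a, b, c, h⟩ := gens_coded k
  exact ⟨a, b, c, funext fun i => congrArg (phi4 ω) (h i)⟩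

theorem valid_iff_gens (σ : Equiv.Perm (Fin 6)) (c : Fin 6 → Fˣ) :
    (∀ x ∈ hexacode F ω, monomialMap σ c x ∈ hexacode F ω) ↔
      ∀ k : Fin 3, monomialMap σ c (gF ω k) ∈ hexacode F ω := by
  constructor
  · intro h k
    exact h _ (gF_mem hF hω k)
  · intro h x hx
    obtain ⟨a, b, c', rfl⟩ := (mem_hexacode_iff hF hω x).mp hx
    rw [word_eq_comb hF hω, monomial_comb]
    exact Submodule.add_mem _ (Submodule.add_mem _ (Submodule.smul_mem _ _ (h 0))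
      (Submodule.smul_mem _ _ (h 1))) (Submodule.smul_mem _ _ (h 2))

theorem valid_iff_cval (σ : Equiv.Perm (Fin 6)) (c : Fin 6 → Fˣ) (d : Fin 6 → Fin 4)
    (hd : ∀ i, (c i : F) = phi4 ω (d i)) :
    (∀ x ∈ hexacode F ω, monomialMap σ c x ∈ hexacode F ω) ↔ cval (fun i => σ.symm i) d := by
  rw [valid_iff_gens hF hω]
  refine forall_congr' fun k => ?_
  have h1 : monomialMap σ c (gF ω k) = fun i => phi4 ω (mul4 (d i) (hexG k (σ.symm i))) := by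
    funext i
    show (c i : F) * phi4 ω (hexG k (σ.symm i)) = _
    rw [phi4_mul hF hω, hd]
  rw [h1, mem_hexacode_iff hF hω, isHex_iff]
  constructor
  · rintro ⟨a, b, c', h⟩
    exact ⟨a, b, c', funext fun i => phi4_injective hF hω (congrFun h i)⟩
  · rintro ⟨a, b, c', h⟩
    exact ⟨a, b, c', funext fun i => congrArg (phi4 ω) (congrFun h i)⟩

theorem exists_code (c : Fin 6 → Fˣ) :
    ∃ d : Fin 6 → Fin 4, (∀ i, (c i : F) = phi4 ω (d i)) ∧ ∀ i, d i ≠ 0 := by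
  choose d hd using fun i => phi4_surjective hF hω (c i : F)
  refine ⟨d, fun i => (hd i).symm, fun i h0 => ?_⟩
  have := hd i
  rw [h0] at this
  exact (c i).ne_zero this.symm

theorem exists_units (d : Fin 6 → Fin 4) (hd : ∀ i, d i ≠ 0) :
    ∃ c : Fin 6 → Fˣ, ∀ i, (c i : F) = phi4 ω (d i) :=
  ⟨fun i => Units.mk0 (phi4 ω (d i)) (fun h => hd i ((phi4_eq_zero_iff hF hω _).mp h)),
    fun _ => rfl⟩

theorem diag (c : Fin 6 → Fˣ)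
    (h : ∀ x ∈ hexacode F ω, monomialMap 1 c x ∈ hexacode F ω) : ∀ i j, c i = c j := by
  obtain ⟨d, hd, hd0⟩ := exists_code hF hω c
  have hc : cval (fun i => i) d := (valid_iff_cval hF hω 1 c d hd).mp h
  rw [vec6 d] at hc
  obtain ⟨e1, e2, e3, e4, e5⟩ := c1 _ _ _ _ _ _ (hd0 0) (hd0 1) (hd0 2) (hd0 3) (hd0 4) (hd0 5) hc
  have hall : ∀ i, d i = d 0 := by
    intro i
    fin_cases i
    · rfl
    · exact e1
    · exact e2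
    · exact e3
    · exact e4
    · exact e5
  intro i j
  apply Units.ext
  rw [hd i, hd j, hall i, hall j]

theorem alt_le : alternatingGroup (Fin 6) ≤ autPerms ω := by
  rw [← Equiv.Perm.closure_three_cycles_eq_alternating, Subgroup.closure_le]
  intro σ hσ
  have h3 : σ.IsThreeCycle := hσ
  have hne : σ.support.Nonempty := by
    rw [← Finset.card_pos, h3.card_support]; norm_num
  obtain ⟨a, ha⟩ := hne
  have heq := h3.eq_swap_mul_swap_iff_mem_support.mpr ha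
  have hnd := h3.nodup_iff_mem_support.mpr ha
  simp only [List.nodup_cons, List.mem_cons, not_or, List.not_mem_nil,
    not_false_eq_true, List.nodup_nil, and_true] at hnd
  obtain ⟨⟨hab, hac⟩, hbc⟩ := hnd
  obtain ⟨hd0, hcv⟩ := c2 a (σ a) (σ (σ a)) hab hbc hac
  obtain ⟨c, hc⟩ := exists_units hF hω _ hd0
  have hmem : Equiv.swap a (σ a) * Equiv.swap (σ a) (σ (σ a)) ∈ autPerms ω :=
    ⟨c, (valid_iff_cval hF hω _ c _ hc).mpr hcv⟩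
  rw [← heq] at hmem
  exact hmem

theorem le_alt : autPerms ω ≤ alternatingGroup (Fin 6) := by
  intro σ hσ
  rw [Equiv.Perm.mem_alternatingGroup]
  by_contra hs
  have hs' : Equiv.Perm.sign σ = -1 := (Int.units_eq_one_or _).resolve_left hs
  have hτ : Equiv.swap (0 : Fin 6) 1 * σ⁻¹ ∈ alternatingGroup (Fin 6) := by
    rw [Equiv.Perm.mem_alternatingGroup, map_mul, map_inv, hs',
      Equiv.Perm.sign_swap (by decide)]
    decide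
  have hsw : Equiv.swap (0 : Fin 6) 1 ∈ autPerms ω := by
    have := (autPerms ω).mul_mem (alt_le hF hω hτ) hσ
    simpa using this
  obtain ⟨c, hc⟩ := hsw
  obtain ⟨d, hd, hd0⟩ := exists_code hF hω c
  have hcv := (valid_iff_cval hF hω _ c d hd).mp hc
  rw [vec6 d] at hcv
  exact c3 _ _ _ _ _ _ (hd0 0) (hd0 1) (hd0 2) (hd0 3) (hd0 4) (hd0 5) hcv

theorem card_eq : Nat.card {f : Equiv.Perm (Fin 6) × (Fin 6 → Fˣ) //
    (∀ x ∈ hexacode F ω, monomialMap f.1 f.2 x ∈ hexacode F ω)} = 1080 := by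
  classical
  let Φ : {f : Equiv.Perm (Fin 6) × (Fin 6 → Fˣ) //
      (∀ x ∈ hexacode F ω, monomialMap f.1 f.2 x ∈ hexacode F ω)} →
      ↥(alternatingGroup (Fin 6)) × Fˣ :=
    fun f => (⟨f.1.1, le_alt hF hω ⟨f.1.2, f.2⟩⟩, f.1.2 0)
  have hinj : Function.Injective Φ := by
    rintro ⟨⟨σ, c⟩, h⟩ ⟨⟨σ', c'⟩, h'⟩ heq
    simp only [Φ, Prod.mk.injEq, Subtype.mk.injEq] at heq
    obtain ⟨rfl, h0⟩ := heq
    have hr : ∀ x ∈ hexacode F ω, monomialMap 1 (fun i => c' i / c i) x ∈ hexacode F ω := by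
      intro x hx
      obtain ⟨y, hy, rfl⟩ := monomial_surj σ c h x hx
      have : monomialMap 1 (fun i => c' i / c i) (monomialMap σ c y) = monomialMap σ c' y := by
        funext i
        show ((c' i / c i : Fˣ) : F) * ((c i : F) * y (σ.symm i)) = (c' i : F) * y (σ.symm i)
        rw [← mul_assoc, ← Units.val_mul, div_mul_cancel]
      rw [this]
      exact h' y hy
    have hconst := diag hF hω _ hr
    have hcc : c = c' := by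
      funext i
      have : c' i / c i = c' 0 / c 0 := hconst i 0
      rw [h0, div_self', div_eq_one] at this
      exact this.symm
    subst hcc
    rfl
  have hsurj : Function.Surjective Φ := by
    rintro ⟨⟨σ, hσ⟩, u⟩
    obtain ⟨c, hc⟩ := alt_le hF hω hσ
    refine ⟨⟨(σ, fun i => u / c 0 * c i), fun x hx => ?_⟩, ?_⟩
    · have : monomialMap σ (fun i => u / c 0 * c i) x =
          ((u / c 0 : Fˣ) : F) • monomialMap σ c x := by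
        funext i
        show ((u / c 0 * c i : Fˣ) : F) * x (σ.symm i) =
          ((u / c 0 : Fˣ) : F) * ((c i : F) * x (σ.symm i))
        rw [Units.val_mul, mul_assoc]
      rw [this]
      exact Submodule.smul_mem _ _ (hc x hx)
    · simp only [Φ, Prod.mk.injEq, true_and]
      exact div_mul_cancel u (c 0)
  rw [Nat.card_congr (Equiv.ofBijective Φ ⟨hinj, hsurj⟩), Nat.card_prod,
    nat_card_alternatingGroup, Nat.card_eq_fintype_card (α := Fˣ), Fintype.card_units, hF]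
  simp [Nat.factorial]

end

/-- The monomial automorphism group of the hexacode has order 1080: its diagonal part is the scalars and its permutation parts form the alternating group of degree 6. -/
theorem result (F : Type*) [Field F] [Fintype F] [DecidableEq F] (hF : Fintype.card F = 4) (ω : F) (hω : ω ^ 2 + ω + 1 = 0) : Nat.card {f : Equiv.Perm (Fin 6) × (Fin 6 → Fˣ) // (∀ x ∈ Cfsg.hexacode F ω, Cfsg.monomialMap f.1 f.2 x ∈ Cfsg.hexacode F ω)} = 1080 ∧ (∀ c : Fin 6 → Fˣ, (∀ x ∈ Cfsg.hexacode F ω, Cfsg.monomialMap 1 c x ∈ Cfsg.hexacode F ω) → ∀ i j, c i = c j) ∧ {σ : Equiv.Perm (Fin 6) | ∃ c : Fin 6 → Fˣ, (∀ x ∈ Cfsg.hexacode F ω, Cfsg.monomialMap σ c x ∈ Cfsg.hexacode F ω)} = (alternatingGroup (Fin 6) : Set (Equiv.Perm (Fin 6))) := by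
  refine ⟨card_eq hF hω, diag hF hω, ?_⟩
  exact Set.Subset.antisymm (fun σ hσ => le_alt hF hω hσ) (fun σ hσ => alt_le hF hω hσ)

end Cfsg.Agent.S1611
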