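import Cfsg.Statements.S1683
import Cfsg.Agent.Lib.Helper38.HePres
import Cfsg.Agent.Lib.Helper38.He2058V
import Cfsg.Agent.Lib.Helper38.He2058N
import Cfsg.Agent.Lib.Helper38.He2058O

set_option autoImplicit false
open Cfsg

namespace Cfsg.Agent.S1683

open Cfsg.Agent.Lib.Helper38 Cfsg.Agent.Lib.Helper38.He2058 Cfsg.Agent.Lib.Helper38.HeP

set_option maxRecDepth 100000
set_option maxHeartbeats 0
set_option linter.unusedSimpArgs false

theorem chkG_ok : cert.chkG = true := by decide +kernel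

theorem words_eq : (List.range cert.nrel).map cert.wordL = words := by decide +kernel

theorem chkRoots_ok : cert.chkRoots = true := by decide +kernel

theorem cnt_1 : cert.cnt 1 = 136 := by decide +kernel

theorem cnt_2 : cert.cnt 2 = 136 := by decide +kernel

theorem cnt_3 : cert.cnt 3 = 425 := by decide +kernel

theorem cnt_4 : cert.cnt 4 = 1360 := by decide +kernel

/-- the generators of the subgroup -/
abbrev S : Set (FreeGroup Cfsg.Spor.He.Gen) :=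
  {Cfsg.Spor.He.a, Cfsg.Spor.He.c, Cfsg.Spor.He.d, Cfsg.Spor.He.e, Cfsg.Spor.He.f, (Cfsg.Spor.He.a * Cfsg.Spor.He.b) ^ 2, (Cfsg.Spor.He.b * Cfsg.Spor.He.c * Cfsg.Spor.He.d * Cfsg.Spor.He.e) ^ 7}

theorem w_32 : cert.wordL 32 = [0] := by decide +kernel

theorem e_32 : ((cert.wordL 32).map (fun s => (PresentedGroup.of (gen s) : PresentedGroup rels))).prod =
    PresentedGroup.mk rels (Cfsg.Spor.He.a) := by
  rw [w_32]
  simp only [List.map_cons, List.map_nil, List.prod_cons, List.prod_nil, mul_one, gen, PresentedGroup.of,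
    map_mul, pow_succ, pow_zero, one_mul, mul_assoc]

theorem w_33 : cert.wordL 33 = [2] := by decide +kernel

theorem e_33 : ((cert.wordL 33).map (fun s => (PresentedGroup.of (gen s) : PresentedGroup rels))).prod =
    PresentedGroup.mk rels (Cfsg.Spor.He.c) := by
  rw [w_33]
  simp only [List.map_cons, List.map_nil, List.prod_cons, List.prod_nil, mul_one, gen, PresentedGroup.of,
    map_mul, pow_succ, pow_zero, one_mul, mul_assoc]

theorem w_34 : cert.wordL 34 = [3] := by decide +kernel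

theorem e_34 : ((cert.wordL 34).map (fun s => (PresentedGroup.of (gen s) : PresentedGroup rels))).prod =
    PresentedGroup.mk rels (Cfsg.Spor.He.d) := by
  rw [w_34]
  simp only [List.map_cons, List.map_nil, List.prod_cons, List.prod_nil, mul_one, gen, PresentedGroup.of,
    map_mul, pow_succ, pow_zero, one_mul, mul_assoc]

theorem w_35 : cert.wordL 35 = [4] := by decide +kernel

theorem e_35 : ((cert.wordL 35).map (fun s => (PresentedGroup.of (gen s) : PresentedGroup rels))).prod =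
    PresentedGroup.mk rels (Cfsg.Spor.He.e) := by
  rw [w_35]
  simp only [List.map_cons, List.map_nil, List.prod_cons, List.prod_nil, mul_one, gen, PresentedGroup.of,
    map_mul, pow_succ, pow_zero, one_mul, mul_assoc]

theorem w_36 : cert.wordL 36 = [5] := by decide +kernel

theorem e_36 : ((cert.wordL 36).map (fun s => (PresentedGroup.of (gen s) : PresentedGroup rels))).prod =
    PresentedGroup.mk rels (Cfsg.Spor.He.f) := by
  rw [w_36]
  simp only [List.map_cons, List.map_nil, List.prod_cons, List.prod_nil, mul_one, gen, PresentedGroup.of,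
    map_mul, pow_succ, pow_zero, one_mul, mul_assoc]

theorem w_37 : cert.wordL 37 = [0, 1, 0, 1] := by decide +kernel

theorem e_37 : ((cert.wordL 37).map (fun s => (PresentedGroup.of (gen s) : PresentedGroup rels))).prod =
    PresentedGroup.mk rels ((Cfsg.Spor.He.a * Cfsg.Spor.He.b) ^ 2) := by
  rw [w_37]
  simp only [List.map_cons, List.map_nil, List.prod_cons, List.prod_nil, mul_one, gen, PresentedGroup.of,
    map_mul, pow_succ, pow_zero, one_mul, mul_assoc]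

theorem w_38 : cert.wordL 38 = [1, 2, 3, 4, 1, 2, 3, 4, 1, 2, 3, 4, 1, 2, 3, 4, 1, 2, 3, 4, 1, 2, 3, 4, 1, 2, 3, 4] := by decide +kernel

theorem e_38 : ((cert.wordL 38).map (fun s => (PresentedGroup.of (gen s) : PresentedGroup rels))).prod =
    PresentedGroup.mk rels ((Cfsg.Spor.He.b * Cfsg.Spor.He.c * Cfsg.Spor.He.d * Cfsg.Spor.He.e) ^ 7) := by
  rw [w_38]
  simp only [List.map_cons, List.map_nil, List.prod_cons, List.prod_nil, mul_one, gen, PresentedGroup.of,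
    map_mul, pow_succ, pow_zero, one_mul, mul_assoc]

theorem hS : PresentedGroup.mk rels '' S = {x | ∃ wid, cert.nsub ≤ wid ∧ wid < cert.nw ∧
    ((cert.wordL wid).map (fun s => (PresentedGroup.of (gen s) : PresentedGroup rels))).prod = x} := by
  ext x
  constructor
  · rintro ⟨w, hw, rfl⟩
    rcases hw with rfl | rfl | rfl | rfl | rfl | rfl | rfl
    · exact ⟨32, by decide, by decide, e_32⟩
    · exact ⟨33, by decide, by decide, e_33⟩
    · exact ⟨34, by decide, by decide, e_34⟩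
    · exact ⟨35, by decide, by decide, e_35⟩
    · exact ⟨36, by decide, by decide, e_36⟩
    · exact ⟨37, by decide, by decide, e_37⟩
    · exact ⟨38, by decide, by decide, e_38⟩
  · rintro ⟨wid, h1, h2, rfl⟩
    have h1' : 32 ≤ wid := h1
    have h2' : wid < 39 := h2
    interval_cases wid
    · exact ⟨_, Or.inl rfl, e_32.symm⟩
    · exact ⟨_, Or.inr (Or.inl rfl), e_33.symm⟩
    · exact ⟨_, Or.inr (Or.inr (Or.inl rfl)), e_34.symm⟩
    · exact ⟨_, Or.inr (Or.inr (Or.inr (Or.inl rfl))), e_35.symm⟩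
    · exact ⟨_, Or.inr (Or.inr (Or.inr (Or.inr (Or.inl rfl)))), e_36.symm⟩
    · exact ⟨_, Or.inr (Or.inr (Or.inr (Or.inr (Or.inr (Or.inl rfl))))), e_37.symm⟩
    · exact ⟨_, Or.inr (Or.inr (Or.inr (Or.inr (Or.inr (Or.inr (rfl)))))), e_38.symm⟩

theorem hP : Cert.Pres cert (fun s => (PresentedGroup.of (gen s) : PresentedGroup rels))
    ((Subgroup.closure S).map (PresentedGroup.mk rels)) :=
  cert.pres_of rels gen idx gen_idx idx_lt idx_gen words words_eq of_invol of_words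
    (fun σ hσ hw => lift_one σ hσ hw) S hS chkN_all

theorem hC : Cert.Checks cert := ⟨chkV_all, chkN_all, chkG_ok⟩

theorem hO : Cert.OChecks cert := ⟨chkO_all, chkRoots_ok⟩


/-- In the presented Held group, let H be the subgroup generated by the images of a, c, d, e, f, (ab)^2 and (bcde)^7. Then H has index 2058, there are four distinct H-orbits on the cosets of H other than H itself, of sizes 136, 136, 425 and 1360. -/
theorem result : (((Subgroup.closure ({Cfsg.Spor.He.a, Cfsg.Spor.He.c, Cfsg.Spor.He.d, Cfsg.Spor.He.e, Cfsg.Spor.He.f, (Cfsg.Spor.He.a * Cfsg.Spor.He.b) ^ 2, (Cfsg.Spor.He.b * Cfsg.Spor.He.c * Cfsg.Spor.He.d * Cfsg.Spor.He.e) ^ 7} : Set (FreeGroup Cfsg.Spor.He.Gen))).map (PresentedGroup.mk (Cfsg.Spor.coxRelators Cfsg.Spor.He.edges ∪ {r | r ∈ Cfsg.Spor.He.extra})))).index = 2058 ∧ ∃ q₁ q₂ q₃ q₄ : Cfsg.Spor.He ⧸ (((Subgroup.closure ({Cfsg.Spor.He.a, Cfsg.Spor.He.c, Cfsg.Spor.He.d, Cfsg.Spor.He.e,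 Cfsg.Spor.He.f, (Cfsg.Spor.He.a * Cfsg.Spor.He.b) ^ 2, (Cfsg.Spor.He.b * Cfsg.Spor.He.c * Cfsg.Spor.He.d * Cfsg.Spor.He.e) ^ 7} : Set (FreeGroup Cfsg.Spor.He.Gen))).map (PresentedGroup.mk (Cfsg.Spor.coxRelators Cfsg.Spor.He.edges ∪ {r | r ∈ Cfsg.Spor.He.extra})))), MulAction.orbit (((Subgroup.closure ({Cfsg.Spor.He.a, Cfsg.Spor.He.c, Cfsg.Spor.He.d, Cfsg.Spor.He.e, Cfsg.Spor.He.f, (Cfsg.Spor.He.a * Cfsg.Spor.He.b) ^ 2, (Cfsg.Spor.He.b * Cfsg.Spor.He.c * Cfsg.Spor.He.d * Cfsg.Spor.He.e) ^ 7} : Set (FreeGroup Cfsg.Spor.He.Gen))).map (PresentedGroup.mk (Cfsg.Spor.coxRelators Cfsg.Spor.He.edges ∪ {r | r ∈ Cfsg.Spor.He.extra})))) q₁ ≠ MulAction.orbit (((Subgroup.closure ({Cfsg.Spor.He.a, Cfsg.Spor.He.c, Cfsg.Spor.He.d, Cfsg.Spor.He.e, Cfsg.Spor.He.f, (Cfsg.Spor.He.a * Cfsg.Spor.He.b) ^ 2, (Cfsg.Spor.He.b * Cfsg.Spor.He.c * Cfsg.Spor.He.d * Cfsg.Spor.He.e) ^ 7} : Set (FreeGroup Cfsg.Spor.He.Gen))).map (PresentedGroup.mk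 (Cfsg.Spor.coxRelators Cfsg.Spor.He.edges ∪ {r | r ∈ Cfsg.Spor.He.extra})))) q₂ ∧ (MulAction.orbit (((Subgroup.closure ({Cfsg.Spor.He.a, Cfsg.Spor.He.c, Cfsg.Spor.He.d, Cfsg.Spor.He.e, Cfsg.Spor.He.f, (Cfsg.Spor.He.a * Cfsg.Spor.He.b) ^ 2, (Cfsg.Spor.He.b * Cfsg.Spor.He.c * Cfsg.Spor.He.d * Cfsg.Spor.He.e) ^ 7} : Set (FreeGroup Cfsg.Spor.He.Gen))).map (PresentedGroup.mk (Cfsg.Spor.coxRelators Cfsg.Spor.He.edges ∪ {r | r ∈ Cfsg.Spor.He.extra})))) q₁).ncard = 136 ∧ (MulAction.orbit (((Subgroup.closure ({Cfsg.Spor.He.a, Cfsg.Spor.He.c, Cfsg.Spor.He.d, Cfsg.Spor.He.e, Cfsg.Spor.He.f, (Cfsg.Spor.He.a * Cfsg.Spor.He.b) ^ 2, (Cfsg.Spor.He.b * Cfsg.Spor.He.c * Cfsg.Spor.He.d * Cfsg.Spor.He.e) ^ 7} : Set (FreeGroup Cfsg.Spor.He.Gen))).map (PresentedGroup.mk (Cfsg.Spor.coxRelators Cfsg.Spor.He.edges ∪ {r | r ∈ Cfsg.Spor.He.extra})))) q₂).ncard = 136 ∧ (MulAction.orbit (((Subgroup.closure ({Cfsg.Spor.He.a, Cfsg.Spor.He.c,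 Cfsg.Spor.He.d, Cfsg.Spor.He.e, Cfsg.Spor.He.f, (Cfsg.Spor.He.a * Cfsg.Spor.He.b) ^ 2, (Cfsg.Spor.He.b * Cfsg.Spor.He.c * Cfsg.Spor.He.d * Cfsg.Spor.He.e) ^ 7} : Set (FreeGroup Cfsg.Spor.He.Gen))).map (PresentedGroup.mk (Cfsg.Spor.coxRelators Cfsg.Spor.He.edges ∪ {r | r ∈ Cfsg.Spor.He.extra})))) q₃).ncard = 425 ∧ (MulAction.orbit (((Subgroup.closure ({Cfsg.Spor.He.a, Cfsg.Spor.He.c, Cfsg.Spor.He.d, Cfsg.Spor.He.e, Cfsg.Spor.He.f, (Cfsg.Spor.He.a * Cfsg.Spor.He.b) ^ 2, (Cfsg.Spor.He.b * Cfsg.Spor.He.c * Cfsg.Spor.He.d * Cfsg.Spor.He.e) ^ 7} : Set (FreeGroup Cfsg.Spor.He.Gen))).map (PresentedGroup.mk (Cfsg.Spor.coxRelators Cfsg.Spor.He.edges ∪ {r | r ∈ Cfsg.Spor.He.extra})))) q₄).ncard = 1360 := by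
  obtain ⟨Q, hQ⟩ := Cert.orbits hP hC hO
  exact ⟨Cert.index_eq hP hC,
    Q 1,
    Q 2,
    Q 3,
    Q 4,
    (hQ 1 (by decide)).2 2 (by decide) (by decide),
    (hQ 1 (by decide)).1.trans cnt_1,
    (hQ 2 (by decide)).1.trans cnt_2,
    (hQ 3 (by decide)).1.trans cnt_3,
    (hQ 4 (by decide)).1.trans cnt_4⟩

end Cfsg.Agent.S1683
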