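import Cfsg.Statements.S1689
-- import your own Cfsg.Agent.* helpers here
import Cfsg.Agent.Lib.Helper39.Fi23P
import Cfsg.Agent.Lib.Helper39.Fi23FV
import Cfsg.Agent.Lib.Helper39.Fi23FN
import Cfsg.Agent.Lib.Helper39.Fi23FO

set_option autoImplicit false
open Cfsg

namespace Cfsg.Agent.S1689

open Cfsg.Agent.Lib.Helper38 Cfsg.Agent.Lib.Helper39.Fi23F Cfsg.Agent.Lib.Helper39.Fi23P

set_option maxRecDepth 100000
set_option maxHeartbeats 0
set_option linter.unusedSimpArgs false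

theorem chkG_ok : cert.chkG = true := by decide +kernel

theorem words_eq : (List.range cert.nrel).map cert.wordL = words := by decide +kernel

theorem chkRoots_ok : cert.chkRoots = true := by decide +kernel

theorem cnt_2 : cert.cnt 2 = 3510 := by decide +kernel

theorem cnt_1 : cert.cnt 1 = 28160 := by decide +kernel

/-- the generators of the subgroup -/
abbrev S : Set (FreeGroup Cfsg.Spor.Fi23.Gen) :=
  {Cfsg.Spor.Fi23.a, Cfsg.Spor.Fi23.b, Cfsg.Spor.Fi23.c, Cfsg.Spor.Fi23.d, Cfsg.Spor.Fi23.e, Cfsg.Spor.Fi23.f, Cfsg.Spor.Fi23.g, Cfsg.Spor.Fi23.h, Cfsg.Spor.Fi23.i}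

theorem w_57 : cert.wordL 57 = [0] := by decide +kernel

theorem e_57 : ((cert.wordL 57).map (fun s => (PresentedGroup.of (gen s) : PresentedGroup rels))).prod =
    PresentedGroup.mk rels (Cfsg.Spor.Fi23.a) := by
  rw [w_57]
  simp only [List.map_cons, List.map_nil, List.prod_cons, List.prod_nil, mul_one, gen, PresentedGroup.of,
    map_mul, pow_succ, pow_zero, one_mul, mul_assoc]

theorem w_58 : cert.wordL 58 = [1] := by decide +kernel

theorem e_58 : ((cert.wordL 58).map (fun s => (PresentedGroup.of (gen s) : PresentedGroup rels))).prod =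
    PresentedGroup.mk rels (Cfsg.Spor.Fi23.b) := by
  rw [w_58]
  simp only [List.map_cons, List.map_nil, List.prod_cons, List.prod_nil, mul_one, gen, PresentedGroup.of,
    map_mul, pow_succ, pow_zero, one_mul, mul_assoc]

theorem w_59 : cert.wordL 59 = [2] := by decide +kernel

theorem e_59 : ((cert.wordL 59).map (fun s => (PresentedGroup.of (gen s) : PresentedGroup rels))).prod =
    PresentedGroup.mk rels (Cfsg.Spor.Fi23.c) := by
  rw [w_59]
  simp only [List.map_cons, List.map_nil, List.prod_cons, List.prod_nil, mul_one, gen, PresentedGroup.of,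
    map_mul, pow_succ, pow_zero, one_mul, mul_assoc]

theorem w_60 : cert.wordL 60 = [3] := by decide +kernel

theorem e_60 : ((cert.wordL 60).map (fun s => (PresentedGroup.of (gen s) : PresentedGroup rels))).prod =
    PresentedGroup.mk rels (Cfsg.Spor.Fi23.d) := by
  rw [w_60]
  simp only [List.map_cons, List.map_nil, List.prod_cons, List.prod_nil, mul_one, gen, PresentedGroup.of,
    map_mul, pow_succ, pow_zero, one_mul, mul_assoc]

theorem w_61 : cert.wordL 61 = [4] := by decide +kernel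

theorem e_61 : ((cert.wordL 61).map (fun s => (PresentedGroup.of (gen s) : PresentedGroup rels))).prod =
    PresentedGroup.mk rels (Cfsg.Spor.Fi23.e) := by
  rw [w_61]
  simp only [List.map_cons, List.map_nil, List.prod_cons, List.prod_nil, mul_one, gen, PresentedGroup.of,
    map_mul, pow_succ, pow_zero, one_mul, mul_assoc]

theorem w_62 : cert.wordL 62 = [5] := by decide +kernel

theorem e_62 : ((cert.wordL 62).map (fun s => (PresentedGroup.of (gen s) : PresentedGroup rels))).prod =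
    PresentedGroup.mk rels (Cfsg.Spor.Fi23.f) := by
  rw [w_62]
  simp only [List.map_cons, List.map_nil, List.prod_cons, List.prod_nil, mul_one, gen, PresentedGroup.of,
    map_mul, pow_succ, pow_zero, one_mul, mul_assoc]

theorem w_63 : cert.wordL 63 = [6] := by decide +kernel

theorem e_63 : ((cert.wordL 63).map (fun s => (PresentedGroup.of (gen s) : PresentedGroup rels))).prod =
    PresentedGroup.mk rels (Cfsg.Spor.Fi23.g) := by
  rw [w_63]
  simp only [List.map_cons, List.map_nil, List.prod_cons, List.prod_nil, mul_one, gen, PresentedGroup.of,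
    map_mul, pow_succ, pow_zero, one_mul, mul_assoc]

theorem w_64 : cert.wordL 64 = [8] := by decide +kernel

theorem e_64 : ((cert.wordL 64).map (fun s => (PresentedGroup.of (gen s) : PresentedGroup rels))).prod =
    PresentedGroup.mk rels (Cfsg.Spor.Fi23.h) := by
  rw [w_64]
  simp only [List.map_cons, List.map_nil, List.prod_cons, List.prod_nil, mul_one, gen, PresentedGroup.of,
    map_mul, pow_succ, pow_zero, one_mul, mul_assoc]

theorem w_65 : cert.wordL 65 = [9] := by decide +kernel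

theorem e_65 : ((cert.wordL 65).map (fun s => (PresentedGroup.of (gen s) : PresentedGroup rels))).prod =
    PresentedGroup.mk rels (Cfsg.Spor.Fi23.i) := by
  rw [w_65]
  simp only [List.map_cons, List.map_nil, List.prod_cons, List.prod_nil, mul_one, gen, PresentedGroup.of,
    map_mul, pow_succ, pow_zero, one_mul, mul_assoc]

theorem hS : PresentedGroup.mk rels '' S = {x | ∃ wid, cert.nsub ≤ wid ∧ wid < cert.nw ∧
    ((cert.wordL wid).map (fun s => (PresentedGroup.of (gen s) : PresentedGroup rels))).prod = x} := by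
  ext x
  constructor
  · rintro ⟨w, hw, rfl⟩
    rcases hw with rfl | rfl | rfl | rfl | rfl | rfl | rfl | rfl | rfl
    · exact ⟨57, by decide, by decide, e_57⟩
    · exact ⟨58, by decide, by decide, e_58⟩
    · exact ⟨59, by decide, by decide, e_59⟩
    · exact ⟨60, by decide, by decide, e_60⟩
    · exact ⟨61, by decide, by decide, e_61⟩
    · exact ⟨62, by decide, by decide, e_62⟩
    · exact ⟨63, by decide, by decide, e_63⟩
    · exact ⟨64, by decide, by decide, e_64⟩
    · exact ⟨65, by decide, by decide, e_65⟩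
  · rintro ⟨wid, h1, h2, rfl⟩
    have h1' : 57 ≤ wid := h1
    have h2' : wid < 66 := h2
    interval_cases wid
    · exact ⟨_, Or.inl rfl, e_57.symm⟩
    · exact ⟨_, Or.inr (Or.inl rfl), e_58.symm⟩
    · exact ⟨_, Or.inr (Or.inr (Or.inl rfl)), e_59.symm⟩
    · exact ⟨_, Or.inr (Or.inr (Or.inr (Or.inl rfl))), e_60.symm⟩
    · exact ⟨_, Or.inr (Or.inr (Or.inr (Or.inr (Or.inl rfl)))), e_61.symm⟩
    · exact ⟨_, Or.inr (Or.inr (Or.inr (Or.inr (Or.inr (Or.inl rfl))))), e_62.symm⟩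
    · exact ⟨_, Or.inr (Or.inr (Or.inr (Or.inr (Or.inr (Or.inr (Or.inl rfl)))))), e_63.symm⟩
    · exact ⟨_, Or.inr (Or.inr (Or.inr (Or.inr (Or.inr (Or.inr (Or.inr (Or.inl rfl))))))), e_64.symm⟩
    · exact ⟨_, Or.inr (Or.inr (Or.inr (Or.inr (Or.inr (Or.inr (Or.inr (Or.inr (rfl)))))))), e_65.symm⟩

theorem hP : Cert.Pres cert (fun s => (PresentedGroup.of (gen s) : PresentedGroup rels))
    ((Subgroup.closure S).map (PresentedGroup.mk rels)) :=
  cert.pres_of rels gen idx gen_idx idx_lt idx_gen words words_eq of_invol of_words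
    (fun σ hσ hw => lift_one σ hσ hw) S hS chkN_all

theorem hC : Cert.Checks cert := ⟨chkV_all, chkN_all, chkG_ok⟩

theorem hO : Cert.OChecks cert := ⟨chkO_all, chkRoots_ok⟩

/-- In the presented Fischer group Fi₂₃, let H be the subgroup generated by the images of a, …, i. Then H has index 31671, H has orbits of sizes 3510 and 28160 on the cosets of H other than H itself. -/
theorem result : (((Subgroup.closure ({Cfsg.Spor.Fi23.a, Cfsg.Spor.Fi23.b, Cfsg.Spor.Fi23.c, Cfsg.Spor.Fi23.d, Cfsg.Spor.Fi23.e, Cfsg.Spor.Fi23.f, Cfsg.Spor.Fi23.g, Cfsg.Spor.Fi23.h, Cfsg.Spor.Fi23.i} : Set (FreeGroup Cfsg.Spor.Fi23.Gen))).map (PresentedGroup.mk (Cfsg.Spor.coxRelators Cfsg.Spor.Fi23.edges ∪ {r | r ∈ Cfsg.Spor.Fi23.extra})))).index = 31671 ∧ ∃ q₁ q₂ : Cfsg.Spor.Fi23 ⧸ (((Subgroup.closure ({Cfsg.Spor.Fi23.a, Cfsg.Spor.Fi23.b, Cfsg.Spor.Fi23.c, Cfsg.Spor.Fi23.d, Cfsg.Spor.Fi23.e, Cfsg.Spor.Fi23.f, Cfsg.Spor.Fi23.g, Cfsg.Spor.Fi23.h, Cfsg.Spor.Fi23.i} : Set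 (FreeGroup Cfsg.Spor.Fi23.Gen))).map (PresentedGroup.mk (Cfsg.Spor.coxRelators Cfsg.Spor.Fi23.edges ∪ {r | r ∈ Cfsg.Spor.Fi23.extra})))), (MulAction.orbit (((Subgroup.closure ({Cfsg.Spor.Fi23.a, Cfsg.Spor.Fi23.b, Cfsg.Spor.Fi23.c, Cfsg.Spor.Fi23.d, Cfsg.Spor.Fi23.e, Cfsg.Spor.Fi23.f, Cfsg.Spor.Fi23.g, Cfsg.Spor.Fi23.h, Cfsg.Spor.Fi23.i} : Set (FreeGroup Cfsg.Spor.Fi23.Gen))).map (PresentedGroup.mk (Cfsg.Spor.coxRelators Cfsg.Spor.Fi23.edges ∪ {r | r ∈ Cfsg.Spor.Fi23.extra})))) q₁).ncard = 3510 ∧ (MulAction.orbit (((Subgroup.closure ({Cfsg.Spor.Fi23.a, Cfsg.Spor.Fi23.b, Cfsg.Spor.Fi23.c, Cfsg.Spor.Fi23.d, Cfsg.Spor.Fi23.e, Cfsg.Spor.Fi23.f, Cfsg.Spor.Fi23.g, Cfsg.Spor.Fi23.h, Cfsg.Spor.Fi23.i} : Set (FreeGroup Cfsg.Spor.Fi23.Gen))).map (PresentedGroup.mk (Cfsg.Spor.coxRelators Cfsg.Spor.Fi23.edges ∪ {r | r ∈ Cfsg.Spor.Fi23.extra})))) q₂).ncard = 28160 := by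
  obtain ⟨Q, hQ⟩ := Cert.orbits hP hC hO
  exact ⟨Cert.index_eq hP hC,
    Q 2,
    Q 1,
    (hQ 2 (by decide)).1.trans cnt_2,
    (hQ 1 (by decide)).1.trans cnt_1⟩


end Cfsg.Agent.S1689
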