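import Cfsg.Statements.S1910
import Mathlib
import Cfsg.Agent.Lib.Helper41.Cores
import Cfsg.Agent.Lib.Helper41.PSub

set_option autoImplicit false
open Cfsg

namespace Cfsg.Agent.S1910

open Cfsg.Agent.Lib.Helper41

/-- A nontrivial `2`-element of a tightly embedded `Q` lies in no other conjugate of `Q`. -/
theorem ti_elt {G : Type*} [Group G] [Finite G] (Q : Subgroup G) (hQ : Cfsg.IsTightlyEmbedded Q)
    (u h : G) (k : ℕ) (hu2 : u ^ 2 ^ k = 1) (hu1 : u ≠ 1) (huQ : u ∈ Q)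
    (huh : h⁻¹ * u * h ∈ Q) : h ∈ Subgroup.normalizer (Q : Set G) := by
  by_contra hh
  have hodd := hQ.2 h hh
  have hmem : u ∈ Q ⊓ Q.map (MulAut.conj h).toMonoidHom :=
    Subgroup.mem_inf.mpr ⟨huQ, (mem_map_conj_iff Q h u).mpr huh⟩
  have h1 : orderOf u ∣ Nat.card ↥(Q ⊓ Q.map (MulAut.conj h).toMonoidHom) := by
    have := orderOf_dvd_natCard (⟨u, hmem⟩ : ↥(Q ⊓ Q.map (MulAut.conj h).toMonoidHom))
    rwa [Subgroup.orderOf_mk] at this
  have h2 : orderOf u ∣ 2 ^ k := orderOf_dvd_of_pow_eq_one hu2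
  have h3 : orderOf u = 1 :=
    Nat.Coprime.eq_one_of_dvd
      (Nat.Coprime.pow_right k (Nat.Coprime.coprime_dvd_left h1 hodd.coprime_two_right)) h2
  exact hu1 (orderOf_eq_one_iff.mp h3)

theorem ti_conj {G : Type*} [Group G] [Finite G] (Q : Subgroup G) (hQ : Cfsg.IsTightlyEmbedded Q)
    (u a b : G) (k : ℕ) (hu2 : u ^ 2 ^ k = 1) (hu1 : u ≠ 1) (ha : a⁻¹ * u * a ∈ Q)
    (hb : b⁻¹ * u * b ∈ Q) : a⁻¹ * b ∈ Subgroup.normalizer (Q : Set G) := by
  apply ti_elt Q hQ (a⁻¹ * u * a) (a⁻¹ * b) k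
  · have e : a⁻¹ * u * a = a⁻¹ * u * a⁻¹⁻¹ := by rw [inv_inv]
    rw [e, conj_pow, hu2]; group
  · intro h
    apply hu1
    have e : u = a * (a⁻¹ * u * a) * a⁻¹ := by group
    rw [e, h]; group
  · exact ha
  · have e : (a⁻¹ * b)⁻¹ * (a⁻¹ * u * a) * (a⁻¹ * b) = b⁻¹ * u * b := by group
    rw [e]; exact hb

/-- Let Q be a tightly embedded subgroup of a finite group G, g an element outside N_G(Q), T a nontrivial Sylow 2-subgroup of Q^g ∩ N_G(Q), and S a Sylow 2-subgroup of QT containing T. Then T ∩ Q = 1, and N_S(T) is the direct product of T and N_S(T) ∩ Q, with N_S(T) ∩ Q isomorphic to T. -/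
theorem result {G : Type*} [Group G] [Finite G] (Q : Subgroup G) (hQ : Cfsg.IsTightlyEmbedded Q)
    (g : G) (hg : g ∉ Subgroup.normalizer (Q : Set G))
    (T : Subgroup G) (hT1 : T ≠ ⊥) (hT : T ≤ Q.map (MulAut.conj g).toMonoidHom ⊓ Subgroup.normalizer (Q : Set G))
    (hTsyl : IsPGroup 2 T ∧ ¬ 2 ∣ T.relIndex (Q.map (MulAut.conj g).toMonoidHom ⊓ Subgroup.normalizer (Q : Set G)))
    (S : Subgroup G) (hTS : T ≤ S) (hS : S ≤ Q ⊔ T) (hSsyl : IsPGroup 2 S ∧ ¬ 2 ∣ S.relIndex (Q ⊔ T)) :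
    T ⊓ Q = ⊥ ∧
      T ⊓ (S ⊓ Subgroup.normalizer (T : Set G) ⊓ Q) = ⊥ ∧
      ⁅T, S ⊓ Subgroup.normalizer (T : Set G) ⊓ Q⁆ = ⊥ ∧
      T ⊔ (S ⊓ Subgroup.normalizer (T : Set G) ⊓ Q) = S ⊓ Subgroup.normalizer (T : Set G) ∧
      Nonempty (↥(S ⊓ Subgroup.normalizer (T : Set G) ⊓ Q) ≃* T) := by
  classical
  have : Fact (Nat.Prime 2) := ⟨Nat.prime_two⟩
  obtain ⟨hT2, hTsyl'⟩ := hTsyl
  obtain ⟨hS2, hSsyl'⟩ := hSsyl
  have hmemQ₁ : ∀ x, x ∈ Q.map (MulAut.conj g).toMonoidHom ↔ g⁻¹ * x * g ∈ Q :=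
    fun x => mem_map_conj_iff Q g x
  have hTQ₁ : T ≤ Q.map (MulAut.conj g).toMonoidHom := hT.trans inf_le_left
  have hTN : T ≤ Subgroup.normalizer (Q : Set G) := hT.trans inf_le_right
  have h2elt : ∀ x ∈ S, ∃ k : ℕ, x ^ 2 ^ k = 1 := by
    intro x hx
    obtain ⟨k, hk⟩ := hS2 ⟨x, hx⟩
    exact ⟨k, by simpa using congrArg Subtype.val hk⟩
  -- (1)
  have hTQ : T ⊓ Q = ⊥ := by
    rw [eq_bot_iff]
    intro u hu
    rw [Subgroup.mem_bot]
    by_contra hu1
    obtain ⟨k, hk⟩ := h2elt u (hTS hu.1)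
    exact hg (ti_elt Q hQ u g k hk hu1 hu.2 ((hmemQ₁ u).mp (hTQ₁ hu.1)))
  have hRQ : S ⊓ Subgroup.normalizer (T : Set G) ⊓ Q ≤ Q := inf_le_right
  have hRS : S ⊓ Subgroup.normalizer (T : Set G) ⊓ Q ≤ S := inf_le_left.trans inf_le_left
  have hRNT : S ⊓ Subgroup.normalizer (T : Set G) ⊓ Q ≤ Subgroup.normalizer (T : Set G) :=
    inf_le_left.trans inf_le_right
  have hTR : T ⊓ (S ⊓ Subgroup.normalizer (T : Set G) ⊓ Q) = ⊥ := by
    rw [eq_bot_iff, ← hTQ]; exact inf_le_inf_left T hRQ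
  -- (3)
  have hcomm : ∀ t ∈ T, ∀ r ∈ S ⊓ Subgroup.normalizer (T : Set G) ⊓ Q, t * r = r * t := by
    intro t ht r hr
    have h1 : t * r * t⁻¹ * r⁻¹ ∈ T ⊓ Q := by
      refine Subgroup.mem_inf.mpr ⟨?_, ?_⟩
      · have : r * t⁻¹ * r⁻¹ ∈ T :=
          (Subgroup.mem_normalizer_iff.mp (hRNT hr) t⁻¹).mp (T.inv_mem ht)
        have e : t * r * t⁻¹ * r⁻¹ = t * (r * t⁻¹ * r⁻¹) := by group
        rw [e]; exact T.mul_mem ht this
      · have : t * r * t⁻¹ ∈ Q := (Subgroup.mem_normalizer_iff.mp (hTN ht) r).mp (hRQ hr)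
        exact Q.mul_mem this (Q.inv_mem (hRQ hr))
    rw [hTQ, Subgroup.mem_bot] at h1
    calc t * r = (t * r * t⁻¹ * r⁻¹) * (r * t) := by group
      _ = r * t := by rw [h1, one_mul]
  have hcommsub : ⁅T, S ⊓ Subgroup.normalizer (T : Set G) ⊓ Q⁆ = ⊥ := by
    rw [eq_bot_iff, Subgroup.commutator_le]
    intro t ht r hr
    rw [Subgroup.mem_bot, commutatorElement_def, hcomm t ht r hr]; group
  -- (4)
  have hsup : T ⊔ (S ⊓ Subgroup.normalizer (T : Set G) ⊓ Q) = S ⊓ Subgroup.normalizer (T : Set G) := by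
    apply le_antisymm
    · exact sup_le (le_inf hTS Subgroup.le_normalizer) inf_le_left
    · intro x hx
      obtain ⟨q, hq, t, ht, rfl⟩ := exists_mul_of_mem_sup_right Q T hTN (hS hx.1)
      have hqS : q ∈ S := by
        have := S.mul_mem hx.1 (S.inv_mem (hTS ht))
        simpa using this
      have hqN : q ∈ Subgroup.normalizer (T : Set G) := by
        have := Subgroup.mul_mem _ hx.2 (Subgroup.inv_mem _ (Subgroup.le_normalizer ht))
        simpa using this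
      exact Subgroup.mul_mem _
        (Subgroup.mem_sup_right (Subgroup.mem_inf.mpr ⟨Subgroup.mem_inf.mpr ⟨hqS, hqN⟩, hq⟩))
        (Subgroup.mem_sup_left ht)
  refine ⟨hTQ, hTR, hcommsub, hsup, ?_⟩
  -- (5)
  obtain ⟨t₀, ht₀, ht₀1⟩ : ∃ t ∈ T, t ≠ 1 := by
    by_contra h
    push Not at h
    exact hT1 (by rw [eq_bot_iff]; intro x hx; exact Subgroup.mem_bot.mpr (h x hx))
  have hNT : ∀ x ∈ Subgroup.normalizer (T : Set G), g⁻¹ * x * g ∈ Subgroup.normalizer (Q : Set G) := by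
    intro x hx
    have hxt : x * t₀ * x⁻¹ ∈ T := (Subgroup.mem_normalizer_iff.mp hx t₀).mp ht₀
    obtain ⟨k, hk⟩ := h2elt _ (hTS hxt)
    have := ti_conj Q hQ (x * t₀ * x⁻¹) g (x * g) k hk (by
        intro h
        apply ht₀1
        have e : t₀ = x⁻¹ * (x * t₀ * x⁻¹) * x := by group
        rw [e, h]; group) ((hmemQ₁ _).mp (hTQ₁ hxt)) (by
        have e : (x * g)⁻¹ * (x * t₀ * x⁻¹) * (x * g) = g⁻¹ * t₀ * g := by group
        rw [e]; exact (hmemQ₁ _).mp (hTQ₁ ht₀))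
    rwa [← mul_assoc] at this
  have hconjQ₁ : ∀ x, g⁻¹ * x * g ∈ Subgroup.normalizer (Q : Set G) →
      ∀ y ∈ Q.map (MulAut.conj g).toMonoidHom, x * y * x⁻¹ ∈ Q.map (MulAut.conj g).toMonoidHom := by
    intro x hx y hy
    rw [hmemQ₁] at hy ⊢
    have := (Subgroup.mem_normalizer_iff.mp hx _).mp hy
    have e : g⁻¹ * (x * y * x⁻¹) * g = g⁻¹ * x * g * (g⁻¹ * y * g) * (g⁻¹ * x * g)⁻¹ := by group
    rw [e]; exact this
  have hTRle : Nat.card (T ⊔ (S ⊓ Subgroup.normalizer (T : Set G) ⊓ Q) : Subgroup G)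
      ≤ Nat.card T * Nat.card ↥(S ⊓ Subgroup.normalizer (T : Set G) ⊓ Q) :=
    card_sup_le_of_le_normalizer T _ hRNT
  have hSN : S ≤ Subgroup.normalizer (Q : Set G) := hS.trans (sup_le Subgroup.le_normalizer hTN)
  have hcardTR : Nat.card T ≤ Nat.card ↥(S ⊓ Subgroup.normalizer (T : Set G) ⊓ Q) := by
    by_cases hcase : S ≤ Subgroup.normalizer (T : Set G)
    · have hRe : S ⊓ Subgroup.normalizer (T : Set G) ⊓ Q = S ⊓ Q := by
        rw [inf_eq_left.mpr hcase]
      have h1 : ¬ 2 ∣ (S ⊓ Q).relIndex Q := sylow_inf_of_le_normalizer Q T S hTN hS hSsyl'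
      have h2 : Nat.card T ∣ Nat.card Q := by
        have := Subgroup.card_dvd_of_le hTQ₁
        rwa [Subgroup.card_map_of_injective (MulAut.conj g).injective] at this
      have h3 := card_mul_relIndex_of_le (inf_le_right : S ⊓ Q ≤ Q)
      rw [← h3] at h2
      obtain ⟨a, ha⟩ := IsPGroup.iff_card.mp hT2
      have hcop : Nat.Coprime (Nat.card T) ((S ⊓ Q).relIndex Q) := by
        rw [ha]
        exact Nat.Coprime.pow_left a ((Nat.Prime.coprime_iff_not_dvd Nat.prime_two).mpr h1)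
      have h4 : Nat.card T ∣ Nat.card (S ⊓ Q : Subgroup G) := hcop.dvd_of_dvd_mul_right h2
      rw [hRe]; exact Nat.le_of_dvd Nat.card_pos h4
    · have hne : ∃ v ∈ S, v ∉ S ⊓ Subgroup.normalizer (T : Set G) := by
        by_contra h
        push Not at h
        exact hcase (fun v hv => (h v hv).2)
      obtain ⟨s, hsS, hsn, hsN⟩ :=
        exists_normalizer_not_mem S (S ⊓ Subgroup.normalizer (T : Set G)) hS2 hne inf_le_left
      have hsNT : s ∉ Subgroup.normalizer (T : Set G) := fun h => hsn ⟨hsS, h⟩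
      rw [← hsup] at hsN
      have hTs : T.map (MulAut.conj s).toMonoidHom ≤ T ⊔ (S ⊓ Subgroup.normalizer (T : Set G) ⊓ Q) := by
        rintro _ ⟨t, ht, rfl⟩
        exact (Subgroup.mem_normalizer_iff.mp hsN t).mp (Subgroup.mem_sup_left ht)
      have hdisj : T.map (MulAut.conj s).toMonoidHom ⊓ T = ⊥ := by
        rw [eq_bot_iff]
        rintro u ⟨⟨t, ht, rfl⟩, hu⟩
        rw [Subgroup.mem_bot]
        by_contra hu1
        have hu' : s * t * s⁻¹ ∈ T := hu
        have hu1' : s * t * s⁻¹ ≠ 1 := hu1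
        obtain ⟨k, hk⟩ := h2elt _ (hTS hu')
        have h1 : g⁻¹ * (s * g) ∈ Subgroup.normalizer (Q : Set G) :=
          ti_conj Q hQ (s * t * s⁻¹) g (s * g) k hk hu1' ((hmemQ₁ _).mp (hTQ₁ hu')) (by
            have e : (s * g)⁻¹ * (s * t * s⁻¹) * (s * g) = g⁻¹ * t * g := by group
            rw [e]; exact (hmemQ₁ _).mp (hTQ₁ ht))
        rw [← mul_assoc] at h1
        apply hsNT
        apply Subgroup.mem_normalizer_fintype
        intro y hy
        have hX : ∀ y' ∈ T, s * y' * s⁻¹ ∈ Q.map (MulAut.conj g).toMonoidHom ⊓ Subgroup.normalizer (Q : Set G) :=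
          fun y' hy' => Subgroup.mem_inf.mpr ⟨hconjQ₁ s h1 y' (hTQ₁ hy'),
            Subgroup.mul_mem _ (Subgroup.mul_mem _ (hSN hsS) (hTN hy')) (Subgroup.inv_mem _ (hSN hsS))⟩
        have hU : T ⊔ T.map (MulAut.conj s).toMonoidHom ≤ T :=
          le_of_sylow_le T _ (Q.map (MulAut.conj g).toMonoidHom ⊓ Subgroup.normalizer (Q : Set G))
            le_sup_left (sup_le hT (by
              rintro _ ⟨y', hy', rfl⟩
              exact hX y' hy'))
            (hS2.to_le (sup_le hTS (hTs.trans (by rw [hsup]; exact inf_le_left)))) hTsyl'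
        exact hU (Subgroup.mem_sup_right ⟨y, hy, rfl⟩)
      have h5 := card_mul_le_card_sup_of_inf_eq_bot _ _ hdisj
      rw [Subgroup.card_map_of_injective (MulAut.conj s).injective] at h5
      have h6 : Nat.card (T.map (MulAut.conj s).toMonoidHom ⊔ T : Subgroup G)
          ≤ Nat.card (T ⊔ (S ⊓ Subgroup.normalizer (T : Set G) ⊓ Q) : Subgroup G) :=
        Subgroup.card_le_of_le (sup_le hTs le_sup_left)
      have hTpos : 0 < Nat.card T := Nat.card_pos
      exact Nat.le_of_mul_le_mul_left (h5.trans (h6.trans hTRle)) hTpos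
  have hinj : ∃ ψ : ↥(S ⊓ Subgroup.normalizer (T : Set G) ⊓ Q) →* ↥T, Function.Injective ψ := by
    by_cases hcase : 2 ∣ T.relIndex (Q.map (MulAut.conj g).toMonoidHom)
    · have hRnormQ₁ : S ⊓ Subgroup.normalizer (T : Set G) ⊓ Q
          ≤ Subgroup.normalizer ((Q.map (MulAut.conj g).toMonoidHom : Subgroup G) : Set G) := by
        intro r hr
        apply Subgroup.mem_normalizer_fintype
        intro y hy
        exact hconjQ₁ r (hNT r (hRNT hr)) y hy
      have hTR2 : IsPGroup 2 (T ⊔ (S ⊓ Subgroup.normalizer (T : Set G) ⊓ Q) : Subgroup G) :=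
        hS2.to_le (sup_le hTS hRS)
      obtain ⟨U, hTRU, hUW, hU2, hUsyl⟩ :=
        exists_sylow_ge (Q.map (MulAut.conj g).toMonoidHom ⊔ (S ⊓ Subgroup.normalizer (T : Set G) ⊓ Q))
          (T ⊔ (S ⊓ Subgroup.normalizer (T : Set G) ⊓ Q)) hTR2
          (sup_le (hTQ₁.trans le_sup_left) le_sup_right)
      have hUQ₁ : ¬ 2 ∣ (U ⊓ Q.map (MulAut.conj g).toMonoidHom).relIndex (Q.map (MulAut.conj g).toMonoidHom) :=
        sylow_inf_of_le_normalizer _ _ U hRnormQ₁ hUW hUsyl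
      obtain ⟨v, hv, hvT⟩ : ∃ v ∈ U ⊓ Q.map (MulAut.conj g).toMonoidHom, v ∉ T := by
        by_contra h
        push Not at h
        have heq : U ⊓ Q.map (MulAut.conj g).toMonoidHom = T :=
          le_antisymm h (le_inf (le_sup_left.trans hTRU) hTQ₁)
        rw [heq] at hUQ₁
        exact hUQ₁ hcase
      have hRQ₁triv : ∀ r ∈ S ⊓ Subgroup.normalizer (T : Set G) ⊓ Q,
          r ∈ Q.map (MulAut.conj g).toMonoidHom → r = 1 := by
        intro r hr hrQ₁
        by_contra hr1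
        obtain ⟨k, hk⟩ := h2elt r (hRS hr)
        exact hg (ti_elt Q hQ r g k hk hr1 (hRQ hr) ((hmemQ₁ r).mp hrQ₁))
      have hvTR : v ∉ T ⊔ (S ⊓ Subgroup.normalizer (T : Set G) ⊓ Q) := by
        intro h
        obtain ⟨t, ht, r, hr, rfl⟩ := exists_mul_of_mem_sup_right T _ hRNT h
        have hrQ₁ : r ∈ Q.map (MulAut.conj g).toMonoidHom := by
          have := Subgroup.mul_mem _ (Subgroup.inv_mem _ (hTQ₁ ht)) hv.2
          simpa using this
        rw [hRQ₁triv r hr hrQ₁, mul_one] at hvT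
        exact hvT ht
      obtain ⟨u, huU, huTR, huN⟩ := exists_normalizer_not_mem U
        (T ⊔ (S ⊓ Subgroup.normalizer (T : Set G) ⊓ Q)) hU2 ⟨v, hv.1, hvTR⟩ hTRU
      obtain ⟨x, hxQ₁, r₀, hr₀, rfl⟩ := exists_mul_of_mem_sup_right _ _ hRnormQ₁ (hUW huU)
      have hr₀TR : r₀ ∈ T ⊔ (S ⊓ Subgroup.normalizer (T : Set G) ⊓ Q) := Subgroup.mem_sup_right hr₀
      have hxU : x ∈ U := by
        have := U.mul_mem huU (U.inv_mem (hTRU hr₀TR))
        simpa using this
      have hxN : x ∈ Subgroup.normalizer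
          ((T ⊔ (S ⊓ Subgroup.normalizer (T : Set G) ⊓ Q) : Subgroup G) : Set G) := by
        have := Subgroup.mul_mem _ huN (Subgroup.inv_mem _ (Subgroup.le_normalizer hr₀TR))
        simpa using this
      have hxTR : x ∉ T ⊔ (S ⊓ Subgroup.normalizer (T : Set G) ⊓ Q) :=
        fun h => huTR (Subgroup.mul_mem _ h hr₀TR)
      have hxNQ : x ∉ Subgroup.normalizer (Q : Set G) := by
        intro hxN'
        have hle : T ⊔ Subgroup.zpowers x ≤ T :=
          le_of_sylow_le T _ (Q.map (MulAut.conj g).toMonoidHom ⊓ Subgroup.normalizer (Q : Set G))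
            le_sup_left (sup_le hT (by
              rw [Subgroup.zpowers_le]; exact Subgroup.mem_inf.mpr ⟨hxQ₁, hxN'⟩))
            (hU2.to_le (sup_le (le_sup_left.trans hTRU) (by rw [Subgroup.zpowers_le]; exact hxU)))
            hTsyl'
        exact hxTR (Subgroup.mem_sup_left (hle (Subgroup.mem_sup_right (Subgroup.mem_zpowers x))))
      obtain ⟨π, hπ⟩ := exists_proj T (S ⊓ Subgroup.normalizer (T : Set G) ⊓ Q) hTR hcomm
      have hxr : ∀ r : ↥(S ⊓ Subgroup.normalizer (T : Set G) ⊓ Q),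
          ((MulAut.conj x).toMonoidHom.comp (S ⊓ Subgroup.normalizer (T : Set G) ⊓ Q).subtype) r
            ∈ T ⊔ (S ⊓ Subgroup.normalizer (T : Set G) ⊓ Q) :=
        fun r => (Subgroup.mem_normalizer_iff.mp hxN r).mp (Subgroup.mem_sup_right r.2)
      refine ⟨π.comp (((MulAut.conj x).toMonoidHom.comp
        (S ⊓ Subgroup.normalizer (T : Set G) ⊓ Q).subtype).codRestrict _ hxr), ?_⟩
      rw [injective_iff_map_eq_one]
      intro r hr
      have h1 : x * (r : G) * x⁻¹ ∈ S ⊓ Subgroup.normalizer (T : Set G) ⊓ Q := by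
        have := hπ ((((MulAut.conj x).toMonoidHom.comp
          (S ⊓ Subgroup.normalizer (T : Set G) ⊓ Q).subtype).codRestrict _ hxr) r)
        rw [show π ((((MulAut.conj x).toMonoidHom.comp
          (S ⊓ Subgroup.normalizer (T : Set G) ⊓ Q).subtype).codRestrict _ hxr) r) = 1 from hr] at this
        simpa using this
      apply Subtype.ext
      show (r : G) = 1
      by_contra hr1
      obtain ⟨k, hk⟩ := h2elt _ (hRS h1)
      apply hxNQ
      apply ti_elt Q hQ (x * (r : G) * x⁻¹) x k hk (by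
        intro h
        apply hr1
        have e : (r : G) = x⁻¹ * (x * (r : G) * x⁻¹) * x := by group
        rw [e, h]; group) (hRQ h1) (by
        have e : x⁻¹ * (x * (r : G) * x⁻¹) * x = r := by group
        rw [e]; exact hRQ r.2)
    · have hRQ₁ : (S ⊓ Subgroup.normalizer (T : Set G) ⊓ Q).map (MulAut.conj g).toMonoidHom
          ≤ Q.map (MulAut.conj g).toMonoidHom := Subgroup.map_mono hRQ
      obtain ⟨m, hm, hmR⟩ := exists_conj_le_of_not_dvd_relIndex (Q.map (MulAut.conj g).toMonoidHom) T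
        ((S ⊓ Subgroup.normalizer (T : Set G) ⊓ Q).map (MulAut.conj g).toMonoidHom) hT2 hcase hRQ₁
        ((hS2.to_le hRS).map _)
      refine ⟨((MulAut.conj (m * g)).toMonoidHom.comp
        (S ⊓ Subgroup.normalizer (T : Set G) ⊓ Q).subtype).codRestrict T (by
          intro r
          have := hmR (g * r * g⁻¹) ⟨r, r.2, rfl⟩
          show m * g * r * (m * g)⁻¹ ∈ T
          have e : m * g * (r : G) * (m * g)⁻¹ = m * (g * r * g⁻¹) * m⁻¹ := by group
          rw [e]; exact this), ?_⟩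
      intro r₁ r₂ h
      have h' := congrArg Subtype.val h
      have h'' : m * g * (r₁ : G) * (m * g)⁻¹ = m * g * (r₂ : G) * (m * g)⁻¹ := h'
      apply Subtype.ext
      exact mul_left_cancel (mul_right_cancel h'')
  obtain ⟨ψ, hψ⟩ := hinj
  have hbij : Function.Bijective ψ := hψ.bijective_of_nat_card_le hcardTR
  exact ⟨MulEquiv.ofBijective ψ hbij⟩

end Cfsg.Agent.S1910
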