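import Cfsg.Statements.S1921
import Mathlib
import Cfsg.Agent.Lib.Helper30.Basic
import Cfsg.Agent.Lib.Helper30.Cores
import Cfsg.Agent.Lib.Helper41.PSub

set_option autoImplicit false
open Cfsg

namespace Cfsg.Agent.S1921

open Cfsg.Agent.Lib.Helper30

/-- Let a be an involution of a finite group H and L a component of H with a L a⁻¹ ≠ L; put M = ⟨L, aLa⁻¹⟩ and let J be the subgroup generated by the elements x · a x a⁻¹ with x ∈ L (the diagonal). Then every element of M outside J·Z(M) generates M together with J. -/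
theorem result {H : Type*} [Group H] [Finite H] (a : H) (ha : orderOf a = 2) (L : Subgroup H) (hL : Cfsg.IsComponent L)
    (hLa : L.map (MulAut.conj a).toMonoidHom ≠ L) (x : H) (hxM : x ∈ L ⊔ L.map (MulAut.conj a).toMonoidHom)
    (hxJ : x ∉ Subgroup.closure {y : H | ∃ l ∈ L, y = l * (a * l * a⁻¹)} ⊔
      ((L ⊔ L.map (MulAut.conj a).toMonoidHom) ⊓ Subgroup.centralizer ((L ⊔ L.map (MulAut.conj a).toMonoidHom : Subgroup H) : Set H))) :
    Subgroup.closure {y : H | ∃ l ∈ L, y = l * (a * l * a⁻¹)} ⊔ Subgroup.zpowers x = L ⊔ L.map (MulAut.conj a).toMonoidHom := by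
  classical
  have hLa' : Cfsg.IsComponent (L.map (MulAut.conj a).toMonoidHom) :=
    isComponent_map_equiv (MulAut.conj a) hL
  have hcomm : ∀ l ∈ L, ∀ m ∈ L.map (MulAut.conj a).toMonoidHom, l * m = m * l :=
    commute_of_commutator_eq_bot (components_commute hL hLa' (Ne.symm hLa))
  have hconj : ∀ l ∈ L, a * l * a⁻¹ ∈ L.map (MulAut.conj a).toMonoidHom :=
    fun l hl => ⟨l, hl, rfl⟩
  have hJgen : ∀ l ∈ L, l * (a * l * a⁻¹) ∈ Subgroup.closure {y : H | ∃ l ∈ L, y = l * (a * l * a⁻¹)} :=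
    fun l hl => Subgroup.subset_closure ⟨l, hl, rfl⟩
  have hLaN : L.map (MulAut.conj a).toMonoidHom ≤ Subgroup.normalizer (L : Set H) := by
    intro m hm
    rw [Subgroup.mem_normalizer_iff]
    intro l
    constructor
    · intro hl
      have : m * l * m⁻¹ = l := by rw [← hcomm l hl m hm]; group
      rw [this]; exact hl
    · intro hl
      have h := hcomm _ hl m hm
      have h' : m * l = m * (m * l * m⁻¹) := by rw [← h]; group
      have : l = m * l * m⁻¹ := mul_left_cancel h'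
      rw [this]; exact hl
  obtain ⟨l₁, hl₁, m, hm, rfl⟩ := Cfsg.Agent.Lib.Helper41.exists_mul_of_mem_sup_right L _ hLaN hxM
  obtain ⟨l₂, hl₂, rfl⟩ := hm
  have hm' : a * l₂ * a⁻¹ ∈ L.map (MulAut.conj a).toMonoidHom := hconj l₂ hl₂
  have hxe : l₁ * (MulAut.conj a).toMonoidHom l₂ = l₂ * (a * l₂ * a⁻¹) * (l₂⁻¹ * l₁) := by
    show l₁ * (a * l₂ * a⁻¹) = l₂ * (a * l₂ * a⁻¹) * (l₂⁻¹ * l₁)
    have h1 := hcomm l₂⁻¹ (L.inv_mem hl₂) _ hm'
    have h2 := hcomm l₁ hl₁ _ hm'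
    calc l₁ * (a * l₂ * a⁻¹) = (a * l₂ * a⁻¹) * l₁ := h2
      _ = l₂ * (l₂⁻¹ * (a * l₂ * a⁻¹)) * l₁ := by group
      _ = l₂ * ((a * l₂ * a⁻¹) * l₂⁻¹) * l₁ := by rw [h1]
      _ = l₂ * (a * l₂ * a⁻¹) * (l₂⁻¹ * l₁) := by group
  rw [hxe] at hxJ ⊢
  have hy : l₂⁻¹ * l₁ ∈ L := L.mul_mem (L.inv_mem hl₂) hl₁
  -- the element y = l₂⁻¹ * l₁ lies in J ⊔ ⟨x⟩
  have hyK : l₂⁻¹ * l₁ ∈ Subgroup.closure {y : H | ∃ l ∈ L, y = l * (a * l * a⁻¹)}
      ⊔ Subgroup.zpowers (l₂ * (a * l₂ * a⁻¹) * (l₂⁻¹ * l₁)) := by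
    have h0 : (l₂ * (a * l₂ * a⁻¹))⁻¹ * (l₂ * (a * l₂ * a⁻¹) * (l₂⁻¹ * l₁))
        ∈ Subgroup.closure {y : H | ∃ l ∈ L, y = l * (a * l * a⁻¹)}
          ⊔ Subgroup.zpowers (l₂ * (a * l₂ * a⁻¹) * (l₂⁻¹ * l₁)) :=
      Subgroup.mul_mem _ (Subgroup.mem_sup_left (Subgroup.inv_mem _ (hJgen l₂ hl₂)))
        (Subgroup.mem_sup_right (Subgroup.mem_zpowers _))
    have h1 : (l₂ * (a * l₂ * a⁻¹))⁻¹ * (l₂ * (a * l₂ * a⁻¹) * (l₂⁻¹ * l₁)) = l₂⁻¹ * l₁ := by group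
    rwa [h1] at h0
  -- y is not central in L
  have hyZ : (⟨l₂⁻¹ * l₁, hy⟩ : ↥L) ∉ Subgroup.center ↥L := by
    intro hz
    apply hxJ
    refine Subgroup.mul_mem _ (Subgroup.mem_sup_left (hJgen l₂ hl₂)) (Subgroup.mem_sup_right ?_)
    refine Subgroup.mem_inf.mpr ⟨Subgroup.mem_sup_left hy, ?_⟩
    rw [Subgroup.mem_centralizer_iff]
    have hle : L ⊔ L.map (MulAut.conj a).toMonoidHom ≤ Subgroup.centralizer ({l₂⁻¹ * l₁} : Set H) := by
      apply sup_le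
      · intro l hl
        rw [Subgroup.mem_centralizer_singleton_iff]
        have := Subgroup.mem_center_iff.mp hz ⟨l, hl⟩
        exact congrArg Subtype.val this
      · intro m hm
        rw [Subgroup.mem_centralizer_singleton_iff]
        exact (hcomm _ hy m hm).symm
    intro z hz'
    exact (Subgroup.mem_centralizer_singleton_iff.mp (hle hz'))
  -- the normal closure of y in L is L
  have hnc : Subgroup.normalClosure ({(⟨l₂⁻¹ * l₁, hy⟩ : ↥L)} : Set ↥L) = ⊤ := by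
    rcases qs_normal_eq_top_or_le_center hL.2
      (Subgroup.normalClosure ({(⟨l₂⁻¹ * l₁, hy⟩ : ↥L)} : Set ↥L)) with h | h
    · exact h
    · exact absurd (h (Subgroup.subset_normalClosure (Set.mem_singleton _))) hyZ
  have hLK : L ≤ Subgroup.closure {y : H | ∃ l ∈ L, y = l * (a * l * a⁻¹)}
      ⊔ Subgroup.zpowers (l₂ * (a * l₂ * a⁻¹) * (l₂⁻¹ * l₁)) := by
    have hle : Subgroup.normalClosure ({(⟨l₂⁻¹ * l₁, hy⟩ : ↥L)} : Set ↥L)
        ≤ (Subgroup.closure {y : H | ∃ l ∈ L, y = l * (a * l * a⁻¹)}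
          ⊔ Subgroup.zpowers (l₂ * (a * l₂ * a⁻¹) * (l₂⁻¹ * l₁))).subgroupOf L := by
      unfold Subgroup.normalClosure
      rw [Subgroup.closure_le]
      intro z hz
      rw [Group.mem_conjugatesOfSet_iff] at hz
      obtain ⟨b, hb, hbz⟩ := hz
      rw [Set.mem_singleton_iff] at hb
      subst hb
      obtain ⟨c, hc⟩ := isConj_iff.mp hbz
      rw [SetLike.mem_coe, Subgroup.mem_subgroupOf, ← hc]
      show (c : H) * (l₂⁻¹ * l₁) * (c : H)⁻¹ ∈ _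
      have h1 := hcomm _ hy _ (hconj c c.2)
      have h2 : (c : H) * (l₂⁻¹ * l₁) * (c : H)⁻¹
          = ((c : H) * (a * c * a⁻¹)) * (l₂⁻¹ * l₁) * ((c : H) * (a * c * a⁻¹))⁻¹ := by
        calc (c : H) * (l₂⁻¹ * l₁) * (c : H)⁻¹
            = (c : H) * ((l₂⁻¹ * l₁) * (a * c * a⁻¹)) * (a * c * a⁻¹)⁻¹ * (c : H)⁻¹ := by group
          _ = (c : H) * ((a * c * a⁻¹) * (l₂⁻¹ * l₁)) * (a * c * a⁻¹)⁻¹ * (c : H)⁻¹ := by rw [h1]
          _ = _ := by group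
      rw [h2]
      exact Subgroup.mul_mem _ (Subgroup.mul_mem _ (Subgroup.mem_sup_left (hJgen c c.2)) hyK)
        (Subgroup.inv_mem _ (Subgroup.mem_sup_left (hJgen c c.2)))
    intro l hl
    have : (⟨l, hl⟩ : ↥L) ∈ Subgroup.normalClosure ({(⟨l₂⁻¹ * l₁, hy⟩ : ↥L)} : Set ↥L) := by
      rw [hnc]; trivial
    exact Subgroup.mem_subgroupOf.mp (hle this)
  apply le_antisymm
  · apply sup_le
    · rw [Subgroup.closure_le]
      rintro _ ⟨l, hl, rfl⟩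
      exact Subgroup.mul_mem _ (Subgroup.mem_sup_left hl) (Subgroup.mem_sup_right (hconj l hl))
    · rw [Subgroup.zpowers_le]
      exact Subgroup.mul_mem _ (Subgroup.mul_mem _ (Subgroup.mem_sup_left hl₂)
        (Subgroup.mem_sup_right hm')) (Subgroup.mem_sup_left hy)
  · apply sup_le hLK
    rintro _ ⟨l, hl, rfl⟩
    show a * l * a⁻¹ ∈ _
    have h1 : a * l * a⁻¹ = l⁻¹ * (l * (a * l * a⁻¹)) := by group
    rw [h1]
    exact Subgroup.mul_mem _ (hLK (L.inv_mem hl)) (Subgroup.mem_sup_left (hJgen l hl))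

end Cfsg.Agent.S1921
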