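import Cfsg.Statements.S1922
import Cfsg.Agent.Lib.Helper41.IsoInv

set_option autoImplicit false
open Cfsg

namespace Cfsg.Agent.S1922

open Cfsg.Agent.Lib.Helper41 in
/-- Let z be an involution of a finite group G and H a proper subgroup such that z lies in gHg⁻¹ exactly when g ∈ H. Then the following are equivalent: (1) for every conjugate t ≠ z of z commuting with z, the product zt lies in gHg⁻¹ exactly when g ∈ H; (2) z lies in the centre of some Sylow 2-subgroup of G, and for every conjugate t ≠ z of z commuting with z, the centralizer of zt is contained in H. -/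
theorem result {G : Type*} [Group G] [Finite G] (z : G) (hz : orderOf z = 2) (H : Subgroup G) (hH : H ≠ ⊤)
    (h0 : ∀ g : G, z ∈ H.map (MulAut.conj g).toMonoidHom ↔ g ∈ H) :
    (∀ t : G, IsConj z t → t ≠ z → t * z = z * t → ∀ g : G, z * t ∈ H.map (MulAut.conj g).toMonoidHom ↔ g ∈ H) ↔
      ((∃ P : Sylow 2 G, z ∈ (Subgroup.center ↥(P : Subgroup G)).map (P : Subgroup G).subtype) ∧
        ∀ t : G, IsConj z t → t ≠ z → t * z = z * t → Subgroup.centralizer ({z * t} : Set G) ≤ H) := by
  have hp2 : Fact (Nat.Prime 2) := ⟨Nat.prime_two⟩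
  have h0' : ∀ g : G, g⁻¹ * z * g ∈ H ↔ g ∈ H := fun g => by
    rw [← mem_map_conj_iff]; exact h0 g
  have hzz : z * z = 1 := by rw [← pow_two, ← hz, pow_orderOf_eq_one]
  have hzi : z⁻¹ = z := inv_eq_of_mul_eq_one_left hzz
  have hzH : z ∈ H := by
    have := (h0' 1).2 (one_mem H)
    rwa [inv_one, one_mul, mul_one] at this
  have hCz : ∀ c, c * z = z * c → c ∈ H := by
    intro c hc
    apply (h0' c).1
    have : c⁻¹ * z * c = z := by rw [mul_assoc, ← hc, ← mul_assoc, inv_mul_cancel, one_mul]
    rw [this]; exact hzH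
  constructor
  · intro h1
    have h1' : ∀ t : G, IsConj z t → t ≠ z → t * z = z * t →
        ∀ g : G, g⁻¹ * (z * t) * g ∈ H ↔ g ∈ H := fun t ht hne hc g => by
      rw [← mem_map_conj_iff]; exact h1 t ht hne hc g
    constructor
    · have hodd := isolated_odd_class_aux (Nat.card G) G rfl z H hz hH h0' h1'
      rw [Cfsg.Agent.Lib.Helper23.card_isConj_eq_index] at hodd
      have hmemC : ∀ x, x ∈ Subgroup.centralizer ({z} : Set G) ↔ x * z = z * x := by
        intro x; rw [Subgroup.mem_centralizer_iff]; simp [eq_comm]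
      have hZ2 : IsPGroup 2 (Subgroup.zpowers z) := by
        apply IsPGroup.of_card (n := 1)
        rw [Nat.card_zpowers, hz, pow_one]
      obtain ⟨T', hzT', hT'C, hT'2, hT'idx⟩ := exists_sylow_ge (Subgroup.centralizer ({z} : Set G))
        (Subgroup.zpowers z) hZ2 (by rw [Subgroup.zpowers_le]; exact (hmemC z).2 rfl)
      have hzT : z ∈ T' := hzT' (Subgroup.mem_zpowers z)
      have hidx : ¬ 2 ∣ T'.index := by
        rw [← Subgroup.relIndex_mul_index hT'C]
        intro h
        rcases (Nat.Prime.dvd_mul Nat.prime_two).1 h with h | h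
        · exact hT'idx h
        · exact hodd h
      refine ⟨hT'2.toSylow hidx, ?_⟩
      have hzP' : z ∈ ((hT'2.toSylow hidx : Sylow 2 G) : Subgroup G) := hzT
      refine ⟨⟨z, hzP'⟩, ?_, rfl⟩
      rw [SetLike.mem_coe, Subgroup.mem_center_iff]
      intro g
      apply Subtype.ext
      have hg : (g : G) ∈ T' := g.2
      exact (hmemC g.1).1 (hT'C hg)
    · intro t ht hne hc c hcc
      have hc' : (z * t) * c = c * (z * t) := Subgroup.mem_centralizer_iff.1 hcc (z * t) rfl
      apply (h1' t ht hne hc c).1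
      have : c⁻¹ * (z * t) * c = z * t := by
        rw [mul_assoc, hc', ← mul_assoc, inv_mul_cancel, one_mul]
      rw [this]
      have := (h1' t ht hne hc 1).2 (one_mem H)
      rwa [inv_one, one_mul, mul_one] at this
  · rintro ⟨⟨P, hP⟩, h2⟩ t ht hne hc g
    rw [mem_map_conj_iff]
    obtain ⟨z', hz'c, hz'eq⟩ := hP
    have hzP : z ∈ (P : Subgroup G) := by rw [← hz'eq]; exact z'.2
    have hPz : ∀ p ∈ (P : Subgroup G), p * z = z * p := by
      intro p hp
      rw [← hz'eq]
      exact congrArg Subtype.val (Subgroup.mem_center_iff.1 hz'c ⟨p, hp⟩)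
    have hPH : (P : Subgroup G) ≤ H := fun p hp => hCz p (hPz p hp)
    have htH : t ∈ H := hCz t hc
    have htt : t * t = 1 := by
      obtain ⟨c, hc'⟩ := isConj_iff.1 ht
      rw [← hc']
      calc c * z * c⁻¹ * (c * z * c⁻¹) = c * (z * z) * c⁻¹ := by group
        _ = 1 := by rw [hzz]; group
    have huu : (z * t) * (z * t) = 1 := by
      calc z * t * (z * t) = z * (t * z) * t := by group
        _ = z * (z * t) * t := by rw [hc]
        _ = (z * z) * (t * t) := by group
        _ = 1 := by rw [hzz, htt, one_mul]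
    have hu1 : z * t ≠ 1 := by
      intro h
      apply hne
      have : t = z⁻¹ := eq_inv_of_mul_eq_one_right h
      rw [this, hzi]
    constructor
    · intro hu
      set u' := g⁻¹ * (z * t) * g with hu'
      have hu'2 : orderOf u' = 2 := by
        refine orderOf_eq_prime ?_ ?_
        · rw [pow_two, hu']
          calc g⁻¹ * (z * t) * g * (g⁻¹ * (z * t) * g) = g⁻¹ * ((z * t) * (z * t)) * g := by group
            _ = 1 := by rw [huu]; group
        · intro h
          apply hu1
          calc z * t = g * u' * g⁻¹ := by rw [hu']; group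
            _ = 1 := by rw [h]; group
      have hZu : IsPGroup 2 (Subgroup.zpowers u') := by
        apply IsPGroup.of_card (n := 1)
        rw [Nat.card_zpowers, hu'2, pow_one]
      obtain ⟨h, hhH, hh⟩ := exists_conj_mem_sylow_of_mem P H hPH u' hu hZu
      have h3 := hPz _ hh
      have h4 : (h * g⁻¹)⁻¹ * z * (h * g⁻¹) ∈ Subgroup.centralizer ({z * t} : Set G) := by
        rw [Subgroup.mem_centralizer_iff]
        intro x hx
        rw [Set.mem_singleton_iff] at hx
        subst hx
        have h5 : h * u' * h⁻¹ = (h * g⁻¹) * (z * t) * (h * g⁻¹)⁻¹ := by rw [hu']; group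
        rw [h5] at h3
        generalize h * g⁻¹ = k at h3 ⊢
        generalize z * t = v at h3 ⊢
        calc v * (k⁻¹ * z * k) = k⁻¹ * ((k * v * k⁻¹) * z) * k := by group
          _ = k⁻¹ * (z * (k * v * k⁻¹)) * k := by rw [h3]
          _ = k⁻¹ * z * k * v := by group
      have h6 : h * g⁻¹ ∈ H := (h0' _).1 (h2 t ht hne hc h4)
      have h7 : g⁻¹ ∈ H := by
        have := H.mul_mem (H.inv_mem hhH) h6
        rwa [← mul_assoc, inv_mul_cancel, one_mul] at this
      exact (inv_mem_iff).1 h7
    · intro hg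
      exact H.mul_mem (H.mul_mem (H.inv_mem hg) (H.mul_mem hzH htH)) hg

end Cfsg.Agent.S1922
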