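import Cfsg.Statements.S1946
import Mathlib
import Cfsg.Agent.S0071
import Cfsg.Agent.Lib.Helper2.PNilp
import Cfsg.Agent.Lib.Helper41.Crit

set_option autoImplicit false
open Cfsg

namespace Cfsg.Agent.S1946

open Cfsg.Agent.Lib.Helper41
open scoped commutatorElement

/-- A subgroup of a `p`-subgroup `P` which is contained in `⁅K, P⁆` whenever it is contained in
`K` is trivial. -/
theorem eq_bot_of_le_commutator {G : Type*} [Group G] [Finite G] {p : ℕ} [Fact p.Prime]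
    (P : Subgroup G) (hP : IsPGroup p P) (D : Subgroup G) (hDP : D ≤ P)
    (h : ∀ K : Subgroup G, D ≤ K → D ≤ ⁅K, P⁆) : D = ⊥ := by
  have hL : ∀ n : ℕ, D ≤ P.lowerCentralSeries n := by
    intro n
    induction n with
    | zero => exact hDP
    | succ n ih => exact h _ ih
  have hnil : Group.IsNilpotent ↥P := hP.isNilpotent
  obtain ⟨n, hn⟩ := (Subgroup.isNilpotent_iff_lowerCentralSeries P).mp hnil
  have := hL n
  rw [hn] at this
  exact le_bot_iff.mp this

/-- A normal complement to one Sylow `p`-subgroup is a complement to every Sylow `p`-subgroup. -/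
theorem complement_of_hasNormalPComplement {G : Type*} [Group G] [Finite G] {p : ℕ} [Fact p.Prime]
    (h : Cfsg.HasNormalPComplement p G) (P : Sylow p G) :
    ∃ N : Subgroup G, N.Normal ∧ N.IsComplement' (P : Subgroup G) := by
  have hp : p.Prime := Fact.out
  obtain ⟨P', N, hN, hc⟩ := h
  have := hN
  refine ⟨N, hN, ?_⟩
  obtain ⟨k, hk⟩ := IsPGroup.iff_card.mp P'.isPGroup'
  have hk' : Nat.card (P' : Subgroup G) = p ^ k := hk
  have hidx : N.index = p ^ k := by rw [hc.symm.index_eq_card, hk']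
  have hcop : Nat.Coprime (Nat.card N) p := by
    rw [← hc.index_eq_card, Nat.coprime_comm, Nat.Prime.coprime_iff_not_dvd hp]
    exact P'.not_dvd_index
  exact Cfsg.Agent.Lib.Helper2.isComplement'_of_normal_coprime_index_pow P N hcop hidx

theorem result {G : Type*} [Group G] [Finite G] {p : ℕ} [Fact p.Prime] (P : Sylow p G) :
    Cfsg.HasNormalPComplement p G ↔
      ∀ a ∈ (P : Subgroup G), (a ^ p = 1 ∨ (p = 2 ∧ a ^ 4 = 1)) → ∀ g : G, g * a * g⁻¹ ∈ (P : Subgroup G) →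
        ∃ x ∈ (P : Subgroup G), g * a * g⁻¹ = x * a * x⁻¹ := by
  constructor
  · intro h a ha _ g hg
    obtain ⟨N, hN, hc⟩ := complement_of_hasNormalPComplement h P
    obtain ⟨⟨⟨n, hn⟩, ⟨x, hx⟩⟩, hnx⟩ := hc.2 g
    have hnx' : n * x = g := hnx
    refine ⟨x, hx, ?_⟩
    have hb : x * a * x⁻¹ ∈ (P : Subgroup G) :=
      Subgroup.mul_mem _ (Subgroup.mul_mem _ hx ha) (Subgroup.inv_mem _ hx)
    have hg' : n * (x * a * x⁻¹) * n⁻¹ ∈ (P : Subgroup G) := by
      have : n * (x * a * x⁻¹) * n⁻¹ = g * a * g⁻¹ := by rw [← hnx']; group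
      rw [this]; exact hg
    have h1 : n * (x * a * x⁻¹) * n⁻¹ * (x * a * x⁻¹)⁻¹ ∈ N := by
      have : n * (x * a * x⁻¹) * n⁻¹ * (x * a * x⁻¹)⁻¹
          = n * ((x * a * x⁻¹) * n⁻¹ * (x * a * x⁻¹)⁻¹) := by group
      rw [this]
      exact N.mul_mem hn (hN.conj_mem _ (N.inv_mem hn) _)
    have h2 : n * (x * a * x⁻¹) * n⁻¹ * (x * a * x⁻¹)⁻¹ ∈ (P : Subgroup G) :=
      Subgroup.mul_mem _ hg' (Subgroup.inv_mem _ hb)
    have h3 : n * (x * a * x⁻¹) * n⁻¹ * (x * a * x⁻¹)⁻¹ = 1 := by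
      have hd : Disjoint N (P : Subgroup G) := hc.disjoint
      have : n * (x * a * x⁻¹) * n⁻¹ * (x * a * x⁻¹)⁻¹ ∈ N ⊓ (P : Subgroup G) :=
        Subgroup.mem_inf.mpr ⟨h1, h2⟩
      rw [hd.eq_bot] at this
      exact Subgroup.mem_bot.mp this
    have h4 : n * (x * a * x⁻¹) * n⁻¹ = x * a * x⁻¹ := mul_inv_eq_one.mp h3
    rw [← h4, ← hnx']; group
  · intro h
    obtain ⟨N, hN, hc⟩ := (Cfsg.Agent.S0071.result P).mpr (by
      intro Q hQ g hg hcop
      by_contra hnc
      obtain ⟨D, hDQ, hDinv, hDgen, hDexp, hDne⟩ :=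
        exists_crit_sub Q (P.isPGroup'.to_le hQ) g hg hcop hnc
      apply hDne
      apply eq_bot_of_le_commutator (P : Subgroup G) P.isPGroup' D (hDQ.trans hQ)
      intro K hK
      refine hDgen.trans ?_
      rw [Subgroup.closure_le]
      rintro _ ⟨d, hd, rfl⟩
      obtain ⟨x, hx, hxe⟩ := h d (hQ (hDQ hd)) (hDexp d hd) g (hQ (hDQ (hDinv d hd)))
      have : d⁻¹ * (g * d * g⁻¹) = ⁅d⁻¹, x⁆ := by
        rw [hxe, commutatorElement_def]; group
      rw [this]
      exact Subgroup.commutator_mem_commutator (hK (D.inv_mem hd)) hx)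
    exact ⟨P, N, hN, hc⟩

end Cfsg.Agent.S1946
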