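import Cfsg.Statements.S1953
import Cfsg.Agent.Lib.Helper3.FC4

set_option autoImplicit false
open Cfsg

namespace Cfsg.Agent.S1953

/-- Let p be an odd prime and P a Sylow p-subgroup of the finite group G, and suppose that for no p-subgroup Q of G does N_G(Q)/C_G(Q) have a section isomorphic to SL₂(p). Call a subgroup Q of P centric-radical when Z(Q) is a Sylow p-subgroup of C_G(Q) and the only normal subgroup X of N_G(Q) containing Q·C_G(Q) such that the index of Q·C_G(Q) in X is a power of p is Q·C_G(Q) itself (that is, N_G(Q)/Q·C_G(Q) has no nontrivial normal p-subgroup). Then there is a centric-radical subgroup Q of P contained in every centric-radical subgroup of P; it is normal in P, and N_G(Q) controls strong fusion in P: whenever a subgroup A of P has g A g⁻¹ ≤ P, the element g is a product h c with h in N_G(Q) and c centralizing A. -/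
theorem result {G : Type*} [Group G] [Finite G] {p : ℕ} [Fact p.Prime] (hp : p ≠ 2) (P : Sylow p G)
    (hfree : ∀ Q : Subgroup G, IsPGroup p ↥Q → ¬ ∃ (H K : Subgroup G) (_ : (K.subgroupOf H).Normal),
      Subgroup.centralizer (Q : Set G) ≤ K ∧ K ≤ H ∧ H ≤ Subgroup.normalizer (Q : Set G) ∧
      Nonempty ((↥H ⧸ K.subgroupOf H) ≃* Matrix.SpecialLinearGroup (Fin 2) (ZMod p)))
    (cr : Subgroup G → Prop)
    (hcr : ∀ Q : Subgroup G, cr Q ↔ (Q ≤ (P : Subgroup G) ∧
      (∃ R : Sylow p ↥(Subgroup.centralizer (Q : Set G)),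
        (R : Subgroup ↥(Subgroup.centralizer (Q : Set G))).map (Subgroup.centralizer (Q : Set G)).subtype = Q ⊓ Subgroup.centralizer (Q : Set G)) ∧
      ∀ X : Subgroup G, X ≤ Subgroup.normalizer (Q : Set G) →
        (∀ n ∈ Subgroup.normalizer (Q : Set G), X.map (MulAut.conj n).toMonoidHom = X) →
        Q ⊔ Subgroup.centralizer (Q : Set G) ≤ X → (∃ k : ℕ, (Q ⊔ Subgroup.centralizer (Q : Set G)).relIndex X = p ^ k) →
        X = Q ⊔ Subgroup.centralizer (Q : Set G))) :
    ∃ Q : Subgroup G, cr Q ∧ (∀ R : Subgroup G, cr R → Q ≤ R) ∧ (∀ x ∈ (P : Subgroup G), Q.map (MulAut.conj x).toMonoidHom = Q) ∧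
      ∀ A : Subgroup G, A ≤ (P : Subgroup G) → ∀ g : G, A.map (MulAut.conj g).toMonoidHom ≤ (P : Subgroup G) →
        ∃ h ∈ Subgroup.normalizer (Q : Set G), ∃ c ∈ Subgroup.centralizer (A : Set G), g = h * c := by
  have hG : Cfsg.Agent.Lib.Helper3.FC.AF p G := ⟨inferInstance, hfree⟩
  obtain ⟨Q₀, hQP, hQ, hmax⟩ := Cfsg.Agent.Lib.Helper3.FC.exists_largest_ctl (P : Subgroup G)
  have hPN := Cfsg.Agent.Lib.Helper3.FC.ctlBy_le_normalizer hQP hQ
  have hcen := Cfsg.Agent.Lib.Helper3.FC.largest_centric hp hG P Q₀ hQP hQ hmax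
  have hrad := Cfsg.Agent.Lib.Helper3.FC.largest_radical P Q₀ hQP hQ hmax hcen
  have hPM : Cfsg.Agent.Lib.Helper42.IsSylIn p (P : Subgroup G)
      (Subgroup.normalizer (Q₀ : Set G)) :=
    (Cfsg.Agent.Lib.Helper42.sylow_isSylIn P).of_le hPN le_top
  have hPC : Cfsg.Agent.Lib.Helper42.IsSylIn p
      ((P : Subgroup G) ⊓ Subgroup.centralizer (Q₀ : Set G))
      (Subgroup.centralizer (Q₀ : Set G)) :=
    hPM.inf_normal (Subgroup.centralizer_le_normalizer _)
      (Cfsg.Agent.Lib.Helper42.normalizer_le_normalizer_centralizer Q₀)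
  have hZeq : (P : Subgroup G) ⊓ Subgroup.centralizer (Q₀ : Set G) =
      Q₀ ⊓ Subgroup.centralizer (Q₀ : Set G) :=
    le_antisymm (le_inf hcen inf_le_right) (inf_le_inf_right _ hQP)
  rw [hZeq] at hPC
  have hcrQ : cr Q₀ := by
    rw [hcr]
    exact ⟨hQP, (Cfsg.Agent.Lib.Helper3.FC.isSylIn_iff_sylow _ _ inf_le_right).mpr hPC,
      fun X hXM hXinv hle hidx => hrad X hXM hXinv hle hidx⟩
  refine ⟨Q₀, hcrQ, ?_, ?_, ?_⟩
  · intro R hR
    rw [hcr] at hR
    obtain ⟨hRP, hRc, hRr⟩ := hR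
    exact Cfsg.Agent.Lib.Helper3.FC.ctl_le_of_cr P Q₀ R hQP hQ hRP
      ((Cfsg.Agent.Lib.Helper3.FC.isSylIn_iff_sylow _ _ inf_le_right).mp hRc) hRr
  · intro x hx
    exact Cfsg.Agent.Lib.Helper42.cj_eq_of_mem_normalizer (hPN hx)
  · intro A hA g hgA
    exact hQ A g hA hgA

end Cfsg.Agent.S1953
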