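import Cfsg.Statements.S2065
import Cfsg.Agent.Lib.Helper70.J1Cent

set_option autoImplicit false
open Cfsg

namespace Cfsg.Agent.S2065

open Cfsg.Agent.Lib.Helper70.J1 Cfsg.Spor

/-! ### Certificate data (generated) -/

def APB : ℕ := 0x10000000100000001000000010000000100000001000000016438a962981963752a5595a662722612283159a2815229512a8988aa994710903671910937190225182836a3246418084423330846034a19048882388489034336478a32461019071635727584088477a50786500057173467929834965445a25267aa44714977007949702406a144997479020a2197572617214931512a40235390a4138324773713176935533929138739423017188197478758a462316889992834324a28a5a2970936306aa872738410403a0272a93138196882a2271994081266840556a39366327a97386a62840523a149334199201328475450392a12567819856344946380927a26530537a23149a63435070a9286339671a8a3812a40189681232967078a48242120431512a9098682717a838074484a9176935388292a68739423940235330a41381247737531769315339292387394a931512a9467a2a79a426477171140049977024072174925149090745050435780064a28757927487965576125287579464a0384726084a13048339338432034886470a8946181207164933803a900234893926194635a887771308111828a099244a9108646275215495a652382619281a62a9a952225965788163923121000000010000000100000001000000010000000100000001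
def cac : ℕ := 0xc
def NUB : ℕ := 0xa704848763574203650677669a5287010767755489394259476915696a669799612988a59a98a59925a25438195223a9538110100188090018908000005079198080000070950009057769a5526a659429619933162a28a59995196788a95998a253a707873763677903660544559152870a045446578982726941000000010000000100000001000000010000000100000001
def NUKB : ℕ := 0xb681efb681efb681ef
def NUcB : ℕ := 0xb47969040
def EIB : ℕ := 0xd968d951528800
def R1B : ℕ := 0x528a1321314488
def Bc : ℕ := 0x31704345370107946354497466434036506432795227552a6
def cbc : ℕ := 0x1
def FPaB : ℕ := 0x200000000000000000000000000000000000000000000000000000000000000000000000000000000000000000000000000000000000000000000000000000000000000000000000000000000000000000000000000000000000000000000000000000000000000000000000000000000000000000000000000000000000000000000000000000000000000000000000000000000000000000000000000000000000000000000000000000000000000000000000000000000000000000000000000000000000000000000000000000000000000000000000000000000000000000000000000000000000000000000000000000000000000000000000000000000000000000000000000000000000000000000000000000000000000000000000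000000000000000000000000000000000000000000000000000000000000000000000000000000000000000000000000000000000000000000000000000000000000000000000000000000000000000000000000000000000000000000000000000000000000000000000000000000000000000000000000000000000000000000000000000000000000000000000000000000000000000000000000000000000000000000000000000000000000000000000000000000000000000000000000000000000000000000000000000000000000000000000000000000000000000000000000000000000000000000000000000000000000000000000000000000000000000000000000000000000000000000000000000000000000000000000000000000000000000000000000000000000000000000000000000000000000000000000000000000000000000000000000000000000000000000000000000000000000000000000000000000000000000000000000000000000000000000000000000000000000000000000000000000000000000000000000000000000000000000000000000000000000000000000000000000000000000000000000000000000000000000000000000000000000000000000000000000000000000000000000000000000000000000000000000000000000000000000000000000000000000000000000000000000000000000000000000000000000000000000000000000000000000000000000000000000000000000000000000000000000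000000000000000000000000000000000000000000000000000000000000000000000000000000000000000000000000000000000000000000000000000000000000000000000000000000000000000000000000000000000000000000000000000000000000000000000000000000000000000000000000000000000000000000000000000000000000000000000000000000000000000000000000000000000000000000000000000000000000000000000000000000000000000000000000000000000000000000000000000000000000000000000000000000000000000000000000000000000000000000000000000000000000000000000000000000000000000000000000000000000000000000000000000000000000000000000000000000000000000000000000000000000000000000000000000000000000000000000000000000000000000000000000000000000000000000000000000000000000000000000000000000000000000000000000000000000000000000000000000000000000000000000000000000000000000000000000000000000000000000000000000000000000000000000000000000000000000000000000000000000000000000000000000000000000000000000000000000000000000000000000000000000000000000000000000000000000000000000000000000000000000000000000000000000000000000000000000000000000000000000000000000000000000000000000000000000000000000000000000000000000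0000000000000000000000000000000000000000000000000000000000000000000000000000000000000000000000000000000000000000000000000000000000000000000000000000000000000000000000000000000000000000000000000000000000000000000000000000000000000000000000000000000000000000000000000000000000000000000000000000000000000000000000000000000000000000000000000000000000000000000000000000000000000000000000000000000000000000000000000000000000000000000000000000000000000000000000000000000000000000000000000000000000000000000000000000000000000000000000000000000000000000000000000000000000000000000000000000000000000000000000000000000000000000000000000000000000000000000000000000000000000000000000000000000000000000000000000000000000000000000000000000000000000000000000000000000000000000000000000000000000000040000000000000000000000000000000000000000000000000000000000000000000000000000000000000000000000000000000000000000000000000000000000000000000000000000000000000000000000000000000000000000000000000000000000000000000000000000000000000000000000000000000000000000000000000000000000000000000000000000000000000000000000000000000000000000000000000000000000000000000000000000000000000000000000000000000000000000000000000000000000000000000000000000000000000000000000000000000000000000000000000000000000000000000000000000000000000000000000000000000000000000000000000000000000000000000000000000000000000000000000000000000000000000000000000000000000000000000000000000000000000000000000000000000000000000000000000000000000000000000000000000000000000000000000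
def FKaB : ℕ := 0xb681ef
def CPaB : ℕ := 0x88c
def CLaB : ℕ := 0x5727584088477a50786500057173467929834965445a25267940235330a41381247737531769315339292387394a93151223330846034a19048882388489034336478a324610190716306aa872738410403a0272a93138196882a227199408126684a900234893926194635a887771308111828a099244a9108646438a962981963752a5595a662722612283159a2815229512a8988aa994710903671910937190225182836a32464180844931512a40235390a41383247737131769355339291387394231512a9098682717a838074484a9176935388292a687394230556a39366327a97386a62840523a14933419920132847545a9467a2a79a426477171140049977024072174925149090740392a12567819856344946380927a26530537a23149a634355050435780064a28757927487965576125287579464a038476275215495a652382619281a62a9a95222596578816392312aa44714977007949702406a144997479020a21975726172143017188197478758a462316889992834324a28a5a2970936326084a13048339338432034886470a8946181207164933803070a9286339671a8a3812a40189681232967078a4824212041000000010000000100000001000000010000000100000001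
def IDXaB : ℕ := 0x488800040780000000000000000000700003460b0028480000000000200000e000000000305001018000000000404000
def SIGB : ℕ := 0x3cd058a5169d454902e60d00
def BAB : ℕ := 0x14449781322639a36921a3aa30485158872288787290887266715382896140aa484043293040a81218189258a23907272176915696a669799612988a59a98a59925a25438195223a9537651766035454865a675463758708874056336685846556a413449a3545188991932107a3689637764963978096686250143a08a34a72377755821831269324933934a15918292345039a63399880a41872334897a947789a98a61853a45932702364387a04971227008102798a96687a28138a06a134295382a97124773868a4522a6882979834822a931518270986830a413451382624302631939102359501618582673442a8a77679585101324087933332804884484885a68a907aa960879038373a93a33a25389a227129703a96584051a372738710703a0249a398311035419129513934a80377297410909841908618246582430202a289a16862505418532313449a63776492676a338a46235533222a3878979931619170936390a4a33897478714809682239102a6950a68358257a479181346796845a8325455363886a4554515467567405688665177554548037587063251588752033492a89958381180722887873a77724aa3692131704345370107946354497466434036506432795227552a6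
def JJB : ℕ := 0x8864298e8482329d2b6be20
def FPbB : ℕ := 0x140000000000000000000000130000000000000000000000000000000000000000000000000000000000000000000000000000000000000000000000000000000000000000000000000000000000000000000000000000000000000120000000000000000000000000000000000000000000000000000000000000000000000000000000000000000000000000000000000000000000000000000000000000000000000000000000000000000000000000000000000000000000000000000000000000000000000000000000000000000000000000000000000000000000000000000000000000000000000000000000000000000000000000000000000000000000000000000000000000000000000000000000000000000000000000000000000000000000000000000000000000000000000000000000004400000000000000000000000000000000000000000000000000000000000000000000000000000000000000000000000000000000000000000000000000000000100000000000000000000000000000000000000000000000000000000000000000000000000000000000000000000000000000000000000000000000000000000000000000000000000000000000000000000000000000000000000000000000000000000000000000000000000000000000000000000003c00000000000000000000000000000000000000000000000000000000000000000000000000000000000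0000000000000000000000000000000000000000000000000000000000000000000000000000000000000000000000000000000000000000000000000000000000000000000000000000000000000000000000000000000000000000000000000000000000000000000000000000000000000000000000000000000000000038000000000000000000000000000000000000000000000000000000000000000000000000000000000000000000000000000000000000000000000000000000000000000000000000000000000000000000000000000000000000000000000000000000000000000000000000000000000000000000000000000000000000000000000000000000000000000000000000000000000000000000000000d00000000000000000000000000000000000000000000000000000000000000000000000000000000000000000000000000000000000000000000000000000000000000000000030000000000000000000000000000000000000000000000000000000000000000000000000000000b0000000000000000000000000000000000000000000000000000000000000000000000000000000000000000000000000000000000000000000000000000000000000000000000002800000000000000000000000000000000000000000000000000000000000000000000000000000000000000000000000000000000000000000000000000000000000000000000000000000000000000000000000000000000000000000000000000000000000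000000000000000000000000000000000000000000000000000000000000000000000000000000000000000000000000000000000000000000000000000000000000000000000000000000000000090000000000000000000000000000000000000000000000000000000000000000000000000000000000000000000000000000000000000000000000000000000000000000000000000000000000000000000000000000000000000000000000000000000000000000000000000000000000000000000000000000000000000000000000000000000000000000000000000000000000000000000000000000000000000000000000000080000000000000000000000000000000000000000000000000000000000000000000000000000000000000000000000000000000000000000000000000000000000000000000000000000000000000000000000000000000000000000000000000001c00000000000000000000000000000000000000000000000000000000000000000000000000000000000000000000000000000000000000000000000000000000001800000000000000000000000000000000000000000000000000000000000000000000000000000000000000000000000000000000000000000000000000000000000000000000000000000000000000000000000000000000000000000000000000000000000000000000000000000000000000000000000000000000000000000000000000000000000000000000000000000000000000000000000000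000000000000000000000000000000000000000000000000000000000000000000000000000000000000000000000000000000000000000000000000000001400000000000000000000000000000000000000000000000000000000000000000000000000000000000000000000000000000000000000000000000000000000000000000000000000000000000000000000000000000001000000000000000000000000c0000000000000000000000000000000000000000000000000000000000000000000000000000000000000000000000000000000000000000000000000000000000000000000000000000000000000000000000000000000000000000000000000000000000000000000000000000000000000000000000000000000000000000000000000000000000000000000000000000000000000000000000000000000000000000000000000000000000000000000000000000000000000000000000000000000000000000000000000000000000000000000000000080000000000000000000000000000000001000000000000000000000000000000000000000000000000000000000000000000000000000000000000000000000000000000000000000000000000000000000000000000000000000000000000000000000000000000000000000000000000000000000000000000000000000000000000000000000000000000000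
def FKbB : ℕ := 0xb78b68afe9d79808e17ff72e6cf69a6395484663e338b2651ef1df0bd0a6
def CPbB : ℕ := 0x52ab1ab8405b2ed91aa2f9ac06c9e4
def CLbB : ℕ := 0x492884843144791a185994951538262038439a8925733aa802995a9628a2632a56249652a23aa7331966621659751998321491425747a71a4004227709404217799617202077a9764123a25643a958298a65946952495a6298395aa981a6225a952249998759557734959676197684648774108736605054148003aa52a2a962995255488a589931962459a5496a5623896a2201223073964158a38a2130182617989958178a78409a9072403a0979193188a26889a924a297031265870511842783710418558948a2290a52483515284754893706990556a34a14933a07438497024a297903a06348a95331a28a37906aa9a92688a996339077337a70941994208a02343a2668aa98a84205aa8588770680864648885635765a576746566106376846456146441423793a969321152a3848108a845539a4793828899845022a576598523219a6a3195222169a643958939a693626a672174717a440072997097071a44926472090421246715a7217292772855432674556227148596777703418866760074051309554787245876473650607229375262646187771035417800487298384959087978a47258218299a1a8680488a138726168589409999a633a3330178972334787a9475a2123162368175514466a76545575430856464651534063440668845853886523284018206658871a729418558013199251524835452847518905528841143271355201812286a59484675984052823789a875659398a289377239a32a164603928031343193747175a7654557543081646465453406344066886585388655144635994421347037776432500366754156592304405a474362631704345370107946354497466434036506432795227552a610000000100000001000000010000000100000001000000013077051352274977578264165699477852513740340085576054a43054929344956748a2695764975875334771004865053374410057173072567787275845078650554292371969546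
def IDXbB : ℕ := 0x7400000000000000000000000000000000000000000001c0000000000000000000000000d800000000000000000000000000000000000000000000000000000000000000000068c80006000000000000000000000000000000170000000000000000000000000000005800000000000000000000000000000000000000000001500000000000000000000000000000000a00004c00000000000000000000000000000120000000000000000000000000000000000000000000000000000000000000000000000000000000000000000000000000000000000000000000000000000000000000000000000000000000000000000000000000000000000000000000000000000000000000000000000000000000000000000000000000000000000000000000000000000000000000000000088000000000000000000000000000000000000000000000000000000000004078000000000000000000000000000000000000000000000000000000000000000000000000000000000000000000000000000000000000000000000000000000000000000000000000000000000000000000000000000000000000000000000000000000000000000000000000000000000000000000000000000000000000000000000000000000000000000000000000000000000000000000000000000000000000000000000000000000000000000000000000000000000000000000000000000000000000000000000000000700003400000000000000000000000000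0000c00000000000000000000000000000000000000000000000000000000000000000000000000000000000000000000000000000000000000000000000000000000000000000000000000000000000000000000000000000000000000000000000000000000000000000000000000000000000000000000000000000000000000000001600000000000000000000000000000000000000000028000000000000000000000000000000000004800000000100000000000000000000000000000003800000000000000000000000000000000000000000000c0000000000000000000000000000000000000000000000000000000a00000000000000000000000000000000000000000000000000000000000040600100000000000000000000000000000002000000000000000000000000000000000000000000000000000000000000000000000000000000000000000000000000000000000000000000000000000000000000000000000000000000000000000000000000000000000000000000000000000000000000000000000000000000000000000000000000000000000000000000000000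
def Zc : ℕ := 0x54a43054929344956748a269576497587533477100486505
def crel_zab_4_7_1 : ℕ := 0x374575255824a337059322290a31665a8904836169a72384a
def crel_zab_4_7_2 : ℕ := 0x1518a22578263195154958523219999a52639a69392a57652
def crel_zab_4_7_p_2 : ℕ := 0x142884166894a822201814886a5937754628406939666a320
def crel_zab_4_7_p_4 : ℕ := 0x29a118530483aa33496a6787228887269087243a779582a89
def crel_zab_4_7_p_6 : ℕ := 0x1598932575599a18129a58253a67a64259623912352159692
def crel_za_2_19_1 : ℕ := 0x93841a420a3a2975759345132056324a85635a59780628287
def crel_za_2_19_p_2 : ℕ := 0x94798527084a377825746557500356924a540618078526444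
def crel_za_2_19_p_4 : ℕ := 0x4831a8049616884998378269083478174723918295a113592
def crel_za_2_19_p_8 : ℕ := 0x23457994484255676a962846794541038445060436480057a
def crel_za_2_19_p_16 : ℕ := 0x22887873a77724aa36921251588752033492a899583811807
def crel_za_2_19_p_18 : ℕ := 0x927533030512568a734a24352a581a90892a2355784946687
def crel_za_4_6_1 : ℕ := 0x374575255824a337059322290a31665a8904836169a72384a
def crel_za_4_6_p_2 : ℕ := 0x532134683284498460392428474a259398a69a32a1a08a878
def crel_za_4_6_p_4 : ℕ := 0x588426a334259022689a8180433a343792844948a7692aa18
def cword_X_0 : ℕ := 0x900a38607200070250000a0081a03001820800a289067000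
def cword_X_1 : ℕ := 0x6370a042746548489496281707379758574408550697559a5
def cword_X_2 : ℕ := 0x62162460a0463756739474962489073781736472466605703
def cword_X_3 : ℕ := 0x50436630064143767999784966446a259645494531088447
def cword_X_4 : ℕ := 0x7987741252323a52a82aa1081873539187683987798450822
def cword_X_5 : ℕ := 0x52295126438a962981963752a5595a662722612283159a281
def cword_Y_0 : ℕ := 0x1348108a876632844288903998754741493823a95932aa621
def cword_Y_1 : ℕ := 0x968a2897168325734048a12a3a83079491225140182804012
def cword_Y_2 : ℕ := 0x7808545688866857651541475556706346365766a46633740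
def cword_Y_3 : ℕ := 0x9337aa7201812275462375189055327135535162730693984
def cword_Y_4 : ℕ := 0x24097196348a958420511a07438497903a088a19312129533
def cword_Y_5 : ℕ := 0x3035757765a576058453758877068885635475655a5765a75
def cf1_12_1 : ℕ := 0x52323a203a348a39877989877417913911682a34567603993
def cf1_12_2 : ℕ := 0x54494632a6275557824757878a40605708510753702697894
def cf1_12_p_2 : ℕ := 0x928396aa93a169251262981256731258228155945952726a5
def cf1_12_p_4 : ℕ := 0x8464992a08344478795540504856461262680054174579763
def cf1_12_p_6 : ℕ := 0x8a70484408560568701074394259945864794552162446673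
def cf1_12_p_7 : ℕ := 0x3774a729a346632898a952877288182a15960829878a343a0
def cf1_18_1 : ℕ := 0x66291572a93623a92a61862599216816482232391579695a6
def cf1_18_p_2 : ℕ := 0x934a203513245a3288a1085719a925a3984a308472944a09
def cf1_18_p_4 : ℕ := 0x1533426337879203872597749731329589a859211aaa80788
def cf1_18_p_8 : ℕ := 0x4705a305439647736957735575009274236556924a77084a3
def cf1_18_p_16 : ℕ := 0x66291572a93623a92a61862599216816482232391579695a6
def cf1_18_p_18 : ℕ := 0x42051181295332074384a40971927903a09348a9568a19318
def cf1_18_p_19 : ℕ := 0x1533426337879203872597749731329589a859211aaa80788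
def cf1_21_1 : ℕ := 0x1462853389921584327238161212093689414a388077437a9
def cf1_21_p_2 : ℕ := 0x4a43005929345465473725264519463467247710333560607
def cf1_21_p_4 : ℕ := 0x61559496438a9695a99382981963159a281469166269926a9
def cf1_21_p_8 : ℕ := 0xa22804939963a89571584814840133121391904970139617
def cf1_21_p_16 : ℕ := 0x1462853389921584327238161212093689414a388077437a9
def cf1_21_p_18 : ℕ := 0x47a30341a8938192277a010857a900934123225a89536a827
def cf1_21_p_19 : ℕ := 0x61559496438a9695a99382981963159a281469166269926a9
def cf1_25_1 : ℕ := 0x95000405700020008a10a00a83090013903420005000a9308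
def cf1_25_p_19 : ℕ := 0x95000405700020008a10a00a83090013903420005000a9308
def cf2_1_1 : ℕ := 0x337441049654430435606a252675057173049463765429237
def cf2_1_p_2 : ℕ := 0xa22307088a2a3182268a91907942957a53313951403a78704
def cf2_1_p_4 : ℕ := 0xa08344430067a4787955445797630607365375722975a9595
def cf2_1_p_6 : ℕ := 0xa3740370085675807705a369977947573254a566294443595
def cf2_12_1 : ℕ := 0x8599749a347034745739500365764a65522307706a7743525
def cf2_12_p_2 : ℕ := 0x5466a54a44556570687635546617568377073036456383568
def cf2_12_p_4 : ℕ := 0x4a944739123a51353a75239402869158329380a7134233782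
def cf2_12_p_6 : ℕ := 0x4933934a159182923450343a08a34a7237775582183126932
def cf2_18_1 : ℕ := 0x26948272a6976643481401076340677976364327756054036
def cf2_18_p_2 : ℕ := 0x49696a565921672128693192a513525922a581678928989a5
def cf2_18_p_4 : ℕ := 0x5305a26231437a878621591a90823a2365444945630294583
def cf2_18_p_6 : ℕ := 0x52893403371a42018a2995469344a32065527185686a52433
def cf2_21_1 : ℕ := 0x85749755506408621624601075845673947496248904843a4
def cf2_21_p_2 : ℕ := 0x60a685982641362a813777953745839675102682782a02a93
def cf2_21_p_4 : ℕ := 0x43851593406982a49887a2920a81347676265618205639413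
def cf2_21_p_6 : ℕ := 0x43a2365344945680927635680619198a784587862192a1203
def cf2_25_1 : ℕ := 0x557437259646a27687672447108836605047a780052228454
def cf2_25_p_19 : ℕ := 0x557437259646a27687672447108836605047a780052228454
def cf4_1_1 : ℕ := 0x2763809a784198a908291276587705a265386215879856781
def cf4_1_p_2 : ℕ := 0x182258231a30739834872a477978135221a5a583492033726
def cf4_1_p_4 : ℕ := 0x2387a142013a2245762846139066397a85536159730598284
def cf4_1_p_6 : ℕ := 0x8921a9a9658065578a2334a28a7553472791637866880294
def cf4_12_1 : ℕ := 0x4203a0931193a8a9953824024a99878a9664206a130778341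
def cf4_12_p_2 : ℕ := 0x4085605439425927669a531407375340a0494586479775548
def cf4_12_p_4 : ℕ := 0x1455755705638446730856363386575455166a47666870534
def cf4_12_p_6 : ℕ := 0x5766a463036764456a6760587584633740633355354755561
def cf4_18_1 : ℕ := 0x5299a6215439689321598625157999a57552352391216a3a9
def cf4_18_p_2 : ℕ := 0x4a58a208903884803798864784334a1960375a01893398073
def cf4_18_p_4 : ℕ := 0x7809639289a02a5960a538532541449a31345725845188954
def cf4_18_p_6 : ℕ := 0x956305a678a9364193a435874245a63736238022453921190
def cf4_21_1 : ℕ := 0x77872566060435675a252480064a845727598467924103374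
def cf4_21_p_2 : ℕ := 0xa6343593809276392a120265305a67819857a231436344945
def cf4_21_p_4 : ℕ := 0x45340a4794586489775505408565943942a5276693731407
def cf4_21_p_6 : ℕ := 0x7a977439a93a5a368a75932702852153899330a7187238432
def cf4_25_1 : ℕ := 0x545008644986925997a55087137706a307489577546257448
def cf4_25_p_19 : ℕ := 0x545008644986925997a55087137706a307489577546257448
def cZB : ℕ := 0x3077051352274977578264165699477852513740340085576

/-- Codes of the powers of the element `a` of order 19. -/
def AP (i : ℕ) : ℕ := fld APB 196 i
/-- Codes of the powers of an element normalising `⟨a⟩` and inducing an automorphism of order 6. -/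
def NU (e : ℕ) : ℕ := fld NUB 196 e
def NUK (e : ℕ) : ℕ := fld NUKB 12 e
def NUc (e : ℕ) : ℕ := fld NUcB 6 e
def EI (r : ℕ) : ℕ := fld EIB 3 r
def R1 (r : ℕ) : ℕ := fld R1B 3 r
def FPa (k : ℕ) : ℕ := fld FPaB 6 k
def FKa (j : ℕ) : ℕ := fld FKaB 12 j
def CPa (j : ℕ) : ℕ := fld CPaB 6 j
def CLa (m : ℕ) : ℕ := fld CLaB 196 m
def IDXa (j c : ℕ) : ℕ := fld IDXaB 7 (Nat.add (Nat.mul 57 j) c)
def SIG (m : ℕ) : ℕ := fld SIGB 5 m
def BA (i : ℕ) : ℕ := fld BAB 196 i
def JJ (i : ℕ) : ℕ := fld JJB 5 i
def FPb (k : ℕ) : ℕ := fld FPbB 6 k
def FKb (j : ℕ) : ℕ := fld FKbB 12 j
def CPb (j : ℕ) : ℕ := fld CPbB 6 j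
def CLb (m : ℕ) : ℕ := fld CLbB 196 m
def IDXb (j c : ℕ) : ℕ := fld IDXbB 7 (Nat.add (Nat.mul 57 j) c)

/-! ### Generic lemmas -/

/-- Sylow normalisation of an automorphism on an element of prime order. -/
theorem aut_sylow_norm {G : Type*} [Group G] [Finite G] {p : ℕ} [Fact p.Prime] (a : G)
    (ha : orderOf a = p) (hp2 : ¬ p ^ 2 ∣ Nat.card G) (φ : MulAut G) :
    ∃ h : G, ∃ r : ℕ, (MulAut.conj h * φ) a = a ^ r := by
  have hp : p.Prime := Fact.out
  have hφa : orderOf (φ a) = p := by
    rw [← ha]
    exact orderOf_injective φ.toMonoidHom φ.injective a
  have hcardS : ∀ P : Sylow p G, ∀ z : G, orderOf z = p → Subgroup.zpowers z ≤ (P : Subgroup G) →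
      Subgroup.zpowers z = (P : Subgroup G) := by
    intro P z hz hle
    obtain ⟨n, hn⟩ := IsPGroup.iff_card.mp P.isPGroup'
    have hdvd : Nat.card P ∣ Nat.card G := Subgroup.card_subgroup_dvd_card _
    have hn1 : n ≤ 1 := by
      by_contra hlt
      have hlt' : 2 ≤ n := by omega
      exact hp2 ((pow_dvd_pow p hlt').trans (hn ▸ hdvd))
    have hcz : Nat.card (Subgroup.zpowers z) = p := by rw [Nat.card_zpowers, hz]
    apply Subgroup.eq_of_le_of_card_ge hle
    rw [hcz, hn]
    calc p ^ n ≤ p ^ 1 := Nat.pow_le_pow_right hp.pos hn1
      _ = p := pow_one p
  have hpg : ∀ z : G, orderOf z = p → IsPGroup p (Subgroup.zpowers z) := by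
    intro z hz
    exact IsPGroup.of_card (n := 1) (by rw [Nat.card_zpowers, hz, pow_one])
  obtain ⟨P, hP⟩ := (hpg (φ a) hφa).exists_le_sylow
  obtain ⟨Q, hQ⟩ := (hpg a ha).exists_le_sylow
  have hP' := hcardS P (φ a) hφa hP
  have hQ' := hcardS Q a ha hQ
  obtain ⟨g, hg⟩ := MulAction.exists_smul_eq G P Q
  have hmem : g * φ a * g⁻¹ ∈ Subgroup.zpowers a := by
    rw [hQ', ← hg, Sylow.coe_subgroup_smul, ← hP']
    have := Subgroup.smul_mem_pointwise_smul (φ a) (MulAut.conj g) (Subgroup.zpowers (φ a))
      (Subgroup.mem_zpowers _)
    rwa [MulAut.smul_def, MulAut.conj_apply] at this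
  obtain ⟨r, hr⟩ := (Submonoid.mem_powers_iff _ _).mp (mem_powers_iff_mem_zpowers.mpr hmem)
  exact ⟨g, r, by rw [MulAut.mul_apply, MulAut.conj_apply]; exact hr.symm⟩

/-- An automorphism of J1 fixing both generators is trivial. -/
theorem aut_eq_one (ψ : MulAut ↥J1) (hX : ψ gX = gX) (hY : ψ gY = gY) : ψ = 1 := by
  let N : Subgroup ↥J1 :=
    { carrier := {g | ψ g = g}
      mul_mem' := fun {g h} hg hh => by
        show ψ (g * h) = g * h
        rw [map_mul, hg, hh]
      one_mem' := map_one ψ
      inv_mem' := fun {g} hg => by
        show ψ g⁻¹ = g⁻¹
        rw [map_inv, hg] }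
  have hN : N = ⊤ := eq_top_of_gens hX hY
  apply MulEquiv.ext
  intro g
  have hg : g ∈ N := by rw [hN]; exact Subgroup.mem_top g
  exact hg

theorem card_out_eq_one' {G : Type*} [Group G] (h : ∀ φ : MulAut G, ∃ x : G, MulAut.conj x = φ) :
    Nat.card (Cfsg.Out G) = 1 := by
  have h1 : Cfsg.Inn G = ⊤ := by
    rw [eq_top_iff]
    intro φ _
    exact h φ
  show (Cfsg.Inn G).index = 1
  rw [h1, Subgroup.index_top]

/-! ### The elements `a`, `b`, `z` -/

theorem exists_a : ∃ a : ↥J1, IsCode a (AP 1) :=
  exists_isCode UI cac (AP 1) (by decide +kernel) (by decide +kernel) (by decide +kernel)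

theorem exists_b : ∃ b : ↥J1, IsCode b Bc :=
  exists_isCode UI cbc Bc (by decide +kernel) (by decide +kernel) (by decide +kernel)

theorem exists_z : ∃ z : ↥J1, IsCode z Zc :=
  exists_isCode 479 37 Zc (by decide +kernel) (by decide +kernel) (by decide +kernel)

theorem AP_zero : AP 0 = cI := by decide +kernel
theorem AP_nineteen : AP 19 = cI := by decide +kernel
theorem AP_chain : allLt 19 (fun i => mulEq (AP i) (AP 1) (AP (Nat.add i 1)) cI) = true := by
  decide +kernel

theorem isCode_pow (a : ↥J1) (ha : IsCode a (AP 1)) : ∀ i, i ≤ 19 → IsCode (a ^ i) (AP i) := by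
  intro i
  induction i with
  | zero =>
    intro _
    rw [pow_zero, AP_zero]
    exact isCode_one
  | succ i ih =>
    intro hi
    rw [pow_succ]
    exact (ih (by omega)).mul ha ((allLt_iff _ _).mp AP_chain i (by omega))

theorem chkNUrep : allLt 6 (fun e => Nat.blt (NUK e) 3080 && Nat.blt (NUc e) 57 &&
    mulEq (U (NUK e)) (Kt (NUc e)) (NU e) cI) = true := by decide +kernel

theorem chkNorm : allLt 19 (fun r => Nat.beq r 0 || (Nat.blt (EI r) 6 &&
    (Nat.beq (R1 r) 1 || Nat.beq (R1 r) 2 || Nat.beq (R1 r) 4) &&
    mulEq (NU (EI r)) (AP r) (AP (R1 r)) (NU (EI r)))) = true := by decide +kernel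

/-- Conjugating by a suitable element normalising `⟨a⟩` brings `a ^ r` to `a`, `a ^ 2` or `a ^ 4`. -/
theorem step2 (a : ↥J1) (hap : ∀ i, i ≤ 19 → IsCode (a ^ i) (AP i)) (r : ℕ) (hr : r < 19)
    (hr0 : r ≠ 0) :
    ∃ ν : ↥J1, ∃ r₁ : ℕ, (r₁ = 1 ∨ r₁ = 2 ∨ r₁ = 4) ∧ ν * a ^ r * ν⁻¹ = a ^ r₁ := by
  have h1 := (allLt_iff _ _).mp chkNorm r hr
  rw [Bool.or_eq_true] at h1
  rcases h1 with h0 | h1
  · exact absurd (Nat.eq_of_beq_eq_true h0) hr0
  simp only [Bool.and_eq_true, Bool.or_eq_true] at h1
  obtain ⟨⟨he, hR⟩, hc⟩ := h1
  have he' : EI r < 6 := Nat.le_of_ble_eq_true he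
  have h2 := (allLt_iff _ _).mp chkNUrep (EI r) he'
  rw [Bool.and_eq_true, Bool.and_eq_true] at h2
  obtain ⟨ν, hν⟩ := exists_isCode _ _ _ h2.1.1 h2.1.2 h2.2
  have hR' : R1 r = 1 ∨ R1 r = 2 ∨ R1 r = 4 := by
    rcases hR with (h | h) | h
    · left; exact Nat.eq_of_beq_eq_true h
    · right; left; exact Nat.eq_of_beq_eq_true h
    · right; right; exact Nat.eq_of_beq_eq_true h
  refine ⟨ν, R1 r, hR', ?_⟩
  have hle : R1 r ≤ 19 := by rcases hR' with h | h | h <;> omega
  exact (hν.conj (hap r hr.le) hc).ext (hap (R1 r) hle)

/-- The centraliser of `a` consists of the powers of `a`. -/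
theorem cent_a (a : ↥J1) (ha : IsCode a (AP 1)) :
    ∀ g : ↥J1, g * a = a * g → ∃ m < 19, IsCode g (CLa m) :=
  centralizer_cert false (AP 1) cac 2 19 FPa FKa CPa CLa IDXa a ha (by decide +kernel)
    (by decide +kernel) (by decide +kernel) (by decide +kernel) (by decide +kernel)

theorem chkSIG : allLt 19 (fun m => Nat.blt (SIG m) 19 && mulEq (CLa m) cI (AP (SIG m)) cI) = true := by
  decide +kernel

theorem cent_a_pow (a : ↥J1) (ha : IsCode a (AP 1)) (hap : ∀ i, i ≤ 19 → IsCode (a ^ i) (AP i))
    (g : ↥J1) (hg : g * a = a * g) : ∃ i, i < 19 ∧ g = a ^ i := by
  obtain ⟨m, hm, hgm⟩ := cent_a a ha g hg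
  have h1 := (allLt_iff _ _).mp chkSIG m hm
  rw [Bool.and_eq_true] at h1
  have hs : SIG m < 19 := Nat.le_of_ble_eq_true h1.1
  exact ⟨SIG m, hs, hgm.eq (hap (SIG m) hs.le) h1.2⟩

theorem chkBA : allLt 19 (fun i => mulEq Bc (AP i) (BA i) cI && Nat.blt (JJ i) 19 &&
    mulEq (AP (JJ i)) (BA i) Bc (AP (JJ i))) = true := by decide +kernel

/-- Every element `b * a ^ i` is conjugate to `b` under a power of `a`. -/
theorem step3 (a b : ↥J1) (hap : ∀ i, i ≤ 19 → IsCode (a ^ i) (AP i)) (hb : IsCode b Bc) (i : ℕ)
    (hi : i < 19) : ∃ J : ℕ, a ^ J * (b * a ^ i) * (a ^ J)⁻¹ = b := by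
  have h1 := (allLt_iff _ _).mp chkBA i hi
  simp only [Bool.and_eq_true] at h1
  obtain ⟨⟨hba, hJ⟩, hc⟩ := h1
  have hJ' : JJ i < 19 := Nat.le_of_ble_eq_true hJ
  exact ⟨JJ i, ((hap (JJ i) hJ'.le).conj (hb.mul (hap i hi.le) hba) hc).ext hb⟩

/-- The centraliser of `b` has 30 elements. -/
theorem cent_b (b : ↥J1) (hb : IsCode b Bc) :
    ∀ g : ↥J1, g * b = b * g → ∃ m < 30, IsCode g (CLb m) :=
  centralizer_cert false Bc cbc 20 30 FPb FKb CPb CLb IDXb b hb (by decide +kernel)
    (by decide +kernel) (by decide +kernel) (by decide +kernel) (by decide +kernel)

theorem chkInv : allLt 30 (fun m => (Nat.beq m 1 || Nat.beq m 12 || Nat.beq m 18 || Nat.beq m 21 || Nat.beq m 25) ||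
    mulEq (CLb m) cI cI cI || !(mulEq (CLb m) (CLb m) cI cI)) = true := by decide +kernel

/-- The involutions commuting with `b`. -/
theorem invol_b (b : ↥J1) (hb : IsCode b Bc) (z' : ↥J1) (hzb : z' * b = b * z') (hz2 : z' * z' = 1)
    (hz1 : z' ≠ 1) : IsCode z' (CLb 1) ∨ IsCode z' (CLb 12) ∨ IsCode z' (CLb 18) ∨ IsCode z' (CLb 21) ∨ IsCode z' (CLb 25) := by
  obtain ⟨m, hm, hzm⟩ := cent_b b hb z' hzb
  have h1 := (allLt_iff _ _).mp chkInv m hm
  simp only [Bool.or_eq_true] at h1
  rcases h1 with (h1 | h1) | h1
  · rcases h1 with (((h1 | h1) | h1) | h1) | h1
    · have hm' : m = 1 := Nat.eq_of_beq_eq_true h1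
      rw [hm'] at hzm
      left; exact hzm
    · have hm' : m = 12 := Nat.eq_of_beq_eq_true h1
      rw [hm'] at hzm
      right; left; exact hzm
    · have hm' : m = 18 := Nat.eq_of_beq_eq_true h1
      rw [hm'] at hzm
      right; right; left; exact hzm
    · have hm' : m = 21 := Nat.eq_of_beq_eq_true h1
      rw [hm'] at hzm
      right; right; right; left; exact hzm
    · have hm' : m = 25 := Nat.eq_of_beq_eq_true h1
      rw [hm'] at hzm
      right; right; right; right; exact hzm
  · exact absurd (hzm.congr h1).eq_one hz1
  · exfalso
    have h2 : mulEq (CLb m) (CLb m) cI cI = true := by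
      rw [mulEq_iff]
      have hzm' : ((z' : GL (Fin 7) (ZMod 11)) : M7) = dec (CLb m) := hzm
      rw [← hzm', ← Units.val_mul, ← Subgroup.coe_mul, hz2, dec_cI, mul_one]
      rfl
    rw [h2] at h1
    simp at h1

/-! ### Relations and words -/

theorem rel_zab_4_7 (a b z : ↥J1) (hap : ∀ i, i ≤ 19 → IsCode (a ^ i) (AP i)) (hb : IsCode b Bc)
    (hz : IsCode z Zc) : (z * a ^ 4 * b) ^ 7 = 1 := by
  have hw := (hz.mul (hap 4 (by norm_num)) (C := crel_zab_4_7_1) (by decide +kernel)).mul hb (C := crel_zab_4_7_2) (by decide +kernel)
  have hq1 := hw.pow_one
  have hq2 := hq1.pow_add hq1 (C := crel_zab_4_7_p_2) (by decide +kernel)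
  have hq4 := hq2.pow_add hq2 (C := crel_zab_4_7_p_4) (by decide +kernel)
  have hq6 := hq4.pow_add hq2 (C := crel_zab_4_7_p_6) (by decide +kernel)
  have hq7 := hq6.pow_add hq1 (C := cI) (by decide +kernel)
  exact hq7.eq_one

theorem rel_za_2_19 (a z : ↥J1) (hap : ∀ i, i ≤ 19 → IsCode (a ^ i) (AP i))
    (hz : IsCode z Zc) : (z * a ^ 2) ^ 19 = 1 := by
  have hw := hz.mul (hap 2 (by norm_num)) (C := crel_za_2_19_1) (by decide +kernel)
  have hq1 := hw.pow_one
  have hq2 := hq1.pow_add hq1 (C := crel_za_2_19_p_2) (by decide +kernel)
  have hq4 := hq2.pow_add hq2 (C := crel_za_2_19_p_4) (by decide +kernel)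
  have hq8 := hq4.pow_add hq4 (C := crel_za_2_19_p_8) (by decide +kernel)
  have hq16 := hq8.pow_add hq8 (C := crel_za_2_19_p_16) (by decide +kernel)
  have hq18 := hq16.pow_add hq2 (C := crel_za_2_19_p_18) (by decide +kernel)
  have hq19 := hq18.pow_add hq1 (C := cI) (by decide +kernel)
  exact hq19.eq_one

theorem rel_za_4_6 (a z : ↥J1) (hap : ∀ i, i ≤ 19 → IsCode (a ^ i) (AP i))
    (hz : IsCode z Zc) : (z * a ^ 4) ^ 6 = 1 := by
  have hw := hz.mul (hap 4 (by norm_num)) (C := crel_za_4_6_1) (by decide +kernel)
  have hq1 := hw.pow_one
  have hq2 := hq1.pow_add hq1 (C := crel_za_4_6_p_2) (by decide +kernel)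
  have hq4 := hq2.pow_add hq2 (C := crel_za_4_6_p_4) (by decide +kernel)
  have hq6 := hq4.pow_add hq2 (C := cI) (by decide +kernel)
  exact hq6.eq_one

theorem word_X (a b z : ↥J1) (hap : ∀ i, i ≤ 19 → IsCode (a ^ i) (AP i)) (hb : IsCode b Bc)
    (hz : IsCode z Zc) : gX = a ^ 1 * z * a ^ 8 * z * a ^ 1 * z * b * a ^ 1 := by
  have hw0 := (hap 1 (by norm_num)).mul hz (C := cword_X_0) (by decide +kernel)
  have hw1 := hw0.mul (hap 8 (by norm_num)) (C := cword_X_1) (by decide +kernel)
  have hw2 := hw1.mul hz (C := cword_X_2) (by decide +kernel)
  have hw3 := hw2.mul (hap 1 (by norm_num)) (C := cword_X_3) (by decide +kernel)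
  have hw4 := hw3.mul hz (C := cword_X_4) (by decide +kernel)
  have hw5 := hw4.mul hb (C := cword_X_5) (by decide +kernel)
  have hw6 := hw5.mul (hap 1 (by norm_num)) (C := cX) (by decide +kernel)
  exact (hw6.ext isCode_gX).symm

theorem word_Y (a b z : ↥J1) (hap : ∀ i, i ≤ 19 → IsCode (a ^ i) (AP i)) (hb : IsCode b Bc)
    (hz : IsCode z Zc) : gY = a ^ 4 * z * a ^ 12 * z * a ^ 11 * z * b * a ^ 5 := by
  have hw0 := (hap 4 (by norm_num)).mul hz (C := cword_Y_0) (by decide +kernel)
  have hw1 := hw0.mul (hap 12 (by norm_num)) (C := cword_Y_1) (by decide +kernel)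
  have hw2 := hw1.mul hz (C := cword_Y_2) (by decide +kernel)
  have hw3 := hw2.mul (hap 11 (by norm_num)) (C := cword_Y_3) (by decide +kernel)
  have hw4 := hw3.mul hz (C := cword_Y_4) (by decide +kernel)
  have hw5 := hw4.mul hb (C := cword_Y_5) (by decide +kernel)
  have hw6 := hw5.mul (hap 5 (by norm_num)) (C := cY) (by decide +kernel)
  exact (hw6.ext isCode_gY).symm

/-- Every automorphism of J1 is inner. -/
theorem aut_inner (φ : MulAut ↥J1) : ∃ x : ↥J1, MulAut.conj x = φ := by
  have : Finite ↥J1 := Nat.finite_of_card_ne_zero (by rw [card_J1]; norm_num)
  have : Fact (Nat.Prime 19) := ⟨by norm_num⟩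
  obtain ⟨a, ha⟩ := exists_a
  have hap := isCode_pow a ha
  have ha19 : a ^ 19 = 1 := by
    have := hap 19 le_rfl
    rw [AP_nineteen] at this
    exact this.eq_one
  have ha1 : a ≠ 1 := ha.ne isCode_one (by decide +kernel)
  have horda : orderOf a = 19 := orderOf_eq_prime ha19 ha1
  obtain ⟨b, hb⟩ := exists_b
  obtain ⟨z, hz⟩ := exists_z
  have hzz : z * z = 1 := (hz.mul hz (by decide +kernel)).eq_one
  have hz1 : z ≠ 1 := hz.ne isCode_one (by decide +kernel)
  have hzb : z * b = b * z :=
    (hz.mul hb (C := cZB) (by decide +kernel)).ext (hb.mul hz (by decide +kernel))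
  have hrel : b * a * b⁻¹ = a ^ 7 := by
    have h1 := hb.conj (hap 1 (by norm_num)) (C := AP 7) (by decide +kernel)
    rw [pow_one] at h1
    exact h1.ext (hap 7 (by norm_num))
  -- Step 1: Sylow normalisation
  obtain ⟨h0, r, hr⟩ := aut_sylow_norm a horda (by rw [card_J1]; norm_num) φ
  obtain ⟨ψ₁, hψ₁⟩ : ∃ ψ : MulAut ↥J1, ψ = MulAut.conj h0 * φ := ⟨_, rfl⟩
  rw [← hψ₁] at hr
  have hr' : ψ₁ a = a ^ (r % 19) := by rw [hr, ← horda, pow_mod_orderOf]
  have hr0 : r % 19 ≠ 0 := by
    intro h0'
    rw [h0', pow_zero] at hr'
    exact ha1 ((map_eq_one_iff ψ₁ ψ₁.injective).mp hr')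
  -- Step 2: normalise the exponent
  obtain ⟨ν, r₁, hr₁, hν⟩ := step2 a hap (r % 19) (Nat.mod_lt _ (by norm_num)) hr0
  obtain ⟨ψ₂, hψ₂⟩ : ∃ ψ : MulAut ↥J1, ψ = MulAut.conj ν * ψ₁ := ⟨_, rfl⟩
  have h2 : ψ₂ a = a ^ r₁ := by rw [hψ₂, MulAut.mul_apply, MulAut.conj_apply, hr', hν]
  have hs : ∃ s : ℕ, (a ^ r₁) ^ s = a := by
    rcases hr₁ with rfl | rfl | rfl
    · exact ⟨1, by rw [pow_one, pow_one]⟩
    · exact ⟨10, by rw [← pow_mul, show 2 * 10 = 19 + 1 from rfl, pow_add, ha19, one_mul, pow_one]⟩
    · exact ⟨5, by rw [← pow_mul, show 4 * 5 = 19 + 1 from rfl, pow_add, ha19, one_mul, pow_one]⟩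
  -- Step 3: normalise the image of `b`
  have hcomm : (b⁻¹ * ψ₂ b) * a = a * (b⁻¹ * ψ₂ b) := by
    have e1 : ψ₂ b * a ^ r₁ * (ψ₂ b)⁻¹ = (a ^ r₁) ^ 7 := by
      have := congrArg ψ₂ hrel
      rwa [map_mul, map_mul, map_inv, map_pow, h2] at this
    have e2 : b * a ^ r₁ * b⁻¹ = (a ^ r₁) ^ 7 := by
      rw [← conj_pow, hrel, ← pow_mul, ← pow_mul, mul_comm]
    have e3 : (b⁻¹ * ψ₂ b) * a ^ r₁ = a ^ r₁ * (b⁻¹ * ψ₂ b) := by
      have e4 : ψ₂ b * a ^ r₁ * (ψ₂ b)⁻¹ = b * a ^ r₁ * b⁻¹ := by rw [e1, e2]
      calc (b⁻¹ * ψ₂ b) * a ^ r₁ = b⁻¹ * (ψ₂ b * a ^ r₁ * (ψ₂ b)⁻¹) * ψ₂ b := by group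
        _ = b⁻¹ * (b * a ^ r₁ * b⁻¹) * ψ₂ b := by rw [e4]
        _ = a ^ r₁ * (b⁻¹ * ψ₂ b) := by group
    obtain ⟨s, hs'⟩ := hs
    have e5 : Commute (b⁻¹ * ψ₂ b) ((a ^ r₁) ^ s) := Commute.pow_right e3 s
    rw [hs'] at e5
    exact e5
  obtain ⟨i, hi, hgi⟩ := cent_a_pow a ha hap _ hcomm
  have hb' : ψ₂ b = b * a ^ i := by rw [← hgi]; group
  obtain ⟨J, hJ⟩ := step3 a b hap hb i hi
  obtain ⟨ψ₃, hψ₃⟩ : ∃ ψ : MulAut ↥J1, ψ = MulAut.conj (a ^ J) * ψ₂ := ⟨_, rfl⟩
  have h3a : ψ₃ a = a ^ r₁ := by
    rw [hψ₃, MulAut.mul_apply, MulAut.conj_apply, h2]
    group
  have h3b : ψ₃ b = b := by rw [hψ₃, MulAut.mul_apply, MulAut.conj_apply, hb', hJ]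
  -- Step 4: the image of `z`
  have hz'2 : ψ₃ z * ψ₃ z = 1 := by rw [← map_mul, hzz, map_one]
  have hz'b : ψ₃ z * b = b * ψ₃ z := by
    have := congrArg ψ₃ hzb
    rwa [map_mul, map_mul, h3b] at this
  have hz'1 : ψ₃ z ≠ 1 := fun h => hz1 ((map_eq_one_iff ψ₃ ψ₃.injective).mp h)
  have hfive := invol_b b hb (ψ₃ z) hz'b hz'2 hz'1
  -- Step 5: the fifteen candidates
  rcases hr₁ with rfl | rfl | rfl <;> rcases hfive with h | h | h | h | h
  · -- the identity case
    have hza : ψ₃ z = z := h.eq hz (by decide +kernel)
    have haa : ψ₃ a = a := by rw [h3a, pow_one]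
    have hfX : ψ₃ gX = gX := by
      rw [word_X a b z hap hb hz]
      simp only [map_mul, map_pow, haa, h3b, hza]
    have hfY : ψ₃ gY = gY := by
      rw [word_Y a b z hap hb hz]
      simp only [map_mul, map_pow, haa, h3b, hza]
    have hone : ψ₃ = 1 := aut_eq_one ψ₃ hfX hfY
    refine ⟨(a ^ J * ν * h0)⁻¹, ?_⟩
    have h1 : MulAut.conj (a ^ J * ν * h0) * φ = 1 := by
      rw [map_mul, map_mul, mul_assoc, mul_assoc, ← hψ₁, ← hψ₂, ← hψ₃]
      exact hone
    rw [map_inv]
    exact (eq_inv_of_mul_eq_one_right h1).symm
  · exfalso
    have hrel := congrArg ψ₃ (rel_zab_4_7 a b z hap hb hz)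
    rw [map_pow, map_mul, map_mul, map_pow, h3a, h3b, map_one, ← pow_mul] at hrel
    have hw := (h.mul (hap 4 (by norm_num)) (C := cf1_12_1) (by decide +kernel)).mul hb (C := cf1_12_2) (by decide +kernel)
    have hq1 := hw.pow_one
    have hq2 := hq1.pow_add hq1 (C := cf1_12_p_2) (by decide +kernel)
    have hq4 := hq2.pow_add hq2 (C := cf1_12_p_4) (by decide +kernel)
    have hq6 := hq4.pow_add hq2 (C := cf1_12_p_6) (by decide +kernel)
    have hq7 := hq6.pow_add hq1 (C := cf1_12_p_7) (by decide +kernel)
    exact (hq7.ne isCode_one (by decide +kernel)) hrel
  · exfalso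
    have hrel := congrArg ψ₃ (rel_za_2_19 a z hap hz)
    rw [map_pow, map_mul, map_pow, h3a, map_one, ← pow_mul] at hrel
    have hw := h.mul (hap 2 (by norm_num)) (C := cf1_18_1) (by decide +kernel)
    have hq1 := hw.pow_one
    have hq2 := hq1.pow_add hq1 (C := cf1_18_p_2) (by decide +kernel)
    have hq4 := hq2.pow_add hq2 (C := cf1_18_p_4) (by decide +kernel)
    have hq8 := hq4.pow_add hq4 (C := cf1_18_p_8) (by decide +kernel)
    have hq16 := hq8.pow_add hq8 (C := cf1_18_p_16) (by decide +kernel)
    have hq18 := hq16.pow_add hq2 (C := cf1_18_p_18) (by decide +kernel)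
    have hq19 := hq18.pow_add hq1 (C := cf1_18_p_19) (by decide +kernel)
    exact (hq19.ne isCode_one (by decide +kernel)) hrel
  · exfalso
    have hrel := congrArg ψ₃ (rel_za_2_19 a z hap hz)
    rw [map_pow, map_mul, map_pow, h3a, map_one, ← pow_mul] at hrel
    have hw := h.mul (hap 2 (by norm_num)) (C := cf1_21_1) (by decide +kernel)
    have hq1 := hw.pow_one
    have hq2 := hq1.pow_add hq1 (C := cf1_21_p_2) (by decide +kernel)
    have hq4 := hq2.pow_add hq2 (C := cf1_21_p_4) (by decide +kernel)
    have hq8 := hq4.pow_add hq4 (C := cf1_21_p_8) (by decide +kernel)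
    have hq16 := hq8.pow_add hq8 (C := cf1_21_p_16) (by decide +kernel)
    have hq18 := hq16.pow_add hq2 (C := cf1_21_p_18) (by decide +kernel)
    have hq19 := hq18.pow_add hq1 (C := cf1_21_p_19) (by decide +kernel)
    exact (hq19.ne isCode_one (by decide +kernel)) hrel
  · exfalso
    have hrel := congrArg ψ₃ (rel_za_2_19 a z hap hz)
    rw [map_pow, map_mul, map_pow, h3a, map_one, ← pow_mul] at hrel
    have hw := h.mul (hap 2 (by norm_num)) (C := cf1_25_1) (by decide +kernel)
    have hq1 := hw.pow_one
    have hq2 := hq1.pow_add hq1 (C := cI) (by decide +kernel)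
    have hq4 := hq2.pow_add hq2 (C := cI) (by decide +kernel)
    have hq8 := hq4.pow_add hq4 (C := cI) (by decide +kernel)
    have hq16 := hq8.pow_add hq8 (C := cI) (by decide +kernel)
    have hq18 := hq16.pow_add hq2 (C := cI) (by decide +kernel)
    have hq19 := hq18.pow_add hq1 (C := cf1_25_p_19) (by decide +kernel)
    exact (hq19.ne isCode_one (by decide +kernel)) hrel
  · exfalso
    have hrel := congrArg ψ₃ (rel_za_4_6 a z hap hz)
    rw [map_pow, map_mul, map_pow, h3a, map_one, ← pow_mul] at hrel
    have hw := h.mul (hap 8 (by norm_num)) (C := cf2_1_1) (by decide +kernel)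
    have hq1 := hw.pow_one
    have hq2 := hq1.pow_add hq1 (C := cf2_1_p_2) (by decide +kernel)
    have hq4 := hq2.pow_add hq2 (C := cf2_1_p_4) (by decide +kernel)
    have hq6 := hq4.pow_add hq2 (C := cf2_1_p_6) (by decide +kernel)
    exact (hq6.ne isCode_one (by decide +kernel)) hrel
  · exfalso
    have hrel := congrArg ψ₃ (rel_za_4_6 a z hap hz)
    rw [map_pow, map_mul, map_pow, h3a, map_one, ← pow_mul] at hrel
    have hw := h.mul (hap 8 (by norm_num)) (C := cf2_12_1) (by decide +kernel)
    have hq1 := hw.pow_one
    have hq2 := hq1.pow_add hq1 (C := cf2_12_p_2) (by decide +kernel)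
    have hq4 := hq2.pow_add hq2 (C := cf2_12_p_4) (by decide +kernel)
    have hq6 := hq4.pow_add hq2 (C := cf2_12_p_6) (by decide +kernel)
    exact (hq6.ne isCode_one (by decide +kernel)) hrel
  · exfalso
    have hrel := congrArg ψ₃ (rel_za_4_6 a z hap hz)
    rw [map_pow, map_mul, map_pow, h3a, map_one, ← pow_mul] at hrel
    have hw := h.mul (hap 8 (by norm_num)) (C := cf2_18_1) (by decide +kernel)
    have hq1 := hw.pow_one
    have hq2 := hq1.pow_add hq1 (C := cf2_18_p_2) (by decide +kernel)
    have hq4 := hq2.pow_add hq2 (C := cf2_18_p_4) (by decide +kernel)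
    have hq6 := hq4.pow_add hq2 (C := cf2_18_p_6) (by decide +kernel)
    exact (hq6.ne isCode_one (by decide +kernel)) hrel
  · exfalso
    have hrel := congrArg ψ₃ (rel_za_4_6 a z hap hz)
    rw [map_pow, map_mul, map_pow, h3a, map_one, ← pow_mul] at hrel
    have hw := h.mul (hap 8 (by norm_num)) (C := cf2_21_1) (by decide +kernel)
    have hq1 := hw.pow_one
    have hq2 := hq1.pow_add hq1 (C := cf2_21_p_2) (by decide +kernel)
    have hq4 := hq2.pow_add hq2 (C := cf2_21_p_4) (by decide +kernel)
    have hq6 := hq4.pow_add hq2 (C := cf2_21_p_6) (by decide +kernel)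
    exact (hq6.ne isCode_one (by decide +kernel)) hrel
  · exfalso
    have hrel := congrArg ψ₃ (rel_za_2_19 a z hap hz)
    rw [map_pow, map_mul, map_pow, h3a, map_one, ← pow_mul] at hrel
    have hw := h.mul (hap 4 (by norm_num)) (C := cf2_25_1) (by decide +kernel)
    have hq1 := hw.pow_one
    have hq2 := hq1.pow_add hq1 (C := cI) (by decide +kernel)
    have hq4 := hq2.pow_add hq2 (C := cI) (by decide +kernel)
    have hq8 := hq4.pow_add hq4 (C := cI) (by decide +kernel)
    have hq16 := hq8.pow_add hq8 (C := cI) (by decide +kernel)
    have hq18 := hq16.pow_add hq2 (C := cI) (by decide +kernel)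
    have hq19 := hq18.pow_add hq1 (C := cf2_25_p_19) (by decide +kernel)
    exact (hq19.ne isCode_one (by decide +kernel)) hrel
  · exfalso
    have hrel := congrArg ψ₃ (rel_za_4_6 a z hap hz)
    rw [map_pow, map_mul, map_pow, h3a, map_one, ← pow_mul] at hrel
    have hw := h.mul (hap 16 (by norm_num)) (C := cf4_1_1) (by decide +kernel)
    have hq1 := hw.pow_one
    have hq2 := hq1.pow_add hq1 (C := cf4_1_p_2) (by decide +kernel)
    have hq4 := hq2.pow_add hq2 (C := cf4_1_p_4) (by decide +kernel)
    have hq6 := hq4.pow_add hq2 (C := cf4_1_p_6) (by decide +kernel)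
    exact (hq6.ne isCode_one (by decide +kernel)) hrel
  · exfalso
    have hrel := congrArg ψ₃ (rel_za_4_6 a z hap hz)
    rw [map_pow, map_mul, map_pow, h3a, map_one, ← pow_mul] at hrel
    have hw := h.mul (hap 16 (by norm_num)) (C := cf4_12_1) (by decide +kernel)
    have hq1 := hw.pow_one
    have hq2 := hq1.pow_add hq1 (C := cf4_12_p_2) (by decide +kernel)
    have hq4 := hq2.pow_add hq2 (C := cf4_12_p_4) (by decide +kernel)
    have hq6 := hq4.pow_add hq2 (C := cf4_12_p_6) (by decide +kernel)
    exact (hq6.ne isCode_one (by decide +kernel)) hrel
  · exfalso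
    have hrel := congrArg ψ₃ (rel_za_4_6 a z hap hz)
    rw [map_pow, map_mul, map_pow, h3a, map_one, ← pow_mul] at hrel
    have hw := h.mul (hap 16 (by norm_num)) (C := cf4_18_1) (by decide +kernel)
    have hq1 := hw.pow_one
    have hq2 := hq1.pow_add hq1 (C := cf4_18_p_2) (by decide +kernel)
    have hq4 := hq2.pow_add hq2 (C := cf4_18_p_4) (by decide +kernel)
    have hq6 := hq4.pow_add hq2 (C := cf4_18_p_6) (by decide +kernel)
    exact (hq6.ne isCode_one (by decide +kernel)) hrel
  · exfalso
    have hrel := congrArg ψ₃ (rel_za_4_6 a z hap hz)
    rw [map_pow, map_mul, map_pow, h3a, map_one, ← pow_mul] at hrel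
    have hw := h.mul (hap 16 (by norm_num)) (C := cf4_21_1) (by decide +kernel)
    have hq1 := hw.pow_one
    have hq2 := hq1.pow_add hq1 (C := cf4_21_p_2) (by decide +kernel)
    have hq4 := hq2.pow_add hq2 (C := cf4_21_p_4) (by decide +kernel)
    have hq6 := hq4.pow_add hq2 (C := cf4_21_p_6) (by decide +kernel)
    exact (hq6.ne isCode_one (by decide +kernel)) hrel
  · exfalso
    have hrel := congrArg ψ₃ (rel_za_2_19 a z hap hz)
    rw [map_pow, map_mul, map_pow, h3a, map_one, ← pow_mul] at hrel
    have hw := h.mul (hap 8 (by norm_num)) (C := cf4_25_1) (by decide +kernel)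
    have hq1 := hw.pow_one
    have hq2 := hq1.pow_add hq1 (C := cI) (by decide +kernel)
    have hq4 := hq2.pow_add hq2 (C := cI) (by decide +kernel)
    have hq8 := hq4.pow_add hq4 (C := cI) (by decide +kernel)
    have hq16 := hq8.pow_add hq8 (C := cI) (by decide +kernel)
    have hq18 := hq16.pow_add hq2 (C := cI) (by decide +kernel)
    have hq19 := hq18.pow_add hq1 (C := cf4_25_p_19) (by decide +kernel)
    exact (hq19.ne isCode_one (by decide +kernel)) hrel

/-- The outer automorphism group of the Janko group J₁ (the group generated by two explicit 7 × 7 matrices over the integers modulo 11) is trivial: every automorphism is inner. -/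
theorem result : Nat.card (Cfsg.Out ↥Cfsg.Spor.J1) = 1 := card_out_eq_one' aut_inner

end Cfsg.Agent.S2065
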