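import Cfsg.Statements.S2080
import Cfsg.Agent.S0472
import Cfsg.Agent.Lib.Helper38.OutCert2
import Cfsg.Agent.Lib.Helper38.Out23Prs
import Cfsg.Agent.Lib.Helper38.Out23ChkA
import Cfsg.Agent.Lib.Helper38.Out23ChkB
import Cfsg.Agent.Lib.Helper38.Out23ChkC
import Cfsg.Agent.Lib.Helper38.Out23ChkD
import Cfsg.Agent.Lib.Helper73.OutFinal
import Cfsg.Agent.Lib.Helper14.OutSylow
import Cfsg.Agent.Lib.Helper34.OutS3
import Cfsg.Agent.Lib.Helper19.OutKZero

set_option autoImplicit false
open Cfsg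

namespace Cfsg.Agent.S2080

open Cfsg.Agent.Lib.Helper38 Cfsg.Agent.Lib.Helper38.Fi23P Cfsg.Agent.S1697 Cfsg.Agent.S0472
open Cfsg.Agent.Lib.Helper38.Out23 Cfsg.Agent.Lib

set_option maxRecDepth 100000
set_option maxHeartbeats 0

/-- the element of order 13 -/
noncomputable abbrev x0 : PresentedGroup rels := (x0w.map γ).prod

theorem g1 (s : ℕ) : ([s].map γ).prod = γ s := by
  rw [List.map_cons, List.map_nil, List.prod_cons, List.prod_nil, mul_one]

theorem x0_range : ∀ s ∈ x0w, s < Fi23B.cert.g := by decide +kernel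

theorem zw_range : ∀ s ∈ zw, s < Fi23B.cert.g := by decide +kernel

/-- the action on the 31671 points, a base, and the stabiliser of the point `0` -/
theorem setting : ∃ φ : PresentedGroup rels →* Equiv.Perm ℕ, (∀ s < 10, φ (γ s) = Fi23B.cert.σ s) ∧
    (∀ x : PresentedGroup rels, (∀ p ∈ [0, 1, 2, 3, 11246], φ x p = p) → x = 1) ∧
    (∀ g : PresentedGroup rels, φ g 0 = 0 ↔ g * z = z * g) := by
  obtain ⟨φ, hφ, -, hbase⟩ := order_and_base
  exact ⟨φ, hφ, hbase, Cert.hst_of_cen B_hP B_hC φ hφ z main.1⟩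

section

variable (φ : PresentedGroup rels →* Equiv.Perm ℕ) (hφ : ∀ s < 10, φ (γ s) = Fi23B.cert.σ s)
  (hbase : ∀ x : PresentedGroup rels, (∀ p ∈ [0, 1, 2, 3, 11246], φ x p = p) → x = 1)
  (hst : ∀ g : PresentedGroup rels, φ g 0 = 0 ↔ g * z = z * g)

include hφ hbase in
/-- the generators are conjugates of `z`, with their points -/
theorem anch : ∀ p ∈ [(0, X0, 11589), (1, X1, 8004), (2, X2, 8003), (3, X3, 8000), (4, X4, 8001),
      (5, X5, 8002), (6, X6, 8005), (7, X7, 8006), (8, X8, 7999), (9, X9, 8007)],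
    ∃ gp : PresentedGroup rels, ([p.1].map γ).prod = gp * z * gp⁻¹ ∧ φ gp 0 = p.2.2 := by
  intro p hp
  have h : ([0, 1, 2, 3, 11246].all (fun b => band (Nat.blt b Fi23B.cert.n)
      (Nat.beq (Fi23B.cert.pw ([p.1] ++ (p.2.1 ++ (zw ++ p.2.1.reverse))) b) b)) = true) ∧
      band (Nat.blt (Fi23B.cert.pw p.2.1 0) Fi23B.cert.n) (Nat.beq (Fi23B.cert.pw p.2.1 0) p.2.2) = true := by
    revert p
    decide +kernel
  exact Cert.anchor_of_word hγ B_hC φ hφ [0, 1, 2, 3, 11246] hbase zw z_sq [p.1] p.2.1 p.2.2 h.1 h.2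

include hφ hbase in
theorem x0_pow : x0 ^ 13 = 1 := by
  apply hbase
  intro p hp
  have hp' : p < Fi23B.cert.n ∧ Fi23B.cert.itp x0w 13 p = p := by
    revert p
    decide +kernel
  rw [(Cert.phi_pow B_hC φ hφ x0w x0_range 13 p hp'.1).1, hp'.2]

include hφ in
theorem x0_ne : x0 ≠ 1 := by
  intro h
  have h1 : φ x0 2 = 2 := by rw [h, map_one]; rfl
  rw [Cert.phi_list B_hC φ hφ x0w 2 (by decide +kernel)] at h1
  exact absurd h1 (by decide +kernel)

include hφ hst in
theorem hxz : x0 * z = z * x0 :=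
  (hst x0).mp (by rw [Cert.phi_list B_hC φ hφ x0w 0 (by decide +kernel)]; decide +kernel)

include hφ hbase in
theorem j_x0 : γ 7 * x0 = x0 * γ 7 :=
  Cert.comm_of_word hγ 7 x0w (list_one_of_base B_hC φ hφ [0, 1, 2, 3, 11246] hbase _ (by decide +kernel))

include hφ hbase in
theorem zjz : γ 7 * z * γ 7 = z * γ 7 * z := by
  have h := list_one_of_base B_hC φ hφ [0, 1, 2, 3, 11246] hbase
    (zw ++ ([7] ++ (zw ++ ([7] ++ (zw ++ [7]))))) (by decide +kernel)
  simp only [List.map_append, List.prod_append, List.map_cons, List.map_nil, List.prod_cons,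
    List.prod_nil, mul_one] at h
  have hz := z_sq
  have hj := hγ 7
  have hAB : (z * γ 7 * z) * (γ 7 * z * γ 7) = 1 := by
    rw [← h]; simp only [mul_assoc]
  have hAA : (z * γ 7 * z) * (z * γ 7 * z) = 1 := by
    calc (z * γ 7 * z) * (z * γ 7 * z) = z * (γ 7 * (z * z) * γ 7) * z := by simp only [mul_assoc]
      _ = 1 := by rw [hz, mul_one, hj, mul_one, hz]
  exact mul_left_cancel (hAB.trans hAA.symm)

include hφ hbase hst in
theorem hS_x0 : ∀ g : PresentedGroup rels, (g * z * g⁻¹) * x0 = x0 * (g * z * g⁻¹) →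
    g * z * g⁻¹ = z ∨ g * z * g⁻¹ = γ 7 ∨ g * z * g⁻¹ = γ 7 * z * γ 7 := by
  intro g hg
  have h1 := (Helper88.OutA.comm_iff_fix φ z hst g x0).mp hg.symm
  have h2 := Cert.fix_of_chk B_hP B_hC φ hφ x0w x0_range [0, 1, 8006] chkF_all g h1
  simp only [List.mem_cons, List.mem_nil_iff, or_false] at h2
  rcases h2 with h2 | h2 | h2
  · left
    have h3 := (Helper88.OutA.conj_eq_iff φ z hst g 1).mpr (by rw [h2, map_one]; rfl)
    rw [h3, one_mul, inv_one, mul_one]
  · right; right
    have h3 : φ (γ 7) 0 = 1 := by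
      have h4 := Cert.phi_list B_hC φ hφ [7] 0 (by decide +kernel)
      rw [g1] at h4
      rw [h4]
      decide +kernel
    have h5 := (Helper88.OutA.conj_eq_iff φ z hst g (γ 7)).mpr (by rw [h2, h3])
    rw [h5, inv_eq_of_mul_eq_one_left (hγ 7)]
  · right; left
    obtain ⟨gp, hgp, hgp0⟩ := anch φ hφ hbase (7, X7, 8006) (by decide)
    have h5 := (Helper88.OutA.conj_eq_iff φ z hst g gp).mpr (by rw [h2, hgp0])
    rw [h5, ← hgp, g1]

include hφ hbase hst in
theorem hone : ∀ k : PresentedGroup rels, k * x0 = x0 * k → k * z = z * k → k * γ 7 = γ 7 * k →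
    k * γ 0 = γ 0 * k → k = 1 := by
  intro k hkx hkz hkj hky
  have hal0 : ∀ c ∈ [10, 11, 12, 7, 0], k * ((blk c).map γ).prod = ((blk c).map γ).prod * k := by
    intro c hc
    simp only [List.mem_cons, List.mem_nil_iff, or_false] at hc
    rcases hc with rfl | rfl | rfl | rfl | rfl
    · exact hkx
    · show k * (x0w.reverse.map γ).prod = (x0w.reverse.map γ).prod * k
      rw [prod_reverse_inv hγ]
      exact ((show Commute k x0 from hkx).inv_right).eq
    · exact hkz
    · show k * ([7].map γ).prod = ([7].map γ).prod * k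
      rw [g1]; exact hkj
    · show k * ([0].map γ).prod = ([0].map γ).prod * k
      rw [g1]; exact hky
  have A := anch φ hφ hbase
  have hal1 := Cert.hone_stage B_hP B_hC φ hφ z hst k blk _ hal0 T1 (by decide +kernel)
    (by decide +kernel) 1 8004 (A (1, X1, 8004) (by decide)) chkH1
  have hal2 := Cert.hone_stage B_hP B_hC φ hφ z hst k blk _ hal1 T2 (by decide +kernel)
    (by decide +kernel) 2 8003 (A (2, X2, 8003) (by decide)) chkH2
  have hal3 := Cert.hone_stage B_hP B_hC φ hφ z hst k blk _ hal2 T3 (by decide +kernel)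
    (by decide +kernel) 3 8000 (A (3, X3, 8000) (by decide)) chkH3
  have hal4 := Cert.hone_stage B_hP B_hC φ hφ z hst k blk _ hal3 T6 (by decide +kernel)
    (by decide +kernel) 6 8005 (A (6, X6, 8005) (by decide)) chkH6
  have hal5 := Cert.hone_stage B_hP B_hC φ hφ z hst k blk _ hal4 T4 (by decide +kernel)
    (by decide +kernel) 4 8001 (A (4, X4, 8001) (by decide)) chkH4
  have hal6 := Cert.hone_stage B_hP B_hC φ hφ z hst k blk _ hal5 T5 (by decide +kernel)
    (by decide +kernel) 5 8002 (A (5, X5, 8002) (by decide)) chkH5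
  have hal7 := Cert.hone_stage B_hP B_hC φ hφ z hst k blk _ hal6 T8 (by decide +kernel)
    (by decide +kernel) 8 7999 (A (8, X8, 7999) (by decide)) chkH8
  have hal8 := Cert.hone_stage B_hP B_hC φ hφ z hst k blk _ hal7 T9 (by decide +kernel)
    (by decide +kernel) 9 8007 (A (9, X9, 8007) (by decide)) chkH9
  apply cen_one
  apply Cert.central_of_gens (γ '' {s | s < 10}) B_hP.hgen k
  rintro x ⟨s, hs, rfl⟩
  have hs' : s < 10 := hs
  have hb : blk s = [s] := by interval_cases s <;> rfl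
  have h := hal8 s (by interval_cases s <;> decide)
  rw [hb, g1] at h
  exact h

include hφ hbase hst in
theorem hK : ∀ k : PresentedGroup rels, k * x0 = x0 * k → k * z = z * k → k * γ 7 = γ 7 * k →
    ∃ n : ℕ, k = x0 ^ n := by
  obtain ⟨gY, hgY, hgY0⟩ := anch φ hφ hbase (0, X0, 11589) (by decide)
  rw [g1] at hgY
  have hgY0' : φ gY 0 = 11589 := hgY0
  intro k hkx hkz hkj
  refine Helper19.OutKZero.kzero_of φ z hst x0 (γ 7) (γ 0) gY hgY ?_ ?_ (hxz φ hφ hst)
    (j_x0 φ hφ hbase).symm ?_ (hone φ hφ hbase hst) k hkx hkz hkj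
  · rw [hgY0', Cert.phi_list B_hC φ hφ zw 11589 (by decide +kernel)]
    decide +kernel
  · have h4 := Cert.phi_list B_hC φ hφ [7] 11589 (by decide +kernel)
    rw [g1] at h4
    rw [hgY0', h4]
    decide +kernel
  · exact Cert.hE_of_chk hγ B_hP B_hC φ hφ zw x0w zw_range x0_range 7 0 (by decide) (by decide)
      11589 gY hgY0' cyc etbl chkCyc_all

include hφ hbase hst in
/-- the involutions commuting with `x0` are conjugates of `z` -/
theorem invol : ∀ t : PresentedGroup rels, t * t = 1 → t ≠ 1 → t * x0 = x0 * t →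
    ∃ g : PresentedGroup rels, t = g * z * g⁻¹ := by
  intro t ht2 ht1 htx
  have h := Helper34.OutS3.invol_of_cent x0 z (γ 7) (γ 7 * z * γ 7) (x0_pow φ hφ hbase) z_sq (hγ 7)
    rfl (zjz φ hφ hbase) (hxz φ hφ hst).symm (j_x0 φ hφ hbase) (hS_x0 φ hφ hbase hst)
    (hK φ hφ hbase hst) t ht2 ht1 htx
  rcases h with rfl | rfl | rfl
  · exact ⟨1, by rw [one_mul, inv_one, mul_one]⟩
  · obtain ⟨gp, hgp, -⟩ := anch φ hφ hbase (7, X7, 8006) (by decide)
    exact ⟨gp, by rw [← hgp, g1]⟩
  · exact ⟨γ 7, by rw [inv_eq_of_mul_eq_one_left (hγ 7)]⟩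

include hφ hbase hst in
/-- every automorphism maps `z` to a conjugate of `z` -/
theorem alpha_z (α : PresentedGroup rels ≃* PresentedGroup rels) :
    ∃ g0 : PresentedGroup rels, α z = g0 * z * g0⁻¹ := by
  have := fin0.1
  exact Helper14.OutSylow.conj_of_sylow z x0 314574651791769600 (by rw [card_eq]) (by decide)
    (x0_pow φ hφ hbase) (x0_ne φ hφ) z_sq z_ne (hxz φ hφ hst).symm (invol φ hφ hbase hst) α

include hφ hbase hst in
/-- the chain: an inner correction of `α` fixes all the generators -/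
theorem chain (α : PresentedGroup rels ≃* PresentedGroup rels) :
    Fi23B.cert.St γ φ z α prs10 := by
  have hα := alpha_z φ hφ hbase hst α
  have s0 : Fi23B.cert.St γ φ z α prs0 := by
    refine ⟨?_, ?_⟩
    · intro p hp
      rw [show prs0 = [(zw, 0)] from rfl, List.mem_singleton] at hp
      subst hp
      exact ⟨zw_range, 1, by rw [one_mul, inv_one, mul_one], by rw [map_one]; rfl⟩
    · obtain ⟨g0, hg0⟩ := hα
      refine ⟨g0⁻¹, ?_⟩
      intro x hx
      rw [show prs0 = [(zw, 0)] from rfl, List.map_cons, List.map_nil, List.mem_singleton] at hx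
      subst hx
      show g0⁻¹ * α z * g0⁻¹⁻¹ = z
      rw [hg0]; group
  have s1 : Fi23B.cert.St γ φ z α prs1 :=
    Cert.level_step hγ B_hP B_hC φ hφ [0, 1, 2, 3, 11246] hbase zw z_sq hst α hα prs0 [7] X7 8006
      L1 R1 (by decide +kernel) (by decide +kernel) (by decide +kernel) (by decide +kernel)
      (by decide +kernel) chkR1 chkP1 s0
  have s2 : Fi23B.cert.St γ φ z α prs2 :=
    Cert.level_step hγ B_hP B_hC φ hφ [0, 1, 2, 3, 11246] hbase zw z_sq hst α hα prs1 [6] X6 8005
      L2 R2 (by decide +kernel) (by decide +kernel) (by decide +kernel) (by decide +kernel)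
      (by decide +kernel) chkR2 chkP2 s1
  have s3 : Fi23B.cert.St γ φ z α prs3 :=
    Cert.level_step hγ B_hP B_hC φ hφ [0, 1, 2, 3, 11246] hbase zw z_sq hst α hα prs2 [5] X5 8002
      L3 R3 (by decide +kernel) (by decide +kernel) (by decide +kernel) (by decide +kernel)
      (by decide +kernel) chkR3 chkP3 s2
  have s4 : Fi23B.cert.St γ φ z α prs4 :=
    Cert.level_step hγ B_hP B_hC φ hφ [0, 1, 2, 3, 11246] hbase zw z_sq hst α hα prs3 [0] X0 11589
      L4 R4 (by decide +kernel) (by decide +kernel) (by decide +kernel) (by decide +kernel)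
      (by decide +kernel) chkR4 chkP4 s3
  have s5 : Fi23B.cert.St γ φ z α prs5 :=
    Cert.level_step hγ B_hP B_hC φ hφ [0, 1, 2, 3, 11246] hbase zw z_sq hst α hα prs4 [1] X1 8004
      L5 R5 (by decide +kernel) (by decide +kernel) (by decide +kernel) (by decide +kernel)
      (by decide +kernel) chkR5 chkP5 s4
  have s6 : Fi23B.cert.St γ φ z α prs6 :=
    Cert.level_step hγ B_hP B_hC φ hφ [0, 1, 2, 3, 11246] hbase zw z_sq hst α hα prs5 [2] X2 8003
      L6 R6 (by decide +kernel) (by decide +kernel) (by decide +kernel) (by decide +kernel)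
      (by decide +kernel) chkR6 chkP6 s5
  have s7 : Fi23B.cert.St γ φ z α prs7 :=
    Cert.level_step hγ B_hP B_hC φ hφ [0, 1, 2, 3, 11246] hbase zw z_sq hst α hα prs6 [3] X3 8000
      L7 R7 (by decide +kernel) (by decide +kernel) (by decide +kernel) (by decide +kernel)
      (by decide +kernel) chkR7 chkP7 s6
  have s8 : Fi23B.cert.St γ φ z α prs8 :=
    Cert.level_step hγ B_hP B_hC φ hφ [0, 1, 2, 3, 11246] hbase zw z_sq hst α hα prs7 [8] X8 7999
      L8 R8 (by decide +kernel) (by decide +kernel) (by decide +kernel) (by decide +kernel)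
      (by decide +kernel) chkR8 chkP8 s7
  have s9 : Fi23B.cert.St γ φ z α prs9 :=
    Cert.level_step hγ B_hP B_hC φ hφ [0, 1, 2, 3, 11246] hbase zw z_sq hst α hα prs8 [9] X9 8007
      L9 R9 (by decide +kernel) (by decide +kernel) (by decide +kernel) (by decide +kernel)
      (by decide +kernel) chkR9 chkP9 s8
  exact Cert.level_step hγ B_hP B_hC φ hφ [0, 1, 2, 3, 11246] hbase zw z_sq hst α hα prs9 [4] X4 8001
      L10 R10 (by decide +kernel) (by decide +kernel) (by decide +kernel) (by decide +kernel)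
      (by decide +kernel) chkR10 chkP10 s9

include hφ hbase hst in
/-- every automorphism is inner -/
theorem inner (α : PresentedGroup rels ≃* PresentedGroup rels) :
    ∃ v : PresentedGroup rels, ∀ x : PresentedGroup rels, α x = v * x * v⁻¹ := by
  obtain ⟨-, u, hu⟩ := chain φ hφ hbase hst α
  apply Helper73.OutFinal.inner_of_fix α (γ '' {s | s < 10}) B_hP.hgen
  refine ⟨u, ?_⟩
  have hmem : ∀ s < 10, ∃ p ∈ prs10, p.1 = [s] := by decide +kernel
  rintro x ⟨s, hs, rfl⟩
  obtain ⟨p, hp, hp1⟩ := hmem s hs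
  have h := hu ((p.1.map γ).prod) (List.mem_map.mpr ⟨p, hp, rfl⟩)
  rw [hp1, g1] at h
  exact h

end

/-- The outer automorphism group of the Fischer group Fi₂₃ (the finitely presented group of the definitions) is trivial: every automorphism is inner. -/
theorem result : Nat.card (Cfsg.Out Cfsg.Spor.Fi23) = 1 := by
  obtain ⟨φ, hφ, hbase, hst⟩ := setting
  show Nat.card (MulAut (PresentedGroup rels) ⧸ (MulAut.conj : PresentedGroup rels →* MulAut (PresentedGroup rels)).range) = 1
  exact Helper73.OutFinal.card_out_eq_one (fun α => inner φ hφ hbase hst α)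

end Cfsg.Agent.S2080
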