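import Cfsg.Statements.S2119
import Mathlib

set_option autoImplicit false
open Cfsg

namespace Cfsg.Agent.S2119


open Equiv Equiv.Perm Nat
open scoped Pointwise

theorem perm_inv_apply_self {α : Type*} (f : Perm α) (x : α) : f⁻¹ (f x) = x :=
  f.symm_apply_apply x

theorem perm_apply_inv_self {α : Type*} (f : Perm α) (x : α) : f (f⁻¹ x) = x :=
  f.apply_symm_apply x

theorem count_ineq : ∀ j m : ℕ, (j = 0 → 1 ≤ m) →
    2 * 3 ^ (j + 1) * (j + 2)! * m ! < (m + 3 * j + 3)! := by
  intro j
  induction j with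
  | zero =>
    intro m hm
    have hm1 := hm rfl
    have h1 : (m + 3)! = (m + 3) * ((m + 2) * ((m + 1) * m !)) := by
      rw [Nat.factorial_succ, Nat.factorial_succ, Nat.factorial_succ]
    have h2 : 0 < m ! := Nat.factorial_pos m
    simp only [Nat.mul_zero, Nat.add_zero, zero_add, pow_one]
    rw [h1]
    have h3 : (2 : ℕ)! = 2 := rfl
    rw [h3]
    have h24 : 4 * (3 * 2) ≤ (m + 3) * ((m + 2) * (m + 1)) :=
      Nat.mul_le_mul (by omega) (Nat.mul_le_mul (by omega) (by omega))
    have h5 : (m + 3) * ((m + 2) * ((m + 1) * m !)) = ((m + 3) * ((m + 2) * (m + 1))) * m ! := by ring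
    rw [h5]
    calc 2 * 3 * 2 * m ! < 4 * (3 * 2) * m ! := by
          apply Nat.mul_lt_mul_of_pos_right (by norm_num) h2
      _ ≤ (m + 3) * ((m + 2) * (m + 1)) * m ! := Nat.mul_le_mul_right _ h24
  | succ j ih =>
    intro m _
    by_cases hjm : j = 0 ∧ m = 0
    · obtain ⟨rfl, rfl⟩ := hjm
      decide
    · have hih := ih m (by intro hj; by_contra hm; exact hjm ⟨hj, by omega⟩)
      have h1 : (m + 3 * (j + 1) + 3)! = (m + 3 * j + 6) * ((m + 3 * j + 5) * ((m + 3 * j + 4) * (m + 3 * j + 3)!)) := by
        have : m + 3 * (j + 1) + 3 = (m + 3 * j + 3) + 1 + 1 + 1 := by ring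
        rw [this, Nat.factorial_succ, Nat.factorial_succ, Nat.factorial_succ]
      have h2 : (j + 1 + 2)! = (j + 3) * (j + 2)! := by
        have : j + 1 + 2 = (j + 2) + 1 := by ring
        rw [this, Nat.factorial_succ]
      rw [h1, h2]
      have h3 : 2 * 3 ^ (j + 1 + 1) * ((j + 3) * (j + 2)!) * m ! = (3 * (j + 3)) * (2 * 3 ^ (j + 1) * (j + 2)! * m !) := by
        rw [pow_succ]; ring
      rw [h3]
      have h4 : 3 * (j + 3) ≤ (m + 3 * j + 6) * ((m + 3 * j + 5) * (m + 3 * j + 4)) := by
        calc 3 * (j + 3) ≤ (m + 3 * j + 6) * (1 * 2) := by omega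
          _ ≤ (m + 3 * j + 6) * ((m + 3 * j + 5) * (m + 3 * j + 4)) :=
            Nat.mul_le_mul_left _ (Nat.mul_le_mul (by omega) (by omega))
      have h5 : (m + 3 * j + 6) * ((m + 3 * j + 5) * ((m + 3 * j + 4) * (m + 3 * j + 3)!)) =
          ((m + 3 * j + 6) * ((m + 3 * j + 5) * (m + 3 * j + 4))) * (m + 3 * j + 3)! := by ring
      rw [h5]
      calc 3 * (j + 3) * (2 * 3 ^ (j + 1) * (j + 2)! * m !)
          < 3 * (j + 3) * (m + 3 * j + 3)! := by
            apply Nat.mul_lt_mul_of_pos_left hih; omega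
        _ ≤ ((m + 3 * j + 6) * ((m + 3 * j + 5) * (m + 3 * j + 4))) * (m + 3 * j + 3)! :=
            Nat.mul_le_mul_right _ h4

variable {n : ℕ}

theorem isThreeCycle_of_orderOf_small (hn : n ≤ 5) (g : Perm (Fin n)) (hg : orderOf g = 3) :
    g.IsThreeCycle := by
  obtain ⟨k, hk⟩ := cycleType_prime_order (σ := g) (by rw [hg]; exact Nat.prime_three)
  rw [hg] at hk
  have hs := g.sum_cycleType_le
  rw [hk, Multiset.sum_replicate, Fintype.card_fin] at hs
  simp only [smul_eq_mul] at hs
  have hk0 : k = 0 := by omega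
  subst hk0
  unfold IsThreeCycle
  rw [hk]; rfl

theorem map_isThreeCycle_large (hn : 7 ≤ n) (f : alternatingGroup (Fin n) ≃* alternatingGroup (Fin n))
    (σ : alternatingGroup (Fin n)) (hσ : IsThreeCycle (σ : Perm (Fin n))) :
    IsThreeCycle ((f σ : alternatingGroup (Fin n)) : Perm (Fin n)) := by
  classical
  have h3 : orderOf ((f σ : alternatingGroup (Fin n)) : Perm (Fin n)) = 3 := by
    rw [Subgroup.orderOf_coe, MulEquiv.orderOf_eq, ← Subgroup.orderOf_coe]
    exact hσ.orderOf
  obtain ⟨k, hk⟩ := cycleType_prime_order (σ := ((f σ : alternatingGroup (Fin n)) : Perm (Fin n)))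
    (by rw [h3]; exact Nat.prime_three)
  rw [h3] at hk
  rcases Nat.eq_zero_or_pos k with hk0 | hkpos
  · subst hk0
    unfold IsThreeCycle
    rw [hk]; rfl
  exfalso
  obtain ⟨j, rfl⟩ : ∃ j, k = j + 1 := ⟨k - 1, by omega⟩
  have hs := ((f σ : alternatingGroup (Fin n)) : Perm (Fin n)).sum_cycleType_le
  rw [hk, Multiset.sum_replicate, Fintype.card_fin] at hs
  simp only [smul_eq_mul] at hs
  obtain ⟨m, hm⟩ : ∃ m, n = m + 3 * j + 6 := ⟨n - (3 * j + 6), by omega⟩
  -- the counting sets
  have hT1 := card_of_cycleType_mul_eq (α := Fin n) ({3} : Multiset ℕ)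
  have hTk := card_of_cycleType_mul_eq (α := Fin n) (Multiset.replicate (j + 1 + 1) 3)
  rw [if_pos (by simp; omega)] at hT1
  rw [if_pos (by
    refine ⟨by simp; omega, ?_⟩
    intro a ha
    rw [Multiset.eq_of_mem_replicate ha]
    norm_num)] at hTk
  simp only [Fintype.card_fin, Multiset.sum_singleton, Multiset.prod_singleton, Multiset.toFinset_singleton,
    Finset.prod_singleton, Multiset.count_singleton_self, Nat.factorial_one, mul_one] at hT1
  have htf : (Multiset.replicate (j + 1 + 1) 3).toFinset = {3} := by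
    rw [Multiset.toFinset_replicate, if_neg (by omega)]
  simp only [Fintype.card_fin, Multiset.sum_replicate, Multiset.prod_replicate, htf, Finset.prod_singleton,
    Multiset.count_replicate_self, smul_eq_mul] at hTk
  -- conjugacy classes
  let C : Finset (alternatingGroup (Fin n)) := Finset.univ.filter (fun x => IsConj σ x)
  let C' : Finset (alternatingGroup (Fin n)) := Finset.univ.filter (fun x => IsConj (f σ) x)
  have hCC' : C.card = C'.card := by
    apply Finset.card_bij (fun x _ => f x)
    · intro x hx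
      simp only [C, C', Finset.mem_filter, Finset.mem_univ, true_and] at hx ⊢
      exact MonoidHom.map_isConj f.toMonoidHom hx
    · intro x _ y _ hxy
      exact f.injective hxy
    · intro y hy
      simp only [C, C', Finset.mem_filter, Finset.mem_univ, true_and] at hy ⊢
      refine ⟨f.symm y, ?_, by simp⟩
      have := MonoidHom.map_isConj f.symm.toMonoidHom hy
      simpa using this
  have hC1 : C.card ≤ (Finset.univ.filter (fun g : Perm (Fin n) => g.cycleType = {3})).card := by
    rw [← Finset.card_image_of_injective C Subtype.val_injective]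
    apply Finset.card_le_card
    intro g hg
    simp only [C, Finset.mem_image, Finset.mem_filter, Finset.mem_univ, true_and] at hg ⊢
    obtain ⟨x, hx, rfl⟩ := hg
    rw [isConj_iff] at hx
    obtain ⟨c, rfl⟩ := hx
    simp only [Subgroup.coe_mul, Subgroup.coe_inv]
    rw [cycleType_conj]
    exact hσ
  have hCk : (Finset.univ.filter (fun g : Perm (Fin n) => g.cycleType = Multiset.replicate (j + 1 + 1) 3)).card ≤ 2 * C'.card := by
    have hn2 : 2 ≤ n := by omega
    let x0 : Perm (Fin n) := swap ⟨0, by omega⟩ ⟨1, by omega⟩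
    have hx0 : sign x0 = -1 := by
      apply sign_swap
      intro h
      have := congrArg Fin.val h
      simp at this
    have hsub : (Finset.univ.filter (fun g : Perm (Fin n) => g.cycleType = Multiset.replicate (j + 1 + 1) 3)) ⊆
        C'.image Subtype.val ∪ C'.image (fun x : alternatingGroup (Fin n) => x0 * (x : Perm (Fin n)) * x0⁻¹) := by
      intro t ht
      simp only [Finset.mem_filter, Finset.mem_univ, true_and] at ht
      have hconj : IsConj ((f σ : alternatingGroup (Fin n)) : Perm (Fin n)) t := by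
        rw [isConj_iff_cycleType_eq, hk, ht]
      rw [isConj_iff] at hconj
      obtain ⟨y, hy⟩ := hconj
      rw [Finset.mem_union]
      rcases Int.units_eq_one_or (sign y) with hsy | hsy
      · left
        rw [Finset.mem_image]
        refine ⟨(⟨y, mem_alternatingGroup.mpr hsy⟩ : alternatingGroup (Fin n)) * f σ * (⟨y, mem_alternatingGroup.mpr hsy⟩ : alternatingGroup (Fin n))⁻¹, ?_, ?_⟩
        · simp only [C', Finset.mem_filter, Finset.mem_univ, true_and]
          rw [isConj_iff]
          exact ⟨_, rfl⟩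
        · simp only [Subgroup.coe_mul, Subgroup.coe_inv]
          exact hy
      · right
        rw [Finset.mem_image]
        have hz : x0⁻¹ * y ∈ alternatingGroup (Fin n) := by
          rw [mem_alternatingGroup, map_mul, map_inv, hx0, hsy]
          decide
        refine ⟨(⟨x0⁻¹ * y, hz⟩ : alternatingGroup (Fin n)) * f σ * (⟨x0⁻¹ * y, hz⟩ : alternatingGroup (Fin n))⁻¹, ?_, ?_⟩
        · simp only [C', Finset.mem_filter, Finset.mem_univ, true_and]
          rw [isConj_iff]
          exact ⟨_, rfl⟩
        · simp only [Subgroup.coe_mul, Subgroup.coe_inv]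
          rw [← hy]
          group
    calc _ ≤ (C'.image Subtype.val ∪ C'.image (fun x : alternatingGroup (Fin n) => x0 * (x : Perm (Fin n)) * x0⁻¹)).card := Finset.card_le_card hsub
      _ ≤ (C'.image Subtype.val).card + (C'.image (fun x : alternatingGroup (Fin n) => x0 * (x : Perm (Fin n)) * x0⁻¹)).card := Finset.card_union_le _ _
      _ ≤ C'.card + C'.card := Nat.add_le_add Finset.card_image_le Finset.card_image_le
      _ = 2 * C'.card := by ring
  -- arithmetic
  set N1 := (Finset.univ.filter (fun g : Perm (Fin n) => g.cycleType = {3})).card with hN1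
  set Nk := (Finset.univ.filter (fun g : Perm (Fin n) => g.cycleType = Multiset.replicate (j + 1 + 1) 3)).card with hNk
  have hle : Nk ≤ 2 * N1 := by
    calc Nk ≤ 2 * C'.card := hCk
      _ = 2 * C.card := by rw [hCC']
      _ ≤ 2 * N1 := Nat.mul_le_mul_left 2 hC1
  have hn3 : n - 3 = m + 3 * j + 3 := by omega
  have hnk : n - (j + 1 + 1) * 3 = m := by omega
  rw [hn3] at hT1
  rw [hnk] at hTk
  have hineq := count_ineq j m (by intro hj; omega)
  have hN1pos : 0 < N1 := by
    by_contra h0
    have : N1 = 0 := by omega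
    rw [this] at hT1
    simp at hT1
    exact (Nat.factorial_pos n).ne' hT1.symm
  have h6 : N1 * ((m + 3 * j + 3)! * 3) ≤ N1 * (3 * (2 * 3 ^ (j + 1) * (j + 2)! * m !)) := by
    calc N1 * ((m + 3 * j + 3)! * 3) = n ! := hT1
      _ = Nk * (m ! * 3 ^ (j + 1 + 1) * (j + 1 + 1)!) := hTk.symm
      _ ≤ 2 * N1 * (m ! * 3 ^ (j + 1 + 1) * (j + 1 + 1)!) := Nat.mul_le_mul_right _ hle
      _ = N1 * (3 * (2 * 3 ^ (j + 1) * (j + 2)! * m !)) := by rw [pow_succ]; ring
  have h7 := Nat.le_of_mul_le_mul_left h6 hN1pos
  omega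




theorem stab_eq_closure (i : Fin n) :
    MulAction.stabilizer (alternatingGroup (Fin n)) i =
      Subgroup.closure {τ : alternatingGroup (Fin n) | IsThreeCycle (τ : Perm (Fin n)) ∧ (τ : Perm (Fin n)) i = i} := by
  classical
  apply le_antisymm
  · intro g hg
    have hgi : (g : Perm (Fin n)) i = i := hg
    let s : Finset (Fin n) := Finset.univ.erase i
    have hsup : (g : Perm (Fin n)).support ⊆ s := by
      intro x hx
      simp only [s, Finset.mem_erase, Finset.mem_univ, and_true]
      rintro rfl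
      exact (Perm.mem_support.mp hx) hgi
    obtain ⟨h, rfl⟩ := (alternatingGroup.mem_range_ofSubtype_iff s g).mpr hsup
    have htop : h ∈ (⊤ : Subgroup (alternatingGroup s)) := Subgroup.mem_top h
    rw [← alternatingGroup.closure_isThreeCycles_eq_top] at htop
    have := Subgroup.mem_map_of_mem (alternatingGroup.ofSubtype s) htop
    rw [MonoidHom.map_closure] at this
    refine Subgroup.closure_mono ?_ this
    rintro _ ⟨x, hx, rfl⟩
    refine ⟨?_, ?_⟩
    · rw [alternatingGroup.coe_ofSubtype]
      unfold IsThreeCycle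
      rw [cycleType_ofSubtype]
      exact hx
    · rw [alternatingGroup.coe_ofSubtype]
      apply Perm.ofSubtype_apply_of_not_mem
      simp [s]
  · rw [Subgroup.closure_le]
    rintro τ ⟨_, hτ⟩
    exact hτ

/-- A transitive group generated by three-cycles contains the alternating group. -/
theorem alt_le_of_transitive {α : Type*} [Fintype α] [DecidableEq α] (H : Subgroup (Perm α))
    (T : Set (Perm α)) (hT : ∀ τ ∈ T, IsThreeCycle τ) (hH : H = Subgroup.closure T)
    (τ0 : Perm α) (hτ0 : τ0 ∈ T)
    (htr : ∀ x y : α, ∃ h ∈ H, h x = y) : alternatingGroup α ≤ H := by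
  have hTH : ∀ τ ∈ T, τ ∈ H := by
    intro τ hτ; rw [hH]; exact Subgroup.subset_closure hτ
  have hprim : MulAction.IsPreprimitive H α := by
    have : MulAction.IsPretransitive H α := by
      constructor
      intro x y
      obtain ⟨h, hh, hxy⟩ := htr x y
      exact ⟨⟨h, hh⟩, hxy⟩
    refine ⟨?_⟩
    intro B hB
    by_contra hntriv
    unfold MulAction.IsTrivialBlock at hntriv
    push_neg at hntriv
    obtain ⟨hns, hnu⟩ := hntriv
    obtain ⟨x, hx, y, hy, hxy⟩ := hns
    obtain ⟨z, hz⟩ : ∃ z, z ∉ B := by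
      by_contra hcon
      push_neg at hcon
      exact hnu (Set.eq_univ_of_forall hcon)
    obtain ⟨h, hh, hxz⟩ := htr x z
    -- some generator moves B
    have hex : ∃ τ ∈ T, τ • B ≠ B := by
      by_contra hcon
      push_neg at hcon
      have hle : H ≤ MulAction.stabilizer (Perm α) B := by
        rw [hH, Subgroup.closure_le]
        intro τ hτ
        exact hcon τ hτ
      have := hle hh
      rw [MulAction.mem_stabilizer_iff] at this
      apply hz
      rw [← this, ← hxz]
      exact Set.smul_mem_smul_set hx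
    obtain ⟨τ, hτT, hτB⟩ := hex
    have hdisj : Disjoint (τ • B) B := by
      have := hB.smul_eq_or_disjoint (⟨τ, hTH τ hτT⟩ : H)
      rcases this with h1 | h1
      · exact absurd h1 hτB
      · exact h1
    have h3 := (hT τ hτT).card_support
    have hτx : τ x ∉ B := fun hmem => Set.disjoint_left.mp hdisj (Set.smul_mem_smul_set hx) hmem
    have hτy : τ y ∉ B := fun hmem => Set.disjoint_left.mp hdisj (Set.smul_mem_smul_set hy) hmem
    have hsub : ({x, y, τ x, τ y} : Finset α) ⊆ τ.support := by
      intro w hw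
      simp only [Finset.mem_insert, Finset.mem_singleton] at hw
      rcases hw with rfl | rfl | rfl | rfl
      · rw [Perm.mem_support]; intro h; rw [h] at hτx; exact hτx hx
      · rw [Perm.mem_support]; intro h; rw [h] at hτy; exact hτy hy
      · rw [Perm.apply_mem_support, Perm.mem_support]; intro h; rw [h] at hτx; exact hτx hx
      · rw [Perm.apply_mem_support, Perm.mem_support]; intro h; rw [h] at hτy; exact hτy hy
    have hcard : ({x, y, τ x, τ y} : Finset α).card = 4 := by
      rw [Finset.card_insert_of_notMem, Finset.card_insert_of_notMem, Finset.card_insert_of_notMem,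
        Finset.card_singleton]
      · simp only [Finset.mem_singleton]
        intro h; exact hxy (τ.injective h)
      · simp only [Finset.mem_insert, Finset.mem_singleton]
        rintro (h | h)
        · rw [h] at hy; exact hτx hy
        · rw [h] at hy; exact hτy hy
      · simp only [Finset.mem_insert, Finset.mem_singleton]
        rintro (h | h | h)
        · exact hxy h
        · rw [h] at hx; exact hτx hx
        · rw [h] at hx; exact hτy hx
    have := Finset.card_le_card hsub
    omega
  exact alternatingGroup_le_of_isPreprimitive_of_isThreeCycle_mem hprim (hT τ0 hτ0) (hTH τ0 hτ0)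

/-- A group generated by three-cycles and preserving a set `O` cannot contain a product of a
transposition inside `O` and a transposition outside `O`. -/
theorem swap_mul_swap_not_mem {α : Type*} [Fintype α] [DecidableEq α] (H : Subgroup (Perm α))
    (T : Set (Perm α)) (hT : ∀ τ ∈ T, IsThreeCycle τ) (hH : H = Subgroup.closure T)
    (O : Set α) (hO : ∀ h ∈ H, h • O = O) (a b c d : α) (ha : a ∈ O) (hb : b ∈ O) (hab : a ≠ b)
    (hc : c ∉ O) (hd : d ∉ O) : swap a b * swap c d ∉ H := by
  classical
  intro hmem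
  let S := MulAction.stabilizer (Perm α) O
  let ε : S →* ℤˣ := Perm.sign.comp (MulAction.toPermHom S O)
  have hHS : H ≤ S := fun h hh => hO h hh
  have hker : H ≤ ε.ker.map S.subtype := by
    rw [hH, Subgroup.closure_le]
    intro τ hτ
    have hτH : τ ∈ H := by rw [hH]; exact Subgroup.subset_closure hτ
    refine ⟨⟨τ, hHS hτH⟩, ?_, rfl⟩
    rw [SetLike.mem_coe, MonoidHom.mem_ker]
    have h3 : (⟨τ, hHS hτH⟩ : S) ^ 3 = 1 := by
      apply Subtype.ext
      simp only [Subgroup.coe_pow, Subgroup.coe_one]
      rw [← (hT τ hτ).orderOf]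
      exact pow_orderOf_eq_one τ
    have h3' : ε ⟨τ, hHS hτH⟩ ^ 3 = 1 := by rw [← map_pow, h3, map_one]
    have h2' : ε ⟨τ, hHS hτH⟩ ^ 2 = 1 := by
      rw [pow_two]; exact Int.units_mul_self _
    have h32 : ε ⟨τ, hHS hτH⟩ ^ 3 = ε ⟨τ, hHS hτH⟩ ^ 2 * ε ⟨τ, hHS hτH⟩ := pow_succ _ 2
    rw [h2', one_mul] at h32
    rw [← h32]
    exact h3'
  obtain ⟨s, hs, hs'⟩ := hker hmem
  rw [SetLike.mem_coe, MonoidHom.mem_ker] at hs
  have hperm : MulAction.toPermHom S O s = swap (⟨a, ha⟩ : O) ⟨b, hb⟩ := by
    ext x
    rw [MulAction.toPermHom_apply, MulAction.toPerm_apply, SMul.smul_stabilizer_def]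
    have hsv : (s : Perm α) = swap a b * swap c d := hs'
    rw [hsv, Perm.smul_def, Perm.mul_apply]
    have hxc : (x : α) ≠ c := fun h => hc (h ▸ x.2)
    have hxd : (x : α) ≠ d := fun h => hd (h ▸ x.2)
    rw [swap_apply_of_ne_of_ne hxc hxd]
    by_cases hxa : x = ⟨a, ha⟩
    · subst hxa; simp
    · by_cases hxb : x = ⟨b, hb⟩
      · subst hxb; simp
      · rw [swap_apply_of_ne_of_ne hxa hxb, swap_apply_of_ne_of_ne]
        · intro h; exact hxa (Subtype.ext h)
        · intro h; exact hxb (Subtype.ext h)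
  have : ε s = -1 := by
    show Perm.sign (MulAction.toPermHom S O s) = -1
    rw [hperm]
    apply sign_swap
    intro h
    exact hab (congrArg Subtype.val h)
  rw [this] at hs
  exact absurd hs (by decide)


theorem exists_moving (hn : 4 ≤ n) (i p : Fin n) (hip : i ≠ p) :
    ∃ g : alternatingGroup (Fin n), IsThreeCycle (g : Perm (Fin n)) ∧ (g : Perm (Fin n)) i = i ∧
      (g : Perm (Fin n)) p ≠ p := by
  classical
  have hcard : 1 < ((Finset.univ.erase i).erase p).card := by
    rw [Finset.card_erase_of_mem (by simp [hip.symm]), Finset.card_erase_of_mem (Finset.mem_univ i),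
      Finset.card_univ, Fintype.card_fin]
    omega
  obtain ⟨k, hk, l, hl, hkl⟩ := Finset.one_lt_card.mp hcard
  simp only [Finset.mem_erase, Finset.mem_univ, and_true] at hk hl
  have h3 : IsThreeCycle (swap p k * swap p l) :=
    isThreeCycle_swap_mul_swap_same (Ne.symm hk.1) (Ne.symm hl.1) hkl
  refine ⟨⟨swap p k * swap p l, h3.mem_alternatingGroup⟩, h3, ?_, ?_⟩
  · show (swap p k * swap p l) i = i
    rw [Perm.mul_apply, swap_apply_of_ne_of_ne hip (Ne.symm hl.2), swap_apply_of_ne_of_ne hip (Ne.symm hk.2)]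
  · show (swap p k * swap p l) p ≠ p
    rw [Perm.mul_apply, swap_apply_left, swap_apply_of_ne_of_ne hl.1 (Ne.symm hkl)]
    exact hl.1

theorem orderOf_map_three (f : alternatingGroup (Fin n) ≃* alternatingGroup (Fin n))
    (σ : alternatingGroup (Fin n)) (hσ : IsThreeCycle (σ : Perm (Fin n))) :
    orderOf ((f σ : alternatingGroup (Fin n)) : Perm (Fin n)) = 3 := by
  rw [Subgroup.orderOf_coe, MulEquiv.orderOf_eq, ← Subgroup.orderOf_coe]
  exact hσ.orderOf

theorem map_isThreeCycle (h6 : n ≠ 6) (f : alternatingGroup (Fin n) ≃* alternatingGroup (Fin n))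
    (σ : alternatingGroup (Fin n)) (hσ : IsThreeCycle (σ : Perm (Fin n))) :
    IsThreeCycle ((f σ : alternatingGroup (Fin n)) : Perm (Fin n)) := by
  rcases Nat.lt_or_ge n 6 with h | h
  · exact isThreeCycle_of_orderOf_small (by omega) _ (orderOf_map_three f σ hσ)
  · exact map_isThreeCycle_large (by omega) f σ hσ

theorem main_lemma (hn : 4 ≤ n) (h6 : n ≠ 6) (f : alternatingGroup (Fin n) ≃* alternatingGroup (Fin n))
    (i : Fin n) :
    ∃ j : Fin n, ∀ g : alternatingGroup (Fin n), (g : Perm (Fin n)) i = i →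
      ((f g : alternatingGroup (Fin n)) : Perm (Fin n)) j = j := by
  classical
  let X : Set (alternatingGroup (Fin n)) :=
    {τ | IsThreeCycle (τ : Perm (Fin n)) ∧ (τ : Perm (Fin n)) i = i}
  let K : Subgroup (alternatingGroup (Fin n)) :=
    (MulAction.stabilizer (alternatingGroup (Fin n)) i).map f.toMonoidHom
  let H : Subgroup (Perm (Fin n)) := K.map (alternatingGroup (Fin n)).subtype
  let T : Set (Perm (Fin n)) := (alternatingGroup (Fin n)).subtype '' (f.toMonoidHom '' X)
  have hH : H = Subgroup.closure T := by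
    simp only [H, K, T]
    rw [stab_eq_closure, MonoidHom.map_closure, MonoidHom.map_closure]
  have hT : ∀ τ ∈ T, IsThreeCycle τ := by
    rintro _ ⟨_, ⟨τ, ⟨hτ3, _⟩, rfl⟩, rfl⟩
    exact map_isThreeCycle h6 f τ hτ3
  have hKH : ∀ k : alternatingGroup (Fin n), k ∈ K ↔ (k : Perm (Fin n)) ∈ H := by
    intro k
    constructor
    · intro hk; exact Subgroup.mem_map_of_mem _ hk
    · rintro ⟨k', hk', hkk'⟩
      have : k' = k := Subtype.ext hkk'
      rwa [← this]
  have hfH : ∀ g : alternatingGroup (Fin n), (g : Perm (Fin n)) i = i →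
      ((f g : alternatingGroup (Fin n)) : Perm (Fin n)) ∈ H := by
    intro g hg
    rw [← hKH]
    exact Subgroup.mem_map_of_mem _ (show g ∈ MulAction.stabilizer (alternatingGroup (Fin n)) i from hg)
  by_cases hfix : ∃ j, ∀ h ∈ H, h j = j
  · obtain ⟨j, hj⟩ := hfix
    exact ⟨j, fun g hg => hj _ (hfH g hg)⟩
  exfalso
  push_neg at hfix
  have hKcoatom : IsCoatom K := by
    have h1 : IsCoatom (MulAction.stabilizer (alternatingGroup (Fin n)) ({i} : Set (Fin n))) :=
      alternatingGroup.isCoatom_stabilizer_singleton (by rw [Nat.card_eq_fintype_card, Fintype.card_fin]; omega)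
        (Set.singleton_nonempty i) Set.subsingleton_singleton
    rw [MulAction.stabilizer_singleton] at h1
    exact (OrderIso.isCoatom_iff (MulEquiv.mapSubgroup f) _).mpr h1
  obtain ⟨p, hp⟩ : ∃ p : Fin n, i ≠ p := by
    by_cases h0 : i = ⟨0, by omega⟩
    · refine ⟨⟨1, by omega⟩, ?_⟩
      rw [h0]; intro h; have := congrArg Fin.val h; simp at this
    · exact ⟨⟨0, by omega⟩, h0⟩
  obtain ⟨g0, hg03, hg0i, _⟩ := exists_moving hn i p hp
  have hτ0 : ((f g0 : alternatingGroup (Fin n)) : Perm (Fin n)) ∈ T :=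
    ⟨f g0, ⟨g0, ⟨hg03, hg0i⟩, rfl⟩, rfl⟩
  by_cases htr : ∀ x y : Fin n, ∃ h ∈ H, h x = y
  · have hle := alt_le_of_transitive H T hT hH _ hτ0 htr
    have : K = ⊤ := by
      rw [eq_top_iff]
      intro k _
      exact (hKH k).mpr (hle k.2)
    exact hKcoatom.1 this
  · push_neg at htr
    obtain ⟨x, y, hxy⟩ := htr
    let O : Set (Fin n) := {z | ∃ h ∈ H, h x = z}
    have hxO : x ∈ O := ⟨1, H.one_mem, rfl⟩
    have hyO : y ∉ O := fun ⟨h, hh, e⟩ => hxy h hh e
    have hOmem : ∀ h ∈ H, ∀ z ∈ O, h z ∈ O := by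
      rintro h hh z ⟨h', hh', rfl⟩
      exact ⟨h * h', H.mul_mem hh hh', rfl⟩
    have hO : ∀ h ∈ H, h • O = O := by
      intro h hh
      have : h ∈ MulAction.stabilizer (Perm (Fin n)) O := by
        rw [MulAction.mem_stabilizer_set' (Set.toFinite O)]
        intro b hb
        exact hOmem h hh b hb
      exact this
    obtain ⟨h1, hh1, hx1⟩ := hfix x
    obtain ⟨h2, hh2, hy2⟩ := hfix y
    have hbO : h1 x ∈ O := ⟨h1, hh1, rfl⟩
    have hdO : h2 y ∉ O := by
      rintro ⟨h, hh, e⟩
      apply hxy (h2⁻¹ * h) (H.mul_mem (H.inv_mem hh2) hh)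
      rw [Perm.mul_apply, e, perm_inv_apply_self]
    have hnot := swap_mul_swap_not_mem H T hT hH O hO x (h1 x) y (h2 y) hxO hbO (Ne.symm hx1) hyO hdO
    have hKO : K ≤ MulAction.stabilizer (alternatingGroup (Fin n)) O := by
      intro k hk
      rw [MulAction.mem_stabilizer_iff]
      exact hO k ((hKH k).mp hk)
    have hne : MulAction.stabilizer (alternatingGroup (Fin n)) O ≠ ⊤ :=
      alternatingGroup.stabilizer_ne_top ⟨x, hxO⟩ ⟨y, hyO, h2 y, hdO, Ne.symm hy2⟩
    have hKeq : K = MulAction.stabilizer (alternatingGroup (Fin n)) O :=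
      eq_of_le_of_not_lt hKO (fun hlt => hne (hKcoatom.2 _ hlt))
    have hg1 : swap x (h1 x) * swap y (h2 y) ∈ alternatingGroup (Fin n) := by
      rw [mem_alternatingGroup, map_mul, sign_swap (Ne.symm hx1), sign_swap (Ne.symm hy2)]
      decide
    have hg1O : (⟨swap x (h1 x) * swap y (h2 y), hg1⟩ : alternatingGroup (Fin n)) ∈
        MulAction.stabilizer (alternatingGroup (Fin n)) O := by
      rw [MulAction.mem_stabilizer_set' (Set.toFinite O)]
      intro b hb
      show (swap x (h1 x) * swap y (h2 y)) b ∈ O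
      have hby : b ≠ y := fun h => hyO (h ▸ hb)
      have hbd : b ≠ h2 y := fun h => hdO (h ▸ hb)
      rw [Perm.mul_apply, swap_apply_of_ne_of_ne hby hbd]
      by_cases hbx : b = x
      · rw [hbx, swap_apply_left]; exact hbO
      · by_cases hbb : b = h1 x
        · rw [hbb, swap_apply_right]; exact hxO
        · rw [swap_apply_of_ne_of_ne hbx hbb]; exact hb
    rw [← hKeq] at hg1O
    exact hnot ((hKH _).mp hg1O)

theorem eq_of_fix_imp (hn : 4 ≤ n) (i p : Fin n)
    (h : ∀ g : alternatingGroup (Fin n), (g : Perm (Fin n)) i = i → (g : Perm (Fin n)) p = p) : i = p := by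
  by_contra hip
  obtain ⟨g, _, hgi, hgp⟩ := exists_moving hn i p hip
  exact hgp (h g hgi)

theorem result_aux (hn : 4 ≤ n) (h6 : n ≠ 6) :
    Function.Bijective (MulAut.conjNormal : Perm (Fin n) →* MulAut ↥(alternatingGroup (Fin n))) := by
  constructor
  · rw [injective_iff_map_eq_one]
    intro γ hγ
    apply Equiv.Perm.ext
    intro i
    rw [Perm.one_apply]
    by_contra hne
    obtain ⟨g, _, hgi, hgp⟩ := exists_moving hn i (γ i) (Ne.symm hne)
    have h1 : ((MulAut.conjNormal γ g : alternatingGroup (Fin n)) : Perm (Fin n)) = g := by rw [hγ]; rfl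
    rw [MulAut.conjNormal_apply] at h1
    have h2 : γ * (g : Perm (Fin n)) = (g : Perm (Fin n)) * γ := by
      rw [mul_inv_eq_iff_eq_mul] at h1
      exact h1
    have h3 := congrArg (fun τ : Perm (Fin n) => τ i) h2
    simp only [Perm.mul_apply] at h3
    rw [hgi] at h3
    exact hgp h3.symm
  · intro f
    choose γ hγ using main_lemma hn h6 f
    choose δ hδ using main_lemma hn h6 f.symm
    have hδγ : ∀ i, δ (γ i) = i := by
      intro i
      symm
      apply eq_of_fix_imp hn
      intro g hg
      have h1 := hδ (γ i) (f g) (hγ i g hg)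
      simpa using h1
    have hγδ : ∀ j, γ (δ j) = j := by
      intro j
      symm
      apply eq_of_fix_imp hn
      intro g hg
      have h1 := hγ (δ j) (f.symm g) (hδ j g hg)
      simpa using h1
    let γ' : Perm (Fin n) := ⟨γ, δ, hδγ, hγδ⟩
    refine ⟨γ', ?_⟩
    apply MulEquiv.ext
    intro g
    apply Subtype.ext
    rw [MulAut.conjNormal_apply]
    have key : ∀ i, ((f g : alternatingGroup (Fin n)) : Perm (Fin n)) (γ i) = γ ((g : Perm (Fin n)) i) := by
      intro i
      have hp : γ i = ((f g : alternatingGroup (Fin n)) : Perm (Fin n))⁻¹ (γ ((g : Perm (Fin n)) i)) := by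
        apply eq_of_fix_imp hn
        intro h' hh'
        -- h := f.symm h' fixes i
        have hi : ((f.symm h' : alternatingGroup (Fin n)) : Perm (Fin n)) i = i := by
          have := hδ (γ i) h' hh'
          rwa [hδγ] at this
        -- g * h * g⁻¹ fixes g i
        have hgi : ((g * f.symm h' * g⁻¹ : alternatingGroup (Fin n)) : Perm (Fin n)) ((g : Perm (Fin n)) i)
            = (g : Perm (Fin n)) i := by
          simp only [Subgroup.coe_mul, Subgroup.coe_inv, Perm.mul_apply]
          rw [perm_inv_apply_self, hi]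
        have h2 := hγ ((g : Perm (Fin n)) i) _ hgi
        simp only [map_mul, map_inv, MulEquiv.apply_symm_apply, Subgroup.coe_mul, Subgroup.coe_inv,
          Perm.mul_apply] at h2
        have h3 := congrArg (fun z => ((f g : alternatingGroup (Fin n)) : Perm (Fin n))⁻¹ z) h2
        simpa using h3
      rw [hp, perm_apply_inv_self]
    apply Equiv.Perm.ext
    intro x
    have := key (δ x)
    rw [hγδ] at this
    simp only [Perm.mul_apply]
    show γ ((g : Perm (Fin n)) (γ'⁻¹ x)) = _
    have hinv : γ'⁻¹ x = δ x := rfl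
    rw [hinv, ← this]

/-- Automorphisms of the alternating groups: for n ≥ 4 with n ≠ 6, every automorphism of the alternating group of degree n is conjugation by a unique permutation, i.e. conjugation induces an isomorphism from the symmetric group of degree n onto the automorphism group of the alternating group (so the outer automorphism group has order 2). -/
theorem result (n : ℕ) (hn : 4 ≤ n) (h6 : n ≠ 6) : Function.Bijective (MulAut.conjNormal : Equiv.Perm (Fin n) →* MulAut ↥(alternatingGroup (Fin n))) := by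
  exact result_aux hn h6

end Cfsg.Agent.S2119
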