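import Cfsg.Statements.S2239
import Mathlib
import Cfsg.Agent.Lib.Helper45.SzSub4

set_option autoImplicit false
set_option linter.style.haveILetI false
open Cfsg

namespace Cfsg.Agent.S2239

open Matrix Cfsg.Agent.Lib.Helper8.Sz Cfsg.Agent.Lib.Helper45.SzU Cfsg.Agent.S2247
  Cfsg.Agent.Lib.Helper45.SzSub

/-- Subfield subgroups of the Suzuki group: let q = 2^(2m+1) and s = 2^(2k+1) with m, k ≥ 1 and 2k+1 dividing 2m+1 (so q is a power of s), both groups realised as stabilisers in SL₄ of the Suzuki–Tits ovoid. Then Sz(q) has a subgroup isomorphic to Sz(s), and any two subgroups of Sz(q) isomorphic to Sz(s) are conjugate. -/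
theorem result {F : Type*} [Field F] [Fintype F] {m : ℕ} (hm : 1 ≤ m) (hF : Fintype.card F = 2 ^ (2 * m + 1)) {K : Type*} [Field K] [Fintype K] {k : ℕ} (hk : 1 ≤ k) (hK : Fintype.card K = 2 ^ (2 * k + 1)) (hdiv : 2 * k + 1 ∣ 2 * m + 1) :
    (∃ S : Subgroup ↥(Cfsg.Sz F m), Nonempty (↥S ≃* ↥(Cfsg.Sz K k))) ∧
    ∀ S₁ S₂ : Subgroup ↥(Cfsg.Sz F m), Nonempty (↥S₁ ≃* ↥(Cfsg.Sz K k)) → Nonempty (↥S₂ ≃* ↥(Cfsg.Sz K k)) →
      ∃ g : ↥(Cfsg.Sz F m), S₂ = S₁.map (MulAut.conj g).toMonoidHom := by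
  obtain ⟨φ⟩ := exists_emb hF hK hdiv
  haveI := finite_Sz hm hF
  haveI := finite_Sz hk hK
  obtain ⟨S₀, hS₀def⟩ : ∃ S₀, S₀ = (iota hk hK hF hdiv φ).range := ⟨_, rfl⟩
  have hS₀ : Nonempty (↥S₀ ≃* ↥(Cfsg.Sz K k)) := by
    rw [hS₀def]
    exact ⟨(MonoidHom.ofInjective (iota_inj hk hK hF hdiv φ)).symm⟩
  refine ⟨⟨S₀, hS₀⟩, ?_⟩
  have key : ∀ S : Subgroup ↥(Cfsg.Sz F m), Nonempty (↥S ≃* ↥(Cfsg.Sz K k)) →
      ∃ g : ↥(Cfsg.Sz F m), S.map (MulAut.conj g).toMonoidHom = S₀ := by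
    rintro S ⟨e⟩
    obtain ⟨ρ, hρdef⟩ : ∃ ρ : ↥(Cfsg.Sz K k) →* ↥(Cfsg.Sz F m),
        ρ = S.subtype.comp e.symm.toMonoidHom := ⟨_, rfl⟩
    have hρ : Function.Injective ρ := by
      rw [hρdef]
      exact S.subtype_injective.comp e.symm.injective
    obtain ⟨g, hg⟩ := exists_conj_mem_range hm hF hk hK hdiv φ ρ hρ
    refine ⟨g, ?_⟩
    apply Subgroup.eq_of_le_of_card_ge
    · rintro _ ⟨s, hs, rfl⟩
      have h1 := hg (e ⟨s, hs⟩)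
      have h2 : ρ (e ⟨s, hs⟩) = s := by
        rw [hρdef]
        show ((e.symm (e ⟨s, hs⟩) : ↥S) : ↥(Cfsg.Sz F m)) = s
        rw [e.symm_apply_apply]
      rw [h2, ← hS₀def] at h1
      exact h1
    · rw [Subgroup.card_map_of_injective (MulAut.conj g).injective]
      rw [Nat.card_congr e.toEquiv, Nat.card_congr hS₀.some.toEquiv]
  intro S₁ S₂ h₁ h₂
  obtain ⟨g₁, hg₁⟩ := key S₁ h₁
  obtain ⟨g₂, hg₂⟩ := key S₂ h₂
  refine ⟨g₂⁻¹ * g₁, ?_⟩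
  ext x
  have e2 : x ∈ S₂ ↔ g₂ * x * g₂⁻¹ ∈ S₀ := by
    rw [← hg₂]
    constructor
    · intro hx
      exact ⟨x, hx, rfl⟩
    · rintro ⟨x', hx', hxx'⟩
      have h3 : g₂ * x' * g₂⁻¹ = g₂ * x * g₂⁻¹ := hxx'
      have h4 : x' = x := by
        have := congrArg (fun y => g₂⁻¹ * y * g₂) h3
        simpa [mul_assoc] using this
      rw [← h4]
      exact hx'
  rw [e2, ← hg₁]
  constructor
  · rintro ⟨x', hx', hxx'⟩
    have h3 : g₁ * x' * g₁⁻¹ = g₂ * x * g₂⁻¹ := hxx'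
    refine ⟨x', hx', ?_⟩
    show g₂⁻¹ * g₁ * x' * (g₂⁻¹ * g₁)⁻¹ = x
    have h4 : g₂⁻¹ * g₁ * x' * (g₂⁻¹ * g₁)⁻¹ = g₂⁻¹ * (g₁ * x' * g₁⁻¹) * g₂ := by group
    rw [h4, h3]
    group
  · rintro ⟨x', hx', hxx'⟩
    have h3 : g₂⁻¹ * g₁ * x' * (g₂⁻¹ * g₁)⁻¹ = x := hxx'
    refine ⟨x', hx', ?_⟩
    show g₁ * x' * g₁⁻¹ = g₂ * x * g₂⁻¹
    rw [← h3]
    group

end Cfsg.Agent.S2239
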