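import Cfsg.Statements.S2259
import Cfsg.Agent.S2251
import Cfsg.Agent.Lib.Helper45.SzSol7
import Cfsg.Agent.Lib.Helper45.SzSol8
import Cfsg.Agent.Lib.Helper27.SzBridge

set_option autoImplicit false
open Cfsg

namespace Cfsg.Agent.S2259

open Cfsg.Agent.Lib.Helper45.SzSol Cfsg.Agent.Lib.Helper8.Sz in
/-- the solubilizer counts in the ovoid model of the Suzuki group -/
theorem main {F : Type*} [Field F] [Fintype F] {m : ℕ} (hm : 1 ≤ m)
    (hp : (2 * m + 1).Prime) (hF : Fintype.card F = 2 ^ (2 * m + 1)) (x : ↥(Cfsg.Sz F m)) :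
    (orderOf x = 2 → Nat.card {y : ↥(Cfsg.Sz F m) // Group.IsSolvable ↥(Subgroup.closure ({x, y} : Set ↥(Cfsg.Sz F m)))} = (2 ^ (2 * m + 1)) ^ 2 * (4 * 2 ^ (2 * m + 1) - 3)) ∧
    (orderOf x = 4 → Nat.card {y : ↥(Cfsg.Sz F m) // Group.IsSolvable ↥(Subgroup.closure ({x, y} : Set ↥(Cfsg.Sz F m)))} = (2 ^ (2 * m + 1)) ^ 2 * (2 ^ (2 * m + 1) + 3)) ∧
    (x ≠ 1 → orderOf x ∣ 2 ^ (2 * m + 1) - 1 →
      Nat.card {y : ↥(Cfsg.Sz F m) // Group.IsSolvable ↥(Subgroup.closure ({x, y} : Set ↥(Cfsg.Sz F m)))} = 2 * (2 ^ (2 * m + 1)) ^ 2 * (2 ^ (2 * m + 1) - 1)) ∧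
    (x ≠ 1 → orderOf x ∣ 2 ^ (2 * m + 1) + 2 ^ (m + 1) + 1 → Nat.card {y : ↥(Cfsg.Sz F m) // Group.IsSolvable ↥(Subgroup.closure ({x, y} : Set ↥(Cfsg.Sz F m)))} = 4 * (2 ^ (2 * m + 1) + 2 ^ (m + 1) + 1)) ∧
    (x ≠ 1 → orderOf x ∣ 2 ^ (2 * m + 1) - 2 ^ (m + 1) + 1 → Nat.card {y : ↥(Cfsg.Sz F m) // Group.IsSolvable ↥(Subgroup.closure ({x, y} : Set ↥(Cfsg.Sz F m)))} = 4 * (2 ^ (2 * m + 1) - 2 ^ (m + 1) + 1)) := by
  have hS : Struct F m :=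
    struct_of_hyp hF hm hp (fun M hM => Cfsg.Agent.S2251.result hm hF M hM)
  rw [solv_eq_Sol hF hm hS x]
  have hxC : x ∈ Subgroup.centralizer ({x} : Set (Sz F m)) :=
    Subgroup.mem_centralizer_iff.2 (by rintro h (rfl : h = x); rfl)
  refine ⟨?_, ?_, ?_, ?_, ?_⟩
  · intro ho
    have hx1 : x ≠ 1 := by
      rintro rfl
      rw [orderOf_one] at ho
      omega
    have hx2 : x * x = 1 := by
      have h := pow_orderOf_eq_one x
      rw [ho, pow_two] at h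
      exact h
    exact card_Sol_invol hF hm hS hx1 hx2
  · intro ho
    have hx4 : x ^ 4 = 1 := by
      have h := pow_orderOf_eq_one x
      rwa [ho] at h
    have hx2 : x * x ≠ 1 := by
      intro h
      have h2 : orderOf x ∣ 2 := orderOf_dvd_of_pow_eq_one (by rw [pow_two]; exact h)
      rw [ho] at h2
      omega
    exact card_Sol_four hF hm hS hx4 hx2
  · intro hx1 hdvd
    exact card_Sol_TH hF hm hS ⟨hx1, orderOf_dvd_iff_pow_eq_one.1 hdvd⟩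
  · intro hx1 hdvd
    have hTX : x ∈ TX F m := ⟨hx1, orderOf_dvd_iff_pow_eq_one.1 (hdvd.trans (tori_dvd₁ m))⟩
    rw [card_Sol_TX hF hm hS hTX]
    congr 1
    have ho : orderOf x ∣ Nat.card (Subgroup.centralizer ({x} : Set (Sz F m))) :=
      Subgroup.orderOf_dvd_natCard _ hxC
    rcases card_centralizer_TX hF hm hTX with h | h
    · exact h
    · exfalso
      rw [h] at ho
      have h2 : orderOf x ∣ Nat.gcd (2 ^ (2 * m + 1) + 2 ^ (m + 1) + 1)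
          (2 ^ (2 * m + 1) - 2 ^ (m + 1) + 1) := Nat.dvd_gcd hdvd ho
      rw [(tori_coprime m).gcd_eq_one] at h2
      exact hx1 (orderOf_eq_one_iff.1 (Nat.dvd_one.1 h2))
  · intro hx1 hdvd
    have hTX : x ∈ TX F m := ⟨hx1, orderOf_dvd_iff_pow_eq_one.1 (hdvd.trans (tori_dvd₂ m))⟩
    rw [card_Sol_TX hF hm hS hTX]
    congr 1
    have ho : orderOf x ∣ Nat.card (Subgroup.centralizer ({x} : Set (Sz F m))) :=
      Subgroup.orderOf_dvd_natCard _ hxC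
    rcases card_centralizer_TX hF hm hTX with h | h
    · exfalso
      rw [h] at ho
      have h2 : orderOf x ∣ Nat.gcd (2 ^ (2 * m + 1) + 2 ^ (m + 1) + 1)
          (2 ^ (2 * m + 1) - 2 ^ (m + 1) + 1) := Nat.dvd_gcd ho hdvd
      rw [(tori_coprime m).gcd_eq_one] at h2
      exact hx1 (orderOf_eq_one_iff.1 (Nat.dvd_one.1 h2))
    · exact h


/-- Let G be the Suzuki group Sz(q), q = 2^(2m+1) with 2m + 1 prime and m ≥ 1, realised inside Sp_4(F) for F the field of order q, write r = 2^(m+1) (so r² = 2q), and for x ∈ G call the solubilizer of x the set of y ∈ G such that x and y generate a solvable subgroup. Then the solubilizer of an involution has q²(4q − 3) elements; that of an element of order 4 has q²(q + 3) elements; that of a non-identity element of order dividing q − 1 has 2q²(q − 1) elements; that of a non-identity element of order dividing q + r + 1 has 4(q + r +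 1) elements; and that of a non-identity element of order dividing q − r + 1 has 4(q − r + 1) elements. -/
theorem result {F : Type*} [Field F] [Fintype F] {m : ℕ} (hm : 1 ≤ m)
    (hp : (2 * m + 1).Prime) (hF : Fintype.card F = 2 ^ (2 * m + 1)) (x : ↥(Cfsg.Lie.Sz F (2 ^ (m + 1)))) :
    (orderOf x = 2 → Nat.card {y : ↥(Cfsg.Lie.Sz F (2 ^ (m + 1))) // Group.IsSolvable ↥(Subgroup.closure ({x, y} : Set (↥(Cfsg.Lie.Sz F (2 ^ (m + 1))))))} = (2 ^ (2 * m + 1)) ^ 2 * (4 * 2 ^ (2 * m + 1) - 3)) ∧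
    (orderOf x = 4 → Nat.card {y : ↥(Cfsg.Lie.Sz F (2 ^ (m + 1))) // Group.IsSolvable ↥(Subgroup.closure ({x, y} : Set (↥(Cfsg.Lie.Sz F (2 ^ (m + 1))))))} = (2 ^ (2 * m + 1)) ^ 2 * (2 ^ (2 * m + 1) + 3)) ∧
    (x ≠ 1 → orderOf x ∣ 2 ^ (2 * m + 1) - 1 →
      Nat.card {y : ↥(Cfsg.Lie.Sz F (2 ^ (m + 1))) // Group.IsSolvable ↥(Subgroup.closure ({x, y} : Set (↥(Cfsg.Lie.Sz F (2 ^ (m + 1))))))} = 2 * (2 ^ (2 * m + 1)) ^ 2 * (2 ^ (2 * m + 1) - 1)) ∧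
    (x ≠ 1 → orderOf x ∣ 2 ^ (2 * m + 1) + 2 ^ (m + 1) + 1 → Nat.card {y : ↥(Cfsg.Lie.Sz F (2 ^ (m + 1))) // Group.IsSolvable ↥(Subgroup.closure ({x, y} : Set (↥(Cfsg.Lie.Sz F (2 ^ (m + 1))))))} = 4 * (2 ^ (2 * m + 1) + 2 ^ (m + 1) + 1)) ∧
    (x ≠ 1 → orderOf x ∣ 2 ^ (2 * m + 1) - 2 ^ (m + 1) + 1 → Nat.card {y : ↥(Cfsg.Lie.Sz F (2 ^ (m + 1))) // Group.IsSolvable ↥(Subgroup.closure ({x, y} : Set (↥(Cfsg.Lie.Sz F (2 ^ (m + 1))))))} = 4 * (2 ^ (2 * m + 1) - 2 ^ (m + 1) + 1)) := by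
  obtain ⟨e, -⟩ : ∃ e : ↥(Cfsg.Sz F m) ≃* ↥(Cfsg.Lie.Sz F (2 ^ (m + 1))), True :=
    ⟨Cfsg.Agent.Lib.Helper27.SzBridge.szEquiv hF hm, trivial⟩
  obtain ⟨x₀, rfl⟩ := e.surjective x
  rw [Cfsg.Agent.Lib.Helper45.SzSol.card_solv_equiv e x₀]
  have ho : orderOf (e x₀) = orderOf x₀ := MulEquiv.orderOf_eq e x₀
  have h1 : e x₀ ≠ 1 → x₀ ≠ 1 := by
    intro h h'
    exact h (by rw [h', map_one])
  rw [ho]
  have h := main hm hp hF x₀
  exact ⟨h.1, h.2.1, fun h' => h.2.2.1 (h1 h'), fun h' => h.2.2.2.1 (h1 h'),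
    fun h' => h.2.2.2.2 (h1 h')⟩

end Cfsg.Agent.S2259
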