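-- Statement S2272 (row 2272): Arad–Herzog property for PSL_d(F), d ≥ 3.
-- Proof: the d-th power of the trace is a class function on PSL_d; every trace value is attained
-- by a product of conjugates of two non-scalar matrices (Lib/Helper74/TraceConj).
import Cfsg.Statements.S2272
import Cfsg.Agent.Lib.Helper74.TraceConj

set_option autoImplicit false
open Cfsg

namespace Cfsg.Agent.S2272

open Matrix Cfsg.Agent.Lib.Helper74.TraceConj

/-- A non-central element of `SL` is not a scalar matrix. -/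
theorem not_scalar_of_not_mem_center {F : Type*} [Field F] {d : ℕ}
    (A : Matrix.SpecialLinearGroup (Fin d) F)
    (hA : A ∉ Subgroup.center (Matrix.SpecialLinearGroup (Fin d) F)) (c : F) :
    (A : Matrix (Fin d) (Fin d) F) ≠ Matrix.scalar (Fin d) c := by
  intro hc
  apply hA
  rw [Matrix.SpecialLinearGroup.mem_center_iff]
  refine ⟨c, ?_, hc.symm⟩
  have h1 := A.2
  rw [hc] at h1
  simpa using h1

/-- Conjugate elements of `PSL_d` have lifts whose traces have the same `d`-th power. -/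
theorem trace_pow_eq_of_isConj {F : Type*} [Field F] {d : ℕ}
    (P Q : Matrix.SpecialLinearGroup (Fin d) F)
    (h : IsConj (QuotientGroup.mk P : Matrix.ProjectiveSpecialLinearGroup (Fin d) F)
      (QuotientGroup.mk Q)) :
    trace (Q : Matrix (Fin d) (Fin d) F) ^ d = trace (P : Matrix (Fin d) (Fin d) F) ^ d := by
  rw [isConj_iff] at h
  obtain ⟨c, hc⟩ := h
  obtain ⟨C, rfl⟩ := QuotientGroup.mk_surjective c
  rw [← QuotientGroup.mk_mul, ← QuotientGroup.mk_inv, ← QuotientGroup.mk_mul, QuotientGroup.eq,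
    Matrix.SpecialLinearGroup.mem_center_iff] at hc
  obtain ⟨r, hr, hrZ⟩ := hc
  rw [Fintype.card_fin] at hr
  have hQ : (Q : Matrix (Fin d) (Fin d) F) =
      (↑(C * P * C⁻¹) : Matrix (Fin d) (Fin d) F) * Matrix.scalar (Fin d) r := by
    rw [hrZ, ← Matrix.SpecialLinearGroup.coe_mul, mul_inv_cancel_left]
  have hsc : Matrix.scalar (Fin d) r = r • (1 : Matrix (Fin d) (Fin d) F) := by
    rw [Matrix.smul_one_eq_diagonal]
    rfl
  have htr : trace (↑(C * P * C⁻¹) : Matrix (Fin d) (Fin d) F) =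
      trace (P : Matrix (Fin d) (Fin d) F) := by
    rw [Matrix.SpecialLinearGroup.coe_mul, Matrix.SpecialLinearGroup.coe_mul, trace_mul_comm,
      ← mul_assoc, ← Matrix.SpecialLinearGroup.coe_mul, inv_mul_cancel,
      Matrix.SpecialLinearGroup.coe_one, one_mul]
  rw [hQ, hsc, mul_smul_comm, mul_one, trace_smul, htr, smul_eq_mul, mul_pow, hr, one_mul]

theorem result {F : Type*} [Field F] [Fintype F] (d : ℕ) (hd : 3 ≤ d)
    (a b : Matrix.ProjectiveSpecialLinearGroup (Fin d) F) (ha : a ≠ 1) (hb : b ≠ 1) :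
    ∃ g h : Matrix.ProjectiveSpecialLinearGroup (Fin d) F, ¬ IsConj (a * b) (g * a * g⁻¹ * (h * b * h⁻¹)) := by
  by_contra hcon
  push Not at hcon
  obtain ⟨A, rfl⟩ := QuotientGroup.mk_surjective a
  obtain ⟨B, rfl⟩ := QuotientGroup.mk_surjective b
  have hA : A ∉ Subgroup.center (Matrix.SpecialLinearGroup (Fin d) F) :=
    fun h => ha ((QuotientGroup.eq_one_iff A).mpr h)
  have hB : B ∉ Subgroup.center (Matrix.SpecialLinearGroup (Fin d) F) :=
    fun h => hb ((QuotientGroup.eq_one_iff B).mpr h)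
  -- three distinct indices
  let i₀ : Fin d := ⟨0, by omega⟩
  let i₁ : Fin d := ⟨1, by omega⟩
  let i₂ : Fin d := ⟨2, by omega⟩
  have h01 : i₀ ≠ i₁ := by simp [i₀, i₁, Fin.ext_iff]
  have h02 : i₀ ≠ i₂ := by simp [i₀, i₂, Fin.ext_iff]
  have h12 : i₁ ≠ i₂ := by simp [i₁, i₂, Fin.ext_iff]
  obtain ⟨KA, x, hx, hX⟩ := exists_conj_col A (not_scalar_of_not_mem_center A hA) i₀ i₂ h02.symm
  obtain ⟨KB, y, hy, hY⟩ := exists_conj_col B (not_scalar_of_not_mem_center B hB) i₀ i₁ h01.symm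
  -- all products of conjugates have the same `d`-th power of the trace
  have key : ∀ T : Matrix.SpecialLinearGroup (Fin d) F,
      trace ((↑(KA * A * KA⁻¹) : Matrix (Fin d) (Fin d) F) *
        ((T : Matrix (Fin d) (Fin d) F) * (↑(KB * B * KB⁻¹) : Matrix (Fin d) (Fin d) F) *
          (↑(T⁻¹) : Matrix (Fin d) (Fin d) F))) ^ d =
      trace (↑(A * B) : Matrix (Fin d) (Fin d) F) ^ d := by
    intro T
    have h1 := hcon (QuotientGroup.mk KA) (QuotientGroup.mk (T * KB))
    rw [← QuotientGroup.mk_mul, ← QuotientGroup.mk_inv, ← QuotientGroup.mk_inv,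
      ← QuotientGroup.mk_mul, ← QuotientGroup.mk_mul, ← QuotientGroup.mk_mul,
      ← QuotientGroup.mk_mul, ← QuotientGroup.mk_mul] at h1
    have h2 := trace_pow_eq_of_isConj _ _ h1
    rw [← h2]
    congr 2
    have e : KA * A * KA⁻¹ * (T * KB * B * (T * KB)⁻¹) =
        KA * A * KA⁻¹ * (T * (KB * B * KB⁻¹) * T⁻¹) := by group
    rw [e]
    simp only [Matrix.SpecialLinearGroup.coe_mul]
  obtain ⟨T0, hT0⟩ := exists_trace_eq (↑(KA * A * KA⁻¹) : Matrix (Fin d) (Fin d) F)
    (↑(KB * B * KB⁻¹) : Matrix (Fin d) (Fin d) F) i₀ i₁ i₂ h01 h02 h12 x y hx hy hX hY 0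
  obtain ⟨T1, hT1⟩ := exists_trace_eq (↑(KA * A * KA⁻¹) : Matrix (Fin d) (Fin d) F)
    (↑(KB * B * KB⁻¹) : Matrix (Fin d) (Fin d) F) i₀ i₁ i₂ h01 h02 h12 x y hx hy hX hY 1
  have k0 := key T0
  have k1 := key T1
  rw [hT0] at k0
  rw [hT1] at k1
  rw [← k1, one_pow, zero_pow (by omega)] at k0
  exact zero_ne_one k0

end Cfsg.Agent.S2272
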