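import Cfsg.Statements.S2276
import Cfsg.Agent.Lib.Helper45.FPDefs
import Cfsg.Agent.Lib.Helper45.FPS3TOP
import Cfsg.Agent.Lib.Helper73.FPSYMM
import Cfsg.Agent.Lib.Helper45.FPTOPMAIN

set_option autoImplicit false
open Cfsg

namespace Cfsg.Agent.S2276

open Equiv Cfsg.Agent.Lib.Helper45.FP

private theorem per_pow {n p : ℕ} (hp : p.Prime) (u : Perm (Fin n)) (hu : ∃ k : ℕ, orderOf u = p ^ k)
    (x : Fin n) : ∃ i : ℕ, Function.minimalPeriod u x = p ^ i := by
  obtain ⟨k, hk⟩ := hu
  have h1 : Function.IsPeriodicPt u (orderOf u) x := by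
    unfold Function.IsPeriodicPt Function.IsFixedPt
    rw [Equiv.Perm.iterate_eq_pow, pow_orderOf_eq_one]; rfl
  have h2 := h1.minimalPeriod_dvd
  rw [hk] at h2
  obtain ⟨i, -, hi⟩ := (Nat.dvd_prime_pow hp).1 h2
  exact ⟨i, hi⟩

private theorem cube_eq_one {n : ℕ} (u : Perm (Fin n))
    (h : ∀ x, Function.minimalPeriod u x ∣ 3) : u ^ 3 = 1 := by
  ext x
  have h1 : Function.IsPeriodicPt u 3 x :=
    (Function.isPeriodicPt_minimalPeriod u x).trans_dvd (h x)
  unfold Function.IsPeriodicPt Function.IsFixedPt at h1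
  rw [Equiv.Perm.iterate_eq_pow] at h1
  simp [h1]

private theorem exists_moved_period {n : ℕ} (u : Perm (Fin n)) (hu : u ≠ 1) :
    ∃ x, Function.minimalPeriod u x ≠ 1 := by
  by_contra hcon
  push Not at hcon
  apply hu
  ext x
  have := hcon x
  rw [Function.minimalPeriod_eq_one_iff_isFixedPt] at this
  simp [this.eq]

/-- the key case: the largest period of `w` is at most the largest period of `u` -/
private theorem key {n : ℕ} (hn : 5 ≤ n) {p : ℕ} (hp : p.Prime) (hp3 : 3 ≤ p)
    (u w : Perm (Fin n)) (hu : u ≠ 1) (hw : w ≠ 1)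
    (hu' : ∃ k : ℕ, orderOf u = p ^ k) (hw' : ∃ k : ℕ, orderOf w = p ^ k)
    (x₀ : Fin n) (hx₀ : ∀ x, Function.minimalPeriod u x ≤ Function.minimalPeriod u x₀)
    (x₁ : Fin n) (hx₁ : ∀ x, Function.minimalPeriod w x ≤ Function.minimalPeriod w x₁)
    (hle : Function.minimalPeriod w x₁ ≤ Function.minimalPeriod u x₀) : P p u w := by
  have : Fact p.Prime := ⟨hp⟩
  have hpos : ∀ (v : Perm (Fin n)) (x : Fin n), 0 < Function.minimalPeriod v x := by
    intro v x
    apply Function.minimalPeriod_pos_of_mem_periodicPts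
    have h1 : Function.IsPeriodicPt v (orderOf v) x := by
      unfold Function.IsPeriodicPt Function.IsFixedPt
      rw [Equiv.Perm.iterate_eq_pow, pow_orderOf_eq_one]; rfl
    exact Function.mk_mem_periodicPts (orderOf_pos v) h1
  -- the largest period of `w` is > 1
  obtain ⟨y, hy⟩ := exists_moved_period w hw
  have hm1 : 1 < Function.minimalPeriod w x₁ := by
    have h1 := hx₁ y
    have h2 := hpos w y
    omega
  by_cases h5 : 5 ≤ Function.minimalPeriod u x₀
  · exact Cfsg.Agent.Lib.Helper45.FP.TOPMAIN p hp3 u w hu' hw' x₀ h5 x₁ hm1 hx₁ hle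
  · -- then `p = 3` and both largest periods are `3`
    push Not at h5
    obtain ⟨i, hi⟩ := per_pow hp u hu' x₀
    obtain ⟨j, hj⟩ := per_pow hp w hw' x₁
    have hj0 : j ≠ 0 := by
      rintro rfl
      rw [hj] at hm1; simp at hm1
    have hi0 : i ≠ 0 := by
      rintro rfl
      rw [hi] at hle; simp at hle; omega
    have hpi : p ≤ p ^ i := Nat.le_self_pow hi0 p
    have hp_eq : p = 3 := by
      have : p < 5 := by omega
      interval_cases p
      · rfl
      · exact absurd hp (by decide)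
    subst hp_eq
    have hi1 : i = 1 := by
      by_contra hne
      have : 2 ≤ i := by omega
      have : 3 ^ 2 ≤ 3 ^ i := Nat.pow_le_pow_right (by norm_num) this
      omega
    subst hi1
    have hj1 : j = 1 := by
      by_contra hne
      have : 2 ≤ j := by omega
      have : 3 ^ 2 ≤ 3 ^ j := Nat.pow_le_pow_right (by norm_num) this
      omega
    subst hj1
    have hu3 : u ^ 3 = 1 := by
      apply cube_eq_one
      intro x
      obtain ⟨i, hi'⟩ := per_pow hp u hu' x
      have h1 := hx₀ x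
      rw [hi', hi] at h1
      rw [hi']
      have : i ≤ 1 := by
        by_contra hne
        have : 2 ≤ i := by omega
        have : 3 ^ 2 ≤ 3 ^ i := Nat.pow_le_pow_right (by norm_num) this
        omega
      interval_cases i <;> simp
    have hw3 : w ^ 3 = 1 := by
      apply cube_eq_one
      intro x
      obtain ⟨i, hi'⟩ := per_pow hp w hw' x
      have h1 := hx₁ x
      rw [hi', hj] at h1
      rw [hi']
      have : i ≤ 1 := by
        by_contra hne
        have : 2 ≤ i := by omega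
        have : 3 ^ 2 ≤ 3 ^ i := Nat.pow_le_pow_right (by norm_num) this
        omega
      interval_cases i <;> simp
    exact Cfsg.Agent.Lib.Helper45.FP.S3TOP hn u w hu hw hu3 hw3

private theorem perm_level {n : ℕ} (hn : 5 ≤ n) {p : ℕ} (hp : p.Prime) (hp3 : 3 ≤ p)
    (u w : Perm (Fin n)) (hu : u ≠ 1) (hw : w ≠ 1)
    (hu' : ∃ k : ℕ, orderOf u = p ^ k) (hw' : ∃ k : ℕ, orderOf w = p ^ k) : P p u w := by
  have : Nonempty (Fin n) := ⟨⟨0, by omega⟩⟩
  obtain ⟨x₀, -, hx₀⟩ := Finset.exists_max_image (Finset.univ : Finset (Fin n))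
    (fun x => Function.minimalPeriod u x) Finset.univ_nonempty
  obtain ⟨x₁, -, hx₁⟩ := Finset.exists_max_image (Finset.univ : Finset (Fin n))
    (fun x => Function.minimalPeriod w x) Finset.univ_nonempty
  rcases le_total (Function.minimalPeriod w x₁) (Function.minimalPeriod u x₀) with hle | hle
  · exact key hn hp hp3 u w hu hw hu' hw' x₀ (fun x => hx₀ x (Finset.mem_univ x)) x₁
      (fun x => hx₁ x (Finset.mem_univ x)) hle
  · exact Cfsg.Agent.Lib.Helper73.FP.SYMM p u w (key hn hp hp3 w u hw hu hw' hu' x₁ (fun x => hx₁ x (Finset.mem_univ x)) x₀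
      (fun x => hx₀ x (Finset.mem_univ x)) hle)

private theorem lift_back {n : ℕ} (u w g : alternatingGroup (Fin n))
    (h : ¬ Group.IsSolvable ↥(Subgroup.closure ({(u : Perm (Fin n)),
      (g : Perm (Fin n)) * (w : Perm (Fin n)) * (g : Perm (Fin n))⁻¹} : Set (Perm (Fin n))))) :
    ¬ Group.IsSolvable ↥(Subgroup.closure ({u, g * w * g⁻¹} : Set (alternatingGroup (Fin n)))) := by
  intro hsolv
  apply h
  have h1 : Group.IsSolvable ↥((Subgroup.closure
      ({u, g * w * g⁻¹} : Set (alternatingGroup (Fin n)))).map (alternatingGroup (Fin n)).subtype) :=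
    Group.isSolvable_of_surjective (MonoidHom.subgroupMap_surjective (alternatingGroup (Fin n)).subtype
      (Subgroup.closure ({u, g * w * g⁻¹} : Set (alternatingGroup (Fin n)))))
  have h2 : (Subgroup.closure ({u, g * w * g⁻¹} : Set (alternatingGroup (Fin n)))).map
      (alternatingGroup (Fin n)).subtype =
      Subgroup.closure ({(u : Perm (Fin n)),
        (g : Perm (Fin n)) * (w : Perm (Fin n)) * (g : Perm (Fin n))⁻¹} : Set (Perm (Fin n))) := by
    rw [MonoidHom.map_closure, Set.image_pair]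
    rfl
  rw [h2] at h1
  exact h1

/-- Let n ≥ 5, p ≥ 3 a prime, and u, w non-identity elements of p-power order in the alternating group A_n. Then there is g ∈ A_n such that u·(g w g⁻¹) does not have p-power order and ⟨u, g w g⁻¹⟩ is not solvable. -/
theorem result (n : ℕ) (hn : 5 ≤ n) (p : ℕ) (hp : p.Prime) (hp3 : 3 ≤ p) (u w : alternatingGroup (Fin n)) (hu : u ≠ 1) (hw : w ≠ 1)
    (hu' : ∃ k : ℕ, orderOf u = p ^ k) (hw' : ∃ k : ℕ, orderOf w = p ^ k) :
    ∃ g : alternatingGroup (Fin n), (¬ ∃ k : ℕ, orderOf (u * (g * w * g⁻¹)) = p ^ k) ∧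
      ¬ Group.IsSolvable ↥(Subgroup.closure ({u, g * w * g⁻¹} : Set (alternatingGroup (Fin n)))) := by
  have hu0 : (u : Perm (Fin n)) ≠ 1 := fun h => hu (Subtype.ext h)
  have hw0 : (w : Perm (Fin n)) ≠ 1 := fun h => hw (Subtype.ext h)
  have hu0' : ∃ k : ℕ, orderOf (u : Perm (Fin n)) = p ^ k := by
    obtain ⟨k, hk⟩ := hu'
    exact ⟨k, by rw [Subgroup.orderOf_coe]; exact hk⟩
  have hw0' : ∃ k : ℕ, orderOf (w : Perm (Fin n)) = p ^ k := by
    obtain ⟨k, hk⟩ := hw'
    exact ⟨k, by rw [Subgroup.orderOf_coe]; exact hk⟩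
  obtain ⟨g₀, hsign, hgood1, hgood2⟩ := perm_level hn hp hp3 (u : Perm (Fin n)) (w : Perm (Fin n))
    hu0 hw0 hu0' hw0'
  refine ⟨⟨g₀, Equiv.Perm.mem_alternatingGroup.mpr hsign⟩, ?_, ?_⟩
  · rintro ⟨k, hk⟩
    apply hgood1
    refine ⟨k, ?_⟩
    rw [← hk, ← Subgroup.orderOf_coe]
    rfl
  · exact lift_back u w ⟨g₀, Equiv.Perm.mem_alternatingGroup.mpr hsign⟩ hgood2

end Cfsg.Agent.S2276
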