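import Cfsg.Statements.S2277
import Mathlib

set_option autoImplicit false
set_option linter.style.haveILetI false
open Cfsg

namespace Cfsg.Agent.S2277

open scoped Pointwise

theorem mem_inf_cent {G : Type*} [Group G] {N : Subgroup G} {T : Set G} {x : G} :
    x ∈ N ⊓ Subgroup.centralizer T ↔ x ∈ N ∧ ∀ h ∈ T, h * x = x * h := by
  rw [Subgroup.mem_inf, Subgroup.mem_centralizer_iff]

theorem mem_inf_cent_singleton {G : Type*} [Group G] {N : Subgroup G} {z x : G} :
    x ∈ N ⊓ Subgroup.centralizer ({z} : Set G) ↔ x ∈ N ∧ z * x = x * z := by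
  rw [Subgroup.mem_inf, Subgroup.mem_centralizer_iff]
  constructor
  · rintro ⟨h1, h2⟩
    exact ⟨h1, h2 z rfl⟩
  · rintro ⟨h1, h2⟩
    refine ⟨h1, ?_⟩
    intro w hw
    rw [Set.mem_singleton_iff] at hw
    rw [hw]
    exact h2

theorem norm_zero {V : Type*} [AddCommGroup V] (p : ℕ) (hp : p.Prime) (ζ : Module.End ℤ V)
    (hζp : ζ ^ p = 1) (hfix : ∀ v, ζ v = v → v = 0) (t : ℕ) (ht : ¬ p ∣ t) (v : V) :
    (∑ i ∈ Finset.range p, (ζ ^ t) ^ i) v = 0 := by
  have h1 : (ζ ^ t - 1) * ∑ i ∈ Finset.range p, (ζ ^ t) ^ i = 0 := by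
    rw [mul_geom_sum, ← pow_mul, mul_comm, pow_mul, hζp, one_pow, sub_self]
  have h2 : (ζ ^ t) ((∑ i ∈ Finset.range p, (ζ ^ t) ^ i) v) = (∑ i ∈ Finset.range p, (ζ ^ t) ^ i) v := by
    have := congrArg (fun f : Module.End ℤ V => f v) h1
    simp only [Module.End.mul_apply, LinearMap.sub_apply, Module.End.one_apply,
      LinearMap.zero_apply] at this
    exact sub_eq_zero.mp this
  apply hfix
  -- ζ = (ζ^t)^s
  have hcop : Nat.Coprime t p := (Nat.Coprime.symm ((Nat.Prime.coprime_iff_not_dvd hp).mpr ht))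
  obtain ⟨s, -, hs⟩ := Nat.exists_mul_mod_eq_one_of_coprime hcop hp.one_lt
  have h3 : ζ = (ζ ^ t) ^ s := by
    rw [← pow_mul, ← Nat.div_add_mod (t * s) p, hs, pow_add, pow_mul, hζp, one_pow, one_mul, pow_one]
  have h4 : ∀ k : ℕ, ((ζ ^ t) ^ k) ((∑ i ∈ Finset.range p, (ζ ^ t) ^ i) v) =
      (∑ i ∈ Finset.range p, (ζ ^ t) ^ i) v := by
    intro k
    induction k with
    | zero => simp
    | succ k ih => rw [pow_succ, Module.End.mul_apply, h2, ih]
  have h5 := h4 s
  rw [← h3] at h5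
  exact h5

theorem core_add {V : Type*} [AddCommGroup V] [Finite V] (p : ℕ) (hp : p.Prime)
    (hV : (Nat.card V).Coprime p)
    (ζ γ α α' : Module.End ℤ V)
    (hζp : ζ ^ p = 1) (hfix : ∀ v, ζ v = v → v = 0)
    (hα : α * α' = 1) (hζα' : ζ * α' = α' * ζ) (hζγ : ζ * γ = γ * ζ)
    (hγα' : γ * α' = ζ * α' * γ) :
    Nat.card {v : V // γ v = v} ^ p ≤ Nat.card V := by
  classical
  have hcomm : ∀ j : ℕ, α' * ζ ^ j = ζ ^ j * α' := by
    intro j
    induction j with
    | zero => simp
    | succ j ih => rw [pow_succ, ← mul_assoc, ih, mul_assoc, ← hζα', mul_assoc]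
  have hcommγ : ∀ j : ℕ, γ * ζ ^ j = ζ ^ j * γ := by
    intro j
    induction j with
    | zero => simp
    | succ j ih => rw [pow_succ, ← mul_assoc, ih, mul_assoc, ← hζγ, mul_assoc]
  have hγα : ∀ j : ℕ, ∀ v : V, γ v = v → γ ((α' ^ j) v) = (ζ ^ j) ((α' ^ j) v) := by
    intro j
    induction j with
    | zero => intro v hv; simpa using hv
    | succ j ih =>
      intro v hv
      have e1 : γ ((α' ^ (j + 1)) v) = (γ * α') ((α' ^ j) v) := by
        rw [pow_succ', Module.End.mul_apply, Module.End.mul_apply]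
      rw [e1, hγα', Module.End.mul_apply, Module.End.mul_apply, ih v hv,
        ← Module.End.mul_apply α', hcomm j, Module.End.mul_apply, ← Module.End.mul_apply ζ,
        ← pow_succ', ← Module.End.mul_apply α', ← pow_succ']
  have hαpow : ∀ j : ℕ, α ^ j * α' ^ j = 1 := by
    intro j
    induction j with
    | zero => simp
    | succ j ih => rw [pow_succ, pow_succ', mul_assoc, ← mul_assoc α, hα, one_mul, ih]
  let Φ : (Fin p → {v : V // γ v = v}) → V := fun m => ∑ j : Fin p, (α' ^ (j : ℕ)) (m j : V)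
  have hΦ : Function.Injective Φ := by
    intro m m' hmm
    let n : Fin p → V := fun j => (α' ^ (j : ℕ)) ((m j : V) - (m' j : V))
    have hn0 : ∑ j : Fin p, n j = 0 := by
      have : ∑ j : Fin p, n j = Φ m - Φ m' := by
        simp only [n, Φ, map_sub, Finset.sum_sub_distrib]
      rw [this, hmm, sub_self]
    have hγn : ∀ j : Fin p, γ (n j) = (ζ ^ (j : ℕ)) (n j) := by
      intro j
      apply hγα
      rw [map_sub, (m j).2, (m' j).2]
    have hγin : ∀ i : ℕ, ∀ j : Fin p, (γ ^ i) (n j) = (ζ ^ (i * (j : ℕ))) (n j) := by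
      intro i j
      induction i with
      | zero => simp
      | succ i ih =>
        rw [pow_succ', Module.End.mul_apply, ih, ← Module.End.mul_apply γ, hcommγ,
          Module.End.mul_apply, hγn, ← Module.End.mul_apply, ← pow_add]
        congr 2
        ring
    have hsum : ∀ i : ℕ, ∑ j : Fin p, (ζ ^ (i * (j : ℕ))) (n j) = 0 := by
      intro i
      have := congrArg (γ ^ i) hn0
      rw [map_sum, map_zero] at this
      rw [← this]
      exact Finset.sum_congr rfl (fun j _ => (hγin i j).symm)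
    funext k
    have hk : ∑ i ∈ Finset.range p, (ζ ^ (i * (p - (k : ℕ)))) (∑ j : Fin p, (ζ ^ (i * (j : ℕ))) (n j)) = 0 := by
      apply Finset.sum_eq_zero
      intro i _
      rw [hsum i, map_zero]
    have hk2 : ∑ i ∈ Finset.range p, (ζ ^ (i * (p - (k : ℕ)))) (∑ j : Fin p, (ζ ^ (i * (j : ℕ))) (n j))
        = ∑ j : Fin p, (∑ i ∈ Finset.range p, (ζ ^ (p - (k : ℕ) + (j : ℕ))) ^ i) (n j) := by
      simp only [map_sum, LinearMap.sum_apply]
      rw [Finset.sum_comm]
      apply Finset.sum_congr rfl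
      intro j _
      apply Finset.sum_congr rfl
      intro i _
      rw [← Module.End.mul_apply, ← pow_add, ← pow_mul]
      congr 2
      ring
    rw [hk2] at hk
    have hk3 : ∑ j : Fin p, (∑ i ∈ Finset.range p, (ζ ^ (p - (k : ℕ) + (j : ℕ))) ^ i) (n j)
        = (p : ℕ) • n k := by
      rw [Finset.sum_eq_single k]
      · have : p - (k : ℕ) + (k : ℕ) = p := by have := k.2; omega
        rw [this, hζp]
        simp
      · intro j _ hjk
        apply norm_zero p hp ζ hζp hfix
        intro hdvd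
        have hj := j.2
        have hk' := k.2
        have hne : (j : ℕ) ≠ (k : ℕ) := fun h => hjk (Fin.ext h)
        obtain ⟨q, hq⟩ := hdvd
        have hq1 : q = 1 := by
          have h1 : 0 < q := by
            rcases Nat.eq_zero_or_pos q with h | h
            · rw [h] at hq; omega
            · exact h
          have h2 : q < 2 := by
            by_contra hcon
            have : 2 ≤ q := by omega
            have : p * 2 ≤ p * q := Nat.mul_le_mul_left p this
            omega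
          omega
        rw [hq1] at hq
        omega
      · intro h
        exact absurd (Finset.mem_univ k) h
    rw [hk3] at hk
    have hnk : n k = 0 := by
      have h1 : addOrderOf (n k) ∣ p := addOrderOf_dvd_of_nsmul_eq_zero hk
      have h2 : addOrderOf (n k) ∣ Nat.card V := addOrderOf_dvd_natCard (n k)
      have h3 : addOrderOf (n k) = 1 := Nat.eq_one_of_dvd_coprimes hV h2 h1
      exact AddMonoid.addOrderOf_eq_one_iff.mp h3
    have hfin : (m k : V) - (m' k : V) = 0 := by
      have := congrArg (α ^ (k : ℕ)) hnk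
      simp only [n] at this
      rw [← Module.End.mul_apply, hαpow, map_zero] at this
      simpa using this
    exact Subtype.ext (sub_eq_zero.mp hfin)
  have hcard : Nat.card (Fin p → {v : V // γ v = v}) = Nat.card {v : V // γ v = v} ^ p := by
    rw [Nat.card_fun, Nat.card_eq_fintype_card (α := Fin p), Fintype.card_fin]
  rw [← hcard]
  exact Nat.card_le_card_of_injective Φ hΦ

theorem core_group {G : Type*} [Group G] [Finite G] (p : ℕ) (hp : p.Prime) (N : Subgroup G)
    [N.Normal] (hNab : ∀ x ∈ N, ∀ y ∈ N, x * y = y * x) (hN : (Nat.card N).Coprime p)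
    (z c a : G) (hzp : z ^ p = 1) (hfix : ∀ x ∈ N, z * x = x * z → x = 1)
    (hzc : z * c = c * z) (haz : a * z = z * a) (hac : a * c * a⁻¹ = z * c) :
    Nat.card ↥(N ⊓ Subgroup.centralizer {c}) ^ p ≤ Nat.card N := by
  classical
  letI : CommGroup N :=
    { (inferInstance : Group N) with mul_comm := fun x y => Subtype.ext (hNab x x.2 y y.2) }
  let ρ : G →* Module.End ℤ (Additive N) :=
    { toFun := fun g => AddMonoidHom.toIntLinearMap
        (MonoidHom.toAdditive ((MulAut.conjNormal g : MulAut N).toMonoidHom))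
      map_one' := by
        ext v
        simp
      map_mul' := by
        intro g h
        ext v
        simp }
  have hρ : ∀ (g : G) (x : N), ρ g (Additive.ofMul x) = Additive.ofMul (MulAut.conjNormal g x) := by
    intro g x
    rfl
  have key := core_add (V := Additive N) p hp (by rw [Nat.card_congr Additive.toMul]; exact hN) (ρ z) (ρ c) (ρ a) (ρ a⁻¹)
    (by rw [← map_pow, hzp, map_one])
    (by
      intro v hv
      obtain ⟨x, rfl⟩ := Additive.ofMul.surjective v
      rw [hρ] at hv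
      have h1 : (MulAut.conjNormal z x : N) = x := Additive.ofMul.injective hv
      have h2 : z * (x : G) * z⁻¹ = x := by
        have := congrArg Subtype.val h1
        simpa [MulAut.conjNormal_apply] using this
      have h3 : (x : G) = 1 := hfix x x.2 (by
        have : z * (x : G) = z * x * z⁻¹ * z := by group
        rw [this, h2])
      have h4 : x = 1 := Subtype.ext h3
      rw [h4]; rfl)
    (by rw [← map_mul, mul_inv_cancel, map_one])
    (by
      rw [← map_mul, ← map_mul]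
      congr 1
      have : z * a⁻¹ = a⁻¹ * (a * z) * a⁻¹ := by group
      rw [this, haz]; group)
    (by rw [← map_mul, ← map_mul, hzc])
    (by
      rw [← map_mul, ← map_mul, ← map_mul]
      congr 1
      have h1 : z * a⁻¹ = a⁻¹ * z := by
        have : z * a⁻¹ = a⁻¹ * (a * z) * a⁻¹ := by group
        rw [this, haz]; group
      have h2 : c * a⁻¹ = a⁻¹ * (a * c * a⁻¹) := by group
      rw [h2, hac, h1, mul_assoc])
  have hinj : Nat.card ↥(N ⊓ Subgroup.centralizer {c}) ≤ Nat.card {v : Additive N // ρ c v = v} := by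
    apply Nat.card_le_card_of_injective
      (fun x : ↥(N ⊓ Subgroup.centralizer {c}) =>
        (⟨Additive.ofMul (⟨x.1, x.2.1⟩ : N), by
          rw [hρ]
          congr 1
          apply Subtype.ext
          rw [MulAut.conjNormal_apply]
          have h := Subgroup.mem_centralizer_iff.mp x.2.2 c (Set.mem_singleton c)
          change c * (x : G) * c⁻¹ = x
          rw [h]; group⟩ : {v : Additive N // ρ c v = v}))
    intro x y hxy
    have h1 := congrArg Subtype.val hxy
    have h2 := Additive.ofMul.injective h1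
    have h3 := congrArg Subtype.val h2
    exact Subtype.ext h3
  calc Nat.card ↥(N ⊓ Subgroup.centralizer {c}) ^ p
      ≤ Nat.card {v : Additive N // ρ c v = v} ^ p := Nat.pow_le_pow_left hinj p
    _ ≤ Nat.card (Additive N) := key
    _ = Nat.card N := Nat.card_congr Additive.toMul

universe u

/-- the hypotheses of the statement, for plain subgroups -/
structure Setup (p : ℕ) {G : Type u} [Group G] (P N : Subgroup G) (C D : Set G) : Prop where
  hP : IsPGroup p P
  hNn : N.Normal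
  hN : (Nat.card N).Coprime p
  hNP : N ⊔ P = ⊤
  hC : Subgroup.closure C = P
  hD : Subgroup.closure D = P
  h : ∀ x ∈ N, ∀ c ∈ C, ∀ d ∈ D, IsPGroup p ↥(Subgroup.closure ({x * c * x⁻¹, d} : Set G))

variable {p : ℕ} {G : Type u} [Group G] {P N : Subgroup G} {C D : Set G}

theorem Setup.disj [Fact p.Prime] [Finite G] (S : Setup p P N C D) : Disjoint N P := by
  apply Subgroup.disjoint_of_coprime_natCard
  obtain ⟨k, hk⟩ := IsPGroup.iff_card.mp S.hP
  rw [hk]
  exact Nat.Coprime.pow_right k S.hN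

theorem Setup.eq_one [Fact p.Prime] [Finite G] (S : Setup p P N C D) {g : G} (h1 : g ∈ N)
    (h2 : g ∈ P) : g = 1 := by
  have := S.disj
  rw [Subgroup.disjoint_def] at this
  exact this h1 h2

theorem Setup.decomp (S : Setup p P N C D) (g : G) : ∃ n ∈ N, ∃ u ∈ P, g = n * u := by
  haveI := S.hNn
  have h : g ∈ ((N ⊔ P : Subgroup G) : Set G) := by rw [S.hNP]; trivial
  rw [Subgroup.normal_mul] at h
  obtain ⟨n, hn, u, hu, rfl⟩ := h
  exact ⟨n, hn, u, hu, rfl⟩

theorem Setup.not_dvd_index [hp : Fact p.Prime] [Finite G] (S : Setup p P N C D) :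
    ¬ p ∣ P.index := by
  haveI := S.hNn
  have hc : N.IsComplement' P := by
    apply Subgroup.isComplement'_of_disjoint_and_mul_eq_univ S.disj
    rw [← Subgroup.normal_mul, S.hNP]
    rfl
  rw [hc.index_eq_card]
  exact (Nat.Prime.coprime_iff_not_dvd hp.out).mp S.hN.symm

theorem Setup.card_mul [Fact p.Prime] [Finite G] (S : Setup p P N C D) :
    Nat.card N * Nat.card P = Nat.card G := by
  haveI := S.hNn
  have hc : N.IsComplement' P := by
    apply Subgroup.isComplement'_of_disjoint_and_mul_eq_univ S.disj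
    rw [← Subgroup.normal_mul, S.hNP]
    rfl
  exact hc.card_mul_card

/-- an element of `N` conjugating an element of `P` into `P` centralizes it -/
theorem Setup.comm_of_conj_mem [Fact p.Prime] [Finite G] (S : Setup p P N C D) {y v : G}
    (hy : y ∈ N) (hv : v ∈ P) (h : y * v * y⁻¹ ∈ P) : y * v = v * y := by
  haveI := S.hNn
  have h1 : y * v * y⁻¹ * v⁻¹ ∈ P := P.mul_mem h (P.inv_mem hv)
  have h2 : y * v * y⁻¹ * v⁻¹ ∈ N := by
    have : y * v * y⁻¹ * v⁻¹ = y * (v * y⁻¹ * v⁻¹) := by group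
    rw [this]
    exact N.mul_mem hy (S.hNn.conj_mem _ (N.inv_mem hy) v)
  have h3 := S.eq_one h2 h1
  have : y * v = y * v * y⁻¹ * v⁻¹ * (v * y) := by group
  rw [this, h3, one_mul]

theorem Setup.C_le (S : Setup p P N C D) : C ⊆ P := by
  intro c hc
  rw [← S.hC]
  exact Subgroup.subset_closure hc

theorem Setup.D_le (S : Setup p P N C D) : D ⊆ P := by
  intro c hc
  rw [← S.hD]
  exact Subgroup.subset_closure hc

/-- `N = C_N(d) C_N(c)` -/
theorem Setup.star [hp : Fact p.Prime] [Finite G] (S : Setup p P N C D) :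
    ∀ x ∈ N, ∀ c ∈ C, ∀ d ∈ D, ∃ y ∈ N, y * d = d * y ∧ (y⁻¹ * x) * c = c * (y⁻¹ * x) := by
  intro x hx c hc d hd
  haveI := S.hNn
  let Ps : Sylow p G := S.hP.toSylow S.not_dvd_index
  have hPs : (Ps : Subgroup G) = P := IsPGroup.toSylow_coe _ _
  obtain ⟨R, hR⟩ := (S.h x hx c hc d hd).exists_le_sylow
  obtain ⟨g, hg⟩ := MulAction.exists_smul_eq G Ps R
  obtain ⟨n, hn, u, hu, rfl⟩ := S.decomp g
  have key : ∀ h ∈ Subgroup.closure ({x * c * x⁻¹, d} : Set G), n⁻¹ * h * n ∈ P := by
    intro h hh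
    have h1 : h ∈ (R : Subgroup G) := hR hh
    rw [← hg, Sylow.smul_def, Sylow.pointwise_smul_def,
      Subgroup.mem_pointwise_smul_iff_inv_smul_mem, hPs] at h1
    have h2 : (MulAut.conj (n * u))⁻¹ • h = (n * u)⁻¹ * h * (n * u) := by
      rw [← map_inv, MulAut.smul_def, MulAut.conj_apply, inv_inv]
    rw [h2] at h1
    have h3 : n⁻¹ * h * n = u * ((n * u)⁻¹ * h * (n * u)) * u⁻¹ := by group
    rw [h3]
    exact P.mul_mem (P.mul_mem hu h1) (P.inv_mem hu)
  have k1 := key (x * c * x⁻¹) (Subgroup.subset_closure (by simp))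
  have k2 := key d (Subgroup.subset_closure (by simp))
  refine ⟨n, hn, ?_, ?_⟩
  · have h1 : n⁻¹ * d * n⁻¹⁻¹ ∈ P := by rw [inv_inv]; exact k2
    have h2 := S.comm_of_conj_mem (N.inv_mem hn) (S.D_le hd) h1
    calc n * d = n * (d * n⁻¹) * n := by group
      _ = n * (n⁻¹ * d) * n := by rw [h2]
      _ = d * n := by group
  · have h1 : (n⁻¹ * x) * c * (n⁻¹ * x)⁻¹ ∈ P := by
      have : (n⁻¹ * x) * c * (n⁻¹ * x)⁻¹ = n⁻¹ * (x * c * x⁻¹) * n := by group
      rw [this]; exact k1
    exact S.comm_of_conj_mem (N.mul_mem (N.inv_mem hn) hx) (S.C_le hc) h1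

/-- passing to a quotient -/
theorem Setup.quot (S : Setup p P N C D) (K : Subgroup G) [K.Normal] :
    Setup p (P.map (QuotientGroup.mk' K)) (N.map (QuotientGroup.mk' K))
      ((QuotientGroup.mk' K) '' C) ((QuotientGroup.mk' K) '' D) where
  hP := S.hP.map _
  hNn := S.hNn.map _ (QuotientGroup.mk'_surjective K)
  hN := Nat.Coprime.coprime_dvd_left (Subgroup.card_map_dvd N _) S.hN
  hNP := by
    rw [← Subgroup.map_sup, S.hNP, Subgroup.map_top_of_surjective _ (QuotientGroup.mk'_surjective K)]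
  hC := by rw [← MonoidHom.map_closure, S.hC]
  hD := by rw [← MonoidHom.map_closure, S.hD]
  h := by
    rintro _ ⟨x, hx, rfl⟩ _ ⟨c, hc, rfl⟩ _ ⟨d, hd, rfl⟩
    have h1 := (S.h x hx c hc d hd).map (QuotientGroup.mk' K)
    rw [MonoidHom.map_closure, Set.image_pair] at h1
    have e : ((QuotientGroup.mk' K) x * (QuotientGroup.mk' K) c * ((QuotientGroup.mk' K) x)⁻¹) =
        (QuotientGroup.mk' K) (x * c * x⁻¹) := by simp
    rw [e]
    exact h1

/-- passing to a subgroup `M P` -/
theorem Setup.sub (S : Setup p P N C D) (M : Subgroup G) (hMN : M ≤ N)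
    (hPM : ∀ u ∈ P, ∀ m ∈ M, u * m * u⁻¹ ∈ M) :
    Setup p (P.subgroupOf (M ⊔ P)) (M.subgroupOf (M ⊔ P))
      ((M ⊔ P).subtype ⁻¹' C) ((M ⊔ P).subtype ⁻¹' D) where
  hP := S.hP.comap_subtype
  hNn := by
    rw [Subgroup.normal_subgroupOf_iff_le_normalizer le_sup_left]
    apply sup_le Subgroup.le_normalizer
    intro u hu
    rw [Subgroup.mem_normalizer_iff]
    intro m
    constructor
    · intro hm
      exact hPM u hu m hm
    · intro hm
      have := hPM u⁻¹ (P.inv_mem hu) _ hm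
      have e : u⁻¹ * (u * m * u⁻¹) * u⁻¹⁻¹ = m := by group
      rwa [e] at this
  hN := by
    have h1 : Nat.card (M.subgroupOf (M ⊔ P)) = Nat.card M :=
      Nat.card_congr (Subgroup.subgroupOfEquivOfLe le_sup_left).toEquiv
    rw [h1]
    exact Nat.Coprime.coprime_dvd_left (Subgroup.card_dvd_of_le hMN) S.hN
  hNP := by
    rw [← Subgroup.subgroupOf_sup le_sup_left le_sup_right, Subgroup.subgroupOf_self]
  hC := by
    have h1 : Subgroup.map (M ⊔ P).subtype (Subgroup.closure ((M ⊔ P).subtype ⁻¹' C)) = P := by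
      rw [MonoidHom.map_closure, Set.image_preimage_eq_of_subset, S.hC]
      intro c hc
      exact ⟨⟨c, le_sup_right (α := Subgroup G) (S.C_le hc)⟩, rfl⟩
    have h2 : Subgroup.closure ((M ⊔ P).subtype ⁻¹' C) = Subgroup.comap (M ⊔ P).subtype
        (Subgroup.map (M ⊔ P).subtype (Subgroup.closure ((M ⊔ P).subtype ⁻¹' C))) :=
      (Subgroup.comap_map_eq_self_of_injective (Subgroup.subtype_injective _) _).symm
    rw [h2, h1]
    rfl
  hD := by
    have h1 : Subgroup.map (M ⊔ P).subtype (Subgroup.closure ((M ⊔ P).subtype ⁻¹' D)) = P := by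
      rw [MonoidHom.map_closure, Set.image_preimage_eq_of_subset, S.hD]
      intro c hc
      exact ⟨⟨c, le_sup_right (α := Subgroup G) (S.D_le hc)⟩, rfl⟩
    have h2 : Subgroup.closure ((M ⊔ P).subtype ⁻¹' D) = Subgroup.comap (M ⊔ P).subtype
        (Subgroup.map (M ⊔ P).subtype (Subgroup.closure ((M ⊔ P).subtype ⁻¹' D))) :=
      (Subgroup.comap_map_eq_self_of_injective (Subgroup.subtype_injective _) _).symm
    rw [h2, h1]
    rfl
  h := by
    intro x hx c hc d hd
    have h1 := S.h (x : G) (hMN (Subgroup.mem_subgroupOf.mp hx)) (c : G) hc (d : G) hd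
    have h2 : Subgroup.map (M ⊔ P).subtype (Subgroup.closure ({x * c * x⁻¹, d} : Set ↥(M ⊔ P)))
        = Subgroup.closure ({(x : G) * c * (x : G)⁻¹, (d : G)} : Set G) := by
      rw [MonoidHom.map_closure, Set.image_pair]
      simp
    rw [← h2] at h1
    exact h1.of_equiv (Subgroup.equivMapOfInjective _ _ (Subgroup.subtype_injective _)).symm

/-- elements of `M ⊔ P` are products when `P` normalizes `M` -/
theorem mem_sup_of_normalizes (M P : Subgroup G) (hPM : ∀ u ∈ P, ∀ m ∈ M, u * m * u⁻¹ ∈ M)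
    {x : G} (hx : x ∈ M ⊔ P) : ∃ m ∈ M, ∃ u ∈ P, x = m * u := by
  let MP : Subgroup G :=
    { carrier := {x | ∃ m ∈ M, ∃ u ∈ P, x = m * u}
      mul_mem' := by
        rintro _ _ ⟨m, hm, u, hu, rfl⟩ ⟨m', hm', u', hu', rfl⟩
        refine ⟨m * (u * m' * u⁻¹), M.mul_mem hm (hPM u hu m' hm'), u * u', P.mul_mem hu hu', ?_⟩
        group
      one_mem' := ⟨1, M.one_mem, 1, P.one_mem, by simp⟩
      inv_mem' := by
        rintro _ ⟨m, hm, u, hu, rfl⟩
        refine ⟨u⁻¹ * m⁻¹ * u⁻¹⁻¹, hPM u⁻¹ (P.inv_mem hu) _ (M.inv_mem hm), u⁻¹, P.inv_mem hu, ?_⟩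
        group }
  have h1 : M ⊔ P ≤ MP := by
    apply sup_le
    · intro m hm
      exact ⟨m, hm, 1, P.one_mem, by simp⟩
    · intro u hu
      exact ⟨1, M.one_mem, u, hu, by simp⟩
  exact h1 hx


theorem Setup.exists_invariant_sylow [hp : Fact p.Prime] [Finite G] (S : Setup p P N C D) (r : ℕ)
    [Fact r.Prime] :
    ∃ M : Subgroup G, M ≤ N ∧ (∀ u ∈ P, ∀ m ∈ M, u * m * u⁻¹ ∈ M) ∧ IsPGroup r M ∧
      Nat.card M = r ^ (Nat.card N).factorization r := by
  haveI := S.hNn
  letI : MulDistribMulAction ↥P ↥N :=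
    MulDistribMulAction.compHom ↥N ((MulAut.conjNormal (H := N)).comp P.subtype)
  have hsm : ∀ (u : P) (m : N), ((u • m : N) : G) = u * m * (u : G)⁻¹ := fun u m => rfl
  have hnd : ¬ p ∣ Nat.card (Sylow r N) := by
    have R₀ : Sylow r N := default
    have h1 := Sylow.card_dvd_index R₀
    have h2 := Subgroup.index_dvd_card (R₀ : Subgroup N)
    intro h3
    have h4 : p ∣ Nat.card N := h3.trans (h1.trans h2)
    exact (Nat.Prime.coprime_iff_not_dvd hp.out).mp S.hN.symm h4
  obtain ⟨R, hR⟩ := S.hP.nonempty_fixed_point_of_prime_not_dvd_card (Sylow r N) hnd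
  refine ⟨(R : Subgroup N).map N.subtype, ?_, ?_, ?_, ?_⟩
  · rintro _ ⟨m, _, rfl⟩
    exact m.2
  · rintro u hu _ ⟨m, hm, rfl⟩
    have h1 : (⟨u, hu⟩ : P) • R = R := hR ⟨u, hu⟩
    have h2 : (⟨u, hu⟩ : P) • m ∈ ((⟨u, hu⟩ : P) • (R : Subgroup N)) :=
      Subgroup.smul_mem_pointwise_smul m _ _ hm
    rw [← Sylow.pointwise_smul_def, h1] at h2
    exact ⟨_, h2, hsm ⟨u, hu⟩ m⟩
  · exact R.isPGroup'.map _
  · rw [← Sylow.card_eq_multiplicity R]
    exact Nat.card_congr
      (Subgroup.equivMapOfInjective _ _ (Subgroup.subtype_injective _)).symm.toEquiv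

theorem exists_second_center [hp : Fact p.Prime] [Finite G] (P : Subgroup G) (hP : IsPGroup p P)
    (hna : ¬ ∀ u ∈ P, ∀ v ∈ P, u * v = v * u) :
    ∃ a ∈ P, (∃ v ∈ P, a * v ≠ v * a) ∧
      ∀ v ∈ P, ∀ w ∈ P, (a * v * a⁻¹ * v⁻¹) * w = w * (a * v * a⁻¹ * v⁻¹) := by
  have hQ : IsPGroup p (↥P ⧸ Subgroup.center ↥P) := hP.to_quotient _
  haveI : Nontrivial (↥P ⧸ Subgroup.center ↥P) := by
    by_contra hcon
    rw [not_nontrivial_iff_subsingleton] at hcon
    apply hna
    intro u hu v hv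
    have h1 : ((⟨u, hu⟩ : P) : ↥P ⧸ Subgroup.center ↥P) = 1 := Subsingleton.elim _ _
    rw [QuotientGroup.eq_one_iff] at h1
    have := Subgroup.mem_center_iff.mp h1 ⟨v, hv⟩
    exact (congrArg Subtype.val this).symm
  haveI := hQ.center_nontrivial
  obtain ⟨⟨abar, habar⟩, hne⟩ := exists_ne (1 : Subgroup.center (↥P ⧸ Subgroup.center ↥P))
  obtain ⟨a, rfl⟩ := QuotientGroup.mk_surjective abar
  have ha1 : a ∉ Subgroup.center ↥P := by
    intro h
    apply hne
    apply Subtype.ext
    exact (QuotientGroup.eq_one_iff a).mpr h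
  refine ⟨a, a.2, ?_, ?_⟩
  · by_contra hcon
    push Not at hcon
    apply ha1
    rw [Subgroup.mem_center_iff]
    intro v
    apply Subtype.ext
    exact (hcon v v.2).symm
  · intro v hv w hw
    have h1 : ((a * ⟨v, hv⟩ * a⁻¹ * (⟨v, hv⟩ : P)⁻¹ : P) : ↥P ⧸ Subgroup.center ↥P) = 1 := by
      have := Subgroup.mem_center_iff.mp habar ((⟨v, hv⟩ : P) : ↥P ⧸ Subgroup.center ↥P)
      rw [QuotientGroup.mk_mul, QuotientGroup.mk_mul, QuotientGroup.mk_mul, QuotientGroup.mk_inv,
        QuotientGroup.mk_inv, ← this]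
      group
    rw [QuotientGroup.eq_one_iff] at h1
    have := Subgroup.mem_center_iff.mp h1 ⟨w, hw⟩
    exact (congrArg Subtype.val this).symm

theorem main (p : ℕ) [hp : Fact p.Prime] (hp3 : 3 ≤ p) : ∀ (n : ℕ) (G : Type u) [Group G] [Finite G],
    Nat.card G = n → ∀ (P N : Subgroup G) (C D : Set G), Setup p P N C D →
    ∀ u ∈ P, ∀ x ∈ N, u * x = x * u := by
  intro n
  induction n using Nat.strong_induction_on with
  | _ n ih =>
  intro G _ _ hcard P N C D S
  haveI := S.hNn
  -- quotient reduction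
  have QL : ∀ K : Subgroup G, K.Normal → K ≠ ⊥ → ∀ u ∈ P, ∀ x ∈ N, u * x * u⁻¹ * x⁻¹ ∈ K := by
    intro K hK hK0 u hu x hx
    haveI := hK
    have hlt : Nat.card (G ⧸ K) < n := by
      rw [← hcard, ← Subgroup.index_eq_card, ← Subgroup.card_mul_index K]
      have h1 : 1 < Nat.card K := (Subgroup.one_lt_card_iff_ne_bot K).mpr hK0
      have h2 : 0 < K.index := Nat.pos_of_ne_zero (Subgroup.index_ne_zero_of_finite)
      nlinarith
    have key := ih _ hlt (G ⧸ K) rfl _ _ _ _ (S.quot K) (QuotientGroup.mk' K u)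
      (Subgroup.mem_map_of_mem _ hu) (QuotientGroup.mk' K x) (Subgroup.mem_map_of_mem _ hx)
    rw [← QuotientGroup.eq_one_iff]
    have e : ((u * x * u⁻¹ * x⁻¹ : G) : G ⧸ K) = (QuotientGroup.mk' K u) * (QuotientGroup.mk' K x) *
        (QuotientGroup.mk' K u)⁻¹ * (QuotientGroup.mk' K x)⁻¹ := by simp
    rw [e, key]
    group
  -- subgroup reduction
  have SL : ∀ M : Subgroup G, M ≤ N → (∀ u ∈ P, ∀ m ∈ M, u * m * u⁻¹ ∈ M) → M ≠ N →
      ∀ u ∈ P, ∀ m ∈ M, u * m = m * u := by
    intro M hMN hPM hne u hu m hm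
    have hlt : Nat.card ↥(M ⊔ P) < n := by
      rw [← hcard]
      apply lt_of_le_of_ne (Subgroup.card_le_card_group _)
      intro heq
      have htop : M ⊔ P = ⊤ := (Subgroup.card_eq_iff_eq_top _).mp heq
      apply hne
      apply le_antisymm hMN
      intro x hx
      obtain ⟨m', hm', u', hu', rfl⟩ := mem_sup_of_normalizes M P hPM (htop ▸ Subgroup.mem_top x)
      have h1 : u' ∈ N := by
        have : u' = m'⁻¹ * (m' * u') := by group
        rw [this]
        exact N.mul_mem (N.inv_mem (hMN hm')) hx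
      rw [S.eq_one h1 hu', mul_one]
      exact hm'
    have key := ih _ hlt ↥(M ⊔ P) rfl _ _ _ _ (S.sub M hMN hPM)
      ⟨u, le_sup_right (α := Subgroup G) hu⟩ (by rw [Subgroup.mem_subgroupOf]; exact hu)
      ⟨m, le_sup_left (α := Subgroup G) hm⟩ (by rw [Subgroup.mem_subgroupOf]; exact hm)
    exact congrArg Subtype.val key
  -- coprime action on a series of length two
  have CL : ∀ K : Subgroup G, K ≤ N → (∀ u ∈ P, ∀ k ∈ K, u * k = k * u) →
      (∀ u ∈ P, ∀ x ∈ N, u * x * u⁻¹ * x⁻¹ ∈ K) → ∀ u ∈ P, ∀ x ∈ N, u * x = x * u := by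
    intro K hKN hcent hcomm u hu x hx
    have hzK : u * x * u⁻¹ * x⁻¹ ∈ K := hcomm u hu x hx
    have huz : u * (u * x * u⁻¹ * x⁻¹) = (u * x * u⁻¹ * x⁻¹) * u := hcent u hu _ hzK
    have hpow : ∀ j : ℕ, u ^ j * x * (u ^ j)⁻¹ = (u * x * u⁻¹ * x⁻¹) ^ j * x := by
      intro j
      induction j with
      | zero => simp
      | succ j ih' =>
        have e1 : u ^ (j + 1) * x * (u ^ (j + 1))⁻¹ = u * (u ^ j * x * (u ^ j)⁻¹) * u⁻¹ := by
          rw [pow_succ']; group
        have e2 : u * (u * x * u⁻¹ * x⁻¹) ^ j = (u * x * u⁻¹ * x⁻¹) ^ j * u :=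
          Commute.pow_right huz j
        have e3 : (u * x * u⁻¹ * x⁻¹) * x = u * (x * u⁻¹) := by group
        rw [e1, ih', ← mul_assoc, e2, mul_assoc, mul_assoc, pow_succ,
          mul_assoc ((u * x * u⁻¹ * x⁻¹) ^ j), e3]
    obtain ⟨k, hk⟩ := (IsPGroup.iff_orderOf.mp S.hP) ⟨u, hu⟩
    rw [Subgroup.orderOf_mk] at hk
    have h1 : (u * x * u⁻¹ * x⁻¹) ^ (p ^ k) = 1 := by
      have h2 := hpow (p ^ k)
      have h3 : u ^ (p ^ k) = 1 := by
        rw [← hk]; exact pow_orderOf_eq_one u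
      rw [h3] at h2
      simpa using h2.symm
    have h4 : orderOf (u * x * u⁻¹ * x⁻¹) ∣ p ^ k := orderOf_dvd_of_pow_eq_one h1
    have h5 : orderOf (u * x * u⁻¹ * x⁻¹) ∣ Nat.card N := by
      have := orderOf_dvd_natCard (⟨_, hKN hzK⟩ : N)
      rwa [Subgroup.orderOf_mk] at this
    have h6 : orderOf (u * x * u⁻¹ * x⁻¹) = 1 :=
      Nat.eq_one_of_dvd_coprimes (Nat.Coprime.pow_right k S.hN) h5 h4
    have h7 : u * x * u⁻¹ * x⁻¹ = 1 := orderOf_eq_one_iff.mp h6
    have : u * x = (u * x * u⁻¹ * x⁻¹) * (x * u) := by group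
    rw [this, h7, one_mul]
  -- step 1 : N is a minimal normal subgroup
  by_cases h1 : ∃ K : Subgroup G, K.Normal ∧ K ≤ N ∧ K ≠ ⊥ ∧ K ≠ N
  · obtain ⟨K, hKn, hKN, hK0, hK1⟩ := h1
    exact CL K hKN (SL K hKN (fun u _ k hk => hKn.conj_mem k hk u) hK1) (QL K hKn hK0)
  push Not at h1
  by_cases hN0 : N = ⊥
  · intro u hu x hx
    rw [hN0, Subgroup.mem_bot] at hx
    rw [hx]; simp
  -- step 3 : P acts faithfully
  have hKnormal : (P ⊓ Subgroup.centralizer (N : Set G)).Normal := by
    constructor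
    intro k hk g
    obtain ⟨n', hn', u', hu', rfl⟩ := S.decomp g
    have h1 : u' * k * u'⁻¹ ∈ P :=
      P.mul_mem (P.mul_mem hu' (Subgroup.mem_inf.mp hk).1) (P.inv_mem hu')
    have h2 : u' * k * u'⁻¹ ∈ Subgroup.centralizer (N : Set G) :=
      (Subgroup.normal_centralizer (H := N)).conj_mem k (Subgroup.mem_inf.mp hk).2 u'
    have h3 : n' * u' * k * (n' * u')⁻¹ = u' * k * u'⁻¹ := by
      have := Subgroup.mem_centralizer_iff.mp h2 n' hn'
      calc n' * u' * k * (n' * u')⁻¹ = n' * (u' * k * u'⁻¹) * n'⁻¹ := by group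
        _ = (u' * k * u'⁻¹) * n' * n'⁻¹ := by rw [this]
        _ = _ := by group
    rw [h3]
    exact Subgroup.mem_inf.mpr ⟨h1, h2⟩
  by_cases h3 : (P ⊓ Subgroup.centralizer (N : Set G)) ≠ ⊥
  · intro u hu x hx
    have h4 := QL _ hKnormal h3 u hu x hx
    have h5 : u * x * u⁻¹ * x⁻¹ ∈ N := N.mul_mem (S.hNn.conj_mem x hx u) (N.inv_mem hx)
    have h6 := S.eq_one h5 (Subgroup.mem_inf.mp h4).1
    have : u * x = (u * x * u⁻¹ * x⁻¹) * (x * u) := by group
    rw [this, h6, one_mul]
  rw [not_not] at h3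
  have hfaith : ∀ u ∈ P, (∀ x ∈ N, x * u = u * x) → u = 1 := by
    intro u hu hux
    have : u ∈ P ⊓ Subgroup.centralizer (N : Set G) := mem_inf_cent.mpr ⟨hu, hux⟩
    rw [h3] at this
    exact Subgroup.mem_bot.mp this
  -- step 2 : N is abelian
  by_cases h2 : ∀ x ∈ N, ∀ y ∈ N, x * y = y * x
  swap
  · have hF : ∀ r : ℕ, r.Prime → (Nat.card N).factorization r ≤
        (Nat.card ↥(N ⊓ Subgroup.centralizer (P : Set G))).factorization r := by
      intro r hr
      haveI : Fact r.Prime := ⟨hr⟩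
      obtain ⟨M, hMN, hPM, hMr, hMcard⟩ := S.exists_invariant_sylow r
      by_cases hMeq : M = N
      · exfalso
        have hNr : IsPGroup r N := hMeq ▸ hMr
        haveI : Nontrivial N := (Subgroup.nontrivial_iff_ne_bot N).mpr hN0
        haveI := hNr.center_nontrivial
        obtain ⟨⟨z, hz⟩, hz1⟩ := exists_ne (1 : Subgroup.center N)
        have hZn : (N ⊓ Subgroup.centralizer (N : Set G)).Normal :=
          Subgroup.normal_inf_normal _ _
        have hZ0 : N ⊓ Subgroup.centralizer (N : Set G) ≠ ⊥ := by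
          intro h0
          have hmem : (z : G) ∈ N ⊓ Subgroup.centralizer (N : Set G) := by
            rw [mem_inf_cent]
            refine ⟨z.2, ?_⟩
            intro y hy
            have := Subgroup.mem_center_iff.mp hz ⟨y, hy⟩
            exact congrArg Subtype.val this
          rw [h0, Subgroup.mem_bot] at hmem
          apply hz1
          apply Subtype.ext
          apply Subtype.ext
          exact hmem
        have hZN := h1 _ hZn inf_le_left hZ0
        apply h2
        intro x hx y hy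
        have : y ∈ N ⊓ Subgroup.centralizer (N : Set G) := by rw [hZN]; exact hy
        exact (mem_inf_cent.mp this).2 x hx
      · have hcent := SL M hMN hPM hMeq
        have hle : M ≤ N ⊓ Subgroup.centralizer (P : Set G) := by
          intro m hm
          rw [mem_inf_cent]
          refine ⟨hMN hm, ?_⟩
          intro u hu
          exact hcent u hu m hm
        have hdvd := Subgroup.card_dvd_of_le hle
        rw [hMcard] at hdvd
        exact (Nat.Prime.pow_dvd_iff_le_factorization hr (Nat.card_pos.ne')).mp hdvd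
    have hdvd : Nat.card N ∣ Nat.card ↥(N ⊓ Subgroup.centralizer (P : Set G)) :=
      (Nat.factorization_prime_le_iff_dvd Nat.card_pos.ne' Nat.card_pos.ne').mp hF
    have heq : N ⊓ Subgroup.centralizer (P : Set G) = N :=
      Subgroup.eq_of_le_of_card_ge inf_le_left (Nat.le_of_dvd Nat.card_pos hdvd)
    intro u hu x hx
    have : x ∈ N ⊓ Subgroup.centralizer (P : Set G) := by rw [heq]; exact hx
    exact (mem_inf_cent.mp this).2 u hu
  -- step 4
  have h4a : ∀ z ∈ P, (∀ u ∈ P, u * z = z * u) → z ≠ 1 → ∀ x ∈ N, z * x = x * z → x = 1 := by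
    intro z hz hzc hz1 x hx hzx
    have hFn : (N ⊓ Subgroup.centralizer ({z} : Set G)).Normal := by
      constructor
      intro y hy g
      obtain ⟨n', hn', u', hu', rfl⟩ := S.decomp g
      have hyN : u' * y * u'⁻¹ ∈ N := S.hNn.conj_mem y (mem_inf_cent_singleton.mp hy).1 u'
      have e1 : n' * u' * y * (n' * u')⁻¹ = u' * y * u'⁻¹ := by
        have := h2 n' hn' _ hyN
        calc n' * u' * y * (n' * u')⁻¹ = n' * (u' * y * u'⁻¹) * n'⁻¹ := by group
          _ = (u' * y * u'⁻¹) * n' * n'⁻¹ := by rw [this]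
          _ = _ := by group
      rw [e1, mem_inf_cent_singleton]
      refine ⟨hyN, ?_⟩
      have hy2 : z * y = y * z := (mem_inf_cent_singleton.mp hy).2
      have hu2 : u' * z = z * u' := hzc u' hu'
      calc z * (u' * y * u'⁻¹) = (z * u') * y * u'⁻¹ := by group
        _ = (u' * z) * y * u'⁻¹ := by rw [hu2]
        _ = u' * (z * y) * u'⁻¹ := by group
        _ = u' * (y * z) * u'⁻¹ := by rw [hy2]
        _ = u' * y * (u'⁻¹ * (u' * z) * u'⁻¹) := by group
        _ = u' * y * (u'⁻¹ * (z * u') * u'⁻¹) := by rw [hu2]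
        _ = _ := by group
    by_cases hF0 : N ⊓ Subgroup.centralizer ({z} : Set G) = ⊥
    · have : x ∈ N ⊓ Subgroup.centralizer ({z} : Set G) :=
        mem_inf_cent_singleton.mpr ⟨hx, hzx⟩
      rw [hF0] at this
      exact Subgroup.mem_bot.mp this
    · exfalso
      have hFN := h1 _ hFn inf_le_left hF0
      apply hz1
      apply hfaith z hz
      intro y hy
      have : y ∈ N ⊓ Subgroup.centralizer ({z} : Set G) := by rw [hFN]; exact hy
      exact (mem_inf_cent_singleton.mp this).2.symm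
  by_cases hP0 : P = ⊥
  · intro u hu x hx
    rw [hP0, Subgroup.mem_bot] at hu
    rw [hu]; simp
  exfalso
  by_cases hPab : ∀ u ∈ P, ∀ v ∈ P, u * v = v * u
  · have hC1 : ∃ c ∈ C, c ≠ 1 := by
      by_contra hcon
      push Not at hcon
      apply hP0
      rw [← S.hC, Subgroup.closure_eq_bot_iff]
      intro c hc
      exact hcon c hc
    have hD1 : ∃ d ∈ D, d ≠ 1 := by
      by_contra hcon
      push Not at hcon
      apply hP0
      rw [← S.hD, Subgroup.closure_eq_bot_iff]
      intro c hc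
      exact hcon c hc
    obtain ⟨c, hc, hc1⟩ := hC1
    obtain ⟨d, hd, hd1⟩ := hD1
    apply hN0
    rw [Subgroup.eq_bot_iff_forall]
    intro x hx
    obtain ⟨y, hy, hyd, hyc⟩ := S.star x hx c hc d hd
    have hy1 : y = 1 :=
      h4a d (S.D_le hd) (fun u hu => hPab u hu d (S.D_le hd)) hd1 y hy hyd.symm
    rw [hy1] at hyc
    simp only [inv_one, one_mul] at hyc
    exact h4a c (S.C_le hc) (fun u hu => hPab u hu c (S.C_le hc)) hc1 x hx hyc.symm
  · obtain ⟨a, ha, ⟨v, hv, hav⟩, hacent⟩ := exists_second_center P S.hP hPab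
    have good : ∀ c ∈ P, a * c ≠ c * a →
        Nat.card ↥(N ⊓ Subgroup.centralizer ({c} : Set G)) ^ p ≤ Nat.card N := by
      intro c hc hac
      have hz₀P : a * c * a⁻¹ * c⁻¹ ∈ P :=
        P.mul_mem (P.mul_mem (P.mul_mem ha hc) (P.inv_mem ha)) (P.inv_mem hc)
      have hz₀c : ∀ w ∈ P, (a * c * a⁻¹ * c⁻¹) * w = w * (a * c * a⁻¹ * c⁻¹) := hacent c hc
      have hz₀1 : a * c * a⁻¹ * c⁻¹ ≠ 1 := by
        intro h
        apply hac
        have : a * c = (a * c * a⁻¹ * c⁻¹) * (c * a) := by group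
        rw [this, h, one_mul]
      have hpow : ∀ j : ℕ, a ^ j * c * (a ^ j)⁻¹ = (a * c * a⁻¹ * c⁻¹) ^ j * c := by
        intro j
        induction j with
        | zero => simp
        | succ j ih' =>
          have e1 : a ^ (j + 1) * c * (a ^ (j + 1))⁻¹ = a * (a ^ j * c * (a ^ j)⁻¹) * a⁻¹ := by
            rw [pow_succ']; group
          have e2 : a * (a * c * a⁻¹ * c⁻¹) ^ j = (a * c * a⁻¹ * c⁻¹) ^ j * a :=
            Commute.pow_right (hz₀c a ha).symm j
          have e3 : (a * c * a⁻¹ * c⁻¹) * c = a * (c * a⁻¹) := by group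
          rw [e1, ih', ← mul_assoc, e2, mul_assoc, mul_assoc, pow_succ,
            mul_assoc ((a * c * a⁻¹ * c⁻¹) ^ j), e3]
      obtain ⟨k, hk⟩ := (IsPGroup.iff_orderOf.mp S.hP) ⟨_, hz₀P⟩
      rw [Subgroup.orderOf_mk] at hk
      have hk0 : k ≠ 0 := by
        intro h0
        rw [h0, pow_zero, orderOf_eq_one_iff] at hk
        exact hz₀1 hk
      obtain ⟨k', rfl⟩ : ∃ k', k = k' + 1 := ⟨k - 1, by omega⟩
      have hzP : (a * c * a⁻¹ * c⁻¹) ^ (p ^ k') ∈ P := P.pow_mem hz₀P _
      have hzc : ∀ w ∈ P, (a * c * a⁻¹ * c⁻¹) ^ (p ^ k') * w = w * (a * c * a⁻¹ * c⁻¹) ^ (p ^ k') :=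
        fun w hw => Commute.pow_left (hz₀c w hw) _
      have hz1 : (a * c * a⁻¹ * c⁻¹) ^ (p ^ k') ≠ 1 := by
        apply pow_ne_one_of_lt_orderOf (pow_ne_zero _ hp.out.ne_zero)
        rw [hk]
        exact Nat.pow_lt_pow_right hp.out.one_lt (Nat.lt_succ_self k')
      have hzp : ((a * c * a⁻¹ * c⁻¹) ^ (p ^ k')) ^ p = 1 := by
        rw [← pow_mul, ← pow_succ, ← hk]
        exact pow_orderOf_eq_one _
      have ha'P : a ^ (p ^ k') ∈ P := P.pow_mem ha _
      exact core_group p hp.out N h2 S.hN _ c (a ^ (p ^ k')) hzp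
        (h4a _ hzP (fun u hu => (hzc u hu).symm) hz1) (hzc c hc) (hzc _ ha'P).symm (hpow _)
    have hcC : ∃ c ∈ C, a * c ≠ c * a := by
      by_contra hcon
      push Not at hcon
      apply hav
      have hle : P ≤ Subgroup.centralizer ({a} : Set G) := by
        rw [← S.hC, Subgroup.closure_le]
        intro c hc
        rw [SetLike.mem_coe, Subgroup.mem_centralizer_iff]
        intro w hw
        rw [Set.mem_singleton_iff] at hw
        rw [hw]
        exact hcon c hc
      exact Subgroup.mem_centralizer_iff.mp (hle hv) a rfl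
    have hdD : ∃ d ∈ D, a * d ≠ d * a := by
      by_contra hcon
      push Not at hcon
      apply hav
      have hle : P ≤ Subgroup.centralizer ({a} : Set G) := by
        rw [← S.hD, Subgroup.closure_le]
        intro c hc
        rw [SetLike.mem_coe, Subgroup.mem_centralizer_iff]
        intro w hw
        rw [Set.mem_singleton_iff] at hw
        rw [hw]
        exact hcon c hc
      exact Subgroup.mem_centralizer_iff.mp (hle hv) a rfl
    obtain ⟨c, hc, hac⟩ := hcC
    obtain ⟨d, hd, had⟩ := hdD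
    have g1 := good c (S.C_le hc) hac
    have g2 := good d (S.D_le hd) had
    have hsurj : Nat.card N ≤ Nat.card ↥(N ⊓ Subgroup.centralizer ({d} : Set G)) *
        Nat.card ↥(N ⊓ Subgroup.centralizer ({c} : Set G)) := by
      rw [← Nat.card_prod]
      apply Nat.card_le_card_of_surjective
        (fun q : ↥(N ⊓ Subgroup.centralizer ({d} : Set G)) ×
          ↥(N ⊓ Subgroup.centralizer ({c} : Set G)) =>
          (⟨(q.1 : G) * (q.2 : G), N.mul_mem (mem_inf_cent_singleton.mp q.1.2).1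
            (mem_inf_cent_singleton.mp q.2.2).1⟩ : N))
      intro x
      obtain ⟨y, hy, hyd, hyc⟩ := S.star x x.2 c hc d hd
      refine ⟨(⟨y, mem_inf_cent_singleton.mpr ⟨hy, hyd.symm⟩⟩,
        ⟨y⁻¹ * x, mem_inf_cent_singleton.mpr ⟨N.mul_mem (N.inv_mem hy) x.2, hyc.symm⟩⟩), ?_⟩
      apply Subtype.ext
      simp
    have hN2 : 2 ≤ Nat.card N := (Subgroup.one_lt_card_iff_ne_bot N).mpr hN0
    have h5 : Nat.card N ^ p ≤ Nat.card N ^ 2 := by
      calc Nat.card N ^ p ≤ (Nat.card ↥(N ⊓ Subgroup.centralizer ({d} : Set G)) *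
            Nat.card ↥(N ⊓ Subgroup.centralizer ({c} : Set G))) ^ p := Nat.pow_le_pow_left hsurj p
        _ = Nat.card ↥(N ⊓ Subgroup.centralizer ({d} : Set G)) ^ p *
            Nat.card ↥(N ⊓ Subgroup.centralizer ({c} : Set G)) ^ p := mul_pow _ _ p
        _ ≤ Nat.card N * Nat.card N := Nat.mul_le_mul g2 g1
        _ = Nat.card N ^ 2 := (sq _).symm
    have h6 : Nat.card N ^ 2 < Nat.card N ^ p := Nat.pow_lt_pow_right (by omega) (by omega)
    omega

/-- Let p ≥ 3 be prime and G a finite group with a Sylow p-subgroup P and a normal p-complement N (N normal, of order prime to p, with NP = G). Suppose P is generated by a subset C and also by a subset D, and that ⟨x c x⁻¹, d⟩ is a p-group for all x ∈ N, c ∈ C, d ∈ D. Then P centralizes N, so that G = N × P. -/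
theorem result {G : Type*} [Group G] [Finite G] (p : ℕ) [Fact p.Prime] (hp3 : 3 ≤ p) (P : Sylow p G)
    (N : Subgroup G) [N.Normal] (hN : (Nat.card N).Coprime p) (hNP : N ⊔ (P : Subgroup G) = ⊤)
    (C D : Set G) (hC : Subgroup.closure C = (P : Subgroup G)) (hD : Subgroup.closure D = (P : Subgroup G))
    (h : ∀ x ∈ N, ∀ c ∈ C, ∀ d ∈ D, IsPGroup p ↥(Subgroup.closure ({x * c * x⁻¹, d} : Set G))) :
    ⁅(P : Subgroup G), N⁆ = ⊥ := by
  have S : Setup p (P : Subgroup G) N C D :=
    { hP := P.isPGroup'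
      hNn := inferInstance
      hN := hN
      hNP := hNP
      hC := hC
      hD := hD
      h := h }
  have key := main p hp3 _ G rfl _ _ _ _ S
  rw [Subgroup.commutator_eq_bot_iff_le_centralizer]
  intro u hu
  rw [Subgroup.mem_centralizer_iff]
  intro x hx
  exact (key u hu x hx).symm

end Cfsg.Agent.S2277
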