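import Cfsg.Statements.S2410
import Mathlib
import Cfsg.Agent.Lib.Helper45.SzSub1

set_option autoImplicit false
set_option linter.style.haveILetI false
open Cfsg

namespace Cfsg.Agent.S2410

open Matrix Cfsg.Agent.Lib.Helper8.Sz Cfsg.Agent.Lib.Helper45.SzU Cfsg.Agent.S2247
  Cfsg.Agent.Lib.Helper45.SzSub

theorem exists_avoid {F : Type*} [Field F] [Fintype F] {m : ℕ} (hm : 1 ≤ m)
    (hF : Fintype.card F = 2 ^ (2 * m + 1)) (x₁ x₂ x₃ x₄ : F) :
    ∃ x : F, x ≠ x₁ ∧ x ≠ x₂ ∧ x ≠ x₃ ∧ x ≠ x₄ := by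
  classical
  have h8 : 2 ^ 3 ≤ 2 ^ (2 * m + 1) := Nat.pow_le_pow_right (by norm_num) (by omega)
  have hcard : ({x₁, x₂, x₃, x₄} : Finset F).card < (Finset.univ : Finset F).card := by
    rw [Finset.card_univ, hF]
    have := Finset.card_le_four (a := x₁) (b := x₂) (c := x₃) (d := x₄)
    omega
  obtain ⟨x, -, hx⟩ := Finset.exists_mem_notMem_of_card_lt_card hcard
  simp only [Finset.mem_insert, Finset.mem_singleton, not_or] at hx
  exact ⟨x, hx.1, hx.2.1, hx.2.2.1, hx.2.2.2⟩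

/-- The Suzuki group over the field with `2^(2m+1)` elements, `m ≥ 1` (realised as the stabiliser in `SL₄` of the Suzuki–Tits ovoid), is generated by two of its elements. -/
theorem result {F : Type*} [Field F] [Fintype F] {m : ℕ} (hm : 1 ≤ m) (hF : Fintype.card F = 2 ^ (2 * m + 1)) :
    ∃ a b : ↥(Cfsg.Sz F m), Subgroup.closure ({a, b} : Set ↥(Cfsg.Sz F m)) = ⊤ := by
  have h2F := two_eq_zero hF
  obtain ⟨ζ, hζ⟩ := IsCyclic.exists_generator (α := Fˣ)
  refine ⟨hgS hF ζ, tg hF 1 0 * wS hF, ?_⟩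
  obtain ⟨M, hM⟩ : ∃ M, M = Subgroup.closure
    ({hgS hF ζ, tg hF 1 0 * wS hF} : Set ↥(Cfsg.Sz F m)) := ⟨_, rfl⟩
  rw [← hM]
  have haM : hgS hF ζ ∈ M := by
    rw [hM]; exact Subgroup.subset_closure (by simp)
  have hbM : tg hF 1 0 * wS hF ∈ M := by
    rw [hM]; exact Subgroup.subset_closure (by simp)
  -- the torus lies in M
  have hHM : ∀ z : Fˣ, hgS hF z ∈ M := by
    intro z
    let Hh : Fˣ →* ↥(Cfsg.Sz F m) := MonoidHom.mk' (hgS hF) (hgS_mul hF)
    obtain ⟨i, rfl⟩ := Subgroup.mem_zpowers_iff.mp (hζ z)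
    have : hgS hF (ζ ^ i) = (hgS hF ζ) ^ i := map_zpow Hh ζ i
    rw [this]
    exact M.zpow_mem haM i
  -- step 2
  have h2 : ∀ c : F, c ≠ 0 → tg hF c 0 * wS hF ∈ M := by
    intro c hc
    obtain ⟨z, hz⟩ := exists_th hF c
    have hz0 : z ≠ 0 := by
      rintro rfl
      rw [th_zero] at hz
      exact hc hz.symm
    obtain ⟨zu, hzu⟩ : ∃ zu : Fˣ, (zu : F) = z := ⟨Units.mk0 z hz0, rfl⟩
    have e1 : hgS hF zu * wS hF = wS hF * hgS hF zu⁻¹ := by
      rw [← wS_hgS_wS hF zu, ← mul_assoc, ← mul_assoc, wS_mul_wS, one_mul]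
    have e2 : hgS hF zu * (tg hF 1 0 * wS hF) * (hgS hF zu)⁻¹ * hgS hF (zu * zu) =
        tg hF c 0 * wS hF := by
      have e3 : hgS hF zu * (tg hF 1 0 * wS hF) * (hgS hF zu)⁻¹ * hgS hF (zu * zu) =
          (hgS hF zu * tg hF 1 0 * (hgS hF zu)⁻¹) * (hgS hF zu * wS hF) *
            ((hgS hF zu)⁻¹ * hgS hF (zu * zu)) := by group
      rw [e3, hgS_conj_tg, e1, hzu, hz, mul_one, mul_zero, hgS_mul, inv_mul_cancel_left,
        mul_assoc, mul_assoc, ← hgS_mul, inv_mul_cancel, hgS_one, mul_one]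
    rw [← e2]
    exact M.mul_mem (M.mul_mem (M.mul_mem (hHM zu) hbM) (M.inv_mem (hHM zu))) (hHM _)
  -- step 3
  have h3 : ∀ e c' : F, e ≠ 0 → c' ≠ 0 → c' ≠ e → tg hF e (th m e * c') ∈ M := by
    intro e c' he hc' hce
    have hc : e + c' ≠ 0 := by
      intro h
      apply hce
      have := add_self hF c'
      linear_combination this - h
    have e1 : tg hF (e + c') 0 * wS hF * (tg hF c' 0 * wS hF)⁻¹ = tg hF e (th m e * c') := by
      have e2 : tg hF (e + c') 0 * wS hF * (tg hF c' 0 * wS hF)⁻¹ =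
          tg hF (e + c') 0 * (tg hF c' 0)⁻¹ := by group
      have e3 : (tg hF c' 0)⁻¹ = tg hF c' (0 + th m c' * c') := Subtype.ext (Tg_inv hF c' 0)
      rw [e2, e3, tg_mul]
      congr 1
      · have := add_self hF c'
        linear_combination this
      · rw [th_add hF]
        have := add_self hF (th m c' * c')
        linear_combination this
    rw [← e1]
    exact M.mul_mem (h2 _ hc) (M.inv_mem (h2 _ hc'))
  -- step 4
  have h4 : ∀ d : F, tg hF 0 d ∈ M := by
    intro d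
    obtain ⟨c', hc1, hc2, hc3, hc4⟩ := exists_avoid hm hF 0 1 d (d + 1)
    have hc'' : c' + d ≠ 0 := by
      intro h
      apply hc3
      have := add_self hF d
      linear_combination h - this
    have hc''1 : c' + d ≠ 1 := by
      intro h
      apply hc4
      have := add_self hF d
      linear_combination h - this
    have e1 : tg hF 1 (th m 1 * c') * (tg hF 1 (th m 1 * (c' + d)))⁻¹ = tg hF 0 d := by
      have e3 : (tg hF 1 (th m 1 * (c' + d)))⁻¹ =
          tg hF 1 (th m 1 * (c' + d) + th m 1 * 1) := Subtype.ext (Tg_inv hF _ _)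
      rw [e3, tg_mul, th_one]
      congr 1
      · exact add_self hF 1
      · linear_combination (c' + 1) * h2F
    rw [← e1]
    exact M.mul_mem (h3 1 c' one_ne_zero hc1 hc2) (M.inv_mem (h3 1 (c' + d) one_ne_zero hc'' hc''1))
  -- step 5
  have h5 : ∀ e b : F, tg hF e b ∈ M := by
    intro e b
    by_cases he : e = 0
    · rw [he]; exact h4 b
    · obtain ⟨c', hc1, hc2, -, -⟩ := exists_avoid hm hF 0 e 0 0
      have e1 : tg hF e (th m e * c') * tg hF 0 (b + th m e * c') = tg hF e b := by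
        rw [tg_mul]
        congr 1
        · rw [add_zero]
        · linear_combination (th m e * c') * h2F
      rw [← e1]
      exact M.mul_mem (h3 e c' he hc1 hc2) (h4 _)
  have hU : U hF ≤ M := by
    intro g hg
    obtain ⟨a, b, hab⟩ := hg
    have : g = tg hF a b := Subtype.ext hab
    rw [this]
    exact h5 a b
  have hw : wS hF ∈ M := by
    have : wS hF = (tg hF 1 0)⁻¹ * (tg hF 1 0 * wS hF) := by group
    rw [this]
    exact M.mul_mem (M.inv_mem (h5 1 0)) hbM
  apply core hm hF M hU (wS hF) hw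
  show wg F • Pinf F ≠ Pinf F
  rw [wg_smul_Pinf (m := m)]
  exact Paff_ne_Pinf _ _

end Cfsg.Agent.S2410
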