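import Cfsg.Statements.S2418
import Mathlib
import Cfsg.Agent.Lib.Helper25.CoxOrder
import Cfsg.Agent.Lib.Helper25.CoxSmallData
import Cfsg.Agent.Lib.Helper25.CoxE8Data
import Cfsg.Agent.Lib.Helper7.WeylCenter

set_option autoImplicit false
open Cfsg

namespace Cfsg.Agent.S2418

open Cfsg.Agent.Lib.Helper25 Cfsg.Agent.Lib.Helper7.WeylC

theorem center_B2 : Nat.card (Subgroup.center (CoxeterMatrix.B 2).Group) = 2 ∧
    Subgroup.center (CoxeterMatrix.B 2).Group ≤
      Subgroup.zpowers ((List.finRange 2).map (CoxeterMatrix.B 2).simple).prod :=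
  weyl_center_two (CoxeterMatrix.B 2) b2ML b2Cart b2Levels
    (by decide) (by intro i j; fin_cases i <;> fin_cases j <;> rfl) (by decide +kernel)
    (by decide +kernel) (by norm_num) [0, 0] (by decide +kernel) 2 (by decide +kernel)

theorem center_G2 : Nat.card (Subgroup.center CoxeterMatrix.G₂.Group) = 2 ∧
    Subgroup.center CoxeterMatrix.G₂.Group ≤
      Subgroup.zpowers ((List.finRange 2).map CoxeterMatrix.G₂.simple).prod :=
  weyl_center_two CoxeterMatrix.G₂ g2ML g2Cart g2Levels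
    (by decide) (by intro i j; fin_cases i <;> fin_cases j <;> rfl) (by decide +kernel)
    (by decide +kernel) (by norm_num) [0, 0] (by decide +kernel) 3 (by decide +kernel)

theorem center_D4 : Nat.card (Subgroup.center Cfsg.Lie.coxeterD4.Group) = 2 ∧
    Subgroup.center Cfsg.Lie.coxeterD4.Group ≤
      Subgroup.zpowers ((List.finRange 4).map Cfsg.Lie.coxeterD4.simple).prod :=
  weyl_center_two Cfsg.Lie.coxeterD4 d4ML d4Cart d4Levels
    (by decide) (by intro i j; fin_cases i <;> fin_cases j <;> rfl) (by decide +kernel)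
    (by decide +kernel) (by norm_num) [0, 0, 1, 1] (by decide +kernel) 3 (by decide +kernel)

theorem center_F4 : Nat.card (Subgroup.center CoxeterMatrix.F₄.Group) = 2 ∧
    Subgroup.center CoxeterMatrix.F₄.Group ≤
      Subgroup.zpowers ((List.finRange 4).map CoxeterMatrix.F₄.simple).prod :=
  weyl_center_two CoxeterMatrix.F₄ f4ML f4Cart f4Levels
    (by decide) (by intro i j; fin_cases i <;> fin_cases j <;> rfl) (by decide +kernel)
    (by decide +kernel) (by norm_num) [0, 0, 1, 2] (by decide +kernel) 6 (by decide +kernel)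

/-- the 27 weights of the minuscule orbit of the first fundamental weight of `E₆` -/
def lam27 : List (List ℤ) :=
  [[1, 0, 0, 0, 0, 0], [-1, 0, 1, 0, 0, 0], [0, 0, -1, 1, 0, 0], [0, 1, 0, -1, 1, 0], [0, -1, 0, 0, 1, 0], [0, 1, 0, 0, -1, 1], [0, -1, 0, 1, -1, 1], [0, 1, 0, 0, 0, -1], [0, -1, 0, 1, 0, -1], [0, 0, 1, -1, 1, -1], [1, 0, -1, 0, 1, -1], [0, 0, 1, 0, -1, 0], [0, 0, 1, -1, 0, 1], [1, 0, -1, 0, 0, 1], [-1, 0, 0, 0, 0, 1], [-1, 0, 0, 0, 1, -1], [-1, 0, 0, 1, -1, 0], [1, 0, -1, 1, -1, 0], [-1, 1, 1, -1, 0, 0], [1, 1, 0, -1, 0, 0], [-1, -1, 1, 0, 0, 0], [0, 1, -1, 0, 0, 0], [0, -1, -1, 1, 0, 0], [0, 0, 0, -1, 1, 0], [0, 0, 0, 0, -1, 1], [0, 0, 0, 0, 0, -1], [1, -1, 0, 0, 0, 0]]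

theorem center_E6 : Nat.card (Subgroup.center CoxeterMatrix.E₆.Group) = 1 ∧
    Subgroup.center CoxeterMatrix.E₆.Group ≤
      Subgroup.zpowers ((List.finRange 6).map CoxeterMatrix.E₆.simple).prod :=
  weyl_center_one CoxeterMatrix.E₆ e8ML e8Cart
    [e8Level0, e8Level1, e8Level2, e8Level3, e8Level4, e8Level5]
    (by decide) (by intro i j; fin_cases i <;> fin_cases j <;> rfl) (by decide +kernel)
    (by decide +kernel) (by norm_num) [0, 3, 0, 2, 3, 4] (by decide +kernel) lam27
    (by decide +kernel) (by decide +kernel)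

theorem center_E7 : Nat.card (Subgroup.center CoxeterMatrix.E₇.Group) = 2 ∧
    Subgroup.center CoxeterMatrix.E₇.Group ≤
      Subgroup.zpowers ((List.finRange 7).map CoxeterMatrix.E₇.simple).prod :=
  weyl_center_two CoxeterMatrix.E₇ e8ML e8Cart
    [e8Level0, e8Level1, e8Level2, e8Level3, e8Level4, e8Level5, e8Level6]
    (by decide) (by intro i j; fin_cases i <;> fin_cases j <;> rfl) (by decide +kernel)
    (by decide +kernel) (by norm_num) [0, 3, 0, 2, 3, 4, 5] (by decide +kernel) 9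
    (by decide +kernel)

theorem center_E8 : Nat.card (Subgroup.center CoxeterMatrix.E₈.Group) = 2 ∧
    Subgroup.center CoxeterMatrix.E₈.Group ≤
      Subgroup.zpowers ((List.finRange 8).map CoxeterMatrix.E₈.simple).prod :=
  weyl_center_two CoxeterMatrix.E₈ e8ML e8Cart e8Levels
    (by decide) (by intro i j; fin_cases i <;> fin_cases j <;> rfl) (by decide +kernel)
    (by decide +kernel) (by norm_num) [0, 3, 0, 2, 3, 4, 5, 6] (by decide +kernel) 15
    (by decide +kernel)


/-- For the Coxeter groups of types B₂, G₂, D₄, F₄, E₇, E₈ the centre has order 2 (the element acting as −1 on the root system) and is generated by a power of the Coxeter element `s₁ s₂ ⋯ s_l`; the Coxeter group of type E₆ has trivial centre. -/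
theorem result (c : (Σ n : ℕ, CoxeterMatrix (Fin n)) × ℕ)
    (hc : c ∈ [(⟨2, CoxeterMatrix.B 2⟩, 2), (⟨2, CoxeterMatrix.G₂⟩, 2), (⟨4, Cfsg.Lie.coxeterD4⟩, 2), (⟨4, CoxeterMatrix.F₄⟩, 2),
      (⟨6, CoxeterMatrix.E₆⟩, 1), (⟨7, CoxeterMatrix.E₇⟩, 2), (⟨8, CoxeterMatrix.E₈⟩, 2)]) :
    Nat.card (Subgroup.center c.1.2.Group) = c.2 ∧
      Subgroup.center c.1.2.Group ≤ Subgroup.zpowers ((List.finRange c.1.1).map c.1.2.simple).prod := by
  simp only [List.mem_cons, List.not_mem_nil, or_false] at hc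
  rcases hc with rfl | rfl | rfl | rfl | rfl | rfl | rfl
  · exact center_B2
  · exact center_G2
  · exact center_D4
  · exact center_F4
  · exact center_E6
  · exact center_E7
  · exact center_E8

end Cfsg.Agent.S2418
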