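import Cfsg.Statements.S2456
import Cfsg.Agent.Lib.Helper49.SL2
import Cfsg.Agent.S2331

set_option autoImplicit false
set_option linter.style.haveILetI false
open Cfsg

namespace Cfsg.Agent.S2456

open Cfsg.Agent.Lib.Helper49 Cfsg.Agent.Lib.Helper46

theorem nonScalar_of_trace_ne_zero {F : Type*} [Field F] [CharP F 2]
    (M : Matrix (Fin 2) (Fin 2) F) (h : M.trace ≠ 0) :
    Cfsg.Agent.Lib.Helper46.NonScalar M := by
  by_contra hns
  unfold Cfsg.Agent.Lib.Helper46.NonScalar at hns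
  push Not at hns
  apply h
  rw [Matrix.trace_fin_two, hns.2.2]
  exact CharTwo.add_self_eq_zero _

theorem conj_of_trace {F : Type*} [Field F] [Fintype F] [CharP F 2]
    (g h : Matrix.SpecialLinearGroup (Fin 2) F)
    (ht : (g : Matrix (Fin 2) (Fin 2) F).trace = (h : Matrix (Fin 2) (Fin 2) F).trace)
    (h0 : (g : Matrix (Fin 2) (Fin 2) F).trace ≠ 0) : IsConj g h := by
  rw [← Cfsg.Agent.S2331.inv_eq_iff]
  unfold Cfsg.Agent.S2331.inv
  rw [if_pos (nonScalar_of_trace_ne_zero _ h0), if_pos (nonScalar_of_trace_ne_zero _ (ht ▸ h0)), ht]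

/-- The companion matrix of trace `s` is a product of two elements of trace `t`. -/
theorem exists_factor {F : Type*} [Field F] [Fintype F] [CharP F 2] (t s α : F)
    (hα : α ^ 2 - t * α + 1 = 0) :
    ∃ y y' : Matrix.SpecialLinearGroup (Fin 2) F,
      (y : Matrix (Fin 2) (Fin 2) F).trace = t ∧ (y' : Matrix (Fin 2) (Fin 2) F).trace = t ∧
      y * y' = slComp s 1 one_ne_zero := by
  have h2 : (2 : F) = 0 := CharTwo.two_eq_zero
  by_cases hs : s = 0
  · subst hs
    have hd1 : (!![α, 0; t, t - α] : Matrix (Fin 2) (Fin 2) F).det = 1 := by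
      rw [Matrix.det_fin_two_of]; linear_combination -hα
    have hd2 : (!![0, -(t - α); α, t] : Matrix (Fin 2) (Fin 2) F).det = 1 := by
      rw [Matrix.det_fin_two_of]; linear_combination -hα
    obtain ⟨y, hy⟩ : ∃ y : Matrix.SpecialLinearGroup (Fin 2) F,
        (y : Matrix (Fin 2) (Fin 2) F) = !![α, 0; t, t - α] := ⟨⟨_, hd1⟩, rfl⟩
    obtain ⟨y', hy'⟩ : ∃ y : Matrix.SpecialLinearGroup (Fin 2) F,
        (y : Matrix (Fin 2) (Fin 2) F) = !![0, -(t - α); α, t] := ⟨⟨_, hd2⟩, rfl⟩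
    refine ⟨y, y', ?_, ?_, ?_⟩
    · rw [hy]; simp [Matrix.trace_fin_two]
    · rw [hy']; simp [Matrix.trace_fin_two]
    · apply Subtype.ext
      rw [Matrix.SpecialLinearGroup.coe_mul, hy, hy', slComp_coe]
      ext i j
      fin_cases i <;> fin_cases j <;> simp [compMat, Matrix.mul_apply, Fin.sum_univ_two]
      all_goals first | ring1 | linear_combination hα | linear_combination -hα
  · obtain ⟨a, ha⟩ : ∃ a : F, a * s = t := ⟨t / s, div_mul_cancel₀ t hs⟩
    obtain ⟨β, hβ⟩ := FiniteField.isSquare_of_char_two (ringChar.eq F 2) (a ^ 2 + a * t + 1)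
    have hd1 : (!![a, β; β, t + a] : Matrix (Fin 2) (Fin 2) F).det = 1 := by
      rw [Matrix.det_fin_two_of]; linear_combination hβ - h2
    have hd2 : (!![β, t + a + β * s; a, β + a * s] : Matrix (Fin 2) (Fin 2) F).det = 1 := by
      rw [Matrix.det_fin_two_of]; linear_combination -hβ
    obtain ⟨y, hy⟩ : ∃ y : Matrix.SpecialLinearGroup (Fin 2) F,
        (y : Matrix (Fin 2) (Fin 2) F) = !![a, β; β, t + a] := ⟨⟨_, hd1⟩, rfl⟩
    obtain ⟨y', hy'⟩ : ∃ y : Matrix.SpecialLinearGroup (Fin 2) F,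
        (y : Matrix (Fin 2) (Fin 2) F) = !![β, t + a + β * s; a, β + a * s] := ⟨⟨_, hd2⟩, rfl⟩
    refine ⟨y, y', ?_, ?_, ?_⟩
    · rw [hy]; simp [Matrix.trace_fin_two]
      linear_combination a * h2
    · rw [hy']; simp [Matrix.trace_fin_two]
      linear_combination β * h2 + ha
    · apply Subtype.ext
      rw [Matrix.SpecialLinearGroup.coe_mul, hy, hy', slComp_coe]
      ext i j
      fin_cases i <;> fin_cases j <;> simp [compMat, Matrix.mul_apply, Fin.sum_univ_two]
      · linear_combination (a * β) * h2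
      · linear_combination (a ^ 2 + a * t + a * β * s + 1) * h2 - hβ
      · linear_combination (a ^ 2 + a * t) * h2 - hβ
      · linear_combination (β * t + a * β + s * (a ^ 2 + a * t)) * h2 - s * hβ

/-- A strong covering result in the direction of Thompson's conjecture (non-identity elements) for PSL(2,q), q even: let F be a finite field of characteristic 2 with q ≥ 4 elements and let x ∈ PSL(2,F) have order greater than 2 and not dividing q + 1. Then every non-identity element of PSL(2,F) is a product of two conjugates of x. -/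
theorem result {F : Type*} [Field F] [Fintype F] [CharP F 2] (h4 : 4 ≤ Fintype.card F)
    (x : Matrix.ProjectiveSpecialLinearGroup (Fin 2) F) (hx2 : 2 < orderOf x) (hxq : ¬ orderOf x ∣ Fintype.card F + 1) : ∀ g : Matrix.ProjectiveSpecialLinearGroup (Fin 2) F, g ≠ 1 → ∃ u v : Matrix.ProjectiveSpecialLinearGroup (Fin 2) F, g = (u * x * u⁻¹) * (v * x * v⁻¹) := by
  classical
  haveI : Fact (Nat.Prime 2) := ⟨Nat.prime_two⟩
  have h2 : (2 : F) = 0 := CharTwo.two_eq_zero
  obtain ⟨X, rfl⟩ := QuotientGroup.mk_surjective x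
  obtain ⟨t, ht⟩ : ∃ t, (X : Matrix (Fin 2) (Fin 2) F) 0 0 + (X : Matrix (Fin 2) (Fin 2) F) 1 1 = t :=
    ⟨_, rfl⟩
  have hCH := m2_CH (X : Matrix (Fin 2) (Fin 2) F) X.det_coe t ht
  have htr : (X : Matrix (Fin 2) (Fin 2) F).trace = t := by rw [Matrix.trace_fin_two, ht]
  have ht0 : t ≠ 0 := by
    rintro rfl
    have h1 : (QuotientGroup.mk X : Matrix.ProjectiveSpecialLinearGroup (Fin 2) F) ^ 2 = 1 := by
      rw [psl2_pow_eq_one_iff]
      refine ⟨-1, by ring, ?_⟩
      rw [pow_two, hCH, zero_smul, zero_sub, neg_smul, one_smul]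
    have := orderOf_le_of_pow_eq_one (by norm_num) h1
    omega
  have hroot : ∃ α : F, α ^ 2 - t * α + 1 = 0 := by
    by_contra hno
    push Not at hno
    haveI : Fact (∀ r : F, r ^ 2 ≠ -1 + t * r) := ⟨fun r hr => hno r (by linear_combination hr)⟩
    apply hxq
    apply orderOf_dvd_of_pow_eq_one
    rw [psl2_pow_eq_one_iff]
    exact m2_aniso_pow_of_dvd 2 _ hCH _ (Dvd.intro_left 2 rfl)
  obtain ⟨α, hα⟩ := hroot
  intro g hg
  obtain ⟨G, rfl⟩ := QuotientGroup.mk_surjective g
  have hGns : Cfsg.Agent.Lib.Helper46.NonScalar (G : Matrix (Fin 2) (Fin 2) F) := by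
    by_contra hns
    apply hg
    have hG1 : G = 1 := by
      have hc : IsConj G 1 := by
        rw [← Cfsg.Agent.S2331.inv_eq_iff]
        unfold Cfsg.Agent.S2331.inv
        rw [if_neg hns, if_neg sl_one_scalar]
      exact isConj_one_left.mp hc
    rw [hG1]
    rfl
  obtain ⟨s, hs⟩ : ∃ s, (G : Matrix (Fin 2) (Fin 2) F).trace = s := ⟨_, rfl⟩
  have hGc : IsConj (slComp s 1 one_ne_zero) G := by
    rw [← Cfsg.Agent.S2331.inv_eq_iff]
    unfold Cfsg.Agent.S2331.inv
    rw [if_pos hGns, if_pos (nonScalar_slComp s 1 one_ne_zero), trace_slComp, hs]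
  obtain ⟨y, y', hy, hy', hyy⟩ := exists_factor t s α hα
  have c1 : IsConj X y := conj_of_trace X y (by rw [htr, hy]) (by rw [htr]; exact ht0)
  have c2 : IsConj X y' := conj_of_trace X y' (by rw [htr, hy']) (by rw [htr]; exact ht0)
  obtain ⟨k, hk⟩ := isConj_iff.mp hGc
  obtain ⟨u, hu⟩ := isConj_iff.mp c1
  obtain ⟨v, hv⟩ := isConj_iff.mp c2
  refine ⟨QuotientGroup.mk (k * u), QuotientGroup.mk (k * v), ?_⟩
  rw [← hk, ← hyy, ← hu, ← hv]
  simp only [← QuotientGroup.mk_mul, ← QuotientGroup.mk_inv]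
  congr 1
  group

end Cfsg.Agent.S2456
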