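import Cfsg.Statements.S2475
import Cfsg.Agent.Lib.Helper49.SL2

set_option autoImplicit false
set_option linter.style.haveILetI false
open Cfsg

namespace Cfsg.Agent.S2475

open Cfsg.Agent.Lib.Helper49

theorem spec_dvd_closed {X : Type*} [Group X] [Finite X] {n d : ℕ}
    (hn : n ∈ Set.range (orderOf : X → ℕ)) (hd : d ∣ n) : d ∈ Set.range (orderOf : X → ℕ) := by
  obtain ⟨x, rfl⟩ := hn
  have hpos : 0 < orderOf x := orderOf_pos x
  obtain ⟨e, he⟩ := hd
  have he0 : e ≠ 0 := by
    rintro rfl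
    rw [mul_zero] at he
    omega
  refine ⟨x ^ e, ?_⟩
  rw [orderOf_pow_of_dvd he0 ⟨d, by rw [he, mul_comm]⟩, he]
  exact Nat.mul_div_cancel _ (Nat.pos_of_ne_zero he0)

theorem dvd_two_mul_iff (n k : ℕ) : n ∣ 2 * k ↔ n / Nat.gcd 2 n ∣ k := by
  have hd2 : Nat.gcd 2 n ∣ 2 := Nat.gcd_dvd_left 2 n
  rcases (Nat.dvd_prime Nat.prime_two).mp hd2 with h | h
  · rw [h, Nat.div_one]
    have hcop : Nat.Coprime n 2 := by
      rw [Nat.coprime_comm]
      exact h
    rw [mul_comm]
    exact hcop.dvd_mul_right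
  · rw [h]
    have h2n : 2 ∣ n := h ▸ Nat.gcd_dvd_right 2 n
    obtain ⟨n', rfl⟩ := h2n
    rw [Nat.mul_div_cancel_left _ (by norm_num : 0 < 2)]
    exact Nat.mul_dvd_mul_iff_left (by norm_num : 0 < 2)

theorem orderOf_eq_of_forall {G : Type*} [Monoid G] (x : G) (n : ℕ)
    (h : ∀ k, x ^ k = 1 ↔ n ∣ k) : orderOf x = n :=
  Nat.dvd_antisymm (orderOf_dvd_of_pow_eq_one ((h n).mpr dvd_rfl))
    ((h _).mp (pow_orderOf_eq_one x))

/-- The set of element orders of PSL(2,q): let F be a finite field of characteristic p with q ≥ 4 elements and d = gcd(2, q − 1). The orders of elements of PSL(2,F) are exactly the divisors of p, of (q − 1)/d and of (q + 1)/d. -/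
theorem result {F : Type*} [Field F] [Fintype F] (p : ℕ) [Fact p.Prime] [CharP F p] (h4 : 4 ≤ Fintype.card F) :
    Set.range (orderOf : Matrix.ProjectiveSpecialLinearGroup (Fin 2) F → ℕ) =
      {m : ℕ | m ∣ p ∨ m ∣ (Fintype.card F - 1) / Nat.gcd 2 (Fintype.card F - 1) ∨ m ∣ (Fintype.card F + 1) / Nat.gcd 2 (Fintype.card F - 1)} := by
  classical
  have hpp : p.Prime := Fact.out
  have hq1 : 1 < Fintype.card F := Fintype.one_lt_card
  have hd2 : Nat.gcd 2 (Fintype.card F - 1) ∣ 2 := Nat.gcd_dvd_left _ _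
  have hdq : Nat.gcd 2 (Fintype.card F - 1) ∣ Fintype.card F - 1 := Nat.gcd_dvd_right _ _
  have hgcd : Nat.gcd 2 (Fintype.card F + 1) = Nat.gcd 2 (Fintype.card F - 1) := by
    have : Fintype.card F + 1 = Fintype.card F - 1 + 2 := by omega
    rw [this, Nat.gcd_add_self_right]
  have hdq' : Nat.gcd 2 (Fintype.card F - 1) ∣ Fintype.card F + 1 := by
    rw [← hgcd]
    exact Nat.gcd_dvd_right _ _
  apply Set.eq_of_subset_of_subset
  · rintro _ ⟨g, rfl⟩
    obtain ⟨A, rfl⟩ := QuotientGroup.mk_surjective g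
    show orderOf _ ∣ p ∨ orderOf _ ∣ (Fintype.card F - 1) / Nat.gcd 2 (Fintype.card F - 1) ∨
      orderOf _ ∣ (Fintype.card F + 1) / Nat.gcd 2 (Fintype.card F - 1)
    obtain ⟨t, ht⟩ : ∃ t, (A : Matrix (Fin 2) (Fin 2) F) 0 0 + (A : Matrix (Fin 2) (Fin 2) F) 1 1 = t :=
      ⟨_, rfl⟩
    have hCH := m2_CH (A : Matrix (Fin 2) (Fin 2) F) A.det_coe t ht
    by_cases hroot : ∃ a : F, a ^ 2 - t * a + 1 = 0
    · obtain ⟨a, ha⟩ := hroot
      by_cases ha1 : a ^ 2 = 1
      · left
        apply orderOf_dvd_of_pow_eq_one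
        rw [psl2_pow_eq_one_iff]
        have hta : t * a = 2 := by linear_combination (-1 : F) * ha + ha1
        have het : 2 * a = t := by
          calc 2 * a = (t * a) * a := by rw [hta]
            _ = t * a ^ 2 := by ring
            _ = t := by rw [ha1, mul_one]
        exact ⟨a ^ p, by rw [← pow_mul, mul_comm, pow_mul, ha1, one_pow],
          m2_pow_char_of_double p _ t hCH a ha1 het⟩
      · right; left
        apply orderOf_dvd_of_pow_eq_one
        rw [psl2_pow_eq_one_iff]
        have ha0 : a ≠ 0 := by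
          rintro rfl
          simp at ha
        have h2m : (Fintype.card F - 1) ∣
            2 * ((Fintype.card F - 1) / Nat.gcd 2 (Fintype.card F - 1)) := by
          rw [dvd_two_mul_iff]
        have hc2 : (a ^ ((Fintype.card F - 1) / Nat.gcd 2 (Fintype.card F - 1))) ^ 2 = 1 := by
          rw [← pow_mul, mul_comm]
          obtain ⟨e, he⟩ := h2m
          rw [he, pow_mul, FiniteField.pow_card_sub_one_eq_one a ha0, one_pow]
        refine ⟨a ^ ((Fintype.card F - 1) / Nat.gcd 2 (Fintype.card F - 1)), hc2,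
          m2_pow_of_split _ t hCH a ha ha1 _ _ rfl ?_⟩
        rw [inv_pow]
        exact inv_eq_of_mul_eq_one_left (by rw [← pow_two]; exact hc2)
    · right; right
      push Not at hroot
      haveI : Fact (∀ r : F, r ^ 2 ≠ -1 + t * r) :=
        ⟨fun r hr => hroot r (by linear_combination hr)⟩
      apply orderOf_dvd_of_pow_eq_one
      rw [psl2_pow_eq_one_iff]
      apply m2_aniso_pow_of_dvd p _ hCH
      rw [dvd_two_mul_iff, hgcd]
  · intro m hm
    rcases hm with hm | hm | hm
    · refine spec_dvd_closed ?_ hm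
      have hdet : (!![1, 1; 0, 1] : Matrix (Fin 2) (Fin 2) F).det = 1 := by
        simp [Matrix.det_fin_two]
      have hCH := m2_CH (!![1, 1; 0, 1] : Matrix (Fin 2) (Fin 2) F) hdet 2 (by
        simp
        norm_num)
      obtain ⟨u, hu⟩ : ∃ u : Matrix.SpecialLinearGroup (Fin 2) F,
          (u : Matrix (Fin 2) (Fin 2) F) = !![1, 1; 0, 1] := ⟨⟨_, hdet⟩, rfl⟩
      refine ⟨QuotientGroup.mk u, ?_⟩
      apply orderOf_eq_prime
      · rw [psl2_pow_eq_one_iff, hu]
        exact ⟨1 ^ p, by simp, m2_pow_char_of_double p _ 2 hCH 1 (by ring) (by ring)⟩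
      · intro h1
        have h2 : (QuotientGroup.mk u :
            Matrix.ProjectiveSpecialLinearGroup (Fin 2) F) ^ 1 = 1 := by
          rw [pow_one]
          exact h1
        rw [psl2_pow_eq_one_iff, hu] at h2
        obtain ⟨c, -, hc⟩ := h2
        have h3 := congrFun (congrFun hc 0) 1
        simp at h3
    · refine spec_dvd_closed ?_ hm
      obtain ⟨g, hg⟩ := IsCyclic.exists_generator (α := Fˣ)
      have hordg : orderOf (g : F) = Fintype.card F - 1 := by
        rw [orderOf_units, orderOf_eq_card_of_forall_mem_zpowers hg, Nat.card_units,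
          Nat.card_eq_fintype_card]
      have hdet : (Matrix.diagonal ![(g : F), (g : F)⁻¹] : Matrix (Fin 2) (Fin 2) F).det = 1 := by
        simp [Matrix.det_diagonal, Fin.prod_univ_two]
      obtain ⟨u, hu⟩ : ∃ u : Matrix.SpecialLinearGroup (Fin 2) F,
          (u : Matrix (Fin 2) (Fin 2) F) = Matrix.diagonal ![(g : F), (g : F)⁻¹] :=
        ⟨⟨_, hdet⟩, rfl⟩
      refine ⟨QuotientGroup.mk u, ?_⟩
      apply orderOf_eq_of_forall
      intro k
      rw [psl2_pow_eq_one_iff, hu, ← dvd_two_mul_iff, ← hordg, orderOf_dvd_iff_pow_eq_one]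
      simp only [Matrix.diagonal_pow]
      constructor
      · rintro ⟨c, hc, hk⟩
        have h3 := congrFun (congrFun hk 0) 0
        simp at h3
        rw [pow_mul', h3, hc]
      · intro hk
        refine ⟨(g : F) ^ k, by rw [← pow_mul', hk], ?_⟩
        have hinv : ((g : F)⁻¹) ^ k = (g : F) ^ k := by
          rw [inv_pow]
          exact inv_eq_of_mul_eq_one_left (by rw [← pow_add, ← two_mul, hk])
        ext i j
        fin_cases i <;> fin_cases j <;> simp [hinv]
    · refine spec_dvd_closed ?_ hm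
      obtain ⟨t0, ht0⟩ := exists_aniso F
      haveI : Fact (∀ r : F, r ^ 2 ≠ -1 + t0 * r) := ⟨ht0⟩
      have hdet0 : (!![0, -1; 1, t0] : Matrix (Fin 2) (Fin 2) F).det = 1 := by
        simp [Matrix.det_fin_two]
      have hCH0 := m2_CH (!![0, -1; 1, t0] : Matrix (Fin 2) (Fin 2) F) hdet0 t0 (by simp)
      obtain ⟨β, hβ⟩ := exists_qa_orderOf (F := F) (t := t0)
      have hnorm : QuadraticAlgebra.norm β = 1 :=
        qa_norm_of_pow_eq_one p β (by rw [← hβ]; exact pow_orderOf_eq_one β)
      have hdetB : (qaToMat _ hCH0 β).det = 1 := by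
        rw [qaToMat_apply, m2_det_add_smul _ hdet0 t0 (by simp)]
        rw [QuadraticAlgebra.norm_def] at hnorm
        linear_combination hnorm
      obtain ⟨u, hu⟩ : ∃ u : Matrix.SpecialLinearGroup (Fin 2) F,
          (u : Matrix (Fin 2) (Fin 2) F) = qaToMat _ hCH0 β := ⟨⟨_, hdetB⟩, rfl⟩
      refine ⟨QuotientGroup.mk u, ?_⟩
      apply orderOf_eq_of_forall
      intro k
      rw [psl2_pow_eq_one_iff, hu, ← hgcd, ← dvd_two_mul_iff, ← hβ, orderOf_dvd_iff_pow_eq_one]
      constructor
      · rintro ⟨c, hc, hk⟩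
        rw [← map_pow, ← Algebra.algebraMap_eq_smul_one, ← AlgHom.commutes (qaToMat _ hCH0)] at hk
        have h3 := qaToMat_injective _ hCH0 hk
        rw [pow_mul', h3, ← map_pow, hc, map_one]
      · intro hk
        have h2 : β ^ k * β ^ k = 1 := by rw [← pow_add, ← two_mul, hk]
        rcases mul_self_eq_one_iff.mp h2 with h | h
        · refine ⟨1, by ring, ?_⟩
          rw [← map_pow, h, map_one, one_smul]
        · refine ⟨-1, by ring, ?_⟩
          rw [← map_pow, h, map_neg, map_one, neg_smul, one_smul]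

end Cfsg.Agent.S2475
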