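import Cfsg.Statements.S2476
import Cfsg.Agent.Lib.Helper49.FFExt

set_option autoImplicit false
set_option linter.style.haveILetI false
open Cfsg

namespace Cfsg.Agent.S2476

open Cfsg.Agent.Lib.Helper49 Polynomial

theorem spec_dvd_closed {X : Type*} [Group X] [Finite X] {n d : ℕ}
    (hn : n ∈ Set.range (orderOf : X → ℕ)) (hd : d ∣ n) : d ∈ Set.range (orderOf : X → ℕ) := by
  obtain ⟨x, rfl⟩ := hn
  have hpos : 0 < orderOf x := orderOf_pos x
  obtain ⟨e, he⟩ := hd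
  have he0 : e ≠ 0 := by
    rintro rfl
    rw [mul_zero] at he
    omega
  refine ⟨x ^ e, ?_⟩
  rw [orderOf_pow_of_dvd he0 ⟨d, by rw [he, mul_comm]⟩, he]
  exact Nat.mul_div_cancel _ (Nat.pos_of_ne_zero he0)

theorem orderOf_eq_of_forall {G : Type*} [Monoid G] (x : G) (n : ℕ)
    (h : ∀ k, x ^ k = 1 ↔ n ∣ k) : orderOf x = n :=
  Nat.dvd_antisymm (orderOf_dvd_of_pow_eq_one ((h n).mpr dvd_rfl))
    ((h _).mp (pow_orderOf_eq_one x))

/-! ### Arithmetic -/

theorem nt_sq (q : ℕ) (hq : 1 ≤ q) : q ^ 2 + q + 1 = (q - 1) * (q + 2) + 3 := by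
  obtain ⟨r, rfl⟩ := Nat.exists_eq_add_of_le hq
  rw [Nat.add_sub_cancel_left]
  ring

theorem nt_sq' (q : ℕ) (hq : 2 ≤ q) : q ^ 2 - 1 = (q + 2) * (q - 2) + 3 := by
  obtain ⟨r, rfl⟩ := Nat.exists_eq_add_of_le hq
  rw [Nat.add_sub_cancel_left]
  apply Nat.sub_eq_of_eq_add
  ring

theorem nt_sq1 (q : ℕ) (hq : 1 ≤ q) : q ^ 2 - 1 = (q + 1) * (q - 1) := by
  obtain ⟨r, rfl⟩ := Nat.exists_eq_add_of_le hq
  rw [Nat.add_sub_cancel_left]
  apply Nat.sub_eq_of_eq_add
  ring

theorem nt_cube (q : ℕ) (hq : 1 ≤ q) : q ^ 3 - 1 = (q - 1) * (q ^ 2 + q + 1) := by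
  obtain ⟨r, rfl⟩ := Nat.exists_eq_add_of_le hq
  rw [Nat.add_sub_cancel_left]
  apply Nat.sub_eq_of_eq_add
  ring

theorem nt_gcd1 (q : ℕ) (hq : 1 ≤ q) : Nat.gcd (q ^ 2 + q + 1) (q - 1) = Nat.gcd 3 (q - 1) := by
  rw [nt_sq q hq, Nat.gcd_comm, Nat.gcd_mul_left_add_right, Nat.gcd_comm]

theorem nt_gcd2 (q : ℕ) (hq : 2 ≤ q) : Nat.gcd (q ^ 2 - 1) (q + 2) = Nat.gcd 3 (q - 1) := by
  rw [nt_sq' q hq, Nat.gcd_comm, Nat.gcd_mul_left_add_right]
  have : q + 2 = 3 + (q - 1) := by omega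
  rw [this, Nat.gcd_comm, Nat.gcd_self_add_right]

theorem nt_div1 (q : ℕ) (hq : 1 ≤ q) :
    Nat.gcd 3 (q - 1) * ((q ^ 2 + q + 1) / Nat.gcd 3 (q - 1)) = q ^ 2 + q + 1 := by
  apply Nat.mul_div_cancel'
  rw [nt_sq q hq]
  exact Dvd.dvd.add (Dvd.dvd.mul_right (Nat.gcd_dvd_right _ _) _) (Nat.gcd_dvd_left _ _)

theorem nt_div2 (q : ℕ) (hq : 1 ≤ q) :
    (q ^ 2 - 1) / Nat.gcd 3 (q - 1) = (q + 1) * ((q - 1) / Nat.gcd 3 (q - 1)) := by
  rw [nt_sq1 q hq]
  exact Nat.mul_div_assoc _ (Nat.gcd_dvd_right _ _)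


/-! ### Polynomial case analysis -/

section poly

theorem dvd_of_root {F : Type*} [Field F] (a : F) (N : ℕ) (c : F) (h : a ^ N = c) : (X - C a) ∣ X ^ N - C c := by
  rw [dvd_iff_isRoot]
  simp [h]

variable {F : Type*} [Field F] [Fintype F]

omit [Fintype F] in
theorem double_case (p : ℕ) [Fact p.Prime] [CharP F p] (m : ℕ)
    (h3m : ∀ a : F, a ≠ 0 → a ^ (3 * m) = 1) (a b : F) (hab : a ≠ b) (h : a * a * b = 1) :
    (X - C a) * ((X - C a) * (X - C b)) ∣ X ^ (p * m) - C ((a ^ m) ^ p) := by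
  have hp2 : 2 ≤ p := (Fact.out : p.Prime).two_le
  have ha0 : a ≠ 0 := by
    rintro rfl
    simp at h
  have hbm : b ^ m = a ^ m := by
    have h1 : (a * a * b) ^ m = 1 := by rw [h, one_pow]
    have h2 := h3m a ha0
    calc b ^ m = b ^ m * a ^ (3 * m) := by rw [h2, mul_one]
      _ = (a * a * b) ^ m * a ^ m := by ring
      _ = a ^ m := by rw [h1, one_mul]
  have hcop : IsCoprime (X - C a) (X - C b) :=
    isCoprime_X_sub_C_of_isUnit_sub (sub_ne_zero.mpr hab).isUnit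
  have h1 : (X - C a) * (X - C b) ∣ X ^ m - C (a ^ m) :=
    hcop.mul_dvd (dvd_of_root a m _ rfl) (dvd_of_root b m _ hbm)
  have h2 : (X ^ m - C (a ^ m)) ^ p = X ^ (p * m) - C ((a ^ m) ^ p) := by
    rw [sub_pow_char_of_commute p (Commute.all _ _), ← pow_mul', ← C_pow]
  rw [← h2]
  have h3 : (X - C a) * ((X - C a) * (X - C b)) ∣ ((X - C a) * (X - C b)) ^ 2 :=
    ⟨X - C b, by ring⟩
  exact h3.trans ((pow_dvd_pow _ hp2).trans (pow_dvd_pow_of_dvd h1 p))

omit [Fintype F] in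
theorem triple_case (p : ℕ) [Fact p.Prime] [CharP F p] (a : F) :
    ∃ (N : ℕ) (c : F), (X - C a) * ((X - C a) * (X - C a)) ∣ X ^ N - C c ∧
      (N = p ∨ (p = 2 ∧ N = 4)) := by
  by_cases hp2 : p = 2
  · subst hp2
    refine ⟨4, a ^ 4, ?_, Or.inr ⟨rfl, rfl⟩⟩
    have h2 : X ^ 4 - C (a ^ 4) = (X - C a) ^ 4 := by
      have h := sub_pow_char_pow_of_commute 2 2 (Commute.all (X : F[X]) (C a))
      norm_num at h
      rw [h, C_pow]
    rw [h2]
    exact ⟨X - C a, by ring⟩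
  · have hp3 : 3 ≤ p := by
      have := (Fact.out : p.Prime).two_le
      omega
    refine ⟨p, a ^ p, ?_, Or.inl rfl⟩
    have h2 : X ^ p - C (a ^ p) = (X - C a) ^ p := by
      rw [sub_pow_char_of_commute p (Commute.all _ _), C_pow]
    rw [h2]
    have h3 : (X - C a) * ((X - C a) * (X - C a)) = (X - C a) ^ 3 := by ring
    rw [h3]
    exact pow_dvd_pow _ hp3

theorem distinct_case (a b c : F) (ha : a ≠ 0) (hb : b ≠ 0) (hc : c ≠ 0) (hab : a ≠ b)
    (hac : a ≠ c) (hbc : b ≠ c) :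
    (X - C a) * ((X - C b) * (X - C c)) ∣ X ^ (Fintype.card F - 1) - C 1 := by
  have h1 : IsCoprime (X - C a) (X - C b) :=
    isCoprime_X_sub_C_of_isUnit_sub (sub_ne_zero.mpr hab).isUnit
  have h2 : IsCoprime (X - C a) (X - C c) :=
    isCoprime_X_sub_C_of_isUnit_sub (sub_ne_zero.mpr hac).isUnit
  have h3 : IsCoprime (X - C b) (X - C c) :=
    isCoprime_X_sub_C_of_isUnit_sub (sub_ne_zero.mpr hbc).isUnit
  exact (h1.mul_right h2).mul_dvd
    (dvd_of_root a _ _ (FiniteField.pow_card_sub_one_eq_one a ha))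
    (h3.mul_dvd (dvd_of_root b _ _ (FiniteField.pow_card_sub_one_eq_one b hb))
      (dvd_of_root c _ _ (FiniteField.pow_card_sub_one_eq_one c hc)))

theorem split_case (p : ℕ) [Fact p.Prime] [CharP F p] (m : ℕ)
    (h3m : ∀ a : F, a ≠ 0 → a ^ (3 * m) = 1) (a b c : F) (habc : a * b * c = 1) :
    ∃ (N : ℕ) (c' : F), (X - C a) * ((X - C b) * (X - C c)) ∣ X ^ N - C c' ∧
      (N = Fintype.card F - 1 ∨ N = p * m ∨ N = p ∨ (p = 2 ∧ N = 4)) := by
  have ha : a ≠ 0 := by
    rintro rfl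
    simp at habc
  have hb : b ≠ 0 := by
    rintro rfl
    simp at habc
  have hc : c ≠ 0 := by
    rintro rfl
    simp at habc
  by_cases hab : a = b
  · subst hab
    by_cases hac : a = c
    · subst hac
      obtain ⟨N, c', h1, h2⟩ := triple_case p a
      exact ⟨N, c', h1, Or.inr (Or.inr h2)⟩
    · exact ⟨p * m, _, double_case p m h3m a c hac habc, Or.inr (Or.inl rfl)⟩
  · by_cases hac : a = c
    · subst hac
      refine ⟨p * m, (a ^ m) ^ p, ?_, Or.inr (Or.inl rfl)⟩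
      have h1 := double_case p m h3m a b hab (by rw [← habc]; ring)
      have e : (X - C a) * ((X - C b) * (X - C a)) = (X - C a) * ((X - C a) * (X - C b)) := by
        ring
      rw [e]
      exact h1
    · by_cases hbc : b = c
      · subst hbc
        refine ⟨p * m, (b ^ m) ^ p, ?_, Or.inr (Or.inl rfl)⟩
        have h1 := double_case p m h3m b a (Ne.symm hab) (by rw [← habc]; ring)
        have e : (X - C a) * ((X - C b) * (X - C b)) = (X - C b) * ((X - C b) * (X - C a)) := by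
          ring
        rw [e]
        exact h1
      · exact ⟨_, 1, distinct_case a b c ha hb hc hab hac hbc, Or.inl rfl⟩

theorem quad_case (m : ℕ) (h3m : ∀ a : F, a ≠ 0 → a ^ (3 * m) = 1) (a : F) (h : F[X])
    (hhm : h.Monic) (hhdeg : h.natDegree = 2) (hnr : ∀ b, ¬ h.IsRoot b)
    (hah : a * h.coeff 0 = 1) :
    (X - C a) * h ∣ X ^ ((Fintype.card F + 1) * m) - C ((a⁻¹) ^ m) := by
  have hq1 : 1 < Fintype.card F := Fintype.one_lt_card
  have ha0 : a ≠ 0 := by
    rintro rfl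
    simp at hah
  have hirr : Irreducible h :=
    irreducible_of_degree_le_three_of_not_isRoot (by rw [hhdeg]; decide) hnr
  haveI : Fact (Irreducible h) := ⟨hirr⟩
  have h1 := adjoinRoot_root_pow h hhm
  rw [hhdeg] at h1
  have hsum : ∑ i ∈ Finset.range 2, Fintype.card F ^ i = Fintype.card F + 1 := by
    simp [Finset.sum_range_succ]
    ring
  rw [hsum] at h1
  have hc0 : h.coeff 0 = a⁻¹ := eq_inv_of_mul_eq_one_right hah
  have h2 : (AdjoinRoot.root h) ^ ((Fintype.card F + 1) * m) = AdjoinRoot.of h ((a⁻¹) ^ m) := by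
    rw [pow_mul, h1, ← map_pow, hc0]
    congr 1
    ring
  have h3 : a ^ ((Fintype.card F + 1) * m) = (a⁻¹) ^ m := by
    have e : (Fintype.card F + 1) * m + m = (Fintype.card F - 1) * m + 3 * m := by
      have h5 : Fintype.card F + 1 + 1 = Fintype.card F - 1 + 3 := by omega
      calc (Fintype.card F + 1) * m + m = (Fintype.card F + 1 + 1) * m := by ring
        _ = (Fintype.card F - 1 + 3) * m := by rw [h5]
        _ = _ := by ring
    have h4 : a ^ ((Fintype.card F + 1) * m) * a ^ m = 1 := by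
      rw [← pow_add, e, pow_add, pow_mul, FiniteField.pow_card_sub_one_eq_one a ha0, one_pow,
        one_mul, h3m a ha0]
    rw [inv_pow]
    exact eq_inv_of_mul_eq_one_left h4
  have hcop : IsCoprime (X - C a) h :=
    (irreducible_X_sub_C a).coprime_iff_not_dvd.mpr
      (fun hdvd => hnr a (dvd_iff_isRoot.mp hdvd))
  exact hcop.mul_dvd (dvd_of_root a _ _ h3) (dvd_X_pow_sub_C_of_root h _ _ h2)

theorem cubic_case (f : F[X]) (hm : f.Monic) (hdeg : f.natDegree = 3) (h0 : f.coeff 0 = -1)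
    (hnr : ∀ b, ¬ f.IsRoot b) :
    ∃ c : F, f ∣ X ^ ((Fintype.card F ^ 2 + Fintype.card F + 1) /
      Nat.gcd 3 (Fintype.card F - 1)) - C c := by
  have hq1 : 1 < Fintype.card F := Fintype.one_lt_card
  have hirr : Irreducible f :=
    irreducible_of_degree_le_three_of_not_isRoot (by rw [hdeg]; decide) hnr
  haveI : Fact (Irreducible f) := ⟨hirr⟩
  have h1 := adjoinRoot_root_pow f hm
  rw [hdeg, h0] at h1
  have hsum : ∑ i ∈ Finset.range 3, Fintype.card F ^ i =
      Fintype.card F ^ 2 + Fintype.card F + 1 := by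
    simp [Finset.sum_range_succ]
    ring
  rw [hsum] at h1
  have h2 : ((AdjoinRoot.root f) ^ ((Fintype.card F ^ 2 + Fintype.card F + 1) /
      Nat.gcd 3 (Fintype.card F - 1))) ^ (Nat.gcd 3 (Fintype.card F - 1)) = 1 := by
    rw [← pow_mul, mul_comm, nt_div1 _ hq1.le, h1]
    norm_num
  obtain ⟨c, hc⟩ := ff_mem_range_of_pow_eq_one (Nat.gcd_dvd_right 3 (Fintype.card F - 1)) _ h2
  exact ⟨c, dvd_X_pow_sub_C_of_root f _ _ hc.symm⟩

theorem poly_cases (p : ℕ) [Fact p.Prime] [CharP F p] (f : F[X]) (hm : f.Monic)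
    (hdeg : f.natDegree = 3) (h0 : f.coeff 0 = -1) :
    ∃ (N : ℕ) (c : F), f ∣ X ^ N - C c ∧
      (N ∣ (Fintype.card F ^ 2 + Fintype.card F + 1) / Nat.gcd 3 (Fintype.card F - 1) ∨
        N ∣ (Fintype.card F ^ 2 - 1) / Nat.gcd 3 (Fintype.card F - 1) ∨
        N ∣ Fintype.card F - 1 ∨
        N ∣ p * (Fintype.card F - 1) / Nat.gcd 3 (Fintype.card F - 1) ∨ (p = 2 ∧ N ∣ 4)) := by
  classical
  have hq1 : 1 < Fintype.card F := Fintype.one_lt_card
  have hd3 : Nat.gcd 3 (Fintype.card F - 1) ∣ 3 := Nat.gcd_dvd_left _ _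
  have hdq : Nat.gcd 3 (Fintype.card F - 1) ∣ Fintype.card F - 1 := Nat.gcd_dvd_right _ _
  obtain ⟨m, hm'⟩ : ∃ m, (Fintype.card F - 1) / Nat.gcd 3 (Fintype.card F - 1) = m := ⟨_, rfl⟩
  have hdm : Nat.gcd 3 (Fintype.card F - 1) * m = Fintype.card F - 1 := by
    rw [← hm']
    exact Nat.mul_div_cancel' hdq
  have h3m : ∀ a : F, a ≠ 0 → a ^ (3 * m) = 1 := by
    intro a ha
    obtain ⟨e, he⟩ := hd3
    have h5 : 3 * m = (Fintype.card F - 1) * e := by
      rw [← hdm]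
      nth_rewrite 1 [he]
      ring
    rw [h5, pow_mul, FiniteField.pow_card_sub_one_eq_one a ha, one_pow]
  have hN4 : p * (Fintype.card F - 1) / Nat.gcd 3 (Fintype.card F - 1) = p * m := by
    rw [Nat.mul_div_assoc _ hdq, hm']
  have hN2 : (Fintype.card F ^ 2 - 1) / Nat.gcd 3 (Fintype.card F - 1) =
      (Fintype.card F + 1) * m := by
    rw [nt_div2 _ hq1.le, hm']
  rw [hN4, hN2]
  by_cases hroot : ∃ a, f.IsRoot a
  · obtain ⟨a, ha⟩ := hroot
    obtain ⟨h, hh⟩ := dvd_iff_isRoot.mpr ha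
    have hhm : h.Monic := (monic_X_sub_C a).of_mul_monic_left (hh ▸ hm)
    have hhdeg : h.natDegree = 2 := by
      have h5 := congrArg natDegree hh
      rw [(monic_X_sub_C a).natDegree_mul hhm, natDegree_X_sub_C, hdeg] at h5
      omega
    have hah : a * h.coeff 0 = 1 := by
      have h5 := congrArg (fun g => g.coeff 0) hh
      simp only [mul_coeff_zero, h0] at h5
      simp at h5
      linear_combination (-1 : F) * h5
    by_cases hroot2 : ∃ b, h.IsRoot b
    · obtain ⟨b, hb⟩ := hroot2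
      obtain ⟨l, hl⟩ := dvd_iff_isRoot.mpr hb
      have hlm : l.Monic := (monic_X_sub_C b).of_mul_monic_left (hl ▸ hhm)
      have hldeg : l.natDegree = 1 := by
        have h5 := congrArg natDegree hl
        rw [(monic_X_sub_C b).natDegree_mul hlm, natDegree_X_sub_C, hhdeg] at h5
        omega
      obtain ⟨c, hc⟩ : ∃ c, l = X - C c :=
        ⟨-l.coeff 0, by rw [C_neg, sub_neg_eq_add]; exact hlm.eq_X_add_C hldeg⟩
      have hbc : h.coeff 0 = b * c := by
        rw [hl, hc]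
        simp
      obtain ⟨N, c', h1, h2⟩ := split_case p m h3m a b c (by rw [mul_assoc, ← hbc]; exact hah)
      refine ⟨N, c', by rw [hh, hl, hc]; exact h1, ?_⟩
      rcases h2 with h2 | h2 | h2 | h2
      · exact Or.inr (Or.inr (Or.inl (h2 ▸ dvd_rfl)))
      · exact Or.inr (Or.inr (Or.inr (Or.inl (h2 ▸ dvd_rfl))))
      · exact Or.inr (Or.inr (Or.inr (Or.inl (h2 ▸ Dvd.intro _ rfl))))
      · exact Or.inr (Or.inr (Or.inr (Or.inr ⟨h2.1, h2.2 ▸ dvd_rfl⟩)))
    · push Not at hroot2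
      exact ⟨_, _, by rw [hh]; exact quad_case m h3m a h hhm hhdeg hroot2 hah,
        Or.inr (Or.inl dvd_rfl)⟩
  · push Not at hroot
    obtain ⟨c, hc⟩ := cubic_case f hm hdeg h0 hroot
    exact ⟨_, c, hc, Or.inl dvd_rfl⟩

end poly


/-! ### Elements of prescribed orders -/

section elements

variable {F : Type*} [Field F] [Fintype F]

theorem exists_gen : ∃ g : F, g ≠ 0 ∧ orderOf g = Fintype.card F - 1 := by
  classical
  obtain ⟨g, hg⟩ := IsCyclic.exists_generator (α := Fˣ)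
  refine ⟨(g : F), g.ne_zero, ?_⟩
  rw [orderOf_units, orderOf_eq_card_of_forall_mem_zpowers hg, Nat.card_units,
    Nat.card_eq_fintype_card]

theorem exists_order_q_sub_one :
    ∃ x : Matrix.ProjectiveSpecialLinearGroup (Fin 3) F, orderOf x = Fintype.card F - 1 := by
  classical
  obtain ⟨g, hg0, hordg⟩ := exists_gen (F := F)
  have hdet : (Matrix.diagonal ![g, g⁻¹, 1] : Matrix (Fin 3) (Fin 3) F).det = 1 := by
    simp [Matrix.det_diagonal, Fin.prod_univ_three, hg0]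
  obtain ⟨u, hu⟩ : ∃ u : Matrix.SpecialLinearGroup (Fin 3) F,
      (u : Matrix (Fin 3) (Fin 3) F) = Matrix.diagonal ![g, g⁻¹, 1] := ⟨⟨_, hdet⟩, rfl⟩
  refine ⟨QuotientGroup.mk u, ?_⟩
  apply orderOf_eq_of_forall
  intro k
  rw [psl_pow_eq_one_iff, hu, Matrix.diagonal_pow, ← hordg, orderOf_dvd_iff_pow_eq_one]
  constructor
  · rintro ⟨c, hc⟩
    have h0 := congrFun (congrFun hc 0) 0
    have h2 := congrFun (congrFun hc 2) 2
    simp at h0 h2
    rw [h0, ← h2]
  · intro h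
    refine ⟨1, ?_⟩
    ext i j
    fin_cases i <;> fin_cases j <;> simp [h]

omit [Fintype F] in
theorem jord_pow (a : F) (ha : a ≠ 0) (k : ℕ) :
    (!![a, 1, 0; 0, a, 0; 0, 0, (a * a)⁻¹] : Matrix (Fin 3) (Fin 3) F) ^ k =
      !![a ^ k, (k : F) * a ^ k * a⁻¹, 0; 0, a ^ k, 0; 0, 0, ((a * a)⁻¹) ^ k] := by
  induction k with
  | zero =>
    ext i j
    fin_cases i <;> fin_cases j <;> simp
  | succ k ih =>
    rw [pow_succ, ih]
    ext i j
    fin_cases i <;> fin_cases j <;>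
      simp [Matrix.mul_apply, Fin.sum_univ_three, pow_succ] <;> field_simp <;> ring

theorem exists_order_p_mul (p : ℕ) [Fact p.Prime] [CharP F p] :
    ∃ x : Matrix.ProjectiveSpecialLinearGroup (Fin 3) F,
      orderOf x = p * (Fintype.card F - 1) / Nat.gcd 3 (Fintype.card F - 1) := by
  classical
  have hpp : p.Prime := Fact.out
  have hq1 : 1 < Fintype.card F := Fintype.one_lt_card
  obtain ⟨a, ha0, horda⟩ := exists_gen (F := F)
  have hdet : (!![a, 1, 0; 0, a, 0; 0, 0, (a * a)⁻¹] : Matrix (Fin 3) (Fin 3) F).det = 1 := by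
    rw [Matrix.det_fin_three]
    simp
    field_simp
  obtain ⟨u, hu⟩ : ∃ u : Matrix.SpecialLinearGroup (Fin 3) F,
      (u : Matrix (Fin 3) (Fin 3) F) = !![a, 1, 0; 0, a, 0; 0, 0, (a * a)⁻¹] := ⟨⟨_, hdet⟩, rfl⟩
  refine ⟨QuotientGroup.mk u, ?_⟩
  apply orderOf_eq_of_forall
  intro k
  rw [psl_pow_eq_one_iff, hu, jord_pow a ha0]
  have hdq : Nat.gcd 3 (Fintype.card F - 1) ∣ Fintype.card F - 1 := Nat.gcd_dvd_right _ _
  rw [Nat.mul_div_assoc _ hdq]
  have key : (∃ c : F, (!![a ^ k, (k : F) * a ^ k * a⁻¹, 0; 0, a ^ k, 0; 0, 0, ((a * a)⁻¹) ^ k] :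
      Matrix (Fin 3) (Fin 3) F) = c • (1 : Matrix (Fin 3) (Fin 3) F)) ↔
      ((k : F) = 0 ∧ a ^ (3 * k) = 1) := by
    constructor
    · rintro ⟨c, hc⟩
      have h00 : a ^ k = c := by simpa using congrFun (congrFun hc 0) 0
      have h01 : (k : F) * a ^ k * a⁻¹ = 0 := by simpa using congrFun (congrFun hc 0) 1
      have h22 : ((a * a)⁻¹) ^ k = c := by simpa using congrFun (congrFun hc 2) 2
      refine ⟨?_, ?_⟩
      · rcases mul_eq_zero.mp h01 with h | h
        · rcases mul_eq_zero.mp h with h | h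
          · exact h
          · exact absurd h (pow_ne_zero k ha0)
        · exact absurd h (inv_ne_zero ha0)
      · have h5 : a ^ (3 * k) * ((a * a)⁻¹) ^ k = a ^ k := by
          rw [inv_pow]
          field_simp
          ring
        rw [h22, ← h00] at h5
        exact mul_right_cancel₀ (pow_ne_zero k ha0) (h5.trans (one_mul _).symm)
    · rintro ⟨hk, h3⟩
      refine ⟨a ^ k, ?_⟩
      have h5 : ((a * a)⁻¹) ^ k = a ^ k := by
        rw [inv_pow]
        apply inv_eq_of_mul_eq_one_left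
        rw [← h3]
        ring
      have h5' : (a⁻¹ * a⁻¹) ^ k = a ^ k := by
        rw [← mul_inv]
        exact h5
      ext i j
      fin_cases i <;> fin_cases j <;> simp [hk, h5']
  rw [key, CharP.cast_eq_zero_iff F p k, ← orderOf_dvd_iff_pow_eq_one, horda,
    dvd_mul_iff_div_gcd _ _ _ (by omega), Nat.gcd_comm]
  have hcop : Nat.Coprime p ((Fintype.card F - 1) / Nat.gcd 3 (Fintype.card F - 1)) := by
    rw [hpp.coprime_iff_not_dvd]
    intro h
    have h1 : p ∣ Fintype.card F - 1 := h.trans (Nat.div_dvd_of_dvd hdq)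
    have h2 : p ∣ Fintype.card F := by
      obtain ⟨n, -, hn⟩ := FiniteField.card F p
      rw [hn]
      exact dvd_pow_self p n.ne_zero
    have h3 := Nat.dvd_sub h2 h1
    rw [show Fintype.card F - (Fintype.card F - 1) = 1 by omega] at h3
    exact hpp.one_lt.ne' (Nat.dvd_one.mp h3)
  exact ⟨fun h => hcop.mul_dvd_of_dvd_of_dvd h.1 h.2,
    fun h => ⟨(Dvd.intro _ rfl).trans h, (Dvd.intro_left _ rfl).trans h⟩⟩

omit [Fintype F] in
theorem exists_order_four [CharP F 2] :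
    ∃ x : Matrix.ProjectiveSpecialLinearGroup (Fin 3) F, orderOf x = 4 := by
  have h20 : (2 : F) = 0 := CharTwo.two_eq_zero
  have h11 : (1 : F) + 1 = 0 := by rw [one_add_one_eq_two, h20]
  have hdet : (!![1, 1, 0; 0, 1, 1; 0, 0, 1] : Matrix (Fin 3) (Fin 3) F).det = 1 := by
    rw [Matrix.det_fin_three]
    simp
  obtain ⟨u, hu⟩ : ∃ u : Matrix.SpecialLinearGroup (Fin 3) F,
      (u : Matrix (Fin 3) (Fin 3) F) = !![1, 1, 0; 0, 1, 1; 0, 0, 1] := ⟨⟨_, hdet⟩, rfl⟩
  have hsq : (!![1, 1, 0; 0, 1, 1; 0, 0, 1] : Matrix (Fin 3) (Fin 3) F) ^ 2 =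
      !![1, 0, 1; 0, 1, 0; 0, 0, 1] := by
    rw [pow_two]
    ext i j
    fin_cases i <;> fin_cases j <;> simp [Matrix.mul_apply, Fin.sum_univ_three, h11]
  refine ⟨QuotientGroup.mk u, ?_⟩
  have h4 : orderOf (QuotientGroup.mk u : Matrix.ProjectiveSpecialLinearGroup (Fin 3) F) =
      2 ^ (1 + 1) := by
    apply orderOf_eq_prime_pow
    · rw [psl_pow_eq_one_iff, hu]
      rintro ⟨c, hc⟩
      rw [pow_one, hsq] at hc
      have h02 := congrFun (congrFun hc 0) 2
      simp at h02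
    · rw [psl_pow_eq_one_iff, hu]
      refine ⟨1, ?_⟩
      rw [show 2 ^ (1 + 1) = 2 * 2 by norm_num, pow_mul, hsq, pow_two]
      ext i j
      fin_cases i <;> fin_cases j <;> simp [Matrix.mul_apply, Fin.sum_univ_three, h11]
  simpa using h4

theorem exists_singer (p : ℕ) [Fact p.Prime] [CharP F p] :
    ∃ x : Matrix.ProjectiveSpecialLinearGroup (Fin 3) F,
      orderOf x = (Fintype.card F ^ 2 + Fintype.card F + 1) / Nat.gcd 3 (Fintype.card F - 1) := by
  classical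
  have hq1 : 1 < Fintype.card F := Fintype.one_lt_card
  let K := FiniteField.Extension F p 3
  have hfr : Module.finrank F K = 3 := FiniteField.finrank_extension F p 3
  have hcard : Nat.card K = Fintype.card F ^ 3 := by
    rw [FiniteField.natCard_extension, Nat.card_eq_fintype_card]
  let b : Module.Basis (Fin 3) F K := Module.finBasisOfFinrankEq F K hfr
  haveI : Fintype K := Fintype.ofFinite K
  obtain ⟨ζ, hζ⟩ := IsCyclic.exists_generator (α := Kˣ)
  have hordζ : orderOf (ζ : K) = Fintype.card F ^ 3 - 1 := by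
    rw [orderOf_units, orderOf_eq_card_of_forall_mem_zpowers hζ, Nat.card_units, hcard]
  obtain ⟨θ, hθ⟩ : ∃ θ : K, θ = (ζ : K) ^ (Fintype.card F - 1) := ⟨_, rfl⟩
  have hθ0 : θ ≠ 0 := by
    rw [hθ]
    exact pow_ne_zero _ ζ.ne_zero
  have hnorm : Algebra.norm F θ = 1 := by
    apply (algebraMap F K).injective
    rw [ff_norm_pow, hfr, map_one]
    have hsum : ∑ i ∈ Finset.range 3, Fintype.card F ^ i =
        Fintype.card F ^ 2 + Fintype.card F + 1 := by
      simp [Finset.sum_range_succ]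
      ring
    rw [hsum, hθ, ← pow_mul, ← nt_cube _ hq1.le, ← hordζ]
    exact pow_orderOf_eq_one _
  have hdet : (Algebra.leftMulMatrix b θ).det = 1 := by
    rw [← Algebra.norm_eq_matrix_det b θ, hnorm]
  obtain ⟨u, hu⟩ : ∃ u : Matrix.SpecialLinearGroup (Fin 3) F,
      (u : Matrix (Fin 3) (Fin 3) F) = Algebra.leftMulMatrix b θ := ⟨⟨_, hdet⟩, rfl⟩
  refine ⟨QuotientGroup.mk u, ?_⟩
  apply orderOf_eq_of_forall
  intro k
  rw [psl_pow_eq_one_iff, hu, ← map_pow]
  simp only [leftMul_eq_smul_one_iff]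
  have h1 : (∃ c : F, θ ^ k = algebraMap F K c) ↔ (θ ^ k) ^ (Fintype.card F - 1) = 1 := by
    rw [← ff_mem_range_iff (F := F) (θ ^ k) (pow_ne_zero _ hθ0)]
    exact ⟨fun ⟨c, hc⟩ => ⟨c, hc.symm⟩, fun ⟨c, hc⟩ => ⟨c, hc.symm⟩⟩
  rw [h1, hθ, ← pow_mul, ← pow_mul, ← orderOf_dvd_iff_pow_eq_one, hordζ, nt_cube _ hq1.le,
    Nat.mul_dvd_mul_iff_left (by omega), mul_comm k,
    dvd_mul_iff_div_gcd _ _ _ (by positivity), nt_gcd1 _ hq1.le]

/-- Block matrix `diag(M, δ)`. -/
def blk (M : Matrix (Fin 2) (Fin 2) F) (δ : F) : Matrix (Fin 3) (Fin 3) F :=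
  !![M 0 0, M 0 1, 0; M 1 0, M 1 1, 0; 0, 0, δ]

omit [Fintype F] in
theorem blk_mul (M M' : Matrix (Fin 2) (Fin 2) F) (δ δ' : F) :
    blk M δ * blk M' δ' = blk (M * M') (δ * δ') := by
  ext i j
  fin_cases i <;> fin_cases j <;>
    simp [blk, Matrix.mul_apply, Fin.sum_univ_three, Fin.sum_univ_two]

omit [Fintype F] in
theorem blk_one : blk (1 : Matrix (Fin 2) (Fin 2) F) 1 = 1 := by
  ext i j
  fin_cases i <;> fin_cases j <;> simp [blk]

omit [Fintype F] in
theorem blk_pow (M : Matrix (Fin 2) (Fin 2) F) (δ : F) (k : ℕ) :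
    blk M δ ^ k = blk (M ^ k) (δ ^ k) := by
  induction k with
  | zero => simp [blk_one]
  | succ k ih => rw [pow_succ, ih, blk_mul, pow_succ, pow_succ]

omit [Fintype F] in
theorem blk_det (M : Matrix (Fin 2) (Fin 2) F) (δ : F) : (blk M δ).det = M.det * δ := by
  rw [Matrix.det_fin_three, Matrix.det_fin_two]
  simp [blk]
  ring

omit [Fintype F] in
theorem blk_eq_smul_one_iff (M : Matrix (Fin 2) (Fin 2) F) (δ c : F) :
    blk M δ = c • (1 : Matrix (Fin 3) (Fin 3) F) ↔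
      M = c • (1 : Matrix (Fin 2) (Fin 2) F) ∧ δ = c := by
  constructor
  · intro h
    refine ⟨?_, ?_⟩
    · ext i j
      fin_cases i <;> fin_cases j
      · simpa [blk] using congrFun (congrFun h 0) 0
      · simpa [blk] using congrFun (congrFun h 0) 1
      · simpa [blk] using congrFun (congrFun h 1) 0
      · simpa [blk] using congrFun (congrFun h 1) 1
    · simpa [blk] using congrFun (congrFun h 2) 2
  · rintro ⟨h1, rfl⟩
    rw [h1]
    ext i j
    fin_cases i <;> fin_cases j <;> simp [blk]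

theorem exists_order_N2 (p : ℕ) [Fact p.Prime] [CharP F p] :
    ∃ x : Matrix.ProjectiveSpecialLinearGroup (Fin 3) F,
      orderOf x = (Fintype.card F ^ 2 - 1) / Nat.gcd 3 (Fintype.card F - 1) := by
  classical
  have hq1 : 1 < Fintype.card F := Fintype.one_lt_card
  let K := FiniteField.Extension F p 2
  have hfr : Module.finrank F K = 2 := FiniteField.finrank_extension F p 2
  have hcard : Nat.card K = Fintype.card F ^ 2 := by
    rw [FiniteField.natCard_extension, Nat.card_eq_fintype_card]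
  let b : Module.Basis (Fin 2) F K := Module.finBasisOfFinrankEq F K hfr
  haveI : Fintype K := Fintype.ofFinite K
  obtain ⟨ζ, hζ⟩ := IsCyclic.exists_generator (α := Kˣ)
  have hordζ : orderOf (ζ : K) = Fintype.card F ^ 2 - 1 := by
    rw [orderOf_units, orderOf_eq_card_of_forall_mem_zpowers hζ, Nat.card_units, hcard]
  have hnorm : algebraMap F K (Algebra.norm F (ζ : K)) = (ζ : K) ^ (Fintype.card F + 1) := by
    rw [ff_norm_pow, hfr]
    congr 1
    simp [Finset.sum_range_succ]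
    ring
  have hn0 : Algebra.norm F (ζ : K) ≠ 0 := by
    intro h
    rw [h, map_zero] at hnorm
    exact pow_ne_zero _ ζ.ne_zero hnorm.symm
  have hdet : (blk (Algebra.leftMulMatrix b (ζ : K)) (Algebra.norm F (ζ : K))⁻¹).det = 1 := by
    rw [blk_det, ← Algebra.norm_eq_matrix_det b, mul_inv_cancel₀ hn0]
  obtain ⟨u, hu⟩ : ∃ u : Matrix.SpecialLinearGroup (Fin 3) F,
      (u : Matrix (Fin 3) (Fin 3) F) =
        blk (Algebra.leftMulMatrix b (ζ : K)) (Algebra.norm F (ζ : K))⁻¹ := ⟨⟨_, hdet⟩, rfl⟩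
  refine ⟨QuotientGroup.mk u, ?_⟩
  apply orderOf_eq_of_forall
  intro k
  rw [psl_pow_eq_one_iff, hu, blk_pow, ← map_pow]
  simp only [blk_eq_smul_one_iff, leftMul_eq_smul_one_iff]
  have h1 : (∃ c : F, (ζ : K) ^ k = algebraMap F K c ∧
      ((Algebra.norm F (ζ : K))⁻¹) ^ k = c) ↔ (ζ : K) ^ ((Fintype.card F + 2) * k) = 1 := by
    have h2 : algebraMap F K (((Algebra.norm F (ζ : K))⁻¹) ^ k) *
        (ζ : K) ^ ((Fintype.card F + 1) * k) = 1 := by
      rw [map_pow, map_inv₀, hnorm, pow_mul, ← mul_pow,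
        inv_mul_cancel₀ (pow_ne_zero _ ζ.ne_zero), one_pow]
    have h3 : (ζ : K) ^ ((Fintype.card F + 2) * k) =
        (ζ : K) ^ k * (ζ : K) ^ ((Fintype.card F + 1) * k) := by
      rw [← pow_add]
      congr 1
      ring
    constructor
    · rintro ⟨c, hc1, hc2⟩
      rw [h3, hc1, ← hc2, h2]
    · intro h
      refine ⟨_, ?_, rfl⟩
      rw [h3] at h
      have hY : (ζ : K) ^ ((Fintype.card F + 1) * k) ≠ 0 := pow_ne_zero _ ζ.ne_zero
      exact mul_right_cancel₀ hY (h.trans h2.symm)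
  have hpos : 0 < Fintype.card F ^ 2 - 1 := by
    have h4 : 2 ≤ Fintype.card F := hq1
    have h5 : 4 ≤ Fintype.card F ^ 2 := by nlinarith
    omega
  rw [h1, ← orderOf_dvd_iff_pow_eq_one, hordζ, dvd_mul_iff_div_gcd _ _ _ hpos,
    nt_gcd2 _ hq1]

end elements

/-- The set of element orders of PSL(3,q): let F be a finite field of characteristic p with q elements and d = gcd(3, q − 1). The orders of elements of PSL(3,F) are exactly the divisors of (q² + q + 1)/d, of (q² − 1)/d, of q − 1, of p(q − 1)/d, and, when p = 2, of 4. -/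
theorem result {F : Type*} [Field F] [Fintype F] (p : ℕ) [Fact p.Prime] [CharP F p] :
    Set.range (orderOf : Matrix.ProjectiveSpecialLinearGroup (Fin 3) F → ℕ) =
      {m : ℕ | m ∣ (Fintype.card F ^ 2 + Fintype.card F + 1) / Nat.gcd 3 (Fintype.card F - 1) ∨
        m ∣ (Fintype.card F ^ 2 - 1) / Nat.gcd 3 (Fintype.card F - 1) ∨ m ∣ Fintype.card F - 1 ∨
        m ∣ p * (Fintype.card F - 1) / Nat.gcd 3 (Fintype.card F - 1) ∨ (p = 2 ∧ m ∣ 4)} := by
  classical
  apply Set.eq_of_subset_of_subset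
  · rintro _ ⟨g, rfl⟩
    obtain ⟨A, rfl⟩ := QuotientGroup.mk_surjective g
    have hmon := Matrix.charpoly_monic (A : Matrix (Fin 3) (Fin 3) F)
    have hdeg : (A : Matrix (Fin 3) (Fin 3) F).charpoly.natDegree = 3 := by
      rw [Matrix.charpoly_natDegree_eq_dim, Fintype.card_fin]
    have h0 : (A : Matrix (Fin 3) (Fin 3) F).charpoly.coeff 0 = -1 := by
      have h5 := Matrix.det_eq_sign_charpoly_coeff (A : Matrix (Fin 3) (Fin 3) F)
      rw [A.det_coe, Fintype.card_fin] at h5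
      linear_combination h5
    obtain ⟨N, c, h1, h2⟩ := poly_cases p _ hmon hdeg h0
    have h3 : (QuotientGroup.mk A : Matrix.ProjectiveSpecialLinearGroup (Fin 3) F) ^ N = 1 := by
      rw [psl_pow_eq_one_iff]
      exact ⟨c, pow_eq_smul_of_charpoly_dvd _ N c h1⟩
    have h4 := orderOf_dvd_of_pow_eq_one h3
    show orderOf _ ∣ _ ∨ orderOf _ ∣ _ ∨ orderOf _ ∣ _ ∨ orderOf _ ∣ _ ∨ (p = 2 ∧ orderOf _ ∣ 4)
    rcases h2 with h2 | h2 | h2 | h2 | h2
    · exact Or.inl (h4.trans h2)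
    · exact Or.inr (Or.inl (h4.trans h2))
    · exact Or.inr (Or.inr (Or.inl (h4.trans h2)))
    · exact Or.inr (Or.inr (Or.inr (Or.inl (h4.trans h2))))
    · exact Or.inr (Or.inr (Or.inr (Or.inr ⟨h2.1, h4.trans h2.2⟩)))
  · intro m hm
    rcases hm with hm | hm | hm | hm | ⟨hp2, hm⟩
    · exact spec_dvd_closed (exists_singer p) hm
    · exact spec_dvd_closed (exists_order_N2 p) hm
    · exact spec_dvd_closed exists_order_q_sub_one hm
    · exact spec_dvd_closed (exists_order_p_mul p) hm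
    · subst hp2
      exact spec_dvd_closed exists_order_four hm

end Cfsg.Agent.S2476
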