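import Cfsg.Statements.S2470
import Cfsg.Agent.Lib.Helper49.PSLn
import Cfsg.Agent.S2475
import Cfsg.Agent.S2476

set_option autoImplicit false
set_option linter.style.haveILetI false
open Cfsg

namespace Cfsg.Agent.S2470

open Cfsg.Agent.Lib.Helper49

section aux

variable {F : Type*} [Field F] [Fintype F]

theorem exists_elt_order (r : ℕ) (hr : r ∣ Fintype.card F - 1) :
    ∃ a : F, a ≠ 0 ∧ orderOf a = r := by
  classical
  have hq1 : 1 < Fintype.card F := Fintype.one_lt_card
  obtain ⟨g, hg⟩ := IsCyclic.exists_generator (α := Fˣ)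
  have hordg : orderOf (g : F) = Fintype.card F - 1 := by
    rw [orderOf_units, orderOf_eq_card_of_forall_mem_zpowers hg, Nat.card_units,
      Nat.card_eq_fintype_card]
  obtain ⟨e, he⟩ := hr
  have he0 : e ≠ 0 := by
    rintro rfl
    rw [mul_zero] at he
    omega
  refine ⟨(g : F) ^ e, pow_ne_zero _ g.ne_zero, ?_⟩
  rw [orderOf_pow_of_dvd he0 ⟨r, by rw [hordg, he, mul_comm]⟩, hordg, he]
  exact Nat.mul_div_cancel _ (Nat.pos_of_ne_zero he0)

omit [Fintype F] in
/-- Lift of an element of `PSL_n` of order `t` to a matrix. -/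
theorem lift_order {n : ℕ} (hn : n ≠ 0) (t : ℕ)
    (g : Matrix.ProjectiveSpecialLinearGroup (Fin n) F) (hg : orderOf g = t) :
    ∃ A : Matrix (Fin n) (Fin n) F, (∃ c : F, c ≠ 0 ∧ A ^ t = c • 1) ∧
      ∀ j : ℕ, (∃ c : F, A ^ j = c • 1) → t ∣ j := by
  obtain ⟨A, rfl⟩ := QuotientGroup.mk_surjective g
  refine ⟨(A : Matrix (Fin n) (Fin n) F), ?_, ?_⟩
  · have h1 := pow_orderOf_eq_one (QuotientGroup.mk A :
      Matrix.ProjectiveSpecialLinearGroup (Fin n) F)
    rw [hg, psl_pow_eq_one_iff] at h1
    obtain ⟨c, hc⟩ := h1
    refine ⟨c, ?_, hc⟩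
    rintro rfl
    haveI : Nonempty (Fin n) := ⟨⟨0, Nat.pos_of_ne_zero hn⟩⟩
    have h2 := congrArg Matrix.det hc
    rw [Matrix.det_pow, A.det_coe, one_pow, zero_smul, Matrix.det_zero] at h2
    exact one_ne_zero h2
  · intro j hj
    rw [← hg]
    apply orderOf_dvd_of_pow_eq_one
    rw [psl_pow_eq_one_iff]
    exact hj

end aux

/-- Adjacency of an odd prime and the characteristic in the prime graph of PSL(n,q): let F be a finite field of characteristic p with q elements, n ≥ 2 with PSL(n,F) simple, and let r ≠ p be an odd prime dividing the order of PSL(n,F), with k the multiplicative order of q modulo r. Then PSL(n,F) has NO element of order r·p if and only if either k > n − 2, or n = 3, r = 3 and 3 divides q − 1 exactly once. -/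
theorem result {F : Type*} [Field F] [Fintype F] (p : ℕ) [Fact p.Prime] [CharP F p] (n : ℕ) (hn : 2 ≤ n) (hsmall : n = 2 → 4 ≤ Fintype.card F)
    (r : ℕ) (hr : r.Prime) (hr2 : r ≠ 2) (hrp : r ≠ p) (hrG : r ∣ Nat.card (Matrix.ProjectiveSpecialLinearGroup (Fin n) F))
    (k : ℕ) (hk : k = orderOf ((Fintype.card F : ℕ) : ZMod r)) :
    (r * p ∉ Set.range (orderOf : Matrix.ProjectiveSpecialLinearGroup (Fin n) F → ℕ)) ↔
      (n - 2 < k ∨ (n = 3 ∧ r = 3 ∧ 3 ∣ Fintype.card F - 1 ∧ ¬ 9 ∣ Fintype.card F - 1)) := by
  classical
  haveI : Fact r.Prime := ⟨hr⟩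
  have hpp : p.Prime := Fact.out
  have hq1 : 1 < Fintype.card F := Fintype.one_lt_card
  have hpq : p ∣ Fintype.card F := by
    obtain ⟨a, -, ha⟩ := FiniteField.card F p
    rw [ha]
    exact dvd_pow_self p a.ne_zero
  have hp_sub : ¬ p ∣ Fintype.card F - 1 := by
    intro h
    have h3 := Nat.dvd_sub hpq h
    rw [show Fintype.card F - (Fintype.card F - 1) = 1 by omega] at h3
    exact hpp.one_lt.ne' (Nat.dvd_one.mp h3)
  have hp_add : ¬ p ∣ Fintype.card F + 1 := by
    intro h
    have h3 := Nat.dvd_sub h hpq
    rw [show Fintype.card F + 1 - Fintype.card F = 1 by omega] at h3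
    exact hpp.one_lt.ne' (Nat.dvd_one.mp h3)
  have hkpos : 0 < k := hk ▸ ff_orderOf_pos (F := F) p r hrp
  have hk1 : k = 1 ↔ r ∣ Fintype.card F - 1 := hk ▸ ff_orderOf_eq_one_iff (F := F) r
  have hrpcop : Nat.Coprime r p := (Nat.coprime_primes hr hpp).mpr hrp
  rcases Nat.lt_or_ge n 4 with hn4 | hn4
  · interval_cases n
    · -- n = 2
      have hS := S2475.result (F := F) p (hsmall rfl)
      constructor
      · intro _
        left
        omega
      · intro _ hmem
        rw [hS] at hmem
        have hd2q : Nat.gcd 2 (Fintype.card F - 1) ∣ Fintype.card F - 1 := Nat.gcd_dvd_right _ _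
        have hd2q' : Nat.gcd 2 (Fintype.card F - 1) ∣ Fintype.card F + 1 := by
          have h5 : Fintype.card F + 1 = Fintype.card F - 1 + 2 := by omega
          rw [h5]
          exact Dvd.dvd.add hd2q (Nat.gcd_dvd_left _ _)
        rcases hmem with h | h | h
        · have h5 : r * p ∣ 1 * p := by rwa [one_mul]
          have h6 := Nat.dvd_of_mul_dvd_mul_right hpp.pos h5
          exact hr.one_lt.ne' (Nat.dvd_one.mp h6)
        · exact hp_sub (((Dvd.intro_left r rfl).trans h).trans (Nat.div_dvd_of_dvd hd2q))
        · exact hp_add (((Dvd.intro_left r rfl).trans h).trans (Nat.div_dvd_of_dvd hd2q'))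
    · -- n = 3
      have hS := S2476.result (F := F) p
      have hd3 : Nat.gcd 3 (Fintype.card F - 1) ∣ 3 := Nat.gcd_dvd_left _ _
      have hdq : Nat.gcd 3 (Fintype.card F - 1) ∣ Fintype.card F - 1 := Nat.gcd_dvd_right _ _
      obtain ⟨m, hm⟩ : ∃ m, (Fintype.card F - 1) / Nat.gcd 3 (Fintype.card F - 1) = m := ⟨_, rfl⟩
      have hdm : Nat.gcd 3 (Fintype.card F - 1) * m = Fintype.card F - 1 := by
        rw [← hm]
        exact Nat.mul_div_cancel' hdq
      have hN4 : p * (Fintype.card F - 1) / Nat.gcd 3 (Fintype.card F - 1) = p * m := by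
        rw [Nat.mul_div_assoc _ hdq, hm]
      have hmem_iff : r * p ∈ Set.range
          (orderOf : Matrix.ProjectiveSpecialLinearGroup (Fin 3) F → ℕ) ↔ r ∣ m := by
        rw [hS]
        constructor
        · rintro (h | h | h | h | ⟨h2, h⟩)
          · exfalso
            have h5 : p ∣ Fintype.card F ^ 2 + Fintype.card F + 1 :=
              ((Dvd.intro_left r rfl).trans h).trans
                (Dvd.intro_left _ (S2476.nt_div1 _ hq1.le))
            have h6 : p ∣ Fintype.card F ^ 2 + Fintype.card F :=
              Dvd.dvd.add (Dvd.dvd.pow hpq (by norm_num)) hpq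
            have h7 := Nat.dvd_sub h5 h6
            rw [Nat.add_sub_cancel_left] at h7
            exact hpp.one_lt.ne' (Nat.dvd_one.mp h7)
          · exfalso
            rw [S2476.nt_div2 _ hq1.le, hm] at h
            have h5 : p ∣ Fintype.card F ^ 2 - 1 := by
              rw [S2476.nt_sq1 _ hq1.le, ← hdm]
              exact ((Dvd.intro_left r rfl).trans h).trans
                (Nat.mul_dvd_mul_left _ (Dvd.intro_left _ rfl))
            have h6 : p ∣ Fintype.card F ^ 2 := Dvd.dvd.pow hpq (by norm_num)
            have h7 := Nat.dvd_sub h6 h5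
            have h8 : 1 ≤ Fintype.card F ^ 2 := Nat.one_le_pow _ _ (by omega)
            rw [show Fintype.card F ^ 2 - (Fintype.card F ^ 2 - 1) = 1 by omega] at h7
            exact hpp.one_lt.ne' (Nat.dvd_one.mp h7)
          · exact absurd ((Dvd.intro_left r rfl).trans h) hp_sub
          · rw [hN4, mul_comm p m] at h
            exact Nat.dvd_of_mul_dvd_mul_right hpp.pos h
          · exfalso
            subst h2
            have h5 : r * 2 ∣ 2 * 2 := h
            have h6 := Nat.dvd_of_mul_dvd_mul_right (by norm_num) h5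
            exact hr2 ((Nat.prime_dvd_prime_iff_eq hr Nat.prime_two).mp h6)
        · intro h
          right; right; right; left
          rw [hN4, mul_comm p m]
          exact Nat.mul_dvd_mul_right h p
      rw [hmem_iff]
      rcases (Nat.dvd_prime Nat.prime_three).mp hd3 with hd | hd
      · rw [hd, one_mul] at hdm
        have h3 : ¬ 3 ∣ Fintype.card F - 1 := by
          intro h
          rw [Nat.gcd_eq_left h] at hd
          omega
        rw [hdm, ← hk1]
        constructor
        · intro h
          left
          omega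
        · rintro (h | ⟨-, -, h, -⟩)
          · omega
          · exact absurd h h3
      · rw [hd] at hdm
        have h3 : 3 ∣ Fintype.card F - 1 := Dvd.intro _ hdm
        by_cases hr3 : r = 3
        · subst hr3
          have hk1' : k = 1 := hk1.mpr h3
          constructor
          · intro h
            right
            refine ⟨rfl, rfl, h3, ?_⟩
            intro h9
            apply h
            obtain ⟨t, ht⟩ := h9
            exact ⟨t, by omega⟩
          · rintro (h | ⟨-, -, -, h⟩)
            · omega
            · intro h9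
              apply h
              obtain ⟨t, ht⟩ := h9
              exact ⟨t, by omega⟩
        · have hcop : Nat.Coprime r 3 := (Nat.coprime_primes hr Nat.prime_three).mpr hr3
          have hiff : r ∣ m ↔ r ∣ Fintype.card F - 1 := by
            rw [← hdm]
            exact ⟨fun h => Dvd.dvd.mul_left h 3, fun h => hcop.dvd_of_dvd_mul_left h⟩
          rw [hiff, ← hk1]
          constructor
          · intro h
            left
            omega
          · rintro (h | ⟨-, h, -, -⟩)
            · omega
            · exact absurd h hr3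
  · -- n ≥ 4
    by_cases hkn : k ≤ n - 2
    · have hR : ¬ (n - 2 < k ∨ (n = 3 ∧ r = 3 ∧ 3 ∣ Fintype.card F - 1 ∧
          ¬ 9 ∣ Fintype.card F - 1)) := by
        rintro (h | ⟨h, -⟩) <;> omega
      have hL : r * p ∈ Set.range
          (orderOf : Matrix.ProjectiveSpecialLinearGroup (Fin n) F → ℕ) := by
        by_cases hk1' : k = 1
        · have hrq := hk1.mp hk1'
          obtain ⟨a, ha0, horda⟩ := exists_elt_order (F := F) r hrq
          obtain ⟨m, rfl⟩ : ∃ m, n = 2 + 2 + m := ⟨n - 4, by omega⟩
          have hdet : (Matrix.diagonal ![a, a⁻¹] : Matrix (Fin 2) (Fin 2) F).det = 1 := by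
            simp [Matrix.det_diagonal, Fin.prod_univ_two, ha0]
          refine exists_psl_unip_pad p (Matrix.diagonal ![a, a⁻¹]) hdet r hrpcop ?_ ?_ m
          · intro j c h
            rw [Matrix.diagonal_pow] at h
            have h00 : a ^ j = c := by simpa using congrFun (congrFun h 0) 0
            have h11 : (a⁻¹) ^ j = c := by simpa using congrFun (congrFun h 1) 1
            have h5 : a ^ (2 * j) = 1 := by
              rw [two_mul, pow_add]
              nth_rewrite 2 [h00]
              rw [← h11, ← mul_pow, mul_inv_cancel₀ ha0, one_pow]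
            have h6 : r ∣ 2 * j := by
              rw [← horda]
              exact orderOf_dvd_of_pow_eq_one h5
            have hcop2 : Nat.Coprime r 2 := (Nat.coprime_primes hr Nat.prime_two).mpr hr2
            exact hcop2.dvd_of_dvd_mul_left h6
          · rw [Matrix.diagonal_pow]
            have h5 : a ^ r = 1 := by
              rw [← horda]
              exact pow_orderOf_eq_one a
            ext i j
            fin_cases i <;> fin_cases j <;> simp [h5]
        · have h2k : 2 ≤ orderOf ((Fintype.card F : ℕ) : ZMod r) := by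
            rw [← hk]
            omega
          obtain ⟨T, hT1, hT2, hT3⟩ := exists_singer_block (F := F) p k (by omega) r
            (hk ▸ ff_dvd_pow_sub_one (F := F) r) (ff_coprime_of_two_le (F := F) r h2k)
          obtain ⟨m, rfl⟩ : ∃ m, n = k + 2 + m := ⟨n - k - 2, by omega⟩
          exact exists_psl_unip_pad p T hT1 r hrpcop hT3 hT2 m
      exact ⟨fun h => absurd hL h, fun h => absurd h hR⟩
    · constructor
      · intro _
        left
        omega
      · intro _ hmem
        obtain ⟨g, hg⟩ := hmem
        obtain ⟨A, ⟨c, hc0, hA⟩, hAj⟩ := lift_order (F := F) (by omega : n ≠ 0) (r * p) g hg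
        have h2k : 2 ≤ orderOf ((Fintype.card F : ℕ) : ZMod r) := by
          rw [← hk]
          omega
        have hAr : ¬ ∃ c : F, A ^ r = c • 1 := by
          intro h
          have h5 : r * p ∣ r * 1 := by
            rw [mul_one]
            exact hAj r h
          have h6 := Nat.dvd_of_mul_dvd_mul_left hr.pos h5
          exact hpp.one_lt.ne' (Nat.dvd_one.mp h6)
        have hAp : ¬ ∃ c : F, A ^ p = c • 1 := by
          intro h
          have h5 : r * p ∣ 1 * p := by
            rw [one_mul]
            exact hAj p h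
          have h6 := Nat.dvd_of_mul_dvd_mul_right hpp.pos h5
          exact hr.one_lt.ne' (Nat.dvd_one.mp h6)
        have h7 := rp_bound (F := F) p r hrp h2k A c hc0 hA hAr hAp
        rw [← hk] at h7
        omega

end Cfsg.Agent.S2470
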