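import Cfsg.Statements.S2468
import Cfsg.Agent.Lib.Helper49.PSLn
import Cfsg.Agent.S2470

set_option autoImplicit false
set_option linter.style.haveILetI false
open Cfsg

namespace Cfsg.Agent.S2468

open Cfsg.Agent.Lib.Helper49

/-- Adjacency of two odd primes in the prime graph of PSL(n,q): let F be a finite field of characteristic p with q elements, n ≥ 2 with PSL(n,F) simple, and let r ≠ s be odd primes different from p dividing the order of PSL(n,F). Let k and l be the multiplicative orders of q modulo r and modulo s, and suppose 2 ≤ k ≤ l. Then PSL(n,F) has NO element of order r·s if and only if k + l > n and k does not divide l. -/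
theorem result {F : Type*} [Field F] [Fintype F] (p : ℕ) [Fact p.Prime] [CharP F p] (n : ℕ) (hn : 2 ≤ n) (hsmall : n = 2 → 4 ≤ Fintype.card F)
    (r s : ℕ) (hr : r.Prime) (hs : s.Prime) (hr2 : r ≠ 2) (hs2 : s ≠ 2) (hrp : r ≠ p) (hsp : s ≠ p) (hrs : r ≠ s)
    (hrG : r ∣ Nat.card (Matrix.ProjectiveSpecialLinearGroup (Fin n) F)) (hsG : s ∣ Nat.card (Matrix.ProjectiveSpecialLinearGroup (Fin n) F))
    (k l : ℕ) (hk : k = orderOf ((Fintype.card F : ℕ) : ZMod r)) (hl : l = orderOf ((Fintype.card F : ℕ) : ZMod s))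
    (h2k : 2 ≤ k) (hkl : k ≤ l) :
    (r * s ∉ Set.range (orderOf : Matrix.ProjectiveSpecialLinearGroup (Fin n) F → ℕ)) ↔ (n < k + l ∧ ¬ k ∣ l) := by
  classical
  haveI : Fact r.Prime := ⟨hr⟩
  haveI : Fact s.Prime := ⟨hs⟩
  have hpp : p.Prime := Fact.out
  have hq1 : 1 < Fintype.card F := Fintype.one_lt_card
  have hn0 : n ≠ 0 := by omega
  have h2k' : 2 ≤ orderOf ((Fintype.card F : ℕ) : ZMod r) := hk ▸ h2k
  have h2l' : 2 ≤ orderOf ((Fintype.card F : ℕ) : ZMod s) := hl ▸ (h2k.trans hkl)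
  have hcopr := ff_coprime_of_two_le (F := F) r h2k'
  have hcops := ff_coprime_of_two_le (F := F) s h2l'
  have hrscop : Nat.Coprime r s := (Nat.coprime_primes hr hs).mpr hrs
  have hrk : r ∣ Fintype.card F ^ k - 1 := hk ▸ ff_dvd_pow_sub_one (F := F) r
  have hsl : s ∣ Fintype.card F ^ l - 1 := hl ▸ ff_dvd_pow_sub_one (F := F) s
  constructor
  · intro hnot
    by_contra hcon
    apply hnot
    by_cases hkln : k + l ≤ n
    · obtain ⟨Tr, hTr1, hTr2, hTr3⟩ := exists_singer_block (F := F) p k (by omega) r hrk hcopr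
      obtain ⟨Ts, hTs1, hTs2, hTs3⟩ := exists_singer_block (F := F) p l (by omega) s hsl hcops
      obtain ⟨m, rfl⟩ : ∃ m, n = k + l + m := ⟨n - (k + l), by omega⟩
      refine exists_psl_of_pad (bdiag Tr Ts) ?_ (r * s) ?_ ?_ m
      · rw [bdiag_det, hTr1, hTs1, one_mul]
      · intro j c h
        rw [bdiag_pow, bdiag_eq_smul_one_iff] at h
        exact hrscop.mul_dvd_of_dvd_of_dvd (hTr3 j c h.1) (hTs3 j c h.2)
      · rw [bdiag_pow, pow_mul, hTr2, one_pow, mul_comm r s, pow_mul, hTs2, one_pow, bdiag_one]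
    · have hkl' : k ∣ l := by
        by_contra h
        exact hcon ⟨by omega, h⟩
      have hln : l ≤ n := by
        obtain ⟨g, hg⟩ := exists_prime_orderOf_dvd_card' s hsG
        obtain ⟨A, ⟨c, hc0, hA⟩, hAj⟩ := S2470.lift_order (F := F) hn0 s g hg
        have hA1 : ¬ ∃ c : F, A = c • 1 := by
          rintro ⟨c', hc'⟩
          have h5 := hAj 1 ⟨c', by rw [pow_one]; exact hc'⟩
          exact hs.one_lt.ne' (Nat.dvd_one.mp h5)
        have h6 := ord_le_of_elt (F := F) p s hsp h2l' A c hc0 hA hA1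
        rw [← hl] at h6
        exact h6
      have hrl : r ∣ Fintype.card F ^ l - 1 := by
        obtain ⟨e, rfl⟩ := hkl'
        have h5 : Fintype.card F ^ k - 1 ∣ (Fintype.card F ^ k) ^ e - 1 ^ e :=
          Nat.sub_dvd_pow_sub_pow _ _ _
        rw [one_pow, ← pow_mul] at h5
        exact hrk.trans h5
      obtain ⟨T, hT1, hT2, hT3⟩ := exists_singer_block (F := F) p l (by omega) (r * s)
        (hrscop.mul_dvd_of_dvd_of_dvd hrl hsl) (Nat.Coprime.mul_left hcopr hcops)
      obtain ⟨m, rfl⟩ : ∃ m, n = l + m := ⟨n - l, by omega⟩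
      exact exists_psl_of_pad T hT1 (r * s) hT3 hT2 m
  · rintro ⟨hnkl, hndvd⟩ ⟨g, hg⟩
    obtain ⟨A, ⟨c, hc0, hA⟩, hAj⟩ := S2470.lift_order (F := F) hn0 (r * s) g hg
    have hAr : ¬ ∃ c : F, A ^ r = c • 1 := by
      intro h
      have h5 : r * s ∣ r * 1 := by
        rw [mul_one]
        exact hAj r h
      have h6 := Nat.dvd_of_mul_dvd_mul_left hr.pos h5
      exact hs.one_lt.ne' (Nat.dvd_one.mp h6)
    have hAs : ¬ ∃ c : F, A ^ s = c • 1 := by
      intro h
      have h5 : r * s ∣ 1 * s := by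
        rw [one_mul]
        exact hAj s h
      have h6 := Nat.dvd_of_mul_dvd_mul_right hs.pos h5
      exact hr.one_lt.ne' (Nat.dvd_one.mp h6)
    have h7 := rs_dvd (F := F) p r s hrp hsp h2k' (by rw [← hk, ← hl]; exact hkl) A c hc0 hA
      hAr hAs (by rw [← hk, ← hl]; exact hnkl)
    rw [← hk, ← hl] at h7
    exact hndvd h7

end Cfsg.Agent.S2468
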