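import Cfsg.Statements.S2477
import Cfsg.Agent.Lib.Helper49.AltSpec

set_option autoImplicit false
open Cfsg

namespace Cfsg.Agent.S2477

/-- Reachable states `(lcm, sum, card mod 2)` of multisets with parts at least 2 and sum at most 10. -/
def st10 : List (ℕ × ℕ × ℕ) :=
  [(1, 0, 0), (2, 2, 1), (2, 4, 0), (2, 6, 1), (2, 8, 0), (2, 10, 1), (3, 3, 1), (3, 6, 0),
   (3, 9, 1), (4, 4, 1), (4, 6, 0), (4, 8, 0), (4, 8, 1), (4, 10, 0), (4, 10, 1), (5, 5, 1),
   (5, 10, 0), (6, 5, 0), (6, 6, 1), (6, 7, 1), (6, 8, 0), (6, 8, 1), (6, 9, 0), (6, 10, 0),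
   (6, 10, 1), (7, 7, 1), (8, 8, 1), (8, 10, 0), (9, 9, 1), (10, 7, 0), (10, 9, 1), (10, 10, 1),
   (12, 7, 0), (12, 9, 1), (12, 10, 0), (12, 10, 1), (14, 9, 0), (15, 8, 0), (20, 9, 0),
   (21, 10, 0), (30, 10, 1)]

theorem st10_closed : ∀ st ∈ st10, ∀ a ∈ List.range 11, 2 ≤ a → st.2.1 + a ≤ 10 →
    (Nat.lcm a st.1, a + st.2.1, (st.2.2 + 1) % 2) ∈ st10 := by
  decide

theorem st10_final : ∀ st ∈ st10, (st.2.1 + st.2.2) % 2 = 0 →
    st.1 ∈ [1, 2, 3, 4, 5, 6, 7, 8, 9, 10, 12, 15, 21] := by
  decide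

theorem st10_mem (c : Multiset ℕ) (hc2 : ∀ a ∈ c, 2 ≤ a) (hsum : c.sum ≤ 10) :
    (c.lcm, c.sum, Multiset.card c % 2) ∈ st10 := by
  induction c using Multiset.induction_on with
  | empty => decide
  | cons a c ih =>
    rw [Multiset.sum_cons] at hsum
    have h1 := ih (fun b hb => hc2 b (Multiset.mem_cons_of_mem hb)) (by omega)
    have ha2 : 2 ≤ a := hc2 a (Multiset.mem_cons_self a c)
    have h2 := st10_closed _ h1 a (List.mem_range.mpr (by omega)) ha2 (by simpa using (by omega : c.sum + a ≤ 10))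
    rw [Multiset.lcm_cons, Multiset.sum_cons, Multiset.card_cons]
    have e1 : (Multiset.card c + 1) % 2 = (Multiset.card c % 2 + 1) % 2 := by omega
    rw [e1]
    exact h2

/-- The set of element orders of the alternating group of degree 10 is {1, 2, 3, 4, 5, 6, 7, 8, 9, 10, 12, 15, 21}. -/
theorem result : Set.range (orderOf : alternatingGroup (Fin 10) → ℕ) = {1, 2, 3, 4, 5, 6, 7, 8, 9, 10, 12, 15, 21} := by
  ext m
  rw [Cfsg.Agent.Lib.Helper49.altSpec_iff]
  constructor
  · rintro ⟨c, hc2, hsum, hev, rfl⟩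
    have h1 := st10_mem c hc2 hsum
    have h2 := st10_final _ h1 (by
      show (c.sum + Multiset.card c % 2) % 2 = 0
      have := Nat.even_iff.mp hev
      omega)
    simp only [List.mem_cons, List.not_mem_nil, or_false] at h2
    simp only [Set.mem_insert_iff, Set.mem_singleton_iff]
    exact h2
  · intro hm
    simp only [Set.mem_insert_iff, Set.mem_singleton_iff] at hm
    rcases hm with rfl | rfl | rfl | rfl | rfl | rfl | rfl | rfl | rfl | rfl | rfl | rfl | rfl
    · exact ⟨0, by decide, by decide, by decide, by decide⟩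
    · exact ⟨{2, 2}, by decide, by decide, by decide, by decide⟩
    · exact ⟨{3}, by decide, by decide, by decide, by decide⟩
    · exact ⟨{4, 2}, by decide, by decide, by decide, by decide⟩
    · exact ⟨{5}, by decide, by decide, by decide, by decide⟩
    · exact ⟨{3, 2, 2}, by decide, by decide, by decide, by decide⟩
    · exact ⟨{7}, by decide, by decide, by decide, by decide⟩
    · exact ⟨{8, 2}, by decide, by decide, by decide, by decide⟩
    · exact ⟨{9}, by decide, by decide, by decide, by decide⟩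
    · exact ⟨{5, 2, 2}, by decide, by decide, by decide, by decide⟩
    · exact ⟨{4, 3, 2}, by decide, by decide, by decide, by decide⟩
    · exact ⟨{5, 3}, by decide, by decide, by decide, by decide⟩
    · exact ⟨{7, 3}, by decide, by decide, by decide, by decide⟩

end Cfsg.Agent.S2477
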