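import Cfsg.Statements.S2495
import Cfsg.Agent.Lib.Helper49.PSLn2
import Cfsg.Agent.S2904

set_option autoImplicit false
set_option linter.style.haveILetI false
open Cfsg

namespace Cfsg.Agent.S2495

open Cfsg.Agent.Lib.Helper49

/-! ### Arithmetic -/

theorem geom_modEq (q d : ℕ) (hd : d ∣ q - 1) (hq : 1 ≤ q) (j : ℕ) :
    ∑ i ∈ Finset.range j, q ^ i ≡ j [MOD d] := by
  have hq1 : q ≡ 1 [MOD d] := ((Nat.modEq_iff_dvd' hq).mpr hd).symm
  induction j with
  | zero => simp [Nat.ModEq]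
  | succ j ih =>
    rw [Finset.sum_range_succ]
    have h1 : q ^ j ≡ 1 [MOD d] := by simpa using hq1.pow j
    exact ih.add h1

theorem geom_split (q m : ℕ) :
    ∑ i ∈ Finset.range (2 * m), q ^ i = (q ^ m + 1) * ∑ i ∈ Finset.range m, q ^ i := by
  rw [two_mul, Finset.sum_range_add, add_mul, one_mul, Finset.mul_sum, add_comm]
  congr 1
  apply Finset.sum_congr rfl
  intro i _
  rw [pow_add]

theorem geom_mul (q n : ℕ) (hq : 1 ≤ q) :
    (q - 1) * ∑ i ∈ Finset.range n, q ^ i = q ^ n - 1 := by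
  obtain ⟨t, rfl⟩ := Nat.exists_eq_add_of_le hq
  rw [Nat.add_sub_cancel_left]
  induction n with
  | zero => simp
  | succ n ih =>
    rw [Finset.sum_range_succ, mul_add, ih]
    have h1 : 1 ≤ (1 + t) ^ n := Nat.one_le_pow _ _ (by omega)
    have h2 : (1 + t) ^ (n + 1) = (1 + t) ^ n + t * (1 + t) ^ n := by ring
    omega

/-- `gcd(2m, q-1) ∣ m` iff `v₂(q-1) < v₂(2m)`. -/
theorem gcd_dvd_iff (m Q : ℕ) (hm : m ≠ 0) (hQ : Q ≠ 0) :
    Nat.gcd (2 * m) Q ∣ m ↔ padicValNat 2 Q < padicValNat 2 (2 * m) := by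
  have h2m : padicValNat 2 (2 * m) = 1 + padicValNat 2 m := by
    rw [padicValNat.mul (by norm_num) hm, padicValNat_self]
  have hg0 : Nat.gcd (2 * m) Q ≠ 0 := Nat.gcd_ne_zero_right hQ
  constructor
  · intro h
    by_contra hcon
    push Not at hcon
    have h1 : 2 ^ padicValNat 2 (2 * m) ∣ Q := (padicValNat_dvd_iff_le hQ).mpr hcon
    have h2 : 2 ^ padicValNat 2 (2 * m) ∣ 2 * m := pow_padicValNat_dvd
    have h3 : 2 ^ padicValNat 2 (2 * m) ∣ m := (Nat.dvd_gcd h2 h1).trans h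
    have h4 := (padicValNat_dvd_iff_le hm).mp h3
    omega
  · intro h
    rw [← Nat.factorization_le_iff_dvd hg0 hm]
    intro ℓ
    by_cases hℓ : ℓ = 2
    · subst hℓ
      have h1 := (Nat.factorization_le_iff_dvd hg0 hQ).mpr (Nat.gcd_dvd_right (2 * m) Q) 2
      rw [Nat.factorization_def _ Nat.prime_two, Nat.factorization_def _ Nat.prime_two] at h1 ⊢
      omega
    · have h1 := (Nat.factorization_le_iff_dvd hg0 (by omega : 2 * m ≠ 0)).mpr
        (Nat.gcd_dvd_left (2 * m) Q) ℓ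
      rw [Nat.factorization_mul (by norm_num) hm, Finsupp.add_apply,
        Nat.prime_two.factorization, Finsupp.single_apply, if_neg (Ne.symm hℓ), zero_add] at h1
      exact h1

/-- Let q be an odd prime power, n ≥ 4 even, and L = PSL(n,q). Then L has an element of order q^(n/2) + 1 if and only if the 2-part of n exceeds the 2-part of q − 1. -/
theorem result {F : Type*} [Field F] [Fintype F] {q : ℕ} (hF : Fintype.card F = q) (hodd : Odd q)
    {n : ℕ} (hn : 4 ≤ n) (heven : Even n) :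
    (∃ g : Matrix.ProjectiveSpecialLinearGroup (Fin n) F, orderOf g = q ^ (n / 2) + 1) ↔
      padicValNat 2 (q - 1) < padicValNat 2 n := by
  classical
  obtain ⟨p, hp⟩ := CharP.exists F
  haveI := hp
  haveI : Fact p.Prime := ⟨CharP.char_is_prime F p⟩
  have hpp : p.Prime := Fact.out
  subst hF
  have hq1 : 1 < Fintype.card F := Fintype.one_lt_card
  have hq3 : 3 ≤ Fintype.card F := by
    obtain ⟨t, ht⟩ := hodd
    omega
  obtain ⟨m, hm⟩ := heven
  have hm2 : n = 2 * m := by omega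
  subst hm2
  have hnm : 2 * m / 2 = m := by omega
  rw [hnm]
  have hm0 : m ≠ 0 := by omega
  have hQ0 : Fintype.card F - 1 ≠ 0 := by omega
  rw [← gcd_dvd_iff m (Fintype.card F - 1) hm0 hQ0]
  -- the numbers `M'`, `M`, `g`
  obtain ⟨M', hM'⟩ : ∃ M', M' = ∑ i ∈ Finset.range m, Fintype.card F ^ i := ⟨_, rfl⟩
  obtain ⟨g, hg⟩ : ∃ g, g = Nat.gcd (2 * m) (Fintype.card F - 1) := ⟨_, rfl⟩
  rw [← hg]
  have hgQ : g ∣ Fintype.card F - 1 := hg ▸ Nat.gcd_dvd_right _ _
  have hg0 : 0 < g := Nat.pos_of_ne_zero (hg ▸ Nat.gcd_ne_zero_right hQ0)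
  have hgM'_iff : g ∣ M' ↔ g ∣ m := by
    rw [hM']
    exact (geom_modEq (Fintype.card F) g hgQ hq1.le m).dvd_iff dvd_rfl
  have hsplit : ∑ i ∈ Finset.range (2 * m), Fintype.card F ^ i = (Fintype.card F ^ m + 1) * M' := by
    rw [hM', geom_split]
  have hgcdM : Nat.gcd (∑ i ∈ Finset.range (2 * m), Fintype.card F ^ i) (Fintype.card F - 1) = g := by
    rw [hg]
    exact (geom_modEq (Fintype.card F) (Fintype.card F - 1) dvd_rfl hq1.le (2 * m)).gcd_eq
  have hcardpow : Fintype.card F ^ (2 * m) - 1 =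
      (Fintype.card F - 1) * ((Fintype.card F ^ m + 1) * M') := by
    rw [← hsplit, geom_mul _ _ hq1.le]
  have hqm1 : 1 ≤ Fintype.card F ^ m := Nat.one_le_pow _ _ (by omega)
  constructor
  · -- nonexistence unless `g ∣ m`
    rintro ⟨g₀, hg₀⟩
    obtain ⟨A, rfl⟩ := QuotientGroup.mk_surjective g₀
    have hAj : ∀ j : ℕ, (∃ c : F, (A : Matrix (Fin (2 * m)) (Fin (2 * m)) F) ^ j = c • 1) →
        Fintype.card F ^ m + 1 ∣ j := by
      intro j hj
      rw [← hg₀]
      apply orderOf_dvd_of_pow_eq_one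
      rw [psl_pow_eq_one_iff]
      exact hj
    obtain ⟨c, hc0, hAc⟩ : ∃ c : F, c ≠ 0 ∧
        (A : Matrix (Fin (2 * m)) (Fin (2 * m)) F) ^ (Fintype.card F ^ m + 1) = c • 1 := by
      have h1 := pow_orderOf_eq_one (QuotientGroup.mk A :
        Matrix.ProjectiveSpecialLinearGroup (Fin (2 * m)) F)
      rw [hg₀, psl_pow_eq_one_iff] at h1
      obtain ⟨c, hc⟩ := h1
      refine ⟨c, ?_, hc⟩
      rintro rfl
      haveI : Nonempty (Fin (2 * m)) := ⟨⟨0, by omega⟩⟩
      have h2 := congrArg Matrix.det hc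
      rw [Matrix.det_pow, A.det_coe, one_pow, zero_smul, Matrix.det_zero] at h2
      exact one_ne_zero h2
    -- a primitive prime divisor
    obtain ⟨r, hr, hrdvd, hrprim⟩ := S2904.result (Fintype.card F) (2 * m) hq1 (by omega)
      (by omega) (by omega)
    haveI : Fact r.Prime := ⟨hr⟩
    have hrp : r ≠ p := by
      rintro rfl
      have h1 : r ∣ Fintype.card F := by
        obtain ⟨a, -, ha⟩ := FiniteField.card F r
        rw [ha]
        exact dvd_pow_self r a.ne_zero
      have h2 : r ∣ Fintype.card F ^ (2 * m) := Dvd.dvd.pow h1 (by omega)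
      have h3 := Nat.dvd_sub h2 hrdvd
      have h4 : 1 ≤ Fintype.card F ^ (2 * m) := Nat.one_le_pow _ _ (by omega)
      rw [show Fintype.card F ^ (2 * m) - (Fintype.card F ^ (2 * m) - 1) = 1 by omega] at h3
      exact hr.one_lt.ne' (Nat.dvd_one.mp h3)
    have hord : orderOf ((Fintype.card F : ℕ) : ZMod r) = 2 * m := by
      have h1 : orderOf ((Fintype.card F : ℕ) : ZMod r) ∣ 2 * m := by
        rw [orderOf_dvd_iff_pow_eq_one]
        have h5 := (ZMod.natCast_eq_zero_iff _ r).mpr hrdvd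
        rw [Nat.cast_sub (Nat.one_le_pow _ _ (by omega)), Nat.cast_one, sub_eq_zero,
          Nat.cast_pow] at h5
        exact h5
      have h2 := ff_orderOf_pos (F := F) p r hrp
      have h3 := ff_dvd_pow_sub_one (F := F) r
      have h4 : ¬ orderOf ((Fintype.card F : ℕ) : ZMod r) < 2 * m := fun h => hrprim _ h2 h h3
      have h5 := Nat.le_of_dvd (by omega) h1
      omega
    have hrqm : r ∣ Fintype.card F ^ m + 1 := by
      have h1 : Fintype.card F ^ (2 * m) - 1 = (Fintype.card F ^ m - 1) * (Fintype.card F ^ m + 1) := by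
        rw [mul_comm 2 m, pow_mul]
        obtain ⟨t, ht⟩ := Nat.exists_eq_add_of_le hqm1
        rw [ht, Nat.add_sub_cancel_left]
        apply Nat.sub_eq_of_eq_add
        ring
      rw [h1] at hrdvd
      rcases hr.dvd_mul.mp hrdvd with h | h
      · exact absurd h (hrprim m (by omega) (by omega))
      · exact h
    obtain ⟨e₀, he₀⟩ := hrqm
    have he₀0 : e₀ ≠ 0 := by
      rintro rfl
      omega
    have hA' : ((A : Matrix (Fin (2 * m)) (Fin (2 * m)) F) ^ e₀) ^ r = c • 1 := by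
      rw [← pow_mul, mul_comm e₀ r, ← he₀]
      exact hAc
    have hAe : ¬ ∃ c' : F, (A : Matrix (Fin (2 * m)) (Fin (2 * m)) F) ^ e₀ = c' • 1 := by
      intro h
      have h1 := hAj e₀ h
      rw [he₀] at h1
      have h2 : r * e₀ ∣ 1 * e₀ := by rwa [one_mul]
      have h3 := Nat.dvd_of_mul_dvd_mul_right (Nat.pos_of_ne_zero he₀0) h2
      exact hr.one_lt.ne' (Nat.dvd_one.mp h3)
    have hirr := irr_charpoly (F := F) p r hrp hord (by omega) (A : Matrix (Fin (2 * m)) (Fin (2 * m)) F)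
      e₀ c hc0 hA' hAe
    obtain ⟨c', hc'⟩ := scalar_pow_of_irr (F := F) (A : Matrix (Fin (2 * m)) (Fin (2 * m)) F)
      A.det_coe hirr
    rw [hgcdM, hsplit] at hc'
    have h1 := hAj _ ⟨c', hc'⟩
    have hgM : g ∣ (Fintype.card F ^ m + 1) * M' := by
      rw [← hsplit, ← hgcdM]
      exact Nat.gcd_dvd_left _ _
    have h2 : (Fintype.card F ^ m + 1) * g ∣ (Fintype.card F ^ m + 1) * M' := by
      rw [mul_comm (Fintype.card F ^ m + 1) g]
      exact Nat.mul_dvd_of_dvd_div hgM h1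
    exact hgM'_iff.mp (Nat.dvd_of_mul_dvd_mul_left (by omega) h2)
  · -- existence when `g ∣ m`
    intro hgm
    obtain ⟨w, hw⟩ := hgM'_iff.mpr hgm
    obtain ⟨u, hu⟩ := hgQ
    have hcop : Nat.Coprime (Fintype.card F ^ m + 1) u := by
      have h1 : Nat.Coprime ((∑ i ∈ Finset.range (2 * m), Fintype.card F ^ i) / g)
          ((Fintype.card F - 1) / g) := by
        have h2 := Nat.coprime_div_gcd_div_gcd (m := ∑ i ∈ Finset.range (2 * m), Fintype.card F ^ i)
          (n := Fintype.card F - 1) (by rw [hgcdM]; exact hg0)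
        rwa [hgcdM] at h2
      rw [hsplit, hw, hu, Nat.mul_div_cancel_left _ hg0,
        show (Fintype.card F ^ m + 1) * (g * w) = g * ((Fintype.card F ^ m + 1) * w) by ring,
        Nat.mul_div_cancel_left _ hg0] at h1
      exact Nat.Coprime.coprime_dvd_left (Dvd.intro _ rfl) h1
    haveI : NeZero (2 * m) := ⟨by omega⟩
    let K := FiniteField.Extension F p (2 * m)
    have hfr : Module.finrank F K = 2 * m := FiniteField.finrank_extension F p (2 * m)
    have hcard : Nat.card K = Fintype.card F ^ (2 * m) := by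
      rw [FiniteField.natCard_extension, Nat.card_eq_fintype_card]
    let b : Module.Basis (Fin (2 * m)) F K := Module.finBasisOfFinrankEq F K hfr
    haveI : Fintype K := Fintype.ofFinite K
    obtain ⟨ζ, hζ⟩ := IsCyclic.exists_generator (α := Kˣ)
    have hordζ : orderOf (ζ : K) = Fintype.card F ^ (2 * m) - 1 := by
      rw [orderOf_units, orderOf_eq_card_of_forall_mem_zpowers hζ, Nat.card_units, hcard]
    obtain ⟨θ, hθ⟩ : ∃ θ : K, θ = (ζ : K) ^ ((Fintype.card F - 1) * w) := ⟨_, rfl⟩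
    have hθ0 : θ ≠ 0 := by
      rw [hθ]
      exact pow_ne_zero _ ζ.ne_zero
    have hnorm : Algebra.norm F θ = 1 := by
      apply (algebraMap F K).injective
      rw [ff_norm_pow, hfr, map_one, hsplit, hθ, ← pow_mul]
      have h1 : (Fintype.card F - 1) * w * ((Fintype.card F ^ m + 1) * M') =
          (Fintype.card F ^ (2 * m) - 1) * w := by
        rw [hcardpow]
        ring
      rw [h1, pow_mul, ← hordζ, pow_orderOf_eq_one, one_pow]
    have hdet : (Algebra.leftMulMatrix b θ).det = 1 := by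
      rw [← Algebra.norm_eq_matrix_det b θ, hnorm]
    obtain ⟨U, hU⟩ : ∃ U : Matrix.SpecialLinearGroup (Fin (2 * m)) F,
        (U : Matrix (Fin (2 * m)) (Fin (2 * m)) F) = Algebra.leftMulMatrix b θ := ⟨⟨_, hdet⟩, rfl⟩
    refine ⟨QuotientGroup.mk U, ?_⟩
    apply orderOf_eq_of_forall_iff
    intro j
    rw [psl_pow_eq_one_iff, hU, ← map_pow]
    simp only [leftMul_eq_smul_one_iff]
    have h1 : (∃ c : F, θ ^ j = algebraMap F K c) ↔ (θ ^ j) ^ (Fintype.card F - 1) = 1 := by
      rw [← ff_mem_range_iff (F := F) (θ ^ j) (pow_ne_zero _ hθ0)]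
      exact ⟨fun ⟨c, hc⟩ => ⟨c, hc.symm⟩, fun ⟨c, hc⟩ => ⟨c, hc.symm⟩⟩
    rw [h1, hθ, ← pow_mul, ← pow_mul, ← orderOf_dvd_iff_pow_eq_one, hordζ, hcardpow, hw]
    obtain ⟨Q1, hQ1⟩ : ∃ Q1, Q1 = Fintype.card F - 1 := ⟨_, rfl⟩
    rw [← hQ1] at hu ⊢
    have hQ1pos : 0 < Q1 := by omega
    have hwpos : 0 < w := by
      rcases Nat.eq_zero_or_pos w with h | h
      · rw [h, mul_zero] at hw
        rw [hw, mul_zero] at hsplit
        have h5 : 0 < ∑ i ∈ Finset.range (2 * m), Fintype.card F ^ i := by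
          apply Finset.sum_pos
          · intro i _
            exact Nat.pos_of_ne_zero (pow_ne_zero _ (by omega))
          · exact ⟨0, Finset.mem_range.mpr (by omega)⟩
        omega
      · exact h
    have e1 : Q1 * ((Fintype.card F ^ m + 1) * (g * w)) =
        (Q1 * w * g) * (Fintype.card F ^ m + 1) := by ring
    have e2 : Q1 * w * (j * Q1) = (Q1 * w * g) * (u * j) := by
      rw [hu]
      ring
    rw [e1, e2, Nat.mul_dvd_mul_iff_left (by positivity)]
    exact ⟨fun h => hcop.dvd_of_dvd_mul_left h, fun h => Dvd.dvd.mul_left h u⟩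

end Cfsg.Agent.S2495
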