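import Cfsg.Statements.S2510
import Cfsg.Agent.Lib.Helper49.Twist

set_option autoImplicit false
set_option linter.style.haveILetI false
open Cfsg

namespace Cfsg.Agent.S2510

open Cfsg.Agent.Lib.Helper49

/-- element orders are closed under divisors -/
theorem spec_dvd_closed {X : Type*} [Group X] [Finite X] {n d : ℕ}
    (hn : n ∈ Set.range (orderOf : X → ℕ)) (hd : d ∣ n) : d ∈ Set.range (orderOf : X → ℕ) := by
  obtain ⟨x, rfl⟩ := hn
  have hpos : 0 < orderOf x := orderOf_pos x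
  obtain ⟨e, he⟩ := hd
  have he0 : e ≠ 0 := by
    rintro rfl
    rw [mul_zero] at he
    omega
  refine ⟨x ^ e, ?_⟩
  rw [orderOf_pow_of_dvd he0 ⟨d, by rw [he, mul_comm]⟩, he]
  exact Nat.mul_div_cancel _ (Nat.pos_of_ne_zero he0)

theorem prod_dvd_iff {X Y : Type*} [Group X] [Group Y] (x : X) (y : Y) (d : ℕ) :
    orderOf (x, y) ∣ d ↔ orderOf x ∣ d ∧ orderOf y ∣ d := by
  rw [Prod.orderOf, Nat.lcm_dvd_iff]

theorem zr_order (r m : ℕ) (ε : Multiplicative (Fin m → ZMod r)) : orderOf ε ∣ r := by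
  apply orderOf_dvd_of_pow_eq_one
  have h1 : ε ^ r = Multiplicative.ofAdd (r • Multiplicative.toAdd ε) := rfl
  rw [h1]
  have h0 : r • Multiplicative.toAdd ε = 0 := by
    funext i
    simp
  rw [h0]
  rfl

/-- abstract covering argument, three factors -/
theorem abs3 {L : Type*} [Group L] [Finite L] (r m : ℕ) (y₀ u₀ yr : L) (hyr : r ∣ orderOf yr)
    (hD : ∀ x : L, (∃ y : L, Nat.lcm (orderOf x) r ∣ orderOf y) ∨
      orderOf x ∣ Nat.lcm (orderOf y₀) (orderOf u₀)) :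
    Set.range (orderOf : L × L × L × Multiplicative (Fin m → ZMod r) → ℕ) =
      Set.range (orderOf : L × L × L → ℕ) := by
  apply Set.eq_of_subset_of_subset
  · rintro _ ⟨⟨x₁, x₂, x₃, ε⟩, rfl⟩
    have hε := zr_order r m ε
    have key : ∀ y₁ y₂ y₃ : L, orderOf x₁ ∣ orderOf (y₁, y₂, y₃) →
        orderOf x₂ ∣ orderOf (y₁, y₂, y₃) → orderOf x₃ ∣ orderOf (y₁, y₂, y₃) →
        r ∣ orderOf (y₁, y₂, y₃) →
        orderOf (x₁, x₂, x₃, ε) ∈ Set.range (orderOf : L × L × L → ℕ) := by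
      intro y₁ y₂ y₃ h1 h2 h3 h4
      apply spec_dvd_closed ⟨(y₁, y₂, y₃), rfl⟩
      rw [prod_dvd_iff, prod_dvd_iff, prod_dvd_iff]
      exact ⟨h1, h2, h3, dvd_trans hε h4⟩
    have d1 : ∀ y₁ y₂ y₃ : L, orderOf y₁ ∣ orderOf (y₁, y₂, y₃) := fun y₁ y₂ y₃ =>
      ((prod_dvd_iff y₁ (y₂, y₃) _).mp dvd_rfl).1
    have d2 : ∀ y₁ y₂ y₃ : L, orderOf y₂ ∣ orderOf (y₁, y₂, y₃) := fun y₁ y₂ y₃ =>
      ((prod_dvd_iff y₂ y₃ _).mp ((prod_dvd_iff y₁ (y₂, y₃) _).mp dvd_rfl).2).1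
    have d3 : ∀ y₁ y₂ y₃ : L, orderOf y₃ ∣ orderOf (y₁, y₂, y₃) := fun y₁ y₂ y₃ =>
      ((prod_dvd_iff y₂ y₃ _).mp ((prod_dvd_iff y₁ (y₂, y₃) _).mp dvd_rfl).2).2
    rcases hD x₁ with ⟨y, hy⟩ | h1
    · exact key y x₂ x₃ (dvd_trans (Nat.dvd_lcm_left _ _) (dvd_trans hy (d1 _ _ _))) (d2 _ _ _)
        (d3 _ _ _) (dvd_trans (Nat.dvd_lcm_right _ _) (dvd_trans hy (d1 _ _ _)))
    rcases hD x₂ with ⟨y, hy⟩ | h2
    · exact key x₁ y x₃ (d1 _ _ _) (dvd_trans (Nat.dvd_lcm_left _ _) (dvd_trans hy (d2 _ _ _)))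
        (d3 _ _ _) (dvd_trans (Nat.dvd_lcm_right _ _) (dvd_trans hy (d2 _ _ _)))
    rcases hD x₃ with ⟨y, hy⟩ | h3
    · exact key x₁ x₂ y (d1 _ _ _) (d2 _ _ _)
        (dvd_trans (Nat.dvd_lcm_left _ _) (dvd_trans hy (d3 _ _ _)))
        (dvd_trans (Nat.dvd_lcm_right _ _) (dvd_trans hy (d3 _ _ _)))
    · have hlcm : Nat.lcm (orderOf y₀) (orderOf u₀) ∣ orderOf (y₀, u₀, yr) :=
        Nat.lcm_dvd (d1 _ _ _) (d2 _ _ _)
      exact key y₀ u₀ yr (dvd_trans h1 hlcm) (dvd_trans h2 hlcm) (dvd_trans h3 hlcm)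
        (dvd_trans hyr (d3 _ _ _))
  · rintro _ ⟨⟨x₁, x₂, x₃⟩, rfl⟩
    refine ⟨(x₁, x₂, x₃, 1), ?_⟩
    simp [Prod.orderOf]

/-- abstract covering argument, two factors -/
theorem abs2 {L : Type*} [Group L] [Finite L] (r m : ℕ) (y₀ u₀ u₁ : L)
    (hu₁ : Nat.lcm (orderOf u₀) r ∣ orderOf u₁)
    (hD : ∀ x : L, (∃ y : L, Nat.lcm (orderOf x) r ∣ orderOf y) ∨
      orderOf x ∣ Nat.lcm (orderOf y₀) (orderOf u₀)) :
    Set.range (orderOf : L × L × Multiplicative (Fin m → ZMod r) → ℕ) =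
      Set.range (orderOf : L × L → ℕ) := by
  apply Set.eq_of_subset_of_subset
  · rintro _ ⟨⟨x₁, x₂, ε⟩, rfl⟩
    have hε := zr_order r m ε
    have key : ∀ y₁ y₂ : L, orderOf x₁ ∣ orderOf (y₁, y₂) →
        orderOf x₂ ∣ orderOf (y₁, y₂) → r ∣ orderOf (y₁, y₂) →
        orderOf (x₁, x₂, ε) ∈ Set.range (orderOf : L × L → ℕ) := by
      intro y₁ y₂ h1 h2 h4
      apply spec_dvd_closed ⟨(y₁, y₂), rfl⟩
      rw [prod_dvd_iff, prod_dvd_iff]
      exact ⟨h1, h2, dvd_trans hε h4⟩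
    have d1 : ∀ y₁ y₂ : L, orderOf y₁ ∣ orderOf (y₁, y₂) := fun y₁ y₂ =>
      ((prod_dvd_iff y₁ y₂ _).mp dvd_rfl).1
    have d2 : ∀ y₁ y₂ : L, orderOf y₂ ∣ orderOf (y₁, y₂) := fun y₁ y₂ =>
      ((prod_dvd_iff y₁ y₂ _).mp dvd_rfl).2
    rcases hD x₁ with ⟨y, hy⟩ | h1
    · exact key y x₂ (dvd_trans (Nat.dvd_lcm_left _ _) (dvd_trans hy (d1 _ _))) (d2 _ _)
        (dvd_trans (Nat.dvd_lcm_right _ _) (dvd_trans hy (d1 _ _)))
    rcases hD x₂ with ⟨y, hy⟩ | h2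
    · exact key x₁ y (d1 _ _) (dvd_trans (Nat.dvd_lcm_left _ _) (dvd_trans hy (d2 _ _)))
        (dvd_trans (Nat.dvd_lcm_right _ _) (dvd_trans hy (d2 _ _)))
    · have hu : orderOf u₀ ∣ orderOf u₁ := dvd_trans (Nat.dvd_lcm_left _ _) hu₁
      have hlcm : Nat.lcm (orderOf y₀) (orderOf u₀) ∣ orderOf (y₀, u₁) :=
        Nat.lcm_dvd (d1 _ _) (dvd_trans hu (d2 _ _))
      exact key y₀ u₁ (dvd_trans h1 hlcm) (dvd_trans h2 hlcm)
        (dvd_trans (dvd_trans (Nat.dvd_lcm_right _ _) hu₁) (d2 _ _))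
  · rintro _ ⟨⟨x₁, x₂⟩, rfl⟩
    refine ⟨(x₁, x₂, 1), ?_⟩
    simp [Prod.orderOf]

section psl

variable {F : Type*} [Field F] [Fintype F]

theorem exists_zeta (r : ℕ) (hr : r.Prime) (hrq : r ∣ Fintype.card F - 1) :
    ∃ ζ : F, ζ ^ r = 1 ∧ ζ ≠ 1 := by
  classical
  haveI : Fact r.Prime := ⟨hr⟩
  have hcard : r ∣ Fintype.card Fˣ := by
    rw [Fintype.card_units]
    exact hrq
  obtain ⟨u, hu⟩ := exists_prime_orderOf_dvd_card r hcard
  refine ⟨(u : F), ?_, ?_⟩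
  · rw [← Units.val_pow_eq_pow_val, ← hu, pow_orderOf_eq_one, Units.val_one]
  · intro h
    have h1 : u = 1 := Units.ext h
    rw [h1, orderOf_one] at hu
    exact hr.one_lt.ne hu

open Polynomial in
/-- the dichotomy: either the order can be multiplied by `r`, or it divides the lcm of the
orders of a Singer element and of a `p`-element of maximal order -/
theorem dichotomy (p : ℕ) [Fact p.Prime] [CharP F p] {n : ℕ} (hn : 2 ≤ n) (r : ℕ) (hr : r.Prime)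
    (hrq : r ∣ Fintype.card F - 1) (hrn : ¬ r ∣ n)
    (y₀ u₀ : Matrix.ProjectiveSpecialLinearGroup (Fin n) F)
    (hy₀ : (∑ i ∈ Finset.range n, Fintype.card F ^ i) /
      Nat.gcd (∑ i ∈ Finset.range n, Fintype.card F ^ i) (Fintype.card F - 1) ∣ orderOf y₀)
    (hu₀ : ∀ (x : Matrix.ProjectiveSpecialLinearGroup (Fin n) F) (t : ℕ),
      orderOf x = p ^ t → p ^ t ∣ orderOf u₀)
    (x : Matrix.ProjectiveSpecialLinearGroup (Fin n) F) :
    (∃ y : Matrix.ProjectiveSpecialLinearGroup (Fin n) F, Nat.lcm (orderOf x) r ∣ orderOf y) ∨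
      orderOf x ∣ Nat.lcm (orderOf y₀) (orderOf u₀) := by
  classical
  have hpp : p.Prime := Fact.out
  by_cases hrx : r ∣ orderOf x
  · exact Or.inl ⟨x, Nat.lcm_dvd dvd_rfl hrx⟩
  obtain ⟨g, rfl⟩ := QuotientGroup.mk_surjective x
  have hk0 : orderOf g ≠ 0 := (orderOf_pos g).ne'
  obtain ⟨t, m, hm, hkt⟩ := Nat.exists_eq_pow_mul_and_not_dvd hk0 p hpp.ne_one
  obtain ⟨h, hh⟩ : ∃ h : Matrix (Fin n) (Fin n) F,
      h = (g : Matrix (Fin n) (Fin n) F) ^ (p ^ t) := ⟨_, rfl⟩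
  have hhm : h ^ m = 1 := by
    rw [hh, ← pow_mul, ← hkt, ← Matrix.SpecialLinearGroup.coe_pow, pow_orderOf_eq_one,
      Matrix.SpecialLinearGroup.coe_one]
  by_cases hirr : Irreducible (minpoly F h)
  · right
    have hdet : h.det = 1 := by rw [hh, Matrix.det_pow, g.det_coe, one_pow]
    obtain ⟨c, hc⟩ := scalar_pow_of_minpoly_irr h hdet hirr
    obtain ⟨N₀, hN₀⟩ : ∃ N₀, N₀ = (∑ i ∈ Finset.range n, Fintype.card F ^ i) /
      Nat.gcd (∑ i ∈ Finset.range n, Fintype.card F ^ i) (Fintype.card F - 1) := ⟨_, rfl⟩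
    rw [← hN₀] at hc hy₀
    obtain ⟨a₀, ha₀⟩ : ∃ a₀, a₀ = orderOf
        (QuotientGroup.mk g : Matrix.ProjectiveSpecialLinearGroup (Fin n) F) := ⟨_, rfl⟩
    rw [← ha₀]
    have ha₀pos : a₀ ≠ 0 := by
      rw [ha₀]
      exact (orderOf_pos _).ne'
    obtain ⟨t', m', hm', hat⟩ := Nat.exists_eq_pow_mul_and_not_dvd ha₀pos p hpp.ne_one
    have h1 : p ^ t' ∣ orderOf u₀ := by
      apply hu₀ ((QuotientGroup.mk g : Matrix.ProjectiveSpecialLinearGroup (Fin n) F) ^ m') t'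
      have hm'0 : m' ≠ 0 := by
        rintro rfl
        exact hm' (dvd_zero p)
      rw [orderOf_pow_of_dvd hm'0 (by rw [← ha₀, hat]; exact Dvd.intro_left _ rfl), ← ha₀, hat]
      exact Nat.mul_div_cancel _ (Nat.pos_of_ne_zero hm'0)
    have h2 : m' ∣ N₀ := by
      have h3 : (QuotientGroup.mk g : Matrix.ProjectiveSpecialLinearGroup (Fin n) F) ^
          (p ^ t * N₀) = 1 := by
        rw [pow_mul, ← QuotientGroup.mk_pow, psl_pow_eq_one_iff,
          Matrix.SpecialLinearGroup.coe_pow, ← hh]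
        exact ⟨c, hc⟩
      have h4 : a₀ ∣ p ^ t * N₀ := by
        rw [ha₀]
        exact orderOf_dvd_of_pow_eq_one h3
      have h5 : m' ∣ p ^ t * N₀ := dvd_trans (by rw [hat]; exact Dvd.intro_left _ rfl) h4
      have hcop : Nat.Coprime m' (p ^ t) :=
        Nat.Coprime.pow_right t ((Nat.Prime.coprime_iff_not_dvd hpp).mpr hm').symm
      exact hcop.dvd_of_dvd_mul_left h5
    rw [hat]
    have hcop2 : Nat.Coprime (p ^ t') m' :=
      Nat.Coprime.pow_left t' ((Nat.Prime.coprime_iff_not_dvd hpp).mpr hm')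
    exact hcop2.mul_dvd_of_dvd_of_dvd (dvd_trans h1 (Nat.dvd_lcm_right _ _))
      (dvd_trans (dvd_trans h2 hy₀) (Nat.dvd_lcm_left _ _))
  · left
    obtain ⟨ζ, hζr, hζ1⟩ := exists_zeta (F := F) r hr hrq
    obtain ⟨φ, hφr, hφns⟩ :=
      exists_twist_of_reducible p (by omega) h m hm hhm hirr ζ r hζr hζ1
    have hcomm : aeval h φ * (g : Matrix (Fin n) (Fin n) F) =
        (g : Matrix (Fin n) (Fin n) F) * aeval h φ := by
      rw [hh]
      exact aeval_pow_comm _ _ _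
    obtain ⟨y, hy⟩ := twist_order r hr hrn g (aeval h φ) hcomm hφr hφns hrx
    exact ⟨y, dvd_trans (Nat.lcm_dvd (Dvd.intro_left r rfl) (Dvd.intro _ rfl)) hy⟩

theorem exists_y0 (p : ℕ) [Fact p.Prime] [CharP F p] {n : ℕ} (hn : n ≠ 0) :
    ∃ y₀ : Matrix.ProjectiveSpecialLinearGroup (Fin n) F,
      (∑ i ∈ Finset.range n, Fintype.card F ^ i) /
        Nat.gcd (∑ i ∈ Finset.range n, Fintype.card F ^ i) (Fintype.card F - 1) ∣
        orderOf y₀ := by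
  obtain ⟨T, hdet, hT⟩ := exists_singer_full (F := F) p n hn
  obtain ⟨u, hu⟩ : ∃ u : Matrix.SpecialLinearGroup (Fin n) F,
      (u : Matrix (Fin n) (Fin n) F) = T := ⟨⟨T, hdet⟩, rfl⟩
  refine ⟨QuotientGroup.mk u, ?_⟩
  have h1 := pow_orderOf_eq_one
    (QuotientGroup.mk u : Matrix.ProjectiveSpecialLinearGroup (Fin n) F)
  rw [psl_pow_eq_one_iff, hu] at h1
  obtain ⟨c, hc⟩ := h1
  exact hT _ c hc

theorem exists_u0 (L : Type*) [Group L] [Finite L] (p : ℕ) (hp : p.Prime) :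
    ∃ (u₀ : L) (t₀ : ℕ), orderOf u₀ = p ^ t₀ ∧
      ∀ (x : L) (t : ℕ), orderOf x = p ^ t → p ^ t ∣ orderOf u₀ := by
  obtain ⟨u₀, hu₀⟩ := hp.exists_orderOf_eq_pow_factorization_exponent L
  refine ⟨u₀, _, hu₀, fun x t hx => ?_⟩
  rw [hu₀]
  apply pow_dvd_pow
  rw [← Nat.Prime.pow_dvd_iff_le_factorization hp Monoid.exponent_ne_zero_of_finite, ← hx]
  exact Monoid.order_dvd_exponent x

omit [Fintype F] in
theorem bdiag_mul {a b : ℕ} (A A' : Matrix (Fin a) (Fin a) F) (B B' : Matrix (Fin b) (Fin b) F) :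
    bdiag A B * bdiag A' B' = bdiag (A * A') (B * B') := by
  unfold bdiag
  rw [← map_mul, Matrix.fromBlocks_multiply]
  simp

/-- elements of `PSL_{k+1}` of order divisible by `r * p ^ t` -/
theorem exists_unip_twist (p : ℕ) [Fact p.Prime] [CharP F p] (k : ℕ) (hk : 1 ≤ k) (r : ℕ)
    (hr : r.Prime) (hrq : r ∣ Fintype.card F - 1) (hrn : ¬ r ∣ k + 1) (hrp : r ≠ p)
    (t : ℕ) (ht : t = 0 ∨ p ^ (t - 1) < k) :
    ∃ y : Matrix.ProjectiveSpecialLinearGroup (Fin (k + 1)) F, r * p ^ t ∣ orderOf y := by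
  classical
  have hpp : p.Prime := Fact.out
  obtain ⟨ζ, hζr, hζ1⟩ := exists_zeta (F := F) r hr hrq
  obtain ⟨J, hJdet, hJ⟩ := exists_jordan (F := F) p k
  have hone : ∀ c : F, (1 : Matrix (Fin 1) (Fin 1) F) = c • 1 → c = 1 := by
    intro c hc
    have h1 := congrFun (congrFun hc 0) 0
    simp at h1
    exact h1.symm
  have hgdet : (bdiag J (1 : Matrix (Fin 1) (Fin 1) F)).det = 1 := by
    rw [bdiag_det, hJdet, Matrix.det_one, mul_one]
  obtain ⟨gs, hgs⟩ : ∃ gs : Matrix.SpecialLinearGroup (Fin (k + 1)) F,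
      (gs : Matrix (Fin (k + 1)) (Fin (k + 1)) F) = bdiag J 1 := ⟨⟨_, hgdet⟩, rfl⟩
  obtain ⟨z₀, hz₀⟩ : ∃ z₀ : Matrix (Fin (k + 1)) (Fin (k + 1)) F,
      z₀ = bdiag (ζ • (1 : Matrix (Fin k) (Fin k) F)) (1 : Matrix (Fin 1) (Fin 1) F) :=
    ⟨_, rfl⟩
  have hcomm : z₀ * (gs : Matrix (Fin (k + 1)) (Fin (k + 1)) F) =
      (gs : Matrix (Fin (k + 1)) (Fin (k + 1)) F) * z₀ := by
    rw [hgs, hz₀, bdiag_mul, bdiag_mul]
    simp
  have hz : z₀ ^ r = 1 := by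
    rw [hz₀, bdiag_pow, smul_pow, one_pow, one_pow, hζr, one_smul, bdiag_one]
  have hns : ¬ ∃ c : F, z₀ = c • 1 := by
    rintro ⟨c, hc⟩
    rw [hz₀, bdiag_eq_smul_one_iff] at hc
    have hc1 := hone c hc.2
    have h1 := congrFun (congrFun hc.1 ⟨0, by omega⟩) ⟨0, by omega⟩
    simp at h1
    exact hζ1 (h1.trans hc1)
  obtain ⟨o₁, ho₁⟩ : ∃ o₁, o₁ = orderOf
      (QuotientGroup.mk gs : Matrix.ProjectiveSpecialLinearGroup (Fin (k + 1)) F) := ⟨_, rfl⟩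
  have hpow_iff : ∀ s : ℕ, (QuotientGroup.mk gs :
      Matrix.ProjectiveSpecialLinearGroup (Fin (k + 1)) F) ^ (p ^ s) = 1 ↔ k ≤ p ^ s := by
    intro s
    rw [psl_pow_eq_one_iff, hgs, bdiag_pow, one_pow, ← hJ]
    constructor
    · rintro ⟨c, hc⟩
      rw [bdiag_eq_smul_one_iff] at hc
      rw [hc.1, hone c hc.2, one_smul]
    · intro h
      exact ⟨1, by rw [h, bdiag_one, one_smul]⟩
  have ho₁dvd : o₁ ∣ p ^ k := by
    rw [ho₁]
    exact orderOf_dvd_of_pow_eq_one ((hpow_iff k).mpr (Nat.lt_pow_self hpp.one_lt).le)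
  obtain ⟨s₁, -, hs₁⟩ := (Nat.dvd_prime_pow hpp).mp ho₁dvd
  have hts : t ≤ s₁ := by
    rcases ht with rfl | ht
    · exact Nat.zero_le _
    · by_contra hcon
      have h1 : o₁ ∣ p ^ (t - 1) := by
        rw [hs₁]
        exact pow_dvd_pow p (by omega)
      rw [ho₁, orderOf_dvd_iff_pow_eq_one, hpow_iff] at h1
      omega
  have hro : ¬ r ∣ orderOf
      (QuotientGroup.mk gs : Matrix.ProjectiveSpecialLinearGroup (Fin (k + 1)) F) := by
    rw [← ho₁, hs₁]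
    intro h
    exact hrp ((Nat.prime_dvd_prime_iff_eq hr hpp).mp (hr.dvd_of_dvd_pow h))
  obtain ⟨y, hy⟩ := twist_order r hr hrn gs z₀ hcomm hz hns hro
  refine ⟨y, dvd_trans ?_ hy⟩
  rw [← ho₁, hs₁]
  exact Nat.mul_dvd_mul_left r (pow_dvd_pow p hts)

end psl

/-- Let F be a finite field with q = p^a elements, n ≥ 2 (with q ≥ 4 when n = 2), L = PSL(n, F), and let r be a prime dividing q − 1 and not dividing n. Then for every m the direct product L × L × L × (ℤ/r)^m has the same set of element orders as L × L × L; and if n − 1 ≠ p^j for every j ≥ 0 (so never when n = 2, since 1 = p^0), then already L × L × (ℤ/r)^m has the same set of element orders as L × L. -/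
theorem result {F : Type*} [Field F] [Fintype F] (p a n r m : ℕ) (hp : p.Prime) (ha : 1 ≤ a) (hF : Fintype.card F = p ^ a)
    (hn : 2 ≤ n) (hn2 : n = 2 → 4 ≤ Fintype.card F) (hr : r.Prime) (hrq : r ∣ Fintype.card F - 1) (hrn : ¬ r ∣ n) :
    Set.range (orderOf : Matrix.ProjectiveSpecialLinearGroup (Fin n) F × Matrix.ProjectiveSpecialLinearGroup (Fin n) F × Matrix.ProjectiveSpecialLinearGroup (Fin n) F × Multiplicative (Fin m → ZMod r) → ℕ) =
      Set.range (orderOf : Matrix.ProjectiveSpecialLinearGroup (Fin n) F × Matrix.ProjectiveSpecialLinearGroup (Fin n) F × Matrix.ProjectiveSpecialLinearGroup (Fin n) F → ℕ) ∧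
    ((¬ ∃ j : ℕ, n - 1 = p ^ j) →
      Set.range (orderOf : Matrix.ProjectiveSpecialLinearGroup (Fin n) F × Matrix.ProjectiveSpecialLinearGroup (Fin n) F × Multiplicative (Fin m → ZMod r) → ℕ) =
        Set.range (orderOf : Matrix.ProjectiveSpecialLinearGroup (Fin n) F × Matrix.ProjectiveSpecialLinearGroup (Fin n) F → ℕ)) := by
  classical
  haveI : Fact p.Prime := ⟨hp⟩
  haveI : CharP F p := charP_of_card_eq_prime_pow hF
  obtain ⟨k, rfl⟩ : ∃ k, n = k + 1 := ⟨n - 1, by omega⟩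
  have hq2 : 2 ≤ Fintype.card F := Fintype.one_lt_card
  have hpq0 : p ∣ Fintype.card F := by
    rw [hF]
    exact dvd_pow_self p (by omega)
  have hpq : ¬ p ∣ Fintype.card F - 1 := by
    intro h
    have h1 : p ∣ Fintype.card F - (Fintype.card F - 1) := Nat.dvd_sub hpq0 h
    have h2 : Fintype.card F - (Fintype.card F - 1) = 1 := by omega
    rw [h2] at h1
    exact hp.one_lt.ne' (Nat.dvd_one.mp h1)
  have hrp : r ≠ p := by
    rintro rfl
    exact hpq hrq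
  obtain ⟨y₀, hy₀⟩ := exists_y0 (F := F) p (n := k + 1) (by omega)
  obtain ⟨u₀, t₀, hu₀t, hu₀⟩ :=
    exists_u0 (Matrix.ProjectiveSpecialLinearGroup (Fin (k + 1)) F) p hp
  obtain ⟨yr, hyr⟩ := exists_unip_twist (F := F) p k (by omega) r hr hrq hrn hrp 0 (Or.inl rfl)
  have hD := dichotomy (F := F) p hn r hr hrq hrn y₀ u₀ hy₀ hu₀
  refine ⟨abs3 r m y₀ u₀ yr (dvd_trans (Dvd.intro _ rfl) hyr) hD, ?_⟩
  intro hnp
  have ht : t₀ = 0 ∨ p ^ (t₀ - 1) < k := by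
    rcases Nat.eq_zero_or_pos t₀ with h0 | hpos
    · exact Or.inl h0
    right
    obtain ⟨t, rfl⟩ : ∃ t, t₀ = t + 1 := ⟨t₀ - 1, by omega⟩
    rw [Nat.add_sub_cancel]
    have hlt : p ^ t < k + 1 := by
      obtain ⟨g₀, rfl⟩ := QuotientGroup.mk_surjective u₀
      have h1 := pow_orderOf_eq_one
        (QuotientGroup.mk g₀ : Matrix.ProjectiveSpecialLinearGroup (Fin (k + 1)) F)
      rw [hu₀t, psl_pow_eq_one_iff] at h1
      obtain ⟨c, hc⟩ := h1
      have hc0 : c ≠ 0 := by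
        rintro rfl
        have h2 := congrArg Matrix.det hc
        rw [zero_smul, Matrix.det_zero, Matrix.det_pow, g₀.det_coe, one_pow] at h2
        exact one_ne_zero h2
      apply unip_bound p ((g₀ : Matrix (Fin (k + 1)) (Fin (k + 1)) F) ^ (Fintype.card F - 1)) t
      · rw [← pow_mul, mul_comm, pow_mul, hc, smul_pow, one_pow,
          FiniteField.pow_card_sub_one_eq_one c hc0, one_smul]
      · intro h2
        have h3 : (QuotientGroup.mk g₀ : Matrix.ProjectiveSpecialLinearGroup (Fin (k + 1)) F) ^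
            ((Fintype.card F - 1) * p ^ t) = 1 := by
          rw [psl_pow_eq_one_iff, pow_mul, h2]
          exact ⟨1, (one_smul _ _).symm⟩
        have h4 := orderOf_dvd_of_pow_eq_one h3
        rw [hu₀t, pow_succ, mul_comm (p ^ t) p] at h4
        have h5 := (Nat.mul_dvd_mul_iff_right (pow_pos hp.pos t)).mp h4
        exact hpq h5
    have hne : k ≠ p ^ t := by
      intro h
      apply hnp
      exact ⟨t, by rw [Nat.add_sub_cancel]; exact h⟩
    omega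
  obtain ⟨u₁, hu₁⟩ := exists_unip_twist (F := F) p k (by omega) r hr hrq hrn hrp t₀ ht
  exact abs2 r m y₀ u₀ u₁
    (by rw [hu₀t]; exact dvd_trans (Nat.lcm_dvd (Dvd.intro_left r rfl) (Dvd.intro _ rfl)) hu₁) hD

end Cfsg.Agent.S2510
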