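import Cfsg.Statements.S2511
import Cfsg.Agent.S2510
import Cfsg.Agent.Lib.Helper49.UDicho
import Cfsg.Agent.Lib.Helper49.UTwist
import Cfsg.Agent.Lib.Helper49.UUnip

set_option autoImplicit false
set_option linter.style.haveILetI false
open Cfsg

namespace Cfsg.Agent.S2511

open Cfsg.Agent.Lib.Helper49

section psu

variable {F : Type*} [Field F] [Fintype F]

open Polynomial in
/-- the dichotomy: either the order can be multiplied by `r`, or it divides the lcm of the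
orders of a Coxeter element and of a `p`-element of maximal order -/
theorem udichotomy (p a q : ℕ) [Fact p.Prime] [CharP F p] (hq : q = p ^ a)
    (hF : Fintype.card F = q ^ 2) (σ : F →+* F) (hσq : ∀ x, σ x = x ^ q) {n : ℕ} (r : ℕ)
    (hr : r.Prime) (hrq : r ∣ q + 1) (hrn : ¬ r ∣ n)
    (y₀ u₀ : Cfsg.PSU n F q)
    (hy₀ : usum q n / Nat.gcd (usum q n) (q + 1) ∣ orderOf y₀)
    (hu₀ : ∀ (x : Cfsg.PSU n F q) (t : ℕ), orderOf x = p ^ t → p ^ t ∣ orderOf u₀)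
    (x : Cfsg.PSU n F q) :
    (∃ y : Cfsg.PSU n F q, Nat.lcm (orderOf x) r ∣ orderOf y) ∨
      orderOf x ∣ Nat.lcm (orderOf y₀) (orderOf u₀) := by
  classical
  have hpp : p.Prime := Fact.out
  have hσσ := sigma_sigma q hF σ hσq
  by_cases hrx : r ∣ orderOf x
  · exact Or.inl ⟨x, Nat.lcm_dvd dvd_rfl hrx⟩
  obtain ⟨g, rfl⟩ := QuotientGroup.mk_surjective x
  have hk0 : orderOf g ≠ 0 := (orderOf_pos g).ne'
  obtain ⟨t, m, hm, hkt⟩ := Nat.exists_eq_pow_mul_and_not_dvd hk0 p hpp.ne_one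
  obtain ⟨h, hh⟩ : ∃ h : Matrix (Fin n) (Fin n) F, h = suMat g ^ (p ^ t) := ⟨_, rfl⟩
  have hhm : h ^ m = 1 := by
    rw [hh, ← pow_mul, ← hkt, ← suMat_pow, pow_orderOf_eq_one, suMat_one]
  have hhU : IsU σ h := by
    rw [hh]
    exact (suMat_isU σ hσq hσσ g).pow σ _
  have hdet : h.det = 1 := by
    rw [hh, Matrix.det_pow]
    have h1 : (suMat g).det = 1 := g.1.det_coe
    rw [h1, one_pow]
  rcases unitary_dichotomy p a q hq hF σ hσq h hhU hdet m hm hhm r hr hrq with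
    ⟨ψ, hψU, hψr, hψns⟩ | ⟨c, hc⟩
  · left
    have hcomm : aeval h ψ * suMat g = suMat g * aeval h ψ := by
      rw [hh]
      exact aeval_pow_comm _ _ _
    obtain ⟨y, hy⟩ := su_twist_order hF σ hσq r hr hrn hrq g (aeval h ψ) hcomm hψr hψU hψns hrx
    exact ⟨y, dvd_trans (Nat.lcm_dvd (Dvd.intro_left r rfl) (Dvd.intro _ rfl)) hy⟩
  · right
    obtain ⟨N₀, hN₀⟩ : ∃ N₀, N₀ = usum q n / Nat.gcd (usum q n) (q + 1) := ⟨_, rfl⟩
    rw [← hN₀] at hc hy₀
    obtain ⟨a₀, ha₀⟩ : ∃ a₀, a₀ = orderOf (QuotientGroup.mk g : Cfsg.PSU n F q) := ⟨_, rfl⟩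
    rw [← ha₀]
    have ha₀pos : a₀ ≠ 0 := by
      rw [ha₀]
      exact (orderOf_pos _).ne'
    obtain ⟨t', m', hm', hat⟩ := Nat.exists_eq_pow_mul_and_not_dvd ha₀pos p hpp.ne_one
    have h1 : p ^ t' ∣ orderOf u₀ := by
      apply hu₀ ((QuotientGroup.mk g : Cfsg.PSU n F q) ^ m') t'
      have hm'0 : m' ≠ 0 := by
        rintro rfl
        exact hm' (dvd_zero p)
      rw [orderOf_pow_of_dvd hm'0 (by rw [← ha₀, hat]; exact Dvd.intro_left _ rfl), ← ha₀, hat]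
      exact Nat.mul_div_cancel _ (Nat.pos_of_ne_zero hm'0)
    have h2 : m' ∣ N₀ := by
      have h3 : (QuotientGroup.mk g : Cfsg.PSU n F q) ^ (p ^ t * N₀) = 1 := by
        rw [psu_pow_eq_one_iff hF, pow_mul, ← hh]
        exact ⟨c, hc⟩
      have h4 : a₀ ∣ p ^ t * N₀ := by
        rw [ha₀]
        exact orderOf_dvd_of_pow_eq_one h3
      have h5 : m' ∣ p ^ t * N₀ := dvd_trans (by rw [hat]; exact Dvd.intro_left _ rfl) h4
      have hcop : Nat.Coprime m' (p ^ t) :=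
        Nat.Coprime.pow_right t ((Nat.Prime.coprime_iff_not_dvd hpp).mpr hm').symm
      exact hcop.dvd_of_dvd_mul_left h5
    rw [hat]
    have hcop2 : Nat.Coprime (p ^ t') m' :=
      Nat.Coprime.pow_left t' ((Nat.Prime.coprime_iff_not_dvd hpp).mpr hm')
    exact hcop2.mul_dvd_of_dvd_of_dvd (dvd_trans h1 (Nat.dvd_lcm_right _ _))
      (dvd_trans (dvd_trans h2 hy₀) (Nat.dvd_lcm_left _ _))

theorem exists_uy0 (p a q : ℕ) [Fact p.Prime] [CharP F p] (hq : q = p ^ a)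
    (hF : Fintype.card F = q ^ 2) (σ : F →+* F) (hσq : ∀ x, σ x = x ^ q) {n : ℕ} (hn : n ≠ 0) :
    ∃ y₀ : Cfsg.PSU n F q, usum q n / Nat.gcd (usum q n) (q + 1) ∣ orderOf y₀ := by
  have hσσ := sigma_sigma q hF σ hσq
  obtain ⟨T, hdet, hTU, hT⟩ := exists_coxeter p a q hq hF σ hσq n hn
  obtain ⟨u, hu⟩ := exists_su_of_isU (q := q) σ hσq hσσ T hdet hTU
  refine ⟨QuotientGroup.mk u, ?_⟩
  have h1 := pow_orderOf_eq_one (QuotientGroup.mk u : Cfsg.PSU n F q)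
  rw [psu_pow_eq_one_iff hF, hu] at h1
  obtain ⟨c, hc⟩ := h1
  exact hT _ c hc

/-- elements of `PSU_{k+1}` of order divisible by `r * p ^ t` -/
theorem exists_uunip_twist (p q : ℕ) [Fact p.Prime] [CharP F p]
    (hF : Fintype.card F = q ^ 2) (σ : F →+* F) (hσq : ∀ x, σ x = x ^ q) (k : ℕ) (hk : 1 ≤ k)
    (r : ℕ) (hr : r.Prime) (hrq : r ∣ q + 1) (hrn : ¬ r ∣ k + 1) (hrp : r ≠ p)
    (t : ℕ) (ht : t = 0 ∨ p ^ (t - 1) < k) :
    ∃ y : Cfsg.PSU (k + 1) F q, r * p ^ t ∣ orderOf y := by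
  classical
  have hpp : p.Prime := Fact.out
  have hσσ := sigma_sigma q hF σ hσq
  obtain ⟨ζ, hζr, hζ1, hζσ⟩ := exists_uzeta q hF σ hσq r hr hrq
  obtain ⟨J, hJdet, hJU, hJ⟩ := exists_unitary_jordan p q hF σ hσq k
  have hone : ∀ c : F, (1 : Matrix (Fin 1) (Fin 1) F) = c • 1 → c = 1 := by
    intro c hc
    have h1 := congrFun (congrFun hc 0) 0
    simp at h1
    exact h1.symm
  have hgdet : (bdiag J (1 : Matrix (Fin 1) (Fin 1) F)).det = 1 := by
    rw [bdiag_det, hJdet, Matrix.det_one, mul_one]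
  have hgU : IsU σ (bdiag J (1 : Matrix (Fin 1) (Fin 1) F)) := IsU.bdiag σ hJU (IsU.one σ)
  obtain ⟨gs, hgs⟩ := exists_su_of_isU (q := q) σ hσq hσσ _ hgdet hgU
  obtain ⟨z₀, hz₀⟩ : ∃ z₀ : Matrix (Fin (k + 1)) (Fin (k + 1)) F,
      z₀ = bdiag (ζ • (1 : Matrix (Fin k) (Fin k) F)) (1 : Matrix (Fin 1) (Fin 1) F) :=
    ⟨_, rfl⟩
  have hcomm : z₀ * suMat gs = suMat gs * z₀ := by
    rw [hgs, hz₀, bdiag_mul', bdiag_mul']
    simp
  have hz : z₀ ^ r = 1 := by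
    rw [hz₀, bdiag_pow, smul_pow, one_pow, one_pow, hζr, one_smul, bdiag_one]
  have hzU : IsU σ z₀ := by
    rw [hz₀]
    exact IsU.bdiag σ (IsU.smul_one σ hζσ) (IsU.one σ)
  have hns : ¬ ∃ c : F, z₀ = c • 1 := by
    rintro ⟨c, hc⟩
    rw [hz₀, bdiag_eq_smul_one_iff] at hc
    have hc1 := hone c hc.2
    have h1 := congrFun (congrFun hc.1 ⟨0, by omega⟩) ⟨0, by omega⟩
    simp at h1
    exact hζ1 (h1.trans hc1)
  obtain ⟨o₁, ho₁⟩ : ∃ o₁, o₁ = orderOf (QuotientGroup.mk gs : Cfsg.PSU (k + 1) F q) :=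
    ⟨_, rfl⟩
  have hpow_iff : ∀ s : ℕ, (QuotientGroup.mk gs : Cfsg.PSU (k + 1) F q) ^ (p ^ s) = 1 ↔
      k ≤ p ^ s := by
    intro s
    rw [psu_pow_eq_one_iff hF, hgs, bdiag_pow, one_pow, ← hJ]
    constructor
    · rintro ⟨c, hc⟩
      rw [bdiag_eq_smul_one_iff] at hc
      rw [hc.1, hone c hc.2, one_smul]
    · intro h
      exact ⟨1, by rw [h, bdiag_one, one_smul]⟩
  have ho₁dvd : o₁ ∣ p ^ k := by
    rw [ho₁]
    exact orderOf_dvd_of_pow_eq_one ((hpow_iff k).mpr (Nat.lt_pow_self hpp.one_lt).le)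
  obtain ⟨s₁, -, hs₁⟩ := (Nat.dvd_prime_pow hpp).mp ho₁dvd
  have hts : t ≤ s₁ := by
    rcases ht with rfl | ht
    · exact Nat.zero_le _
    · by_contra hcon
      have h1 : o₁ ∣ p ^ (t - 1) := by
        rw [hs₁]
        exact pow_dvd_pow p (by omega)
      rw [ho₁, orderOf_dvd_iff_pow_eq_one, hpow_iff] at h1
      omega
  have hro : ¬ r ∣ orderOf (QuotientGroup.mk gs : Cfsg.PSU (k + 1) F q) := by
    rw [← ho₁, hs₁]
    intro h
    exact hrp ((Nat.prime_dvd_prime_iff_eq hr hpp).mp (hr.dvd_of_dvd_pow h))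
  obtain ⟨y, hy⟩ := su_twist_order hF σ hσq r hr hrn hrq gs z₀ hcomm hz hzU hns hro
  refine ⟨y, dvd_trans ?_ hy⟩
  rw [← ho₁, hs₁]
  exact Nat.mul_dvd_mul_left r (pow_dvd_pow p hts)

end psu

/-- Let F be a finite field with q² elements, q = p^a, n ≥ 3 with (n, q) ≠ (3, 2), L = PSU(n, q) realised over F, and let r be a prime dividing q + 1 and not dividing n. Then for every m the direct product L × L × L × (ℤ/r)^m has the same set of element orders as L × L × L; and if n − 1 is not a power of p, then already L × L × (ℤ/r)^m has the same set of element orders as L × L. -/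
theorem result {F : Type*} [Field F] [Fintype F] (p a n q r m : ℕ) (hp : p.Prime) (ha : 1 ≤ a) (hq : q = p ^ a) (hF : Fintype.card F = q ^ 2)
    (hn : 3 ≤ n) (hn3 : ¬ (n = 3 ∧ q = 2)) (hr : r.Prime) (hrq : r ∣ q + 1) (hrn : ¬ r ∣ n) :
    Set.range (orderOf : Cfsg.PSU n F q × Cfsg.PSU n F q × Cfsg.PSU n F q × Multiplicative (Fin m → ZMod r) → ℕ) = Set.range (orderOf : Cfsg.PSU n F q × Cfsg.PSU n F q × Cfsg.PSU n F q → ℕ) ∧
    ((¬ ∃ j : ℕ, n - 1 = p ^ j) →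
      Set.range (orderOf : Cfsg.PSU n F q × Cfsg.PSU n F q × Multiplicative (Fin m → ZMod r) → ℕ) = Set.range (orderOf : Cfsg.PSU n F q × Cfsg.PSU n F q → ℕ)) := by
  classical
  haveI : Fact p.Prime := ⟨hp⟩
  have hF' : Fintype.card F = p ^ (a * 2) := by rw [hF, hq, ← pow_mul]
  haveI : CharP F p := charP_of_card_eq_prime_pow hF'
  obtain ⟨σ, hσq, hσσ, -⟩ := Cfsg.Agent.Lib.Helper47.exists_unitary_data F q hF
  obtain ⟨k, rfl⟩ : ∃ k, n = k + 1 := ⟨n - 1, by omega⟩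
  have hpq0 : p ∣ q := by
    rw [hq]
    exact dvd_pow_self p (by omega)
  have hrp : r ≠ p := by
    rintro rfl
    have h2 : r ∣ 1 := (Nat.dvd_add_right hpq0).mp hrq
    exact hr.one_lt.ne' (Nat.dvd_one.mp h2)
  have hq2 : 2 ≤ Fintype.card F := Fintype.one_lt_card
  have hpF : p ∣ Fintype.card F := by
    rw [hF]
    exact Dvd.dvd.pow hpq0 (by omega)
  have hpq : ¬ p ∣ Fintype.card F - 1 := by
    intro h
    have h1 : p ∣ Fintype.card F - (Fintype.card F - 1) := Nat.dvd_sub hpF h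
    have h2 : Fintype.card F - (Fintype.card F - 1) = 1 := by omega
    rw [h2] at h1
    exact hp.one_lt.ne' (Nat.dvd_one.mp h1)
  obtain ⟨y₀, hy₀⟩ := exists_uy0 (F := F) p a q hq hF σ hσq (n := k + 1) (by omega)
  obtain ⟨u₀, t₀, hu₀t, hu₀⟩ := Cfsg.Agent.S2510.exists_u0 (Cfsg.PSU (k + 1) F q) p hp
  obtain ⟨yr, hyr⟩ :=
    exists_uunip_twist (F := F) p q hF σ hσq k (by omega) r hr hrq hrn hrp 0 (Or.inl rfl)
  have hD := udichotomy (F := F) p a q hq hF σ hσq r hr hrq hrn y₀ u₀ hy₀ hu₀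
  refine ⟨Cfsg.Agent.S2510.abs3 r m y₀ u₀ yr (dvd_trans (Dvd.intro _ rfl) hyr) hD, ?_⟩
  intro hnp
  have ht : t₀ = 0 ∨ p ^ (t₀ - 1) < k := by
    rcases Nat.eq_zero_or_pos t₀ with h0 | hpos
    · exact Or.inl h0
    right
    obtain ⟨t, rfl⟩ : ∃ t, t₀ = t + 1 := ⟨t₀ - 1, by omega⟩
    rw [Nat.add_sub_cancel]
    have hlt : p ^ t < k + 1 := by
      obtain ⟨g₀, rfl⟩ := QuotientGroup.mk_surjective u₀
      have h1 := pow_orderOf_eq_one (QuotientGroup.mk g₀ : Cfsg.PSU (k + 1) F q)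
      rw [hu₀t, psu_pow_eq_one_iff hF] at h1
      obtain ⟨c, hc⟩ := h1
      have hc0 : c ≠ 0 := by
        rintro rfl
        have h2 := congrArg Matrix.det hc
        have h3 : (suMat g₀).det = 1 := g₀.1.det_coe
        rw [zero_smul, Matrix.det_zero, Matrix.det_pow, h3, one_pow] at h2
        exact one_ne_zero h2
      apply unip_bound p (suMat g₀ ^ (Fintype.card F - 1)) t
      · rw [← pow_mul, mul_comm, pow_mul, hc, smul_pow, one_pow,
          FiniteField.pow_card_sub_one_eq_one c hc0, one_smul]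
      · intro h2
        have h3 : (QuotientGroup.mk g₀ : Cfsg.PSU (k + 1) F q) ^
            ((Fintype.card F - 1) * p ^ t) = 1 := by
          rw [psu_pow_eq_one_iff hF, pow_mul, h2]
          exact ⟨1, (one_smul _ _).symm⟩
        have h4 := orderOf_dvd_of_pow_eq_one h3
        rw [hu₀t, pow_succ, mul_comm (p ^ t) p] at h4
        have h5 := (Nat.mul_dvd_mul_iff_right (pow_pos hp.pos t)).mp h4
        exact hpq h5
    have hne : k ≠ p ^ t := by
      intro h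
      apply hnp
      exact ⟨t, by rw [Nat.add_sub_cancel]; exact h⟩
    omega
  obtain ⟨u₁, hu₁⟩ :=
    exists_uunip_twist (F := F) p q hF σ hσq k (by omega) r hr hrq hrn hrp t₀ ht
  exact Cfsg.Agent.S2510.abs2 r m y₀ u₀ u₁
    (by rw [hu₀t]; exact dvd_trans (Nat.lcm_dvd (Dvd.intro_left r rfl) (Dvd.intro _ rfl)) hu₁) hD

end Cfsg.Agent.S2511
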