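import Cfsg.Statements.S2496
import Cfsg.Agent.S2495
import Cfsg.Agent.S2511
import Cfsg.Agent.Lib.Helper49.UFix

set_option autoImplicit false
set_option linter.style.haveILetI false
open Cfsg

namespace Cfsg.Agent.S2496

open Cfsg.Agent.Lib.Helper49

/-! ### Arithmetic -/

theorem usum_dvd_iff (q k e : ℕ) (he : e ∣ q + 1) : e ∣ usum q k ↔ e ∣ k := by
  unfold usum
  rw [← Int.natCast_dvd, ← Int.natCast_dvd_natCast]
  have h1 : (∑ j ∈ Finset.range k, (-(q : ℤ)) ^ j) ≡ (k : ℤ) [ZMOD (e : ℤ)] := by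
    have hq : (-(q : ℤ)) ≡ 1 [ZMOD (e : ℤ)] := by
      rw [Int.modEq_iff_dvd]
      have h2 : (1 : ℤ) - (-(q : ℤ)) = ((q + 1 : ℕ) : ℤ) := by
        push_cast
        ring
      rw [h2]
      exact Int.natCast_dvd_natCast.mpr he
    induction k with
    | zero => simp
    | succ k ih =>
      rw [Finset.sum_range_succ]
      push_cast
      have h3 := hq.pow k
      rw [one_pow] at h3
      exact ih.add h3
  have h2 := Int.modEq_iff_dvd.mp h1
  constructor
  · intro h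
    have h3 := dvd_add h h2
    rwa [add_sub_cancel] at h3
  · intro h
    have h3 := dvd_sub h h2
    rwa [sub_sub_cancel] at h3

theorem usum_double (q m : ℕ) (hq : 1 ≤ q) :
    usum q (2 * m) = (if Even m then q ^ m + 1 else q ^ m - 1) * usum q m := by
  have h1 := usum_even q (2 * m) ⟨m, by ring⟩ hq
  have hqm : 1 ≤ q ^ m := Nat.one_le_pow _ _ hq
  have h3 : q ^ (2 * m) - 1 = (q ^ m - 1) * (q ^ m + 1) := by
    rw [mul_comm 2 m, pow_mul]
    obtain ⟨t, ht⟩ := Nat.exists_eq_add_of_le hqm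
    rw [ht, Nat.add_sub_cancel_left]
    apply Nat.sub_eq_of_eq_add
    ring
  apply Nat.eq_of_mul_eq_mul_left (by omega : 0 < q + 1)
  rw [h1, h3]
  split_ifs with hm
  · have h2 := usum_even q m hm hq
    rw [mul_left_comm, h2, mul_comm]
  · have h2 := usum_odd q m (Nat.not_even_iff_odd.mp hm)
    rw [mul_left_comm, h2]

theorem arith (q m : ℕ) (hq : 2 ≤ q) (hm : m ≠ 0) :
    ((if Even m then q ^ m + 1 else q ^ m - 1) ∣
      usum q (2 * m) / Nat.gcd (usum q (2 * m)) (q + 1)) ↔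
      padicValNat 2 (q + 1) < padicValNat 2 (2 * m) := by
  rw [← Cfsg.Agent.S2495.gcd_dvd_iff m (q + 1) hm (by omega)]
  have hU := usum_double q m (by omega)
  obtain ⟨N, hN⟩ : ∃ N, N = if Even m then q ^ m + 1 else q ^ m - 1 := ⟨_, rfl⟩
  rw [← hN] at hU ⊢
  have hNpos : 0 < N := by
    have h2 : 2 ≤ q ^ m := by
      calc 2 ≤ q := hq
        _ = q ^ 1 := (pow_one q).symm
        _ ≤ q ^ m := Nat.pow_le_pow_right (by omega) (Nat.pos_of_ne_zero hm)
    rw [hN]
    split_ifs <;> omega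
  obtain ⟨G, hG⟩ : ∃ G, G = Nat.gcd (usum q (2 * m)) (q + 1) := ⟨_, rfl⟩
  have hG1 : G ∣ q + 1 := hG ▸ Nat.gcd_dvd_right _ _
  have hG2 : G ∣ usum q (2 * m) := hG ▸ Nat.gcd_dvd_left _ _
  have hGd : G = Nat.gcd (2 * m) (q + 1) := by
    apply Nat.dvd_antisymm
    · exact Nat.dvd_gcd ((usum_dvd_iff q (2 * m) G hG1).mp hG2) hG1
    · rw [hG]
      exact Nat.dvd_gcd ((usum_dvd_iff q (2 * m) _ (Nat.gcd_dvd_right _ _)).mpr
        (Nat.gcd_dvd_left _ _)) (Nat.gcd_dvd_right _ _)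
  rw [← hG, ← hGd, ← usum_dvd_iff q m G hG1]
  have hGpos : 0 < G := Nat.pos_of_ne_zero (by
    rw [hG]
    exact Nat.gcd_ne_zero_right (by omega))
  rw [hU] at hG2 ⊢
  constructor
  · rintro ⟨w, hw⟩
    have h1 : N * usum q m = G * (N * w) := by rw [← hw, Nat.mul_div_cancel' hG2]
    have h2 : N * usum q m = N * (G * w) := by
      rw [h1]
      ring
    exact ⟨w, Nat.eq_of_mul_eq_mul_left hNpos h2⟩
  · rintro ⟨w, hw⟩
    rw [hw, mul_left_comm, Nat.mul_div_cancel_left _ hGpos]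
    exact Dvd.intro _ rfl

theorem ppd_order (q k r : ℕ) (hq : 1 ≤ q) (hdvd : r ∣ q ^ k - 1)
    (hprim : ∀ j : ℕ, 0 < j → j < k → ¬ r ∣ q ^ j - 1) (hk : 0 < k) (j : ℕ) :
    r ∣ q ^ j - 1 ↔ k ∣ j := by
  have h2 : ∀ i : ℕ, (r ∣ q ^ i - 1 ↔ q ^ i ≡ 1 [MOD r]) := fun i =>
    ⟨fun h => ((Nat.modEq_iff_dvd' (Nat.one_le_pow _ _ hq)).mpr h).symm,
      fun h => (Nat.modEq_iff_dvd' (Nat.one_le_pow _ _ hq)).mp h.symm⟩
  have h1 : q ^ k ≡ 1 [MOD r] := (h2 k).mp hdvd
  constructor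
  · intro h
    by_contra hkj
    have h3 : 0 < j % k := Nat.pos_of_ne_zero (fun h0 => hkj (Nat.dvd_of_mod_eq_zero h0))
    apply hprim (j % k) h3 (Nat.mod_lt _ hk)
    rw [h2]
    have h4 : q ^ j = (q ^ k) ^ (j / k) * q ^ (j % k) := by
      rw [← pow_mul, ← pow_add, Nat.div_add_mod]
    have h5 : q ^ j ≡ q ^ (j % k) [MOD r] := by
      rw [h4]
      have h6 := (h1.pow (j / k)).mul_right (q ^ (j % k))
      rwa [one_pow, one_mul] at h6
    exact h5.symm.trans ((h2 j).mp h)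
  · rintro ⟨i, rfl⟩
    rw [h2, pow_mul]
    have h6 := h1.pow i
    rwa [one_pow] at h6

theorem ppd_data (q m : ℕ) (hq : 1 < q) (hodd : Odd q) (hm : 2 ≤ m) :
    ∃ r : ℕ, r.Prime ∧ r ∣ (if Even m then q ^ m + 1 else q ^ m - 1) ∧ ¬ r ∣ q ∧
      (∀ δ : ℕ, r ∣ (q ^ 2) ^ δ - 1 → δ ≠ 0 → m ≤ δ) ∧
      (∀ δ : ℕ, Odd δ → ¬ r ∣ q ^ δ + 1) := by
  have hq2 : q ≠ 2 := by
    rintro rfl
    exact absurd hodd (by decide)
  have hfac : ∀ δ : ℕ, q ^ (2 * δ) - 1 = (q ^ δ - 1) * (q ^ δ + 1) := by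
    intro δ
    rw [mul_comm 2 δ, pow_mul]
    obtain ⟨t, ht⟩ := Nat.exists_eq_add_of_le (Nat.one_le_pow δ q (by omega))
    rw [ht, Nat.add_sub_cancel_left]
    apply Nat.sub_eq_of_eq_add
    ring
  have hnq : ∀ (r k : ℕ), r.Prime → k ≠ 0 → r ∣ q ^ k - 1 → ¬ r ∣ q := by
    intro r k hr hk hrdvd h
    have h2 : r ∣ q ^ k := Dvd.dvd.pow h hk
    have h3 := Nat.dvd_sub h2 hrdvd
    have h4 : 1 ≤ q ^ k := Nat.one_le_pow _ _ (by omega)
    rw [show q ^ k - (q ^ k - 1) = 1 by omega] at h3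
    exact hr.one_lt.ne' (Nat.dvd_one.mp h3)
  by_cases hme : Even m
  · rw [if_pos hme]
    obtain ⟨r, hr, hrdvd, hrprim⟩ := Cfsg.Agent.S2904.result q (2 * m) hq (by omega)
      (fun h => hq2 h.1) (fun h => by omega)
    have hord := ppd_order q (2 * m) r (by omega) hrdvd hrprim (by omega)
    refine ⟨r, hr, ?_, hnq r (2 * m) hr (by omega) hrdvd, ?_, ?_⟩
    · rw [hfac] at hrdvd
      rcases hr.dvd_mul.mp hrdvd with h | h
      · exact absurd h (hrprim m (by omega) (by omega))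
      · exact h
    · intro δ hδ hδ0
      rw [← pow_mul] at hδ
      have h1 := (hord (2 * δ)).mp hδ
      have h2 : m ∣ δ := (Nat.mul_dvd_mul_iff_left (by omega : 0 < 2)).mp h1
      exact Nat.le_of_dvd (Nat.pos_of_ne_zero hδ0) h2
    · intro δ hδodd hδ
      have h1 : r ∣ q ^ (2 * δ) - 1 := by
        rw [hfac]
        exact Dvd.dvd.mul_left hδ _
      have h2 := (hord (2 * δ)).mp h1
      have h3 : m ∣ δ := (Nat.mul_dvd_mul_iff_left (by omega : 0 < 2)).mp h2
      obtain ⟨w, hw⟩ := hme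
      obtain ⟨u, hu⟩ := h3
      obtain ⟨s, hs⟩ := hδodd
      have h4 : δ = 2 * (w * u) := by
        rw [hu, hw]
        ring
      omega
  · rw [if_neg hme]
    have hmo : Odd m := Nat.not_even_iff_odd.mp hme
    have hm3 : 3 ≤ m := by
      obtain ⟨s, hs⟩ := hmo
      omega
    obtain ⟨r, hr, hrdvd, hrprim⟩ := Cfsg.Agent.S2904.result q m hq (by omega)
      (fun h => hq2 h.1) (fun h => by omega)
    have hord := ppd_order q m r (by omega) hrdvd hrprim (by omega)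
    have hr2 : r ≠ 2 := by
      rintro rfl
      apply hrprim 1 (by omega) (by omega)
      rw [pow_one]
      obtain ⟨s, hs⟩ := hodd
      exact ⟨s, by omega⟩
    have hcop : Nat.Coprime m 2 := Nat.coprime_two_right.mpr hmo
    refine ⟨r, hr, hrdvd, hnq r m hr (by omega) hrdvd, ?_, ?_⟩
    · intro δ hδ hδ0
      rw [← pow_mul] at hδ
      have h1 := (hord (2 * δ)).mp hδ
      have h2 : m ∣ δ := hcop.dvd_of_dvd_mul_left h1
      exact Nat.le_of_dvd (Nat.pos_of_ne_zero hδ0) h2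
    · intro δ hδodd hδ
      have h1 : r ∣ q ^ (2 * δ) - 1 := by
        rw [hfac]
        exact Dvd.dvd.mul_left hδ _
      have h2 := (hord (2 * δ)).mp h1
      have h3 : m ∣ δ := hcop.dvd_of_dvd_mul_left h2
      have h4 : r ∣ q ^ δ - 1 := (hord δ).mpr h3
      have h5 : r ∣ 2 := by
        have h7 := Nat.dvd_sub hδ h4
        have h6 : 1 ≤ q ^ δ := Nat.one_le_pow _ _ (by omega)
        rwa [show q ^ δ + 1 - (q ^ δ - 1) = 2 by omega] at h7
      exact hr2 ((Nat.prime_dvd_prime_iff_eq hr Nat.prime_two).mp h5)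

/-- Let q be an odd prime power, n ≥ 4 even, and U = PSU(n,q) (realised over the field with q² elements). Then U has an element of order q^(n/2) + (−1)^(n/2) — that is, q^(n/2) + 1 when n/2 is even and q^(n/2) − 1 when n/2 is odd — if and only if the 2-part of n exceeds the 2-part of q + 1. -/
theorem result {F : Type*} [Field F] [Fintype F] {q : ℕ} (hF : Fintype.card F = q ^ 2) (hodd : Odd q)
    {n : ℕ} (hn : 4 ≤ n) (heven : Even n) :
    (∃ g : Cfsg.PSU n F q, orderOf g = if Even (n / 2) then q ^ (n / 2) + 1 else q ^ (n / 2) - 1) ↔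
      padicValNat 2 (q + 1) < padicValNat 2 n := by
  classical
  obtain ⟨p, hp⟩ := CharP.exists F
  haveI := hp
  haveI : Fact p.Prime := ⟨CharP.char_is_prime F p⟩
  have hpp : p.Prime := Fact.out
  have hq1 : 1 < q := one_lt_q q hF
  obtain ⟨a, hq⟩ : ∃ a, q = p ^ a := by
    obtain ⟨k, -, hk⟩ := FiniteField.card F p
    have h1 : q ∣ p ^ (k : ℕ) := by
      rw [← hk, hF]
      exact Dvd.intro_left _ (by ring)
    obtain ⟨a, -, ha⟩ := (Nat.dvd_prime_pow hpp).mp h1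
    exact ⟨a, ha⟩
  obtain ⟨σ, hσq, hσσ, -⟩ := Cfsg.Agent.Lib.Helper47.exists_unitary_data F q hF
  obtain ⟨m, hm⟩ := heven
  have hm2 : n = 2 * m := by omega
  subst hm2
  have hnm : 2 * m / 2 = m := by omega
  rw [hnm]
  have hm0 : m ≠ 0 := by omega
  rw [← arith q m hq1 hm0]
  obtain ⟨N, hN⟩ : ∃ N, N = if Even m then q ^ m + 1 else q ^ m - 1 := ⟨_, rfl⟩
  rw [← hN]
  have ha0 : a ≠ 0 := by
    rintro rfl
    rw [pow_zero] at hq
    omega
  have hpq : p ∣ q := by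
    rw [hq]
    exact dvd_pow_self p ha0
  have hqm2 : 2 ≤ q ^ m := by
    calc 2 ≤ q := hq1
      _ = q ^ 1 := (pow_one q).symm
      _ ≤ q ^ m := Nat.pow_le_pow_right (by omega) (Nat.pos_of_ne_zero hm0)
  have hpN : ¬ p ∣ N := by
    intro h
    have h1 : p ∣ q ^ m := Dvd.dvd.pow hpq hm0
    have h2 : p ∣ 1 := by
      rw [hN] at h
      split_ifs at h
      · exact (Nat.dvd_add_right h1).mp h
      · have h3 := Nat.dvd_sub h1 h
        rwa [show q ^ m - (q ^ m - 1) = 1 by omega] at h3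
    exact hpp.one_lt.ne' (Nat.dvd_one.mp h2)
  constructor
  · rintro ⟨g₀, hg₀⟩
    obtain ⟨g, rfl⟩ := QuotientGroup.mk_surjective g₀
    have hk0 : orderOf g ≠ 0 := (orderOf_pos g).ne'
    obtain ⟨t, m₀, hm₀, hkt⟩ := Nat.exists_eq_pow_mul_and_not_dvd hk0 p hpp.ne_one
    obtain ⟨hs, hhs⟩ : ∃ hs : Cfsg.SU (2 * m) F q, hs = g ^ (p ^ t) := ⟨_, rfl⟩
    have hsord : orderOf (QuotientGroup.mk hs : Cfsg.PSU (2 * m) F q) = N := by
      rw [hhs, QuotientGroup.mk_pow, Nat.Coprime.orderOf_pow, hg₀]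
      rw [hg₀]
      exact Nat.Coprime.pow_right t ((Nat.Prime.coprime_iff_not_dvd hpp).mpr hpN).symm
    obtain ⟨h, hh⟩ : ∃ h : Matrix (Fin (2 * m)) (Fin (2 * m)) F, h = suMat hs := ⟨_, rfl⟩
    have hhm : h ^ m₀ = 1 := by
      rw [hh, hhs, ← suMat_pow, ← pow_mul, ← hkt, pow_orderOf_eq_one, suMat_one]
    have hhU : IsU σ h := hh ▸ suMat_isU σ hσq hσσ hs
    have hdet : h.det = 1 := hh ▸ hs.1.det_coe
    have h2q : 2 ∣ q + 1 := by
      obtain ⟨s, hs'⟩ := hodd
      exact ⟨s + 1, by omega⟩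
    rcases unitary_dichotomy p a q hq hF σ hσq h hhU hdet m₀ hm₀ hhm 2 Nat.prime_two h2q with
      ⟨ψ, hψU, hψ2, hψns⟩ | ⟨c, hc⟩
    · exfalso
      obtain ⟨r, hr, hrN, hrq, H1, H2⟩ := ppd_data q m hq1 hodd (by omega)
      rw [← hN] at hrN
      have hrp : r ≠ p := by
        rintro rfl
        exact hrq hpq
      obtain ⟨K₀, hK₀⟩ : ∃ K₀, K₀ = orderOf hs := ⟨_, rfl⟩
      have hNK : N ∣ K₀ := by
        rw [← hsord, hK₀]
        apply orderOf_dvd_of_pow_eq_one
        rw [← QuotientGroup.mk_pow, pow_orderOf_eq_one]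
        rfl
      obtain ⟨e, he⟩ := hrN.trans hNK
      have hK₀pos : 0 < K₀ := hK₀ ▸ orderOf_pos hs
      have he0 : e ≠ 0 := by
        rintro rfl
        omega
      obtain ⟨T, hTdef⟩ : ∃ T : Matrix (Fin (2 * m)) (Fin (2 * m)) F, T = h ^ e := ⟨_, rfl⟩
      have hTr : T ^ r = 1 := by
        rw [hTdef, ← pow_mul, mul_comm e r, ← he, hK₀, hh, ← suMat_pow, pow_orderOf_eq_one, suMat_one]
      have hT1 : T ≠ 1 := by
        intro h1
        have h2 : hs ^ e = 1 := by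
          apply su_ext
          rw [suMat_pow, suMat_one, ← hh, ← hTdef, h1]
        have h3 := orderOf_dvd_of_pow_eq_one h2
        rw [← hK₀, he] at h3
        have h4 : r * e ∣ 1 * e := by rwa [one_mul]
        exact hr.one_lt.ne' (Nat.dvd_one.mp
          (Nat.dvd_of_mul_dvd_mul_right (Nat.pos_of_ne_zero he0) h4))
      have hTU : IsU σ T := hTdef ▸ hhU.pow σ e
      obtain ⟨z, hz⟩ : ∃ z : Matrix (Fin (2 * m)) (Fin (2 * m)) F, z = Polynomial.aeval h ψ :=
        ⟨_, rfl⟩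
      rw [← hz] at hψU hψ2 hψns
      have hzT : z * T = T * z := by
        rw [hz, hTdef]
        have h1 : Polynomial.aeval h (ψ * Polynomial.X ^ e) =
            Polynomial.aeval h (Polynomial.X ^ e * ψ) := by rw [mul_comm ψ]
        simpa [map_mul] using h1
      have h2F : (2 : F) ≠ 0 := by
        intro h1
        have h3 : ((2 : ℕ) : F) = 0 := by exact_mod_cast h1
        rw [CharP.cast_eq_zero_iff F p] at h3
        have hp2 : p = 2 := (Nat.prime_dvd_prime_iff_eq hpp Nat.prime_two).mp h3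
        rw [hp2] at hpq
        obtain ⟨s, hs'⟩ := hodd
        obtain ⟨w, hw⟩ := hpq
        omega
      have hzz : z * z = 1 := by
        rw [← sq]
        exact hψ2
      have hzadj : adjM σ z = z := by
        calc adjM σ z = adjM σ z * (z * z) := by rw [hzz, mul_one]
          _ = z := by rw [← mul_assoc, hψU, one_mul]
      obtain ⟨e₁, he₁⟩ : ∃ e₁ : Matrix (Fin (2 * m)) (Fin (2 * m)) F,
          e₁ = (2 : F)⁻¹ • (1 + z) := ⟨_, rfl⟩
      obtain ⟨e₂, he₂⟩ : ∃ e₂ : Matrix (Fin (2 * m)) (Fin (2 * m)) F,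
          e₂ = (2 : F)⁻¹ • (1 - z) := ⟨_, rfl⟩
      have hσ2 : σ (2 : F)⁻¹ = (2 : F)⁻¹ := by rw [map_inv₀, map_ofNat]
      have hpp1 : (1 + z) * (1 + z) = (2 : F) • (1 + z) := by
        simp only [mul_add, add_mul, one_mul, mul_one, hzz, two_smul]
        abel
      have hmm1 : (1 - z) * (1 - z) = (2 : F) • (1 - z) := by
        simp only [mul_sub, sub_mul, one_mul, mul_one, hzz, two_smul]
        abel
      have hpm1 : (1 + z) * (1 - z) = 0 := by
        simp only [mul_sub, add_mul, one_mul, mul_one, hzz]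
        abel
      have hmp1 : (1 - z) * (1 + z) = 0 := by
        simp only [mul_add, sub_mul, one_mul, mul_one, hzz]
        abel
      have h11 : e₁ * e₁ = e₁ := by
        rw [he₁, smul_mul_smul_comm, hpp1, smul_smul, mul_assoc, inv_mul_cancel₀ h2F, mul_one]
      have h22 : e₂ * e₂ = e₂ := by
        rw [he₂, smul_mul_smul_comm, hmm1, smul_smul, mul_assoc, inv_mul_cancel₀ h2F, mul_one]
      have h12 : e₁ * e₂ = 0 := by
        rw [he₁, he₂, smul_mul_smul_comm, hpm1, smul_zero]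
      have h21 : e₂ * e₁ = 0 := by
        rw [he₁, he₂, smul_mul_smul_comm, hmp1, smul_zero]
      have hsum : e₁ + e₂ = 1 := by
        rw [he₁, he₂, ← smul_add]
        have h1 : (1 + z) + (1 - z) = (2 : F) • (1 : Matrix (Fin (2 * m)) (Fin (2 * m)) F) := by
          rw [two_smul]
          abel
        rw [h1, smul_smul, inv_mul_cancel₀ h2F, one_smul]
      have ha1 : adjM σ e₁ = e₁ := by
        rw [he₁, adjM_smul, adjM_add, adjM_one, hzadj, hσ2]
      have ha2 : adjM σ e₂ = e₂ := by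
        rw [he₂, adjM_smul, adjM_sub, adjM_one, hzadj, hσ2]
      have hTe1 : T * e₁ = e₁ * T := by
        rw [he₁, mul_smul_comm, smul_mul_assoc, mul_add, add_mul, mul_one, one_mul, hzT]
      have hTe2 : T * e₂ = e₂ * T := by
        rw [he₂, mul_smul_comm, smul_mul_assoc, mul_sub, sub_mul, mul_one, one_mul, hzT]
      have h2inv : (2 : F)⁻¹ ≠ 0 := inv_ne_zero h2F
      have he1 : e₁ ≠ 0 := by
        intro h1
        rw [he₁] at h1
        have h3 := (smul_eq_zero.mp h1).resolve_left h2inv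
        apply hψns
        refine ⟨-1, ?_⟩
        rw [neg_smul, one_smul]
        exact eq_neg_of_add_eq_zero_right h3
      have he2 : e₂ ≠ 0 := by
        intro h1
        rw [he₂] at h1
        have h3 := (smul_eq_zero.mp h1).resolve_left h2inv
        apply hψns
        refine ⟨1, ?_⟩
        rw [one_smul]
        exact (sub_eq_zero.mp h3).symm
      by_cases hne : T * e₁ = e₁
      · have hne2 : T * e₂ ≠ e₂ := by
          intro h1
          apply hT1
          calc T = T * (e₁ + e₂) := by rw [hsum, mul_one]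
            _ = 1 := by rw [mul_add, hne, h1, hsum]
        exact no_idem_of_ppd p a q hq hF σ hσq m le_rfl r hr hrp H1 H2 T hTU hTr e₂ e₁ h22 h11
          h21 h12 (by rw [add_comm]; exact hsum) ha2 ha1 hTe2 hTe1 he1 hne2
      · exact no_idem_of_ppd p a q hq hF σ hσq m le_rfl r hr hrp H1 H2 T hTU hTr e₁ e₂ h11 h22
          h12 h21 hsum ha1 ha2 hTe1 hTe2 he2 hne
    · rw [← hsord]
      apply orderOf_dvd_of_pow_eq_one
      rw [psu_pow_eq_one_iff hF, ← hh]
      exact ⟨c, hc⟩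
  · intro hdvd
    obtain ⟨y₀, hy₀⟩ := Cfsg.Agent.S2511.exists_uy0 (F := F) p a q hq hF σ hσq (n := 2 * m)
      (by omega)
    obtain ⟨g, hg⟩ := Cfsg.Agent.S2510.spec_dvd_closed (X := Cfsg.PSU (2 * m) F q) ⟨y₀, rfl⟩
      (hdvd.trans hy₀)
    exact ⟨g, hg⟩

end Cfsg.Agent.S2496
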