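import Cfsg.Statements.S2503
import Cfsg.Agent.Lib.Helper49.SL2
import Cfsg.Agent.Lib.Helper46.Mat2b
import Cfsg.Agent.S2475

set_option autoImplicit false
set_option linter.style.haveILetI false
open Cfsg

namespace Cfsg.Agent.S2503

open Cfsg.Agent.Lib.Helper49 Cfsg.Agent.Lib.Helper46

theorem exists_slU_of_col {F : Type*} [Field F] (P N : Matrix.SpecialLinearGroup (Fin 2) F)
    (h0 : (N : Matrix (Fin 2) (Fin 2) F) 0 0 = (P : Matrix (Fin 2) (Fin 2) F) 0 0)
    (h1 : (N : Matrix (Fin 2) (Fin 2) F) 1 0 = (P : Matrix (Fin 2) (Fin 2) F) 1 0) :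
    ∃ b : F, N = P * slU b := by
  have hP := P.det_coe
  have hN := N.det_coe
  rw [Matrix.det_fin_two] at hP hN
  rw [h0, h1] at hN
  refine ⟨(P : Matrix (Fin 2) (Fin 2) F) 1 1 * (N : Matrix (Fin 2) (Fin 2) F) 0 1 -
    (P : Matrix (Fin 2) (Fin 2) F) 0 1 * (N : Matrix (Fin 2) (Fin 2) F) 1 1, ?_⟩
  apply Subtype.ext
  rw [Matrix.SpecialLinearGroup.coe_mul, slU_coe]
  ext i j
  fin_cases i <;> fin_cases j <;> simp [Matrix.mul_apply, Fin.sum_univ_two]
  · exact h0
  · linear_combination (-(N : Matrix (Fin 2) (Fin 2) F) 0 1) * hP +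
      (P : Matrix (Fin 2) (Fin 2) F) 0 1 * hN
  · exact h1
  · linear_combination (-(N : Matrix (Fin 2) (Fin 2) F) 1 1) * hP +
      (P : Matrix (Fin 2) (Fin 2) F) 1 1 * hN

theorem aniso_form {F : Type*} [Field F] (τ : F) (hτ : ∀ r : F, r ^ 2 ≠ -1 + τ * r) (x y : F)
    (h : x ^ 2 + τ * x * y + y ^ 2 = 0) : x = 0 ∧ y = 0 := by
  by_cases hy : y = 0
  · subst hy
    simp at h
    exact ⟨h, rfl⟩
  · exfalso
    apply hτ (-x / y)
    field_simp
    linear_combination h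

theorem exists_w {F : Type*} [Field F] [Fintype F] [CharP F 2] (τ : F)
    (hτ : ∀ r : F, r ^ 2 ≠ -1 + τ * r)
    (a b c d : F) (hdet : a * d - b * c = 1) :
    ∃ x y : F, x ^ 2 + τ * x * y + y ^ 2 = 1 ∧
      (a * x + b * y) ^ 2 + τ * (a * x + b * y) * (c * x + d * y) + (c * x + d * y) ^ 2 = 1 := by
  have h2 : (2 : F) = 0 := CharTwo.two_eq_zero
  have hsq : ∀ e : F, ∃ r, r ^ 2 = e := fun e => by
    obtain ⟨r, hr⟩ := FiniteField.isSquare_of_char_two (ringChar.eq F 2) e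
    exact ⟨r, by rw [hr, pow_two]⟩
  obtain ⟨r, hr⟩ := hsq (b ^ 2 + τ * b * d + d ^ 2 - 1)
  obtain ⟨s, hs⟩ := hsq (a ^ 2 + τ * a * c + c ^ 2 - 1)
  have key : ∀ x y : F,
      (a * x + b * y) ^ 2 + τ * (a * x + b * y) * (c * x + d * y) + (c * x + d * y) ^ 2
      = (x ^ 2 + τ * x * y + y ^ 2) + (s ^ 2 * x ^ 2 + r ^ 2 * y ^ 2) := by
    intro x y
    rw [hr, hs]
    linear_combination (τ * x * y) * hdet + (a * b + τ * b * c + c * d) * x * y * h2
  by_cases h0 : r = 0 ∧ s = 0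
  · refine ⟨1, 0, by ring, ?_⟩
    rw [key, h0.1, h0.2]
    ring
  · obtain ⟨m, hm⟩ := hsq (r ^ 2 + τ * r * s + s ^ 2)
    have hm0 : m ≠ 0 := by
      rintro rfl
      have := aniso_form τ hτ r s (by rw [← hm]; ring)
      exact h0 this
    refine ⟨r / m, s / m, ?_, ?_⟩
    · field_simp
      linear_combination -hm
    · rw [key]
      field_simp
      linear_combination -hm + r ^ 2 * s ^ 2 * h2

/-- Let F be a finite field with q = 2^t ≥ 4 elements and L = PSL(2,F). Then L has a cyclic subgroup A of order q + 1 and an elementary abelian 2-subgroup B of order q such that L = ABA: every element of L is a product a·b·a' with a, a' ∈ A and b ∈ B. -/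
theorem result {F : Type*} [Field F] [Fintype F]
    (h2 : 2 ∣ Fintype.card F) (h4 : 4 ≤ Fintype.card F) :
    ∃ A B : Subgroup (Matrix.ProjectiveSpecialLinearGroup (Fin 2) F),
      IsCyclic A ∧ Nat.card A = Fintype.card F + 1 ∧ IsMulCommutative B ∧ (∀ b ∈ B, b * b = 1) ∧
        Nat.card B = Fintype.card F ∧
        ∀ g : Matrix.ProjectiveSpecialLinearGroup (Fin 2) F, ∃ a ∈ A, ∃ b ∈ B, ∃ c ∈ A, g = a * b * c := by
  classical
  haveI : Fact (Nat.Prime 2) := ⟨Nat.prime_two⟩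
  haveI : CharP F 2 :=
    ringChar.of_eq (FiniteField.even_card_iff_char_two.mpr (Nat.mod_eq_zero_of_dvd h2))
  have hc2 : (2 : F) = 0 := CharTwo.two_eq_zero
  have hone : ∀ c : F, c ^ 2 = 1 → c = 1 := by
    intro c hc
    have : (c - 1) ^ 2 = 0 := by linear_combination hc + (1 - c) * hc2
    exact sub_eq_zero.mp (pow_eq_zero_iff two_ne_zero |>.mp this)
  have hπ1 : ∀ X : Matrix.SpecialLinearGroup (Fin 2) F,
      (QuotientGroup.mk X : Matrix.ProjectiveSpecialLinearGroup (Fin 2) F) = 1 → X = 1 := by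
    intro X hX
    have h1 : (QuotientGroup.mk X : Matrix.ProjectiveSpecialLinearGroup (Fin 2) F) ^ 1 = 1 := by
      rw [pow_one, hX]
    rw [psl2_pow_eq_one_iff] at h1
    obtain ⟨c, hc, hX⟩ := h1
    apply Subtype.ext
    rw [pow_one, hone c hc, one_smul] at hX
    exact hX
  have hπinj : ∀ X Y : Matrix.SpecialLinearGroup (Fin 2) F,
      (QuotientGroup.mk X : Matrix.ProjectiveSpecialLinearGroup (Fin 2) F) = QuotientGroup.mk Y →
        X = Y := by
    intro X Y hXY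
    have h1 : (QuotientGroup.mk (X⁻¹ * Y) : Matrix.ProjectiveSpecialLinearGroup (Fin 2) F) = 1 := by
      rw [QuotientGroup.mk_mul, QuotientGroup.mk_inv, hXY, inv_mul_cancel]
    have h3 := hπ1 _ h1
    exact inv_mul_eq_one.mp h3
  obtain ⟨τ, hτ⟩ := exists_aniso F
  haveI : Fact (∀ r : F, r ^ 2 ≠ -1 + τ * r) := ⟨hτ⟩
  have hdet0 : (!![0, -1; 1, τ] : Matrix (Fin 2) (Fin 2) F).det = 1 := by
    simp [Matrix.det_fin_two]
  have hCH0 := m2_CH (!![0, -1; 1, τ] : Matrix (Fin 2) (Fin 2) F) hdet0 τ (by simp)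
  obtain ⟨β, hβ⟩ := exists_qa_orderOf (F := F) (t := τ)
  have hdetT : ∀ x y : F, x ^ 2 + τ * x * y + y ^ 2 = 1 →
      (x • (1 : Matrix (Fin 2) (Fin 2) F) + y • !![0, -1; 1, τ]).det = 1 := by
    intro x y h
    rw [m2_det_add_smul _ hdet0 τ (by simp), h]
  have hnorm : QuadraticAlgebra.norm β = 1 :=
    qa_norm_of_pow_eq_one 2 β (by rw [← hβ]; exact pow_orderOf_eq_one β)
  have hdetB : (qaToMat _ hCH0 β).det = 1 := by
    rw [qaToMat_apply]
    apply hdetT
    rw [QuadraticAlgebra.norm_def] at hnorm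
    linear_combination hnorm
  obtain ⟨u, hu⟩ : ∃ u : Matrix.SpecialLinearGroup (Fin 2) F,
      (u : Matrix (Fin 2) (Fin 2) F) = qaToMat _ hCH0 β := ⟨⟨_, hdetB⟩, rfl⟩
  have hT : ∀ (x y : F) (h : Matrix.SpecialLinearGroup (Fin 2) F),
      x ^ 2 + τ * x * y + y ^ 2 = 1 →
      (h : Matrix (Fin 2) (Fin 2) F) = x • (1 : Matrix (Fin 2) (Fin 2) F) + y • !![0, -1; 1, τ] →
      h ∈ Subgroup.zpowers u := by
    intro x y h hxy hh
    have hz : (⟨x, y⟩ : QuadraticAlgebra F (-1) τ) ^ (Fintype.card F + 1) = 1 := by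
      rw [qa_pow_card_add_one 2, QuadraticAlgebra.norm_def]
      have : x * x + τ * x * y - -1 * y * y = 1 := by linear_combination hxy
      rw [this, map_one]
    haveI : NeZero (orderOf β) := ⟨by rw [hβ]; omega⟩
    obtain ⟨i, -, hi⟩ := (IsPrimitiveRoot.orderOf β).eq_pow_of_pow_eq_one (by rw [hβ]; exact hz)
    have hhu : h = u ^ i := by
      apply Subtype.ext
      rw [Matrix.SpecialLinearGroup.coe_pow, hu, ← map_pow, hi, hh, qaToMat_apply]
    rw [hhu]
    exact Subgroup.pow_mem _ (Subgroup.mem_zpowers u) i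
  have hordu : orderOf (QuotientGroup.mk u : Matrix.ProjectiveSpecialLinearGroup (Fin 2) F) =
      Fintype.card F + 1 := by
    apply Cfsg.Agent.S2475.orderOf_eq_of_forall
    intro k
    rw [psl2_pow_eq_one_iff, hu, ← hβ, orderOf_dvd_iff_pow_eq_one]
    constructor
    · rintro ⟨c, hc, hk⟩
      rw [hone c hc, one_smul, ← map_pow, ← map_one (qaToMat _ hCH0)] at hk
      exact qaToMat_injective _ hCH0 hk
    · intro hk
      exact ⟨1, one_pow 2, by rw [← map_pow, hk, map_one, one_smul]⟩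
  have hadd : ∀ b b' : F, (slU (b + b') : Matrix.SpecialLinearGroup (Fin 2) F) = slU b * slU b' := by
    intro b b'
    apply Subtype.ext
    rw [Matrix.SpecialLinearGroup.coe_mul, slU_coe, slU_coe, slU_coe]
    ext i j
    fin_cases i <;> fin_cases j <;> simp [Matrix.mul_apply, Fin.sum_univ_two]
    ring
  have hzero : (slU (0 : F) : Matrix.SpecialLinearGroup (Fin 2) F) = 1 := by
    apply Subtype.ext
    rw [slU_coe]
    ext i j
    fin_cases i <;> fin_cases j <;> simp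
  have hself : ∀ b : F, (slU b : Matrix.SpecialLinearGroup (Fin 2) F) * slU b = 1 := by
    intro b
    rw [← hadd, CharTwo.add_self_eq_zero, hzero]
  let B : Subgroup (Matrix.ProjectiveSpecialLinearGroup (Fin 2) F) :=
    { carrier := Set.range (fun b : F =>
        (QuotientGroup.mk (slU b) : Matrix.ProjectiveSpecialLinearGroup (Fin 2) F))
      mul_mem' := by
        rintro _ _ ⟨b, rfl⟩ ⟨b', rfl⟩
        exact ⟨b + b', by simp only [hadd]; rfl⟩
      one_mem' := ⟨0, by simp only [hzero]; rfl⟩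
      inv_mem' := by
        rintro _ ⟨b, rfl⟩
        refine ⟨b, ?_⟩
        apply eq_inv_of_mul_eq_one_left
        simp only [← QuotientGroup.mk_mul, hself]
        rfl }
  have hBmem : ∀ z : Matrix.ProjectiveSpecialLinearGroup (Fin 2) F, z ∈ B ↔
      ∃ b : F, (QuotientGroup.mk (slU b) : Matrix.ProjectiveSpecialLinearGroup (Fin 2) F) = z :=
    fun z => Iff.rfl
  have hmap : ∀ v ∈ Subgroup.zpowers u,
      (QuotientGroup.mk v : Matrix.ProjectiveSpecialLinearGroup (Fin 2) F) ∈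
        Subgroup.zpowers (QuotientGroup.mk u : Matrix.ProjectiveSpecialLinearGroup (Fin 2) F) := by
    intro v hv
    obtain ⟨k, rfl⟩ := Subgroup.mem_zpowers_iff.mp hv
    exact Subgroup.mem_zpowers_iff.mpr ⟨k, (QuotientGroup.mk_zpow _ u k).symm⟩
  refine ⟨Subgroup.zpowers (QuotientGroup.mk u), B, inferInstance, ?_, ?_, ?_, ?_, ?_⟩
  · rw [Nat.card_zpowers, hordu]
  · refine ⟨⟨?_⟩⟩
    rintro ⟨x, hx⟩ ⟨y, hy⟩
    obtain ⟨b, rfl⟩ := (hBmem x).mp hx
    obtain ⟨b', rfl⟩ := (hBmem y).mp hy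
    apply Subtype.ext
    show (QuotientGroup.mk (slU b) : Matrix.ProjectiveSpecialLinearGroup (Fin 2) F) *
      QuotientGroup.mk (slU b') = QuotientGroup.mk (slU b') * QuotientGroup.mk (slU b)
    rw [← QuotientGroup.mk_mul, ← QuotientGroup.mk_mul, ← hadd, ← hadd, add_comm]
  · intro z hz
    obtain ⟨b, rfl⟩ := (hBmem z).mp hz
    rw [← QuotientGroup.mk_mul, hself]
    rfl
  · have hinj : Function.Injective (fun b : F =>
        (QuotientGroup.mk (slU b) : Matrix.ProjectiveSpecialLinearGroup (Fin 2) F)) := by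
      intro b b' hbb
      have h3 := hπinj _ _ hbb
      have h4 := congrArg (fun z : Matrix.SpecialLinearGroup (Fin 2) F =>
        (z : Matrix (Fin 2) (Fin 2) F) 0 1) h3
      simpa [slU_coe] using h4
    have hc := Nat.card_range_of_injective hinj
    rw [Nat.card_eq_fintype_card (α := F)] at hc
    exact hc
  · intro g
    obtain ⟨G, rfl⟩ := QuotientGroup.mk_surjective g
    have hGdet := G.det_coe
    rw [Matrix.det_fin_two] at hGdet
    obtain ⟨x, y, hQ1, hQ2⟩ := exists_w τ hτ _ _ _ _ hGdet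
    obtain ⟨aw, haw⟩ : ∃ v : Matrix.SpecialLinearGroup (Fin 2) F,
        (v : Matrix (Fin 2) (Fin 2) F) =
          x • (1 : Matrix (Fin 2) (Fin 2) F) + y • !![0, -1; 1, τ] :=
      ⟨⟨_, hdetT x y hQ1⟩, rfl⟩
    obtain ⟨a1, ha1⟩ : ∃ v : Matrix.SpecialLinearGroup (Fin 2) F,
        (v : Matrix (Fin 2) (Fin 2) F) =
          ((G : Matrix (Fin 2) (Fin 2) F) 0 0 * x + (G : Matrix (Fin 2) (Fin 2) F) 0 1 * y) •
              (1 : Matrix (Fin 2) (Fin 2) F) +
            ((G : Matrix (Fin 2) (Fin 2) F) 1 0 * x + (G : Matrix (Fin 2) (Fin 2) F) 1 1 * y) •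
              !![0, -1; 1, τ] :=
      ⟨⟨_, hdetT _ _ hQ2⟩, rfl⟩
    obtain ⟨b, hb⟩ := exists_slU_of_col a1 (G * aw)
      (by
        rw [Matrix.SpecialLinearGroup.coe_mul, haw, ha1]
        simp [Matrix.mul_apply, Fin.sum_univ_two])
      (by
        rw [Matrix.SpecialLinearGroup.coe_mul, haw, ha1]
        simp [Matrix.mul_apply, Fin.sum_univ_two])
    have hG : G = a1 * slU b * aw⁻¹ := by
      rw [← hb]
      group
    have ha1m : a1 ∈ Subgroup.zpowers u := hT _ _ a1 hQ2 ha1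
    have hawm : aw⁻¹ ∈ Subgroup.zpowers u := inv_mem (hT _ _ aw hQ1 haw)
    refine ⟨QuotientGroup.mk a1, hmap _ ha1m, QuotientGroup.mk (slU b), ⟨b, rfl⟩,
      QuotientGroup.mk aw⁻¹, hmap _ hawm, ?_⟩
    rw [hG]
    rfl

end Cfsg.Agent.S2503
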