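import Cfsg.Statements.S2507
import Cfsg.Agent.Lib.Helper49.PSL2Class
import Cfsg.Agent.Lib.Helper49.SL2
import Cfsg.Agent.S2456

set_option autoImplicit false
set_option linter.style.haveILetI false
open Cfsg

namespace Cfsg.Agent.S2507

open Cfsg.Agent.Lib.Helper49 Cfsg.Agent.Lib.Helper46

theorem even_unip {F : Type*} [Field F] [Fintype F] [CharP F 2]
    (g : Matrix.SpecialLinearGroup (Fin 2) F)
    (ht : (g : Matrix (Fin 2) (Fin 2) F).trace = 0) (h1 : g ≠ 1) :
    (Subgroup.centralizer ({g} : Set (Matrix.SpecialLinearGroup (Fin 2) F))).index =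
      Fintype.card F ^ 2 - 1 := by
  haveI : Fact (Nat.Prime 2) := ⟨Nat.prime_two⟩
  have h2 : (2 : F) = 0 := CharTwo.two_eq_zero
  have := sl2_index_centralizer_unipotent 2 g (by rw [ht, h2]) h1
  rwa [card_sq_eq_one_even, mul_one] at this

theorem even_ss {F : Type*} [Field F] [Fintype F] [CharP F 2]
    (g : Matrix.SpecialLinearGroup (Fin 2) F) (t : F)
    (ht : (g : Matrix (Fin 2) (Fin 2) F).trace = t) (ht0 : t ≠ 0) :
    (Subgroup.centralizer ({g} : Set (Matrix.SpecialLinearGroup (Fin 2) F))).index =
      Fintype.card F * (Fintype.card F - 1) +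
        Nat.card {a : F // a ^ 2 - t * a + 1 = 0} * Fintype.card F := by
  rw [sl2_index_centralizer_of_conj g t ht
    (fun h hh => Cfsg.Agent.S2456.conj_of_trace g h (by rw [ht, hh]) (by rw [ht]; exact ht0)),
    card_trFiber]

theorem nat_aux (n : ℕ) (hn : 1 ≤ n) : n * (n - 1) + 2 * n = n * (n + 1) := by
  obtain ⟨k, rfl⟩ := Nat.exists_eq_add_of_le hn
  simp only [Nat.add_sub_cancel_left]
  ring

/-- Let F be a finite field with q = 2^f ≥ 4 elements. The conjugacy class sizes of PSL(2,F) are exactly 1, q(q − 1), q² − 1 and q(q + 1). -/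
theorem result {F : Type*} [Field F] [Fintype F]
    (h2 : 2 ∣ Fintype.card F) (h4 : 4 ≤ Fintype.card F) :
    Set.range (fun g : (Matrix.ProjectiveSpecialLinearGroup (Fin 2) F) => (Subgroup.centralizer ({g} : Set (Matrix.ProjectiveSpecialLinearGroup (Fin 2) F))).index) =
      {1, Fintype.card F * (Fintype.card F - 1), Fintype.card F ^ 2 - 1, Fintype.card F * (Fintype.card F + 1)} := by
  classical
  haveI : Fact (Nat.Prime 2) := ⟨Nat.prime_two⟩
  haveI : CharP F 2 :=
    ringChar.of_eq (FiniteField.even_card_iff_char_two.mpr (Nat.mod_eq_zero_of_dvd h2))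
  have hc2 : (2 : F) = 0 := CharTwo.two_eq_zero
  have hq1 : 1 ≤ Fintype.card F := by omega
  have hidx : ∀ g : Matrix.SpecialLinearGroup (Fin 2) F,
      (Subgroup.centralizer ({(QuotientGroup.mk g : Matrix.ProjectiveSpecialLinearGroup (Fin 2) F)} :
        Set (Matrix.ProjectiveSpecialLinearGroup (Fin 2) F))).index =
      (Subgroup.centralizer ({g} : Set (Matrix.SpecialLinearGroup (Fin 2) F))).index :=
    fun g => psl2_index_even hc2 g
  have hone : (Subgroup.centralizer ({(1 : Matrix.ProjectiveSpecialLinearGroup (Fin 2) F)} :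
        Set (Matrix.ProjectiveSpecialLinearGroup (Fin 2) F))).index = 1 := by
    rw [Subgroup.index_eq_one, Subgroup.centralizer_eq_top_iff_subset]
    rintro _ rfl
    exact Subgroup.one_mem _
  apply Set.eq_of_subset_of_subset
  · rintro _ ⟨x, rfl⟩
    obtain ⟨g, rfl⟩ := QuotientGroup.mk_surjective x
    simp only [Set.mem_insert_iff, Set.mem_singleton_iff]
    by_cases hg1 : g = 1
    · left
      rw [hg1]
      exact hone
    · rw [hidx]
      by_cases ht0 : (g : Matrix (Fin 2) (Fin 2) F).trace = 0
      · right; right; left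
        exact even_unip g ht0 hg1
      · rw [even_ss g _ rfl ht0]
        by_cases hroot : ∃ α : F, α ^ 2 - (g : Matrix (Fin 2) (Fin 2) F).trace * α + 1 = 0
        · obtain ⟨α, hα⟩ := hroot
          right; right; right
          rw [card_roots_two _ α hα, nat_aux _ hq1]
          intro he
          apply ht0
          linear_combination -he + α * hc2
        · push Not at hroot
          right; left
          rw [card_roots_none _ hroot, zero_mul, add_zero]
  · intro n hn
    simp only [Set.mem_insert_iff, Set.mem_singleton_iff] at hn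
    rcases hn with rfl | rfl | rfl | rfl
    · exact ⟨1, hone⟩
    · obtain ⟨τ, hτ⟩ := exists_aniso F
      have hτ0 : τ ≠ 0 := by
        rintro rfl
        apply hτ 1
        linear_combination hc2
      refine ⟨QuotientGroup.mk (slComp τ 1 one_ne_zero), ?_⟩
      show (Subgroup.centralizer ({(QuotientGroup.mk (slComp τ 1 one_ne_zero) :
        Matrix.ProjectiveSpecialLinearGroup (Fin 2) F)} :
        Set (Matrix.ProjectiveSpecialLinearGroup (Fin 2) F))).index = _
      rw [hidx, even_ss _ τ (trace_slComp τ 1 one_ne_zero) hτ0, card_roots_none, zero_mul, add_zero]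
      intro a ha
      exact hτ a (by linear_combination ha)
    · refine ⟨QuotientGroup.mk (slU 1), ?_⟩
      show (Subgroup.centralizer ({(QuotientGroup.mk (slU 1) :
        Matrix.ProjectiveSpecialLinearGroup (Fin 2) F)} :
        Set (Matrix.ProjectiveSpecialLinearGroup (Fin 2) F))).index = _
      rw [hidx]
      exact even_unip _ (by rw [trace_slU, hc2]) (slU_ne_one 1 one_ne_zero)
    · obtain ⟨α, hα0, hα1⟩ : ∃ α : F, α ≠ 0 ∧ α ≠ 1 := by
        by_contra hcon
        push Not at hcon
        have hsub : (Finset.univ : Finset F) ⊆ {0, 1} := by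
          intro a _
          by_cases ha : a = 0
          · simp [ha]
          · simp [hcon a ha]
        have := Finset.card_le_card hsub
        have h3 : ({0, 1} : Finset F).card ≤ 2 := Finset.card_le_two
        rw [Finset.card_univ] at this
        omega
      have hαα : α * α⁻¹ = 1 := mul_inv_cancel₀ hα0
      have hroot : α ^ 2 - (α + α⁻¹) * α + 1 = 0 := by linear_combination -hαα
      have ht0 : α + α⁻¹ ≠ 0 := by
        intro h0
        have h5 : (α - 1) ^ 2 = 0 := by linear_combination α * h0 - hαα - α * hc2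
        exact hα1 (sub_eq_zero.mp (pow_eq_zero_iff two_ne_zero |>.mp h5))
      refine ⟨QuotientGroup.mk (slComp (α + α⁻¹) 1 one_ne_zero), ?_⟩
      show (Subgroup.centralizer ({(QuotientGroup.mk (slComp (α + α⁻¹) 1 one_ne_zero) :
        Matrix.ProjectiveSpecialLinearGroup (Fin 2) F)} :
        Set (Matrix.ProjectiveSpecialLinearGroup (Fin 2) F))).index = _
      rw [hidx, even_ss _ (α + α⁻¹) (trace_slComp _ 1 one_ne_zero) ht0,
        card_roots_two _ α hroot, nat_aux _ hq1]
      intro he
      apply ht0
      linear_combination -he + α * hc2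

end Cfsg.Agent.S2507
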