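import Cfsg.Statements.S2508
import Cfsg.Agent.Lib.Helper49.PSL2Class
import Cfsg.Agent.Lib.Helper49.SL2
import Cfsg.Agent.S2325
import Cfsg.Agent.S2507

set_option autoImplicit false
set_option linter.style.haveILetI false
open Cfsg

namespace Cfsg.Agent.S2508

open Cfsg.Agent.Lib.Helper49 Cfsg.Agent.Lib.Helper46

theorem nonScalar_of_trace {F : Type*} [Field F] (h : Matrix.SpecialLinearGroup (Fin 2) F)
    (h1 : (h : Matrix (Fin 2) (Fin 2) F).trace ≠ 2)
    (h2 : (h : Matrix (Fin 2) (Fin 2) F).trace ≠ -2) :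
    Cfsg.Agent.Lib.Helper46.NonScalar (h : Matrix (Fin 2) (Fin 2) F) := by
  by_contra hns
  unfold Cfsg.Agent.Lib.Helper46.NonScalar at hns
  push Not at hns
  obtain ⟨e1, e2, e3⟩ := hns
  have hd := h.det_coe
  rw [Matrix.det_fin_two, e1, zero_mul, sub_zero, ← e3] at hd
  rw [Matrix.trace_fin_two, ← e3] at h1 h2
  have h5 : ((h : Matrix (Fin 2) (Fin 2) F) 0 0 - 1) * ((h : Matrix (Fin 2) (Fin 2) F) 0 0 + 1) = 0 := by
    linear_combination hd
  rcases mul_eq_zero.mp h5 with h | h
  · apply h1
    linear_combination 2 * h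
  · apply h2
    linear_combination 2 * h

theorem conj_of_trace_odd {F : Type*} [Field F] [Fintype F] (hodd : Fintype.card F % 2 = 1)
    (h2 : (2 : F) ≠ 0) (g h : Matrix.SpecialLinearGroup (Fin 2) F)
    (ht : (g : Matrix (Fin 2) (Fin 2) F).trace = (h : Matrix (Fin 2) (Fin 2) F).trace)
    (h1 : (g : Matrix (Fin 2) (Fin 2) F).trace ≠ 2)
    (h1' : (g : Matrix (Fin 2) (Fin 2) F).trace ≠ -2) : IsConj g h :=
  sl_isConj_of_rep_one g h ht
    (Cfsg.Agent.S2325.rep_one_of_trace hodd h2 g (nonScalar_of_trace g h1 h1') h1 h1')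
    (Cfsg.Agent.S2325.rep_one_of_trace hodd h2 h (nonScalar_of_trace h (ht ▸ h1) (ht ▸ h1'))
      (ht ▸ h1) (ht ▸ h1'))

theorem odd_unip {F : Type*} [Field F] [Fintype F] (p : ℕ) [Fact p.Prime] [CharP F p]
    (h2 : (2 : F) ≠ 0) (g : Matrix.SpecialLinearGroup (Fin 2) F)
    (ht : (g : Matrix (Fin 2) (Fin 2) F).trace = 2) (h1 : g ≠ 1) :
    (Subgroup.centralizer ({(QuotientGroup.mk g : Matrix.ProjectiveSpecialLinearGroup (Fin 2) F)} :
      Set (Matrix.ProjectiveSpecialLinearGroup (Fin 2) F))).index * 2 = Fintype.card F ^ 2 - 1 := by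
  rw [psl2_index_odd_of_trace_ne_zero h2 g (by rw [ht]; exact h2)]
  have := sl2_index_centralizer_unipotent p g ht h1
  rwa [card_sq_eq_one_odd h2] at this

theorem odd_ss {F : Type*} [Field F] [Fintype F] (hodd : Fintype.card F % 2 = 1)
    (h2 : (2 : F) ≠ 0) (g : Matrix.SpecialLinearGroup (Fin 2) F) (t : F)
    (ht : (g : Matrix (Fin 2) (Fin 2) F).trace = t) (ht0 : t ≠ 0) (ht1 : t ≠ 2) (ht2 : t ≠ -2) :
    (Subgroup.centralizer ({(QuotientGroup.mk g : Matrix.ProjectiveSpecialLinearGroup (Fin 2) F)} :
      Set (Matrix.ProjectiveSpecialLinearGroup (Fin 2) F))).index =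
      Fintype.card F * (Fintype.card F - 1) +
        Nat.card {a : F // a ^ 2 - t * a + 1 = 0} * Fintype.card F := by
  rw [psl2_index_odd_of_trace_ne_zero h2 g (by rw [ht]; exact ht0),
    sl2_index_centralizer_of_conj g t ht
      (fun h hh => conj_of_trace_odd hodd h2 g h (by rw [ht, hh]) (by rw [ht]; exact ht1)
        (by rw [ht]; exact ht2)),
    card_trFiber]

theorem odd_zero {F : Type*} [Field F] [Fintype F] (hodd : Fintype.card F % 2 = 1)
    (h2 : (2 : F) ≠ 0) (g : Matrix.SpecialLinearGroup (Fin 2) F)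
    (ht : (g : Matrix (Fin 2) (Fin 2) F).trace = 0) :
    2 * (Subgroup.centralizer ({(QuotientGroup.mk g : Matrix.ProjectiveSpecialLinearGroup (Fin 2) F)} :
      Set (Matrix.ProjectiveSpecialLinearGroup (Fin 2) F))).index =
      Fintype.card F * (Fintype.card F - 1) +
        Nat.card {a : F // a ^ 2 - (0 : F) * a + 1 = 0} * Fintype.card F := by
  have h20 : (0 : F) ≠ 2 := fun h => h2 h.symm
  have h20' : (0 : F) ≠ -2 := fun h => h2 (by linear_combination h)
  rw [psl2_index_odd_trace_zero h2 g ht
      (fun h hh => conj_of_trace_odd hodd h2 g h (by rw [ht, hh]) (by rw [ht]; exact h20)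
        (by rw [ht]; exact h20')),
    card_trFiber]

/-- An anisotropic trace different from zero. -/
theorem exists_aniso_ne_zero {F : Type*} [Field F] [Fintype F] (h2 : (2 : F) ≠ 0)
    (h5 : 5 ≤ Fintype.card F) : ∃ t : F, t ≠ 0 ∧ ∀ a : F, a ^ 2 - t * a + 1 ≠ 0 := by
  classical
  obtain ⟨τ, hτ⟩ := exists_aniso F
  by_cases hτ0 : τ = 0
  · subst hτ0
    obtain ⟨b, hb0, hb1, hb2⟩ : ∃ b : F, b ≠ 0 ∧ b ≠ 1 ∧ b ≠ -1 := by
      by_contra hcon
      push Not at hcon
      have hsub : (Finset.univ : Finset F) ⊆ {0, 1, -1} := by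
        intro a _
        by_cases ha : a = 0
        · simp [ha]
        · by_cases ha1 : a = 1
          · simp [ha1]
          · simp [hcon a ha ha1]
      have := Finset.card_le_card hsub
      have h3 : ({0, 1, -1} : Finset F).card ≤ 3 := Finset.card_le_three
      rw [Finset.card_univ] at this
      omega
    have hD : 1 + b ^ 2 ≠ 0 := by
      intro h
      apply hτ b
      linear_combination h
    refine ⟨2 * (1 - b ^ 2) / (1 + b ^ 2), ?_, ?_⟩
    · apply div_ne_zero (mul_ne_zero h2 ?_) hD
      intro h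
      have h6 : (b - 1) * (b + 1) = 0 := by linear_combination -h
      rcases mul_eq_zero.mp h6 with h | h
      · exact hb1 (sub_eq_zero.mp h)
      · exact hb2 (eq_neg_of_add_eq_zero_left h)
    · intro a ha
      have ha' : (1 + b ^ 2) * a ^ 2 - 2 * (1 - b ^ 2) * a + (1 + b ^ 2) = 0 := by
        field_simp at ha
        linear_combination ha
      apply hτ (((1 + b ^ 2) * a - (1 - b ^ 2)) / (2 * b))
      field_simp
      linear_combination (1 + b ^ 2) * ha'
  · exact ⟨τ, hτ0, fun a ha => hτ a (by linear_combination ha)⟩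

/-- Let F be a finite field with q elements, q odd and q ≥ 7. If q ≡ 1 (mod 4) the conjugacy class sizes of PSL(2,F) are exactly 1, (q² − 1)/2, q(q + 1)/2, q(q − 1) and q(q + 1); if q ≡ 3 (mod 4) they are exactly 1, (q² − 1)/2, q(q − 1)/2, q(q + 1) and q(q − 1). -/
theorem result {F : Type*} [Field F] [Fintype F]
    (hodd : ¬ 2 ∣ Fintype.card F) (h7 : 7 ≤ Fintype.card F) :
    (Fintype.card F % 4 = 1 →
      Set.range (fun g : (Matrix.ProjectiveSpecialLinearGroup (Fin 2) F) => (Subgroup.centralizer ({g} : Set (Matrix.ProjectiveSpecialLinearGroup (Fin 2) F))).index) =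
        {1, (Fintype.card F ^ 2 - 1) / 2, Fintype.card F * (Fintype.card F + 1) / 2,
          Fintype.card F * (Fintype.card F - 1), Fintype.card F * (Fintype.card F + 1)}) ∧
    (Fintype.card F % 4 = 3 →
      Set.range (fun g : (Matrix.ProjectiveSpecialLinearGroup (Fin 2) F) => (Subgroup.centralizer ({g} : Set (Matrix.ProjectiveSpecialLinearGroup (Fin 2) F))).index) =
        {1, (Fintype.card F ^ 2 - 1) / 2, Fintype.card F * (Fintype.card F - 1) / 2,
          Fintype.card F * (Fintype.card F + 1), Fintype.card F * (Fintype.card F - 1)}) := by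
  classical
  have hodd' : Fintype.card F % 2 = 1 := by omega
  have hchar : ringChar F ≠ 2 := by
    intro h
    have := FiniteField.even_card_of_char_two h
    omega
  have hc2 : (2 : F) ≠ 0 := Ring.two_ne_zero hchar
  haveI : CharP F (ringChar F) := ringChar.charP F
  haveI : Fact (ringChar F).Prime := ⟨CharP.char_is_prime F (ringChar F)⟩
  have hq1 : 1 ≤ Fintype.card F := by omega
  have hone : (Subgroup.centralizer ({(1 : Matrix.ProjectiveSpecialLinearGroup (Fin 2) F)} :
        Set (Matrix.ProjectiveSpecialLinearGroup (Fin 2) F))).index = 1 := by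
    rw [Subgroup.index_eq_one, Subgroup.centralizer_eq_top_iff_subset]
    rintro _ rfl
    exact Subgroup.one_mem _
  -- classification of the class sizes
  have hcls : ∀ x : Matrix.ProjectiveSpecialLinearGroup (Fin 2) F,
      (Subgroup.centralizer ({x} : Set (Matrix.ProjectiveSpecialLinearGroup (Fin 2) F))).index = 1 ∨
      (Subgroup.centralizer ({x} : Set (Matrix.ProjectiveSpecialLinearGroup (Fin 2) F))).index * 2 =
        Fintype.card F ^ 2 - 1 ∨
      2 * (Subgroup.centralizer ({x} : Set (Matrix.ProjectiveSpecialLinearGroup (Fin 2) F))).index =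
        Fintype.card F * (Fintype.card F - 1) +
          Nat.card {a : F // a ^ 2 - (0 : F) * a + 1 = 0} * Fintype.card F ∨
      (Subgroup.centralizer ({x} : Set (Matrix.ProjectiveSpecialLinearGroup (Fin 2) F))).index =
        Fintype.card F * (Fintype.card F - 1) ∨
      (Subgroup.centralizer ({x} : Set (Matrix.ProjectiveSpecialLinearGroup (Fin 2) F))).index =
        Fintype.card F * (Fintype.card F + 1) := by
    intro x
    obtain ⟨g, rfl⟩ := QuotientGroup.mk_surjective x
    by_cases hcen : g ∈ Subgroup.center (Matrix.SpecialLinearGroup (Fin 2) F)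
    · left
      have : (QuotientGroup.mk g : Matrix.ProjectiveSpecialLinearGroup (Fin 2) F) = 1 :=
        (QuotientGroup.eq_one_iff g).mpr hcen
      rw [this]
      exact hone
    · have hg1 : g ≠ 1 := fun h => hcen (h ▸ Subgroup.one_mem _)
      have hg2 : g ≠ -1 := fun h => hcen ((sl2_mem_center_iff g).mpr (Or.inr h))
      by_cases ht2 : (g : Matrix (Fin 2) (Fin 2) F).trace = 2
      · right; left
        exact odd_unip (ringChar F) hc2 g ht2 hg1
      · by_cases ht2' : (g : Matrix (Fin 2) (Fin 2) F).trace = -2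
        · right; left
          have hmk : (QuotientGroup.mk g : Matrix.ProjectiveSpecialLinearGroup (Fin 2) F) =
              QuotientGroup.mk (-g) := by
            rw [← sl2_mul_neg_one, QuotientGroup.mk_mul,
              (QuotientGroup.eq_one_iff (-1 : Matrix.SpecialLinearGroup (Fin 2) F)).mpr
                ((sl2_mem_center_iff _).mpr (Or.inr rfl)), mul_one]
          rw [hmk]
          apply odd_unip (ringChar F) hc2 (-g)
          · rw [sl2_trace_neg, ht2', neg_neg]
          · intro h
            apply hg2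
            rw [← h, neg_neg]
        · by_cases ht0 : (g : Matrix (Fin 2) (Fin 2) F).trace = 0
          · right; right; left
            exact odd_zero hodd' hc2 g ht0
          · rw [odd_ss hodd' hc2 g _ rfl ht0 ht2 ht2']
            by_cases hroot : ∃ α : F, α ^ 2 - (g : Matrix (Fin 2) (Fin 2) F).trace * α + 1 = 0
            · obtain ⟨α, hα⟩ := hroot
              right; right; right; right
              rw [card_roots_two _ α hα, Cfsg.Agent.S2507.nat_aux _ hq1]
              intro he
              have h6 : ((g : Matrix (Fin 2) (Fin 2) F).trace - 2) *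
                  ((g : Matrix (Fin 2) (Fin 2) F).trace + 2) = 0 := by
                linear_combination (-4) * hα + (2 * α - (g : Matrix (Fin 2) (Fin 2) F).trace) * he
              rcases mul_eq_zero.mp h6 with h | h
              · exact ht2 (sub_eq_zero.mp h)
              · exact ht2' (eq_neg_of_add_eq_zero_left h)
            · push Not at hroot
              right; right; right; left
              rw [card_roots_none _ hroot, zero_mul, add_zero]
  -- existence of each class size
  have hex1 : ∃ x : Matrix.ProjectiveSpecialLinearGroup (Fin 2) F,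
      (Subgroup.centralizer ({x} : Set (Matrix.ProjectiveSpecialLinearGroup (Fin 2) F))).index = 1 :=
    ⟨1, hone⟩
  have hex2 : ∃ x : Matrix.ProjectiveSpecialLinearGroup (Fin 2) F,
      (Subgroup.centralizer ({x} : Set (Matrix.ProjectiveSpecialLinearGroup (Fin 2) F))).index * 2 =
        Fintype.card F ^ 2 - 1 :=
    ⟨QuotientGroup.mk (slU 1),
      odd_unip (ringChar F) hc2 _ (trace_slU 1) (slU_ne_one 1 one_ne_zero)⟩
  have hex3 : ∃ x : Matrix.ProjectiveSpecialLinearGroup (Fin 2) F,
      2 * (Subgroup.centralizer ({x} : Set (Matrix.ProjectiveSpecialLinearGroup (Fin 2) F))).index =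
        Fintype.card F * (Fintype.card F - 1) +
          Nat.card {a : F // a ^ 2 - (0 : F) * a + 1 = 0} * Fintype.card F :=
    ⟨QuotientGroup.mk (slComp 0 1 one_ne_zero),
      odd_zero hodd' hc2 _ (trace_slComp 0 1 one_ne_zero)⟩
  have hex4 : ∃ x : Matrix.ProjectiveSpecialLinearGroup (Fin 2) F,
      (Subgroup.centralizer ({x} : Set (Matrix.ProjectiveSpecialLinearGroup (Fin 2) F))).index =
        Fintype.card F * (Fintype.card F - 1) := by
    obtain ⟨t, ht0, ht⟩ := exists_aniso_ne_zero hc2 (by omega : 5 ≤ Fintype.card F)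
    have ht1 : t ≠ 2 := by
      rintro rfl
      exact ht 1 (by ring)
    have ht2 : t ≠ -2 := by
      rintro rfl
      exact ht (-1) (by ring)
    refine ⟨QuotientGroup.mk (slComp t 1 one_ne_zero), ?_⟩
    rw [odd_ss hodd' hc2 _ t (trace_slComp t 1 one_ne_zero) ht0 ht1 ht2, card_roots_none _ ht,
      zero_mul, add_zero]
  have hex5 : ∃ x : Matrix.ProjectiveSpecialLinearGroup (Fin 2) F,
      (Subgroup.centralizer ({x} : Set (Matrix.ProjectiveSpecialLinearGroup (Fin 2) F))).index =
        Fintype.card F * (Fintype.card F + 1) := by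
    obtain ⟨u, hu⟩ := IsCyclic.exists_generator (α := Fˣ)
    have hordu : orderOf (u : F) = Fintype.card F - 1 := by
      rw [orderOf_units, orderOf_eq_card_of_forall_mem_zpowers hu, Nat.card_units,
        Nat.card_eq_fintype_card]
    have hu4 : (u : F) ^ 4 ≠ 1 := by
      intro h
      have h5 := orderOf_dvd_of_pow_eq_one h
      rw [hordu] at h5
      have := Nat.le_of_dvd (by norm_num) h5
      omega
    obtain ⟨α, hα⟩ : ∃ α : F, α = (u : F) := ⟨_, rfl⟩
    rw [← hα] at hu4
    have hα0 : α ≠ 0 := hα ▸ u.ne_zero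
    have hαα : α * α⁻¹ = 1 := mul_inv_cancel₀ hα0
    have hroot : α ^ 2 - (α + α⁻¹) * α + 1 = 0 := by linear_combination -hαα
    have hsq : α ^ 2 ≠ 1 := fun h => hu4 (by
      rw [show (4 : ℕ) = 2 * 2 from rfl, pow_mul, h, one_pow])
    have hsq' : α ^ 2 ≠ -1 := fun h => hu4 (by
      rw [show (4 : ℕ) = 2 * 2 from rfl, pow_mul, h]
      ring)
    have ht0 : α + α⁻¹ ≠ 0 := by
      intro h0
      apply hsq'
      linear_combination α * h0 - hαα
    have ht1 : α + α⁻¹ ≠ 2 := by
      intro h0
      have h6 : (α - 1) ^ 2 = 0 := by linear_combination α * h0 - hαα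
      apply hsq
      rw [sub_eq_zero.mp (pow_eq_zero_iff two_ne_zero |>.mp h6), one_pow]
    have ht2 : α + α⁻¹ ≠ -2 := by
      intro h0
      have h6 : (α + 1) ^ 2 = 0 := by linear_combination α * h0 - hαα
      apply hsq
      rw [eq_neg_of_add_eq_zero_left (pow_eq_zero_iff two_ne_zero |>.mp h6)]
      ring
    refine ⟨QuotientGroup.mk (slComp (α + α⁻¹) 1 one_ne_zero), ?_⟩
    rw [odd_ss hodd' hc2 _ _ (trace_slComp _ 1 one_ne_zero) ht0 ht1 ht2, card_roots_two _ α hroot,
      Cfsg.Agent.S2507.nat_aux _ hq1]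
    intro he
    apply hsq
    linear_combination α * he + hαα
  constructor
  · intro h41
    have hr0 : Nat.card {a : F // a ^ 2 - (0 : F) * a + 1 = 0} = 2 := by
      have hsq : IsSquare (-1 : F) := FiniteField.isSquare_neg_one_iff.mpr (by omega)
      obtain ⟨i, hi⟩ := hsq
      apply card_roots_two _ i (by linear_combination -hi)
      intro he
      have h6 : (2 : F) * i = 0 := by linear_combination he
      rcases mul_eq_zero.mp h6 with h | h
      · exact hc2 h
      · rw [h, mul_zero] at hi
        exact (neg_ne_zero.mpr one_ne_zero) hi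
    simp only [hr0] at hcls hex3
    rw [Cfsg.Agent.S2507.nat_aux _ hq1] at hex3
    simp only [Cfsg.Agent.S2507.nat_aux _ hq1] at hcls
    obtain ⟨N, hN⟩ : ∃ N, N = Fintype.card F ^ 2 - 1 := ⟨_, rfl⟩
    obtain ⟨K, hK⟩ : ∃ K, K = Fintype.card F * (Fintype.card F + 1) := ⟨_, rfl⟩
    obtain ⟨L, hL⟩ : ∃ L, L = Fintype.card F * (Fintype.card F - 1) := ⟨_, rfl⟩
    rw [← hN, ← hK] at hcls
    rw [← hL] at hcls
    rw [← hN] at hex2
    rw [← hK] at hex3 hex5
    rw [← hL] at hex4
    rw [← hN, ← hK, ← hL]
    apply Set.eq_of_subset_of_subset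
    · rintro _ ⟨x, rfl⟩
      simp only [Set.mem_insert_iff, Set.mem_singleton_iff]
      rcases hcls x with h | h | h | h | h
      · left; exact h
      · right; left; omega
      · right; right; left; omega
      · right; right; right; left; exact h
      · right; right; right; right; exact h
    · intro n hn
      simp only [Set.mem_insert_iff, Set.mem_singleton_iff] at hn
      rcases hn with rfl | rfl | rfl | rfl | rfl
      · obtain ⟨x, hx⟩ := hex1
        exact ⟨x, hx⟩
      · obtain ⟨x, hx⟩ := hex2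
        refine ⟨x, ?_⟩
        beta_reduce
        omega
      · obtain ⟨x, hx⟩ := hex3
        refine ⟨x, ?_⟩
        beta_reduce
        omega
      · obtain ⟨x, hx⟩ := hex4
        exact ⟨x, hx⟩
      · obtain ⟨x, hx⟩ := hex5
        exact ⟨x, hx⟩
  · intro h43
    have hr0 : Nat.card {a : F // a ^ 2 - (0 : F) * a + 1 = 0} = 0 := by
      apply card_roots_none
      intro a ha
      have hns : ¬ IsSquare (-1 : F) := fun h => FiniteField.isSquare_neg_one_iff.mp h h43
      exact hns ⟨a, by linear_combination -ha⟩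
    simp only [hr0] at hcls hex3
    simp only [zero_mul, add_zero] at hcls hex3
    obtain ⟨N, hN⟩ : ∃ N, N = Fintype.card F ^ 2 - 1 := ⟨_, rfl⟩
    obtain ⟨K, hK⟩ : ∃ K, K = Fintype.card F * (Fintype.card F + 1) := ⟨_, rfl⟩
    obtain ⟨L, hL⟩ : ∃ L, L = Fintype.card F * (Fintype.card F - 1) := ⟨_, rfl⟩
    rw [← hN, ← hK] at hcls
    rw [← hL] at hcls
    rw [← hN] at hex2
    rw [← hK] at hex5
    rw [← hL] at hex3 hex4
    rw [← hN, ← hK, ← hL]
    apply Set.eq_of_subset_of_subset
    · rintro _ ⟨x, rfl⟩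
      simp only [Set.mem_insert_iff, Set.mem_singleton_iff]
      rcases hcls x with h | h | h | h | h
      · left; exact h
      · right; left; omega
      · right; right; left; omega
      · right; right; right; right; exact h
      · right; right; right; left; exact h
    · intro n hn
      simp only [Set.mem_insert_iff, Set.mem_singleton_iff] at hn
      rcases hn with rfl | rfl | rfl | rfl | rfl
      · obtain ⟨x, hx⟩ := hex1
        exact ⟨x, hx⟩
      · obtain ⟨x, hx⟩ := hex2
        refine ⟨x, ?_⟩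
        beta_reduce
        omega
      · obtain ⟨x, hx⟩ := hex3
        refine ⟨x, ?_⟩
        beta_reduce
        omega
      · obtain ⟨x, hx⟩ := hex5
        exact ⟨x, hx⟩
      · obtain ⟨x, hx⟩ := hex4
        exact ⟨x, hx⟩

end Cfsg.Agent.S2508
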