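import Cfsg.Statements.S2515
import Cfsg.Agent.S2475
import Cfsg.Agent.Lib.Helper49.Semi
import Cfsg.Agent.Lib.Helper49.SL2
import Cfsg.Agent.Lib.Helper49.PSL2Class
import Cfsg.Agent.Lib.Helper49.PSLn

set_option autoImplicit false
set_option linter.style.haveILetI false
open Cfsg

namespace Cfsg.Agent.S2515

open Cfsg.Agent.Lib.Helper49

/-- maximal element orders from a covering antichain -/
theorem mu_eq {H : Type*} [Group H] (S : Set ℕ)
    (hS : ∀ s ∈ S, s ∈ Set.range (orderOf : H → ℕ))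
    (hdiv : ∀ x : H, ∃ s ∈ S, orderOf x ∣ s)
    (hanti : ∀ s ∈ S, ∀ s' ∈ S, s ∣ s' → s = s') :
    {n : ℕ | n ∈ Set.range (orderOf : H → ℕ) ∧
      ∀ m ∈ Set.range (orderOf : H → ℕ), n ∣ m → m = n} = S := by
  ext n
  constructor
  · rintro ⟨⟨x, rfl⟩, hmax⟩
    obtain ⟨s, hs, hxs⟩ := hdiv x
    have := hmax s (hS s hs) hxs
    rw [← this]
    exact hs
  · intro hn
    refine ⟨hS n hn, ?_⟩
    rintro m ⟨y, rfl⟩ hnm
    obtain ⟨s', hs', hys'⟩ := hdiv y
    have h1 := hanti n hn s' hs' (dvd_trans hnm hys')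
    rw [← h1] at hys'
    exact Nat.dvd_antisymm hys' hnm

section

variable {F : Type} [Field F] [CharP F 3]

/-- the transpose of the entrywise cube -/
noncomputable def tw (g : Matrix (Fin 2) (Fin 2) F) : Matrix (Fin 2) (Fin 2) F :=
  (g.map (frobenius F 3)).transpose

theorem tw_mul (g h : Matrix (Fin 2) (Fin 2) F) : tw (g * h) = tw h * tw g := by
  unfold tw
  rw [Matrix.map_mul, Matrix.transpose_mul]

theorem tw_one : tw (1 : Matrix (Fin 2) (Fin 2) F) = 1 := by
  unfold tw
  rw [Matrix.map_one _ (map_zero _) (map_one _), Matrix.transpose_one]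

theorem tw_apply (g : Matrix (Fin 2) (Fin 2) F) (i j : Fin 2) : tw g i j = g j i ^ 3 := rfl

theorem tw_det (g : Matrix (Fin 2) (Fin 2) F) : (tw g).det = g.det ^ 3 := by
  rw [Matrix.det_fin_two, Matrix.det_fin_two]
  simp only [tw_apply]
  rw [sub_pow_char_of_commute 3 (Commute.all _ _)]
  ring

theorem tw_trace (g : Matrix (Fin 2) (Fin 2) F) :
    tw g 0 0 + tw g 1 1 = (g 0 0 + g 1 1) ^ 3 := by
  simp only [tw_apply]
  rw [add_pow_char_of_commute 3 (Commute.all _ _)]

theorem tw_neg_one : tw (-1 : Matrix (Fin 2) (Fin 2) F) = -1 := by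
  ext i j
  rw [tw_apply]
  fin_cases i <;> fin_cases j <;> simp <;> ring

/-- the twisted tensor square action of `SL₂` on `2 × 2` matrices -/
noncomputable def rho0 :
    Matrix.SpecialLinearGroup (Fin 2) F →* Module.End F (Matrix (Fin 2) (Fin 2) F) where
  toFun g := LinearMap.mulLeft F (g : Matrix (Fin 2) (Fin 2) F) ∘ₗ
    LinearMap.mulRight F (tw (g : Matrix (Fin 2) (Fin 2) F))
  map_one' := by
    apply LinearMap.ext
    intro X
    simp [tw_one]
  map_mul' g h := by
    apply LinearMap.ext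
    intro X
    simp [tw_mul, mul_assoc]

theorem rho0_apply (g : Matrix.SpecialLinearGroup (Fin 2) F) (X : Matrix (Fin 2) (Fin 2) F) :
    rho0 g X = (g : Matrix (Fin 2) (Fin 2) F) * (X * tw (g : Matrix (Fin 2) (Fin 2) F)) := rfl

theorem rho0_center (z : Matrix.SpecialLinearGroup (Fin 2) F)
    (hz : z ∈ Subgroup.center (Matrix.SpecialLinearGroup (Fin 2) F)) : rho0 z = 1 := by
  rw [sl2_mem_center_iff] at hz
  rcases hz with rfl | rfl
  · exact map_one _
  · apply LinearMap.ext
    intro X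
    rw [rho0_apply, Matrix.SpecialLinearGroup.coe_neg, Matrix.SpecialLinearGroup.coe_one,
      tw_neg_one]
    simp

noncomputable def rho1 :
    Matrix.ProjectiveSpecialLinearGroup (Fin 2) F →* Module.End F (Matrix (Fin 2) (Fin 2) F) :=
  QuotientGroup.lift (Subgroup.center (Matrix.SpecialLinearGroup (Fin 2) F)) rho0
    (fun z hz => by rw [MonoidHom.mem_ker]; exact rho0_center z hz)

theorem rho1_mk (g : Matrix.SpecialLinearGroup (Fin 2) F) :
    rho1 (QuotientGroup.mk g : Matrix.ProjectiveSpecialLinearGroup (Fin 2) F) = rho0 g := rfl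

noncomputable def rho2 : ℤˣ →* Module.End F (Matrix (Fin 2) (Fin 2) F) where
  toFun ε := (((ε : ℤ) : F)) • (1 : Module.End F (Matrix (Fin 2) (Fin 2) F))
  map_one' := by simp
  map_mul' a b := by
    rw [Units.val_mul, Int.cast_mul, smul_mul_assoc, one_mul, smul_smul]

theorem rho_comm (a : Matrix.ProjectiveSpecialLinearGroup (Fin 2) F) (ε : ℤˣ) :
    Commute (rho1 a) (rho2 ε) :=
  (Commute.one_right (rho1 a)).smul_right _

/-- the representation of `PSL₂(F) × {±1}` -/
noncomputable def rho :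
    Representation F (Matrix.ProjectiveSpecialLinearGroup (Fin 2) F × ℤˣ)
      (Matrix (Fin 2) (Fin 2) F) :=
  MonoidHom.noncommCoprod rho1 rho2 rho_comm

theorem rho_apply (g : Matrix.SpecialLinearGroup (Fin 2) F) (ε : ℤˣ)
    (X : Matrix (Fin 2) (Fin 2) F) :
    rho ((QuotientGroup.mk g : Matrix.ProjectiveSpecialLinearGroup (Fin 2) F), ε) X =
      ((ε : ℤ) : F) • ((g : Matrix (Fin 2) (Fin 2) F) * X *
        tw (g : Matrix (Fin 2) (Fin 2) F)) := by
  unfold rho
  rw [MonoidHom.noncommCoprod_apply, Module.End.mul_apply, rho1_mk, rho0_apply]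
  simp only [rho2, MonoidHom.coe_mk, OneHom.coe_mk, LinearMap.smul_apply, Module.End.one_apply]
  rw [Matrix.smul_mul, Matrix.mul_smul, mul_assoc]

/-- a non-zero fixed vector forces a trace condition -/
theorem fix_trace (hsq : ¬ IsSquare (-1 : F)) (G X : Matrix (Fin 2) (Fin 2) F)
    (hdet : G.det = 1) (e : F) (he : e = 1 ∨ e = -1) (hX : X ≠ 0)
    (hfix : e • (G * X * tw G) = X) :
    G 0 0 + G 1 1 = 0 ∨ (e = 1 ∧ (G 0 0 + G 1 1 = 1 ∨ G 0 0 + G 1 1 = -1)) := by
  obtain ⟨t, ht⟩ : ∃ t : F, t = G 0 0 + G 1 1 := ⟨_, rfl⟩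
  rw [← ht]
  have hCH := m2_CH G hdet t ht.symm
  have hdetT : (tw G).det = 1 := by rw [tw_det, hdet, one_pow]
  have htrT : tw G 0 0 + tw G 1 1 = t ^ 3 := by rw [tw_trace, ht]
  have hCHT := m2_CH (tw G) hdetT (t ^ 3) htrT
  have hee : e * e = 1 := by rcases he with rfl | rfl <;> ring
  have hfix' : G * X * tw G = e • X := by
    calc G * X * tw G = (e * e) • (G * X * tw G) := by rw [hee, one_smul]
      _ = e • (e • (G * X * tw G)) := by rw [smul_smul]
      _ = e • X := by rw [hfix]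
  have h1 : (t • (1 : Matrix (Fin 2) (Fin 2) F) - G) * G = 1 := by
    rw [sub_mul, smul_mul_assoc, one_mul, hCH]
    abel
  have h2 : tw G * (t ^ 3 • (1 : Matrix (Fin 2) (Fin 2) F) - tw G) = 1 := by
    rw [mul_sub, mul_smul_comm, mul_one, hCHT]
    abel
  have A : X * tw G = e • ((t • (1 : Matrix (Fin 2) (Fin 2) F) - G) * X) := by
    calc X * tw G = ((t • (1 : Matrix (Fin 2) (Fin 2) F) - G) * G) * X * tw G := by
          rw [h1, one_mul]
      _ = (t • (1 : Matrix (Fin 2) (Fin 2) F) - G) * (G * X * tw G) := by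
          simp only [mul_assoc]
      _ = e • ((t • (1 : Matrix (Fin 2) (Fin 2) F) - G) * X) := by
          rw [hfix', mul_smul_comm]
  have B : G * X = e • (X * (t ^ 3 • (1 : Matrix (Fin 2) (Fin 2) F) - tw G)) := by
    calc G * X = G * X * (tw G * (t ^ 3 • (1 : Matrix (Fin 2) (Fin 2) F) - tw G)) := by
          rw [h2, mul_one]
      _ = (G * X * tw G) * (t ^ 3 • (1 : Matrix (Fin 2) (Fin 2) F) - tw G) := by
          simp only [mul_assoc]
      _ = e • (X * (t ^ 3 • (1 : Matrix (Fin 2) (Fin 2) F) - tw G)) := by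
          rw [hfix', smul_mul_assoc]
  have A' : X * tw G = (e * t) • X - e • (G * X) := by
    rw [A, sub_mul, smul_mul_assoc, one_mul, smul_sub, smul_smul]
  have B' : G * X = (e * t ^ 3) • X - e • (X * tw G) := by
    rw [B, mul_sub, mul_smul_comm, mul_one, smul_sub, smul_smul]
  have C : (e * t ^ 3 - t) • X = 0 := by
    have h3 : G * X = (e * t ^ 3) • X - e • ((e * t) • X - e • (G * X)) := by
      rw [← A']
      exact B'
    rw [smul_sub, smul_smul, smul_smul, hee, ← mul_assoc, hee, one_mul, one_smul] at h3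
    have h4 := sub_eq_zero.mpr h3
    have h5 : (e * t ^ 3) • X - t • X =
        -(G * X - ((e * t ^ 3) • X - (t • X - G * X))) := by abel
    rw [sub_smul, h5, h4, neg_zero]
  have hC : e * t ^ 3 - t = 0 := (smul_eq_zero.mp C).resolve_right hX
  rcases he with rfl | rfl
  · have h6 : t * ((t - 1) * (t + 1)) = 0 := by linear_combination hC
    rcases mul_eq_zero.mp h6 with h | h
    · exact Or.inl h
    · right
      refine ⟨rfl, ?_⟩
      rcases mul_eq_zero.mp h with h | h
      · exact Or.inl (sub_eq_zero.mp h)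
      · exact Or.inr (eq_neg_of_add_eq_zero_left h)
  · have h6 : t * (t * t + 1) = 0 := by linear_combination (-1 : F) * hC
    rcases mul_eq_zero.mp h6 with h | h
    · exact Or.inl h
    · exfalso
      exact hsq ⟨t, (eq_neg_of_add_eq_zero_left h).symm ▸ rfl⟩

theorem two_ne_zero_F : (2 : F) ≠ 0 := by
  intro h
  have h2 : ((2 : ℕ) : F) = 0 := by exact_mod_cast h
  rw [CharP.cast_eq_zero_iff F 3 2] at h2
  omega

/-- an element of `PSL₂(F) × {±1}` with a non-zero fixed vector has order dividing 2 or 3 -/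
theorem fix_pow (hsq : ¬ IsSquare (-1 : F)) (g : Matrix.SpecialLinearGroup (Fin 2) F) (ε : ℤˣ)
    (X : Matrix (Fin 2) (Fin 2) F) (hX : X ≠ 0)
    (hfix : rho ((QuotientGroup.mk g : Matrix.ProjectiveSpecialLinearGroup (Fin 2) F), ε) X = X) :
    ((QuotientGroup.mk g : Matrix.ProjectiveSpecialLinearGroup (Fin 2) F), ε) ^ 2 = 1 ∨
    ((QuotientGroup.mk g : Matrix.ProjectiveSpecialLinearGroup (Fin 2) F), ε) ^ 3 = 1 := by
  rw [rho_apply] at hfix
  obtain ⟨G, hG⟩ : ∃ G : Matrix (Fin 2) (Fin 2) F, G = (g : Matrix (Fin 2) (Fin 2) F) :=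
    ⟨_, rfl⟩
  rw [← hG] at hfix
  have hdet : G.det = 1 := by rw [hG]; exact g.det_coe
  have he : ((ε : ℤ) : F) = 1 ∨ ((ε : ℤ) : F) = -1 := by
    rcases Int.units_eq_one_or ε with rfl | rfl
    · left; simp
    · right; simp
  have hCH := m2_CH G hdet (G 0 0 + G 1 1) rfl
  rcases fix_trace hsq G X hdet _ he hX hfix with h0 | ⟨he1, h1 | h1⟩
  · left
    rw [h0, zero_smul, zero_sub] at hCH
    refine Prod.ext ?_ ?_
    · show (QuotientGroup.mk g : Matrix.ProjectiveSpecialLinearGroup (Fin 2) F) ^ 2 = 1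
      rw [psl2_pow_eq_one_iff]
      refine ⟨-1, by ring, ?_⟩
      rw [← hG, pow_two, hCH, neg_smul, one_smul]
    · show ε ^ 2 = 1
      exact Int.units_sq ε
  · right
    have hε : ε = 1 := by
      rcases Int.units_eq_one_or ε with rfl | rfl
      · rfl
      · exfalso
        simp only [Units.val_neg, Units.val_one, Int.cast_neg, Int.cast_one] at he1
        have h2 : (2 : F) = 0 := by linear_combination (-1 : F) * he1
        exact two_ne_zero_F h2
    rw [h1, one_smul] at hCH
    refine Prod.ext ?_ ?_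
    · show (QuotientGroup.mk g : Matrix.ProjectiveSpecialLinearGroup (Fin 2) F) ^ 3 = 1
      rw [psl2_pow_eq_one_iff]
      refine ⟨-1, by ring, ?_⟩
      rw [← hG]
      have h3 : G ^ 3 = (G * G) * G := by rw [pow_succ, pow_two]
      rw [h3, hCH, sub_mul, one_mul, hCH, neg_smul, one_smul]
      abel
    · show ε ^ 3 = 1
      rw [hε, one_pow]
  · right
    have hε : ε = 1 := by
      rcases Int.units_eq_one_or ε with rfl | rfl
      · rfl
      · exfalso
        simp only [Units.val_neg, Units.val_one, Int.cast_neg, Int.cast_one] at he1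
        have h2 : (2 : F) = 0 := by linear_combination (-1 : F) * he1
        exact two_ne_zero_F h2
    rw [h1, neg_smul, one_smul] at hCH
    refine Prod.ext ?_ ?_
    · show (QuotientGroup.mk g : Matrix.ProjectiveSpecialLinearGroup (Fin 2) F) ^ 3 = 1
      rw [psl2_pow_eq_one_iff]
      refine ⟨1, by ring, ?_⟩
      rw [← hG]
      have h3 : G ^ 3 = (G * G) * G := by rw [pow_succ, pow_two]
      rw [h3, hCH, sub_mul, one_mul, neg_mul, hCH, one_smul]
      abel
    · show ε ^ 3 = 1
      rw [hε, one_pow]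

end

section main

variable (F : Type) [Field F] [CharP F 3]

/-- the group `M₂(F) ⋊ (PSL₂(F) × {±1})` -/
abbrev HH : Type :=
  Multiplicative (Matrix (Fin 2) (Fin 2) F) ⋊[(MulAutMultiplicative
      (Matrix (Fin 2) (Fin 2) F)).symm.toMonoidHom.comp
    ((DistribMulAction.toAddAut ((Matrix (Fin 2) (Fin 2) F →ₗ[F] Matrix (Fin 2) (Fin 2) F)ˣ)
      (Matrix (Fin 2) (Fin 2) F)).comp (rho (F := F)).asGroupHom)]
    (Matrix.ProjectiveSpecialLinearGroup (Fin 2) F × ℤˣ)

theorem nine_mem : (9 : ℕ) ∈ Set.range (orderOf : HH F → ℕ) := by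
  haveI : Fact (Nat.Prime 3) := ⟨Nat.prime_three⟩
  obtain ⟨u, hu⟩ : ∃ u : Matrix.SpecialLinearGroup (Fin 2) F,
      (u : Matrix (Fin 2) (Fin 2) F) = !![1, 1; 0, 1] :=
    ⟨⟨_, by simp [Matrix.det_fin_two]⟩, rfl⟩
  have hk3 : orderOf ((QuotientGroup.mk u : Matrix.ProjectiveSpecialLinearGroup (Fin 2) F),
      (1 : ℤˣ)) = 3 := by
    apply orderOf_eq_prime
    · refine Prod.ext ?_ (one_pow 3)
      show (QuotientGroup.mk u : Matrix.ProjectiveSpecialLinearGroup (Fin 2) F) ^ 3 = 1
      rw [psl2_pow_eq_one_iff]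
      refine ⟨1, one_pow 2, ?_⟩
      rw [hu, j2_pow, one_smul]
      have h3 : ((3 : ℕ) : F) = 0 := CharP.cast_eq_zero F 3
      rw [h3]
      ext i j
      fin_cases i <;> fin_cases j <;> simp
    · intro h
      have h1 : (QuotientGroup.mk u : Matrix.ProjectiveSpecialLinearGroup (Fin 2) F) = 1 :=
        congrArg Prod.fst h
      have h2 : (QuotientGroup.mk u : Matrix.ProjectiveSpecialLinearGroup (Fin 2) F) ^ 1 = 1 := by
        rw [pow_one]
        exact h1
      rw [psl2_pow_eq_one_iff] at h2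
      obtain ⟨c, -, hc⟩ := h2
      rw [pow_one, hu] at hc
      have := congrFun (congrFun hc 0) 1
      simp at this
  refine ⟨⟨Multiplicative.ofAdd !![0, 0; 0, 1],
    ((QuotientGroup.mk u : Matrix.ProjectiveSpecialLinearGroup (Fin 2) F), (1 : ℤˣ))⟩, ?_⟩
  have h := semi_orderOf 3 (rho (F := F))
    ((QuotientGroup.mk u : Matrix.ProjectiveSpecialLinearGroup (Fin 2) F), (1 : ℤˣ))
    !![0, 0; 0, 1]
  rw [hk3] at h
  rw [h, if_neg]
  intro h0
  have htw : tw (!![1, 1; 0, 1] : Matrix (Fin 2) (Fin 2) F) = !![1, 0; 1, 1] := by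
    ext i j
    rw [tw_apply]
    fin_cases i <;> fin_cases j <;> simp
  have h00 := congrFun (congrFun h0 0) 0
  simp only [Finset.sum_range_succ, Finset.range_zero, Finset.sum_empty, zero_add, pow_zero,
    pow_one, pow_two, LinearMap.add_apply, Module.End.one_apply, Module.End.mul_apply,
    rho_apply, hu, Units.val_one, Int.cast_one, one_smul, htw, Matrix.mul_fin_two] at h00
  simp at h00
  have h5 : ((5 : ℕ) : F) = 0 := by
    push_cast
    linear_combination h00
  rw [CharP.cast_eq_zero_iff F 3 5] at h5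
  omega

theorem main [Fintype F] (α : ℕ) (hα : 3 ≤ α) (hodd : Odd α) (hcard : Fintype.card F = 3 ^ α) :
    ∃ (H : Type) (_ : Group H) (_ : Fintype H),
      (∃ P : Subgroup H, P.Normal ∧ P ≠ ⊥ ∧ IsPGroup 3 ↥P) ∧
      {n : ℕ | n ∈ Set.range (orderOf : H → ℕ) ∧
        ∀ m ∈ Set.range (orderOf : H → ℕ), n ∣ m → m = n} =
        ({6, 9, 3 ^ α - 1, (3 ^ α + 1) / 2} : Set ℕ) := by
  classical
  haveI : Fact (Nat.Prime 3) := ⟨Nat.prime_three⟩
  obtain ⟨q, hq⟩ : ∃ q, q = 3 ^ α := ⟨_, rfl⟩
  rw [← hq] at hcard ⊢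
  have hq8 : q % 8 = 3 := by
    obtain ⟨j, rfl⟩ := hodd
    rw [hq, pow_succ, pow_mul, Nat.mul_mod, Nat.pow_mod]
    norm_num
  have hq27 : 27 ≤ q := by
    rw [hq]
    calc 27 = 3 ^ 3 := by norm_num
      _ ≤ 3 ^ α := Nat.pow_le_pow_right (by norm_num) hα
  obtain ⟨w, hw⟩ : ∃ w, q = 3 * w := by
    rw [hq]
    exact ⟨3 ^ (α - 1), by rw [← pow_succ', Nat.sub_add_cancel (by omega)]⟩
  have hsq : ¬ IsSquare (-1 : F) := by
    rw [FiniteField.isSquare_neg_one_iff, hcard]
    omega
  have h4 : 4 ≤ Fintype.card F := by rw [hcard]; omega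
  have hgcd : Nat.gcd 2 (q - 1) = 2 := Nat.gcd_eq_left (by omega)
  have hspec := Cfsg.Agent.S2475.result (F := F) 3 h4
  rw [hcard, hgcd] at hspec
  have hK : ∀ k : Matrix.ProjectiveSpecialLinearGroup (Fin 2) F × ℤˣ,
      orderOf k ∣ 6 ∨ orderOf k ∣ q - 1 ∨ orderOf k ∣ (q + 1) / 2 := by
    rintro ⟨a, ε⟩
    rw [Prod.orderOf]
    have ha : orderOf a ∈
        Set.range (orderOf : Matrix.ProjectiveSpecialLinearGroup (Fin 2) F → ℕ) := ⟨a, rfl⟩
    rw [hspec] at ha
    have hε : orderOf ε ∣ 2 := orderOf_dvd_of_pow_eq_one (Int.units_sq ε)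
    rcases ha with h | h | h
    · left
      exact Nat.lcm_dvd (dvd_trans h (by norm_num)) (dvd_trans hε (by norm_num))
    · right; left
      exact Nat.lcm_dvd (dvd_trans h (Nat.div_dvd_of_dvd (by omega)))
        (dvd_trans hε (by omega))
    · right; right
      exact Nat.lcm_dvd h (dvd_trans hε (by omega))
  have hneg : orderOf (-1 : ℤˣ) = 2 := orderOf_eq_prime (by norm_num) (by decide)
  have hex : ∀ m, (m ∣ 3 ∨ m ∣ (q - 1) / 2 ∨ m ∣ (q + 1) / 2) →
      ∃ a : Matrix.ProjectiveSpecialLinearGroup (Fin 2) F, orderOf a = m := by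
    intro m hm
    have : m ∈ Set.range (orderOf : Matrix.ProjectiveSpecialLinearGroup (Fin 2) F → ℕ) := by
      rw [hspec]
      exact hm
    exact this
  haveI : Finite (HH F) := Finite.of_equiv _ SemidirectProduct.equivProd.symm
  have hinr : ∀ k : Matrix.ProjectiveSpecialLinearGroup (Fin 2) F × ℤˣ,
      orderOf k ∈ Set.range (orderOf : HH F → ℕ) := fun k =>
    ⟨SemidirectProduct.inr k,
      orderOf_injective SemidirectProduct.inr SemidirectProduct.inr_injective k⟩
  have hdiv : ∀ x : HH F, orderOf x ∣ 6 ∨ orderOf x ∣ 9 ∨ orderOf x ∣ q - 1 ∨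
      orderOf x ∣ (q + 1) / 2 := by
    intro x
    rcases semi_orderOf_cases 3 (rho (F := F)) x with h | ⟨h, w, hw, hfix⟩
    · rw [h]
      rcases hK x.right with h1 | h1 | h1
      · exact Or.inl h1
      · exact Or.inr (Or.inr (Or.inl h1))
      · exact Or.inr (Or.inr (Or.inr h1))
    · rw [h]
      obtain ⟨a, ε, hxr⟩ : ∃ a ε, x.right = (a, ε) := ⟨_, _, rfl⟩
      obtain ⟨g, rfl⟩ := QuotientGroup.mk_surjective a
      rw [hxr] at hfix ⊢
      rcases fix_pow hsq g ε w hw hfix with h2 | h3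
      · left
        exact Nat.mul_dvd_mul_left 3 (orderOf_dvd_of_pow_eq_one h2)
      · right; left
        exact Nat.mul_dvd_mul_left 3 (orderOf_dvd_of_pow_eq_one h3)
  refine ⟨HH F, inferInstance, Fintype.ofFinite _, ?_, ?_⟩
  · refine ⟨(SemidirectProduct.rightHom : HH F →* _).ker, MonoidHom.normal_ker _, ?_, ?_⟩
    · intro h
      have hmem : (⟨Multiplicative.ofAdd (1 : Matrix (Fin 2) (Fin 2) F), 1⟩ : HH F) ∈
          (SemidirectProduct.rightHom : HH F →* _).ker := by
        rw [MonoidHom.mem_ker]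
        rfl
      rw [h, Subgroup.mem_bot] at hmem
      have h1 := congrArg SemidirectProduct.left hmem
      have h2 : Multiplicative.ofAdd (1 : Matrix (Fin 2) (Fin 2) F) = Multiplicative.ofAdd 0 := h1
      exact one_ne_zero (Multiplicative.ofAdd.injective h2)
    · rintro ⟨x, hx⟩
      refine ⟨1, ?_⟩
      apply Subtype.ext
      have hxr : x.right = 1 := hx
      show x ^ 3 ^ 1 = 1
      rw [pow_one]
      rcases semi_orderOf_cases 3 (rho (F := F)) x with h | ⟨h, -⟩
      · rw [hxr, orderOf_one] at h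
        rw [orderOf_eq_one_iff.mp h, one_pow]
      · rw [hxr, orderOf_one, mul_one] at h
        rw [← h, pow_orderOf_eq_one]
  · apply mu_eq
    · intro s hs
      simp only [Set.mem_insert_iff, Set.mem_singleton_iff] at hs
      rcases hs with rfl | rfl | rfl | rfl
      · obtain ⟨a, ha⟩ := hex 3 (Or.inl dvd_rfl)
        have := hinr (a, -1)
        rw [Prod.orderOf, ha, hneg] at this
        exact this
      · exact nine_mem F
      · obtain ⟨a, ha⟩ := hex ((q - 1) / 2) (Or.inr (Or.inl dvd_rfl))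
        have := hinr (a, -1)
        rw [Prod.orderOf, ha, hneg] at this
        have hcop : Nat.Coprime ((q - 1) / 2) 2 :=
          Nat.Coprime.symm ((Nat.Prime.coprime_iff_not_dvd Nat.prime_two).mpr (by omega))
        rw [hcop.lcm_eq_mul, Nat.div_mul_cancel (by omega)] at this
        exact this
      · obtain ⟨a, ha⟩ := hex ((q + 1) / 2) (Or.inr (Or.inr dvd_rfl))
        have := hinr (a, 1)
        rw [Prod.orderOf, ha, orderOf_one, Nat.lcm_one_right] at this
        exact this
    · intro x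
      rcases hdiv x with h | h | h | h
      · exact ⟨6, by simp, h⟩
      · exact ⟨9, by simp, h⟩
      · exact ⟨q - 1, by simp, h⟩
      · exact ⟨(q + 1) / 2, by simp, h⟩
    · intro s hs s' hs' hd
      simp only [Set.mem_insert_iff, Set.mem_singleton_iff] at hs hs'
      rcases hs with rfl | rfl | rfl | rfl <;> rcases hs' with rfl | rfl | rfl | rfl
      · rfl
      · omega
      · omega
      · omega
      · omega
      · rfl
      · omega
      · omega
      · have := Nat.le_of_dvd (by norm_num) hd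
        omega
      · have := Nat.le_of_dvd (by norm_num) hd
        omega
      · rfl
      · have := Nat.le_of_dvd (by omega) hd
        omega
      · have := Nat.le_of_dvd (by norm_num) hd
        omega
      · have := Nat.le_of_dvd (by norm_num) hd
        omega
      · exfalso
        have h1 : (q + 1) / 2 ∣ 2 * ((q + 1) / 2) - (q - 1) :=
          Nat.dvd_sub (Dvd.intro_left 2 rfl) hd
        have h2 : 2 * ((q + 1) / 2) - (q - 1) = 2 := by omega
        rw [h2] at h1
        have := Nat.le_of_dvd (by norm_num) h1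
        omega
      · rfl

end main

/-- Let q = 3^α with α ≥ 3 odd. There is a finite group H having a non-trivial normal 3-subgroup and whose element orders maximal under divisibility are exactly 6, 9, q − 1 and (q + 1)/2. -/
theorem result (α : ℕ) (hα : 3 ≤ α) (hodd : Odd α) :
    ∃ (H : Type) (_ : Group H) (_ : Fintype H), (∃ P : Subgroup H, P.Normal ∧ P ≠ ⊥ ∧ IsPGroup 3 ↥P) ∧
      {n : ℕ | n ∈ Set.range (orderOf : H → ℕ) ∧ ∀ m ∈ Set.range (orderOf : H → ℕ), n ∣ m → m = n} = ({6, 9, 3 ^ α - 1, (3 ^ α + 1) / 2} : Set ℕ) := by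
  classical
  haveI : Fact (Nat.Prime 3) := ⟨Nat.prime_three⟩
  haveI : Fintype (GaloisField 3 α) := Fintype.ofFinite _
  have hcard : Fintype.card (GaloisField 3 α) = 3 ^ α := by
    rw [← Nat.card_eq_fintype_card]
    exact GaloisField.card 3 α (by omega)
  exact main (GaloisField 3 α) α hα hodd hcard

end Cfsg.Agent.S2515
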