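import Mathlib
import Cfsg.Statements.S2530

set_option autoImplicit false
open Cfsg

namespace Cfsg.Agent.S2530

section invol
variable {G : Type*} [Group G]

theorem sq_of_comm (s t : G) (hs : s * s = 1) (ht : t * t = 1) (h : s * t = t * s) :
    (s * t) ^ 2 = 1 := by
  calc (s * t) ^ 2 = s * t * (t * s) := by rw [pow_two, ← h]
    _ = s * (t * t) * s := by group
    _ = 1 := by rw [ht, mul_one, hs]

theorem comm_of_sq (s t : G) (hs : s * s = 1) (ht : t * t = 1) (h : (s * t) ^ 2 = 1) :
    s * t = t * s := by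
  have h1 : s * t * (s * t) = 1 := by rw [← pow_two]; exact h
  have h2 : s * t = (s * t)⁻¹ := eq_inv_of_mul_eq_one_left h1
  rw [h2, mul_inv_rev, inv_eq_of_mul_eq_one_left hs, inv_eq_of_mul_eq_one_left ht]

theorem cube_of_braid (s t : G) (hs : s * s = 1) (ht : t * t = 1)
    (h : s * t * s = t * s * t) : (s * t) ^ 3 = 1 := by
  calc (s * t) ^ 3 = (s * t * s) * (t * s * t) := by rw [pow_succ, pow_two]; simp only [mul_assoc]
    _ = (t * s * t) * (t * s * t) := by rw [h]
    _ = t * s * (t * t) * s * t := by group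
    _ = t * (s * s) * t := by rw [ht]; group
    _ = 1 := by rw [hs, mul_one, ht]

theorem braid_of_cube (s t : G) (hs : s * s = 1) (ht : t * t = 1) (h : (s * t) ^ 3 = 1) :
    s * t * s = t * s * t := by
  have h1 : s * t * s * (t * s * t) = 1 := by rw [← h, pow_succ, pow_two]; simp only [mul_assoc]
  have h2 : (t * s * t)⁻¹ = t * s * t := by
    rw [mul_inv_rev, mul_inv_rev, inv_eq_of_mul_eq_one_left ht, inv_eq_of_mul_eq_one_left hs,
      mul_assoc]
  rw [eq_inv_of_mul_eq_one_left h1, h2]

end invol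

theorem A_adj (m : ℕ) (i j : Fin m) (h : (i : ℕ) + 1 = j ∨ (j : ℕ) + 1 = i) :
    CoxeterMatrix.A m i j = 3 := by
  show (if i = j then 1 else if (j : ℕ) + 1 = i ∨ (i : ℕ) + 1 = j then 3 else 2) = 3
  have hij : i ≠ j := by
    intro h'
    rw [h'] at h
    omega
  rw [if_neg hij, if_pos h.symm]

theorem A_far (m : ℕ) (i j : Fin m) (h : (i : ℕ) + 2 ≤ j ∨ (j : ℕ) + 2 ≤ i) :
    CoxeterMatrix.A m i j = 2 := by
  show (if i = j then 1 else if (j : ℕ) + 1 = i ∨ (i : ℕ) + 1 = j then 3 else 2) = 2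
  have hij : i ≠ j := by
    intro h'
    rw [h'] at h
    omega
  have h2 : ¬ ((j : ℕ) + 1 = i ∨ (i : ℕ) + 1 = j) := by omega
  rw [if_neg hij, if_neg h2]

theorem A_castSucc (n : ℕ) (i j : Fin n) :
    CoxeterMatrix.A (n + 1) i.castSucc j.castSucc = CoxeterMatrix.A n i j := by
  show (if i.castSucc = j.castSucc then 1 else
      if ((j.castSucc : Fin (n + 1)) : ℕ) + 1 = (i.castSucc : Fin (n + 1)) ∨
        ((i.castSucc : Fin (n + 1)) : ℕ) + 1 = (j.castSucc : Fin (n + 1)) then 3 else 2) =
    (if i = j then 1 else if (j : ℕ) + 1 = i ∨ (i : ℕ) + 1 = j then 3 else 2)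
  simp only [Fin.castSucc_inj, Fin.val_castSucc]

theorem swap_braid {α : Type*} [DecidableEq α] (a b c : α) (hab : a ≠ b) (hac : a ≠ c)
    (hbc : b ≠ c) :
    Equiv.swap a b * Equiv.swap b c * Equiv.swap a b =
      Equiv.swap b c * Equiv.swap a b * Equiv.swap b c := by
  rw [Equiv.swap_mul_swap_mul_swap hab hac, Equiv.swap_comm a b, Equiv.swap_comm b c,
    Equiv.swap_mul_swap_mul_swap hbc.symm hac.symm, Equiv.swap_comm]

theorem liftable (n : ℕ) :
    (CoxeterMatrix.A n).IsLiftable (fun i : Fin n => Equiv.swap i.castSucc i.succ) := by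
  intro i j
  by_cases hij : i = j
  · subst hij
    rw [(CoxeterMatrix.A n).diagonal i, pow_one, Equiv.swap_mul_self]
  by_cases hadj : (i : ℕ) + 1 = j ∨ (j : ℕ) + 1 = i
  · rw [A_adj n i j hadj]
    apply cube_of_braid _ _ (Equiv.swap_mul_self _ _) (Equiv.swap_mul_self _ _)
    rcases hadj with h | h
    · have e : j.castSucc = i.succ := Fin.ext (by simp [← h])
      rw [e]
      apply swap_braid
      · intro h'; have := congrArg Fin.val h'; simp at this
      · intro h'; have := congrArg Fin.val h'; simp at this; omega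
      · intro h'; have := congrArg Fin.val h'; simp at this; omega
    · have e : i.castSucc = j.succ := Fin.ext (by simp [← h])
      rw [e]
      symm
      apply swap_braid
      · intro h'; have := congrArg Fin.val h'; simp at this
      · intro h'; have := congrArg Fin.val h'; simp at this; omega
      · intro h'; have := congrArg Fin.val h'; simp at this; omega
  · have hfar : (i : ℕ) + 2 ≤ j ∨ (j : ℕ) + 2 ≤ i := by
      have : (i : ℕ) ≠ j := fun h => hij (Fin.ext h)
      omega
    rw [A_far n i j hfar]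
    apply sq_of_comm _ _ (Equiv.swap_mul_self _ _) (Equiv.swap_mul_self _ _)
    apply Equiv.Perm.Disjoint.commute
    apply Equiv.Perm.disjoint_swap_swap
    simp only [List.nodup_cons, List.mem_cons, List.not_mem_nil, or_false, not_or,
      List.nodup_nil, and_true, Fin.ext_iff, Fin.val_castSucc, Fin.val_succ, not_false_eq_true]
    omega


/-- total version of the simple reflections -/
noncomputable def sg (m : ℕ) (j : ℕ) : (CoxeterMatrix.A m).Group :=
  if h : j < m then (CoxeterMatrix.A m).simple ⟨j, h⟩ else 1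

theorem sg_lt (m j : ℕ) (h : j < m) : sg m j = (CoxeterMatrix.A m).simple ⟨j, h⟩ := dif_pos h

theorem R1 (m j : ℕ) (h : j < m) : sg m j * sg m j = 1 := by
  rw [sg_lt m j h]
  exact (CoxeterMatrix.A m).toCoxeterSystem.simple_mul_simple_self ⟨j, h⟩

theorem R2 (m i j : ℕ) (hj : j < m) (hij : i + 2 ≤ j) : sg m i * sg m j = sg m j * sg m i := by
  have hi : i < m := by omega
  rw [sg_lt m i hi, sg_lt m j hj]
  apply comm_of_sq _ _ ((CoxeterMatrix.A m).toCoxeterSystem.simple_mul_simple_self ⟨i, hi⟩)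
    ((CoxeterMatrix.A m).toCoxeterSystem.simple_mul_simple_self ⟨j, hj⟩)
  have := (CoxeterMatrix.A m).toCoxeterSystem.simple_mul_simple_pow ⟨i, hi⟩ ⟨j, hj⟩
  rw [A_far m _ _ (Or.inl hij)] at this
  exact this

theorem R3 (m j : ℕ) (hj : j + 1 < m) :
    sg m j * sg m (j + 1) * sg m j = sg m (j + 1) * sg m j * sg m (j + 1) := by
  have hj' : j < m := by omega
  rw [sg_lt m j hj', sg_lt m (j + 1) hj]
  apply braid_of_cube _ _ ((CoxeterMatrix.A m).toCoxeterSystem.simple_mul_simple_self ⟨j, hj'⟩)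
    ((CoxeterMatrix.A m).toCoxeterSystem.simple_mul_simple_self ⟨j + 1, hj⟩)
  have := (CoxeterMatrix.A m).toCoxeterSystem.simple_mul_simple_pow ⟨j, hj'⟩ ⟨j + 1, hj⟩
  rw [A_adj m _ _ (Or.inl rfl)] at this
  exact this

/-- coset representatives -/
noncomputable def cc (n : ℕ) : ℕ → (CoxeterMatrix.A (n + 1)).Group
  | 0 => 1
  | k + 1 => cc n k * sg (n + 1) (n - k)

theorem cc_zero (n : ℕ) : cc n 0 = 1 := rfl

theorem cc_succ (n k : ℕ) : cc n (k + 1) = cc n k * sg (n + 1) (n - k) := rfl

/-- the map from the smaller group -/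
noncomputable def psi (n : ℕ) : (CoxeterMatrix.A n).Group →* (CoxeterMatrix.A (n + 1)).Group :=
  (CoxeterMatrix.A n).toCoxeterSystem.lift
    ⟨fun i => (CoxeterMatrix.A (n + 1)).simple i.castSucc, by
      intro i j
      rw [← A_castSucc]
      exact (CoxeterMatrix.A (n + 1)).toCoxeterSystem.simple_mul_simple_pow _ _⟩

theorem psi_sg (n j : ℕ) (h : j < n) : psi n (sg n j) = sg (n + 1) j := by
  rw [sg_lt n j h, sg_lt (n + 1) j (by omega)]
  exact (CoxeterMatrix.A n).toCoxeterSystem.lift_apply_simple _ ⟨j, h⟩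

theorem Lc (n : ℕ) : ∀ k j : ℕ, j + k + 1 ≤ n →
    cc n k * sg (n + 1) j = sg (n + 1) j * cc n k := by
  intro k
  induction k with
  | zero => intro j _; rw [cc_zero, one_mul, mul_one]
  | succ k ih =>
    intro j h
    rw [cc_succ, mul_assoc, ← R2 (n + 1) j (n - k) (by omega) (by omega), ← mul_assoc,
      ih j (by omega), mul_assoc]

theorem Ld (n : ℕ) : ∀ k j : ℕ, j ≤ n → n + 2 ≤ j + k → k ≤ n + 1 →
    cc n k * sg (n + 1) j = sg (n + 1) (j - 1) * cc n k := by
  intro k
  induction k with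
  | zero => intro j h1 h2 _; omega
  | succ k ih =>
    intro j h1 h2 h3
    by_cases hA : j + k = n + 1
    · obtain ⟨k', rfl⟩ : ∃ k', k = k' + 1 := ⟨k - 1, by omega⟩
      have e1 : n - k' = j := by omega
      have e2 : n - (k' + 1) = j - 1 := by omega
      rw [cc_succ, cc_succ, e1, e2]
      have hb := R3 (n + 1) (j - 1) (by omega)
      have e3 : j - 1 + 1 = j := by omega
      rw [e3] at hb
      have hc := Lc n k' (j - 1) (by omega)
      calc cc n k' * sg (n + 1) j * sg (n + 1) (j - 1) * sg (n + 1) j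
          = cc n k' * (sg (n + 1) j * sg (n + 1) (j - 1) * sg (n + 1) j) := by
            simp only [mul_assoc]
        _ = cc n k' * (sg (n + 1) (j - 1) * sg (n + 1) j * sg (n + 1) (j - 1)) := by rw [hb]
        _ = (cc n k' * sg (n + 1) (j - 1)) * sg (n + 1) j * sg (n + 1) (j - 1) := by
            simp only [mul_assoc]
        _ = sg (n + 1) (j - 1) * (cc n k' * sg (n + 1) j * sg (n + 1) (j - 1)) := by
            rw [hc]; simp only [mul_assoc]
    · rw [cc_succ, mul_assoc, R2 (n + 1) (n - k) j (by omega) (by omega), ← mul_assoc,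
        ih j h1 (by omega) (by omega), mul_assoc]

theorem closure_step (n : ℕ) (k j : ℕ) (hk : k ≤ n + 1) (hj : j ≤ n) :
    ∃ x : (CoxeterMatrix.A n).Group, ∃ k' : ℕ, k' ≤ n + 1 ∧
      cc n k * sg (n + 1) j = psi n x * cc n k' := by
  rcases lt_trichotomy (j + k) n with h | h | h
  · refine ⟨sg n j, k, hk, ?_⟩
    rw [psi_sg n j (by omega), Lc n k j (by omega)]
  · refine ⟨1, k + 1, by omega, ?_⟩
    rw [map_one, one_mul, cc_succ, show n - k = j by omega]
  · by_cases h1 : j + k = n + 1
    · obtain ⟨k', rfl⟩ : ∃ k', k = k' + 1 := ⟨k - 1, by omega⟩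
      refine ⟨1, k', by omega, ?_⟩
      rw [map_one, one_mul, cc_succ, show n - k' = j by omega, mul_assoc,
        R1 (n + 1) j (by omega), mul_one]
    · refine ⟨sg n (j - 1), k, hk, ?_⟩
      rw [psi_sg n (j - 1) (by omega), Ld n k j hj (by omega) hk]

theorem surj (n : ℕ) (w : (CoxeterMatrix.A (n + 1)).Group) :
    ∃ x : (CoxeterMatrix.A n).Group, ∃ k : ℕ, k ≤ n + 1 ∧ w = psi n x * cc n k := by
  refine (CoxeterMatrix.A (n + 1)).toCoxeterSystem.simple_induction_right
    (p := fun w => ∃ x : (CoxeterMatrix.A n).Group, ∃ k : ℕ, k ≤ n + 1 ∧ w = psi n x * cc n k)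
    w ?_ ?_
  · exact ⟨1, 0, by omega, by rw [map_one, one_mul, cc_zero]⟩
  · rintro w i ⟨x, k, hk, rfl⟩
    obtain ⟨x', k', hk', h⟩ := closure_step n k i hk (by have := i.2; omega)
    refine ⟨x * x', k', hk', ?_⟩
    have e : (CoxeterMatrix.A (n + 1)).toCoxeterSystem.simple i = sg (n + 1) i :=
      (sg_lt (n + 1) i i.2).symm
    rw [e, mul_assoc, h, map_mul, mul_assoc]

theorem card_le (n : ℕ) :
    Finite (CoxeterMatrix.A n).Group ∧ Nat.card (CoxeterMatrix.A n).Group ≤ (n + 1).factorial := by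
  induction n with
  | zero =>
    have h1 : ∀ w : (CoxeterMatrix.A 0).Group, w = 1 := by
      intro w
      exact (CoxeterMatrix.A 0).toCoxeterSystem.simple_induction (p := fun w => w = 1) w
        (fun i => i.elim0) rfl (fun w w' h h' => by rw [h, h', one_mul])
    have : Subsingleton (CoxeterMatrix.A 0).Group := ⟨fun a b => by rw [h1 a, h1 b]⟩
    refine ⟨inferInstance, ?_⟩
    rw [Nat.card_of_subsingleton (1 : (CoxeterMatrix.A 0).Group)]
    simp
  | succ n ih =>
    obtain ⟨hfin, hcard⟩ := ih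
    have hg : Function.Surjective
        (fun p : (CoxeterMatrix.A n).Group × Fin (n + 2) => psi n p.1 * cc n p.2) := by
      intro w
      obtain ⟨x, k, hk, rfl⟩ := surj n w
      exact ⟨(x, ⟨k, by omega⟩), rfl⟩
    have hfin' : Finite (CoxeterMatrix.A (n + 1)).Group := Finite.of_surjective _ hg
    refine ⟨hfin', ?_⟩
    have h2 := Nat.card_le_card_of_surjective _ hg
    rw [Nat.card_prod, Nat.card_fin] at h2
    calc Nat.card (CoxeterMatrix.A (n + 1)).Group
        ≤ Nat.card (CoxeterMatrix.A n).Group * (n + 2) := h2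
      _ ≤ (n + 1).factorial * (n + 2) := Nat.mul_le_mul_right _ hcard
      _ = (n + 1 + 1).factorial := by rw [Nat.factorial_succ (n + 1)]; ring

/-- The Coxeter presentation of the symmetric group: for every n, the symmetric group on n+1 letters is the Coxeter group of type A_n with the adjacent transpositions (i, i+1) as simple reflections; that is, it is presented by generators r_1, …, r_n subject to r_i² = 1, (r_i r_j)² = 1 for |i − j| > 1 and (r_i r_{i+1})³ = 1, with r_i mapping to (i, i+1). -/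
theorem result (n : ℕ) :
    ∃ cs : CoxeterSystem (CoxeterMatrix.A n) (Equiv.Perm (Fin (n + 1))), ∀ i : Fin n, cs.simple i = Equiv.swap i.castSucc i.succ := by
  obtain ⟨hfin, hcard⟩ := card_le n
  have hφ : ∀ i : Fin n, (CoxeterMatrix.A n).toCoxeterSystem.lift ⟨_, liftable n⟩
      ((CoxeterMatrix.A n).simple i) = Equiv.swap i.castSucc i.succ :=
    fun i => (CoxeterMatrix.A n).toCoxeterSystem.lift_apply_simple (liftable n) i
  have hsurj : Function.Surjective ((CoxeterMatrix.A n).toCoxeterSystem.lift ⟨_, liftable n⟩) := by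
    intro π
    have h1 : π ∈ Submonoid.closure
        (Set.range fun i : Fin n => Equiv.swap i.castSucc i.succ) := by
      rw [Equiv.Perm.mclosure_swap_castSucc_succ]; trivial
    have h2 : Submonoid.closure (Set.range fun i : Fin n => Equiv.swap i.castSucc i.succ) ≤
        MonoidHom.mrange ((CoxeterMatrix.A n).toCoxeterSystem.lift ⟨_, liftable n⟩) := by
      rw [Submonoid.closure_le]
      rintro _ ⟨i, rfl⟩
      exact ⟨_, hφ i⟩
    exact h2 h1
  have hbij : Function.Bijective ((CoxeterMatrix.A n).toCoxeterSystem.lift ⟨_, liftable n⟩) :=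
    hsurj.bijective_of_nat_card_le (by rw [Nat.card_perm, Nat.card_fin]; exact hcard)
  refine ⟨⟨(MulEquiv.ofBijective _ hbij).symm⟩, fun i => ?_⟩
  exact hφ i

end Cfsg.Agent.S2530
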