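import Cfsg.Statements.S2553
import Cfsg.Agent.Lib.Helper60.GL4A8
import Cfsg.Agent.Lib.Helper70.G4Base
import Cfsg.Agent.Lib.Helper70.G4Comp
import Cfsg.Agent.Lib.Helper30.G4A
import Cfsg.Agent.Lib.Helper97.G4B
import Cfsg.Agent.Lib.Helper66.G4L
import Cfsg.Agent.Lib.Helper23.G4E
import Cfsg.Agent.Lib.Helper21.G4ALT
import Cfsg.Agent.Lib.Helper29.G4D6S
import Cfsg.Agent.Lib.Helper34.G4D8a
import Cfsg.Agent.Lib.Helper21.G4D5
import Cfsg.Agent.Lib.Helper21.G4D6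
import Cfsg.Agent.Lib.Helper34.G4D7
import Cfsg.Agent.Lib.Helper97.G4D8b
import Cfsg.Agent.Lib.Helper89.G4D8c

set_option autoImplicit false
open Cfsg

namespace Cfsg.Agent.S2553

open Equiv Cfsg.Agent.Lib.Helper70.G4

theorem core8' (T : Subgroup (Perm (Fin 8))) (hx : x0 ∈ T) (hA : T ≤ alternatingGroup (Fin 8))
    (h5 : ¬ 5 ∣ Nat.card T) (hrad : RadFree T) : Nat.card T ≤ 168 :=
  Cfsg.Agent.Lib.Helper89.G4.core8 x0 V1 V2 star8 V1_comm V2_comm card_V1 card_V2 card_stab_V1 card_stab_V2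
    T hx hA h5 hrad

theorem deg8 (T : Subgroup (Perm (Fin 8))) [MulAction.IsPretransitive T (Fin 8)]
    (hT : ¬ Group.IsSolvable T) (hA : T ≤ alternatingGroup (Fin 8)) (hrad : RadFree T) :
    Nonempty (T ≃* alternatingGroup (Fin 8)) ∨ Nonempty (T ≃* GL (Fin 3) (ZMod 2)) := by
  by_cases h5 : 5 ∣ Nat.card T
  · left
    have h := Cfsg.Agent.Lib.Helper34.G4.deg8_five T h5
    have : T = alternatingGroup (Fin 8) := le_antisymm hA h
    subst this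
    exact ⟨MulEquiv.refl _⟩
  · right
    have h168 := Cfsg.Agent.Lib.Helper97.G4.deg8_seven x0 cycleType_x0 core8'
      (fun T T' ⟨e⟩ h => Cfsg.Agent.Lib.Helper30.G4.radFree_of_equiv e h) T hA hT hrad h5
    have : Finite T := Nat.finite_of_card_ne_zero (by omega)
    have := Cfsg.Agent.Lib.Helper66.G4.simple_of_card_168 h168 hT
    exact Cfsg.Agent.Lib.Helper23.G4.iso_gl32_of_simple_168 h168

/-- The statement for subgroups of the alternating group of degree 8. -/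
theorem main_perm (K : Subgroup (Perm (Fin 8))) (hK : K ≤ alternatingGroup (Fin 8))
    (hne : Nontrivial K) (hrad : RadFree K) :
    (∃ n : ℕ, 5 ≤ n ∧ n ≤ 8 ∧ Nonempty (K ≃* alternatingGroup (Fin n))) ∨
    Nonempty (K ≃* Perm (Fin 5)) ∨ Nonempty (K ≃* Perm (Fin 6)) ∨
    Nonempty (K ≃* GL (Fin 3) (ZMod 2)) := by
  have hns := Cfsg.Agent.Lib.Helper30.G4.not_solvable_of_radFree hrad hne
  obtain ⟨d, T, h5, h8, htr, ⟨e⟩, hsgn⟩ := Cfsg.Agent.Lib.Helper97.G4.orbit_reduction K hK hns hrad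
  have hTns : ¬ Group.IsSolvable T := fun h =>
    hns (Group.isSolvable_of_isSolvable_injective (f := e.toMonoidHom) e.injective)
  have hTrad : RadFree T := Cfsg.Agent.Lib.Helper30.G4.radFree_of_equiv e hrad
  interval_cases d
  · rcases Cfsg.Agent.Lib.Helper21.G4.deg5
        (fun T h => Cfsg.Agent.Lib.Helper21.G4.alt_le_of_card le_rfl T h)
        (fun T h => Cfsg.Agent.Lib.Helper21.G4.iso_of_alt_le T h) T hTns with ⟨⟨f⟩⟩ | ⟨⟨f⟩⟩
    · exact Or.inl ⟨5, le_rfl, by norm_num, ⟨e.trans f⟩⟩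
    · exact Or.inr (Or.inl ⟨e.trans f⟩)
  · rcases Cfsg.Agent.Lib.Helper21.G4.deg6
        (fun T h => Cfsg.Agent.Lib.Helper21.G4.alt_le_of_card (by norm_num) T h)
        (fun T h => Cfsg.Agent.Lib.Helper21.G4.iso_of_alt_le T h)
        (fun T h hns => by
          have : Finite T := Nat.finite_of_card_ne_zero (by omega)
          exact Cfsg.Agent.Lib.Helper66.G4.simple_of_card_60 h hns)
        (fun T _ h hns => Cfsg.Agent.Lib.Helper29.G4.deg6_card_120 T h hns) T hTns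
      with ⟨⟨f⟩⟩ | ⟨⟨f⟩⟩ | ⟨⟨f⟩⟩ | ⟨⟨f⟩⟩
    · exact Or.inl ⟨5, le_rfl, by norm_num, ⟨e.trans f⟩⟩
    · exact Or.inr (Or.inl ⟨e.trans f⟩)
    · exact Or.inl ⟨6, by norm_num, by norm_num, ⟨e.trans f⟩⟩
    · exact Or.inr (Or.inr (Or.inl ⟨e.trans f⟩))
  · rcases Cfsg.Agent.Lib.Helper34.G4.deg7
        (fun T _ h => Cfsg.Agent.Lib.Helper23.G4.iso_gl32_of_simple_168 h) T hTns (hsgn le_rfl)
      with ⟨⟨f⟩⟩ | ⟨⟨f⟩⟩
    · exact Or.inl ⟨7, by norm_num, by norm_num, ⟨e.trans f⟩⟩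
    · exact Or.inr (Or.inr (Or.inr ⟨e.trans f⟩))
  · rcases deg8 T hTns (hsgn (by norm_num)) hTrad with ⟨⟨f⟩⟩ | ⟨⟨f⟩⟩
    · exact Or.inl ⟨8, by norm_num, le_rfl, ⟨e.trans f⟩⟩
    · exact Or.inr (Or.inr (Or.inr ⟨e.trans f⟩))

/-- Let H be a nontrivial subgroup of GL(4,2) (a group isomorphic to the alternating group of degree 8) whose largest normal 2-subgroup and largest normal subgroup of odd order are both trivial. Then H is isomorphic to an alternating group of degree n for some 5 ≤ n ≤ 8, to the symmetric group of degree 5 or 6, or to GL(3,2). -/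
theorem result (H : Subgroup (GL (Fin 4) (ZMod 2))) (hH : H ≠ ⊥) (hO : Cfsg.pPrimeCore 2 ↥H = ⊥) (hO2 : Cfsg.pCore 2 ↥H = ⊥) :
    (∃ n : ℕ, 5 ≤ n ∧ n ≤ 8 ∧ Nonempty (↥H ≃* alternatingGroup (Fin n))) ∨
    Nonempty (↥H ≃* Equiv.Perm (Fin 5)) ∨ Nonempty (↥H ≃* Equiv.Perm (Fin 6)) ∨ Nonempty (↥H ≃* GL (Fin 3) (ZMod 2)) := by
  obtain ⟨f₀, hf₀⟩ := Cfsg.Agent.Lib.Helper60.exists_GL4_to_A8
  let f : GL (Fin 4) (ZMod 2) →* Perm (Fin 8) := (alternatingGroup (Fin 8)).subtype.comp f₀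
  have hf : Function.Injective f := Subtype.val_injective.comp hf₀
  let K : Subgroup (Perm (Fin 8)) := H.map f
  let e : H ≃* K := H.equivMapOfInjective f hf
  have hK : K ≤ alternatingGroup (Fin 8) := by
    rintro _ ⟨g, -, rfl⟩
    exact (f₀ g).2
  have hradH : RadFree H := Cfsg.Agent.Lib.Helper30.G4.radFree_of_cores hO2 hO
  have hne : Nontrivial K := by
    have : Nontrivial H := (Subgroup.nontrivial_iff_ne_bot H).mpr hH
    exact e.symm.toEquiv.nontrivial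
  rcases main_perm K hK hne (Cfsg.Agent.Lib.Helper30.G4.radFree_of_equiv e hradH)
    with ⟨n, h5, h8, ⟨g⟩⟩ | ⟨⟨g⟩⟩ | ⟨⟨g⟩⟩ | ⟨⟨g⟩⟩
  · exact Or.inl ⟨n, h5, h8, ⟨e.trans g⟩⟩
  · exact Or.inr (Or.inl ⟨e.trans g⟩)
  · exact Or.inr (Or.inr (Or.inl ⟨e.trans g⟩))
  · exact Or.inr (Or.inr (Or.inr ⟨e.trans g⟩))

end Cfsg.Agent.S2553
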