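import Cfsg.Statements.S2611
import Cfsg.Agent.Lib.Helper51.BlockL

set_option autoImplicit false
open Cfsg

namespace Cfsg.Agent.S2611

open Cfsg.Agent.Lib.Helper51

/-- For the hyperbolic quadratic form Σ x_i y_i on F^(2m) (F finite, m ≥ 1, excluding m = 2 over the field of two elements) and an invertible m × m matrix A, the block-diagonal isometry diag(A, (A⁻¹)ᵀ), which stabilises the two maximal totally singular subspaces x = 0 and y = 0, lies in Ω⁺_2m(F) (the commutator subgroup of the orthogonal group) if and only if det A is a square in F. -/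
theorem result {F : Type*} [Field F] [Fintype F] {m : ℕ} (hm : 1 ≤ m) (h : Fintype.card F ≠ 2 ∨ m ≠ 2) (A : GL (Fin m) F) : (∃ g : ↥(Cfsg.isometryGroup F (Cfsg.quadFormPlus m F)), g ∈ Cfsg.Omega F (Cfsg.quadFormPlus m F) ∧ ((g : Matrix.GeneralLinearGroup (Fin m ⊕ Fin m) F) : Matrix (Fin m ⊕ Fin m) (Fin m ⊕ Fin m) F) = Matrix.fromBlocks (A : Matrix (Fin m) (Fin m) F) 0 0 ((A : Matrix (Fin m) (Fin m) F)⁻¹).transpose) ↔ IsSquare (A : Matrix (Fin m) (Fin m) F).det := by
  rw [← coe_QPlus m F]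
  have hm' : Fintype.card F ≠ 2 ∨ Fintype.card (Fin m) ≠ 2 := by simpa using h
  let i0 : Fin m := ⟨0, hm⟩
  have hred : (∃ g : ↥(Cfsg.isometryGroup F ⇑(QPlus m F)), g ∈ Cfsg.Omega F ⇑(QPlus m F) ∧
      ((g : Matrix.GeneralLinearGroup (Fin m ⊕ Fin m) F) :
        Matrix (Fin m ⊕ Fin m) (Fin m ⊕ Fin m) F)
        = Matrix.fromBlocks (A : Matrix (Fin m) (Fin m) F) 0 0
          ((A : Matrix (Fin m) (Fin m) F)⁻¹).transpose)
      ↔ Lhom A ∈ commutator (isometryGroup F ⇑(QPlus m F)) := by
    constructor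
    · rintro ⟨g, hg, hgA⟩
      have : g = Lhom A := isometry_ext (QPlus m F) (by rw [hgA, coe_Lhom])
      rwa [← this]
    · intro hA
      exact ⟨Lhom A, hA, coe_Lhom A⟩
  rw [hred]
  let Ψ : GL (Fin m) F →* Abelianization (isometryGroup F ⇑(QPlus m F)) :=
    Abelianization.of.comp Lhom
  have hΨ : ∀ g, Lhom g ∈ commutator (isometryGroup F ⇑(QPlus m F)) ↔ Ψ g = 1 := by
    intro g
    rw [← Abelianization.ker_of (isometryGroup F ⇑(QPlus m F))]
    exact MonoidHom.mem_ker
  have hdet := hom_eq_hom_dGL_det Ψ hm' i0 A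
  have hdval : ((Matrix.GeneralLinearGroup.det A : Fˣ) : F) = (A : Matrix (Fin m) (Fin m) F).det :=
    Matrix.GeneralLinearGroup.val_det_apply A
  rw [hΨ, hdet, ← hdval]
  generalize Matrix.GeneralLinearGroup.det A = d
  have hv1 := (hypPlus m F i0).Q_minus_ne
  constructor
  · intro h1
    by_cases h2 : (2 : F) = 0
    · have : CharP F 2 := CharTwo.of_one_ne_zero_of_two_eq_zero one_ne_zero h2
      exact FiniteField.isSquare_of_char_two (ringChar.eq F 2) _
    · have hmem : Lhom (dGL i0 d) ∈ commutator (isometryGroup F ⇑(QPlus m F)) := (hΨ _).mpr h1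
      rw [Lhom_dGL] at hmem
      have hvs : ∀ v ∈ [Pi.single (Sum.inl i0) 1 - Pi.single (Sum.inr i0) (1 : F),
          Pi.single (Sum.inl i0) 1 - (d : F) • Pi.single (Sum.inr i0) (1 : F)],
          QPlus m F v ≠ 0 := by
        intro v hv
        simp only [List.mem_cons, List.not_mem_nil, or_false] at hv
        rcases hv with rfl | rfl
        · exact hv1
        · exact (hypPlus m F i0).Q_scale_ne d d.ne_zero
      have hmem' : reflList (QPlus m F) _ hvs ∈ commutator (isometryGroup F ⇑(QPlus m F)) := by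
        rw [reflList_cons, reflList_cons, reflList_nil, mul_one]
        exact hmem
      obtain ⟨_, hsq⟩ := (reflList_mem_commutator_iff (QPlus m F) h2 _ hvs).mp hmem'
      simpa [(hypPlus m F i0).Q_minus, (hypPlus m F i0).Q_scale] using hsq
  · rintro ⟨c, hc⟩
    have hc0 : c ≠ 0 := by
      rintro rfl
      rw [mul_zero] at hc
      exact d.ne_zero hc
    have hdc : d = Units.mk0 c hc0 * Units.mk0 c hc0 := Units.ext (by simpa using hc)
    rw [hdc, map_mul, map_mul]
    change Abelianization.of (Lhom (dGL i0 (Units.mk0 c hc0)))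
      * Abelianization.of (Lhom (dGL i0 (Units.mk0 c hc0))) = 1
    rw [Lhom_dGL, map_mul, mul_mul_mul_comm, ab_refl_mul_self, ab_refl_mul_self, one_mul]

end Cfsg.Agent.S2611
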