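-- Statement S2794 (row 2794): Qd(p)-free iff ZJ controls strong fusion in every section.
-- Forward: S1969 (iso-invariant functor normal in constrained sections) + S0664 (ZJ-theorem,
-- Qd(p)-free form).  Reverse: in Qd(p) the normalizer of Z(J(S)) is N(S), a proper subgroup,
-- while the translation subgroup is self-centralizing.
import Cfsg.Statements.S2794
import Cfsg.Agent.S1969
import Cfsg.Agent.S0664
import Cfsg.Agent.Lib.Helper2.QdFus
import Cfsg.Agent.Lib.Helper2.NPC

set_option autoImplicit false
open Cfsg

namespace Cfsg.Agent.S2794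

open Cfsg.Agent.Lib.Helper2 Cfsg.Agent.Lib.Helper26

/-- For an odd prime p and a finite group G, the group Qd(p) is not involved in G if and only if in every section K/R of G, for every Sylow p-subgroup S* of K/R, the centre of J(S*) (J generated by the abelian subgroups of largest order) controls strong fusion in K/R. -/
theorem result {G : Type*} [Group G] [Finite G] {p : ℕ} [Fact p.Prime] (hp : p ≠ 2) : ¬ Cfsg.Involves ↥(Cfsg.qd p) G ↔ ∀ (K R : Subgroup G) [hR : (R.subgroupOf K).Normal], ∀ T : Sylow p (K ⧸ R.subgroupOf K), Cfsg.ControlsStrongFusion p (Cfsg.centerThompsonAOf (T : Subgroup (K ⧸ R.subgroupOf K))) := by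
  constructor
  · intro hfree K R hR T
    have h := Cfsg.Agent.S1969.result (p := p) (G := G) (@zjA) (zjA_char p)
      (fun K R hR hc T => by
        rw [ind_zjA]
        exact Cfsg.Agent.S0664.result hp
          (fun hinv => hfree (involves_of_subgroup K (involves_of_quotient _ hinv))) hc T) K R T
    rwa [ind_zjA] at h
  · intro h hinv
    obtain ⟨K, R, hR, ⟨e⟩⟩ := hinv
    haveI := hR
    obtain ⟨T⟩ : Nonempty (Sylow p (↥K ⧸ R.subgroupOf K)) := inferInstance
    exact not_controls_of_equiv_qd e T (h K R T)

end Cfsg.Agent.S2794
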