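import Cfsg.Statements.S2802
import Cfsg.Agent.Lib.Helper55.Syl

set_option autoImplicit false
open Cfsg

namespace Cfsg.Agent.S2802

open Cfsg.Agent.Lib.Helper55

theorem result {L : Type*} [Group L] [Finite L] {p : ℕ} [Fact p.Prime] (hchar : Subgroup.centralizer (Cfsg.pCore p L : Set L) ≤ Cfsg.pCore p L) (T : Sylow p L) (R : Subgroup L) (hTR : (T : Subgroup L) ≤ R) (X : Subgroup ↥R) (hX : Cfsg.IsPReducedNormal p X) : Cfsg.IsPReducedNormal p (Subgroup.normalClosure ((X.map R.subtype : Subgroup L) : Set L)) := by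
  rw [isPReducedNormal_iff_top]
  refine pred_closure (charP_top_iff.mp hchar) (sylIn_of_sylow T le_top) hTR le_top
    ((isPReducedNormal_iff_map R X).mp hX) Subgroup.le_normalClosure ?_ ?_
  · rw [Subgroup.normalizer_eq_top_iff.mpr Subgroup.normalClosure_normal]
  · intro W hXW hW
    haveI : W.Normal := Subgroup.normalizer_eq_top_iff.mp (top_unique hW)
    exact Subgroup.normalClosure_le_normal hXW

end Cfsg.Agent.S2802
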