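import Cfsg.Statements.S2803
import Cfsg.Agent.Lib.Helper55.Largest

set_option autoImplicit false
open Cfsg

namespace Cfsg.Agent.S2803

open Cfsg.Agent.Lib.Helper55

theorem result {L : Type*} [Group L] [Finite L] {p : ℕ} [Fact p.Prime] (hchar : Subgroup.centralizer (Cfsg.pCore p L : Set L) ≤ Cfsg.pCore p L) (T : Sylow p L) (Y : Subgroup L) (hY : (Cfsg.IsPReducedNormal p Y ∧ ∀ V : Subgroup L, Cfsg.IsPReducedNormal p V → V ≤ Y)) (TL : Subgroup L) (hTL : TL = (T : Subgroup L) ⊓ Subgroup.centralizer (Y : Set L)) : (∀ g : L, ∃ a ∈ Subgroup.normalizer (TL : Set L), ∃ c ∈ Subgroup.centralizer (Y : Set L), g = a * c) ∧ (Cfsg.pCore p ↥(Subgroup.normalizer (TL : Set L))).map (Subgroup.normalizer (TL : Set L)).subtype = TL ∧ Y = Cfsg.omegaOne p (TL ⊓ Subgroup.centralizer (TL : Set L)) := by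
  subst hTL
  obtain ⟨h1, h2, h3⟩ := pred_largest_structure (charP_top_iff.mp hchar) (sylIn_of_sylow T le_top)
    ((isPReducedNormal_iff_top Y).mp hY.1)
    (fun V hV => hY.2 V ((isPReducedNormal_iff_top V).mpr hV))
  rw [top_inf_eq] at h2
  refine ⟨?_, h2, h3⟩
  intro g
  obtain ⟨a, ha, c, hc, e⟩ := h1 g (Subgroup.mem_top g)
  exact ⟨a, ha.2, c, hc.2, e⟩

end Cfsg.Agent.S2803
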