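import Cfsg.Statements.S2804
import Cfsg.Agent.Lib.Helper55.Subn3

set_option autoImplicit false
open Cfsg

namespace Cfsg.Agent.S2804

open Cfsg.Agent.Lib.Helper55
open scoped commutatorElement

/-- Let L be a finite group and p a prime with C_L(O_p(L)) ≤ O_p(L), V a p-reduced normal subgroup of L and K a subnormal subgroup of L. Then [V, O^p(K)] is contained in K and is a p-reduced normal subgroup of K, where O^p(K) is the subgroup of K generated by its elements of order prime to p. -/
theorem result {L : Type*} [Group L] [Finite L] {p : ℕ} [Fact p.Prime] (hchar : Subgroup.centralizer (Cfsg.pCore p L : Set L) ≤ Cfsg.pCore p L) (V : Subgroup L) (hV : Cfsg.IsPReducedNormal p V) (K : Subgroup L) (hK : K.IsSubnormal) : ⁅V, (Cfsg.pResidual p ↥K).map K.subtype⁆ ≤ K ∧ Cfsg.IsPReducedNormal p ((⁅V, (Cfsg.pResidual p ↥K).map K.subtype⁆).subgroupOf K) := by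
  classical
  have hVn : V.Normal := hV.1
  have hVe := hV.2.1
  have hVp : IsPGroup p V := elemAb_isPGroup hVe
  have hRK : (Cfsg.pResidual p ↥K).map K.subtype ≤ K := Subgroup.map_subtype_le _
  have hKR : K ≤ Subgroup.normalizer (((Cfsg.pResidual p ↥K).map K.subtype : Subgroup L) : Set L) :=
    le_normalizer_map_subtype_pResidual K
  have hRs : ((Cfsg.pResidual p ↥K).map K.subtype).IsSubnormal :=
    Subgroup.IsSubnormal.step _ K hRK hK ((Subgroup.normal_subgroupOf_iff_le_normalizer hRK).mpr hKR)
  have hRres : (Cfsg.pResidual p ↥((Cfsg.pResidual p ↥K).map K.subtype)).map ((Cfsg.pResidual p ↥K).map K.subtype).subtype = (Cfsg.pResidual p ↥K).map K.subtype := by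
    apply le_antisymm (Subgroup.map_subtype_le _)
    conv_lhs => rw [map_subtype_pResidual K]
    rw [Subgroup.closure_le]
    intro x hx
    exact mem_map_subtype_pResidual (mem_map_subtype_pResidual hx.1 hx.2) hx.2
  have hVQ : V ≤ Cfsg.pCore p L := le_pCore hVn hVp
  have hQn : (Cfsg.pCore p L).Normal := Cfsg.Agent.Lib.Helper55.pCore_normal
  have hQR := subnormal_residual_normalized (Q := Cfsg.pCore p L)
    Cfsg.Agent.Lib.Helper55.pCore_isPGroup hRs hRres
  have hWR : ⁅V, (Cfsg.pResidual p ↥K).map K.subtype⁆ ≤ (Cfsg.pResidual p ↥K).map K.subtype := (Subgroup.le_normalizer_iff_commutator_le_right).mp (hVQ.trans hQR)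
  have hWK := hWR.trans hRK
  have hWV : ⁅V, (Cfsg.pResidual p ↥K).map K.subtype⁆ ≤ V := Subgroup.commutator_le_left V _
  have hKV : K ≤ Subgroup.normalizer (V : Set L) := by
    rw [Subgroup.normalizer_eq_top]; exact le_top
  refine ⟨hWK, ?_⟩
  rw [isPReducedNormal_subgroupOf_iff hWK]
  refine ⟨hWK, le_normalizer_commutator hKV hKR, elemAb_mono hWV hVe, ?_⟩
  intro D hDK hKD hpow
  have h1 := subnormal_pred_core hV hK hWV
    (fun x hx hc v hv => Subgroup.commutator_mem_commutator hv (mem_map_subtype_pResidual hx hc))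
    hDK hKD hpow
  exact h1.trans (Subgroup.centralizer_le (SetLike.coe_subset_coe.mpr hWV))

end Cfsg.Agent.S2804
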