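import Cfsg.Statements.S2809
import Cfsg.Agent.Lib.Helper55.Basic

set_option autoImplicit false
open Cfsg
open scoped commutatorElement

namespace Cfsg.Agent.S2809

open Cfsg.Agent.Lib.Helper55

theorem iter_le {H : Type*} [Group H] (R L : Subgroup H)
    (hL : L ≤ Subgroup.normalizer (R : Set H)) (i : ℕ) : Cfsg.iterCommutator R L i ≤ R := by
  induction i with
  | zero => exact le_rfl
  | succ i ih =>
    show ⁅Cfsg.iterCommutator R L i, L⁆ ≤ R
    rw [Subgroup.commutator_le]
    intro r hr l hl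
    have h1 : l * r⁻¹ * l⁻¹ ∈ R := ((Subgroup.mem_normalizer_iff.mp (hL hl)) r⁻¹).mp (R.inv_mem (ih hr))
    have : ⁅r, l⁆ = r * (l * r⁻¹ * l⁻¹) := by rw [commutatorElement_def]; group
    rw [this]
    exact R.mul_mem (ih hr) h1

theorem result {H : Type*} [Group H] [Finite H] {p : ℕ} [Fact p.Prime] (R : Subgroup H) (hR : IsPGroup p ↥R) (hC : Subgroup.centralizer (R : Set H) ≤ R) (L : Subgroup H) (hL : L ≤ Subgroup.normalizer (R : Set H)) (hnil : ∃ n : ℕ, Cfsg.iterCommutator R L n = ⊥) : IsPGroup p ↥L := by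
  obtain ⟨n, hn⟩ := hnil
  have hRpow : ∀ r ∈ R, ∃ k : ℕ, r ^ p ^ k = 1 := by
    intro r hr
    obtain ⟨k, hk⟩ := hR ⟨r, hr⟩
    refine ⟨k, ?_⟩
    have := congrArg Subtype.val hk
    simpa using this
  have key : ∀ y ∈ L, (orderOf y).Coprime p → y = 1 := by
    intro y hy hco
    have hcomm := commute_of_stable_chain (p := p) hco
      (fun i => (Cfsg.iterCommutator R L i : Set H)) n
      (by intro b hb; rw [hn] at hb; exact hb)
      (by
        intro i _ b hb
        have h1 : ⁅b⁻¹, y⁻¹⁆ ∈ ⁅Cfsg.iterCommutator R L i, L⁆ :=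
          Subgroup.commutator_mem_commutator (inv_mem hb) (inv_mem hy)
        have h2 : ⁅b⁻¹, y⁻¹⁆ = b⁻¹ * y⁻¹ * b * y := by rw [commutatorElement_def]; group
        rw [h2] at h1
        exact h1)
      (by
        intro i b hb
        exact hRpow b (iter_le R L hL i hb))
    have hyC : y ∈ Subgroup.centralizer (R : Set H) := by
      rw [Subgroup.mem_centralizer_iff]
      intro r hr
      exact (hcomm r hr).symm
    obtain ⟨k, hk⟩ := hRpow y (hC hyC)
    exact eq_one_of_coprime_of_pow hco (pow_orderOf_eq_one y) hk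
  intro g
  obtain ⟨k, hk⟩ := exists_pow_coprime (p := p) (g : H)
  refine ⟨k, ?_⟩
  have h1 := key ((g : H) ^ p ^ k) (L.pow_mem g.2 _) hk
  apply Subtype.ext
  simpa using h1

end Cfsg.Agent.S2809
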