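import Cfsg.Statements.S2810
import Cfsg.Agent.Lib.Helper55.Basic

set_option autoImplicit false
open Cfsg
open scoped commutatorElement

namespace Cfsg.Agent.S2810

open Cfsg.Agent.Lib.Helper55

/-- The stabiliser of a chain of normal subgroups. -/
def chainStab {H : Type*} [Group H] (n : ℕ) (A : Fin (n + 1) → Subgroup H)
    (hnorm : ∀ i, (A i).Normal) : Subgroup H where
  carrier := {g | ∀ i : Fin n, ∀ a ∈ A i.succ, ⁅a, g⁆ ∈ A i.castSucc}
  one_mem' := by
    intro i a _
    simp
  mul_mem' := by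
    intro g h hg hh i a ha
    have e : ⁅a, g * h⁆ = ⁅a, g⁆ * (g * ⁅a, h⁆ * g⁻¹) := by
      simp only [commutatorElement_def]; group
    rw [e]
    exact (A i.castSucc).mul_mem (hg i a ha) ((hnorm i.castSucc).conj_mem _ (hh i a ha) g)
  inv_mem' := by
    intro g hg i a ha
    have e : ⁅a, g⁻¹⁆ = g⁻¹ * (⁅a, g⁆)⁻¹ * g⁻¹⁻¹ := by
      simp only [commutatorElement_def]; group
    rw [e]
    exact (hnorm i.castSucc).conj_mem _ ((A i.castSucc).inv_mem (hg i a ha)) g⁻¹

theorem chainStab_normal {H : Type*} [Group H] (n : ℕ) (A : Fin (n + 1) → Subgroup H)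
    (hnorm : ∀ i, (A i).Normal) : (chainStab n A hnorm).Normal := by
  refine ⟨fun g hg x i a ha => ?_⟩
  have e : ⁅a, x * g * x⁻¹⁆ = x * ⁅x⁻¹ * a * x⁻¹⁻¹, g⁆ * x⁻¹ := by
    simp only [commutatorElement_def]; group
  rw [e]
  exact (hnorm i.castSucc).conj_mem _ (hg i _ ((hnorm i.succ).conj_mem a ha x⁻¹)) x

theorem result {H : Type*} [Group H] [Finite H] {p : ℕ} [Fact p.Prime] (hchar : Subgroup.centralizer (Cfsg.pCore p H : Set H) ≤ Cfsg.pCore p H) (L : Subgroup H) (n : ℕ) (A : Fin (n + 1) → Subgroup H) (h0 : A 0 = ⊥) (hn : A (Fin.last n) = Cfsg.pCore p H) (hmono : Monotone A) (hnorm : ∀ i, (A i).Normal) (hcent : ∀ i : Fin n, ⁅A i.succ, L⁆ ≤ A i.castSucc) : L ≤ Cfsg.pCore p H := by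
  have hLK : L ≤ chainStab n A hnorm := by
    intro g hg i a ha
    exact hcent i (Subgroup.commutator_mem_commutator ha hg)
  refine hLK.trans (le_pCore (chainStab_normal n A hnorm) ?_)
  have hpow : ∀ r ∈ Cfsg.pCore p H, ∃ k : ℕ, r ^ p ^ k = 1 := by
    intro r hr
    obtain ⟨k, hk⟩ := (pCore_isPGroup (G := H) (p := p)) ⟨r, hr⟩
    refine ⟨k, ?_⟩
    have := congrArg Subtype.val hk
    simpa using this
  have hle : ∀ i : Fin (n + 1), A i ≤ Cfsg.pCore p H := by
    intro i
    rw [← hn]
    exact hmono (Fin.le_last i)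
  have key : ∀ y ∈ chainStab n A hnorm, (orderOf y).Coprime p → y = 1 := by
    intro y hy hco
    have hcomm := commute_of_stable_chain (p := p) hco
      (fun j => if h : j ≤ n then (A ⟨n - j, by omega⟩ : Set H) else {1}) n
      (by
        intro b hb
        simp only [le_refl, dif_pos, Nat.sub_self] at hb
        have : (⟨0, by omega⟩ : Fin (n + 1)) = 0 := rfl
        rw [this, h0] at hb
        exact hb)
      (by
        intro j hj b hb
        have hj1 : j ≤ n := by omega
        have hj2 : j + 1 ≤ n := by omega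
        simp only [hj1, hj2, dif_pos] at hb ⊢
        have h1 := (chainStab n A hnorm).inv_mem hy ⟨n - (j + 1), by omega⟩ b⁻¹ (by
          have : (⟨n - (j + 1), by omega⟩ : Fin n).succ = (⟨n - j, by omega⟩ : Fin (n + 1)) := by
            ext; simp; omega
          rw [this]
          exact (A _).inv_mem hb)
        have h2 : ⁅b⁻¹, y⁻¹⁆ = b⁻¹ * y⁻¹ * b * y := by rw [commutatorElement_def]; group
        rw [h2] at h1
        exact h1)
      (by
        intro j b hb
        by_cases hj : j ≤ n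
        · simp only [hj, dif_pos] at hb
          exact hpow b (hle _ hb)
        · simp only [hj, dif_neg, not_false_eq_true] at hb
          refine ⟨0, ?_⟩
          rw [Set.mem_singleton_iff.mp hb]; simp)
    have hyC : y ∈ Subgroup.centralizer (Cfsg.pCore p H : Set H) := by
      rw [Subgroup.mem_centralizer_iff]
      intro r hr
      refine (hcomm r ?_).symm
      simp only [Nat.zero_le, dif_pos, Nat.sub_zero]
      have : (⟨n, by omega⟩ : Fin (n + 1)) = Fin.last n := rfl
      rw [this, hn]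
      exact hr
    obtain ⟨k, hk⟩ := hpow y (hchar hyC)
    exact eq_one_of_coprime_of_pow hco (pow_orderOf_eq_one y) hk
  intro g
  obtain ⟨k, hk⟩ := exists_pow_coprime (p := p) (g : H)
  refine ⟨k, ?_⟩
  have h1 := key ((g : H) ^ p ^ k) ((chainStab n A hnorm).pow_mem g.2 _) hk
  apply Subtype.ext
  simpa using h1

end Cfsg.Agent.S2810
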