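import Cfsg.Statements.S2812
import Cfsg.Agent.Lib.Helper55.FS

set_option autoImplicit false
open Cfsg

namespace Cfsg.Agent.S2812

open Cfsg.Agent.Lib.Helper55
open scoped commutatorElement

/-- Let H be a subgroup of the finite group G with O_p(H) = 1, Y a p-subgroup of G normalizing H, and L a subgroup of the generalized Fitting subgroup F*(H) that is subnormal in H and normalized by Y. Then L = [L, Y]·C_L(Y) and [L, Y] = [L, Y, Y]. -/
theorem result {G : Type*} [Group G] [Finite G] {p : ℕ} [Fact p.Prime] (H : Subgroup G) (hO : Cfsg.pCore p ↥H = ⊥) (Y : Subgroup G) (hY : IsPGroup p ↥Y) (hYH : Y ≤ Subgroup.normalizer (H : Set G)) (L : Subgroup G) (hLF : L ≤ (Cfsg.generalizedFittingSubgroup ↥H).map H.subtype) (hLsn : (L.subgroupOf H).IsSubnormal) (hYL : Y ≤ Subgroup.normalizer (L : Set G)) : ⁅L, Y⁆ ⊔ (L ⊓ Subgroup.centralizer (Y : Set G)) = L ∧ ⁅L, Y⁆ = ⁅⁅L, Y⁆, Y⁆ := by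
  have hLH : L ≤ H := hLF.trans (Subgroup.map_subtype_le _)
  have hFp : ¬ p ∣ Nat.card (Cfsg.fittingSubgroup ↥H) := fitting_not_dvd hO
  have hFchar : (Cfsg.fittingSubgroup ↥H).Characteristic :=
    Cfsg.Agent.Lib.Helper30.fitting_characteristic
  have hYF0 : Y ≤ Subgroup.normalizer
      (((Cfsg.fittingSubgroup ↥H).map H.subtype : Subgroup G) : Set G) :=
    hYH.trans (normalizer_le_normalizer_map_of_characteristic _)
  have hfac := Cfsg.Agent.Lib.Helper30.subnormal_genFitting_factor hLsn (by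
    intro x hx
    obtain ⟨y, hy, hyx⟩ := hLF (Subgroup.mem_subgroupOf.mp hx)
    have hyx' : y = x := Subtype.ext hyx
    exact hyx' ▸ hy)
  refine fstar_action (X := L) (F := (Cfsg.fittingSubgroup ↥H).map H.subtype ⊓ L)
    (𝒦 := {K : Subgroup G | K ≤ L ∧ Cfsg.IsComponent (K.subgroupOf H)}) hY hYL inf_le_right
    ?_ ?_ ?_ ?_
  · intro hd
    apply hFp
    have h1 := hd.trans (Subgroup.card_dvd_of_le
      (inf_le_left : (Cfsg.fittingSubgroup ↥H).map H.subtype ⊓ L ≤ _))
    rwa [Cfsg.Agent.Lib.Helper30.card_map_subtype] at h1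
  · exact (le_inf hYF0 hYL).trans Subgroup.inf_normalizer_le_normalizer_inf
  · rintro K ⟨hKL, hKc⟩
    have hKH : K ≤ H := hKL.trans hLH
    refine ⟨hKL, Cfsg.Agent.Lib.Helper30.isQuasisimple_of_mulEquiv
      (Subgroup.subgroupOfEquivOfLe hKH) hKc.2, fun y hy => ?_⟩
    have hyH : cj y H = H := cj_eq_self_of_mem_normalizer (hYH hy)
    have h1 := Cfsg.Agent.Lib.Helper30.isComponent_subgroupOf_map_equiv (MulAut.conj y) hKH hKc
    rw [show Subgroup.map (MulAut.conj y).toMonoidHom H = H from hyH] at h1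
    by_cases he : cj y K = K
    · exact Or.inl he
    · right
      have hK'H : cj y K ≤ H := by
        have h0 := cj_mono (g := y) hKH
        rwa [hyH] at h0
      apply Cfsg.Agent.Lib.Helper30.commutator_eq_bot_of_subgroupOf hKH hK'H
      apply Cfsg.Agent.Lib.Helper30.components_commute hKc h1
      intro heq
      apply he
      have h2 := congrArg (Subgroup.map H.subtype) heq
      rw [Subgroup.subgroupOf_map_subtype, Subgroup.subgroupOf_map_subtype, inf_of_le_left hKH,
        inf_of_le_left hK'H] at h2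
      exact h2.symm
  · intro l hl
    have h1 := hfac (Subgroup.mem_subgroupOf.mpr hl : (⟨l, hLH hl⟩ : ↥H) ∈ L.subgroupOf H)
    have h2 : (sSup {K : Subgroup ↥H | Cfsg.IsComponent K ∧ K ≤ L.subgroupOf H} ⊔
        (Cfsg.fittingSubgroup ↥H ⊓ L.subgroupOf H)) ≤
        (((Cfsg.fittingSubgroup ↥H).map H.subtype ⊓ L) ⊔
          sSup {K : Subgroup G | K ≤ L ∧ Cfsg.IsComponent (K.subgroupOf H)}).comap H.subtype := by
      refine sup_le (sSup_le fun C hC => ?_) ?_
      · rw [← Subgroup.map_le_iff_le_comap]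
        refine le_sup_of_le_right (le_sSup ⟨?_, ?_⟩)
        · rintro _ ⟨c, hc, rfl⟩
          exact Subgroup.mem_subgroupOf.mp (hC.2 hc)
        · rw [map_subtype_subgroupOf]
          exact hC.1
      · rw [← Subgroup.map_le_iff_le_comap]
        refine le_sup_of_le_left (le_inf (Subgroup.map_mono inf_le_left) ?_)
        rintro _ ⟨c, hc, rfl⟩
        exact Subgroup.mem_subgroupOf.mp hc.2
    exact h2 h1

end Cfsg.Agent.S2812
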