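import Cfsg.Statements.S2813
import Cfsg.Agent.Lib.Helper55.Basic

set_option autoImplicit false
open Cfsg
open scoped commutatorElement

namespace Cfsg.Agent.S2813

open Cfsg.Agent.Lib.Helper55

variable {G : Type*} [Group G]

theorem comm_le_left {K Y : Subgroup G} (hY : Y ≤ Subgroup.normalizer (K : Set G)) :
    ⁅K, Y⁆ ≤ K := by
  rw [Subgroup.commutator_le]
  intro k hk y hy
  have h1 : y * k⁻¹ * y⁻¹ ∈ K := ((Subgroup.mem_normalizer_iff.mp (hY hy)) k⁻¹).mp (K.inv_mem hk)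
  have : ⁅k, y⁆ = k * (y * k⁻¹ * y⁻¹) := by rw [commutatorElement_def]; group
  rw [this]
  exact K.mul_mem hk h1

theorem conj_comm_mem {K Y : Subgroup G} {k₁ k₂ y : G} (h1 : k₁ ∈ K) (h2 : k₂ ∈ K) (hy : y ∈ Y) :
    k₁ * ⁅k₂, y⁆ * k₁⁻¹ ∈ ⁅K, Y⁆ := by
  have e : k₁ * ⁅k₂, y⁆ * k₁⁻¹ = ⁅k₁ * k₂, y⁆ * (⁅k₁, y⁆)⁻¹ := by
    simp only [commutatorElement_def]; group
  rw [e]
  exact Subgroup.mul_mem _ (Subgroup.commutator_mem_commutator (K.mul_mem h1 h2) hy)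
    (Subgroup.inv_mem _ (Subgroup.commutator_mem_commutator h1 hy))

theorem isPGroup_closure_of_commute {p : ℕ} (S : Set G)
    (hcomm : ∀ a ∈ S, ∀ b ∈ S, a * b = b * a) (hpow : ∀ a ∈ S, ∃ k : ℕ, a ^ p ^ k = 1) :
    IsPGroup p (Subgroup.closure S) := by
  have hab : ∀ a ∈ Subgroup.closure S, ∀ b ∈ Subgroup.closure S, a * b = b * a := by
    have h1 : S ⊆ Subgroup.centralizer S := fun a ha =>
      Subgroup.mem_centralizer_iff.mpr (fun b hb => hcomm b hb a ha)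
    have h2 : Subgroup.closure S ≤ Subgroup.centralizer S := (Subgroup.closure_le _).mpr h1
    have h3 : S ⊆ Subgroup.centralizer (Subgroup.closure S : Set G) := fun a ha =>
      Subgroup.mem_centralizer_iff.mpr (fun b hb => ((Subgroup.mem_centralizer_iff.mp (h2 hb)) a ha).symm)
    have h4 : Subgroup.closure S ≤ Subgroup.centralizer (Subgroup.closure S : Set G) :=
      (Subgroup.closure_le _).mpr h3
    intro a ha b hb
    exact ((Subgroup.mem_centralizer_iff.mp (h4 ha)) b hb).symm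
  have hall : ∀ x ∈ Subgroup.closure S, ∃ k : ℕ, x ^ p ^ k = 1 := by
    intro x hx
    induction hx using Subgroup.closure_induction with
    | mem a ha => exact hpow a ha
    | one => exact ⟨0, by simp⟩
    | mul a b ha hb iha ihb =>
      obtain ⟨i, hi⟩ := iha
      obtain ⟨j, hj⟩ := ihb
      refine ⟨i + j, ?_⟩
      have hc : Commute a b := hab a ha b hb
      rw [hc.mul_pow, pow_add, pow_mul, hi, one_pow, one_mul, mul_comm (p ^ i), pow_mul, hj, one_pow]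
    | inv a ha iha =>
      obtain ⟨i, hi⟩ := iha
      exact ⟨i, by rw [inv_pow, hi, inv_one]⟩
  intro g
  obtain ⟨k, hk⟩ := hall g.1 g.2
  exact ⟨k, Subtype.ext (by simpa using hk)⟩

theorem result {H : Type*} [Group H] [Finite H] {p : ℕ} [Fact p.Prime] (K : Subgroup H) (hO : Cfsg.pCore p ↥K = ⊥) (Y : Subgroup H) (hY : IsPGroup p ↥Y) (hYK : Y ≤ Subgroup.normalizer (K : Set H)) (hq : ⁅⁅K, Y⁆, Y⁆ = ⊥) : ⁅K, Y⁆ = ⊥ := by
  have hNK : ⁅K, Y⁆ ≤ K := comm_le_left hYK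
  -- Y centralises N
  have hcent : ∀ n ∈ ⁅K, Y⁆, ∀ y ∈ Y, y * n = n * y := by
    intro n hn y hy
    have h1 : ⁅n, y⁆ ∈ ⁅⁅K, Y⁆, Y⁆ := Subgroup.commutator_mem_commutator hn hy
    rw [hq, Subgroup.mem_bot, commutatorElement_eq_one_iff_mul_comm] at h1
    exact h1.symm
  have hYpow : ∀ y ∈ Y, ∃ k : ℕ, y ^ p ^ k = 1 := by
    intro y hy
    obtain ⟨k, hk⟩ := hY ⟨y, hy⟩
    exact ⟨k, by simpa using congrArg Subtype.val hk⟩
  -- the generating set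
  have hN : ⁅K, Y⁆ = Subgroup.closure {g | ∃ k ∈ K, ∃ y ∈ Y, ⁅k, y⁆ = g} := rfl
  have hp : IsPGroup p (⁅K, Y⁆ : Subgroup H) := by
    rw [hN]
    apply isPGroup_closure_of_commute
    · rintro a ⟨k₂, hk₂, y, hy, rfl⟩ b ⟨k₁, hk₁, y', hy', rfl⟩
      -- n = ⁅k₂, y⁆ commutes with ⁅k₁, y'⁆
      have hn : ⁅k₂, y⁆ ∈ ⁅K, Y⁆ := Subgroup.commutator_mem_commutator hk₂ hy
      have hu : k₁⁻¹ * ⁅k₂, y⁆ * k₁⁻¹⁻¹ ∈ ⁅K, Y⁆ := conj_comm_mem (K.inv_mem hk₁) hk₂ hy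
      have c1 := hcent _ hu y' hy'
      have c2 := hcent _ hn y' hy'
      have c3 := hcent _ hn y'⁻¹ (Y.inv_mem hy')
      -- derive commutation
      have e1 : (k₁ * y' * k₁⁻¹) * ⁅k₂, y⁆ = ⁅k₂, y⁆ * (k₁ * y' * k₁⁻¹) := by
        have : k₁ * (y' * (k₁⁻¹ * ⁅k₂, y⁆ * k₁⁻¹⁻¹)) * k₁⁻¹ = k₁ * ((k₁⁻¹ * ⁅k₂, y⁆ * k₁⁻¹⁻¹) * y') * k₁⁻¹ := by
          rw [c1]
        calc (k₁ * y' * k₁⁻¹) * ⁅k₂, y⁆ = k₁ * (y' * (k₁⁻¹ * ⁅k₂, y⁆ * k₁⁻¹⁻¹)) * k₁⁻¹ := by group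
          _ = k₁ * ((k₁⁻¹ * ⁅k₂, y⁆ * k₁⁻¹⁻¹) * y') * k₁⁻¹ := this
          _ = ⁅k₂, y⁆ * (k₁ * y' * k₁⁻¹) := by group
      have e2 : ⁅k₁, y'⁆ = (k₁ * y' * k₁⁻¹) * y'⁻¹ := by rw [commutatorElement_def]
      rw [e2]
      calc ⁅k₂, y⁆ * (k₁ * y' * k₁⁻¹ * y'⁻¹) = (⁅k₂, y⁆ * (k₁ * y' * k₁⁻¹)) * y'⁻¹ := by group
        _ = ((k₁ * y' * k₁⁻¹) * ⁅k₂, y⁆) * y'⁻¹ := by rw [e1]
        _ = (k₁ * y' * k₁⁻¹) * (⁅k₂, y⁆ * y'⁻¹) := by group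
        _ = (k₁ * y' * k₁⁻¹) * (y'⁻¹ * ⁅k₂, y⁆) := by rw [c3]
        _ = k₁ * y' * k₁⁻¹ * y'⁻¹ * ⁅k₂, y⁆ := by group
    · rintro a ⟨k, hk, y, hy, rfl⟩
      obtain ⟨e, he⟩ := hYpow y hy
      refine ⟨e, ?_⟩
      have hn : ⁅k, y⁆ ∈ ⁅K, Y⁆ := Subgroup.commutator_mem_commutator hk hy
      have hc : Commute (⁅k, y⁆) y := (hcent _ hn y hy).symm
      have e1 : k * y * k⁻¹ = ⁅k, y⁆ * y := by rw [commutatorElement_def]; group
      have e2 : (k * y * k⁻¹) ^ p ^ e = k * y ^ p ^ e * k⁻¹ := conj_pow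
      rw [e1, hc.mul_pow, he, mul_one] at e2
      rw [e2]; group
  have hnorm : K ≤ Subgroup.normalizer ((⁅K, Y⁆ : Subgroup H) : Set H) := by
    rw [Subgroup.le_normalizer_iff]
    intro k₁ hk₁ n hn
    rw [hN] at hn
    induction hn using Subgroup.closure_induction with
    | mem a ha =>
      obtain ⟨k₂, hk₂, y, hy, rfl⟩ := ha
      exact conj_comm_mem hk₁ hk₂ hy
    | one => simp
    | mul a b _ _ iha ihb =>
      have : k₁ * (a * b) * k₁⁻¹ = (k₁ * a * k₁⁻¹) * (k₁ * b * k₁⁻¹) := by group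
      rw [this]; exact Subgroup.mul_mem _ iha ihb
    | inv a _ iha =>
      have : k₁ * a⁻¹ * k₁⁻¹ = (k₁ * a * k₁⁻¹)⁻¹ := by group
      rw [this]; exact Subgroup.inv_mem _ iha
  have hle := le_pCoreOf hNK hnorm hp
  have hbot : Cfsg.pCoreOf p K = ⊥ := by
    show (Cfsg.pCore p ↥K).map K.subtype = ⊥
    rw [hO, Subgroup.map_bot]
  rw [hbot] at hle
  exact le_bot_iff.mp hle

end Cfsg.Agent.S2813
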