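import Cfsg.Statements.S2814
import Cfsg.Agent.Lib.Helper55.Subn2

set_option autoImplicit false
open Cfsg

namespace Cfsg.Agent.S2814

open Cfsg.Agent.Lib.Helper55
open scoped commutatorElement

/-- Let A be a subgroup of the finite group H and K the subnormal closure of A (intersection of the subnormal subgroups containing A). Then K is the normal closure of A inside K and N_H(A) ≤ N_H(K); K = A·O^p(K), O^p(K) being generated by the elements of K of order prime to p; and if A is a p-group, O^p(K) = [O^p(K), A]. -/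
theorem result {H : Type*} [Group H] [Finite H] {p : ℕ} [Fact p.Prime] (A : Subgroup H) (K : Subgroup H) (hK : K = Cfsg.subnormalClosure A) : (Subgroup.normalClosure ((A.subgroupOf K : Subgroup ↥K) : Set ↥K)).map K.subtype = K ∧ Subgroup.normalizer (A : Set H) ≤ Subgroup.normalizer (K : Set H) ∧ A ⊔ (Cfsg.pResidual p ↥K).map K.subtype = K ∧ (IsPGroup p ↥A → ⁅(Cfsg.pResidual p ↥K).map K.subtype, A⁆ = (Cfsg.pResidual p ↥K).map K.subtype) := by
  classical
  have hAK : A ≤ K := by rw [hK]; exact le_subnormalClosure A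
  have hKs : K.IsSubnormal := by rw [hK]; exact subnormalClosure_isSubnormal A
  have hmin : ∀ X : Subgroup H, A ≤ X → X.IsSubnormal → K ≤ X := by
    intro X hAX hX
    rw [hK]; exact subnormalClosure_le hAX hX
  have hRK : (Cfsg.pResidual p ↥K).map K.subtype ≤ K := Subgroup.map_subtype_le _
  have hKR : K ≤ Subgroup.normalizer (((Cfsg.pResidual p ↥K).map K.subtype : Subgroup H) : Set H) :=
    le_normalizer_map_subtype_pResidual K
  have h3 : A ⊔ (Cfsg.pResidual p ↥K).map K.subtype = K := by
    apply le_antisymm (sup_le hAK hRK)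
    apply hmin _ le_sup_left
    exact (isSubnormal_of_residual_le (p := p) (X := A ⊔ (Cfsg.pResidual p ↥K).map K.subtype) le_sup_right).trans
      (sup_le hAK hRK) hKs
  refine ⟨?_, ?_, h3, ?_⟩
  · apply le_antisymm (Subgroup.map_subtype_le _)
    apply hmin
    · intro a ha
      exact ⟨⟨a, hAK ha⟩, Subgroup.subset_normalClosure ha, rfl⟩
    · exact Subgroup.IsSubnormal.trans' (Subgroup.normalClosure_normal.isSubnormal) hKs
  · have hsub : ∀ g ∈ Subgroup.normalizer (A : Set H), K ≤ cj g K := by
      intro g hg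
      apply hmin
      · intro a ha
        rw [mem_cj]
        exact hAK ((Subgroup.mem_normalizer_iff''.mp hg a).mp ha)
      · exact hKs.map (MulAut.conj g).surjective
    intro g hg
    apply mem_normalizer_of_cj_eq
    apply le_antisymm _ (hsub g hg)
    have h1 := cj_mono (g := g) (hsub g⁻¹ (Subgroup.inv_mem _ hg))
    rwa [← cj_mul, mul_inv_cancel, cj_one] at h1
  · intro hAp
    have hCR : ⁅(Cfsg.pResidual p ↥K).map K.subtype, A⁆ ≤ (Cfsg.pResidual p ↥K).map K.subtype := by
      rw [Subgroup.commutator_le]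
      intro r hr a ha
      have h1 : a * r⁻¹ * a⁻¹ ∈ (Cfsg.pResidual p ↥K).map K.subtype :=
        (Subgroup.mem_normalizer_iff.mp (hKR (hAK ha)) _).mp (Subgroup.inv_mem _ hr)
      have e : ⁅r, a⁆ = r * (a * r⁻¹ * a⁻¹) := by
        simp only [commutatorElement_def]; group
      rw [e]
      exact Subgroup.mul_mem _ hr h1
    apply le_antisymm hCR
    have hAC : A ≤ Subgroup.normalizer ((⁅(Cfsg.pResidual p ↥K).map K.subtype, A⁆ : Subgroup H) : Set H) :=
      Subgroup.normalizer_commutator_ge_right _ _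
    have hRC : (Cfsg.pResidual p ↥K).map K.subtype ≤ Subgroup.normalizer ((⁅(Cfsg.pResidual p ↥K).map K.subtype, A⁆ : Subgroup H) : Set H) :=
      Subgroup.normalizer_commutator_ge_left _ _
    have hAX : A ≤ Subgroup.normalizer ((A ⊔ ⁅(Cfsg.pResidual p ↥K).map K.subtype, A⁆ : Subgroup H) : Set H) :=
      (le_inf Subgroup.le_normalizer hAC).trans
        (Subgroup.normalizer_inf_normalizer_le_normalizer_sup A _)
    have hRX : (Cfsg.pResidual p ↥K).map K.subtype ≤ Subgroup.normalizer ((A ⊔ ⁅(Cfsg.pResidual p ↥K).map K.subtype, A⁆ : Subgroup H) : Set H) := by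
      apply le_normalizer_of_conj_mem
      intro r hr
      have hle : A ⊔ ⁅(Cfsg.pResidual p ↥K).map K.subtype, A⁆ ≤ (A ⊔ ⁅(Cfsg.pResidual p ↥K).map K.subtype, A⁆).comap (MulAut.conj r).toMonoidHom := by
        apply sup_le
        · intro a ha
          rw [Subgroup.mem_comap]
          show r * a * r⁻¹ ∈ _
          have e : r * a * r⁻¹ = ⁅r, a⁆ * a := by
            rw [commutatorElement_def]; group
          rw [e]
          exact Subgroup.mul_mem _ (Subgroup.mem_sup_right (Subgroup.commutator_mem_commutator hr ha))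
            (Subgroup.mem_sup_left ha)
        · intro c hc
          rw [Subgroup.mem_comap]
          exact Subgroup.mem_sup_right ((Subgroup.mem_normalizer_iff.mp (hRC hr) c).mp hc)
      exact fun x hx => hle hx
    have hKX : K ≤ Subgroup.normalizer ((A ⊔ ⁅(Cfsg.pResidual p ↥K).map K.subtype, A⁆ : Subgroup H) : Set H) :=
      h3.symm.le.trans (sup_le hAX hRX)
    have hXK : A ⊔ ⁅(Cfsg.pResidual p ↥K).map K.subtype, A⁆ ≤ K := sup_le hAK (hCR.trans hRK)
    have hXs : (A ⊔ ⁅(Cfsg.pResidual p ↥K).map K.subtype, A⁆).IsSubnormal :=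
      Subgroup.IsSubnormal.step _ K hXK hKs
        ((Subgroup.normal_subgroupOf_iff_le_normalizer hXK).mpr hKX)
    have hKX' : K ≤ A ⊔ ⁅(Cfsg.pResidual p ↥K).map K.subtype, A⁆ := hmin _ le_sup_left hXs
    rw [map_subtype_pResidual_le_iff]
    intro x hx hc
    have hx' : x ∈ ((A ⊔ ⁅(Cfsg.pResidual p ↥K).map K.subtype, A⁆ : Subgroup H) : Set H) := hKX' hx
    rw [Subgroup.coe_mul_of_left_le_normalizer_right A _ hAC] at hx'
    obtain ⟨a, ha, c, hc', rfl⟩ := Set.mem_mul.mp hx'
    obtain ⟨k, hk⟩ := pel_of_mem hAp ha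
    obtain ⟨c', hc'', e⟩ := pow_mul_mem_normalizer (hAC ha) hc' (p ^ k)
    apply mem_of_pow_mem_of_coprime hc (k := k)
    rw [e, hk, one_mul]
    exact hc''

end Cfsg.Agent.S2814
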