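import Cfsg.Statements.S2815
import Cfsg.Agent.Lib.Helper55.QS

set_option autoImplicit false
open Cfsg

namespace Cfsg.Agent.S2815

open Cfsg.Agent.Lib.Helper55
open scoped commutatorElement

/-- Let H be a finite group and p a prime dividing its order with O_p(H) = 1, and suppose K = O^p(H) (generated by the elements of order prime to p) is quasisimple. Then K = F*(H); for every nontrivial p-subgroup Y of H, K = [K, Y] and K lies in the subgroup generated by the K-conjugates of Y; every normal subgroup of H not containing K has order prime to p; and H is p-irreducible. -/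
theorem result {H : Type*} [Group H] [Finite H] {p : ℕ} [Fact p.Prime] (hp : p ∣ Nat.card H) (hO : Cfsg.pCore p H = ⊥) (hq : Cfsg.IsQuasisimple ↥(Cfsg.pResidual p H)) : Cfsg.pResidual p H = Cfsg.generalizedFittingSubgroup H ∧ (∀ Y : Subgroup H, IsPGroup p ↥Y → Y ≠ ⊥ → ⁅Cfsg.pResidual p H, Y⁆ = Cfsg.pResidual p H ∧ Cfsg.pResidual p H ≤ ⨆ k : ↥(Cfsg.pResidual p H), Y.map (MulAut.conj (k : H)).toMonoidHom) ∧ (∀ C : Subgroup H, C.Normal → ¬ Cfsg.pResidual p H ≤ C → (Nat.card ↥C).Coprime p) ∧ Cfsg.IsPIrreducible p H := by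
  have hKn : (Cfsg.pResidual p H).Normal := pResidual_normal
  obtain ⟨hCp, hCK⟩ := centralizer_pResidual_qs (p := p) hO
  set K := Cfsg.pResidual p H with hK
  have hKcomp : Cfsg.IsComponent K := ⟨hKn.isSubnormal, hq⟩
  have hcop : ∀ X : Subgroup H, X ≤ Subgroup.centralizer (K : Set H) →
      (Nat.card ↥X).Coprime p := by
    intro X hX
    rw [Nat.coprime_comm, Nat.Prime.coprime_iff_not_dvd (Fact.out : p.Prime)]
    exact fun hd => hCp (hd.trans (Subgroup.card_dvd_of_le hX))
  have h3 : ∀ C : Subgroup H, C.Normal → ¬ K ≤ C → (Nat.card ↥C).Coprime p := by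
    intro C hCn hKC
    apply hcop
    rcases qs_commutator_eq_or_le_centralizer hKn hq C with h | h
    · exact absurd (h ▸ Subgroup.commutator_le_right K C) hKC
    · exact h
  refine ⟨?_, ?_, h3, ?_, ?_⟩
  · apply le_antisymm
    · exact (Cfsg.Agent.Lib.Helper30.comp_le_layer hKcomp).trans le_sup_left
    · refine sup_le (sSup_le fun L hL => ?_) ?_
      · rcases Cfsg.Agent.Lib.Helper30.component_le_or_commutator_eq_bot hL hKn.isSubnormal with h | h
        · exact h
        · exact (Subgroup.commutator_eq_bot_iff_le_centralizer.mp h).trans hCK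
      · have h := Cfsg.Agent.Lib.Helper30.comp_commutator_fitting hKcomp
        rw [Subgroup.commutator_comm] at h
        exact (Subgroup.commutator_eq_bot_iff_le_centralizer.mp h).trans hCK
  · intro Y hY hne
    have hYC : ¬ Y ≤ Subgroup.centralizer (K : Set H) := by
      intro hle
      have h1 := hcop Y hle
      have h2 := dvd_card_of_isPGroup_ne_bot hY hne
      exact (Fact.out : p.Prime).one_lt.ne' (h1.symm.eq_one_of_dvd h2)
    have hKY : ⁅K, Y⁆ = K := (qs_commutator_eq_or_le_centralizer hKn hq Y).resolve_right hYC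
    refine ⟨hKY, ?_⟩
    have hle : ⁅K, Y⁆ ≤ ⨆ k : ↥K, Y.map (MulAut.conj (k : H)).toMonoidHom := by
      rw [Subgroup.commutator_le]
      intro k hk y hy
      rw [commutatorElement_def]
      refine Subgroup.mul_mem _ (Subgroup.mem_iSup_of_mem (⟨k, hk⟩ : ↥K) ⟨y, hy, ?_⟩)
        (Subgroup.mem_iSup_of_mem (1 : ↥K) ⟨y⁻¹, Y.inv_mem hy, ?_⟩)
      · simp [MulAut.conj_apply]
      · simp
    rwa [hKY] at hle
  · intro hcl
    obtain ⟨P⟩ : Nonempty (Sylow p H) := inferInstance
    have h1 := le_pCore (hcl P) P.isPGroup'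
    rw [hO] at h1
    exact P.ne_bot_of_dvd_card hp (le_bot_iff.mp h1)
  · intro N hNn hNcl
    by_contra hKN
    apply hNcl
    intro P
    have h1 := h3 N hNn hKN
    have h2 : (P : Subgroup ↥N) = ⊥ := by
      by_contra hne
      have h4 := dvd_card_of_isPGroup_ne_bot P.isPGroup' hne
      have h5 : p ∣ Nat.card ↥N := h4.trans (Subgroup.card_subgroup_dvd_card _)
      exact (Fact.out : p.Prime).one_lt.ne' (h1.symm.eq_one_of_dvd h5)
    rw [h2]
    infer_instance

end Cfsg.Agent.S2815
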