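import Cfsg.Statements.S2816
import Cfsg.Agent.Lib.Helper55.FS

set_option autoImplicit false
open Cfsg

namespace Cfsg.Agent.S2816

open Cfsg.Agent.Lib.Helper55
open scoped commutatorElement

/-- Let H be a finite group and p a prime with O_p(H) = 1, and Y a p-subgroup of H. Then for every subnormal subgroup K of H containing Y, [F*(H), Y] = [F*(K), Y] = [F*(K), Y, Y]; and if Y₀ ≤ Y with [F*(H), Y, Y₀] = 1 then Y₀ = 1 (in particular [F*(H), Y] = 1 forces Y = 1). -/
theorem result {H : Type*} [Group H] [Finite H] {p : ℕ} [Fact p.Prime] (hO : Cfsg.pCore p H = ⊥) (Y : Subgroup H) (hY : IsPGroup p ↥Y) : (∀ K : Subgroup H, K.IsSubnormal → Y ≤ K → ⁅Cfsg.generalizedFittingSubgroup H, Y⁆ = ⁅(Cfsg.generalizedFittingSubgroup ↥K).map K.subtype, Y⁆ ∧ ⁅(Cfsg.generalizedFittingSubgroup ↥K).map K.subtype, Y⁆ = ⁅⁅(Cfsg.generalizedFittingSubgroup ↥K).map K.subtype, Y⁆, Y⁆) ∧ (∀ Y₀ : Subgroup H, Y₀ ≤ Y → ⁅⁅Cfsg.generalizedFittingSubgroup H, Y⁆, Y₀⁆ = ⊥ → Y₀ = ⊥) := by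
  have hXn : (Cfsg.generalizedFittingSubgroup H).Normal := Cfsg.Agent.Lib.Helper30.genFitting_normal
  have hFp := fitting_not_dvd (p := p) hO
  obtain ⟨hX1, hX2⟩ := genFitting_action hO hY
  refine ⟨fun K hK hYK => ?_, fun Y₀ hY₀ h0 => ?_⟩
  · have hmap : (Cfsg.generalizedFittingSubgroup ↥K).map K.subtype =
        (Cfsg.layer ↥K).map K.subtype ⊔ (Cfsg.fittingSubgroup ↥K).map K.subtype :=
      Subgroup.map_sup _ _ _
    have hlayer := Cfsg.Agent.Lib.Helper30.layer_map_subtype_eq hK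
    have hfit := Cfsg.Agent.Lib.Helper30.fitting_map_subtype_eq hK
    have hXKX : (Cfsg.generalizedFittingSubgroup ↥K).map K.subtype ≤
        Cfsg.generalizedFittingSubgroup H := by
      rw [hmap]
      exact sup_le_sup (Cfsg.Agent.Lib.Helper30.layer_map_subtype_le hK)
        (Cfsg.Agent.Lib.Helper30.fitting_map_subtype_le hK)
    have hKn : (Cfsg.generalizedFittingSubgroup ↥K).Normal :=
      Cfsg.Agent.Lib.Helper30.genFitting_normal
    have hFKn : (Cfsg.fittingSubgroup ↥K).Normal := Cfsg.Agent.Lib.Helper30.fitting_normal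
    have hact := fstar_action_components
      (X := (Cfsg.generalizedFittingSubgroup ↥K).map K.subtype)
      (F := (Cfsg.fittingSubgroup ↥K).map K.subtype)
      (𝒦 := {C : Subgroup H | Cfsg.IsComponent C ∧ C ≤ K}) hY
      (hYK.trans ((normal_iff_le_normalizer_map K _).mp hKn))
      (by rw [hmap]; exact le_sup_right)
      (fun hd => hFp (hd.trans (Subgroup.card_dvd_of_le
        (Cfsg.Agent.Lib.Helper30.fitting_map_subtype_le hK))))
      (hYK.trans ((normal_iff_le_normalizer_map K _).mp hFKn))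
      (fun C hC => ⟨by rw [hmap, hlayer]; exact le_sup_of_le_left (le_sSup hC), hC.1⟩)
      (by rw [hmap, hlayer, sup_comm])
    refine ⟨le_antisymm ?_ (Subgroup.commutator_mono hXKX le_rfl), hact.2⟩
    have hM : ⁅Cfsg.generalizedFittingSubgroup H, Y⁆ ≤ K :=
      le_subnormal_of_le_commutator hK hX2.le hYK
    have hMX : ⁅Cfsg.generalizedFittingSubgroup H, Y⁆ ≤ Cfsg.generalizedFittingSubgroup H :=
      Subgroup.commutator_le_left _ _
    have hS : (Cfsg.generalizedFittingSubgroup H ⊓ K).IsSubnormal := hXn.isSubnormal.inf hK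
    have hfac := Cfsg.Agent.Lib.Helper30.subnormal_genFitting_factor hS inf_le_left
    have hSXK : Cfsg.generalizedFittingSubgroup H ⊓ K ≤
        (Cfsg.generalizedFittingSubgroup ↥K).map K.subtype := by
      refine hfac.trans ?_
      rw [hmap, hlayer, hfit]
      exact sup_le_sup (sSup_le_sSup fun C hC => ⟨hC.1, hC.2.trans inf_le_right⟩)
        (inf_le_inf_left _ inf_le_right)
    calc ⁅Cfsg.generalizedFittingSubgroup H, Y⁆
        ≤ ⁅⁅Cfsg.generalizedFittingSubgroup H, Y⁆, Y⁆ := hX2.le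
      _ ≤ ⁅(Cfsg.generalizedFittingSubgroup ↥K).map K.subtype, Y⁆ :=
        Subgroup.commutator_mono ((le_inf hMX hM).trans hSXK) le_rfl
  · have hY₀p : IsPGroup p Y₀ := hY.to_le hY₀
    obtain ⟨-, h2⟩ := genFitting_action hO hY₀p
    have h3 : ⁅Cfsg.generalizedFittingSubgroup H, Y₀⁆ = ⊥ := by
      rw [h2, eq_bot_iff, ← h0]
      exact Subgroup.commutator_mono (Subgroup.commutator_mono le_rfl hY₀) le_rfl
    rw [Subgroup.commutator_comm, Subgroup.commutator_eq_bot_iff_le_centralizer] at h3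
    exact pgroup_centralizing_genFitting hO hY₀p h3

end Cfsg.Agent.S2816
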