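import Cfsg.Statements.S2817
import Cfsg.Agent.Lib.Helper55.FS2

set_option autoImplicit false
open Cfsg

namespace Cfsg.Agent.S2817

open Cfsg.Agent.Lib.Helper55
open scoped commutatorElement

/-- Let H be a finite group and p a prime with O_p(H) = 1, Q a p-subgroup of H, L = [F*(H), Q], and F the largest normal subgroup of F*(H) centralized by Q (a normal subgroup of F*(H) centralized by Q and containing every such). Then F = C_{F*(H)}(LQ); L = [L, Q]; L ∩ F ≤ Φ(L); every p-subgroup B of N_H(Q) with [L, B] ≤ F satisfies [L, B] = 1; and C_H(FL) has order prime to p. -/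
theorem result {H : Type*} [Group H] [Finite H] {p : ℕ} [Fact p.Prime] (hO : Cfsg.pCore p H = ⊥) (Q : Subgroup H) (hQ : IsPGroup p ↥Q) (L : Subgroup H) (hL : L = ⁅Cfsg.generalizedFittingSubgroup H, Q⁆) (F : Subgroup H) (hF : F ≤ Cfsg.generalizedFittingSubgroup H ∧ Cfsg.generalizedFittingSubgroup H ≤ Subgroup.normalizer (F : Set H) ∧ Q ≤ Subgroup.centralizer (F : Set H) ∧ ∀ N : Subgroup H, N ≤ Cfsg.generalizedFittingSubgroup H → Cfsg.generalizedFittingSubgroup H ≤ Subgroup.normalizer (N : Set H) → Q ≤ Subgroup.centralizer (N : Set H) → N ≤ F) : F = Cfsg.generalizedFittingSubgroup H ⊓ Subgroup.centralizer ((L ⊔ Q : Subgroup H) : Set H) ∧ ⁅L, Q⁆ = L ∧ L ⊓ F ≤ (frattini ↥L).map L.subtype ∧ (∀ B : Subgroup H, IsPGroup p ↥B → B ≤ Subgroup.normalizer (Q : Set H) → ⁅L, B⁆ ≤ F → ⁅L, B⁆ = ⊥) ∧ (Nat.card ↥(Subgroup.centralizer ((F ⊔ L : Subgroup H) : Set H))).Coprime p := by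
  classical
  obtain ⟨hFX, hXF, hQF, hmax⟩ := hF
  have hXn : (Cfsg.generalizedFittingSubgroup H).Normal := Cfsg.Agent.Lib.Helper30.genFitting_normal
  obtain ⟨hX1, hX2⟩ := genFitting_action hO hQ
  have hLL : ⁅L, Q⁆ = L := by rw [hL]; exact hX2.symm
  have hLX : L ≤ Cfsg.generalizedFittingSubgroup H := by
    rw [hL]; exact Subgroup.commutator_le_left _ _
  have hXL : Cfsg.generalizedFittingSubgroup H ≤ Subgroup.normalizer (L : Set H) := by
    rw [hL]; exact Subgroup.normalizer_commutator_ge_left _ _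
  have hQL : Q ≤ Subgroup.normalizer (L : Set H) := by
    rw [hL]; exact Subgroup.normalizer_commutator_ge_right _ _
  have hXLe : ⁅Cfsg.generalizedFittingSubgroup H, Q⁆ ≤ L := by rw [hL]
  have hFQ : F ≤ Subgroup.centralizer (Q : Set H) := Subgroup.le_centralizer_iff.mp hQF
  have hLF : L ≤ Subgroup.centralizer (F : Set H) := by
    rw [← Subgroup.commutator_eq_bot_iff_le_centralizer, hL]
    apply Subgroup.commutator_commutator_eq_bot_of_rotate
    · rw [Subgroup.commutator_eq_bot_iff_le_centralizer.mpr hQF]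
      exact Subgroup.commutator_bot_left _
    · rw [eq_bot_iff]
      calc ⁅⁅F, Cfsg.generalizedFittingSubgroup H⁆, Q⁆ ≤ ⁅F, Q⁆ :=
            Subgroup.commutator_mono (commutator_le_of_le_normalizer hXF) le_rfl
        _ = ⊥ := Subgroup.commutator_eq_bot_iff_le_centralizer.mpr hFQ
  have hFL : F ≤ Subgroup.centralizer (L : Set H) := Subgroup.le_centralizer_iff.mp hLF
  have hLsub : L.IsSubnormal :=
    .step L _ hLX hXn.isSubnormal (Subgroup.normal_subgroupOf_of_le_normalizer hXL)
  -- (i)
  have hi : F = Cfsg.generalizedFittingSubgroup H ⊓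
      Subgroup.centralizer ((L ⊔ Q : Subgroup H) : Set H) := by
    apply le_antisymm
    · exact le_inf hFX (Subgroup.le_centralizer_iff.mp (sup_le hLF hQF))
    · apply hmax _ inf_le_left
      · apply le_normalizer_of_conj_mem
        rintro x hx c ⟨hcX, hcC⟩
        refine ⟨hXn.conj_mem c hcX x, ?_⟩
        have hcL : c ∈ Subgroup.centralizer (L : Set H) :=
          Subgroup.centralizer_le (SetLike.coe_subset_coe.mpr (le_sup_left : L ≤ L ⊔ Q)) hcC
        have hcQ : c ∈ Subgroup.centralizer (Q : Set H) :=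
          Subgroup.centralizer_le (SetLike.coe_subset_coe.mpr (le_sup_right : Q ≤ L ⊔ Q)) hcC
        have hxcL : x * c * x⁻¹ ∈ Subgroup.centralizer (L : Set H) :=
          (Subgroup.mem_normalizer_iff.mp
            ((hXL.trans (normalizer_le_normalizer_centralizer' L)) hx) c).mp hcL
        have hxcQ : x * c * x⁻¹ ∈ Subgroup.centralizer (Q : Set H) := by
          rw [Subgroup.mem_centralizer_iff]
          intro q hq
          have h1 : ⁅q, x⁆ ∈ L := by
            rw [hL, Subgroup.commutator_comm]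
            exact Subgroup.commutator_mem_commutator hq hx
          have h2 := (Subgroup.mem_centralizer_iff.mp hxcL) _ h1
          have h3 := (Subgroup.mem_centralizer_iff.mp hcQ) q hq
          calc q * (x * c * x⁻¹) = (q * x * q⁻¹) * (q * c) * x⁻¹ := by group
            _ = (q * x * q⁻¹) * (c * q) * x⁻¹ := by rw [h3]
            _ = (⁅q, x⁆ * (x * c * x⁻¹)) * (x * q * x⁻¹) := by
                rw [commutatorElement_def]; group
            _ = ((x * c * x⁻¹) * ⁅q, x⁆) * (x * q * x⁻¹) := by rw [h2]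
            _ = (x * c * x⁻¹) * q := by rw [commutatorElement_def]; group
        exact mem_centralizer_sup hxcL hxcQ
      · exact Subgroup.le_centralizer_iff.mp (inf_le_right.trans
          (Subgroup.centralizer_le (SetLike.coe_subset_coe.mpr (le_sup_right : Q ≤ L ⊔ Q))))
  -- (iii)
  have hiii : L ⊓ F ≤ (frattini ↥L).map L.subtype := by
    apply central_le_frattini_of_commutator hQ hQL hLL.ge inf_le_left (inf_le_right.trans hFL)
      (inf_le_right.trans hFQ)
    intro d hd
    exact coprime_orderOf_of_mem_fitting hO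
      (subnormal_inf_centralizer_le_fitting hLsub ⟨hd.1, hFL hd.2⟩)
  -- (iv)
  have hiv : ∀ B : Subgroup H, IsPGroup p ↥B → B ≤ Subgroup.normalizer (Q : Set H) →
      ⁅L, B⁆ ≤ F → ⁅L, B⁆ = ⊥ := by
    intro B hB hBQ hLBF
    have hBL : B ≤ Subgroup.normalizer (L : Set H) := by
      rw [hL]
      exact le_normalizer_commutator (by rw [Subgroup.normalizer_eq_top]; exact le_top) hBQ
    have hBZ : B ≤ Subgroup.normalizer ((⁅L, B⁆ : Subgroup H) : Set H) :=
      Subgroup.normalizer_commutator_ge_right L B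
    have hQZ : Q ≤ Subgroup.normalizer ((⁅L, B⁆ : Subgroup H) : Set H) :=
      (Subgroup.le_centralizer_iff.mp (hLBF.trans hFQ)).trans (Subgroup.centralizer_le_normalizer _)
    obtain ⟨Bs, hBs⟩ : ∃ Bs : Subgroup H, Bs = (Q ⊔ B) ⊓ stabMod L ⁅L, B⁆ := ⟨_, rfl⟩
    have hQBp : IsPGroup p (Q ⊔ B : Subgroup H) := IsPGroup.to_sup_of_normal_left' hQ hB hBQ
    have hBsp : IsPGroup p Bs := hBs ▸ hQBp.to_le inf_le_left
    have hBBs : B ≤ Bs := by
      rw [hBs]
      exact le_inf le_sup_right
        (fun b hb => ⟨hBZ hb, fun x hx => Subgroup.commutator_mem_commutator hx hb⟩)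
    have hBsL : Bs ≤ Subgroup.normalizer (L : Set H) := hBs ▸ inf_le_left.trans (sup_le hQL hBL)
    have hQBs : Q ≤ Subgroup.normalizer (Bs : Set H) := by
      rw [hBs]
      exact (le_inf (le_sup_left.trans Subgroup.le_normalizer)
        (le_normalizer_stabMod hQL hQZ)).trans Subgroup.inf_normalizer_le_normalizer_inf
    have hZ1 : ⁅L, Bs⁆ ≤ ⁅L, B⁆ := by
      rw [Subgroup.commutator_le]
      intro x hx g hg
      rw [hBs] at hg
      exact hg.2.2 x hx
    obtain ⟨h1, -⟩ := subnormal_genFitting_action hO hLsub hLX hBsp hBsL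
    have hQC : Q ≤ Subgroup.normalizer
        ((L ⊓ Subgroup.centralizer (Bs : Set H) : Subgroup H) : Set H) :=
      (le_inf hQL (hQBs.trans (normalizer_le_normalizer_centralizer' Bs))).trans
        Subgroup.inf_normalizer_le_normalizer_inf
    have h2 : ⁅L, Q⁆ ≤ L ⊓ Subgroup.centralizer (Bs : Set H) := by
      rw [Subgroup.commutator_le]
      intro x hx q hq
      have hx' : x ∈ ⁅L, Bs⁆ ⊔ (L ⊓ Subgroup.centralizer (Bs : Set H)) := h1.symm ▸ hx
      obtain ⟨z, hz, c, hc, rfl⟩ := Cfsg.Agent.Lib.Helper30.mem_sup_of_commute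
        (A := ⁅L, Bs⁆) (B := L ⊓ Subgroup.centralizer (Bs : Set H)) (by
          intro a ha b hb
          exact ((Subgroup.mem_centralizer_iff.mp (hFL (hLBF (hZ1 ha)))) b hb.1).symm) hx'
      have hzF : z ∈ F := hLBF (hZ1 hz)
      have hcq : ⁅c, q⁆ ∈ L ⊓ Subgroup.centralizer (Bs : Set H) :=
        (commutator_le_of_le_normalizer hQC) (Subgroup.commutator_mem_commutator hc hq)
      have hzq : Commute q z := (Subgroup.mem_centralizer_iff.mp (hFQ hzF)) q hq
      have hzL : ∀ l ∈ L, l * z = z * l := Subgroup.mem_centralizer_iff.mp (hFL hzF)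
      have hzcq := hzL _ hcq.1
      have hzq' : q * z⁻¹ * q⁻¹ = z⁻¹ := by
        rw [(Commute.inv_right hzq).eq, mul_inv_cancel_right]
      have e : ⁅z * c, q⁆ = ⁅c, q⁆ := by
        calc ⁅z * c, q⁆ = z * (c * q * c⁻¹ * q⁻¹) * (q * z⁻¹ * q⁻¹) := by
              rw [commutatorElement_def]; group
          _ = z * ⁅c, q⁆ * z⁻¹ := by rw [hzq', commutatorElement_def]
          _ = ⁅c, q⁆ := by rw [← hzcq]; group
      rw [e]
      exact hcq
    have h3 : L ≤ Subgroup.centralizer (Bs : Set H) := hLL.ge.trans (h2.trans inf_le_right)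
    rw [Subgroup.commutator_eq_bot_iff_le_centralizer]
    exact h3.trans (Subgroup.centralizer_le hBBs)
  -- (v)
  have hv : (Nat.card ↥(Subgroup.centralizer ((F ⊔ L : Subgroup H) : Set H))).Coprime p := by
    obtain ⟨P, hP⟩ := exists_sylIn (p := p) (Subgroup.centralizer ((F ⊔ L : Subgroup H) : Set H))
    have hPF : P ≤ Subgroup.centralizer (F : Set H) := hP.le.trans
      (Subgroup.centralizer_le (SetLike.coe_subset_coe.mpr (le_sup_left : F ≤ F ⊔ L)))
    have hPL : P ≤ Subgroup.centralizer (L : Set H) := hP.le.trans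
      (Subgroup.centralizer_le (SetLike.coe_subset_coe.mpr (le_sup_right : L ≤ F ⊔ L)))
    have hDsub : (Cfsg.generalizedFittingSubgroup H ⊓
        Subgroup.centralizer (L : Set H)).IsSubnormal :=
      .step _ _ inf_le_left hXn.isSubnormal (Subgroup.normal_subgroupOf_of_le_normalizer
        ((le_inf Subgroup.le_normalizer (hXL.trans (normalizer_le_normalizer_centralizer' L))).trans
          Subgroup.inf_normalizer_le_normalizer_inf))
    have hQD : Q ≤ Subgroup.normalizer ((Cfsg.generalizedFittingSubgroup H ⊓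
        Subgroup.centralizer (L : Set H) : Subgroup H) : Set H) :=
      (le_inf (by rw [Subgroup.normalizer_eq_top]; exact le_top)
        (hQL.trans (normalizer_le_normalizer_centralizer' L))).trans
          Subgroup.inf_normalizer_le_normalizer_inf
    obtain ⟨h1, -⟩ := subnormal_genFitting_action hO hDsub inf_le_left hQ hQD
    have hDP : Cfsg.generalizedFittingSubgroup H ⊓ Subgroup.centralizer (L : Set H) ≤
        Subgroup.centralizer (P : Set H) := by
      rw [← h1]
      refine sup_le ?_ ?_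
      · exact (Subgroup.commutator_mono inf_le_left le_rfl).trans
          (hXLe.trans (Subgroup.le_centralizer_iff.mp hPL))
      · refine le_trans ?_ (Subgroup.le_centralizer_iff.mp hPF)
        rw [hi]
        intro c hc
        exact ⟨hc.1.1, mem_centralizer_sup hc.1.2 hc.2⟩
    have hPp := hP.isPGroup
    obtain ⟨-, hM2⟩ := genFitting_action hO hPp
    have hM : ⁅Cfsg.generalizedFittingSubgroup H, P⁆ ≤
        Cfsg.generalizedFittingSubgroup H ⊓ Subgroup.centralizer (L : Set H) := by
      refine le_inf (Subgroup.commutator_le_left _ _) ?_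
      rw [← Subgroup.commutator_eq_bot_iff_le_centralizer]
      apply Subgroup.commutator_commutator_eq_bot_of_rotate
      · rw [Subgroup.commutator_eq_bot_iff_le_centralizer.mpr hPL]
        exact Subgroup.commutator_bot_left _
      · rw [eq_bot_iff]
        calc ⁅⁅L, Cfsg.generalizedFittingSubgroup H⁆, P⁆ ≤ ⁅L, P⁆ :=
              Subgroup.commutator_mono (commutator_le_of_le_normalizer hXL) le_rfl
          _ = ⊥ := Subgroup.commutator_eq_bot_iff_le_centralizer.mpr
              (Subgroup.le_centralizer_iff.mp hPL)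
    have hXP : ⁅Cfsg.generalizedFittingSubgroup H, P⁆ = ⊥ := by
      rw [hM2, Subgroup.commutator_eq_bot_iff_le_centralizer]
      exact hM.trans hDP
    have hPbot : P = ⊥ := pgroup_centralizing_genFitting hO hPp (by
      rw [Subgroup.commutator_comm, Subgroup.commutator_eq_bot_iff_le_centralizer] at hXP
      exact hXP)
    have h2 := hP.2.2
    rw [hPbot, Subgroup.relIndex_bot_left] at h2
    exact ((Nat.Prime.coprime_iff_not_dvd (Fact.out : p.Prime)).mpr h2).symm
  exact ⟨hi, hLL, hiii, hiv, hv⟩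

end Cfsg.Agent.S2817
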