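import Cfsg.Statements.S2818
import Cfsg.Agent.Lib.Helper55.Frat

set_option autoImplicit false
open Cfsg

namespace Cfsg.Agent.S2818

open Cfsg.Agent.Lib.Helper55
open scoped commutatorElement IsMulCommutative

/-- Let P be a finite p-subgroup of a group G and H a subgroup of N_G(P) with [P, H] ≤ Ω₁(Z(P)) (the elements of order dividing p in the centre of P). Then H centralizes the Frattini subgroup of P. -/
theorem result {G : Type*} [Group G] [Finite G] {p : ℕ} [Fact p.Prime] (P : Subgroup G) (hP : IsPGroup p ↥P) (H : Subgroup G) (hH : H ≤ Subgroup.normalizer (P : Set G)) (h : ⁅P, H⁆ ≤ Cfsg.omegaOne p (P ⊓ Subgroup.centralizer (P : Set G))) : ⁅(frattini ↥P).map P.subtype, H⁆ = ⊥ := by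
  classical
  rw [eq_bot_iff, Subgroup.commutator_le]
  rintro _ ⟨x, hx, rfl⟩ g hg
  rw [Subgroup.mem_bot]
  have hZ := (elemAb_iff _).mp (omegaOne_center_elemAb (p := p) P)
  have hc : ∀ a : P, ⁅(a : G), g⁆ ∈ Cfsg.omegaOne p (P ⊓ Subgroup.centralizer (P : Set G)) :=
    fun a => h (Subgroup.commutator_mem_commutator a.2 hg)
  have hcP : ∀ a : P, ⁅(a : G), g⁆ ∈ P := fun a => (omegaOne_le _ (hc a)).1
  have hcC : ∀ a : P, ∀ b : P, (b : G) * ⁅(a : G), g⁆ = ⁅(a : G), g⁆ * b :=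
    fun a b => Subgroup.mem_centralizer_iff.mp (omegaOne_le _ (hc a)).2 b b.2
  obtain ⟨φ, hφd⟩ : ∃ φ : P →* Subgroup.center P, ∀ a : P, ((φ a : P) : G) = ⁅(a : G), g⁆ :=
    ⟨{ toFun := fun a => ⟨⟨⁅(a : G), g⁆, hcP a⟩,
        Subgroup.mem_center_iff.mpr (fun b => Subtype.ext (hcC a b))⟩
       map_one' := by
        apply Subtype.ext; apply Subtype.ext; simp
       map_mul' := by
        intro a b
        apply Subtype.ext; apply Subtype.ext
        show ⁅(a : G) * b, g⁆ = ⁅(a : G), g⁆ * ⁅(b : G), g⁆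
        have e : ⁅(a : G) * b, g⁆ = (a : G) * ⁅(b : G), g⁆ * (a : G)⁻¹ * ⁅(a : G), g⁆ := by
          simp only [commutatorElement_def]; group
        rw [e, hcC b a, mul_inv_cancel_right]
        exact hZ.1 _ (hc b) _ (hc a) }, fun a => rfl⟩
  have hφ : ∀ a : P, φ a ^ p = 1 := by
    intro a
    apply Subtype.ext; apply Subtype.ext
    rw [Subgroup.coe_pow, Subgroup.coe_pow, hφd]
    exact hZ.2 _ (hc a)
  have hker : frattini ↥P ≤ φ.ker := frattini_le_ker (p := p) φ hφ
  have h1 := hker hx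
  rw [MonoidHom.mem_ker] at h1
  have h2 := hφd x
  rw [h1] at h2
  exact h2.symm

end Cfsg.Agent.S2818
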