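import Cfsg.Statements.S2819
import Cfsg.Agent.Lib.Helper55.Frat

set_option autoImplicit false
open Cfsg

namespace Cfsg.Agent.S2819

open Cfsg.Agent.Lib.Helper55
open scoped commutatorElement

/-- Let P be a finite p-subgroup of a group G, H a subgroup of N_G(P), and Y a subgroup of H centralizing the derived subgroup P' such that [P, Y] is elementary abelian. Then O^p(⟨Y^H⟩), the subgroup of the normal closure of Y in H generated by its elements of order prime to p, centralizes the Frattini subgroup of P. -/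
theorem result {G : Type*} [Group G] [Finite G] {p : ℕ} [Fact p.Prime] (P : Subgroup G) (hP : IsPGroup p ↥P) (H : Subgroup G) (hH : H ≤ Subgroup.normalizer (P : Set G)) (Y : Subgroup G) (hYH : Y ≤ H) (hYc : Y ≤ Subgroup.centralizer ((⁅P, P⁆ : Subgroup G) : Set G)) (hel : Cfsg.IsElementaryAbelian p ⁅P, Y⁆) (NY : Subgroup G) (hNY : NY = (Subgroup.normalClosure ((Y.subgroupOf H : Subgroup ↥H) : Set ↥H)).map H.subtype) : (Cfsg.pResidual p ↥NY).map NY.subtype ≤ Subgroup.centralizer (((frattini ↥P).map P.subtype : Subgroup G) : Set G) := by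
  classical
  have hHD : H ≤ Subgroup.normalizer ((⁅P, P⁆ : Subgroup G) : Set G) := le_normalizer_commutator_self hH
  have hHF : H ≤ Subgroup.normalizer (((frattini ↥P).map P.subtype : Subgroup G) : Set G) :=
    le_normalizer_frattini hH
  have hDP : ⁅P, P⁆ ≤ P := Subgroup.commutator_le.mpr
    (fun a ha b hb => P.mul_mem (P.mul_mem (P.mul_mem ha hb) (P.inv_mem ha)) (P.inv_mem hb))
  have hAel := (elemAb_iff _).mp hel
  -- Y acts trivially on Φ(P) modulo P'
  have hYstab : Y ≤ stabMod ((frattini ↥P).map P.subtype) ⁅P, P⁆ := by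
    intro y hy
    refine ⟨hHD (hYH hy), ?_⟩
    have hyN := hH (hYH hy)
    have hcP : ∀ a : P, ⁅(a : G), y⁆ ∈ P := by
      intro a
      have h1 : y * (a : G)⁻¹ * y⁻¹ ∈ P := (Subgroup.mem_normalizer_iff.mp hyN _).mp (P.inv_mem a.2)
      have e : ⁅(a : G), y⁆ = (a : G) * (y * (a : G)⁻¹ * y⁻¹) := by
        simp only [commutatorElement_def]; group
      rw [e]
      exact P.mul_mem a.2 h1
    obtain ⟨φ, hφd⟩ : ∃ φ : P →* Abelianization P, ∀ a : P,
        φ a = Abelianization.of ⟨⁅(a : G), y⁆, hcP a⟩ :=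
      ⟨{ toFun := fun a => Abelianization.of ⟨⁅(a : G), y⁆, hcP a⟩
         map_one' := by
          have e : (⟨⁅((1 : P) : G), y⁆, hcP 1⟩ : P) = 1 := by
            apply Subtype.ext; simp
          rw [e, map_one]
         map_mul' := by
          intro a b
          have e : (⟨⁅((a * b : P) : G), y⁆, hcP (a * b)⟩ : P) =
              a * ⟨⁅(b : G), y⁆, hcP b⟩ * a⁻¹ * ⟨⁅(a : G), y⁆, hcP a⟩ := by
            apply Subtype.ext
            show ⁅(a : G) * b, y⁆ = (a : G) * ⁅(b : G), y⁆ * (a : G)⁻¹ * ⁅(a : G), y⁆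
            simp only [commutatorElement_def]; group
          rw [e, map_mul, map_mul, map_mul, map_inv, mul_comm (Abelianization.of a) _,
            mul_inv_cancel_right, mul_comm] }, fun a => rfl⟩
    have hφ : ∀ a : P, φ a ^ p = 1 := by
      intro a
      rw [hφd, ← map_pow]
      have e : (⟨⁅(a : G), y⁆, hcP a⟩ : P) ^ p = 1 := by
        apply Subtype.ext
        rw [Subgroup.coe_pow]
        exact hAel.2 _ (Subgroup.commutator_mem_commutator a.2 hy)
      rw [e, map_one]
    have hker : frattini ↥P ≤ φ.ker := frattini_le_ker (p := p) φ hφ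
    rintro _ ⟨x, hx, rfl⟩
    have h1 := hker hx
    rw [MonoidHom.mem_ker, hφd, ← MonoidHom.mem_ker, Abelianization.ker_of] at h1
    rw [← map_subtype_commutator_top]
    exact ⟨_, h1, rfl⟩
  have hYX : Y ≤ stabMod ((frattini ↥P).map P.subtype) ⁅P, P⁆ ⊓
      Subgroup.centralizer ((⁅P, P⁆ : Subgroup G) : Set G) := le_inf hYstab hYc
  have hHX : H ≤ Subgroup.normalizer ((stabMod ((frattini ↥P).map P.subtype) ⁅P, P⁆ ⊓
      Subgroup.centralizer ((⁅P, P⁆ : Subgroup G) : Set G) : Subgroup G) : Set G) :=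
    (le_inf (le_normalizer_stabMod hHF hHD) (hHD.trans (normalizer_le_normalizer_centralizer' _))).trans
      Subgroup.inf_normalizer_le_normalizer_inf
  have hNYX : NY ≤ stabMod ((frattini ↥P).map P.subtype) ⁅P, P⁆ ⊓
      Subgroup.centralizer ((⁅P, P⁆ : Subgroup G) : Set G) := by
    rw [hNY]
    exact normalClosure_map_le hYX hHX
  rw [Subgroup.map_le_iff_le_comap]
  show Subgroup.closure _ ≤ _
  rw [Subgroup.closure_le]
  intro g hg
  have hg' : (orderOf (g : G)).Coprime p := by
    rw [Subgroup.orderOf_coe]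
    exact hg
  have hgX := hNYX g.2
  have hginv : (g : G)⁻¹ ∈ stabMod ((frattini ↥P).map P.subtype) ⁅P, P⁆ :=
    Subgroup.inv_mem _ hgX.1
  have hFP : (frattini ↥P).map P.subtype ≤ P := Subgroup.map_subtype_le _
  have key := commute_of_stable_chain (p := p) hg'
    (fun i => {b : G | (i = 0 → b ∈ (frattini ↥P).map P.subtype) ∧ (i = 1 → b ∈ ⁅P, P⁆) ∧
      (2 ≤ i → b = 1)}) 2
    (fun b hb => hb.2.2 le_rfl)
    (by
      intro i hi b hb
      have hi' : i = 0 ∨ i = 1 := by omega
      rcases hi' with rfl | rfl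
      · refine ⟨by omega, fun _ => ?_, by omega⟩
        have h1 := hginv.2 b⁻¹ (Subgroup.inv_mem _ (hb.1 rfl))
        have e : ⁅b⁻¹, (g : G)⁻¹⁆ = b⁻¹ * (g : G)⁻¹ * b * g := by
          simp only [commutatorElement_def]; group
        rwa [e] at h1
      · refine ⟨by omega, by omega, fun _ => ?_⟩
        have h1 := Subgroup.mem_centralizer_iff.mp hgX.2 b (hb.2.1 rfl)
        calc b⁻¹ * (g : G)⁻¹ * b * g = b⁻¹ * (g : G)⁻¹ * (b * g) := by group
          _ = b⁻¹ * (g : G)⁻¹ * (g * b) := by rw [h1]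
          _ = 1 := by group)
    (by
      intro i b hb
      rcases Nat.lt_or_ge i 2 with hi | hi
      · have hi' : i = 0 ∨ i = 1 := by omega
        rcases hi' with rfl | rfl
        · exact pel_of_mem hP (hFP (hb.1 rfl))
        · exact pel_of_mem hP (hDP (hb.2.1 rfl))
      · exact ⟨0, by rw [hb.2.2 hi]; simp⟩)
  rw [SetLike.mem_coe, Subgroup.mem_comap, Subgroup.mem_centralizer_iff]
  intro b hb
  exact (key b ⟨fun _ => hb, by omega, by omega⟩).symm

end Cfsg.Agent.S2819
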