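import Cfsg.Statements.S2820
import Cfsg.Agent.Lib.Helper55.Subn

set_option autoImplicit false
open Cfsg

namespace Cfsg.Agent.S2820

open Cfsg.Agent.Lib.Helper55
open scoped commutatorElement

/-- Let A and B be subnormal subgroups of the finite group H with A a p-group and B = O^p(B) (B generated by its elements of order prime to p). Then A normalizes B and B = O^p(AB), the subgroup of ⟨A, B⟩ generated by its elements of order prime to p. -/
theorem result {H : Type*} [Group H] [Finite H] {p : ℕ} [Fact p.Prime] (A B : Subgroup H) (hA : A.IsSubnormal) (hB : B.IsSubnormal) (hAp : IsPGroup p ↥A) (hBres : (Cfsg.pResidual p ↥B).map B.subtype = B) : A ≤ Subgroup.normalizer (B : Set H) ∧ (Cfsg.pResidual p ↥(A ⊔ B)).map (A ⊔ B).subtype = B := by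
  classical
  have hAQ : A ≤ Cfsg.pCore p H := subnormal_pgroup_le_pCore hA hAp
  have hQn : (Cfsg.pCore p H).Normal := Cfsg.Agent.Lib.Helper55.pCore_normal
  have hQp : IsPGroup p (Cfsg.pCore p H) := Cfsg.Agent.Lib.Helper55.pCore_isPGroup
  refine ⟨hAQ.trans (subnormal_residual_normalized hQp hB hBres), ?_⟩
  apply le_antisymm
  · have h1 := map_subtype_pResidual_mono (p := p) (sup_le_sup_right hAQ B)
    rw [subnormal_residual_sup hQp hB hBres] at h1
    exact h1
  · conv_lhs => rw [← hBres]
    exact map_subtype_pResidual_mono le_sup_right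

end Cfsg.Agent.S2820
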