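import Cfsg.Statements.S2823
import Cfsg.Agent.Lib.Helper55.Norm

set_option autoImplicit false
open Cfsg

namespace Cfsg.Agent.S2823

open Cfsg.Agent.Lib.Helper55
open scoped commutatorElement

/-- Let H be a finite group, p a prime, T a Sylow p-subgroup and L a subgroup of characteristic p containing T; let Z_L be the subgroup generated by the Ω₁(Z(S)) over the Sylow p-subgroups S of L and O^p(L) the subgroup generated by the elements of L of order prime to p. Then Z_L = Ω₁(Z(L))·[Z_L, O^p(L)] and [Z_L, L] = [Z_L, O^p(L)]. -/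
theorem result {H : Type*} [Group H] [Finite H] {p : ℕ} [Fact p.Prime] (T : Sylow p H) (L : Subgroup H) (hTL : (T : Subgroup H) ≤ L) (hL : Subgroup.centralizer (Cfsg.pCore p ↥L : Set ↥L) ≤ Cfsg.pCore p ↥L) : Cfsg.sylowCenterClosure p L = (Cfsg.omegaOne p (L ⊓ Subgroup.centralizer ((L : Subgroup H) : Set H))) ⊔ ⁅Cfsg.sylowCenterClosure p L, (Cfsg.pResidual p ↥L).map L.subtype⁆ ∧ ⁅Cfsg.sylowCenterClosure p L, L⁆ = ⁅Cfsg.sylowCenterClosure p L, (Cfsg.pResidual p ↥L).map L.subtype⁆ := by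
  classical
  have hchar := (charP_iff L).mp hL
  have hTs := sylIn_of_sylow T hTL
  have hZL := pred_sylowCenterClosure (p := p) hchar
  have hZab := (elemAb_iff _).mp hZL.elemAb
  have hRL : (Cfsg.pResidual p ↥L).map L.subtype ≤ L := Subgroup.map_subtype_le _
  have hLR : L ≤ Subgroup.normalizer (((Cfsg.pResidual p ↥L).map L.subtype : Subgroup H) : Set H) :=
    (normal_iff_le_normalizer_map L _).mp pResidual_normal
  have hfac := hTs.exists_residual_mul
  have hconjZ : ∀ l ∈ L, ∀ z ∈ Cfsg.sylowCenterClosure p L, l * z * l⁻¹ ∈ Cfsg.sylowCenterClosure p L :=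
    fun l hl z hz => (Subgroup.mem_normalizer_iff.mp (hZL.le_normalizer hl) z).mp hz
  have hWZ : ⁅Cfsg.sylowCenterClosure p L, (Cfsg.pResidual p ↥L).map L.subtype⁆ ≤ Cfsg.sylowCenterClosure p L := by
    rw [Subgroup.commutator_le]
    intro z hz r hr
    rw [commutatorElement_def]
    have h1 := hconjZ r (hRL hr) z⁻¹ (Subgroup.inv_mem _ hz)
    have h2 := Subgroup.mul_mem _ hz h1
    have e : z * (r * z⁻¹ * r⁻¹) = z * r * z⁻¹ * r⁻¹ := by group
    rwa [e] at h2
  have hLW : L ≤ Subgroup.normalizer ((⁅Cfsg.sylowCenterClosure p L, (Cfsg.pResidual p ↥L).map L.subtype⁆ : Subgroup H) : Set H) := by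
    intro l hl
    apply mem_normalizer_of_cj_eq
    show Subgroup.map (MulAut.conj l).toMonoidHom ⁅Cfsg.sylowCenterClosure p L, (Cfsg.pResidual p ↥L).map L.subtype⁆ = _
    rw [Subgroup.map_commutator]
    have e1 : Subgroup.map (MulAut.conj l).toMonoidHom (Cfsg.sylowCenterClosure p L) = Cfsg.sylowCenterClosure p L :=
      cj_eq_self_of_mem_normalizer (hZL.le_normalizer hl)
    have e2 : Subgroup.map (MulAut.conj l).toMonoidHom ((Cfsg.pResidual p ↥L).map L.subtype) = (Cfsg.pResidual p ↥L).map L.subtype :=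
      cj_eq_self_of_mem_normalizer (hLR hl)
    rw [e1, e2]
  have hconjW : ∀ l ∈ L, ∀ w ∈ ⁅Cfsg.sylowCenterClosure p L, (Cfsg.pResidual p ↥L).map L.subtype⁆,
      l * w * l⁻¹ ∈ ⁅Cfsg.sylowCenterClosure p L, (Cfsg.pResidual p ↥L).map L.subtype⁆ :=
    fun l hl w hw => (Subgroup.mem_normalizer_iff.mp (hLW hl) w).mp hw
  -- generators of Z_L are R-conjugates of elements of Ω₁Z(T)
  have hgen : ∀ P, SylIn p P L → ∀ x ∈ P ⊓ Subgroup.centralizer (P : Set H), x ^ p = 1 →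
      ∃ r ∈ (Cfsg.pResidual p ↥L).map L.subtype, ∃ y ∈ (T : Subgroup H) ⊓ Subgroup.centralizer ((T : Subgroup H) : Set H),
        y ^ p = 1 ∧ x = r * y * r⁻¹ := by
    intro P hP x hx hxp
    obtain ⟨l, hl, e⟩ := hTs.conj hP
    obtain ⟨r, hr, hrt⟩ := hfac l hl
    have e2 : P = cj r (T : Subgroup H) := by
      have : l = r * (r⁻¹ * l) := by group
      rw [e, this, cj_mul, cj_eq_self_of_mem_normalizer (Subgroup.le_normalizer hrt)]
    subst e2
    refine ⟨r, hr, r⁻¹ * x * r, Subgroup.mem_inf.mpr ⟨mem_cj.mp hx.1, ?_⟩, ?_, by group⟩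
    · rw [Subgroup.mem_centralizer_iff]
      intro t ht
      have ht' : r * t * r⁻¹ ∈ cj r (T : Subgroup H) := by
        rw [mem_cj]
        have e' : r⁻¹ * (r * t * r⁻¹) * r = t := by group
        rw [e']
        exact ht
      have hc := Subgroup.mem_centralizer_iff.mp hx.2 _ ht'
      calc t * (r⁻¹ * x * r) = r⁻¹ * ((r * t * r⁻¹) * x) * r := by group
        _ = r⁻¹ * (x * (r * t * r⁻¹)) * r := by rw [hc]
        _ = r⁻¹ * x * r * t := by group
    · have := conj_pow (a := r⁻¹) (b := x) (i := p)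
      rw [inv_inv] at this
      rw [this, hxp]
      group
  -- averaging
  have hdec : ∀ y ∈ (T : Subgroup H) ⊓ Subgroup.centralizer ((T : Subgroup H) : Set H), y ^ p = 1 →
      ∃ c ∈ L ⊓ Subgroup.centralizer ((L : Subgroup H) : Set H), c ^ p = 1 ∧
        ∃ b ∈ ⁅Cfsg.sylowCenterClosure p L, (Cfsg.pResidual p ↥L).map L.subtype⁆, y = c * b := by
    intro y hy hyp
    have hyZ : y ∈ Cfsg.sylowCenterClosure p L := zOf_le_sylowCenterClosure hTs (mem_omegaOne hy hyp)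
    have hyL : y ∈ L := hTL hy.1
    have hn : ((Cfsg.sylowCenterClosure p L).subgroupOf L).Normal :=
      (Subgroup.normal_subgroupOf_iff_le_normalizer hZL.le).mpr hZL.le_normalizer
    obtain ⟨c, hcA, hcc, b, hb, e⟩ := exists_central_mul (G := ↥L) (p := p)
      ((Cfsg.sylowCenterClosure p L).subgroupOf L) ((T : Subgroup H).subgroupOf L)
      (Cfsg.pResidual p ↥L)
      ((⁅Cfsg.sylowCenterClosure p L, (Cfsg.pResidual p ↥L).map L.subtype⁆ : Subgroup H).subgroupOf L)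
      (fun a ha b hb => Subtype.ext (hZab.1 a ha b hb))
      (fun a ha => Subtype.ext (by simpa using hZab.2 a ha))
      (fun g => by
        obtain ⟨r, ⟨r', hr', rfl⟩, hrt⟩ := hfac g g.2
        exact ⟨r', hr', hrt⟩)
      hTs.2.2 ⟨y, hyL⟩ hyZ
      (fun t ht => Subtype.ext (Subgroup.mem_centralizer_iff.mp hy.2 t ht))
      (fun r hr => by
        rw [Subgroup.mem_subgroupOf]
        show (r : H) * y * (r : H)⁻¹ * y⁻¹ ∈ _
        rw [Subgroup.commutator_comm]
        exact Subgroup.commutator_mem_commutator ⟨r, hr, rfl⟩ hyZ)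
    refine ⟨c, Subgroup.mem_inf.mpr ⟨c.2, ?_⟩, hZab.2 c hcA, b, hb, ?_⟩
    · rw [Subgroup.mem_centralizer_iff]
      intro l hl
      exact congrArg Subtype.val (hcc ⟨l, hl⟩)
    · exact congrArg Subtype.val e
  have hOZ : Cfsg.omegaOne p (L ⊓ Subgroup.centralizer ((L : Subgroup H) : Set H)) ≤ Cfsg.sylowCenterClosure p L := by
    rw [omegaOne_le_iff]
    intro c hc hcp
    have hcT : c ∈ (T : Subgroup H) := hTs.mem_of_centralized hc.1
      (fun t ht => Subgroup.mem_centralizer_iff.mp hc.2 t (hTL ht)) hcp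
    refine zOf_le_sylowCenterClosure hTs (mem_omegaOne (Subgroup.mem_inf.mpr ⟨hcT, ?_⟩) hcp)
    rw [Subgroup.mem_centralizer_iff]
    exact fun t ht => Subgroup.mem_centralizer_iff.mp hc.2 t (hTL ht)
  have hmain : Cfsg.sylowCenterClosure p L ≤ (Cfsg.omegaOne p (L ⊓ Subgroup.centralizer ((L : Subgroup H) : Set H))) ⊔
      ⁅Cfsg.sylowCenterClosure p L, (Cfsg.pResidual p ↥L).map L.subtype⁆ := by
    rw [sylowCenterClosure_le_iff]
    intro P hP
    rw [omegaOne_le_iff]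
    intro x hx hxp
    obtain ⟨r, hr, y, hy, hyp, rfl⟩ := hgen P hP x hx hxp
    obtain ⟨c, hc, hcp, b, hb, rfl⟩ := hdec y hy hyp
    have hrc : r * c = c * r := Subgroup.mem_centralizer_iff.mp hc.2 r (hRL hr)
    have e : r * (c * b) * r⁻¹ = c * (r * b * r⁻¹) := by
      rw [← mul_assoc, hrc]
      group
    rw [e]
    exact Subgroup.mul_mem_sup (mem_omegaOne hc hcp) (hconjW r (hRL hr) b hb)
  refine ⟨le_antisymm hmain (sup_le hOZ hWZ), le_antisymm ?_ (Subgroup.commutator_mono le_rfl hRL)⟩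
  rw [Subgroup.commutator_le]
  intro z hz l hl
  have hz' : z ∈ (((Cfsg.omegaOne p (L ⊓ Subgroup.centralizer ((L : Subgroup H) : Set H))) ⊔
      ⁅Cfsg.sylowCenterClosure p L, (Cfsg.pResidual p ↥L).map L.subtype⁆ : Subgroup H) : Set H) := hmain hz
  have hOL : Cfsg.omegaOne p (L ⊓ Subgroup.centralizer ((L : Subgroup H) : Set H)) ≤ L ⊓ Subgroup.centralizer ((L : Subgroup H) : Set H) :=
    omegaOne_le _
  rw [Subgroup.coe_mul_of_left_le_normalizer_right _ _ ((hOL.trans inf_le_left).trans hLW)] at hz'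
  obtain ⟨c, hc, w, hw, rfl⟩ := Set.mem_mul.mp hz'
  have hcL : ∀ x ∈ L, x * c = c * x := fun x hx => Subgroup.mem_centralizer_iff.mp (hOL hc).2 x hx
  have hwL : w ∈ L := hZL.le (hWZ hw)
  have e : ⁅c * w, l⁆ = w * (l * w⁻¹ * l⁻¹) := by
    rw [commutatorElement_def]
    have h1 : (c * w)⁻¹ = w⁻¹ * c⁻¹ := by group
    have h2 : c⁻¹ * l⁻¹ = l⁻¹ * c⁻¹ := by
      have := hcL l hl
      calc c⁻¹ * l⁻¹ = (l * c)⁻¹ := by group
        _ = (c * l)⁻¹ := by rw [this]
        _ = l⁻¹ * c⁻¹ := by group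
    have h3 : c * (w * l * w⁻¹ * l⁻¹) = (w * l * w⁻¹ * l⁻¹) * c :=
      (hcL _ (L.mul_mem (L.mul_mem (L.mul_mem hwL hl) (L.inv_mem hwL)) (L.inv_mem hl))).symm
    calc c * w * l * (c * w)⁻¹ * l⁻¹ = c * w * l * w⁻¹ * (c⁻¹ * l⁻¹) := by rw [h1]; group
      _ = c * (w * l * w⁻¹ * l⁻¹) * c⁻¹ := by rw [h2]; group
      _ = w * (l * w⁻¹ * l⁻¹) := by rw [h3]; group
  rw [e]
  exact Subgroup.mul_mem _ hw (hconjW l hl w⁻¹ (Subgroup.inv_mem _ hw))

end Cfsg.Agent.S2823
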