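import Cfsg.Statements.S2824
import Cfsg.Agent.Lib.Helper55.Largest

set_option autoImplicit false
open Cfsg

namespace Cfsg.Agent.S2824

open Cfsg.Agent.Lib.Helper55

theorem result {H : Type*} [Group H] [Finite H] {p : ℕ} [Fact p.Prime] (T : Sylow p H) (L M : Subgroup H) (hTL : (T : Subgroup H) ≤ L) (hTM : (T : Subgroup H) ≤ M) (hL : Subgroup.centralizer (Cfsg.pCore p ↥L : Set ↥L) ≤ Cfsg.pCore p ↥L) (hM : Subgroup.centralizer (Cfsg.pCore p ↥M : Set ↥M) ≤ Cfsg.pCore p ↥M) (T₀ : Subgroup H) (hT₀ : T₀ = (T : Subgroup H) ⊓ Subgroup.centralizer (((Cfsg.largestPReducedOf p L) : Subgroup H) : Set H)) (hfac : M ⊔ Subgroup.centralizer (((Cfsg.largestPReducedOf p L) : Subgroup H) : Set H) = L ⊔ Subgroup.centralizer (((Cfsg.largestPReducedOf p L) : Subgroup H) : Set H)) (Ls : Subgroup H) (hLs : Ls = M ⊓ Subgroup.normalizer ((T₀ : Subgroup H) : Set H)) : (Cfsg.largestPReducedOf p Ls) = (Cfsg.largestPReducedOf p L) ∧ L ⊔ Subgroup.centralizer (((Cfsg.largestPReducedOf p L) : Subgroup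 H) : Set H) = Ls ⊔ Subgroup.centralizer (((Cfsg.largestPReducedOf p L) : Subgroup H) : Set H) := by
  subst hT₀ hLs
  have hYL := pred_largestPReducedOf (p := p) L
  have hTs := sylIn_of_sylow T hTL
  have hYT : Cfsg.largestPReducedOf p L ≤ (T : Subgroup H) := hYL.le_pCoreOf.trans (pCoreOf_le_sylow T hTL)
  have hYM : PRed p M (Cfsg.largestPReducedOf p L) := hYL.of_sup_eq (hYT.trans hTM) hfac
  have hNC := normalizer_le_normalizer_centralizer' (Cfsg.largestPReducedOf p L)
  -- Frattini in M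
  have hMC : M ≤ Subgroup.normalizer ((M ⊓ Subgroup.centralizer ((Cfsg.largestPReducedOf p L : Subgroup H) : Set H) : Subgroup H) : Set H) :=
    (le_inf Subgroup.le_normalizer (hYM.le_normalizer.trans hNC)).trans
      Subgroup.inf_normalizer_le_normalizer_inf
  have hTeq : (M ⊓ Subgroup.centralizer ((Cfsg.largestPReducedOf p L : Subgroup H) : Set H)) ⊓ (T : Subgroup H)
      = (T : Subgroup H) ⊓ Subgroup.centralizer ((Cfsg.largestPReducedOf p L : Subgroup H) : Set H) := by
    rw [inf_comm, ← inf_assoc, inf_of_le_left hTM]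
  have hSyl : SylIn p ((T : Subgroup H) ⊓ Subgroup.centralizer ((Cfsg.largestPReducedOf p L : Subgroup H) : Set H))
      (M ⊓ Subgroup.centralizer ((Cfsg.largestPReducedOf p L : Subgroup H) : Set H)) := by
    have := (sylIn_of_sylow T hTM).inf_normalized
      (D := M ⊓ Subgroup.centralizer ((Cfsg.largestPReducedOf p L : Subgroup H) : Set H)) inf_le_left hMC
    rwa [hTeq] at this
  have hfr := hSyl.frattini inf_le_left hMC
  have hsup : M ⊔ Subgroup.centralizer ((Cfsg.largestPReducedOf p L : Subgroup H) : Set H) =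
      (M ⊓ Subgroup.normalizer (((T : Subgroup H) ⊓ Subgroup.centralizer ((Cfsg.largestPReducedOf p L : Subgroup H) : Set H) : Subgroup H) : Set H)) ⊔
        Subgroup.centralizer ((Cfsg.largestPReducedOf p L : Subgroup H) : Set H) := by
    apply le_antisymm
    · apply sup_le _ le_sup_right
      intro g hg
      obtain ⟨a, ha, c, hc, rfl⟩ := hfr g hg
      exact Subgroup.mul_mem _ (Subgroup.mem_sup_left ha) (Subgroup.mem_sup_right hc.2)
    · exact sup_le_sup_right inf_le_left _
  have hT₀T : (T : Subgroup H) ⊓ Subgroup.centralizer ((Cfsg.largestPReducedOf p L : Subgroup H) : Set H) ≤ (T : Subgroup H) := inf_le_left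
  have hTN : (T : Subgroup H) ≤ Subgroup.normalizer (((T : Subgroup H) ⊓ Subgroup.centralizer ((Cfsg.largestPReducedOf p L : Subgroup H) : Set H) : Subgroup H) : Set H) :=
    (le_inf Subgroup.le_normalizer (hTL.trans (hYL.le_normalizer.trans hNC))).trans
      Subgroup.inf_normalizer_le_normalizer_inf
  have hYT₀ : Cfsg.largestPReducedOf p L ≤ (T : Subgroup H) ⊓ Subgroup.centralizer ((Cfsg.largestPReducedOf p L : Subgroup H) : Set H) := by
    refine le_inf hYT ?_
    intro y hy
    rw [Subgroup.mem_centralizer_iff]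
    intro z hz
    exact ((elemAb_iff _).mp hYL.elemAb).1 z hz y hy
  have hT₀Ls : (T : Subgroup H) ⊓ Subgroup.centralizer ((Cfsg.largestPReducedOf p L : Subgroup H) : Set H) ≤
      M ⊓ Subgroup.normalizer (((T : Subgroup H) ⊓ Subgroup.centralizer ((Cfsg.largestPReducedOf p L : Subgroup H) : Set H) : Subgroup H) : Set H) :=
    le_inf (hT₀T.trans hTM) Subgroup.le_normalizer
  have hYLs : PRed p (M ⊓ Subgroup.normalizer (((T : Subgroup H) ⊓ Subgroup.centralizer ((Cfsg.largestPReducedOf p L : Subgroup H) : Set H) : Subgroup H) : Set H))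
      (Cfsg.largestPReducedOf p L) := hYM.of_sup_eq (hYT₀.trans hT₀Ls) hsup.symm
  refine ⟨?_, hfac.symm.trans hsup⟩
  apply le_antisymm
  · -- Y_{Ls} ≤ Ω₁Z(T₀) = Y_L
    have hY' := pred_largestPReducedOf (p := p) (M ⊓ Subgroup.normalizer (((T : Subgroup H) ⊓ Subgroup.centralizer ((Cfsg.largestPReducedOf p L : Subgroup H) : Set H) : Subgroup H) : Set H))
    have h3 := (pred_largest_structure ((charP_iff L).mp hL) hTs hYL (fun V hV => hV.le_largest)).2.2
    have hTLs : (T : Subgroup H) ≤ M ⊓ Subgroup.normalizer (((T : Subgroup H) ⊓ Subgroup.centralizer ((Cfsg.largestPReducedOf p L : Subgroup H) : Set H) : Subgroup H) : Set H) :=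
      le_inf hTM hTN
    have hT₀core : (T : Subgroup H) ⊓ Subgroup.centralizer ((Cfsg.largestPReducedOf p L : Subgroup H) : Set H) ≤
        Cfsg.pCoreOf p (M ⊓ Subgroup.normalizer (((T : Subgroup H) ⊓ Subgroup.centralizer ((Cfsg.largestPReducedOf p L : Subgroup H) : Set H) : Subgroup H) : Set H)) :=
      Cfsg.Agent.Lib.Helper55.le_pCoreOf hT₀Ls inf_le_right (T.isPGroup'.to_le hT₀T)
    have hY'le := hYLs.le_largest
    intro y hy
    rw [h3]
    apply Subgroup.subset_closure
    have hyT : y ∈ (T : Subgroup H) := pCoreOf_le_sylow T hTLs (hY'.le_pCoreOf hy)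
    have hyC : y ∈ Subgroup.centralizer ((Cfsg.largestPReducedOf p L : Subgroup H) : Set H) := by
      rw [Subgroup.mem_centralizer_iff]
      intro z hz
      exact ((elemAb_iff _).mp hY'.elemAb).1 z (hY'le hz) y hy
    refine ⟨Subgroup.mem_inf.mpr ⟨Subgroup.mem_inf.mpr ⟨hyT, hyC⟩, ?_⟩, ((elemAb_iff _).mp hY'.elemAb).2 y hy⟩
    rw [Subgroup.mem_centralizer_iff]
    intro t ht
    exact (Subgroup.mem_centralizer_iff.mp (hY'.pCoreOf_le_centralizer (hT₀core ht)) y hy).symm
  · exact hYLs.le_largest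

end Cfsg.Agent.S2824
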