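import Cfsg.Statements.S2825
import Cfsg.Agent.Lib.Helper55.YL

set_option autoImplicit false
open Cfsg

namespace Cfsg.Agent.S2825

open Cfsg.Agent.Lib.Helper55
open scoped commutatorElement

/-- Let L be a subnormal subgroup of the finite group H, p a prime, Y_H and Y_L the largest p-reduced normal subgroups. Then Y_H ∩ L = Y_H ∩ Y_L and this subgroup is a p-reduced normal subgroup of L; C_L(Y_L) = C_L(Y_H) = C_L(Y_H ∩ L); and if O^p(H) ≤ L, then [Y_L, L] = 1 if and only if [Y_H, H] = 1. -/
theorem result {H : Type*} [Group H] [Finite H] {p : ℕ} [Fact p.Prime] (L : Subgroup H) (hL : L.IsSubnormal) : Cfsg.largestPReduced p H ⊓ L = Cfsg.largestPReduced p H ⊓ (Cfsg.largestPReducedOf p L) ∧ Cfsg.IsPReducedNormal p ((Cfsg.largestPReduced p H ⊓ L).subgroupOf L) ∧ L ⊓ Subgroup.centralizer ((Cfsg.largestPReducedOf p L : Subgroup H) : Set H) = L ⊓ Subgroup.centralizer (Cfsg.largestPReduced p H : Set H) ∧ L ⊓ Subgroup.centralizer (Cfsg.largestPReduced p H : Set H) = L ⊓ Subgroup.centralizer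 ((Cfsg.largestPReduced p H ⊓ L : Subgroup H) : Set H) ∧ (Cfsg.pResidual p H ≤ L → (⁅(Cfsg.largestPReducedOf p L), L⁆ = ⊥ ↔ ⁅Cfsg.largestPReduced p H, (⊤ : Subgroup H)⁆ = ⊥)) := by
  classical
  have hYH : Cfsg.IsPReducedNormal p (Cfsg.largestPReduced p H) := isPReducedNormal_largestPReduced
  have hYHn : (Cfsg.largestPReduced p H).Normal := hYH.1
  have hYHp : IsPGroup p (Cfsg.largestPReduced p H) := elemAb_isPGroup hYH.2.1
  have hYHtop := (isPReducedNormal_iff_top _).mp hYH
  have hYL := pred_largestPReducedOf (p := p) L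
  have hQn : (Cfsg.pCore p H).Normal := Cfsg.Agent.Lib.Helper55.pCore_normal
  have hQR := normal_pgroup_le_normalizer_residual (Q := Cfsg.pCore p H)
    Cfsg.Agent.Lib.Helper55.pCore_isPGroup hL
  have hcomm : ∀ x ∈ L, (orderOf x).Coprime p → ∀ v ∈ Cfsg.largestPReduced p H,
      ⁅v, x⁆ ∈ Cfsg.largestPReduced p H ⊓ L := by
    intro x hx hc v hv
    refine Subgroup.mem_inf.mpr ⟨?_, ?_⟩
    · have e : ⁅v, x⁆ = v * (x * v⁻¹ * x⁻¹) := by
        simp only [commutatorElement_def]; group
      rw [e]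
      exact Subgroup.mul_mem _ hv (hYHn.conj_mem _ (Subgroup.inv_mem _ hv) x)
    · have hxR : x ∈ (Cfsg.pResidual p L).map L.subtype := mem_map_subtype_pResidual hx hc
      have hvN := hQR (le_pCore hYHn hYHp hv)
      have h1 : v * x * v⁻¹ ∈ (Cfsg.pResidual p L).map L.subtype :=
        (Subgroup.mem_normalizer_iff.mp hvN x).mp hxR
      have e : ⁅v, x⁆ = (v * x * v⁻¹) * x⁻¹ := by
        simp only [commutatorElement_def]
      rw [e]
      exact L.mul_mem (Subgroup.map_subtype_le _ h1) (L.inv_mem hx)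
  have hcore : ∀ D : Subgroup H, D ≤ L → L ≤ Subgroup.normalizer (D : Set H) →
      (∀ d ∈ D, ∃ k : ℕ, d ^ p ^ k ∈
        Subgroup.centralizer ((Cfsg.largestPReduced p H ⊓ L : Subgroup H) : Set H)) →
      D ≤ Subgroup.centralizer (Cfsg.largestPReduced p H : Set H) :=
    fun D hDL hLD hpow => subnormal_pred_core hYH hL inf_le_left hcomm hDL hLD hpow
  have hLW : L ≤ Subgroup.normalizer ((Cfsg.largestPReduced p H ⊓ L : Subgroup H) : Set H) :=
    (le_inf (by rw [Subgroup.normalizer_eq_top]; exact le_top) Subgroup.le_normalizer).trans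
      Subgroup.inf_normalizer_le_normalizer_inf
  have hmono : Subgroup.centralizer (Cfsg.largestPReduced p H : Set H) ≤
      Subgroup.centralizer ((Cfsg.largestPReduced p H ⊓ L : Subgroup H) : Set H) :=
    Subgroup.centralizer_le (SetLike.coe_subset_coe.mpr inf_le_left)
  have h2 : PRed p L (Cfsg.largestPReduced p H ⊓ L) :=
    ⟨inf_le_right, hLW, elemAb_mono inf_le_left hYH.2.1,
      fun D hDL hLD hpow => (hcore D hDL hLD hpow).trans hmono⟩
  have h1 : Cfsg.largestPReduced p H ⊓ L = Cfsg.largestPReduced p H ⊓ (Cfsg.largestPReducedOf p L) :=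
    le_antisymm (le_inf inf_le_left h2.le_largest) (inf_le_inf_left _ hYL.le)
  have h4 : L ⊓ Subgroup.centralizer (Cfsg.largestPReduced p H : Set H) =
      L ⊓ Subgroup.centralizer ((Cfsg.largestPReduced p H ⊓ L : Subgroup H) : Set H) := by
    apply le_antisymm (inf_le_inf_left L hmono)
    refine le_inf inf_le_left (hcore _ inf_le_left ?_ ?_)
    · exact (le_inf Subgroup.le_normalizer
        (hLW.trans (normalizer_le_normalizer_centralizer' _))).trans
          Subgroup.inf_normalizer_le_normalizer_inf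
    · intro d hd
      exact ⟨0, by simpa using hd.2⟩
  have h3 : L ⊓ Subgroup.centralizer ((Cfsg.largestPReducedOf p L : Subgroup H) : Set H) =
      L ⊓ Subgroup.centralizer (Cfsg.largestPReduced p H : Set H) := by
    apply le_antisymm
    · rw [h4]
      refine inf_le_inf_left L (Subgroup.centralizer_le (SetLike.coe_subset_coe.mpr ?_))
      rw [h1]
      exact inf_le_right
    · exact le_inf inf_le_left (subnormal_centralizer_largest hL)
  refine ⟨h1, (isPReducedNormal_subgroupOf_iff inf_le_right).mpr h2, h3, h4, ?_⟩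
  intro hRL
  have e1 : ⁅(Cfsg.largestPReducedOf p L), L⁆ = ⊥ ↔
      L ≤ Subgroup.centralizer ((Cfsg.largestPReducedOf p L : Subgroup H) : Set H) := by
    rw [Subgroup.commutator_eq_bot_iff_le_centralizer, Subgroup.le_centralizer_iff]
  have e2 : ⁅Cfsg.largestPReduced p H, (⊤ : Subgroup H)⁆ = ⊥ ↔
      (⊤ : Subgroup H) ≤ Subgroup.centralizer (Cfsg.largestPReduced p H : Set H) := by
    rw [Subgroup.commutator_eq_bot_iff_le_centralizer, Subgroup.le_centralizer_iff]
  rw [e1, e2]
  constructor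
  · intro h
    have h5 : L ≤ Subgroup.centralizer (Cfsg.largestPReduced p H : Set H) := by
      have h6 : L ≤ L ⊓ Subgroup.centralizer ((Cfsg.largestPReducedOf p L : Subgroup H) : Set H) :=
        le_inf le_rfl h
      rw [h3] at h6
      exact h6.trans inf_le_right
    apply hYHtop.2.2.2 ⊤ le_rfl (by rw [Subgroup.normalizer_eq_top])
    intro d _
    obtain ⟨k, hk⟩ := exists_pow_mem_pResidual (p := p) d
    exact ⟨k, h5 (hRL hk)⟩
  · intro h
    have h6 : L ≤ L ⊓ Subgroup.centralizer (Cfsg.largestPReduced p H : Set H) :=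
      le_inf le_rfl (le_top.trans h)
    rw [← h3] at h6
    exact h6.trans inf_le_right

end Cfsg.Agent.S2825
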