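import Cfsg.Statements.S2826
import Cfsg.Agent.Lib.Helper55.Norm

set_option autoImplicit false
open Cfsg

namespace Cfsg.Agent.S2826

open Cfsg.Agent.Lib.Helper55
open scoped commutatorElement

/-- Let H be a finite group of characteristic p, T a Sylow p-subgroup, and V a normal elementary abelian p-subgroup of H containing Ω₁(Z(T)). Then C_H(Ω₁(Z(T))) = C_H([V, O^p(H)] ∩ Ω₁(Z(T))), O^p(H) being generated by the elements of order prime to p. -/
theorem result {H : Type*} [Group H] [Finite H] {p : ℕ} [Fact p.Prime] (hH : Subgroup.centralizer (Cfsg.pCore p H : Set H) ≤ Cfsg.pCore p H) (T : Sylow p H) (V : Subgroup H) [V.Normal] (hV : Cfsg.IsElementaryAbelian p V) (hZV : (Cfsg.omegaOne p ((T : Subgroup H) ⊓ Subgroup.centralizer (((T : Subgroup H) : Subgroup H) : Set H))) ≤ V) : Subgroup.centralizer ((Cfsg.omegaOne p ((T : Subgroup H) ⊓ Subgroup.centralizer (((T : Subgroup H) : Subgroup H) : Set H))) : Set H) = Subgroup.centralizer (((⁅V, Cfsg.pResidual p H⁆ ⊓ (Cfsg.omegaOne p ((T : Subgroup H) ⊓ Subgroup.centralizer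 (((T : Subgroup H) : Subgroup H) : Set H)))) : Subgroup H) : Set H) := by
  classical
  apply le_antisymm
  · exact Subgroup.centralizer_le (SetLike.coe_subset_coe.mpr inf_le_right)
  · intro g hg
    have hVab := (elemAb_iff V).mp hV
    have hTs := sylIn_of_sylow T (le_top : (T : Subgroup H) ≤ ⊤)
    have key : Cfsg.omegaOne p ((T : Subgroup H) ⊓ Subgroup.centralizer (((T : Subgroup H) : Subgroup H) : Set H))
        ≤ Subgroup.centralizer ({g} : Set H) := by
      rw [omegaOne_le_iff]
      intro x hx hxp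
      have hxZ : x ∈ Cfsg.omegaOne p ((T : Subgroup H) ⊓ Subgroup.centralizer (((T : Subgroup H) : Subgroup H) : Set H)) :=
        mem_omegaOne hx hxp
      have hxV : x ∈ V := hZV hxZ
      obtain ⟨c, hcV, hcc, b, hb, rfl⟩ := exists_central_mul (p := p) V (T : Subgroup H)
        (Cfsg.pResidual p H) ⁅V, Cfsg.pResidual p H⁆ hVab.1 hVab.2
        (sylow_exists_residual_mul T) T.not_dvd_index x hxV
        (fun t ht => Subgroup.mem_centralizer_iff.mp hx.2 t ht)
        (fun r hr => by
          rw [Subgroup.commutator_comm]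
          exact Subgroup.commutator_mem_commutator hr hxV)
      have hcT : c ∈ (T : Subgroup H) :=
        hTs.mem_of_centralized (Subgroup.mem_top c) (fun t _ => hcc t) (hVab.2 c hcV)
      have hcZ : c ∈ Cfsg.omegaOne p ((T : Subgroup H) ⊓ Subgroup.centralizer (((T : Subgroup H) : Subgroup H) : Set H)) :=
        mem_omegaOne (Subgroup.mem_inf.mpr ⟨hcT, Subgroup.mem_centralizer_iff.mpr (fun t _ => hcc t)⟩)
          (hVab.2 c hcV)
      have hbZ : b ∈ Cfsg.omegaOne p ((T : Subgroup H) ⊓ Subgroup.centralizer (((T : Subgroup H) : Subgroup H) : Set H)) := by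
        have := Subgroup.mul_mem _ (Subgroup.inv_mem _ hcZ) hxZ
        simpa using this
      have hgb : b * g = g * b := Subgroup.mem_centralizer_iff.mp hg b (Subgroup.mem_inf.mpr ⟨hb, hbZ⟩)
      rw [Subgroup.mem_centralizer_iff]
      intro y hy
      rw [Set.mem_singleton_iff] at hy
      subst hy
      rw [← mul_assoc, hcc y, mul_assoc, ← hgb, mul_assoc]
    rw [Subgroup.mem_centralizer_iff]
    intro x hx
    have := Subgroup.mem_centralizer_iff.mp (key hx) g rfl
    exact this.symm

end Cfsg.Agent.S2826
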