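import Cfsg.Statements.S2827
import Cfsg.Agent.Lib.Helper55.PClosed

set_option autoImplicit false
open Cfsg

namespace Cfsg.Agent.S2827

open Cfsg.Agent.Lib.Helper55
open scoped commutatorElement

/-- Let H be a finite p-irreducible group (not p-closed, and O^p(H) lies in every normal subgroup that is not p-closed) and T a Sylow p-subgroup. Then H is generated by the conjugates of T and H = H'·T; O^p(H) ≤ H'; and for every normal subgroup Y of T not contained in O_p(H), O^p(H) = [O^p(H), Y] and O^p(H) is contained in the normal closure of Y in H. -/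
theorem result {H : Type*} [Group H] [Finite H] {p : ℕ} [Fact p.Prime] (hH : Cfsg.IsPIrreducible p H) (T : Sylow p H) : Subgroup.normalClosure ((T : Subgroup H) : Set H) = ⊤ ∧ commutator H ⊔ (T : Subgroup H) = ⊤ ∧ Cfsg.pResidual p H ≤ commutator H ∧ ∀ Y : Subgroup H, Y ≤ (T : Subgroup H) → (T : Subgroup H) ≤ Subgroup.normalizer (Y : Set H) → ¬ Y ≤ Cfsg.pCore p H → ⁅Cfsg.pResidual p H, Y⁆ = Cfsg.pResidual p H ∧ Cfsg.pResidual p H ≤ Subgroup.normalClosure (Y : Set H) := by
  classical
  obtain ⟨hncl, hirr⟩ := hH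
  have hTs := sylIn_of_sylow T (le_top : (T : Subgroup H) ≤ ⊤)
  have hfac := sylow_exists_residual_mul T
  have hRn : (Cfsg.pResidual p H).Normal := pResidual_normal
  -- criterion for non-p-closedness
  have hL : ∀ N : Subgroup H, N.Normal → ∀ Y : Subgroup H, Y ≤ N → IsPGroup p Y →
      ¬ Y ≤ Cfsg.pCore p H → Cfsg.pResidual p H ≤ N := by
    intro N hN Y hYN hY hYc
    apply hirr N hN
    intro hcl
    rw [isPClosed_subgroup_iff] at hcl
    exact hYc (fun y hy => hcl.mem_pCore (hYN hy) (pel_of_mem hY hy))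
  have hTc : ¬ (T : Subgroup H) ≤ Cfsg.pCore p H := by
    intro h
    apply hncl
    rw [isPClosed_iff_top]
    apply hTs.pClos
    have e : (T : Subgroup H) = Cfsg.pCore p H := le_antisymm h (pCore_le_sylow T)
    have hn : (Cfsg.pCore p H).Normal := Cfsg.Agent.Lib.Helper55.pCore_normal
    rw [e, Subgroup.normalizer_eq_top]
  have h1 : Subgroup.normalClosure ((T : Subgroup H) : Set H) = ⊤ := by
    apply top_unique
    intro g _
    have hR := hL _ Subgroup.normalClosure_normal (T : Subgroup H) Subgroup.le_normalClosure T.isPGroup' hTc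
    obtain ⟨r, hr, hrt⟩ := hfac g
    have := Subgroup.mul_mem _ (hR hr) (Subgroup.le_normalClosure hrt)
    simpa using this
  have h2 : commutator H ⊔ (T : Subgroup H) = ⊤ := by
    rw [← top_le_iff, ← h1]
    show Subgroup.closure _ ≤ _
    rw [Subgroup.closure_le]
    intro a ha
    rw [Group.mem_conjugatesOfSet_iff] at ha
    obtain ⟨b, hb, hba⟩ := ha
    rw [isConj_iff] at hba
    obtain ⟨c, rfl⟩ := hba
    have e : c * b * c⁻¹ = ⁅c, b⁆ * b := by
      rw [commutatorElement_def]; group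
    rw [SetLike.mem_coe, e]
    refine Subgroup.mul_mem_sup ?_ hb
    rw [commutator_def]
    exact Subgroup.commutator_mem_commutator (Subgroup.mem_top c) (Subgroup.mem_top b)
  refine ⟨h1, h2, pResidual_le_of_le_sup _ _ T.isPGroup' (h2 ▸ le_top), ?_⟩
  intro Y hYT hTY hYc
  have hY : IsPGroup p Y := T.isPGroup'.to_le hYT
  refine ⟨?_, hL _ Subgroup.normalClosure_normal Y Subgroup.le_normalClosure hY hYc⟩
  have hCR : ⁅Cfsg.pResidual p H, Y⁆ ≤ Cfsg.pResidual p H := Subgroup.commutator_le_left _ _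
  apply le_antisymm hCR
  have hRC : Cfsg.pResidual p H ≤ Subgroup.normalizer ((⁅Cfsg.pResidual p H, Y⁆ : Subgroup H) : Set H) :=
    Subgroup.normalizer_commutator_ge_left _ _
  have hTC : (T : Subgroup H) ≤ Subgroup.normalizer ((⁅Cfsg.pResidual p H, Y⁆ : Subgroup H) : Set H) := by
    intro t ht
    apply mem_normalizer_of_cj_eq
    show Subgroup.map (MulAut.conj t).toMonoidHom ⁅Cfsg.pResidual p H, Y⁆ = _
    rw [Subgroup.map_commutator]
    have e1 : Subgroup.map (MulAut.conj t).toMonoidHom (Cfsg.pResidual p H) = Cfsg.pResidual p H :=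
      cj_eq_self_of_mem_normalizer (by rw [Subgroup.normalizer_eq_top]; exact Subgroup.mem_top t)
    have e2 : Subgroup.map (MulAut.conj t).toMonoidHom Y = Y :=
      cj_eq_self_of_mem_normalizer (hTY ht)
    rw [e1, e2]
  have hCn : (⁅Cfsg.pResidual p H, Y⁆ : Subgroup H).Normal := by
    rw [← Subgroup.normalizer_eq_top_iff]
    apply top_unique
    intro g _
    obtain ⟨r, hr, hrt⟩ := hfac g
    have := Subgroup.mul_mem _ (hRC hr) (hTC hrt)
    simpa using this
  have hKn : (Y ⊔ ⁅Cfsg.pResidual p H, Y⁆ : Subgroup H).Normal := by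
    have hR' : ∀ r ∈ Cfsg.pResidual p H, ∀ k ∈ Y ⊔ ⁅Cfsg.pResidual p H, Y⁆,
        r * k * r⁻¹ ∈ Y ⊔ ⁅Cfsg.pResidual p H, Y⁆ := by
      intro r hr
      have : Y ⊔ ⁅Cfsg.pResidual p H, Y⁆ ≤
          (Y ⊔ ⁅Cfsg.pResidual p H, Y⁆).comap (MulAut.conj r).toMonoidHom := by
        apply sup_le
        · intro y hy
          rw [Subgroup.mem_comap]
          show r * y * r⁻¹ ∈ _
          have e : r * y * r⁻¹ = ⁅r, y⁆ * y := by
            rw [commutatorElement_def]; group
          rw [e]
          exact Subgroup.mul_mem _ (Subgroup.mem_sup_right (Subgroup.commutator_mem_commutator hr hy))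
            (Subgroup.mem_sup_left hy)
        · intro c hc
          rw [Subgroup.mem_comap]
          exact Subgroup.mem_sup_right (hCn.conj_mem c hc r)
      exact fun k hk => this hk
    have hT' : ∀ t ∈ (T : Subgroup H), ∀ k ∈ Y ⊔ ⁅Cfsg.pResidual p H, Y⁆,
        t * k * t⁻¹ ∈ Y ⊔ ⁅Cfsg.pResidual p H, Y⁆ := by
      intro t ht k hk
      have h3 := Subgroup.normalizer_inf_normalizer_le_normalizer_sup Y ⁅Cfsg.pResidual p H, Y⁆
        (Subgroup.mem_inf.mpr ⟨hTY ht, hTC ht⟩)
      exact (Subgroup.mem_normalizer_iff.mp h3 k).mp hk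
    refine ⟨fun n hn g => ?_⟩
    obtain ⟨r, hr, hrt⟩ := hfac g
    have := hR' r hr _ (hT' _ hrt n hn)
    have e : r * (r⁻¹ * g * n * (r⁻¹ * g)⁻¹) * r⁻¹ = g * n * g⁻¹ := by group
    rwa [e] at this
  have h3 := hL _ hKn Y le_sup_left hY hYc
  rw [sup_comm] at h3
  exact pResidual_le_of_le_sup _ _ hY h3

end Cfsg.Agent.S2827
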