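import Cfsg.Statements.S2828
import Cfsg.Agent.Lib.Helper55.PClosed

set_option autoImplicit false
open Cfsg

namespace Cfsg.Agent.S2828

open Cfsg.Agent.Lib.Helper55
open scoped commutatorElement

/-- Let H be a finite group, p a prime and D a normal p-subgroup of H. Then H is p-irreducible if and only if H/D is p-irreducible, and H is strongly p-irreducible if and only if H/D is strongly p-irreducible. -/
theorem result {H : Type*} [Group H] [Finite H] {p : ℕ} [Fact p.Prime] (D : Subgroup H) [D.Normal] (hD : IsPGroup p ↥D) : (Cfsg.IsPIrreducible p H ↔ Cfsg.IsPIrreducible p (H ⧸ D)) ∧ (Cfsg.IsStronglyPIrreducible p H ↔ Cfsg.IsStronglyPIrreducible p (H ⧸ D)) := by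
  classical
  have hsurj := QuotientGroup.mk'_surjective D
  have hA : ∀ N : Subgroup H, Cfsg.IsPClosed p ↥(N.map (QuotientGroup.mk' D)) ↔ Cfsg.IsPClosed p ↥N := by
    intro N
    rw [isPClosed_subgroup_iff, isPClosed_subgroup_iff, pClos_map_mk_iff D hD]
  have hB := isPClosed_quotient_iff (p := p) D hD
  have hC := map_mk_pResidual (p := p) D
  have hE := comap_mk_pCore (p := p) D hD
  have hdown : ∀ N : Subgroup H, N.Normal →
      Cfsg.pResidual p (H ⧸ D) ≤ N.map (QuotientGroup.mk' D) → Cfsg.pResidual p H ≤ N := by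
    intro N hN h
    rw [← hC, Subgroup.map_le_iff_le_comap, Subgroup.comap_map_eq, QuotientGroup.ker_mk'] at h
    exact pResidual_le_of_le_sup N D hD h
  have hup : ∀ N' : Subgroup (H ⧸ D),
      Cfsg.pResidual p H ≤ N'.comap (QuotientGroup.mk' D) → Cfsg.pResidual p (H ⧸ D) ≤ N' := by
    intro N' h
    rw [← hC, Subgroup.map_le_iff_le_comap]
    exact h
  refine ⟨⟨?_, ?_⟩, ⟨?_, ?_⟩⟩
  · rintro ⟨hncl, hN⟩
    refine ⟨fun h => hncl (hB.mp h), fun N' hN' hN'cl => hup N' (hN _ (hN'.comap _) ?_)⟩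
    intro hcl
    apply hN'cl
    have h1 := (hA (N'.comap (QuotientGroup.mk' D))).mpr hcl
    rwa [Subgroup.map_comap_eq_self_of_surjective hsurj] at h1
  · rintro ⟨hncl, hN⟩
    refine ⟨fun h => hncl (hB.mpr h), fun N hNn hNcl => hdown N hNn (hN _ (hNn.map _ hsurj) ?_)⟩
    intro hcl
    exact hNcl ((hA N).mp hcl)
  · rintro ⟨hncl, hN⟩
    refine ⟨fun h => hncl (hB.mp h), fun N' hN' hN'c => hup N' (hN _ (hN'.comap _) ?_)⟩
    intro hc
    apply hN'c
    have h1 := Subgroup.map_mono (f := QuotientGroup.mk' D) hc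
    rw [Subgroup.map_commutator, Subgroup.map_comap_eq_self_of_surjective hsurj,
      Subgroup.map_top_of_surjective _ hsurj] at h1
    refine h1.trans ?_
    rw [← hE]
    exact Subgroup.map_comap_le _ _
  · rintro ⟨hncl, hN⟩
    refine ⟨fun h => hncl (hB.mpr h), fun N hNn hNc => hdown N hNn (hN _ (hNn.map _ hsurj) ?_)⟩
    intro hc
    apply hNc
    rw [← Subgroup.map_top_of_surjective _ hsurj, ← Subgroup.map_commutator,
      Subgroup.map_le_iff_le_comap, hE] at hc
    exact hc

end Cfsg.Agent.S2828
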