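import Cfsg.Statements.S2829
import Mathlib

set_option autoImplicit false
open Cfsg
open scoped commutatorElement

namespace Cfsg.Agent.S2829

theorem result {H : Type*} [Group H] [Finite H] {p : ℕ} [Fact p.Prime] (hH : Cfsg.IsStronglyPIrreducible p H) : Cfsg.IsPIrreducible p H := by
  obtain ⟨h1, h2⟩ := hH
  refine ⟨h1, fun N hN hNc => h2 N hN ?_⟩
  intro hle
  apply hNc
  intro P
  have hcore_n : (Cfsg.pCore p H).Normal :=
    Subgroup.sSup_normal _ (fun K hK => hK.1)
  have hcore_p : IsPGroup p (Cfsg.pCore p H) :=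
    Sylow.sSup_of_normal _ (fun K hK => hK.2) (fun K hK => hK.1)
  have hD : IsPGroup p ((Cfsg.pCore p H).subgroupOf N) := hcore_p.comap_subtype
  have hDn : ((Cfsg.pCore p H).subgroupOf N).Normal := hcore_n.subgroupOf N
  have hDP : (Cfsg.pCore p H).subgroupOf N ≤ P := hD.le_sylow_of_normal P
  apply Subgroup.Normal.of_commutator_le
  rw [_root_.commutator, Subgroup.commutator_le]
  intro a _ b _
  apply hDP
  rw [Subgroup.mem_subgroupOf]
  apply hle
  have h3 : ⁅(a : H), (b : H)⁆ ∈ ⁅N, (⊤ : Subgroup H)⁆ :=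
    Subgroup.commutator_mem_commutator a.2 (Subgroup.mem_top _)
  simpa [commutatorElement_def] using h3

end Cfsg.Agent.S2829
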