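import Cfsg.Statements.S2830
import Cfsg.Agent.Lib.Helper55.PClosed

set_option autoImplicit false
open Cfsg

namespace Cfsg.Agent.S2830

open Cfsg.Agent.Lib.Helper55
open scoped commutatorElement

/-- Let H act by conjugation on the elementary abelian p-subgroup V of a finite group G (H ≤ N(V)), with H p-irreducible and O^p(H) not centralizing V. Then C_H(V) is p-closed and C_T(V) ≤ O_p(H) for every p-subgroup T of H. If in addition O_p(H) centralizes V, then C_T(V) = T ∩ O_p(H) for every p-subgroup T of H, and V is p-reduced for H: O_p(H/C_H(V)) = 1. -/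
theorem result {G : Type*} [Group G] [Finite G] {p : ℕ} [Fact p.Prime] (V H : Subgroup G) (hV : Cfsg.IsElementaryAbelian p V) (hHV : H ≤ Subgroup.normalizer (V : Set G)) (hH : Cfsg.IsPIrreducible p ↥H) (hnc : ¬ (Cfsg.pResidual p ↥H).map H.subtype ≤ Subgroup.centralizer (V : Set G)) [hn : ((Subgroup.centralizer (V : Set G)).subgroupOf H).Normal] : Cfsg.IsPClosed p ↥(H ⊓ Subgroup.centralizer (V : Set G)) ∧ (∀ T : Subgroup G, T ≤ H → IsPGroup p ↥T → T ⊓ Subgroup.centralizer (V : Set G) ≤ Cfsg.pCoreOf p H) ∧ (Cfsg.pCoreOf p H ≤ Subgroup.centralizer (V : Set G) → (∀ T : Subgroup G, T ≤ H → IsPGroup p ↥T → T ⊓ Subgroup.centralizer (V : Set G) = T ⊓ Cfsg.pCoreOf p H) ∧ Cfsg.pCore p (↥H ⧸ (Subgroup.centralizer (V : Set G)).subgroupOf H) = ⊥) := by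
  classical
  obtain ⟨hncl, hirr⟩ := hH
  have hK : PClos p ((Subgroup.centralizer (V : Set G)).subgroupOf H) := by
    rw [← isPClosed_subgroup_iff]
    by_contra hcl
    apply hnc
    have h1 := Subgroup.map_mono (f := H.subtype) (hirr _ hn hcl)
    rw [Subgroup.subgroupOf_map_subtype] at h1
    exact h1.trans inf_le_left
  have hN : PClos p (H ⊓ Subgroup.centralizer (V : Set G)) := by
    intro x hx y hy hpx hpy
    have := hK ⟨x, hx.1⟩ (Subgroup.mem_subgroupOf.mpr hx.2) ⟨y, hy.1⟩ (Subgroup.mem_subgroupOf.mpr hy.2)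
      ((pel_subtype _).mpr hpx) ((pel_subtype _).mpr hpy)
    exact (pel_subtype _).mp this
  have hHN : H ≤ Subgroup.normalizer ((H ⊓ Subgroup.centralizer (V : Set G) : Subgroup G) : Set G) :=
    (le_inf Subgroup.le_normalizer (hHV.trans (normalizer_le_normalizer_centralizer' V))).trans
      Subgroup.inf_normalizer_le_normalizer_inf
  have h3 : ∀ T : Subgroup G, T ≤ H → IsPGroup p ↥T →
      T ⊓ Subgroup.centralizer (V : Set G) ≤ Cfsg.pCoreOf p H := by
    intro T hTH hT x hx
    exact hN.mem_pCoreOf inf_le_left hHN (Subgroup.mem_inf.mpr ⟨hTH hx.1, hx.2⟩) (pel_of_mem hT hx.1)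
  refine ⟨(isPClosed_subgroup_iff _).mpr hN, h3, ?_⟩
  intro hOC
  refine ⟨fun T hTH hT => le_antisymm (le_inf inf_le_left (h3 T hTH hT)) (inf_le_inf_left T hOC), ?_⟩
  rw [pCore_quotient_eq_bot_iff]
  intro D hDn hpow
  by_cases hcl : Cfsg.IsPClosed p ↥D
  · rw [isPClosed_subgroup_iff] at hcl
    obtain ⟨Q, hQ⟩ := exists_sylIn (p := p) D
    have hDK : D ≤ Subgroup.normalizer
        (((Subgroup.centralizer (V : Set G)).subgroupOf H : Subgroup ↥H) : Set ↥H) := by
      rw [Subgroup.normalizer_eq_top]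
      exact le_top
    have h4 := hQ.le_sup_inf (D := D) le_rfl Subgroup.le_normalizer hDK hpow
    refine h4.trans (sup_le ?_ inf_le_right)
    intro q hq
    have hq1 : q ∈ Cfsg.pCore p ↥H := hcl.mem_pCore hq.1 (pel_of_mem hQ.isPGroup hq.2)
    rw [Subgroup.mem_subgroupOf]
    exact hOC ⟨q, hq1, rfl⟩
  · exfalso
    apply hnc
    have h5 := hirr D hDn hcl
    have h6 : Cfsg.pResidual p ↥H ≤ (Subgroup.centralizer (V : Set G)).subgroupOf H := by
      apply pResidual_le_of_pow'
      intro g hg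
      exact hpow g (h5 (mem_pResidual hg))
    have h7 := Subgroup.map_mono (f := H.subtype) h6
    rw [Subgroup.subgroupOf_map_subtype] at h7
    exact h7.trans inf_le_left

end Cfsg.Agent.S2830
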