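import Cfsg.Statements.S2831
import Cfsg.Agent.Lib.Helper55.PClosed

set_option autoImplicit false
open Cfsg

namespace Cfsg.Agent.S2831

open Cfsg.Agent.Lib.Helper55
open scoped commutatorElement

/-- Let H be a finite group with Sylow p-subgroup T such that H is T-minimal (H is generated by the conjugates of T and T lies in exactly one maximal subgroup of H). Then H is p-irreducible: H is not p-closed and O^p(H) lies in every normal subgroup of H that is not p-closed. -/
theorem result {H : Type*} [Group H] [Finite H] {p : ℕ} [Fact p.Prime] (T : Sylow p H) (hmin : Cfsg.IsMinimalOver (T : Subgroup H)) : Cfsg.IsPIrreducible p H := by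
  classical
  obtain ⟨hnc, M, ⟨hMco, hTM⟩, hMuniq⟩ := hmin
  have hTtop : (T : Subgroup H) ≠ ⊤ := fun h => hMco.1 (top_unique (h ▸ hTM))
  refine ⟨?_, ?_⟩
  · intro hcl
    have hn : (T : Subgroup H).Normal := hcl T
    have : Subgroup.normalClosure ((T : Subgroup H) : Set H) = T := Subgroup.normalClosure_eq_self _
    exact hTtop (this ▸ hnc)
  · intro N hN hNcl
    have hle : ∀ K : Subgroup H, (T : Subgroup H) ≤ K → K ≠ ⊤ → K ≤ M := by
      intro K hTK hK
      obtain ⟨M', hM', hKM'⟩ := (eq_top_or_exists_le_coatom K).resolve_left hK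
      have := hMuniq M' ⟨hM', hTK.trans hKM'⟩
      exact this ▸ hKM'
    have hTs := sylIn_of_sylow T (le_top : (T : Subgroup H) ≤ ⊤)
    have hNtop : (⊤ : Subgroup H) ≤ Subgroup.normalizer (N : Set H) := by
      rw [Subgroup.normalizer_eq_top]
    have hQ : SylIn p (N ⊓ (T : Subgroup H)) N := hTs.inf_normalized le_top hNtop
    have hfr := hQ.frattini (L := ⊤) le_top hNtop
    have hTNQ : (T : Subgroup H) ≤ Subgroup.normalizer ((N ⊓ (T : Subgroup H) : Subgroup H) : Set H) :=
      (le_inf (le_top.trans hNtop) Subgroup.le_normalizer).trans Subgroup.inf_normalizer_le_normalizer_inf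
    have h1 : Subgroup.normalizer ((N ⊓ (T : Subgroup H) : Subgroup H) : Set H) ≠ ⊤ := by
      intro htop
      apply hNcl
      rw [isPClosed_subgroup_iff]
      exact hQ.pClos (htop ▸ le_top)
    have h2 := hle _ hTNQ h1
    have h3 : (T : Subgroup H) ⊔ N = ⊤ := by
      by_contra hne
      have h4 := hle _ le_sup_left hne
      apply hMco.1
      apply top_unique
      intro g _
      obtain ⟨a, ha, n, hn, rfl⟩ := hfr g (Subgroup.mem_top g)
      exact M.mul_mem (h2 ha.2) (h4 (Subgroup.mem_sup_right hn))
    apply pResidual_le_of_pow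
    intro g
    have hg : (QuotientGroup.mk' N) g ∈ ((T : Subgroup H) ⊔ N).map (QuotientGroup.mk' N) :=
      Subgroup.mem_map_of_mem _ (h3 ▸ Subgroup.mem_top g)
    rw [Subgroup.map_sup, QuotientGroup.map_mk'_self, sup_bot_eq] at hg
    obtain ⟨k, hk⟩ := pel_of_mem (T.isPGroup'.map (QuotientGroup.mk' N)) hg
    refine ⟨k, ?_⟩
    rw [← map_pow] at hk
    exact (QuotientGroup.eq_one_iff _).mp hk

end Cfsg.Agent.S2831
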