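import Cfsg.Statements.S2832
import Mathlib

set_option autoImplicit false
open Cfsg

namespace Cfsg.Agent.S2832

theorem coatom_map {G Q : Type*} [Group G] [Group Q] (f : G →* Q) (hf : Function.Surjective f)
    (M : Subgroup G) (hM : IsCoatom M) (hk : f.ker ≤ M) : IsCoatom (M.map f) := by
  have hcm : (M.map f).comap f = M := by
    rw [Subgroup.comap_map_eq, sup_eq_left.mpr hk]
  refine ⟨?_, ?_⟩
  · intro htop
    rw [htop, Subgroup.comap_top] at hcm
    exact hM.1 hcm.symm
  · intro b hb
    have h1 : (M.map f).comap f < b.comap f := (Subgroup.comap_lt_comap_of_surjective hf).mpr hb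
    rw [hcm] at h1
    have h2 := hM.2 _ h1
    rw [← Subgroup.map_comap_eq_self_of_surjective hf b, h2, Subgroup.map_top_of_surjective f hf]

theorem coatom_comap {G Q : Type*} [Group G] [Group Q] (f : G →* Q) (hf : Function.Surjective f)
    (X : Subgroup Q) (hX : IsCoatom X) : IsCoatom (X.comap f) := by
  refine ⟨?_, ?_⟩
  · intro htop
    have := Subgroup.map_comap_eq_self_of_surjective hf X
    rw [htop, Subgroup.map_top_of_surjective f hf] at this
    exact hX.1 this.symm
  · intro Z hZ
    have hk : f.ker ≤ Z := (Subgroup.ker_le_comap f X).trans hZ.le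
    have hcm : (Z.map f).comap f = Z := by
      rw [Subgroup.comap_map_eq, sup_eq_left.mpr hk]
    rw [← hcm] at hZ
    have h1 : X < Z.map f := (Subgroup.comap_lt_comap_of_surjective hf).mp hZ
    have h2 := hX.2 _ h1
    rw [← hcm, h2, Subgroup.comap_top]

/-- Let H be a finite group with Sylow p-subgroup T such that H is T-minimal (generated by the conjugates of T, with T in exactly one maximal subgroup), and let N be a normal subgroup of H. Then either H/N is a p-group or H/N is minimal over the image of T in the same sense. -/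
theorem result {H : Type*} [Group H] [Finite H] {p : ℕ} [Fact p.Prime] (T : Sylow p H) (hmin : Cfsg.IsMinimalOver (T : Subgroup H)) (N : Subgroup H) [N.Normal] : IsPGroup p (H ⧸ N) ∨ Cfsg.IsMinimalOver ((T : Subgroup H).map (QuotientGroup.mk' N)) := by
  set π := QuotientGroup.mk' N with hπ
  have hsurj : Function.Surjective π := QuotientGroup.mk'_surjective N
  have hker : π.ker = N := QuotientGroup.ker_mk' N
  by_cases hTN : (T : Subgroup H) ⊔ N = ⊤
  · left
    have hmap : (T : Subgroup H).map π = ⊤ := by
      have h1 : ((T : Subgroup H) ⊔ N).map π = ⊤ := by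
        rw [hTN, Subgroup.map_top_of_surjective π hsurj]
      rw [Subgroup.map_sup, QuotientGroup.map_mk'_self, sup_bot_eq] at h1
      exact h1
    have hp : IsPGroup p ((T : Subgroup H).map π) := T.2.map π
    intro g
    have hg : g ∈ (T : Subgroup H).map π := by rw [hmap]; exact Subgroup.mem_top g
    obtain ⟨k, hk⟩ := hp ⟨g, hg⟩
    refine ⟨k, ?_⟩
    have := congrArg Subtype.val hk
    simpa using this
  · right
    obtain ⟨M, ⟨hM, hTM⟩, huniq⟩ := hmin.2
    have hNM : N ≤ M := by
      rcases eq_top_or_exists_le_coatom ((T : Subgroup H) ⊔ N) with h | ⟨M', hM', hle⟩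
      · exact absurd h hTN
      · have : M' = M := huniq M' ⟨hM', le_sup_left.trans hle⟩
        rw [← this]; exact le_sup_right.trans hle
    refine ⟨?_, ?_⟩
    · have h1 := Subgroup.map_normalClosure ((T : Subgroup H) : Set H) π hsurj
      rw [hmin.1, Subgroup.map_top_of_surjective π hsurj] at h1
      rw [Subgroup.coe_map]
      exact h1.symm
    · refine ⟨M.map π, ⟨coatom_map π hsurj M hM (hker.le.trans hNM), Subgroup.map_mono hTM⟩, ?_⟩
      rintro X ⟨hX, hTX⟩
      have hco := coatom_comap π hsurj X hX
      have hT : (T : Subgroup H) ≤ X.comap π := Subgroup.map_le_iff_le_comap.mp hTX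
      have : X.comap π = M := huniq _ ⟨hco, hT⟩
      rw [← this, Subgroup.map_comap_eq_self_of_surjective hsurj]

end Cfsg.Agent.S2832
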