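import Cfsg.Statements.S2833
import Mathlib

set_option autoImplicit false
open Cfsg
open scoped Pointwise commutatorElement

namespace Cfsg.Agent.S2833

theorem comm_le_left {G : Type*} [Group G] (V X : Subgroup G)
    (hX : X ≤ Subgroup.normalizer (V : Set G)) : ⁅V, X⁆ ≤ V := by
  rw [Subgroup.commutator_le]
  intro v hv x hx
  have h1 : x * v⁻¹ * x⁻¹ ∈ V := (Subgroup.mem_normalizer_iff.mp (hX hx) v⁻¹).mp (V.inv_mem hv)
  have : ⁅v, x⁆ = v * (x * v⁻¹ * x⁻¹) := by rw [commutatorElement_def]; group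
  rw [this]
  exact V.mul_mem hv h1

theorem left_le_normalizer_comm {G : Type*} [Group G] (V X : Subgroup G) :
    V ≤ Subgroup.normalizer ((⁅V, X⁆ : Subgroup G) : Set G) := by
  rw [Subgroup.commutator_def, Subgroup.le_normalizer_closure_iff]
  rintro v' hv' _ ⟨v, hv, x, hx, rfl⟩
  have : v' * ⁅v, x⁆ * v'⁻¹ = ⁅v' * v, x⁆ * ⁅v', x⁆⁻¹ := by
    simp only [commutatorElement_def]; group
  rw [this, ← Subgroup.commutator_def]
  exact Subgroup.mul_mem _ (Subgroup.commutator_mem_commutator (V.mul_mem hv' hv) hx)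
    (Subgroup.inv_mem _ (Subgroup.commutator_mem_commutator hv' hx))

/-- the subgroup of elements normalizing `U` and acting trivially on `V` modulo `U` -/
def trivMod {G : Type*} [Group G] (V U : Subgroup G) : Subgroup G where
  carrier := {l | l ∈ Subgroup.normalizer (U : Set G) ∧ ∀ v ∈ V, ⁅v, l⁆ ∈ U}
  one_mem' := ⟨Subgroup.one_mem _, fun v _ => by simp⟩
  mul_mem' := by
    rintro a b ⟨ha, ha'⟩ ⟨hb, hb'⟩
    refine ⟨Subgroup.mul_mem _ ha hb, fun v hv => ?_⟩
    have : ⁅v, a * b⁆ = ⁅v, a⁆ * (a * ⁅v, b⁆ * a⁻¹) := by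
      simp only [commutatorElement_def]; group
    rw [this]
    exact U.mul_mem (ha' v hv) ((Subgroup.mem_normalizer_iff.mp ha _).mp (hb' v hv))
  inv_mem' := by
    rintro a ⟨ha, ha'⟩
    refine ⟨Subgroup.inv_mem _ ha, fun v hv => ?_⟩
    have : ⁅v, a⁻¹⁆ = a⁻¹ * (⁅v, a⁆)⁻¹ * a⁻¹⁻¹ := by
      simp only [commutatorElement_def]; group
    rw [this]
    exact (Subgroup.mem_normalizer_iff.mp (Subgroup.inv_mem _ ha) _).mp (U.inv_mem (ha' v hv))

theorem le_trivMod {G : Type*} [Group G] (V U X : Subgroup G) (hUV : U ≤ V)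
    (hXU : ⁅V, X⁆ ≤ U) : X ≤ trivMod V U := by
  intro x hx
  refine ⟨?_, fun v hv => hXU (Subgroup.commutator_mem_commutator hv hx)⟩
  have key : ∀ y ∈ X, ∀ u ∈ U, y * u * y⁻¹ ∈ U := by
    intro y hy u hu
    have : y * u * y⁻¹ = (⁅u, y⁆)⁻¹ * u := by
      simp only [commutatorElement_def]; group
    rw [this]
    exact U.mul_mem (U.inv_mem (hXU (Subgroup.commutator_mem_commutator (hUV hu) hy))) hu
  rw [Subgroup.mem_normalizer_iff]
  intro u
  refine ⟨key x hx u, fun h => ?_⟩
  have := key x⁻¹ (X.inv_mem hx) _ h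
  simpa [mul_assoc] using this

/-- Let V be a subgroup of a finite group G normalized by the subgroup L, let X ≤ L and g ∈ L with [V, X, X] = 1 and L generated by X and gXg⁻¹. Put W = [V, L]. Then W = [V, X]·[V, gXg⁻¹], C_W(X) = [V, X], and C_W(L) = [V, X] ∩ [V, gXg⁻¹]. -/
theorem result {G : Type*} [Group G] [Finite G] (V L : Subgroup G) (hLV : L ≤ Subgroup.normalizer (V : Set G)) (X : Subgroup G) (hX : X ≤ L) (g : G) (hg : g ∈ L) (hq : ⁅⁅V, X⁆, X⁆ = ⊥) (hgen : X ⊔ X.map (MulAut.conj g).toMonoidHom = L) (W : Subgroup G) (hW : W = ⁅V, L⁆) : ⁅V, X⁆ ⊔ ⁅V, X.map (MulAut.conj g).toMonoidHom⁆ = W ∧ W ⊓ Subgroup.centralizer (X : Set G) = ⁅V, X⁆ ∧ W ⊓ Subgroup.centralizer (L : Set G) = ⁅V, X⁆ ⊓ ⁅V, X.map (MulAut.conj g).toMonoidHom⁆ := by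
  set c : G →* G := (MulAut.conj g).toMonoidHom with hc
  set Xg : Subgroup G := X.map c with hXg
  set A : Subgroup G := ⁅V, X⁆ with hA
  set B : Subgroup G := ⁅V, Xg⁆ with hB
  have hXgL : Xg ≤ L := by rw [← hgen]; exact le_sup_right
  have hVg : V.map c = V := Subgroup.mem_normalizer_iff_map_conj_eq.mp (hLV hg)
  have hBA : B = A.map c := by
    rw [hA, Subgroup.map_commutator, hVg]
  have hAV : A ≤ V := comm_le_left V X (hX.trans hLV)
  have hBV : B ≤ V := comm_le_left V Xg (hXgL.trans hLV)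
  have hAC : A ≤ Subgroup.centralizer (X : Set G) :=
    Subgroup.commutator_eq_bot_iff_le_centralizer.mp hq
  have hq' : ⁅B, Xg⁆ = ⊥ := by
    rw [hBA, hXg, ← Subgroup.map_commutator, hq, Subgroup.map_bot]
  have hBC : B ≤ Subgroup.centralizer (Xg : Set G) :=
    Subgroup.commutator_eq_bot_iff_le_centralizer.mp hq'
  have hUV : A ⊔ B ≤ V := sup_le hAV hBV
  -- claim 1
  have h1 : A ⊔ B = W := by
    rw [hW]
    apply le_antisymm
    · exact sup_le (Subgroup.commutator_mono le_rfl hX) (Subgroup.commutator_mono le_rfl hXgL)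
    · have hL : L ≤ trivMod V (A ⊔ B) := by
        rw [← hgen]
        exact sup_le (le_trivMod V _ X hUV le_sup_left) (le_trivMod V _ Xg hUV le_sup_right)
      rw [Subgroup.commutator_le]
      intro v hv l hl
      exact (hL hl).2 v hv
  -- centralizing both X and Xg means centralizing L
  have hcent : ∀ b : G, b ∈ Subgroup.centralizer (X : Set G) → b ∈ Subgroup.centralizer (Xg : Set G) →
      b ∈ Subgroup.centralizer (L : Set G) := by
    intro b hb1 hb2
    have : L ≤ Subgroup.centralizer ({b} : Set G) := by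
      rw [← hgen]
      apply sup_le
      · intro x hx
        rw [Subgroup.mem_centralizer_iff]
        intro h hh
        rw [Set.mem_singleton_iff] at hh
        subst hh
        exact ((Subgroup.mem_centralizer_iff.mp hb1) x hx).symm
      · intro x hx
        rw [Subgroup.mem_centralizer_iff]
        intro h hh
        rw [Set.mem_singleton_iff] at hh
        subst hh
        exact ((Subgroup.mem_centralizer_iff.mp hb2) x hx).symm
    rw [Subgroup.mem_centralizer_iff]
    intro l hl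
    have := Subgroup.mem_centralizer_iff.mp (this hl) b rfl
    exact this.symm
  -- an element of B centralizing L lies in A
  have hBL : ∀ b : G, b ∈ B → b ∈ Subgroup.centralizer (L : Set G) → b ∈ A := by
    intro b hb hbL
    rw [hBA] at hb
    obtain ⟨a, ha, rfl⟩ := Subgroup.mem_map.mp hb
    have hcomm := Subgroup.mem_centralizer_iff.mp hbL g hg
    simp only [hc, MulEquiv.coe_toMonoidHom, MulAut.conj_apply] at hcomm ⊢
    have : g * a * g⁻¹ = a := by
      have h2 : g * (g * a * g⁻¹) = g * a := by rw [hcomm]; group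
      have h3 : g * a * g⁻¹ = g⁻¹ * (g * (g * a * g⁻¹)) := by group
      rw [h3, h2]; group
    rw [this]; exact ha
  -- an element of A centralizing L lies in B
  have hAL : ∀ a : G, a ∈ A → a ∈ Subgroup.centralizer (L : Set G) → a ∈ B := by
    intro a ha haL
    rw [hBA]
    refine Subgroup.mem_map.mpr ⟨a, ha, ?_⟩
    have hcomm := Subgroup.mem_centralizer_iff.mp haL g hg
    simp only [hc, MulEquiv.coe_toMonoidHom, MulAut.conj_apply]
    rw [hcomm]; group
  have hBnA : B ≤ Subgroup.normalizer (A : Set G) := hBV.trans (left_le_normalizer_comm V X)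
  have h2 : W ⊓ Subgroup.centralizer (X : Set G) = A := by
    apply le_antisymm
    · intro w hw
      obtain ⟨hwW, hwC⟩ := Subgroup.mem_inf.mp hw
      rw [← h1] at hwW
      have hset : ((A ⊔ B : Subgroup G) : Set G) = (A : Set G) * (B : Set G) :=
        Subgroup.coe_mul_of_right_le_normalizer_left A B hBnA
      have hw' : w ∈ (A : Set G) * (B : Set G) := by rw [← hset]; exact hwW
      obtain ⟨a, ha, b, hb, rfl⟩ := Set.mem_mul.mp hw'
      have hbX : b ∈ Subgroup.centralizer (X : Set G) := by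
        have : b = a⁻¹ * (a * b) := by group
        rw [this]
        exact Subgroup.mul_mem _ (Subgroup.inv_mem _ (hAC ha)) hwC
      have hbA : b ∈ A := hBL b hb (hcent b hbX (hBC hb))
      exact A.mul_mem ha hbA
    · exact le_inf (by rw [← h1]; exact le_sup_left) hAC
  refine ⟨h1, h2, ?_⟩
  apply le_antisymm
  · intro w hw
    obtain ⟨hwW, hwC⟩ := Subgroup.mem_inf.mp hw
    have hwX : w ∈ Subgroup.centralizer (X : Set G) := Subgroup.centralizer_le hX hwC
    have hwA : w ∈ A := by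
      rw [← h2]; exact Subgroup.mem_inf.mpr ⟨hwW, hwX⟩
    exact Subgroup.mem_inf.mpr ⟨hwA, hAL w hwA hwC⟩
  · intro w hw
    obtain ⟨hwA, hwB⟩ := Subgroup.mem_inf.mp hw
    refine Subgroup.mem_inf.mpr ⟨?_, hcent w (hAC hwA) (hBC hwB)⟩
    rw [← h1]; exact (le_sup_left : A ≤ A ⊔ B) hwA

end Cfsg.Agent.S2833
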