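import Cfsg.Statements.S2834
import Cfsg.Agent.Lib.Helper56.LLemma
import Mathlib

set_option autoImplicit false
open Cfsg
open Cfsg.Agent.Lib.Helper56
open scoped Pointwise commutatorElement

namespace Cfsg.Agent.S2834

/-- The L-Lemma: let H be a finite group with Sylow p-subgroup T such that H is T-minimal (generated by the conjugates of T, T in exactly one maximal subgroup M), and let A ≤ T with A not contained in O_p(H). Then there is a subgroup L of H containing A·O_p(H) such that (a) A·O_p(L) lies in exactly one maximal subgroup L₀ of L, and L₀ = L ∩ gMg⁻¹ for some g ∈ H; (b) L = ⟨A, xAx⁻¹⟩·O_p(L) for every x ∈ L outside L₀. -/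
theorem result {H : Type*} [Group H] [Finite H] {p : ℕ} [Fact p.Prime] (T : Sylow p H) (hmin : Cfsg.IsMinimalOver (T : Subgroup H)) (M : Subgroup H) (hM : IsCoatom M ∧ (T : Subgroup H) ≤ M) (A : Subgroup H) (hAT : A ≤ (T : Subgroup H)) (hA : ¬ A ≤ Cfsg.pCore p H) : ∃ L : Subgroup H, A ⊔ Cfsg.pCore p H ≤ L ∧ ∃ L₀ : Subgroup H, A ⊔ (Cfsg.pCoreOf p L) ≤ L₀ ∧ L₀ < L ∧ (∀ X : Subgroup H, A ⊔ (Cfsg.pCoreOf p L) ≤ X → X < L → X ≤ L₀) ∧ (∃ g : H, L₀ = L ⊓ ((M : Subgroup H).map (MulAut.conj (g : H)).toMonoidHom)) ∧ ∀ x ∈ L, x ∉ L₀ → (A ⊔ ((A : Subgroup H).map (MulAut.conj (x : H)).toMonoidHom)) ⊔ (Cfsg.pCoreOf p L) = L := by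
  obtain ⟨hnc, hex⟩ := hmin
  have huniq : ∀ K : Subgroup H, IsCoatom K → (T : Subgroup H) ≤ K → K = M := by
    intro K hK hTK
    exact hex.unique ⟨hK, hTK⟩ hM
  have hT : IsPMinTriple p (⊤ : Subgroup H) (T : Subgroup H) M := by
    refine ⟨⟨le_top, T.2, ?_⟩, lt_top_iff_ne_top.mpr hM.1.1, hM.2, ?_, ?_⟩
    · intro Q _ hQ hTQ
      exact T.3 hQ hTQ
    · intro X hX hTX
      obtain ⟨K, hK, hXK⟩ := (eq_top_or_exists_le_coatom X).resolve_left hX.ne
      rw [← huniq K hK (hTX.trans hXK)]; exact hXK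
    · intro hn
      have hMn : M.Normal := Subgroup.normalizer_eq_top_iff.mp (top_le_iff.mp hn)
      have h1 : Subgroup.normalClosure ((T : Subgroup H) : Set H) ≤ M :=
        Subgroup.normalClosure_le_normal hM.2
      rw [hnc] at h1
      exact hM.1.1 (top_le_iff.mp h1)
  have hA' : ¬ A ≤ Cfsg.pCoreOf p (⊤ : Subgroup H) := by rw [pCoreOf_top]; exact hA
  obtain ⟨L, g, -, hW⟩ := lLemma_main (Nat.card (⊤ : Subgroup H)) ⊤ T M A le_rfl hT le_top
    (T.2.to_le hAT) hA'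
  have w2 := hW.2.1
  rw [pCoreOf_top] at w2
  refine ⟨L, w2, L ⊓ M.map (MulAut.conj g).toMonoidHom, hW.2.2.2.1, hW.2.2.1, hW.2.2.2.2.1,
    ⟨g, rfl⟩, ?_⟩
  intro x hx hx0
  exact goodW0_gen hW hx hx0

end Cfsg.Agent.S2834
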