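import Cfsg.Statements.S2835
import Mathlib

set_option autoImplicit false
open Cfsg
open scoped Pointwise

namespace Cfsg.Agent.S2835

theorem key_le {L : Type*} [Group L] [Finite L] (L₀ : Subgroup L) (hL₀ : IsCoatom L₀)
    (Y : Subgroup L) (hY0 : Y ≤ L₀) (hmin : Cfsg.IsMinimalOver Y)
    (X : Subgroup L) (hYX : Y ≤ X) (hX : X ≠ ⊤) : X ≤ L₀ := by
  obtain ⟨M₀, ⟨_, _⟩, huniq⟩ := hmin.2
  rcases eq_top_or_exists_le_coatom X with h | ⟨M, hM, hXM⟩
  · exact absurd h hX
  · have h1 : L₀ = M₀ := huniq L₀ ⟨hL₀, hY0⟩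
    have h2 : M = M₀ := huniq M ⟨hM, hYX.trans hXM⟩
    rw [h1, ← h2]; exact hXM

theorem normal_eq_top {L : Type*} [Group L] (Y : Subgroup L) (hmin : Cfsg.IsMinimalOver Y)
    (N : Subgroup L) (hN : N.Normal) (hYN : Y ≤ N) : N = ⊤ := by
  have h := hmin.1
  have : Subgroup.normalClosure (Y : Set L) ≤ N := Subgroup.normalClosure_le_normal hYN
  rw [h] at this
  exact top_le_iff.mp this

theorem normal_pgroup_le_sylow {L : Type*} [Group L] [Finite L] {p : ℕ} [Fact p.Prime]
    (P : Sylow p L) (N : Subgroup L) (hN : N.Normal) (hNp : IsPGroup p N) : N ≤ (P : Subgroup L) := by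
  obtain ⟨P', hNP'⟩ := hNp.exists_le_sylow
  obtain ⟨g, hg⟩ := MulAction.exists_smul_eq L P' P
  have h1 : MulAut.conj g • N = N := Subgroup.Normal.conj_smul_eq_self g N
  have h2 : MulAut.conj g • N ≤ MulAut.conj g • (P' : Subgroup L) :=
    Subgroup.pointwise_smul_le_pointwise_smul_iff.mpr hNP'
  rw [h1] at h2
  rw [← hg, Sylow.coe_subgroup_smul]
  exact h2

theorem pCore_le_sylow {L : Type*} [Group L] [Finite L] {p : ℕ} [Fact p.Prime]
    (P : Sylow p L) : Cfsg.pCore p L ≤ (P : Subgroup L) := by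
  unfold Cfsg.pCore
  apply sSup_le
  rintro N ⟨hN, hNp⟩
  exact normal_pgroup_le_sylow P N hN hNp

/-- Let L be a finite group, L₀ a maximal subgroup, T a Sylow p-subgroup of L₀ and Y ≤ T, and suppose L is Y-minimal (generated by the conjugates of Y, with Y in exactly one maximal subgroup, necessarily L₀). Then N_L(T) ≤ L₀, O_p(L) ≤ L₀ and T is a Sylow p-subgroup of L; N_L(L₀) = L₀; L = ⟨Y, gYg⁻¹⟩ for each g ∈ L outside L₀; and if Y is abelian then Y ∩ gYg⁻¹ = C_Y(L) for each such g. -/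
theorem result {L : Type*} [Group L] [Finite L] {p : ℕ} [Fact p.Prime] (L₀ : Subgroup L) (hL₀ : IsCoatom L₀) (T : Sylow p ↥L₀) (Y : Subgroup L) (hYT : Y ≤ (T : Subgroup ↥L₀).map L₀.subtype) (hmin : Cfsg.IsMinimalOver Y) : Subgroup.normalizer (((T : Subgroup ↥L₀).map L₀.subtype : Subgroup L) : Set L) ≤ L₀ ∧ Cfsg.pCore p L ≤ L₀ ∧ (∃ P : Sylow p L, (P : Subgroup L) = (T : Subgroup ↥L₀).map L₀.subtype) ∧ Subgroup.normalizer (L₀ : Set L) = L₀ ∧ (∀ g : L, g ∉ L₀ → Y ⊔ Y.map (MulAut.conj g).toMonoidHom = ⊤) ∧ (IsMulCommutative ↥Y → ∀ g : L, g ∉ L₀ → Y ⊓ Y.map (MulAut.conj g).toMonoidHom = Y ⊓ Subgroup.center L) := by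
  set TL : Subgroup L := (T : Subgroup ↥L₀).map L₀.subtype with hTL
  have hTL0 : TL ≤ L₀ := Subgroup.map_subtype_le _
  have hY0 : Y ≤ L₀ := hYT.trans hTL0
  have hne : L₀ ≠ ⊤ := hL₀.1
  have K := key_le L₀ hL₀ Y hY0 hmin
  have N := normal_eq_top Y hmin
  have hTLp : IsPGroup p TL := T.2.map _
  -- (1)
  have h1 : Subgroup.normalizer (TL : Set L) ≤ L₀ := by
    apply K _ (hYT.trans Subgroup.le_normalizer)
    intro htop
    have hn : TL.Normal := Subgroup.normalizer_eq_top_iff.mp htop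
    have := N TL hn hYT
    rw [this] at hTL0
    exact hne (top_le_iff.mp hTL0)
  -- (3)
  have h3 : ∃ P : Sylow p L, (P : Subgroup L) = TL := by
    obtain ⟨P, hP⟩ := hTLp.exists_le_sylow
    refine ⟨P, ?_⟩
    set Q : Subgroup L := (P : Subgroup L) ⊓ Subgroup.normalizer (TL : Set L) with hQ
    have hQ0 : Q ≤ L₀ := inf_le_right.trans h1
    have hQp : IsPGroup p Q := P.2.to_le inf_le_left
    have hTQ : TL ≤ Q := le_inf hP Subgroup.le_normalizer
    have hQ' : IsPGroup p (Q.subgroupOf L₀) :=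
      hQp.comap_of_injective L₀.subtype L₀.subtype_injective
    have hTQ' : (T : Subgroup ↥L₀) ≤ Q.subgroupOf L₀ := by
      intro x hx
      rw [Subgroup.mem_subgroupOf]
      exact hTQ (Subgroup.mem_map_of_mem _ hx)
    have hEq : Q.subgroupOf L₀ = (T : Subgroup ↥L₀) := T.is_maximal' hQ' hTQ'
    have hQT : Q = TL := by
      rw [hTL, ← hEq, Subgroup.map_subgroupOf_eq_of_le hQ0]
    have : Group.IsNilpotent ↥(P : Subgroup L) := IsPGroup.isNilpotent P.2
    have hnc : NormalizerCondition ↥(P : Subgroup L) := Group.normalizerCondition_of_isNilpotent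
    rw [normalizerCondition_iff_only_full_group_self_normalizing] at hnc
    have hself : Subgroup.normalizer ((TL.subgroupOf (P : Subgroup L) : Subgroup ↥(P : Subgroup L)) : Set ↥(P : Subgroup L))
        = TL.subgroupOf (P : Subgroup L) := by
      rw [← Subgroup.subgroupOf_normalizer_eq hP]
      have : (Subgroup.normalizer (TL : Set L)).subgroupOf (P : Subgroup L)
          = Q.subgroupOf (P : Subgroup L) := by
        rw [hQ, Subgroup.inf_subgroupOf_left]
      rw [this, hQT]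
    have htop := hnc _ hself
    rw [Subgroup.subgroupOf_eq_top] at htop
    exact le_antisymm htop hP
  obtain ⟨P, hP⟩ := h3
  -- (4)
  have h4 : Subgroup.normalizer (L₀ : Set L) = L₀ := by
    apply le_antisymm _ Subgroup.le_normalizer
    apply K _ (hY0.trans Subgroup.le_normalizer)
    intro htop
    exact hne (N L₀ (Subgroup.normalizer_eq_top_iff.mp htop) hY0)
  -- (5)
  have h5 : ∀ g : L, g ∉ L₀ → Y ⊔ Y.map (MulAut.conj g).toMonoidHom = ⊤ := by
    intro g hg
    by_contra hne'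
    have hle := K _ le_sup_left hne'
    have hYg : Y.map (MulAut.conj g).toMonoidHom ≤ L₀ := le_sup_right.trans hle
    have hYM : Y ≤ L₀.map (MulAut.conj g⁻¹).toMonoidHom := by
      intro y hy
      rw [Subgroup.mem_map]
      refine ⟨g * y * g⁻¹, hYg (Subgroup.mem_map.mpr ⟨y, hy, by simp [MulAut.conj_apply]⟩), ?_⟩
      simp [MulAut.conj_apply]; group
    have hco : IsCoatom (L₀.map (MulAut.conj g⁻¹).toMonoidHom) := by
      have := (MulEquiv.mapSubgroup (MulAut.conj g⁻¹)).isCoatom_iff (a := L₀)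
      exact this.mpr hL₀
    obtain ⟨M₀, ⟨_, _⟩, huniq⟩ := hmin.2
    have e1 : L₀ = M₀ := huniq L₀ ⟨hL₀, hY0⟩
    have e2 : L₀.map (MulAut.conj g⁻¹).toMonoidHom = M₀ := huniq _ ⟨hco, hYM⟩
    have e3 : L₀.map (MulAut.conj g⁻¹).toMonoidHom = L₀ := by rw [e2, ← e1]
    have hgn : g⁻¹ ∈ Subgroup.normalizer (L₀ : Set L) :=
      Subgroup.mem_normalizer_iff_map_conj_eq.mpr e3
    rw [h4] at hgn
    exact hg (by simpa using L₀.inv_mem hgn)
  refine ⟨h1, ?_, ⟨P, hP⟩, h4, h5, ?_⟩
  · -- (2)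
    exact ((pCore_le_sylow P).trans hP.le).trans hTL0
  · -- (6)
    intro hcomm g hg
    have hc : ∀ a ∈ Y, ∀ b ∈ Y, a * b = b * a := by
      intro a ha b hb
      have := hcomm.is_comm.comm (⟨a, ha⟩ : ↥Y) ⟨b, hb⟩
      exact congrArg Subtype.val this
    apply le_antisymm
    · intro x hx
      obtain ⟨hxY, hxg⟩ := Subgroup.mem_inf.mp hx
      refine Subgroup.mem_inf.mpr ⟨hxY, ?_⟩
      have hcen : Y ⊔ Y.map (MulAut.conj g).toMonoidHom ≤ Subgroup.centralizer ({x} : Set L) := by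
        apply sup_le
        · intro y hy
          rw [Subgroup.mem_centralizer_iff]
          intro h hh
          rw [Set.mem_singleton_iff] at hh
          subst hh
          exact hc h hxY y hy
        · intro y hy
          rw [Subgroup.mem_centralizer_iff]
          intro h hh
          rw [Set.mem_singleton_iff] at hh
          subst hh
          obtain ⟨b, hb, rfl⟩ := Subgroup.mem_map.mp hy
          obtain ⟨a, ha, rfl⟩ := Subgroup.mem_map.mp hxg
          have := hc a ha b hb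
          simp only [MulEquiv.coe_toMonoidHom, MulAut.conj_apply]
          calc g * a * g⁻¹ * (g * b * g⁻¹) = g * (a * b) * g⁻¹ := by group
            _ = g * (b * a) * g⁻¹ := by rw [this]
            _ = g * b * g⁻¹ * (g * a * g⁻¹) := by group
      rw [h5 g hg] at hcen
      rw [Subgroup.mem_center_iff]
      intro z
      have hz : z ∈ Subgroup.centralizer ({x} : Set L) := hcen (Subgroup.mem_top z)
      rw [Subgroup.mem_centralizer_iff] at hz
      exact (hz x rfl).symm
    · intro x hx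
      obtain ⟨hxY, hxc⟩ := Subgroup.mem_inf.mp hx
      refine Subgroup.mem_inf.mpr ⟨hxY, ?_⟩
      rw [Subgroup.mem_map]
      refine ⟨x, hxY, ?_⟩
      rw [Subgroup.mem_center_iff] at hxc
      simp only [MulEquiv.coe_toMonoidHom, MulAut.conj_apply]
      rw [hxc g]; group

end Cfsg.Agent.S2835
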