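import Cfsg.Statements.S2836
import Cfsg.Agent.Lib.Helper56.WCharp
import Cfsg.Agent.S2835
import Cfsg.Agent.S2832
import Mathlib

set_option autoImplicit false
open Cfsg
open Cfsg.Agent.Lib.Helper56
open scoped Pointwise commutatorElement

namespace Cfsg.Agent.S2836

theorem index_eq_relIndex {L : Type*} [Group L] [Finite L] (N K : Subgroup L) [N.Normal]
    (h : K ⊔ N = ⊤) : K.index = K.relIndex N := by
  have e1 : N.relIndex (K ⊔ N) = N.relIndex K := Subgroup.relIndex_sup_right K N
  rw [h, Subgroup.relIndex_top_right] at e1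
  have e2 : (K ⊓ N).relIndex K * K.index = (K ⊓ N).index := Subgroup.relIndex_mul_index inf_le_left
  have e3 : (K ⊓ N).relIndex N * N.index = (K ⊓ N).index := Subgroup.relIndex_mul_index inf_le_right
  rw [Subgroup.inf_relIndex_left] at e2
  rw [Subgroup.inf_relIndex_right] at e3
  rw [← e1] at e2
  have hN0 : N.index ≠ 0 := Subgroup.index_ne_zero_of_finite
  have : N.index * K.index = N.index * K.relIndex N := by rw [e2, ← e3, mul_comm]
  exact Nat.eq_of_mul_eq_mul_left (Nat.pos_of_ne_zero hN0) this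

/-- if `L = K N` with `N` normal and every `p`-subgroup of `N` lies in `K`, then `K` contains a
conjugate of each Sylow `p`-subgroup of `L` -/
theorem exists_conj_le_of_sup {L : Type*} [Group L] [Finite L] {p : ℕ} [Fact p.Prime]
    (N K : Subgroup L) [N.Normal] (h : K ⊔ N = ⊤)
    (hN : ∀ X : Subgroup L, X ≤ N → IsPGroup p X → X ≤ K) (P : Sylow p L) :
    ∃ g : L, ∀ t ∈ (P : Subgroup L), g⁻¹ * t * g ∈ K := by
  have hidx : ¬ p ∣ K.index := by
    rw [index_eq_relIndex N K h]
    obtain ⟨P'⟩ : Nonempty (Sylow p ↥N) := inferInstance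
    have hle : (P' : Subgroup ↥N) ≤ K.subgroupOf N := by
      intro x hx
      rw [Subgroup.mem_subgroupOf]
      exact hN ((P' : Subgroup ↥N).map N.subtype) (Subgroup.map_subtype_le _) (P'.2.map _)
        ⟨x, hx, rfl⟩
    intro hdvd
    exact P'.not_dvd_index (dvd_trans hdvd (Subgroup.index_dvd_of_le hle))
  obtain ⟨q, hq⟩ := IsPGroup.nonempty_fixed_point_of_prime_not_dvd_card P.2 (L ⧸ K)
    (by rw [← Subgroup.index_eq_card]; exact hidx)
  obtain ⟨g, rfl⟩ := QuotientGroup.mk_surjective q
  refine ⟨g, fun t ht => ?_⟩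
  have h1 := hq ⟨t, ht⟩
  have h2 : ((t * g : L) : L ⧸ K) = (g : L ⧸ K) := h1
  rw [QuotientGroup.eq] at h2
  have := K.inv_mem h2
  simpa [mul_assoc] using this


/-- Let L be a finite group, L₀ a maximal subgroup, T a Sylow p-subgroup of L₀, Y ≤ T, and suppose L is Y-minimal. Let D be the intersection of the conjugates of L₀ (the core of L₀). Then D contains O_p(L) and D/O_p(L) is the Frattini subgroup of L/O_p(L), so D is p-closed; and every normal subgroup N of L contained in L₀ is p-closed with N/O_p(N) a nilpotent group of order prime to p. -/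
theorem result {L : Type*} [Group L] [Finite L] {p : ℕ} [Fact p.Prime] (L₀ : Subgroup L) (hL₀ : IsCoatom L₀) (T : Sylow p ↥L₀) (Y : Subgroup L) (hYT : Y ≤ (T : Subgroup ↥L₀).map L₀.subtype) (hmin : Cfsg.IsMinimalOver Y) : (Cfsg.pCore p L ≤ L₀.normalCore ∧ (L₀.normalCore).map (QuotientGroup.mk' (Cfsg.pCore p L)) = frattini (L ⧸ Cfsg.pCore p L) ∧ Cfsg.IsPClosed p ↥(L₀.normalCore)) ∧ ∀ (N : Subgroup L) [N.Normal], N ≤ L₀ → Cfsg.IsPClosed p ↥N ∧ Group.IsNilpotent (↥N ⧸ Cfsg.pCore p ↥N) ∧ (Nat.card (↥N ⧸ Cfsg.pCore p ↥N)).Coprime p := by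
  classical
  obtain ⟨hNT, hOL₀, ⟨P, hP⟩, hNL₀, -, -⟩ := Cfsg.Agent.S2835.result L₀ hL₀ T Y hYT hmin
  have hYP : Y ≤ (P : Subgroup L) := by rw [hP]; exact hYT
  have hY0 : Y ≤ L₀ := hYT.trans (Subgroup.map_subtype_le _)
  have hB1 : ∀ (N : Subgroup L), N.Normal → N ≤ L₀ → (N ⊓ (P : Subgroup L)).Normal ∧
      ∀ X : Subgroup L, X ≤ N → IsPGroup p X → X ≤ N ⊓ (P : Subgroup L) := by
    intro N hNn hNL
    have := hNn
    have hRp : IsPGroup p ((N ⊓ (P : Subgroup L)).subgroupOf N) :=
      (P.2.to_le inf_le_right).comap_of_injective N.subtype N.subtype_injective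
    obtain ⟨PN, hPN⟩ := hRp.exists_le_sylow
    have hR1 : N ⊓ (P : Subgroup L) ≤ (PN : Subgroup ↥N).map N.subtype := by
      intro x hx
      exact ⟨⟨x, (Subgroup.mem_inf.mp hx).1⟩, hPN (Subgroup.mem_subgroupOf.mpr hx), rfl⟩
    have hR2 : (PN : Subgroup ↥N).map N.subtype = N ⊓ (P : Subgroup L) := by
      obtain ⟨Q', hQ'⟩ := (PN.2.map N.subtype).exists_le_sylow
      obtain ⟨g, hg⟩ := MulAction.exists_smul_eq L P Q'
      have hconj : ((PN : Subgroup ↥N).map N.subtype).map (MulAut.conj g⁻¹).toMonoidHom ≤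
          N ⊓ (P : Subgroup L) := by
        rintro _ ⟨x, hx, rfl⟩
        refine Subgroup.mem_inf.mpr ⟨?_, ?_⟩
        · have hxN : x ∈ N := Subgroup.map_subtype_le _ hx
          have := hNn.conj_mem x hxN g⁻¹
          simpa using this
        · have h1 : x ∈ ((g • P : Sylow p L) : Subgroup L) := by rw [hg]; exact hQ' hx
          rw [mem_smul_sylow] at h1
          simpa using h1
      symm
      apply Subgroup.eq_of_le_of_card_ge hR1
      calc Nat.card ↥((PN : Subgroup ↥N).map N.subtype)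
          = Nat.card ↥(((PN : Subgroup ↥N).map N.subtype).map (MulAut.conj g⁻¹).toMonoidHom) :=
            (Subgroup.card_map_of_injective (MulAut.conj g⁻¹).injective).symm
        _ ≤ Nat.card ↥(N ⊓ (P : Subgroup L)) := Subgroup.card_le_of_le hconj
    have hfr := Sylow.normalizer_sup_eq_top PN
    rw [hR2] at hfr
    have hYN : Y ≤ Subgroup.normalizer ((N ⊓ (P : Subgroup L) : Subgroup L) : Set L) := by
      refine hYP.trans (le_trans ?_ (normalizer_inf_le _ _))
      exact le_inf (by rw [Subgroup.normalizer_eq_top]; exact le_top) Subgroup.le_normalizer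
    have hnorm : (N ⊓ (P : Subgroup L)).Normal := by
      rw [← Subgroup.normalizer_eq_top_iff]
      by_contra hne
      have hle := Cfsg.Agent.S2835.key_le L₀ hL₀ Y hY0 hmin _ hYN hne
      have : (⊤ : Subgroup L) ≤ L₀ := by rw [← hfr]; exact sup_le hle hNL
      exact hL₀.1 (top_le_iff.mp this)
    refine ⟨hnorm, ?_⟩
    intro X hXN hXp
    obtain ⟨Q', hQ'⟩ := hXp.exists_le_sylow
    obtain ⟨g, hg⟩ := MulAction.exists_smul_eq L P Q'
    intro x hx
    have h1 : x ∈ ((g • P : Sylow p L) : Subgroup L) := by rw [hg]; exact hQ' hx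
    rw [mem_smul_sylow] at h1
    have h2 : g⁻¹ * x * g ∈ N := by
      have := hNn.conj_mem x (hXN hx) g⁻¹
      simpa using this
    have h3 := hnorm.conj_mem _ (Subgroup.mem_inf.mpr ⟨h2, h1⟩) g
    have e : g * (g⁻¹ * x * g) * g⁻¹ = x := by group
    rwa [e] at h3
  have hB2 : ∀ (N : Subgroup L), N.Normal → N ≤ L₀ → ∀ S : Sylow p ↥N,
      (S : Subgroup ↥N) = (N ⊓ (P : Subgroup L)).subgroupOf N := by
    intro N hNn hNL S
    obtain ⟨hn, hall⟩ := hB1 N hNn hNL
    have hle : (S : Subgroup ↥N) ≤ (N ⊓ (P : Subgroup L)).subgroupOf N := by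
      intro x hx
      rw [Subgroup.mem_subgroupOf]
      exact hall ((S : Subgroup ↥N).map N.subtype) (Subgroup.map_subtype_le _) (S.2.map _)
        ⟨x, hx, rfl⟩
    have hp : IsPGroup p ((N ⊓ (P : Subgroup L)).subgroupOf N) :=
      (P.2.to_le inf_le_right).comap_of_injective N.subtype N.subtype_injective
    exact (S.is_maximal' hp hle).symm
  have hD : (L₀.normalCore).Normal := inferInstance
  have hDL : L₀.normalCore ≤ L₀ := Subgroup.normalCore_le L₀
  have hOn : (Cfsg.pCore p L).Normal := pCore_normal' p L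
  have hA1 : Cfsg.pCore p L ≤ L₀.normalCore := by
    have := hOn
    exact Subgroup.normal_le_normalCore.mpr hOL₀
  have hclosed : ∀ (N : Subgroup L), N.Normal → N ≤ L₀ → Cfsg.IsPClosed p ↥N := by
    intro N hNn hNL S
    rw [hB2 N hNn hNL S]
    have := (hB1 N hNn hNL).1
    infer_instance
  have hA2 : (L₀.normalCore).map (QuotientGroup.mk' (Cfsg.pCore p L)) =
      frattini (L ⧸ Cfsg.pCore p L) := by
    have := hOn
    have hsurj := QuotientGroup.mk'_surjective (Cfsg.pCore p L)
    have hker : (QuotientGroup.mk' (Cfsg.pCore p L)).ker = Cfsg.pCore p L :=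
      QuotientGroup.ker_mk' _
    apply le_antisymm
    · simp_rw [frattini, Order.radical, le_iInf_iff]
      intro Kb hKb
      have hK : IsCoatom (Kb.comap (QuotientGroup.mk' (Cfsg.pCore p L))) :=
        Subgroup.isCoatom_comap_of_surjective hsurj hKb
      have hOK : Cfsg.pCore p L ≤ Kb.comap (QuotientGroup.mk' (Cfsg.pCore p L)) := by
        intro x hx
        rw [Subgroup.mem_comap]
        have : QuotientGroup.mk' (Cfsg.pCore p L) x = 1 := (QuotientGroup.eq_one_iff x).mpr hx
        rw [this]; exact Kb.one_mem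
      have hDK : L₀.normalCore ≤ Kb.comap (QuotientGroup.mk' (Cfsg.pCore p L)) := by
        by_contra hnot
        have htop : Kb.comap (QuotientGroup.mk' (Cfsg.pCore p L)) ⊔ L₀.normalCore = ⊤ := by
          apply hK.2 _
          exact lt_of_le_of_ne le_sup_left (fun h => hnot (by rw [h]; exact le_sup_right))
        obtain ⟨g, hg⟩ := exists_conj_le_of_sup (L₀.normalCore)
          (Kb.comap (QuotientGroup.mk' (Cfsg.pCore p L))) htop
          (fun X hXD hXp => ((hB1 _ hD hDL).2 X hXD hXp).trans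
            ((le_pCore' _ (hB1 _ hD hDL).1 (P.2.to_le inf_le_right)).trans hOK)) P
        have hYK : Y ≤ (Kb.comap (QuotientGroup.mk' (Cfsg.pCore p L))).map
            (MulAut.conj g).toMonoidHom := by
          intro y hy
          rw [mem_conj_iff]
          exact hg y (hYP hy)
        have hKg : IsCoatom ((Kb.comap (QuotientGroup.mk' (Cfsg.pCore p L))).map
            (MulAut.conj g).toMonoidHom) :=
          Cfsg.Agent.S2832.coatom_map (MulAut.conj g).toMonoidHom (MulAut.conj g).surjective _ hK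
            (by
              have : (MulAut.conj g).toMonoidHom.ker = ⊥ :=
                (MonoidHom.ker_eq_bot_iff _).mpr (MulAut.conj g).injective
              rw [this]; exact bot_le)
        obtain ⟨M₀, -, huniq⟩ := hmin.2
        have e1 := huniq _ ⟨hKg, hYK⟩
        have e2 := huniq L₀ ⟨hL₀, hY0⟩
        apply hnot
        intro d hd
        have hd' : g * d * g⁻¹ ∈ L₀ := hDL (hD.conj_mem d hd g)
        rw [e2, ← e1, mem_conj_iff] at hd'
        have e : g⁻¹ * (g * d * g⁻¹) * g = d := by group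
        rwa [e] at hd'
      calc (L₀.normalCore).map (QuotientGroup.mk' (Cfsg.pCore p L))
          ≤ (Kb.comap (QuotientGroup.mk' (Cfsg.pCore p L))).map
              (QuotientGroup.mk' (Cfsg.pCore p L)) := Subgroup.map_mono hDK
        _ ≤ Kb := Subgroup.map_comap_le _ _
    · have hL₀b : IsCoatom (L₀.map (QuotientGroup.mk' (Cfsg.pCore p L))) :=
        Cfsg.Agent.S2832.coatom_map _ hsurj L₀ hL₀ (by rw [hker]; exact hOL₀)
      have hF : (frattini (L ⧸ Cfsg.pCore p L)).comap (QuotientGroup.mk' (Cfsg.pCore p L)) ≤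
          L₀ := by
        calc (frattini (L ⧸ Cfsg.pCore p L)).comap (QuotientGroup.mk' (Cfsg.pCore p L))
            ≤ (L₀.map (QuotientGroup.mk' (Cfsg.pCore p L))).comap
                (QuotientGroup.mk' (Cfsg.pCore p L)) :=
              Subgroup.comap_mono (frattini_le_coatom hL₀b)
          _ = L₀ := by rw [Subgroup.comap_map_eq, hker, sup_eq_left.mpr hOL₀]
      have hFD : (frattini (L ⧸ Cfsg.pCore p L)).comap (QuotientGroup.mk' (Cfsg.pCore p L)) ≤
          L₀.normalCore := Subgroup.normal_le_normalCore.mpr hF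
      calc frattini (L ⧸ Cfsg.pCore p L)
          = ((frattini (L ⧸ Cfsg.pCore p L)).comap (QuotientGroup.mk' (Cfsg.pCore p L))).map
              (QuotientGroup.mk' (Cfsg.pCore p L)) :=
            (Subgroup.map_comap_eq_self_of_surjective hsurj _).symm
        _ ≤ (L₀.normalCore).map (QuotientGroup.mk' (Cfsg.pCore p L)) := Subgroup.map_mono hFD
  refine ⟨⟨hA1, hA2, hclosed _ hD hDL⟩, ?_⟩
  intro N hNn hNL
  refine ⟨hclosed N hNn hNL, ?_, ?_⟩
  · have := hOn
    have hND : N ≤ L₀.normalCore := Subgroup.normal_le_normalCore.mpr hNL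
    have hrange : ((QuotientGroup.mk' (Cfsg.pCore p L)).comp N.subtype).range ≤
        frattini (L ⧸ Cfsg.pCore p L) := by
      rintro _ ⟨x, rfl⟩
      rw [← hA2]
      exact ⟨(x : L), hND x.2, rfl⟩
    have : Group.IsNilpotent ↥(frattini (L ⧸ Cfsg.pCore p L)) := frattini_nilpotent
    have h1 : Group.IsNilpotent
        ↥((((QuotientGroup.mk' (Cfsg.pCore p L)).comp N.subtype).range).subgroupOf
          (frattini (L ⧸ Cfsg.pCore p L))) := inferInstance
    have h2 : Group.IsNilpotent ↥((QuotientGroup.mk' (Cfsg.pCore p L)).comp N.subtype).range :=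
      nilpotent_of_mulEquiv (Subgroup.subgroupOfEquivOfLe hrange)
    have h3 : Group.IsNilpotent
        (↥N ⧸ ((QuotientGroup.mk' (Cfsg.pCore p L)).comp N.subtype).ker) :=
      nilpotent_of_mulEquiv (QuotientGroup.quotientKerEquivRange _).symm
    have hker : ((QuotientGroup.mk' (Cfsg.pCore p L)).comp N.subtype).ker ≤ Cfsg.pCore p ↥N := by
      apply le_pCore' _ inferInstance
      intro x
      have hxO : ((x : ↥N) : L) ∈ Cfsg.pCore p L := by
        have := x.2
        rw [MonoidHom.mem_ker] at this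
        exact (QuotientGroup.eq_one_iff _).mp this
      obtain ⟨k, hk⟩ := (pCore_isPGroup' (G := L) p) ⟨_, hxO⟩
      refine ⟨k, ?_⟩
      apply Subtype.ext; apply Subtype.ext
      simpa using congrArg Subtype.val hk
    have : (Cfsg.pCore p ↥N).Normal := pCore_normal' p ↥N
    exact nilpotent_of_surjective
      (QuotientGroup.map _ (Cfsg.pCore p ↥N) (MonoidHom.id ↥N) hker)
      (QuotientGroup.map_surjective_of_surjective _ (Cfsg.pCore p ↥N) (MonoidHom.id ↥N)
        (QuotientGroup.mk_surjective) hker)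
  · obtain ⟨S⟩ : Nonempty (Sylow p ↥N) := inferInstance
    have hSn : (S : Subgroup ↥N).Normal := hclosed N hNn hNL S
    have hcore : Cfsg.pCore p ↥N = (S : Subgroup ↥N) :=
      le_antisymm (pCore_le_sylow' S) (le_pCore' _ hSn S.2)
    have hidx : ¬ p ∣ (S : Subgroup ↥N).index := S.not_dvd_index
    rw [← Subgroup.index_eq_card, hcore]
    exact ((Fact.out : p.Prime).coprime_iff_not_dvd.mpr hidx).symm

end Cfsg.Agent.S2836
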