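import Cfsg.Statements.S2837
import Cfsg.Agent.Lib.Helper56.Frat
import Cfsg.Agent.S2835
import Mathlib

set_option autoImplicit false
open Cfsg
open Cfsg.Agent.Lib.Helper56
open scoped Pointwise commutatorElement

namespace Cfsg.Agent.S2837

theorem comm_prod_identity {G : Type*} [Group G] (b₁ b₂ c₁ c₂ : G) (hb : b₁ * b₂ = b₂ * b₁)
    (hc : c₁ * c₂ = c₂ * c₁) (hz₁ : ∀ x, x * ⁅b₁, c₂⁆ = ⁅b₁, c₂⁆ * x)
    (hz₂ : ∀ x, x * ⁅b₂, c₁⁆ = ⁅b₂, c₁⁆ * x) :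
    ⁅b₁ * c₁, b₂ * c₂⁆ = ⁅b₂, c₁⁆⁻¹ * ⁅b₁, c₂⁆ := by
  have e1 : c₁ * b₂ = ⁅b₂, c₁⁆⁻¹ * (b₂ * c₁) := by
    simp only [commutatorElement_def]; group
  have e2 : c₂ * b₁ = ⁅b₁, c₂⁆⁻¹ * (b₁ * c₂) := by
    simp only [commutatorElement_def]; group
  have hz₁' : ∀ x, x * ⁅b₁, c₂⁆⁻¹ = ⁅b₁, c₂⁆⁻¹ * x := by
    intro x
    have := hz₁ x
    calc x * ⁅b₁, c₂⁆⁻¹ = ⁅b₁, c₂⁆⁻¹ * (⁅b₁, c₂⁆ * x) * ⁅b₁, c₂⁆⁻¹ := by group
      _ = ⁅b₁, c₂⁆⁻¹ * (x * ⁅b₁, c₂⁆) * ⁅b₁, c₂⁆⁻¹ := by rw [this]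
      _ = ⁅b₁, c₂⁆⁻¹ * x := by group
  have hz₂' : ∀ x, x * ⁅b₂, c₁⁆⁻¹ = ⁅b₂, c₁⁆⁻¹ * x := by
    intro x
    have := hz₂ x
    calc x * ⁅b₂, c₁⁆⁻¹ = ⁅b₂, c₁⁆⁻¹ * (⁅b₂, c₁⁆ * x) * ⁅b₂, c₁⁆⁻¹ := by group
      _ = ⁅b₂, c₁⁆⁻¹ * (x * ⁅b₂, c₁⁆) * ⁅b₂, c₁⁆⁻¹ := by rw [this]
      _ = ⁅b₂, c₁⁆⁻¹ * x := by group
  have f1 : (b₁ * c₁) * (b₂ * c₂) = ⁅b₂, c₁⁆⁻¹ * (b₁ * b₂ * c₁ * c₂) := by
    calc (b₁ * c₁) * (b₂ * c₂) = b₁ * (c₁ * b₂) * c₂ := by group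
      _ = b₁ * (⁅b₂, c₁⁆⁻¹ * (b₂ * c₁)) * c₂ := by rw [e1]
      _ = (b₁ * ⁅b₂, c₁⁆⁻¹) * (b₂ * c₁ * c₂) := by group
      _ = (⁅b₂, c₁⁆⁻¹ * b₁) * (b₂ * c₁ * c₂) := by rw [hz₂' b₁]
      _ = ⁅b₂, c₁⁆⁻¹ * (b₁ * b₂ * c₁ * c₂) := by group
  have f2 : (b₂ * c₂) * (b₁ * c₁) = ⁅b₁, c₂⁆⁻¹ * (b₁ * b₂ * c₁ * c₂) := by
    calc (b₂ * c₂) * (b₁ * c₁) = b₂ * (c₂ * b₁) * c₁ := by group
      _ = b₂ * (⁅b₁, c₂⁆⁻¹ * (b₁ * c₂)) * c₁ := by rw [e2]
      _ = (b₂ * ⁅b₁, c₂⁆⁻¹) * (b₁ * c₂ * c₁) := by group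
      _ = (⁅b₁, c₂⁆⁻¹ * b₂) * (b₁ * c₂ * c₁) := by rw [hz₁' b₂]
      _ = ⁅b₁, c₂⁆⁻¹ * ((b₂ * b₁) * (c₂ * c₁)) := by group
      _ = ⁅b₁, c₂⁆⁻¹ * ((b₁ * b₂) * (c₁ * c₂)) := by rw [hb, hc]
      _ = ⁅b₁, c₂⁆⁻¹ * (b₁ * b₂ * c₁ * c₂) := by group
  have e : ⁅b₁ * c₁, b₂ * c₂⁆ = ((b₁ * c₁) * (b₂ * c₂)) * ((b₂ * c₂) * (b₁ * c₁))⁻¹ := by
    rw [commutatorElement_def]; group
  rw [e, f1, f2]
  group

/-- conjugation by `y ∈ Y` maps `(P ∩ Y)(P ∩ Y')` into itself when `P` is normal and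
normalizes `Y` -/
theorem norm_step {L : Type*} [Group L] (P Y Y' : Subgroup L) (hPn : P.Normal)
    (hPY : P ≤ Subgroup.normalizer (Y : Set L)) (y : L) (hy : y ∈ Y) :
    (P ⊓ Y ⊔ P ⊓ Y').map (MulAut.conj y).toMonoidHom ≤ P ⊓ Y ⊔ P ⊓ Y' := by
  rw [Subgroup.map_sup]
  apply sup_le
  · refine le_trans ?_ le_sup_left
    rintro _ ⟨b, hb, rfl⟩
    obtain ⟨hbP, hbY⟩ := Subgroup.mem_inf.mp hb
    have e : (MulAut.conj y).toMonoidHom b = y * b * y⁻¹ := by simp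
    rw [e]
    exact Subgroup.mem_inf.mpr ⟨hPn.conj_mem b hbP y, Y.mul_mem (Y.mul_mem hy hbY) (Y.inv_mem hy)⟩
  · rintro _ ⟨c, hc, rfl⟩
    obtain ⟨hcP, hcY'⟩ := Subgroup.mem_inf.mp hc
    have h1 : ⁅y, c⁆ ∈ P ⊓ Y := by
      refine Subgroup.mem_inf.mpr ⟨?_, ?_⟩
      · have h2 : y * c * y⁻¹ ∈ P := hPn.conj_mem c hcP y
        have e : ⁅y, c⁆ = (y * c * y⁻¹) * c⁻¹ := by rw [commutatorElement_def]
        rw [e]; exact P.mul_mem h2 (P.inv_mem hcP)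
      · have h2 : c * y⁻¹ * c⁻¹ ∈ Y :=
          (Subgroup.mem_normalizer_iff.mp (hPY hcP) y⁻¹).mp (Y.inv_mem hy)
        have e : ⁅y, c⁆ = y * (c * y⁻¹ * c⁻¹) := by rw [commutatorElement_def]; group
        rw [e]; exact Y.mul_mem hy h2
    have e : (MulAut.conj y).toMonoidHom c = ⁅y, c⁆ * c := by simp [commutatorElement_def]
    rw [e]
    exact Subgroup.mul_mem _ (le_sup_left (b := P ⊓ Y') h1) (le_sup_right (a := P ⊓ Y) hc)


/-- Let L be a finite group of characteristic p, L₀ a maximal subgroup, Y an elementary abelian p-subgroup of L₀ with L Y-minimal and O_p(L) ≤ N_L(Y). Put A = the normal closure of O_p(L) ∩ Y in L. Then for every g ∈ L outside L₀: Φ(A) = A' = [A ∩ Y, A] = [A ∩ Y, A ∩ gYg⁻¹] ≤ C_Y(L), and Y ∩ gYg⁻¹ = (A ∩ Y) ∩ (A ∩ gYg⁻¹) = C_Y(L) = C_A(L). -/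
theorem result {L : Type*} [Group L] [Finite L] {p : ℕ} [Fact p.Prime] (hchar : Subgroup.centralizer (Cfsg.pCore p L : Set L) ≤ Cfsg.pCore p L) (L₀ : Subgroup L) (hL₀ : IsCoatom L₀) (Y : Subgroup L) (hYL₀ : Y ≤ L₀) (hYel : Cfsg.IsElementaryAbelian p Y) (hmin : Cfsg.IsMinimalOver Y) (hOY : Cfsg.pCore p L ≤ Subgroup.normalizer (Y : Set L)) (A : Subgroup L) (hA : A = Subgroup.normalClosure (((Cfsg.pCore p L ⊓ Y : Subgroup L)) : Set L)) (g : L) (hg : g ∉ L₀) : (frattini ↥A).map A.subtype = ⁅A, A⁆ ∧ ⁅A, A⁆ = ⁅A ⊓ Y, A⁆ ∧ ⁅A ⊓ Y, A⁆ = ⁅A ⊓ Y, A ⊓ Y.map (MulAut.conj g).toMonoidHom⁆ ∧ ⁅A ⊓ Y, A⁆ ≤ Y ⊓ Subgroup.center L ∧ Y ⊓ Y.map (MulAut.conj g).toMonoidHom = Y ⊓ Subgroup.center L ∧ (A ⊓ Y) ⊓ (A ⊓ Y.map (MulAut.conj g).toMonoidHom) = Y ⊓ Subgroup.center L ∧ A ⊓ Subgroup.center L = Y ⊓ Subgroup.center L := by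
  classical
  have hYp : IsPGroup p Y := elemAb_isPGroup Y hYel
  have hYc : ∀ a ∈ Y, ∀ b ∈ Y, a * b = b * a := by
    intro a ha b hb
    have := hYel.1.is_comm.comm (⟨a, ha⟩ : Y) ⟨b, hb⟩
    exact congrArg Subtype.val this
  have hYp' : IsPGroup p (Y.subgroupOf L₀) :=
    hYp.comap_of_injective L₀.subtype L₀.subtype_injective
  obtain ⟨T, hT⟩ := hYp'.exists_le_sylow
  have hYT : Y ≤ (T : Subgroup ↥L₀).map L₀.subtype := by
    intro y hy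
    exact ⟨⟨y, hYL₀ hy⟩, hT (Subgroup.mem_subgroupOf.mpr hy), rfl⟩
  obtain ⟨-, -, -, -, hgen, hint⟩ := Cfsg.Agent.S2835.result L₀ hL₀ T Y hYT hmin
  have hgen' := hgen g hg
  have h5 := hint hYel.1 g hg
  have hPn : (Cfsg.pCore p L).Normal := pCore_normal' p L
  have hPp : IsPGroup p (Cfsg.pCore p L) := pCore_isPGroup' p
  have hPYg : Cfsg.pCore p L ≤
      Subgroup.normalizer ((Y.map (MulAut.conj g).toMonoidHom : Subgroup L) : Set L) := by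
    intro x hx
    rw [mem_normalizer_conj_iff]
    apply hOY
    have := hPn.conj_mem x hx g⁻¹
    simpa using this
  have hYgc : ∀ a ∈ Y.map (MulAut.conj g).toMonoidHom, ∀ b ∈ Y.map (MulAut.conj g).toMonoidHom,
      a * b = b * a := by
    intro a ha b hb
    rw [mem_conj_iff] at ha hb
    have := hYc _ ha _ hb
    calc a * b = g * ((g⁻¹ * a * g) * (g⁻¹ * b * g)) * g⁻¹ := by group
      _ = g * ((g⁻¹ * b * g) * (g⁻¹ * a * g)) * g⁻¹ := by rw [this]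
      _ = b * a := by group
  have hZc : ∀ z ∈ Y ⊓ Subgroup.center L, ∀ x : L, x * z = z * x := fun z hz x =>
    (Subgroup.mem_center_iff.mp (Subgroup.mem_inf.mp hz).2) x
  have hK1 : ∀ b ∈ Cfsg.pCore p L ⊓ Y,
      ∀ c ∈ Cfsg.pCore p L ⊓ Y.map (MulAut.conj g).toMonoidHom,
      ⁅b, c⁆ ∈ Y ⊓ Subgroup.center L := by
    intro b hb c hc
    obtain ⟨hbP, hbY⟩ := Subgroup.mem_inf.mp hb
    obtain ⟨hcP, hcYg⟩ := Subgroup.mem_inf.mp hc
    rw [← h5]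
    refine Subgroup.mem_inf.mpr ⟨?_, ?_⟩
    · have h1 : c * b⁻¹ * c⁻¹ ∈ Y :=
        (Subgroup.mem_normalizer_iff.mp (hOY hcP) b⁻¹).mp (Y.inv_mem hbY)
      have e : ⁅b, c⁆ = b * (c * b⁻¹ * c⁻¹) := by rw [commutatorElement_def]; group
      rw [e]; exact Y.mul_mem hbY h1
    · have h1 : b * c * b⁻¹ ∈ Y.map (MulAut.conj g).toMonoidHom :=
        (Subgroup.mem_normalizer_iff.mp (hPYg hbP) c).mp hcYg
      have e : ⁅b, c⁆ = (b * c * b⁻¹) * c⁻¹ := by rw [commutatorElement_def]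
      rw [e]; exact Subgroup.mul_mem _ h1 (Subgroup.inv_mem _ hcYg)
  have hBn : Cfsg.pCore p L ≤
      Subgroup.normalizer ((Cfsg.pCore p L ⊓ Y : Subgroup L) : Set L) :=
    le_trans (le_inf Subgroup.le_normalizer hOY) (normalizer_inf_le _ _)
  have hsupn : (Cfsg.pCore p L ⊓ Y ⊔
      Cfsg.pCore p L ⊓ Y.map (MulAut.conj g).toMonoidHom).Normal := by
    rw [← Subgroup.normalizer_eq_top_iff, eq_top_iff, ← hgen']
    apply sup_le
    · intro y hy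
      apply mem_normalizer_of_conj_eq
      apply conj_eq_of_le
      exact norm_step _ Y _ hPn hOY y hy
    · intro y hy
      apply mem_normalizer_of_conj_eq
      apply conj_eq_of_le
      have := norm_step (Cfsg.pCore p L) (Y.map (MulAut.conj g).toMonoidHom) Y hPn hPYg y hy
      rw [sup_comm] at this
      exact this
  have hA' : A = Cfsg.pCore p L ⊓ Y ⊔ Cfsg.pCore p L ⊓ Y.map (MulAut.conj g).toMonoidHom := by
    rw [hA]
    apply le_antisymm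
    · haveI := hsupn
      exact Subgroup.normalClosure_le_normal
        (fun x hx => le_sup_left (b := Cfsg.pCore p L ⊓ Y.map (MulAut.conj g).toMonoidHom) hx)
    · apply sup_le
      · exact Subgroup.subset_normalClosure
      · intro c hc
        obtain ⟨hcP, hcYg⟩ := Subgroup.mem_inf.mp hc
        rw [mem_conj_iff] at hcYg
        have h1 : g⁻¹ * c * g ∈ Cfsg.pCore p L ⊓ Y :=
          Subgroup.mem_inf.mpr ⟨by have := hPn.conj_mem c hcP g⁻¹; simpa using this, hcYg⟩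
        have h2 := (Subgroup.normalClosure_normal
          (s := ((Cfsg.pCore p L ⊓ Y : Subgroup L) : Set L))).conj_mem _
          (Subgroup.subset_normalClosure h1) g
        have e : g * (g⁻¹ * c * g) * g⁻¹ = c := by group
        rwa [e] at h2
  subst hA'
  have hAP : Cfsg.pCore p L ⊓ Y ⊔ Cfsg.pCore p L ⊓ Y.map (MulAut.conj g).toMonoidHom ≤
      Cfsg.pCore p L := sup_le inf_le_left inf_le_left
  have hAY : (Cfsg.pCore p L ⊓ Y ⊔ Cfsg.pCore p L ⊓ Y.map (MulAut.conj g).toMonoidHom) ⊓ Y =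
      Cfsg.pCore p L ⊓ Y :=
    le_antisymm (le_inf (inf_le_left.trans hAP) inf_le_right) (le_inf le_sup_left inf_le_right)
  have hAYg : (Cfsg.pCore p L ⊓ Y ⊔ Cfsg.pCore p L ⊓ Y.map (MulAut.conj g).toMonoidHom) ⊓
      Y.map (MulAut.conj g).toMonoidHom = Cfsg.pCore p L ⊓ Y.map (MulAut.conj g).toMonoidHom :=
    le_antisymm (le_inf (inf_le_left.trans hAP) inf_le_right) (le_inf le_sup_right inf_le_right)
  have hset : ((Cfsg.pCore p L ⊓ Y ⊔ Cfsg.pCore p L ⊓ Y.map (MulAut.conj g).toMonoidHom :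
      Subgroup L) : Set L) = ((Cfsg.pCore p L ⊓ Y : Subgroup L) : Set L) *
      ((Cfsg.pCore p L ⊓ Y.map (MulAut.conj g).toMonoidHom : Subgroup L) : Set L) :=
    Subgroup.coe_mul_of_right_le_normalizer_left _ _ (inf_le_left.trans hBn)
  have hdecomp : ∀ a ∈ Cfsg.pCore p L ⊓ Y ⊔ Cfsg.pCore p L ⊓ Y.map (MulAut.conj g).toMonoidHom,
      ∃ b ∈ Cfsg.pCore p L ⊓ Y, ∃ c ∈ Cfsg.pCore p L ⊓ Y.map (MulAut.conj g).toMonoidHom,
        b * c = a := by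
    intro a ha
    have ha' : a ∈ ((Cfsg.pCore p L ⊓ Y : Subgroup L) : Set L) *
      ((Cfsg.pCore p L ⊓ Y.map (MulAut.conj g).toMonoidHom : Subgroup L) : Set L) := by
      rw [← hset]; exact ha
    exact Set.mem_mul.mp ha'
  have hcomm1 : ⁅Cfsg.pCore p L ⊓ Y ⊔ Cfsg.pCore p L ⊓ Y.map (MulAut.conj g).toMonoidHom,
      Cfsg.pCore p L ⊓ Y ⊔ Cfsg.pCore p L ⊓ Y.map (MulAut.conj g).toMonoidHom⁆ ≤
      ⁅Cfsg.pCore p L ⊓ Y, Cfsg.pCore p L ⊓ Y.map (MulAut.conj g).toMonoidHom⁆ := by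
    rw [Subgroup.commutator_le]
    intro a₁ ha₁ a₂ ha₂
    obtain ⟨b₁, hb₁, c₁, hc₁, rfl⟩ := hdecomp a₁ ha₁
    obtain ⟨b₂, hb₂, c₂, hc₂, rfl⟩ := hdecomp a₂ ha₂
    rw [comm_prod_identity b₁ b₂ c₁ c₂ (hYc _ hb₁.2 _ hb₂.2) (hYgc _ hc₁.2 _ hc₂.2)
      (hZc _ (hK1 b₁ hb₁ c₂ hc₂)) (hZc _ (hK1 b₂ hb₂ c₁ hc₁))]
    exact Subgroup.mul_mem _ (Subgroup.inv_mem _ (Subgroup.commutator_mem_commutator hb₂ hc₁))
      (Subgroup.commutator_mem_commutator hb₁ hc₂)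
  have hcomm2 : ⁅Cfsg.pCore p L ⊓ Y, Cfsg.pCore p L ⊓ Y.map (MulAut.conj g).toMonoidHom⁆ ≤
      ⁅Cfsg.pCore p L ⊓ Y,
        Cfsg.pCore p L ⊓ Y ⊔ Cfsg.pCore p L ⊓ Y.map (MulAut.conj g).toMonoidHom⁆ :=
    Subgroup.commutator_mono le_rfl le_sup_right
  have hcomm3 : ⁅Cfsg.pCore p L ⊓ Y,
        Cfsg.pCore p L ⊓ Y ⊔ Cfsg.pCore p L ⊓ Y.map (MulAut.conj g).toMonoidHom⁆ ≤
      ⁅Cfsg.pCore p L ⊓ Y ⊔ Cfsg.pCore p L ⊓ Y.map (MulAut.conj g).toMonoidHom,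
      Cfsg.pCore p L ⊓ Y ⊔ Cfsg.pCore p L ⊓ Y.map (MulAut.conj g).toMonoidHom⁆ :=
    Subgroup.commutator_mono le_sup_left le_rfl
  have hZle : ⁅Cfsg.pCore p L ⊓ Y, Cfsg.pCore p L ⊓ Y.map (MulAut.conj g).toMonoidHom⁆ ≤
      Y ⊓ Subgroup.center L := by
    rw [Subgroup.commutator_le]
    exact fun b hb c hc => hK1 b hb c hc
  have hZP : Y ⊓ Subgroup.center L ≤ Cfsg.pCore p L := by
    apply le_pCore' _ _ (hYp.to_le inf_le_left)
    constructor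
    intro z hz x
    have := hZc z hz x
    have e : x * z * x⁻¹ = z := by rw [this]; group
    rw [e]; exact hz
  rw [hAY, hAYg]
  refine ⟨?_, le_antisymm (hcomm1.trans hcomm2) hcomm3, le_antisymm (hcomm3.trans hcomm1) hcomm2,
    (hcomm3.trans hcomm1).trans hZle, h5, ?_, ?_⟩
  · have hAp : IsPGroup p ↥(Cfsg.pCore p L ⊓ Y ⊔
        Cfsg.pCore p L ⊓ Y.map (MulAut.conj g).toMonoidHom) := hPp.to_le hAP
    have hexp : ∀ x : ↥(Cfsg.pCore p L ⊓ Y ⊔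
        Cfsg.pCore p L ⊓ Y.map (MulAut.conj g).toMonoidHom), x ^ p ∈ commutator _ := by
      intro x
      rw [← Abelianization.ker_of, MonoidHom.mem_ker, map_pow]
      obtain ⟨b, hb, c, hc, hbc⟩ := hdecomp (x : L) x.2
      have hbA : b ∈ Cfsg.pCore p L ⊓ Y ⊔
          Cfsg.pCore p L ⊓ Y.map (MulAut.conj g).toMonoidHom :=
        le_sup_left (b := Cfsg.pCore p L ⊓ Y.map (MulAut.conj g).toMonoidHom) hb
      have hcA : c ∈ Cfsg.pCore p L ⊓ Y ⊔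
          Cfsg.pCore p L ⊓ Y.map (MulAut.conj g).toMonoidHom :=
        le_sup_right (a := Cfsg.pCore p L ⊓ Y) hc
      have hx' : x = (⟨b, hbA⟩ : ↥(Cfsg.pCore p L ⊓ Y ⊔
          Cfsg.pCore p L ⊓ Y.map (MulAut.conj g).toMonoidHom)) * ⟨c, hcA⟩ := Subtype.ext hbc.symm
      have hbp : b ^ p = 1 := hYel.2 b hb.2
      have hcp : c ^ p = 1 := by
        have h1 : c ∈ Y.map (MulAut.conj g).toMonoidHom := (Subgroup.mem_inf.mp hc).2
        rw [mem_conj_iff] at h1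
        have h2 := hYel.2 _ h1
        have e : (g⁻¹ * c * g) ^ p = g⁻¹ * c ^ p * g := by
          have := conj_pow (a := g⁻¹) (b := c) (i := p)
          simpa using this
        rw [e] at h2
        calc c ^ p = g * (g⁻¹ * c ^ p * g) * g⁻¹ := by group
          _ = 1 := by rw [h2]; group
      rw [hx', map_mul, mul_pow, ← map_pow, ← map_pow]
      have e1 : (⟨b, hbA⟩ : ↥(Cfsg.pCore p L ⊓ Y ⊔
          Cfsg.pCore p L ⊓ Y.map (MulAut.conj g).toMonoidHom)) ^ p = 1 := Subtype.ext hbp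
      have e2 : (⟨c, hcA⟩ : ↥(Cfsg.pCore p L ⊓ Y ⊔
          Cfsg.pCore p L ⊓ Y.map (MulAut.conj g).toMonoidHom)) ^ p = 1 := Subtype.ext hcp
      rw [e1, e2, map_one, one_mul]
    have hfr : frattini ↥(Cfsg.pCore p L ⊓ Y ⊔
        Cfsg.pCore p L ⊓ Y.map (MulAut.conj g).toMonoidHom) = commutator _ :=
      le_antisymm (frattini_le_of_exponent_quotient _ le_rfl hexp)
        (commutator_le_frattini_of_pgroup hAp)
    rw [hfr, map_commutator_top']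
  · apply le_antisymm
    · rw [← h5]
      exact inf_le_inf inf_le_right inf_le_right
    · exact le_inf (le_inf hZP inf_le_left) (le_inf hZP (by rw [← h5]; exact inf_le_right))
  · apply le_antisymm
    · intro z hz
      obtain ⟨hzA, hzC⟩ := Subgroup.mem_inf.mp hz
      refine Subgroup.mem_inf.mpr ⟨?_, hzC⟩
      obtain ⟨b, hb, c, hc, rfl⟩ := hdecomp z hzA
      -- c is central
      have hcY : ∀ y ∈ Y, y * c = c * y := by
        intro y hy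
        have h1 := (Subgroup.mem_center_iff.mp hzC) y
        have h2 := hYc y hy b hb.2
        calc y * c = b⁻¹ * (y * (b * c)) := by rw [← mul_assoc y b c, h2]; group
          _ = b⁻¹ * ((b * c) * y) := by rw [h1]
          _ = c * y := by group
      have hcYg : ∀ y ∈ Y.map (MulAut.conj g).toMonoidHom, y * c = c * y :=
        fun y hy => hYgc y hy c hc.2
      have hcen : c ∈ Subgroup.center L := by
        rw [Subgroup.mem_center_iff]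
        intro x
        have hx : x ∈ Y ⊔ Y.map (MulAut.conj g).toMonoidHom := by
          rw [hgen']; exact Subgroup.mem_top x
        have hle : Y ⊔ Y.map (MulAut.conj g).toMonoidHom ≤
            Subgroup.centralizer ({c} : Set L) := by
          apply sup_le
          · intro y hy
            rw [Subgroup.mem_centralizer_iff]
            intro w hw
            rw [Set.mem_singleton_iff] at hw; subst hw
            exact (hcY y hy).symm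
          · intro y hy
            rw [Subgroup.mem_centralizer_iff]
            intro w hw
            rw [Set.mem_singleton_iff] at hw; subst hw
            exact (hcYg y hy).symm
        have := (Subgroup.mem_centralizer_iff.mp (hle hx)) c (Set.mem_singleton c)
        exact this.symm
      have hcY' : c ∈ Y := by
        have h1 : c ∈ Y.map (MulAut.conj g).toMonoidHom := (Subgroup.mem_inf.mp hc).2
        rw [mem_conj_iff] at h1
        have h2 := (Subgroup.mem_center_iff.mp hcen) g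
        have e : g⁻¹ * c * g = c := by
          calc g⁻¹ * c * g = g⁻¹ * (c * g) := by group
            _ = g⁻¹ * (g * c) := by rw [h2]
            _ = c := by group
        rwa [e] at h1
      exact Y.mul_mem hb.2 hcY'
    · exact le_inf ((le_inf hZP inf_le_left).trans le_sup_left) inf_le_right

end Cfsg.Agent.S2837
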