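import Cfsg.Statements.S2838
import Cfsg.Agent.Lib.Helper56.WeakClosed
import Mathlib

set_option autoImplicit false
open Cfsg
open Cfsg.Agent.Lib.Helper56
open scoped commutatorElement

namespace Cfsg.Agent.S2838

theorem sylow_conj_le_mem_normalizer {G : Type*} [Group G] {p : ℕ} (T : Sylow p G) (m : G)
    (h : ∀ t ∈ (T : Subgroup G), m * t * m⁻¹ ∈ (T : Subgroup G)) :
    m ∈ Subgroup.normalizer ((T : Subgroup G) : Set G) := by
  have hle : ((m • T : Sylow p G) : Subgroup G) ≤ T := by
    intro x hx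
    rw [mem_smul_sylow] at hx
    have := h _ hx
    have e : m * (m⁻¹ * x * m) * m⁻¹ = x := by group
    rw [e] at this; exact this
  have heq : (T : Subgroup G) = ((m • T : Sylow p G) : Subgroup G) := (m • T).is_maximal' T.2 hle
  exact Sylow.smul_eq_iff_mem_normalizer.mp (Sylow.ext heq.symm)

/-- if `x` normalizes `Q` then `g x g⁻¹` normalizes the conjugate of `Q` by `g` -/
theorem conj_mem_normalizer_conj {G : Type*} [Group G] (Q : Subgroup G) (g x : G)
    (hx : x ∈ Subgroup.normalizer (Q : Set G)) :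
    g * x * g⁻¹ ∈ Subgroup.normalizer ((Q.map (MulAut.conj g).toMonoidHom : Subgroup G) : Set G) := by
  have := Subgroup.le_normalizer_map (MulAut.conj g).toMonoidHom (H := Q)
    (Subgroup.mem_map_of_mem _ hx)
  have e : (MulAut.conj g).toMonoidHom x = g * x * g⁻¹ := by simp
  rw [e] at this
  exact this

/-- two subgroups normalizing each other have commutator inside their intersection -/
theorem comm_le_inf_of_normalize {G : Type*} [Group G] (A B : Subgroup G)
    (hA : A ≤ Subgroup.normalizer (B : Set G)) (hB : B ≤ Subgroup.normalizer (A : Set G)) :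
    ⁅A, B⁆ ≤ A ⊓ B := by
  rw [Subgroup.commutator_le]
  intro a ha b hb
  refine Subgroup.mem_inf.mpr ⟨?_, ?_⟩
  · have h1 : b * a⁻¹ * b⁻¹ ∈ A := (Subgroup.mem_normalizer_iff.mp (hB hb) a⁻¹).mp (A.inv_mem ha)
    have e : ⁅a, b⁆ = a * (b * a⁻¹ * b⁻¹) := by rw [commutatorElement_def]; group
    rw [e]; exact A.mul_mem ha h1
  · have h1 : a * b * a⁻¹ ∈ B := (Subgroup.mem_normalizer_iff.mp (hA ha) b).mp hb
    have e : ⁅a, b⁆ = (a * b * a⁻¹) * b⁻¹ := by rw [commutatorElement_def]
    rw [e]; exact B.mul_mem h1 (B.inv_mem hb)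

/-- if `[A, B] ≤ A` then `B` normalizes `A` -/
theorem le_normalizer_of_comm_le {G : Type*} [Group G] (A B : Subgroup G) (h : ⁅A, B⁆ ≤ A) :
    B ≤ Subgroup.normalizer (A : Set G) := by
  rw [Subgroup.le_normalizer_iff]
  intro b hb a ha
  have h1 : ⁅a⁻¹, b⁆ ∈ A := h (Subgroup.commutator_mem_commutator (A.inv_mem ha) hb)
  have e : b * a * b⁻¹ = a * ⁅a⁻¹, b⁆ := by rw [commutatorElement_def]; group
  rw [e]; exact A.mul_mem ha h1

/-- Under the commutator condition, every `p`-subgroup containing `Q` normalizes `Q`. -/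
theorem le_normalizer_of_prop {H : Type*} [Group H] [Finite H] {p : ℕ} [Fact p.Prime]
    (Q : Subgroup H)
    (hprop : ∀ g : H, ⁅Q, Q.map (MulAut.conj g).toMonoidHom⁆ ≤ Q ⊓ Q.map (MulAut.conj g).toMonoidHom →
      Q.map (MulAut.conj g).toMonoidHom = Q)
    (R : Subgroup H) (hR : IsPGroup p R) (hQR : Q ≤ R) : R ≤ Subgroup.normalizer (Q : Set H) := by
  have : Group.IsNilpotent ↥R := IsPGroup.isNilpotent hR
  have hnc : NormalizerCondition ↥R := Group.normalizerCondition_of_isNilpotent
  rw [normalizerCondition_iff_only_full_group_self_normalizing] at hnc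
  have hMR : Subgroup.normalizer (Q : Set H) ⊓ R ≤ R := inf_le_right
  have hQM : Q ≤ Subgroup.normalizer (Q : Set H) ⊓ R := le_inf Subgroup.le_normalizer hQR
  have hself : Subgroup.normalizer ((((Subgroup.normalizer (Q : Set H) ⊓ R).subgroupOf R : Subgroup ↥R)) : Set ↥R) =
      (Subgroup.normalizer (Q : Set H) ⊓ R).subgroupOf R := by
    apply le_antisymm _ Subgroup.le_normalizer
    rw [← Subgroup.subgroupOf_normalizer_eq hMR]
    intro t ht
    rw [Subgroup.mem_subgroupOf] at ht ⊢
    refine Subgroup.mem_inf.mpr ⟨?_, t.2⟩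
    apply mem_normalizer_of_conj_eq
    apply hprop
    -- Q and its conjugate by t both lie in M and normalize each other
    have hQt : Q.map (MulAut.conj (t : H)).toMonoidHom ≤ Subgroup.normalizer (Q : Set H) ⊓ R := by
      rintro _ ⟨q, hq, rfl⟩
      exact (Subgroup.mem_normalizer_iff.mp ht q).mp (hQM hq)
    apply comm_le_inf_of_normalize
    · intro q hq
      have h1 : (t : H)⁻¹ * q * (t : H)⁻¹⁻¹ ∈ Subgroup.normalizer (Q : Set H) ⊓ R :=
        (Subgroup.mem_normalizer_iff.mp (Subgroup.inv_mem _ ht) q).mp (hQM hq)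
      have h2 := conj_mem_normalizer_conj Q (t : H) _ (Subgroup.mem_inf.mp h1).1
      have e : (t : H) * ((t : H)⁻¹ * q * (t : H)⁻¹⁻¹) * (t : H)⁻¹ = q := by group
      rw [e] at h2; exact h2
    · exact hQt.trans inf_le_left
  have htop := hnc _ hself
  rw [Subgroup.subgroupOf_eq_top] at htop
  exact htop.trans inf_le_left

/-- For a nontrivial p-subgroup Q of a finite group H the following are equivalent: Q is a weakly closed subgroup (it is the only H-conjugate of itself inside some Sylow p-subgroup containing it); Q = P for every conjugate P of Q with [Q, P] ≤ Q ∩ P; Q is normal in N_H(R) for every p-subgroup R of H containing Q. -/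
theorem result {H : Type*} [Group H] [Finite H] {p : ℕ} [Fact p.Prime] (Q : Subgroup H) (hQp : IsPGroup p ↥Q) (hQ1 : Q ≠ ⊥) : (Cfsg.IsWeaklyClosedSubgroup p Q ↔ ∀ g : H, ⁅Q, ((Q : Subgroup H).map (MulAut.conj (g : H)).toMonoidHom)⁆ ≤ Q ⊓ ((Q : Subgroup H).map (MulAut.conj (g : H)).toMonoidHom) → ((Q : Subgroup H).map (MulAut.conj (g : H)).toMonoidHom) = Q) ∧ (Cfsg.IsWeaklyClosedSubgroup p Q ↔ ∀ R : Subgroup H, IsPGroup p ↥R → Q ≤ R → Subgroup.normalizer ((R : Subgroup H) : Set H) ≤ Subgroup.normalizer ((Q : Subgroup H) : Set H)) := by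
  obtain ⟨T, hQT⟩ := hQp.exists_le_sylow
  -- common part: if every p-subgroup containing Q normalizes Q, then T normalizes Q and its conjugates in T
  have hcommon : (∀ R : Subgroup H, IsPGroup p R → Q ≤ R → R ≤ Subgroup.normalizer (Q : Set H)) →
      ∀ g : H, Q.map (MulAut.conj g).toMonoidHom ≤ (T : Subgroup H) →
        (T : Subgroup H) ≤ Subgroup.normalizer (Q : Set H) ∧
        (T : Subgroup H) ≤ Subgroup.normalizer ((Q.map (MulAut.conj g).toMonoidHom : Subgroup H) : Set H) := by
    intro hN g hg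
    refine ⟨hN T T.2 hQT, ?_⟩
    have hR' : Q ≤ (T : Subgroup H).map (MulAut.conj g⁻¹).toMonoidHom :=
      (conj_map_le_iff Q T g).mp hg
    have h1 := hN _ (T.2.map _) hR'
    intro t ht
    have h2 := conj_mem_normalizer_conj Q g _ (h1 (conj_mem_conj (T : Subgroup H) g⁻¹ ht))
    have e : g * (g⁻¹ * t * g⁻¹⁻¹) * g⁻¹ = t := by group
    rw [e] at h2; exact h2
  refine ⟨⟨?_, ?_⟩, ⟨?_, ?_⟩⟩
  · intro hwc g hcomm
    have hn : Q.map (MulAut.conj g).toMonoidHom ≤ Subgroup.normalizer (Q : Set H) :=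
      le_normalizer_of_comm_le _ _ (hcomm.trans inf_le_left)
    have hR : IsPGroup p ↥(Q ⊔ Q.map (MulAut.conj g).toMonoidHom) :=
      IsPGroup.to_sup_of_normal_left' hQp (hQp.map _) hn
    exact wc_conj_eq hwc _ hR le_sup_left g le_sup_right
  · intro hprop
    refine ⟨T, hQT, fun g hg => ?_⟩
    obtain ⟨h1, h2⟩ := hcommon (le_normalizer_of_prop Q hprop) g hg
    apply hprop
    exact comm_le_inf_of_normalize _ _ (hQT.trans h2) (hg.trans h1)
  · intro hwc R hR hQR
    exact wc_normalizer_le hwc R hR hQR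
  · intro hprop2
    refine ⟨T, hQT, fun g hg => ?_⟩
    have hN : ∀ R : Subgroup H, IsPGroup p R → Q ≤ R → R ≤ Subgroup.normalizer (Q : Set H) :=
      fun R hR hQR => Subgroup.le_normalizer.trans (hprop2 R hR hQR)
    obtain ⟨h1, h2⟩ := hcommon hN g hg
    -- T and its conjugate by g both lie in N(Q^g)
    have h3 : (T : Subgroup H).map (MulAut.conj g).toMonoidHom ≤
        Subgroup.normalizer ((Q.map (MulAut.conj g).toMonoidHom : Subgroup H) : Set H) := by
      rintro _ ⟨t, ht, rfl⟩
      have := conj_mem_normalizer_conj Q g t (h1 ht)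
      simpa using this
    obtain ⟨n, hn, hconj⟩ := exists_conj_into_sylow _ T h2 _ h3 (T.2.map _)
    have hm : n⁻¹ * g ∈ Subgroup.normalizer ((T : Subgroup H) : Set H) := by
      apply sylow_conj_le_mem_normalizer
      intro t ht
      have := hconj _ (conj_mem_conj (T : Subgroup H) g ht)
      have e : n⁻¹ * g * t * (n⁻¹ * g)⁻¹ = n⁻¹ * (g * t * g⁻¹) * n := by group
      rw [e]; exact this
    have hmQ : n⁻¹ * g ∈ Subgroup.normalizer (Q : Set H) := hprop2 T T.2 hQT hm
    have h4 : Q.map (MulAut.conj (n⁻¹ * g)).toMonoidHom = Q := conj_eq_of_mem_normalizer Q _ hmQ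
    have h5 : (Q.map (MulAut.conj g).toMonoidHom).map (MulAut.conj n⁻¹).toMonoidHom =
        Q.map (MulAut.conj g).toMonoidHom :=
      conj_eq_of_mem_normalizer _ _ (Subgroup.inv_mem _ hn)
    rw [conj_map_map, h4] at h5
    exact h5.symm

end Cfsg.Agent.S2838
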