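import Cfsg.Statements.S2839
import Cfsg.Agent.Lib.Helper56.PRes
import Mathlib

set_option autoImplicit false
open Cfsg
open Cfsg.Agent.Lib.Helper56
open scoped Pointwise

namespace Cfsg.Agent.S2839

/-- Let Q be a nontrivial p-subgroup of the finite group H that is a weakly closed subgroup, K a subgroup containing Q and N a normal subgroup of H. Then Q is a weakly closed subgroup of K; every H-conjugate of Q contained in K is a K-conjugate of Q; N_K(Q) contains a Sylow p-subgroup of K; N = N_N(Q)·O^p(N); and QN/N is a weakly closed subgroup of H/N. -/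
theorem result {H : Type*} [Group H] [Finite H] {p : ℕ} [Fact p.Prime] (Q : Subgroup H) (hQp : IsPGroup p ↥Q) (hQ1 : Q ≠ ⊥) (hwc : Cfsg.IsWeaklyClosedSubgroup p Q) (K : Subgroup H) (hQK : Q ≤ K) (N' : Subgroup H) [N'.Normal] : Cfsg.IsWeaklyClosedSubgroup p (Q.subgroupOf K) ∧ (∀ g : H, ((Q : Subgroup H).map (MulAut.conj (g : H)).toMonoidHom) ≤ K → ∃ k ∈ K, ((Q : Subgroup H).map (MulAut.conj (g : H)).toMonoidHom) = ((Q : Subgroup H).map (MulAut.conj (k : H)).toMonoidHom)) ∧ Cfsg.IsParabolic p ((Subgroup.normalizer ((Q : Subgroup H) : Set H)).subgroupOf K) ∧ (N' ⊓ Subgroup.normalizer ((Q : Subgroup H) : Set H)) ⊔ (Cfsg.pResidual p ↥N').map N'.subtype = N' ∧ Cfsg.IsWeaklyClosedSubgroup p (Q.map (QuotientGroup.mk' N')) := by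
  have hQ' : IsPGroup p (Q.subgroupOf K) := hQp.comap_of_injective K.subtype K.subtype_injective
  obtain ⟨T, hT⟩ := hQ'.exists_le_sylow
  have hQR : Q ≤ (T : Subgroup ↥K).map K.subtype := by
    intro q hq
    exact Subgroup.mem_map.mpr ⟨⟨q, hQK hq⟩, hT (Subgroup.mem_subgroupOf.mpr hq), rfl⟩
  have hRp : IsPGroup p ((T : Subgroup ↥K).map K.subtype) := T.2.map _
  refine ⟨⟨T, hT, ?_⟩, fun g hg => wc_subgroup_conj hwc K hQK g hg, ⟨T, ?_⟩, ?_, ?_⟩
  · -- (1)
    intro k hk
    have h1 : Q.map (MulAut.conj (k : H)).toMonoidHom ≤ (T : Subgroup ↥K).map K.subtype := by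
      rintro _ ⟨q, hq, rfl⟩
      refine Subgroup.mem_map.mpr ⟨k * ⟨q, hQK hq⟩ * k⁻¹, hk ?_, by simp⟩
      exact conj_mem_conj (Q.subgroupOf K) k (Subgroup.mem_subgroupOf.mpr hq)
    have h2 := wc_conj_eq hwc _ hRp hQR (k : H) h1
    ext y
    rw [mem_conj_iff, Subgroup.mem_subgroupOf, Subgroup.mem_subgroupOf]
    have h3 := mem_conj_iff Q (k : H) (y : H)
    rw [h2] at h3
    rw [h3]
    simp
  · -- (3)
    intro x hx
    rw [Subgroup.mem_subgroupOf]
    exact wc_le_normalizer hwc _ hRp hQR (Subgroup.mem_map_of_mem K.subtype hx)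
  · -- (4)
    obtain ⟨S, hS⟩ := exists_invariant_sylow_self N' Q p hQp
    have hSp : IsPGroup p ((S : Subgroup ↥N').map N'.subtype) := S.2.map _
    have hR : IsPGroup p ↥(Q ⊔ (S : Subgroup ↥N').map N'.subtype) :=
      IsPGroup.to_sup_of_normal_right' hQp hSp hS
    have hSN : (S : Subgroup ↥N').map N'.subtype ≤ Subgroup.normalizer (Q : Set H) :=
      le_sup_right.trans (wc_le_normalizer hwc _ hR le_sup_left)
    have hgen := sylow_sup_pResidual_of p N' S
    apply le_antisymm
    · exact sup_le inf_le_left (Subgroup.map_subtype_le _)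
    · calc N' = (S : Subgroup ↥N').map N'.subtype ⊔ (Cfsg.pResidual p ↥N').map N'.subtype := hgen.symm
        _ ≤ _ := sup_le_sup_right (le_inf (Subgroup.map_subtype_le _) hSN) _
  · -- (5)
    obtain ⟨T₀, hQT₀⟩ := hQp.exists_le_sylow
    have hsurj : Function.Surjective (QuotientGroup.mk' N') := QuotientGroup.mk'_surjective N'
    refine ⟨T₀.mapSurjective hsurj, ?_, ?_⟩
    · rw [Sylow.coe_mapSurjective]
      exact Subgroup.map_mono hQT₀
    · intro gb hgb
      obtain ⟨g, rfl⟩ := hsurj gb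
      rw [Sylow.coe_mapSurjective, ← map_conj_map, Subgroup.map_le_iff_le_comap,
        Subgroup.comap_map_eq, QuotientGroup.ker_mk'] at hgb
      obtain ⟨k, hk, hgk⟩ := wc_subgroup_conj hwc _ (hQT₀.trans le_sup_left) g hgb
      have hk' : k ∈ ((T₀ : Subgroup H) : Set H) * (N' : Set H) := by
        rw [← Subgroup.mul_normal]; exact hk
      obtain ⟨t, ht, n, hn, rfl⟩ := Set.mem_mul.mp hk'
      have hπ : (QuotientGroup.mk' N') (t * n) = (QuotientGroup.mk' N') t := by
        rw [map_mul]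
        have : (QuotientGroup.mk' N') n = 1 := (QuotientGroup.eq_one_iff n).mpr hn
        rw [this, mul_one]
      have htQ : Q.map (MulAut.conj t).toMonoidHom = Q :=
        conj_eq_of_mem_normalizer Q t (wc_le_normalizer hwc _ T₀.2 hQT₀ ht)
      rw [← map_conj_map, hgk, map_conj_map, hπ, ← map_conj_map, htQ]

end Cfsg.Agent.S2839
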