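import Cfsg.Statements.S2840
import Cfsg.Agent.Lib.Helper56.PRes
import Mathlib

set_option autoImplicit false
open Cfsg
open Cfsg.Agent.Lib.Helper56
open scoped Pointwise

namespace Cfsg.Agent.S2840

theorem wc_subgroupOf {H : Type*} [Group H] [Finite H] {p : ℕ} [Fact p.Prime] (Q : Subgroup H)
    (hwc : Cfsg.IsWeaklyClosedSubgroup p Q) (K : Subgroup H) (hQK : Q ≤ K) :
    Cfsg.IsWeaklyClosedSubgroup p (Q.subgroupOf K) := by
  have hQp := wc_isPGroup hwc
  have hQ' : IsPGroup p (Q.subgroupOf K) := hQp.comap_of_injective K.subtype K.subtype_injective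
  obtain ⟨T, hT⟩ := hQ'.exists_le_sylow
  have hQR : Q ≤ (T : Subgroup ↥K).map K.subtype := by
    intro q hq
    exact Subgroup.mem_map.mpr ⟨⟨q, hQK hq⟩, hT (Subgroup.mem_subgroupOf.mpr hq), rfl⟩
  have hRp : IsPGroup p ((T : Subgroup ↥K).map K.subtype) := T.2.map _
  refine ⟨T, hT, ?_⟩
  intro k hk
  have h1 : Q.map (MulAut.conj (k : H)).toMonoidHom ≤ (T : Subgroup ↥K).map K.subtype := by
    rintro _ ⟨q, hq, rfl⟩
    refine Subgroup.mem_map.mpr ⟨k * ⟨q, hQK hq⟩ * k⁻¹, hk ?_, by simp⟩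
    exact conj_mem_conj (Q.subgroupOf K) k (Subgroup.mem_subgroupOf.mpr hq)
  have h2 := wc_conj_eq hwc _ hRp hQR (k : H) h1
  ext y
  rw [mem_conj_iff, Subgroup.mem_subgroupOf, Subgroup.mem_subgroupOf]
  have h3 := mem_conj_iff Q (k : H) (y : H)
  rw [h2] at h3
  rw [h3]
  simp

theorem wc_conj_le_subnormal {G : Type*} [Group G] [Finite G] {p : ℕ} [Fact p.Prime]
    {Q : Subgroup G} (hwc : Cfsg.IsWeaklyClosedSubgroup p Q) (X : Subgroup G)
    (hX : X.IsSubnormal) : Q ≤ X → ∀ g : G, Q.map (MulAut.conj g).toMonoidHom ≤ X := by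
  induction hX with
  | top => intro _ g; exact le_top
  | step X Y hXY hY hN ih =>
    intro hQX g
    have h1 := ih (hQX.trans hXY) g
    obtain ⟨y, hy, hgy⟩ := wc_subgroup_conj hwc Y (hQX.trans hXY) g h1
    rw [hgy]
    have hn : Y ≤ Subgroup.normalizer (X : Set G) :=
      (Subgroup.normal_subgroupOf_iff_le_normalizer hXY).mp hN
    rintro _ ⟨q, hq, rfl⟩
    exact (Subgroup.mem_normalizer_iff.mp (hn hy) q).mp (hQX hq)

theorem subnormalClosure_eq {G : Type*} [Group G] [Finite G] {p : ℕ} [Fact p.Prime]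
    {Q : Subgroup G} (hwc : Cfsg.IsWeaklyClosedSubgroup p Q) :
    Cfsg.subnormalClosure Q = ⨆ k : G, Q.map (MulAut.conj k).toMonoidHom := by
  unfold Cfsg.subnormalClosure
  apply le_antisymm
  · apply sInf_le
    refine ⟨?_, ?_⟩
    · have := le_iSup (fun k : G => Q.map (MulAut.conj k).toMonoidHom) 1
      simp only [conj_one_map] at this
      exact this
    · apply Subgroup.Normal.isSubnormal
      constructor
      intro n hn g
      have h1 : (MulAut.conj g).toMonoidHom n ∈
          (⨆ k : G, Q.map (MulAut.conj k).toMonoidHom).map (MulAut.conj g).toMonoidHom :=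
        Subgroup.mem_map_of_mem _ hn
      rw [Subgroup.map_iSup] at h1
      have h2 : (⨆ k : G, (Q.map (MulAut.conj k).toMonoidHom).map (MulAut.conj g).toMonoidHom) ≤
          ⨆ k : G, Q.map (MulAut.conj k).toMonoidHom := by
        apply iSup_le
        intro k
        rw [conj_map_map]
        exact le_iSup (fun k : G => Q.map (MulAut.conj k).toMonoidHom) (g * k)
      have h3 := h2 h1
      simpa using h3
  · apply le_sInf
    rintro X ⟨hQX, hX⟩
    exact iSup_le (fun k => wc_conj_le_subnormal hwc X hX hQX k)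

/-- Let Q be a nontrivial p-subgroup of the finite group H that is a weakly closed subgroup and K a subgroup containing Q; let K° be the weak closure of Q in K (generated by the H-conjugates of Q inside K). Then K° is generated by the K-conjugates of Q, and K° is the subnormal closure of Q in K. -/
theorem result {H : Type*} [Group H] [Finite H] {p : ℕ} [Fact p.Prime] (Q : Subgroup H) (hQp : IsPGroup p ↥Q) (hQ1 : Q ≠ ⊥) (hwc : Cfsg.IsWeaklyClosedSubgroup p Q) (K : Subgroup H) (hQK : Q ≤ K) (Kc : Subgroup H) (hKc : Kc = Cfsg.weakClosure Q K) : Kc = ⨆ k : ↥K, ((Q : Subgroup H).map (MulAut.conj ((k : H) : H)).toMonoidHom) ∧ Kc = (Cfsg.subnormalClosure (Q.subgroupOf K)).map K.subtype := by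
  have h1 : Kc = ⨆ k : ↥K, Q.map (MulAut.conj (k : H)).toMonoidHom := by
    rw [hKc]
    unfold Cfsg.weakClosure
    apply le_antisymm
    · apply iSup_le
      rintro ⟨g, hg⟩
      obtain ⟨k, hk, hgk⟩ := wc_subgroup_conj hwc K hQK g hg
      show Q.map (MulAut.conj g).toMonoidHom ≤ _
      rw [hgk]
      exact le_iSup (fun k : ↥K => Q.map (MulAut.conj (k : H)).toMonoidHom) ⟨k, hk⟩
    · apply iSup_le
      intro k
      have hk : Q.map (MulAut.conj (k : H)).toMonoidHom ≤ K := by
        rintro _ ⟨q, hq, rfl⟩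
        exact K.mul_mem (K.mul_mem k.2 (hQK hq)) (K.inv_mem k.2)
      exact le_iSup (fun g : {g : H // Q.map (MulAut.conj g).toMonoidHom ≤ K} =>
        Q.map (MulAut.conj (g : H)).toMonoidHom) ⟨(k : H), hk⟩
  refine ⟨h1, ?_⟩
  rw [h1, subnormalClosure_eq (wc_subgroupOf Q hwc K hQK), Subgroup.map_iSup]
  congr 1
  funext k
  rw [map_conj_map, Subgroup.map_subgroupOf_eq_of_le hQK]
  rfl

end Cfsg.Agent.S2840
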