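import Cfsg.Statements.S2841
import Cfsg.Agent.Lib.Helper56.PRes
import Mathlib

set_option autoImplicit false
open Cfsg
open Cfsg.Agent.Lib.Helper56
open scoped Pointwise commutatorElement

namespace Cfsg.Agent.S2841

theorem comm_le_left {G : Type*} [Group G] (V X : Subgroup G)
    (hX : X ≤ Subgroup.normalizer (V : Set G)) : ⁅V, X⁆ ≤ V := by
  rw [Subgroup.commutator_le]
  intro v hv x hx
  have h1 : x * v⁻¹ * x⁻¹ ∈ V := (Subgroup.mem_normalizer_iff.mp (hX hx) v⁻¹).mp (V.inv_mem hv)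
  have : ⁅v, x⁆ = v * (x * v⁻¹ * x⁻¹) := by rw [commutatorElement_def]; group
  rw [this]
  exact V.mul_mem hv h1

theorem left_le_normalizer_comm {G : Type*} [Group G] (V X : Subgroup G) :
    V ≤ Subgroup.normalizer ((⁅V, X⁆ : Subgroup G) : Set G) := by
  rw [Subgroup.commutator_def, Subgroup.le_normalizer_closure_iff]
  rintro v' hv' _ ⟨v, hv, x, hx, rfl⟩
  have : v' * ⁅v, x⁆ * v'⁻¹ = ⁅v' * v, x⁆ * ⁅v', x⁆⁻¹ := by
    simp only [commutatorElement_def]; group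
  rw [this, ← Subgroup.commutator_def]
  exact Subgroup.mul_mem _ (Subgroup.commutator_mem_commutator (V.mul_mem hv' hv) hx)
    (Subgroup.inv_mem _ (Subgroup.commutator_mem_commutator hv' hx))

theorem right_le_normalizer_comm {G : Type*} [Group G] (V X : Subgroup G) :
    X ≤ Subgroup.normalizer ((⁅V, X⁆ : Subgroup G) : Set G) := by
  rw [Subgroup.commutator_comm]
  exact left_le_normalizer_comm X V

/-- conjugating `Q` by an element `n` lands in `[N, Q] ⊔ Q` -/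
theorem conj_le_comm_sup {G : Type*} [Group G] (N Q : Subgroup G) (n : G) (hn : n ∈ N) :
    Q.map (MulAut.conj n).toMonoidHom ≤ ⁅N, Q⁆ ⊔ Q := by
  rintro _ ⟨q, hq, rfl⟩
  have e : (MulAut.conj n).toMonoidHom q = ⁅n, q⁆ * q := by
    simp [commutatorElement_def]
  rw [e]
  exact Subgroup.mul_mem _ (le_sup_left (a := ⁅N, Q⁆) (Subgroup.commutator_mem_commutator hn hq))
    (le_sup_right (a := ⁅N, Q⁆) hq)

/-- Let Q be a nontrivial p-subgroup of the finite group H that is a weakly closed subgroup and N a normal subgroup of H. Then N = N_N(Q)·[N, Q] and [N, Q] = (Q ∩ [N, Q])·[N, Q, Q]. -/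
theorem result {H : Type*} [Group H] [Finite H] {p : ℕ} [Fact p.Prime] (Q : Subgroup H) (hQp : IsPGroup p ↥Q) (hQ1 : Q ≠ ⊥) (hwc : Cfsg.IsWeaklyClosedSubgroup p Q) (N' : Subgroup H) [N'.Normal] : (∀ n : H, n ∈ N' → ∃ a ∈ N' ⊓ Subgroup.normalizer ((Q : Subgroup H) : Set H), ∃ b ∈ ⁅N', Q⁆, n = a * b) ∧ (∀ c : H, c ∈ ⁅N', Q⁆ → ∃ a ∈ Q ⊓ ⁅N', Q⁆, ∃ b ∈ ⁅⁅N', Q⁆, Q⁆, c = a * b) := by
  have f1 : ⁅N', Q⁆ ≤ N' := Subgroup.commutator_le_left N' Q
  have f2 : N' ≤ Subgroup.normalizer ((⁅N', Q⁆ : Subgroup H) : Set H) := left_le_normalizer_comm N' Q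
  have f3 : Q ≤ Subgroup.normalizer ((⁅N', Q⁆ : Subgroup H) : Set H) := right_le_normalizer_comm N' Q
  -- every N'-conjugate of Q is a conjugate by an element of [N', Q]
  have f5 : ∀ n ∈ N', ∃ c ∈ ⁅N', Q⁆,
      Q.map (MulAut.conj n).toMonoidHom = Q.map (MulAut.conj c).toMonoidHom := by
    intro n hn
    obtain ⟨k, hk, hnk⟩ := wc_subgroup_conj hwc (⁅N', Q⁆ ⊔ Q) le_sup_right n
      (conj_le_comm_sup N' Q n hn)
    have hset : ((⁅N', Q⁆ ⊔ Q : Subgroup H) : Set H) = ((⁅N', Q⁆ : Subgroup H) : Set H) * (Q : Set H) :=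
      Subgroup.coe_mul_of_right_le_normalizer_left _ Q f3
    have hk' : k ∈ ((⁅N', Q⁆ : Subgroup H) : Set H) * (Q : Set H) := by rw [← hset]; exact hk
    obtain ⟨c, hc, q, hq, rfl⟩ := Set.mem_mul.mp hk'
    refine ⟨c, hc, ?_⟩
    rw [hnk, ← conj_map_map, conj_eq_of_mem_normalizer Q q (Subgroup.le_normalizer hq)]
  refine ⟨?_, ?_⟩
  · intro n hn
    obtain ⟨c, hc, hnc⟩ := f5 n hn
    have ha : c⁻¹ * n ∈ N' ⊓ Subgroup.normalizer ((Q : Subgroup H) : Set H) := by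
      refine Subgroup.mem_inf.mpr ⟨N'.mul_mem (N'.inv_mem (f1 hc)) hn, ?_⟩
      apply mem_normalizer_of_conj_eq
      rw [← conj_map_map, hnc, conj_map_map]
      have e : c⁻¹ * c = 1 := by group
      rw [e, conj_one_map]
    refine ⟨c⁻¹ * n, ha, (c⁻¹ * n)⁻¹ * c * (c⁻¹ * n), ?_, by group⟩
    have hinv := Subgroup.inv_mem _ (f2 (Subgroup.mem_inf.mp ha).1)
    have := (Subgroup.mem_normalizer_iff.mp hinv c).mp hc
    simpa using this
  · -- second part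
    have g1 : ⁅⁅N', Q⁆, Q⁆ ≤ ⁅N', Q⁆ := comm_le_left _ Q f3
    have g2 : ⁅N', Q⁆ ≤ Subgroup.normalizer ((⁅⁅N', Q⁆, Q⁆ : Subgroup H) : Set H) :=
      left_le_normalizer_comm _ Q
    have g2' : Q ≤ Subgroup.normalizer ((⁅⁅N', Q⁆, Q⁆ : Subgroup H) : Set H) :=
      right_le_normalizer_comm _ Q
    -- [N',Q] normalizes Q ⊔ [N',Q,Q]
    have g3 : ∀ m ∈ ⁅N', Q⁆, (Q ⊔ ⁅⁅N', Q⁆, Q⁆).map (MulAut.conj m).toMonoidHom ≤ Q ⊔ ⁅⁅N', Q⁆, Q⁆ := by
      intro m hm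
      rw [Subgroup.map_sup]
      apply sup_le
      · refine (conj_le_comm_sup ⁅N', Q⁆ Q m hm).trans ?_
        rw [sup_comm]
      · rw [conj_eq_of_mem_normalizer _ m (g2 hm)]
        exact le_sup_right
    have g6 : ⁅N', Q⁆ ≤ Q ⊔ ⁅⁅N', Q⁆, Q⁆ := by
      rw [Subgroup.commutator_le]
      intro n hn q hq
      obtain ⟨c, hc, hnc⟩ := f5 n hn
      have h1 : n * q * n⁻¹ ∈ Q.map (MulAut.conj n).toMonoidHom := conj_mem_conj Q n hq
      rw [hnc] at h1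
      have h2 : Q.map (MulAut.conj c).toMonoidHom ≤ Q ⊔ ⁅⁅N', Q⁆, Q⁆ :=
        (Subgroup.map_mono le_sup_left).trans (g3 c hc)
      have e : ⁅n, q⁆ = (n * q * n⁻¹) * q⁻¹ := by rw [commutatorElement_def]
      rw [e]
      exact Subgroup.mul_mem _ (h2 h1) (Subgroup.inv_mem _ (le_sup_left (b := ⁅⁅N', Q⁆, Q⁆) hq))
    intro c hc
    have hset : ((Q ⊔ ⁅⁅N', Q⁆, Q⁆ : Subgroup H) : Set H) = (Q : Set H) * ((⁅⁅N', Q⁆, Q⁆ : Subgroup H) : Set H) :=
      Subgroup.coe_mul_of_left_le_normalizer_right Q _ g2'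
    have hc' : c ∈ (Q : Set H) * ((⁅⁅N', Q⁆, Q⁆ : Subgroup H) : Set H) := by
      rw [← hset]; exact g6 hc
    obtain ⟨q, hq, r, hr, rfl⟩ := Set.mem_mul.mp hc'
    refine ⟨q, Subgroup.mem_inf.mpr ⟨hq, ?_⟩, r, hr, rfl⟩
    have e : q = (q * r) * r⁻¹ := by group
    rw [e]
    exact Subgroup.mul_mem _ hc (Subgroup.inv_mem _ (g1 hr))

end Cfsg.Agent.S2841
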