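import Cfsg.Statements.S2842
import Cfsg.Agent.Lib.Helper56.WCharp
import Mathlib

set_option autoImplicit false
open Cfsg
open Cfsg.Agent.Lib.Helper56
open scoped Pointwise commutatorElement

namespace Cfsg.Agent.S2842

/-- Let Q be a nontrivial p-subgroup of the finite group H that is a weakly closed subgroup with C_H(Q) ≤ Q, and Q ≤ L ≤ H. Suppose H has characteristic p, or more generally that C_H(y) has characteristic p for some nonidentity y ∈ C_{O_p(L)}(Q). Then [Q, C_H(O_p(L))] ≤ Q ∩ O_p(L), C_H(O_p(L)) is a p-group, and L has characteristic p. -/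
theorem result {H : Type*} [Group H] [Finite H] {p : ℕ} [Fact p.Prime] (Q : Subgroup H) (hQp : IsPGroup p ↥Q) (hQ1 : Q ≠ ⊥) (hwc : Cfsg.IsWeaklyClosedSubgroup p Q) (hCQ : Subgroup.centralizer ((Q : Subgroup H) : Set H) ≤ Q) (L : Subgroup H) (hQL : Q ≤ L) (hyp : Subgroup.centralizer (Cfsg.pCore p H : Set H) ≤ Cfsg.pCore p H ∨ ∃ y : H, y ≠ 1 ∧ y ∈ (Cfsg.pCoreOf p L) ⊓ Subgroup.centralizer ((Q : Subgroup H) : Set H) ∧ Subgroup.centralizer (Cfsg.pCore p ↥(Subgroup.centralizer ({y} : Set H)) : Set ↥(Subgroup.centralizer ({y} : Set H))) ≤ Cfsg.pCore p ↥(Subgroup.centralizer ({y} : Set H))) : ⁅Q, Subgroup.centralizer (((Cfsg.pCoreOf p L) : Subgroup H) : Set H)⁆ ≤ Q ⊓ (Cfsg.pCoreOf p L) ∧ IsPGroup p ↥(Subgroup.centralizer (((Cfsg.pCoreOf p L) : Subgroup H) : Set H)) ∧ Subgroup.centralizer (Cfsg.pCore p ↥L : Set ↥L) ≤ Cfsg.pCore p ↥L := by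
  have hLY : L ≤ Subgroup.normalizer ((Cfsg.pCoreOf p L : Subgroup H) : Set H) :=
    le_normalizer_pCoreOf p L
  have hLD : L ≤ Subgroup.normalizer
      ((Subgroup.centralizer ((Cfsg.pCoreOf p L : Subgroup H) : Set H) : Subgroup H) : Set H) :=
    hLY.trans (normalizer_le_normalizer_centralizer _)
  -- Step A: a subgroup K of characteristic p containing Q and C(Y)
  obtain ⟨K, hKchar, hQK, hDK⟩ : ∃ K : Subgroup H,
      K ⊓ Subgroup.centralizer ((Cfsg.pCoreOf p K : Subgroup H) : Set H) ≤ Cfsg.pCoreOf p K ∧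
      Q ≤ K ∧ Subgroup.centralizer ((Cfsg.pCoreOf p L : Subgroup H) : Set H) ≤ K := by
    rcases hyp with h | ⟨y, hy1, hy, hchar⟩
    · refine ⟨⊤, ?_, le_top, le_top⟩
      rw [pCoreOf_top]; exact inf_le_right.trans h
    · refine ⟨Subgroup.centralizer ({y} : Set H), charp_of_subtype _ hchar, ?_, ?_⟩
      · intro q hq
        rw [Subgroup.mem_centralizer_iff]
        intro z hz; rw [Set.mem_singleton_iff] at hz; subst hz
        exact ((Subgroup.mem_centralizer_iff.mp (Subgroup.mem_inf.mp hy).2) q hq).symm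
      · intro d hd
        rw [Subgroup.mem_centralizer_iff]
        intro z hz; rw [Set.mem_singleton_iff] at hz; subst hz
        exact (Subgroup.mem_centralizer_iff.mp hd) z (Subgroup.mem_inf.mp hy).1
  -- Step B: Q ⊔ C(Y) has characteristic p
  have hL2K : Q ⊔ Subgroup.centralizer ((Cfsg.pCoreOf p L : Subgroup H) : Set H) ≤ K :=
    sup_le hQK hDK
  have hB := (wc_charp_key Q hwc hCQ
    (Q ⊔ Subgroup.centralizer ((Cfsg.pCoreOf p L : Subgroup H) : Set H)) le_sup_left
    (K ⊓ Subgroup.centralizer ((Cfsg.pCoreOf p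
      (Q ⊔ Subgroup.centralizer ((Cfsg.pCoreOf p L : Subgroup H) : Set H)) : Subgroup H) : Set H))
    inf_le_right (inf_le_inf_right _ hL2K)
    (by
      refine le_trans ?_ (normalizer_inf_le _ _)
      exact le_inf (hL2K.trans Subgroup.le_normalizer)
        ((le_normalizer_pCoreOf p _).trans (normalizer_le_normalizer_centralizer _)))
    (charp_centralizer K _ hKchar ((pCoreOf_le p _).trans hL2K) (pCoreOf_isPGroup p _))).2
  -- Step C: C(Y) has characteristic p
  have hC := charp_normal _ (Subgroup.centralizer ((Cfsg.pCoreOf p L : Subgroup H) : Set H)) hB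
    le_sup_right (sup_le (hQL.trans hLD) Subgroup.le_normalizer)
  -- Step D
  obtain ⟨hDp, hc⟩ := wc_charp_key Q hwc hCQ L hQL
    (Subgroup.centralizer ((Cfsg.pCoreOf p L : Subgroup H) : Set H)) le_rfl inf_le_right hLD hC
  -- Step E
  refine ⟨?_, hDp, charp_subtype' L hc⟩
  have hp2 : IsPGroup p
      (Q ⊔ Subgroup.centralizer ((Cfsg.pCoreOf p L : Subgroup H) : Set H) : Subgroup H) :=
    IsPGroup.to_sup_of_normal_right' hQp hDp (hQL.trans hLD)
  have hDQ : Subgroup.centralizer ((Cfsg.pCoreOf p L : Subgroup H) : Set H) ≤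
      Subgroup.normalizer (Q : Set H) :=
    le_sup_right.trans (wc_le_normalizer hwc _ hp2 le_sup_left)
  have h5 := comm_le_inf_of_normalize' Q _ (hQL.trans hLD) hDQ
  refine h5.trans (le_inf inf_le_left ?_)
  exact (inf_le_inf_right _ hQL).trans hc

end Cfsg.Agent.S2842
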