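import Cfsg.Statements.S2843
import Cfsg.Agent.Lib.Helper56.Large2
import Mathlib

set_option autoImplicit false
open Cfsg
open Cfsg.Agent.Lib.Helper56
open scoped Pointwise commutatorElement

namespace Cfsg.Agent.S2843

/-- Let Q be a nontrivial large p-subgroup of the finite group H, Q ≤ L ≤ H, and Y a nontrivial p-subgroup of H normalized by L. Let L° be the weak closure of Q in L (generated by the conjugates of Q inside L). Then L° equals the weak closure of Q in L·C_H(Y), and [L°, C_H(Y)] ≤ O_p(L°); in particular C_H(Y) normalizes L°. -/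
theorem result {H : Type*} [Group H] [Finite H] {p : ℕ} [Fact p.Prime] (Q : Subgroup H) (hQp : IsPGroup p ↥Q) (hQ1 : Q ≠ ⊥) (hL : Cfsg.IsLarge Q) (L : Subgroup H) (hQL : Q ≤ L) (Y : Subgroup H) (hYp : IsPGroup p ↥Y) (hY1 : Y ≠ ⊥) (hLY : L ≤ Subgroup.normalizer ((Y : Subgroup H) : Set H)) : Cfsg.weakClosure Q L = Cfsg.weakClosure Q (L ⊔ Subgroup.centralizer ((Y : Subgroup H) : Set H)) ∧ ⁅Cfsg.weakClosure Q L, Subgroup.centralizer ((Y : Subgroup H) : Set H)⁆ ≤ (Cfsg.pCoreOf p (Cfsg.weakClosure Q L)) ∧ Subgroup.centralizer ((Y : Subgroup H) : Set H) ≤ Subgroup.normalizer (((Cfsg.weakClosure Q L) : Subgroup H) : Set H) := by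
  have hwc := large_wc hL hQp hQ1
  have key : ∀ g : H, Q.map (MulAut.conj g).toMonoidHom ≤ Subgroup.normalizer (Y : Set H) →
      Subgroup.centralizer (Y : Set H) ≤
        Subgroup.normalizer ((Q.map (MulAut.conj g).toMonoidHom : Subgroup H) : Set H) :=
    fun g hg => large_centralizer_le_normalizer (large_conj hL g) (hQp.map _) Y hYp hY1 hg
  have hLC : L ≤ Subgroup.normalizer ((Subgroup.centralizer (Y : Set H) : Subgroup H) : Set H) :=
    hLY.trans (normalizer_le_normalizer_centralizer Y)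
  have hmemW : ∀ g : {g : H // Q.map (MulAut.conj g).toMonoidHom ≤ L},
      Q.map (MulAut.conj (g : H)).toMonoidHom ≤ Cfsg.weakClosure Q L := fun g =>
    le_iSup (fun g : {g : H // Q.map (MulAut.conj g).toMonoidHom ≤ L} =>
      Q.map (MulAut.conj (g : H)).toMonoidHom) g
  -- (c)
  have hc : Subgroup.centralizer (Y : Set H) ≤
      Subgroup.normalizer ((Cfsg.weakClosure Q L : Subgroup H) : Set H) := by
    intro c hc
    apply mem_normalizer_of_conj_eq
    unfold Cfsg.weakClosure
    rw [Subgroup.map_iSup]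
    congr 1
    funext g
    exact conj_eq_of_mem_normalizer _ c (key g (g.2.trans hLY) hc)
  -- (a)
  have ha : Cfsg.weakClosure Q L =
      Cfsg.weakClosure Q (L ⊔ Subgroup.centralizer (Y : Set H)) := by
    apply le_antisymm
    · apply iSup_le
      intro g
      exact le_iSup (fun g : {g : H // Q.map (MulAut.conj g).toMonoidHom ≤
        L ⊔ Subgroup.centralizer (Y : Set H)} => Q.map (MulAut.conj (g : H)).toMonoidHom)
        ⟨g.1, g.2.trans le_sup_left⟩
    · apply iSup_le
      rintro ⟨g, hg⟩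
      obtain ⟨k, hk, hgk⟩ := wc_subgroup_conj hwc (L ⊔ Subgroup.centralizer (Y : Set H))
        (hQL.trans le_sup_left) g hg
      have hset : ((Subgroup.centralizer (Y : Set H) ⊔ L : Subgroup H) : Set H) =
          ((Subgroup.centralizer (Y : Set H) : Subgroup H) : Set H) * (L : Set H) :=
        Subgroup.coe_mul_of_right_le_normalizer_left _ L hLC
      have hk' : k ∈ ((Subgroup.centralizer (Y : Set H) : Subgroup H) : Set H) * (L : Set H) := by
        rw [← hset, sup_comm]; exact hk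
      obtain ⟨c, hc', l, hl, rfl⟩ := Set.mem_mul.mp hk'
      have hQl : Q.map (MulAut.conj l).toMonoidHom ≤ L := by
        rintro _ ⟨q, hq, rfl⟩
        have e : (MulAut.conj l).toMonoidHom q = l * q * l⁻¹ := by simp
        rw [e]
        exact L.mul_mem (L.mul_mem hl (hQL hq)) (L.inv_mem hl)
      show Q.map (MulAut.conj g).toMonoidHom ≤ _
      rw [hgk, ← conj_map_map, conj_eq_of_mem_normalizer _ c (key l (hQl.trans hLY) hc')]
      exact hmemW ⟨l, hQl⟩
  -- (b)
  have hb : ⁅Cfsg.weakClosure Q L, Subgroup.centralizer (Y : Set H)⁆ ≤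
      Cfsg.pCoreOf p (Cfsg.weakClosure Q L) := by
    have hWL : Cfsg.weakClosure Q L ≤ L := iSup_le (fun g => g.2)
    have hWD : Cfsg.weakClosure Q L ≤ Subgroup.normalizer
        ((Cfsg.weakClosure Q L ⊓ Subgroup.centralizer (Y : Set H) : Subgroup H) : Set H) := by
      refine le_trans ?_ (normalizer_inf_le _ _)
      exact le_inf Subgroup.le_normalizer (hWL.trans hLC)
    have hDW : Cfsg.pCoreOf p (Cfsg.weakClosure Q L ⊓ Subgroup.centralizer (Y : Set H)) ≤
        Cfsg.pCoreOf p (Cfsg.weakClosure Q L) := by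
      apply le_pCoreOf _ _ ((pCoreOf_le p _).trans inf_le_left) _ (pCoreOf_isPGroup p _)
      exact hWD.trans (normalizer_le_normalizer_pCoreOf p _)
    have hgen : ∀ g : {g : H // Q.map (MulAut.conj g).toMonoidHom ≤ L},
        ∀ x ∈ Q.map (MulAut.conj (g : H)).toMonoidHom, ∀ c ∈ Subgroup.centralizer (Y : Set H),
          ⁅x, c⁆ ∈ Cfsg.pCoreOf p (Cfsg.weakClosure Q L) := by
      intro g x hx c hc'
      apply hDW
      have hCN := key g (g.2.trans hLY)
      have h1 : Q.map (MulAut.conj (g : H)).toMonoidHom ⊓ Subgroup.centralizer (Y : Set H) ≤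
          Cfsg.pCoreOf p (Cfsg.weakClosure Q L ⊓ Subgroup.centralizer (Y : Set H)) := by
        apply le_pCoreOf _ _ (inf_le_inf_right _ (hmemW g)) _ ((hQp.map _).to_le inf_le_left)
        refine le_trans ?_ (normalizer_inf_le _ _)
        exact le_inf (inf_le_right.trans hCN) (inf_le_right.trans Subgroup.le_normalizer)
      apply h1
      refine Subgroup.mem_inf.mpr ⟨?_, ?_⟩
      · have h2 : c * x⁻¹ * c⁻¹ ∈ Q.map (MulAut.conj (g : H)).toMonoidHom :=
          (Subgroup.mem_normalizer_iff.mp (hCN hc') x⁻¹).mp (Subgroup.inv_mem _ hx)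
        have e : ⁅x, c⁆ = x * (c * x⁻¹ * c⁻¹) := by rw [commutatorElement_def]; group
        rw [e]; exact Subgroup.mul_mem _ hx h2
      · have h2 : x * c * x⁻¹ ∈ Subgroup.centralizer (Y : Set H) :=
          (Subgroup.mem_normalizer_iff.mp (hLC (g.2 hx)) c).mp hc'
        have e : ⁅x, c⁆ = (x * c * x⁻¹) * c⁻¹ := by rw [commutatorElement_def]
        rw [e]; exact Subgroup.mul_mem _ h2 (Subgroup.inv_mem _ hc')
    rw [Subgroup.commutator_le]
    intro w hw
    have hWO : Cfsg.weakClosure Q L ≤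
        Subgroup.normalizer ((Cfsg.pCoreOf p (Cfsg.weakClosure Q L) : Subgroup H) : Set H) :=
      le_normalizer_pCoreOf p _
    have : w ∈ Cfsg.weakClosure Q L ∧ ∀ c ∈ Subgroup.centralizer (Y : Set H),
        ⁅w, c⁆ ∈ Cfsg.pCoreOf p (Cfsg.weakClosure Q L) := by
      refine Subgroup.iSup_induction (C := fun w => w ∈ Cfsg.weakClosure Q L ∧
        ∀ c ∈ Subgroup.centralizer (Y : Set H),
          ⁅w, c⁆ ∈ Cfsg.pCoreOf p (Cfsg.weakClosure Q L)) _ hw ?_ ?_ ?_
      · intro g x hx
        exact ⟨hmemW g hx, hgen g x hx⟩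
      · refine ⟨Subgroup.one_mem _, fun c hc' => ?_⟩
        rw [commutatorElement_one_left]; exact Subgroup.one_mem _
      · rintro a b ⟨haW, ha'⟩ ⟨hbW, hb'⟩
        refine ⟨Subgroup.mul_mem _ haW hbW, fun c hc' => ?_⟩
        have e : ⁅a * b, c⁆ = (a * ⁅b, c⁆ * a⁻¹) * ⁅a, c⁆ := by
          simp only [commutatorElement_def]; group
        rw [e]
        exact Subgroup.mul_mem _ ((Subgroup.mem_normalizer_iff.mp (hWO haW) _).mp (hb' c hc'))
          (ha' c hc')
    exact this.2
  exact ⟨ha, hb, hc⟩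

end Cfsg.Agent.S2843
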