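import Cfsg.Statements.S2844
import Cfsg.Agent.Lib.Helper56.Large
import Mathlib

set_option autoImplicit false
open Cfsg
open Cfsg.Agent.Lib.Helper56

namespace Cfsg.Agent.S2844

/-- Let Q be a nontrivial large p-subgroup of the finite group H and Q• = O_p(N_H(Q)). Then for every g ∈ H outside N_H(Q): C_H(Q) ∩ C_H(gQg⁻¹) = 1, C_H(Q•) ∩ C_H(gQ•g⁻¹) = 1, Z(Q) ∩ Z(gQg⁻¹) = 1 and Z(Q•) ∩ Z(gQ•g⁻¹) = 1; moreover N_H(Q) = N_H(Q•) and Q• is large in H. -/
theorem result {H : Type*} [Group H] [Finite H] {p : ℕ} [Fact p.Prime] (Q : Subgroup H) (hQp : IsPGroup p ↥Q) (hQ1 : Q ≠ ⊥) (hL : Cfsg.IsLarge Q) (Qb : Subgroup H) (hQb : Qb = Cfsg.largeBullet p Q) : (∀ g : H, g ∉ Subgroup.normalizer ((Q : Subgroup H) : Set H) → Subgroup.centralizer ((Q : Subgroup H) : Set H) ⊓ Subgroup.centralizer ((((Q : Subgroup H).map (MulAut.conj (g : H)).toMonoidHom) : Subgroup H) : Set H) = ⊥ ∧ Subgroup.centralizer ((Qb : Subgroup H) : Set H) ⊓ Subgroup.centralizer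 ((((Qb : Subgroup H).map (MulAut.conj (g : H)).toMonoidHom) : Subgroup H) : Set H) = ⊥ ∧ (Q ⊓ Subgroup.centralizer ((Q : Subgroup H) : Set H)) ⊓ (((Q : Subgroup H).map (MulAut.conj (g : H)).toMonoidHom) ⊓ Subgroup.centralizer ((((Q : Subgroup H).map (MulAut.conj (g : H)).toMonoidHom) : Subgroup H) : Set H)) = ⊥ ∧ (Qb ⊓ Subgroup.centralizer ((Qb : Subgroup H) : Set H)) ⊓ (((Qb : Subgroup H).map (MulAut.conj (g : H)).toMonoidHom) ⊓ Subgroup.centralizer ((((Qb : Subgroup H).map (MulAut.conj (g : H)).toMonoidHom) : Subgroup H) : Set H)) = ⊥) ∧ Subgroup.normalizer ((Q : Subgroup H) : Set H) = Subgroup.normalizer ((Qb : Subgroup H) : Set H) ∧ Cfsg.IsLarge Qb := by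
  subst hQb
  have h1 : Q ≤ Cfsg.largeBullet p Q :=
    le_pCoreOf (Subgroup.normalizer (Q : Set H)) Q Subgroup.le_normalizer le_rfl hQp
  have hQbp : IsPGroup p (Cfsg.largeBullet p Q) := pCoreOf_isPGroup p _
  have hQb1 : Cfsg.largeBullet p Q ≠ ⊥ := fun h => hQ1 (by rw [eq_bot_iff, ← h]; exact h1)
  have hC : Subgroup.centralizer ((Cfsg.largeBullet p Q : Subgroup H) : Set H) ≤
      Subgroup.centralizer (Q : Set H) := Subgroup.centralizer_le h1
  have hNN : Subgroup.normalizer (Q : Set H) =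
      Subgroup.normalizer ((Cfsg.largeBullet p Q : Subgroup H) : Set H) := by
    apply le_antisymm
    · exact le_normalizer_pCoreOf p _
    · have hZ1 := center_ne_bot_of_pgroup _ hQbp hQb1
      exact (normalizer_le_normalizer_center _).trans (hL.2 _ (inf_le_right.trans hC) hZ1)
  have hLb : Cfsg.IsLarge (Cfsg.largeBullet p Q) :=
    ⟨hC.trans (hL.1.trans h1), fun U hU hU1 => by rw [← hNN]; exact hL.2 U (hU.trans hC) hU1⟩
  refine ⟨fun g hg => ?_, hNN, hLb⟩
  have hA := large_centralizer_inf hL hQp hQ1 g hg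
  have hCg : Subgroup.centralizer
      (((Cfsg.largeBullet p Q).map (MulAut.conj g).toMonoidHom : Subgroup H) : Set H) ≤
      Subgroup.centralizer ((Q.map (MulAut.conj g).toMonoidHom : Subgroup H) : Set H) :=
    Subgroup.centralizer_le (Subgroup.map_mono h1)
  refine ⟨hA, ?_, ?_, ?_⟩
  · rw [eq_bot_iff, ← hA]; exact inf_le_inf hC hCg
  · rw [eq_bot_iff, ← hA]; exact inf_le_inf inf_le_right inf_le_right
  · rw [eq_bot_iff, ← hA]; exact inf_le_inf (inf_le_right.trans hC) (inf_le_right.trans hCg)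

end Cfsg.Agent.S2844
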