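import Cfsg.Statements.S2845
import Cfsg.Agent.Lib.Helper56.Large2
import Mathlib

set_option autoImplicit false
open Cfsg
open Cfsg.Agent.Lib.Helper56
open scoped Pointwise commutatorElement

namespace Cfsg.Agent.S2845

theorem pCoreOf_ne_bot {G : Type*} [Group G] {p : ℕ} (L : Subgroup G)
    (h : Cfsg.pCore p ↥L ≠ ⊥) : Cfsg.pCoreOf p L ≠ ⊥ := by
  unfold Cfsg.pCoreOf
  intro hbot
  apply h
  exact (Subgroup.map_eq_bot_iff_of_injective _ L.subtype_injective).mp hbot

theorem charp_subtype {G : Type*} [Group G] {p : ℕ} (L : Subgroup G)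
    (h : L ⊓ Subgroup.centralizer ((Cfsg.pCoreOf p L : Subgroup G) : Set G) ≤ Cfsg.pCoreOf p L) :
    Subgroup.centralizer (Cfsg.pCore p ↥L : Set ↥L) ≤ Cfsg.pCore p ↥L := by
  intro x hx
  have h1 : (x : G) ∈ L ⊓ Subgroup.centralizer ((Cfsg.pCoreOf p L : Subgroup G) : Set G) := by
    refine Subgroup.mem_inf.mpr ⟨x.2, ?_⟩
    rw [Subgroup.mem_centralizer_iff]
    intro y hy
    obtain ⟨hyL, hy'⟩ := (mem_pCoreOf_iff p L y).mp hy
    have := (Subgroup.mem_centralizer_iff.mp hx) ⟨y, hyL⟩ hy'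
    exact congrArg Subtype.val this
  obtain ⟨_, h2⟩ := (mem_pCoreOf_iff p L (x : G)).mp (h h1)
  exact h2

/-- a conjugate of the `p`-subgroup `Q` lies in a given Sylow `p`-subgroup -/
theorem exists_conj_le_sylow {G : Type*} [Group G] [Finite G] {p : ℕ} [Fact p.Prime]
    (Q : Subgroup G) (hQp : IsPGroup p Q) (T : Sylow p G) :
    ∃ g : G, Q.map (MulAut.conj g).toMonoidHom ≤ (T : Subgroup G) := by
  obtain ⟨P, hQP⟩ := hQp.exists_le_sylow
  obtain ⟨g, hg⟩ := MulAction.exists_smul_eq G P T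
  refine ⟨g, ?_⟩
  intro x hx
  rw [mem_conj_iff] at hx
  rw [← hg]
  exact (mem_smul_sylow P g x).mpr (hQP hx)


/-- Let Q be a nontrivial large p-subgroup of the finite group H. Then for every subgroup L ≥ Q with O_p(L) ≠ 1, C_H(O_p(L)) is a p-group and L has characteristic p, and either the weak closure L° of Q in L equals Q or C_H(L°) = 1; for every subgroup R of H containing a Sylow p-subgroup of H with O_p(R) ≠ 1, C_H(O_p(R)) ≤ O_p(R); and H has parabolic characteristic p. -/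
theorem result {H : Type*} [Group H] [Finite H] {p : ℕ} [Fact p.Prime] (Q : Subgroup H) (hQp : IsPGroup p ↥Q) (hQ1 : Q ≠ ⊥) (hL : Cfsg.IsLarge Q) : (∀ L : Subgroup H, Q ≤ L → Cfsg.pCore p ↥L ≠ ⊥ → IsPGroup p ↥(Subgroup.centralizer (((Cfsg.pCoreOf p L) : Subgroup H) : Set H)) ∧ Subgroup.centralizer (Cfsg.pCore p ↥L : Set ↥L) ≤ Cfsg.pCore p ↥L ∧ (Cfsg.weakClosure Q L = Q ∨ Subgroup.centralizer (((Cfsg.weakClosure Q L) : Subgroup H) : Set H) = ⊥)) ∧ (∀ R : Subgroup H, Cfsg.IsParabolic p R → Cfsg.pCore p ↥R ≠ ⊥ → Subgroup.centralizer (((Cfsg.pCoreOf p R) : Subgroup H) : Set H) ≤ (Cfsg.pCoreOf p R)) ∧ Cfsg.IsOfParabolicCharacteristic p H := by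
  have hQone : Q.map (MulAut.conj (1 : H)).toMonoidHom = Q := conj_one_map Q
  have part2 : ∀ R : Subgroup H, Cfsg.IsParabolic p R → Cfsg.pCoreOf p R ≠ ⊥ →
      IsPGroup p ↥(Subgroup.centralizer (((Cfsg.pCoreOf p R) : Subgroup H) : Set H)) ∧
      R ⊓ Subgroup.centralizer ((Cfsg.pCoreOf p R : Subgroup H) : Set H) ≤ Cfsg.pCoreOf p R := by
    rintro R ⟨T, hTR⟩ hR1
    obtain ⟨g, hg⟩ := exists_conj_le_sylow Q hQp T
    exact ⟨large_centralizer_pCoreOf_isPGroup (large_conj hL g) (hQp.map _) R (hg.trans hTR) hR1,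
      large_charp (large_conj hL g) (hQp.map _) R (hg.trans hTR) hR1⟩
  refine ⟨?_, ?_, ?_⟩
  · intro L hQL hL1
    have hY1 := pCoreOf_ne_bot L hL1
    refine ⟨large_centralizer_pCoreOf_isPGroup hL hQp L hQL hY1,
      charp_subtype L (large_charp hL hQp L hQL hY1), ?_⟩
    have hmemW : ∀ g : {g : H // Q.map (MulAut.conj g).toMonoidHom ≤ L},
        Q.map (MulAut.conj (g : H)).toMonoidHom ≤ Cfsg.weakClosure Q L := fun g =>
      le_iSup (fun g : {g : H // Q.map (MulAut.conj g).toMonoidHom ≤ L} =>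
        Q.map (MulAut.conj (g : H)).toMonoidHom) g
    have hQW : Q ≤ Cfsg.weakClosure Q L := by
      have := hmemW ⟨1, by rw [hQone]; exact hQL⟩
      rwa [hQone] at this
    by_cases hall : ∀ g : H, Q.map (MulAut.conj g).toMonoidHom ≤ L →
        Q.map (MulAut.conj g).toMonoidHom = Q
    · left
      apply le_antisymm _ hQW
      apply iSup_le
      intro g
      exact (hall g.1 g.2).le
    · right
      push Not at hall
      obtain ⟨g, hgL, hgQ⟩ := hall
      have hgN : g ∉ Subgroup.normalizer (Q : Set H) := fun h =>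
        hgQ (conj_eq_of_mem_normalizer Q g h)
      have h1 := large_centralizer_inf hL hQp hQ1 g hgN
      rw [eq_bot_iff, ← h1]
      exact le_inf (Subgroup.centralizer_le hQW) (Subgroup.centralizer_le (hmemW ⟨g, hgL⟩))
  · intro R hR hR1
    have hY1 := pCoreOf_ne_bot R hR1
    obtain ⟨hAp, hchar⟩ := part2 R hR hY1
    obtain ⟨T, hTR⟩ := hR
    have hTA : (T : Subgroup H) ≤ Subgroup.normalizer
        ((Subgroup.centralizer ((Cfsg.pCoreOf p R : Subgroup H) : Set H) : Subgroup H) : Set H) :=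
      hTR.trans ((le_normalizer_pCoreOf p R).trans (normalizer_le_normalizer_centralizer _))
    have hAT : IsPGroup p (Subgroup.centralizer ((Cfsg.pCoreOf p R : Subgroup H) : Set H) ⊔
        (T : Subgroup H) : Subgroup H) := IsPGroup.to_sup_of_normal_left' hAp T.2 hTA
    have heq := T.is_maximal' hAT le_sup_right
    have hAR : Subgroup.centralizer ((Cfsg.pCoreOf p R : Subgroup H) : Set H) ≤ R := by
      refine le_trans ?_ hTR
      rw [← heq]
      exact le_sup_left
    exact (le_inf hAR le_rfl).trans hchar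
  · intro R hRp hR1 hpar
    have hRle : R ≤ Cfsg.pCoreOf p (Subgroup.normalizer (R : Set H)) :=
      le_pCoreOf _ R Subgroup.le_normalizer le_rfl hRp
    have hY1 : Cfsg.pCoreOf p (Subgroup.normalizer (R : Set H)) ≠ ⊥ := by
      intro h
      apply hR1
      rw [eq_bot_iff, ← h]
      exact hRle
    exact charp_subtype _ (part2 _ hpar hY1).2

end Cfsg.Agent.S2845
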