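import Cfsg.Statements.S2846
import Cfsg.Agent.Lib.Helper56.BasicProp3
import Cfsg.Agent.Lib.Helper56.Large
import Cfsg.Agent.Lib.Helper56.Large2
import Cfsg.Agent.Lib.Helper56.Dagger
import Cfsg.Agent.Lib.Helper56.WcRes
import Mathlib

set_option autoImplicit false
open Cfsg
open Cfsg.Agent.Lib.Helper56
open scoped Pointwise commutatorElement

namespace Cfsg.Agent.S2846

/-- Let Q be a nontrivial large p-subgroup of the finite group H, S a Sylow p-subgroup containing Q, and L a subgroup containing S with O_p(L) ≠ 1 and C_H(O_p(L)) ≤ O_p(L). Then there are a subgroup M containing S having the basic property (M ∈ 𝔐_H, writing Y_X for the largest p-reduced normal subgroup of X and 𝓛_H for the set of subgroups X with O_p(X) ≠ 1 and C_H(O_p(X)) ≤ O_p(X): M ∈ 𝓛_H, M·C_H(Y_M) is the only maximal member of 𝓛_H containing M and its largest p-reduced normal subgroup is again Y_M, C_M(Y_M) is p-closed, and the image of C_M(Y_M) in M/O_p(M) lies in the Frattini subgroup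 of M/O_p(M)) and a subgroup L* with S ≤ L* ≤ M, O_p(L*) ≠ 1, C_H(O_p(L*)) ≤ O_p(L*), such that L·C_H(Y_L) = L*·C_H(Y_L), the weak closures of Q in L and in L* agree and lie in that of M, and Y_L = Y_{L*} ≤ Y_M. If moreover Q is not normal in L, then Q is normal in neither L* nor M. -/
theorem result {H : Type*} [Group H] [Finite H] {p : ℕ} [Fact p.Prime] (Q : Subgroup H) (hQp : IsPGroup p ↥Q) (hQ1 : Q ≠ ⊥) (hLg : Cfsg.IsLarge Q) (S : Sylow p H) (hQS : Q ≤ (S : Subgroup H)) (L : Subgroup H) (hSL : (S : Subgroup H) ≤ L) (hL : L ∈ Cfsg.charPSubgroups p H) : ∃ M Ls : Subgroup H, (S : Subgroup H) ≤ M ∧ Cfsg.IsInFrakM p M ∧ (S : Subgroup H) ≤ Ls ∧ Ls ≤ M ∧ Ls ∈ Cfsg.charPSubgroups p H ∧ L ⊔ Subgroup.centralizer (((Cfsg.largestPReducedOf p L) : Subgroup H) : Set H) = Ls ⊔ Subgroup.centralizer (((Cfsg.largestPReducedOf p L) : Subgroup H) : Set H) ∧ Cfsg.weakClosure Q L = Cfsg.weakClosure Q Ls ∧ Cfsg.weakClosure Q Ls ≤ Cfsg.weakClosure Q M ∧ (Cfsg.largestPReducedOf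 p L) = (Cfsg.largestPReducedOf p Ls) ∧ (Cfsg.largestPReducedOf p Ls) ≤ (Cfsg.largestPReducedOf p M) ∧ (¬ L ≤ Subgroup.normalizer ((Q : Subgroup H) : Set H) → ¬ Ls ≤ Subgroup.normalizer ((Q : Subgroup H) : Set H) ∧ ¬ M ≤ Subgroup.normalizer ((Q : Subgroup H) : Set H)) := by
  obtain ⟨M, Ls, h1, h2, h3, h4, h5, h6, h7, h8⟩ := basic_property S
    (fun X hSX hX1 => large_mem_charP hLg hQp S hQS X hSX hX1) L hSL hL
  have hwc := large_wc hLg hQp hQ1
  have hYp : IsPGroup p (Cfsg.largestPReducedOf p L) :=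
    (Cfsg.Agent.Lib.Helper55.pred_largestPReducedOf L).isPGroup
  have hY1 : Cfsg.largestPReducedOf p L ≠ ⊥ := largest_ne_bot S hSL hL
  have hD : Subgroup.centralizer ((Cfsg.largestPReducedOf p L : Subgroup H) : Set H) ≤
      Subgroup.normalizer (Q : Set H) :=
    large_centralizer_le_normalizer hLg hQp _ hYp hY1
      ((hQS.trans hSL).trans (le_normalizer_largestPReducedOf p L))
  have hLD := le_normalizer_centralizer_Y p L
  have hLsD : Ls ≤ Subgroup.normalizer ((Subgroup.centralizer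
      ((Cfsg.largestPReducedOf p L : Subgroup H) : Set H) : Subgroup H) : Set H) := by
    rw [h6]; exact le_normalizer_centralizer_Y p Ls
  refine ⟨M, Ls, h1, h2, h3, h4, h5, h8, ?_, weakClosure_mono Q h4, h6, h7, ?_⟩
  · exact le_antisymm
      (weakClosure_le_of_sup_eq hwc L Ls _ (hQS.trans hSL) (hQS.trans h3) hD hLsD h8)
      (weakClosure_le_of_sup_eq hwc Ls L _ (hQS.trans h3) (hQS.trans hSL) hD hLD h8.symm)
  · intro hLN
    have hLs : ¬ Ls ≤ Subgroup.normalizer (Q : Set H) := by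
      intro hle
      apply hLN
      calc L ≤ L ⊔ Subgroup.centralizer ((Cfsg.largestPReducedOf p L : Subgroup H) : Set H) :=
            le_sup_left
        _ = Ls ⊔ Subgroup.centralizer ((Cfsg.largestPReducedOf p L : Subgroup H) : Set H) := h8
        _ ≤ _ := sup_le hle hD
    exact ⟨hLs, fun hle => hLs (h4.trans hle)⟩

end Cfsg.Agent.S2846
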