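import Cfsg.Statements.S2848
import Cfsg.Agent.Lib.Helper56.FrakM
import Mathlib

set_option autoImplicit false
open Cfsg
open Cfsg.Agent.Lib.Helper56
open scoped Pointwise commutatorElement

namespace Cfsg.Agent.S2848

/-- Standing hypotheses: G a finite group, S a Sylow p-subgroup, Q a nontrivial large p-subgroup of G contained in S (C_G(Q) ≤ Q and N_G(U) ≤ N_G(Q) for all nontrivial U ≤ C_G(Q)), and M a subgroup containing S with the basic property (M ∈ 𝔐_G(S)); Y_M denotes the largest p-reduced normal subgroup of M and M† = M·C_G(Y_M). Then O_p(M) is a weakly closed subgroup of M† (for p): it is the only M†-conjugate of itself inside some Sylow p-subgroup of M† containing it. -/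
theorem result {G : Type*} [Group G] [Finite G] {p : ℕ} [Fact p.Prime] (S : Sylow p G) (Q : Subgroup G) (hQp : IsPGroup p ↥Q) (hQ1 : Q ≠ ⊥) (hQS : Q ≤ (S : Subgroup G)) (hQ : Cfsg.IsLarge Q) (M : Subgroup G) (hSM : (S : Subgroup G) ≤ M) (hM : Cfsg.IsInFrakM p M) : Cfsg.IsWeaklyClosedSubgroup p (((Cfsg.pCoreOf p M)).subgroupOf (M ⊔ Subgroup.centralizer (((Cfsg.largestPReducedOf p M) : Subgroup G) : Set G))) := by
  have hSMd : (S : Subgroup G) ≤
      M ⊔ Subgroup.centralizer ((Cfsg.largestPReducedOf p M : Subgroup G) : Set G) :=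
    hSM.trans le_sup_left
  have hSp : IsPGroup p ((S : Subgroup G).subgroupOf
      (M ⊔ Subgroup.centralizer ((Cfsg.largestPReducedOf p M : Subgroup G) : Set G))) :=
    S.2.comap_of_injective _ (Subgroup.subtype_injective _)
  obtain ⟨T, hT⟩ := hSp.exists_le_sylow
  have hTS : (T : Subgroup ↥(M ⊔ Subgroup.centralizer
      ((Cfsg.largestPReducedOf p M : Subgroup G) : Set G))).map (Subgroup.subtype _) =
      (S : Subgroup G) := by
    have h1 : (S : Subgroup G) ≤ (T : Subgroup ↥(M ⊔ Subgroup.centralizer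
      ((Cfsg.largestPReducedOf p M : Subgroup G) : Set G))).map (Subgroup.subtype _) := by
      intro s hs
      exact ⟨⟨s, hSMd hs⟩, hT (Subgroup.mem_subgroupOf.mpr hs), rfl⟩
    exact S.is_maximal' (T.2.map _) h1
  have hOS : Cfsg.pCoreOf p M ≤ (S : Subgroup G) :=
    pgroup_le_sylow_of_normalized S _ (pCoreOf_isPGroup p M)
      (hSM.trans (le_normalizer_pCoreOf p M))
  refine ⟨T, ?_, ?_⟩
  · intro w hw
    exact hT (Subgroup.mem_subgroupOf.mpr (hOS (Subgroup.mem_subgroupOf.mp hw)))
  · intro g hg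
    have hgS : (Cfsg.pCoreOf p M).map (MulAut.conj (g : G)).toMonoidHom ≤ (S : Subgroup G) := by
      intro y hy
      have hy' := (mem_conj_iff _ _ _).mp hy
      have hyMd : y ∈ M ⊔ Subgroup.centralizer
          ((Cfsg.largestPReducedOf p M : Subgroup G) : Set G) := by
        have h1 : (g : G)⁻¹ * y * g ∈ M ⊔ Subgroup.centralizer
          ((Cfsg.largestPReducedOf p M : Subgroup G) : Set G) := hSMd (hOS hy')
        have := Subgroup.mul_mem _ (Subgroup.mul_mem _ g.2 h1) (Subgroup.inv_mem _ g.2)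
        have e : (g : G) * ((g : G)⁻¹ * y * g) * (g : G)⁻¹ = y := by group
        rwa [e] at this
      have h2 : (⟨y, hyMd⟩ : ↥(M ⊔ Subgroup.centralizer
          ((Cfsg.largestPReducedOf p M : Subgroup G) : Set G))) ∈
          ((Cfsg.pCoreOf p M).subgroupOf _).map (MulAut.conj g).toMonoidHom := by
        rw [mem_conj_iff, Subgroup.mem_subgroupOf]
        exact hy'
      have h3 := hg h2
      rw [← hTS]
      exact ⟨⟨y, hyMd⟩, h3, rfl⟩
    have heq := frakM_pCoreOf_conj_eq S M hSM hM (g : G) g.2 hgS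
    ext x
    rw [mem_conj_iff, Subgroup.mem_subgroupOf, Subgroup.mem_subgroupOf]
    have e : ((g⁻¹ * x * g : ↥(M ⊔ Subgroup.centralizer
        ((Cfsg.largestPReducedOf p M : Subgroup G) : Set G))) : G) = (g : G)⁻¹ * x * g := rfl
    rw [e, ← mem_conj_iff, heq]

end Cfsg.Agent.S2848
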