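import Cfsg.Statements.S2849
import Cfsg.Agent.Lib.Helper56.PReduced
import Mathlib

set_option autoImplicit false
open Cfsg
open Cfsg.Agent.Lib.Helper56
open scoped Pointwise commutatorElement

namespace Cfsg.Agent.S2849

/-- Standing hypotheses: G a finite group, S a Sylow p-subgroup, Q a nontrivial large p-subgroup of G contained in S (C_G(Q) ≤ Q and N_G(U) ≤ N_G(Q) for all nontrivial U ≤ C_G(Q)), and M a subgroup containing S with the basic property (M ∈ 𝔐_G(S)); Y_M denotes the largest p-reduced normal subgroup of M and M† = M·C_G(Y_M). Suppose Y_M is asymmetric in G. Then for every subgroup R with Y_M ≤ R ≤ M†, the normal closure of Y_M in N_G(R) is elementary abelian. -/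
theorem result {G : Type*} [Group G] [Finite G] {p : ℕ} [Fact p.Prime] (S : Sylow p G) (Q : Subgroup G) (hQp : IsPGroup p ↥Q) (hQ1 : Q ≠ ⊥) (hQS : Q ≤ (S : Subgroup G)) (hQ : Cfsg.IsLarge Q) (M : Subgroup G) (hSM : (S : Subgroup G) ≤ M) (hM : Cfsg.IsInFrakM p M) (hasym : ¬ Cfsg.IsSymmetricIn (Cfsg.largestPReducedOf p M)) (R : Subgroup G) (hYR : (Cfsg.largestPReducedOf p M) ≤ R) (hRM : R ≤ (M ⊔ Subgroup.centralizer (((Cfsg.largestPReducedOf p M) : Subgroup G) : Set G))) : Cfsg.IsElementaryAbelian p ((Subgroup.normalClosure ((((Cfsg.largestPReducedOf p M)).subgroupOf (Subgroup.normalizer ((R : Subgroup G) : Set G)) : Subgroup ↥(Subgroup.normalizer ((R : Subgroup G) : Set G))) : Set ↥(Subgroup.normalizer ((R : Subgroup G) : Set G)))).map (Subgroup.normalizer ((R : Subgroup G) : Set G)).subtype) := by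
  have hYe := largestPReducedOf_elemAb p M
  have hMdY : M ⊔ Subgroup.centralizer ((Cfsg.largestPReducedOf p M : Subgroup G) : Set G) ≤
      Subgroup.normalizer ((Cfsg.largestPReducedOf p M : Subgroup G) : Set G) :=
    sup_le (le_normalizer_largestPReducedOf p M) (Subgroup.centralizer_le_normalizer _)
  have h1 : ∀ g ∈ Subgroup.normalizer (R : Set G),
      (Cfsg.largestPReducedOf p M).map (MulAut.conj g).toMonoidHom ≤
        Subgroup.normalizer ((Cfsg.largestPReducedOf p M : Subgroup G) : Set G) := by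
    intro g hg
    have : (Cfsg.largestPReducedOf p M).map (MulAut.conj g).toMonoidHom ≤ R := by
      calc (Cfsg.largestPReducedOf p M).map (MulAut.conj g).toMonoidHom
          ≤ R.map (MulAut.conj g).toMonoidHom := Subgroup.map_mono hYR
        _ = R := conj_eq_of_mem_normalizer R g hg
    exact this.trans (hRM.trans hMdY)
  have h2 : ∀ g ∈ Subgroup.normalizer (R : Set G), Cfsg.largestPReducedOf p M ≤
      Subgroup.centralizer
        (((Cfsg.largestPReducedOf p M).map (MulAut.conj g).toMonoidHom : Subgroup G) : Set G) := by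
    intro g hg
    have hA : Cfsg.largestPReducedOf p M ≤ Subgroup.normalizer
        (((Cfsg.largestPReducedOf p M).map (MulAut.conj g).toMonoidHom : Subgroup G) : Set G) := by
      intro y hy
      rw [mem_normalizer_conj_iff]
      apply h1 g⁻¹ (Subgroup.inv_mem _ hg)
      rw [mem_conj_iff]
      have e : g⁻¹⁻¹ * (g⁻¹ * y * g) * g⁻¹ = y := by group
      rw [e]; exact hy
    have hle := comm_le_inf_of_normalize' (Cfsg.largestPReducedOf p M) _ hA (h1 g hg)
    rw [← Subgroup.commutator_eq_bot_iff_le_centralizer]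
    by_contra hne
    exact hasym ⟨g, hne, hle⟩
  apply elemAb_of_le_closure {x : G | ∃ n ∈ Subgroup.normalizer (R : Set G),
    ∃ y ∈ Cfsg.largestPReducedOf p M, x = n * y * n⁻¹}
  · rintro _ ⟨n, hn, y, hy, rfl⟩ _ ⟨m, hm, y', hy', rfl⟩
    have hmem : (n⁻¹ * m) * y' * (n⁻¹ * m)⁻¹ ∈
        (Cfsg.largestPReducedOf p M).map (MulAut.conj (n⁻¹ * m)).toMonoidHom :=
      conj_mem_conj _ _ hy'
    have hc := (Subgroup.mem_centralizer_iff.mp
      (h2 (n⁻¹ * m) (Subgroup.mul_mem _ (Subgroup.inv_mem _ hn) hm) hy)) _ hmem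
    calc n * y * n⁻¹ * (m * y' * m⁻¹)
        = n * (y * ((n⁻¹ * m) * y' * (n⁻¹ * m)⁻¹)) * n⁻¹ := by group
      _ = n * (((n⁻¹ * m) * y' * (n⁻¹ * m)⁻¹) * y) * n⁻¹ := by rw [hc]
      _ = m * y' * m⁻¹ * (n * y * n⁻¹) := by group
  · rintro _ ⟨n, hn, y, hy, rfl⟩
    rw [conj_pow, hYe.2 y hy]; simp
  · rw [Subgroup.map_le_iff_le_comap]
    unfold Subgroup.normalClosure
    rw [Subgroup.closure_le]
    intro x hx
    rw [Group.mem_conjugatesOfSet_iff] at hx
    obtain ⟨b, hb, hconj⟩ := hx
    obtain ⟨c, hc⟩ := isConj_iff.mp hconj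
    show ((x : ↥(Subgroup.normalizer (R : Set G))) : G) ∈ Subgroup.closure _
    apply Subgroup.subset_closure
    refine ⟨(c : G), c.2, (b : G), Subgroup.mem_subgroupOf.mp hb, ?_⟩
    rw [← hc]; rfl

end Cfsg.Agent.S2849
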