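import Cfsg.Statements.S2859
import Cfsg.Agent.Lib.Helper56.WcRes
import Mathlib

set_option autoImplicit false
open Cfsg
open Cfsg.Agent.Lib.Helper56
open scoped Pointwise commutatorElement

namespace Cfsg.Agent.S2859

theorem conj_le_sup {G : Type*} [Group G] (H Q : Subgroup G)
    (hQH : Q ≤ Subgroup.normalizer (H : Set G)) (h : G) (hh : h ∈ H) :
    Q.map (MulAut.conj h).toMonoidHom ≤ H ⊔ Q := by
  intro z hz
  rw [mem_conj_iff] at hz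
  have e : z = ⁅h, h⁻¹ * z * h⁆ * (h⁻¹ * z * h) := by
    simp only [commutatorElement_def]; group
  rw [e]
  exact Subgroup.mul_mem _
    (Subgroup.mem_sup_left (commutator_le_of_le_normalizer H Q hQH
      (Subgroup.commutator_mem_commutator hh hz)))
    (Subgroup.mem_sup_right hz)

theorem central_mod {G : Type*} [Group G] [Finite G] {p : ℕ} [Fact p.Prime] (Q : Subgroup G)
    (hwc : Cfsg.IsWeaklyClosedSubgroup p Q) (Hc : Subgroup G)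
    (hHc : Hc = Cfsg.weakClosure Q ⊤) (D : Subgroup G) (hDHc : D ≤ Hc)
    (hHcD : Hc ≤ Subgroup.normalizer (D : Set G))
    (hDQ : D ≤ Subgroup.normalizer (Q : Set G)) :
    ∀ d ∈ D, ∀ g ∈ Hc, ⁅d, g⁆ ∈ Cfsg.pCoreOf p D := by
  have hQp : IsPGroup p Q := wc_isPGroup hwc
  have hQHc : Q ≤ Hc := by rw [hHc]; exact le_weakClosure Q ⊤ le_top
  have hHcR : Hc ≤ Subgroup.normalizer ((Cfsg.pCoreOf p D : Subgroup G) : Set G) :=
    hHcD.trans (normalizer_le_normalizer_pCoreOf p D)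
  have key : Hc ≤ Cfsg.Agent.Lib.Helper55.stabMod D (Cfsg.pCoreOf p D) := by
    nth_rewrite 1 [hHc]
    rw [weakClosure_le_iff]
    intro g _
    have hgHc : Q.map (MulAut.conj g).toMonoidHom ≤ Hc := by
      rw [hHc]; exact conj_le_weakClosure Q ⊤ g le_top
    obtain ⟨k, hk, e⟩ := wc_subgroup_conj hwc Hc hQHc g hgHc
    have hDN : D ≤ Subgroup.normalizer ((Q.map (MulAut.conj g).toMonoidHom : Subgroup G) : Set G) := by
      rw [e]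
      intro d hd
      rw [mem_normalizer_conj_iff]
      apply hDQ
      have := (Subgroup.mem_normalizer_iff.mp (hHcD (Hc.inv_mem hk)) d).mp hd
      simpa using this
    have hle : D ⊓ Q.map (MulAut.conj g).toMonoidHom ≤ Cfsg.pCoreOf p D :=
      le_pCoreOf D _ inf_le_left
        (le_trans (le_inf Subgroup.le_normalizer hDN) (normalizer_inf_le _ _))
        ((hQp.map _).to_le inf_le_right)
    intro u hu
    rw [Cfsg.Agent.Lib.Helper55.mem_stabMod]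
    refine ⟨hHcR (hgHc hu), fun b hb => hle (Subgroup.mem_inf.mpr ⟨?_, ?_⟩)⟩
    · have h1 : u * b⁻¹ * u⁻¹ ∈ D :=
        (Subgroup.mem_normalizer_iff.mp (hHcD (hgHc hu)) _).mp (D.inv_mem hb)
      have e2 : ⁅b, u⁆ = b * (u * b⁻¹ * u⁻¹) := by
        simp only [commutatorElement_def]; group
      rw [e2]; exact D.mul_mem hb h1
    · have h1 : b * u * b⁻¹ ∈ Q.map (MulAut.conj g).toMonoidHom :=
        (Subgroup.mem_normalizer_iff.mp (hDN hb) _).mp hu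
      have e2 : ⁅b, u⁆ = b * u * b⁻¹ * u⁻¹ := commutatorElement_def b u
      rw [e2]; exact Subgroup.mul_mem _ h1 (Subgroup.inv_mem _ hu)
  intro d hd g hg
  exact ((Cfsg.Agent.Lib.Helper55.mem_stabMod).mp (key hg)).2 d hd

theorem comm_comm_of_central {Γ : Type*} [Group Γ] (z k h : Γ)
    (h1 : ⁅z, k⁆ ∈ Subgroup.center Γ) (h2 : ⁅z, h⁆ ∈ Subgroup.center Γ) : ⁅z, ⁅k, h⁆⁆ = 1 := by
  have hA : ∀ c : Γ, c ∈ Subgroup.center Γ → ∀ a b : Γ, ⁅c * a, b⁆ = ⁅a, b⁆ := by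
    intro c hc a b
    have hcc := Subgroup.mem_center_iff.mp hc
    have e : ⁅c * a, b⁆ = (c * (a * b * a⁻¹)) * c⁻¹ * b⁻¹ := by
      simp only [commutatorElement_def]; group
    rw [e, ← hcc (a * b * a⁻¹)]
    simp only [commutatorElement_def]; group
  have hB : ∀ c : Γ, c ∈ Subgroup.center Γ → ∀ a b : Γ, ⁅a, c * b⁆ = ⁅a, b⁆ := by
    intro c hc a b
    have hcc := Subgroup.mem_center_iff.mp hc
    have e : ⁅a, c * b⁆ = (a * c) * (b * a⁻¹ * b⁻¹) * c⁻¹ := by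
      simp only [commutatorElement_def]; group
    rw [e, hcc a, mul_assoc c, ← hcc (a * (b * a⁻¹ * b⁻¹))]
    simp only [commutatorElement_def]; group
  have e1 : z * k * z⁻¹ = ⁅z, k⁆ * k := by simp only [commutatorElement_def]; group
  have e2 : z * h * z⁻¹ = ⁅z, h⁆ * h := by simp only [commutatorElement_def]; group
  have e : z * ⁅k, h⁆ * z⁻¹ = ⁅z * k * z⁻¹, z * h * z⁻¹⁆ := by
    simp only [commutatorElement_def]; group
  rw [e1, e2, hA _ h1, hB _ h2] at e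
  rw [commutatorElement_def z, e]
  group

theorem half {G : Type*} [Group G] [Finite G] {p : ℕ} [Fact p.Prime] (Q : Subgroup G)
    (hwc : Cfsg.IsWeaklyClosedSubgroup p Q) (Hc : Subgroup G)
    (hHc : Hc = Cfsg.weakClosure Q ⊤) (H₁ H₂ : Subgroup G)
    (hn₁ : H₁ ≤ Hc ∧ Hc ≤ Subgroup.normalizer ((H₁ : Subgroup G) : Set G))
    (hn₂ : H₂ ≤ Hc ∧ Hc ≤ Subgroup.normalizer ((H₂ : Subgroup G) : Set G))
    (hprod : H₁ ⊔ H₂ = Hc)
    (hcomm : ⁅H₁, H₂⁆ ≤ Subgroup.normalizer ((Q : Subgroup G) : Set G))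
    (W K : Subgroup G) (hW : W = Cfsg.weakClosure Q (H₁ ⊔ Q)) (hK : K = opOf p W) :
    ⁅K, Q⁆ = K ∧ ⁅K, H₁⁆ = K ∧ K ≤ ⁅H₁, H₁⁆ ∧
      Hc ≤ Subgroup.normalizer ((K : Subgroup G) : Set G) ∧ W ≤ K ⊔ Q ∧ K ≤ H₁ := by
  have hQp : IsPGroup p Q := wc_isPGroup hwc
  have hQHc : Q ≤ Hc := by rw [hHc]; exact le_weakClosure Q ⊤ le_top
  have hQN1 : Q ≤ Subgroup.normalizer (H₁ : Set G) := hQHc.trans hn₁.2
  have hQX : Q ≤ H₁ ⊔ Q := le_sup_right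
  have hQW : Q ≤ W := by rw [hW]; exact le_weakClosure Q _ hQX
  have hXW : H₁ ⊔ Q ≤ Subgroup.normalizer (W : Set G) := by
    rw [hW]; exact le_normalizer_weakClosure Q _
  have hXK : H₁ ⊔ Q ≤ Subgroup.normalizer (K : Set G) := by
    rw [hK]; exact hXW.trans (normalizer_le_normalizer_opOf p W)
  have hH1K : H₁ ≤ Subgroup.normalizer (K : Set G) := le_sup_left.trans hXK
  have hQK : Q ≤ Subgroup.normalizer (K : Set G) := le_sup_right.trans hXK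
  set D := ⁅H₁, H₂⁆ with hD
  have hDH1 : D ≤ H₁ := commutator_le_of_le_normalizer H₁ H₂ (hn₂.1.trans hn₁.2)
  have hHcD : Hc ≤ Subgroup.normalizer (D : Set G) :=
    Cfsg.Agent.Lib.Helper55.le_normalizer_commutator hn₁.2 hn₂.2
  have hHQ_H : ⁅H₁, Q⁆ ≤ H₁ := commutator_le_of_le_normalizer H₁ Q hQN1
  have hQ_HQ : Q ≤ Subgroup.normalizer ((⁅H₁, Q⁆ : Subgroup G) : Set G) :=
    le_normalizer_commutator_right H₁ Q
  have hW1 : W ≤ ⁅H₁, Q⁆ ⊔ Q := by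
    rw [hW]
    apply weakClosure_le_of_conj hwc _ hQX
    intro x hx y hy
    have hx2 : x ∈ ((H₁ ⊔ Q : Subgroup G) : Set G) := hx
    rw [Subgroup.coe_mul_of_right_le_normalizer_left _ _ hQN1] at hx2
    obtain ⟨h, hh, q, hq, rfl⟩ := Set.mem_mul.mp hx2
    rw [mem_conj_iff] at hy
    have hu' : q * ((h * q)⁻¹ * y * (h * q)) * q⁻¹ ∈ Q :=
      Q.mul_mem (Q.mul_mem hq hy) (Q.inv_mem hq)
    have e : y = ⁅h, q * ((h * q)⁻¹ * y * (h * q)) * q⁻¹⁆ *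
        (q * ((h * q)⁻¹ * y * (h * q)) * q⁻¹) := by
      simp only [commutatorElement_def]; group
    rw [e]
    exact Subgroup.mul_mem _
      (Subgroup.mem_sup_left (Subgroup.commutator_mem_commutator hh hu'))
      (Subgroup.mem_sup_right hu')
  have hK_HQ : K ≤ ⁅H₁, Q⁆ := by
    rw [hK]; exact opOf_le_of_le_sup _ Q W hQp hQ_HQ hW1
  have hKH1 : K ≤ H₁ := hK_HQ.trans hHQ_H
  obtain ⟨T, hT, hQT⟩ := exists_sylIn_ge Q W hQp hQW
  have hTQ : T ≤ Subgroup.normalizer (Q : Set G) := wc_le_normalizer hwc T hT.isPGroup hQT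
  have hQ_KQ : Q ≤ Subgroup.normalizer ((⁅K, Q⁆ : Subgroup G) : Set G) :=
    le_normalizer_commutator_right K Q
  have hW2 : W ≤ ⁅K, Q⁆ ⊔ Q := by
    have h0 : Cfsg.weakClosure Q (H₁ ⊔ Q) ≤ ⁅K, Q⁆ ⊔ Q := by
      apply weakClosure_le_of_conj' hwc _ hQX
      intro w hw y hy
      rw [← hW] at hw
      obtain ⟨r, hr, hrt⟩ := hT.exists_residual_mul w hw
      have hrK : r ∈ K := by rw [hK]; exact hr
      rw [mem_conj_iff] at hy
      have hu' : (r⁻¹ * w) * (w⁻¹ * y * w) * (r⁻¹ * w)⁻¹ ∈ Q :=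
        (Subgroup.mem_normalizer_iff.mp (hTQ hrt) _).mp hy
      have e : y = ⁅r, (r⁻¹ * w) * (w⁻¹ * y * w) * (r⁻¹ * w)⁻¹⁆ *
          ((r⁻¹ * w) * (w⁻¹ * y * w) * (r⁻¹ * w)⁻¹) := by
        simp only [commutatorElement_def]; group
      rw [e]
      exact Subgroup.mul_mem _
        (Subgroup.mem_sup_left (Subgroup.commutator_mem_commutator hrK hu'))
        (Subgroup.mem_sup_right hu')
    rw [hW]; exact h0
  have hKQ_K : ⁅K, Q⁆ ≤ K := commutator_le_of_le_normalizer K Q hQK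
  have hK_KQ : K ≤ ⁅K, Q⁆ := by
    have := opOf_le_of_le_sup _ Q W hQp hQ_KQ hW2
    rwa [← hK] at this
  have hKQ : ⁅K, Q⁆ = K := le_antisymm hKQ_K hK_KQ
  have hW3 : W ≤ K ⊔ Q := hW2.trans (sup_le_sup_right hKQ_K Q)
  set N := ⁅K, H₁⁆ with hN
  have hNK : N ≤ K := commutator_le_of_le_normalizer K H₁ hH1K
  have hH1N : H₁ ≤ Subgroup.normalizer (N : Set G) :=
    Cfsg.Agent.Lib.Helper55.le_normalizer_commutator hH1K Subgroup.le_normalizer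
  have hQN : Q ≤ Subgroup.normalizer (N : Set G) :=
    Cfsg.Agent.Lib.Helper55.le_normalizer_commutator hQK hQN1
  have hKN : K ≤ Subgroup.normalizer (N : Set G) := hKH1.trans hH1N
  have hNQ_N : ⁅N, Q⁆ ≤ N := commutator_le_of_le_normalizer N Q hQN
  have ha : ∀ k ∈ K, ∀ q ∈ Q, ⁅k, q⁆ ∈ N ⊔ (K ⊓ D) := by
    intro k hk q hq
    have hq2 : q ∈ ((H₁ ⊔ H₂ : Subgroup G) : Set G) := by rw [hprod]; exact hQHc hq
    rw [Subgroup.coe_mul_of_right_le_normalizer_left _ _ (hn₂.1.trans hn₁.2)] at hq2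
    obtain ⟨a, ha, b, hb, rfl⟩ := Set.mem_mul.mp hq2
    have hn : ⁅k, a⁆ ∈ N := Subgroup.commutator_mem_commutator hk ha
    have hkb : ⁅k, b⁆ ∈ D := Subgroup.commutator_mem_commutator (hKH1 hk) hb
    have hd : a * ⁅k, b⁆ * a⁻¹ ∈ D :=
      (Subgroup.mem_normalizer_iff.mp (hHcD (hn₁.1 ha)) _).mp hkb
    have e : ⁅k, a * b⁆ = ⁅k, a⁆ * (a * ⁅k, b⁆ * a⁻¹) := by
      simp only [commutatorElement_def]; group
    have hkq : ⁅k, a * b⁆ ∈ K := hKQ_K (Subgroup.commutator_mem_commutator hk hq)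
    have hdK : a * ⁅k, b⁆ * a⁻¹ ∈ K := by
      have e3 : a * ⁅k, b⁆ * a⁻¹ = (⁅k, a⁆)⁻¹ * ⁅k, a * b⁆ := by rw [e]; group
      rw [e3]; exact K.mul_mem (K.inv_mem (hNK hn)) hkq
    rw [e]
    exact Subgroup.mul_mem _ (Subgroup.mem_sup_left hn)
      (Subgroup.mem_sup_right (Subgroup.mem_inf.mpr ⟨hdK, hd⟩))
  have hb : K ≤ N ⊔ (K ⊓ D) := by
    have h0 : ⁅K, Q⁆ ≤ N ⊔ (K ⊓ D) := Subgroup.commutator_le.mpr ha
    rwa [hKQ] at h0
  have hc : ⁅K, Q⁆ ≤ N ⊔ Q := by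
    rw [Subgroup.commutator_le]
    intro x hx q hq
    have hx2 : x ∈ ((N ⊔ (K ⊓ D) : Subgroup G) : Set G) := hb hx
    rw [Subgroup.coe_mul_of_right_le_normalizer_left _ _ (inf_le_left.trans hKN)] at hx2
    obtain ⟨n, hn, d, hd, rfl⟩ := Set.mem_mul.mp hx2
    have hu : ⁅d, q⁆ ∈ Q := by
      have h1 : d * q * d⁻¹ ∈ Q :=
        (Subgroup.mem_normalizer_iff.mp (hcomm (Subgroup.mem_inf.mp hd).2) q).mp hq
      have e : ⁅d, q⁆ = d * q * d⁻¹ * q⁻¹ := commutatorElement_def d q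
      rw [e]; exact Q.mul_mem h1 (Q.inv_mem hq)
    have e : ⁅n * d, q⁆ = ⁅n, ⁅d, q⁆⁆ * ⁅d, q⁆ * ⁅n, q⁆ := by
      simp only [commutatorElement_def]; group
    rw [e]
    exact Subgroup.mul_mem _ (Subgroup.mul_mem _
      (Subgroup.mem_sup_left (hNQ_N (Subgroup.commutator_mem_commutator hn hu)))
      (Subgroup.mem_sup_right hu))
      (Subgroup.mem_sup_left (hNQ_N (Subgroup.commutator_mem_commutator hn hq)))
  have hW4 : W ≤ N ⊔ Q := hW2.trans (sup_le hc le_sup_right)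
  have hK_N : K ≤ N := by
    have := opOf_le_of_le_sup _ Q W hQp hQN hW4
    rwa [← hK] at this
  have hKH : ⁅K, H₁⁆ = K := le_antisymm hNK hK_N
  have hKder : K ≤ ⁅H₁, H₁⁆ := by
    calc K = ⁅K, H₁⁆ := hKH.symm
      _ ≤ ⁅H₁, H₁⁆ := Subgroup.commutator_mono hKH1 le_rfl
  have hD1 := central_mod Q hwc Hc hHc D (hDH1.trans hn₁.1) hHcD hcomm
  have hRD : Cfsg.pCoreOf p D ≤ D := pCoreOf_le p D
  have hRK : Cfsg.pCoreOf p D ≤ Subgroup.normalizer (K : Set G) :=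
    hRD.trans (hDH1.trans hH1K)
  have hRp : IsPGroup p (Cfsg.pCoreOf p D) := pCoreOf_isPGroup p D
  have h14a : ∀ h₂ ∈ H₂, ∀ x ∈ K, h₂ * x * h₂⁻¹ ∈ K ⊔ Cfsg.pCoreOf p D := by
    intro h₂ hh₂ x hx
    have h1 : ⁅K, H₁⁆ ≤ (K ⊔ Cfsg.pCoreOf p D).comap (MulAut.conj h₂).toMonoidHom := by
      rw [Subgroup.commutator_le]
      intro k hk h hh
      rw [Subgroup.mem_comap]
      show h₂ * ⁅k, h⁆ * h₂⁻¹ ∈ K ⊔ Cfsg.pCoreOf p D
      have hh' : h₂ * h * h₂⁻¹ ∈ H₁ :=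
        (Subgroup.mem_normalizer_iff.mp (hn₁.2 (hn₂.1 hh₂)) h).mp hh
      have hd : ⁅h₂, k⁆ ∈ D := by
        rw [hD, Subgroup.commutator_comm]
        exact Subgroup.commutator_mem_commutator hh₂ (hKH1 hk)
      have e : h₂ * ⁅k, h⁆ * h₂⁻¹ =
          (⁅h₂, k⁆ * ⁅k, h₂ * h * h₂⁻¹⁆ * (⁅h₂, k⁆)⁻¹) * ⁅⁅h₂, k⁆, h₂ * h * h₂⁻¹⁆ := by
        simp only [commutatorElement_def]; group
      rw [e]
      refine Subgroup.mul_mem _ (Subgroup.mem_sup_left ?_)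
        (Subgroup.mem_sup_right (hD1 _ hd _ (hn₁.1 hh')))
      exact (Subgroup.mem_normalizer_iff.mp (hH1K (hDH1 hd)) _).mp
        (hNK (Subgroup.commutator_mem_commutator hk hh'))
    rw [hKH] at h1
    exact h1 hx
  have hH2K : H₂ ≤ Subgroup.normalizer (K : Set G) := by
    apply Cfsg.Agent.Lib.Helper55.le_normalizer_of_conj_mem
    intro h₂ hh₂ y hy
    have h1 : opOf p W ≤ K.comap (MulAut.conj h₂).toMonoidHom := by
      rw [opOf_le_iff]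
      intro x hx hcx
      rw [Subgroup.mem_comap]
      show h₂ * x * h₂⁻¹ ∈ K
      have hxK : x ∈ K := by rw [hK]; exact mem_opOf hx hcx
      apply mem_of_mem_sup_of_coprime K _ hRp hRK (h14a h₂ hh₂ x hxK)
      rw [Cfsg.Agent.Lib.Helper55.orderOf_conj_eq]; exact hcx
    rw [← hK] at h1
    exact h1 hy
  have hHcK : Hc ≤ Subgroup.normalizer (K : Set G) := by
    rw [← hprod]; exact sup_le hH1K hH2K
  exact ⟨hKQ, hKH, hKder, hHcK, hW3, hKH1⟩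


/-- Let Q be a nontrivial p-subgroup of the finite group H that is a weakly closed subgroup, H° the weak closure of Q in H (generated by the conjugates of Q) and H_∘ = O^p(H°). Suppose H₁, H₂ are normal subgroups of H° with H° = H₁H₂ and [H₁, H₂] ≤ N_H(Q), and put Kᵢ = O^p of the weak closure of Q in HᵢQ. Then for i = 1, 2: Kᵢ = [Kᵢ, Q] = [Kᵢ, Hᵢ] ≤ Hᵢ′ and Kᵢ is normal in H°; H_∘ = K₁K₂; and [K₁, K₂] ≤ O_p(H°). -/
theorem result {G : Type*} [Group G] [Finite G] {p : ℕ} [Fact p.Prime] (Q : Subgroup G) (hQp : IsPGroup p ↥Q) (hQ1 : Q ≠ ⊥) (hwc : Cfsg.IsWeaklyClosedSubgroup p Q) (Hc : Subgroup G) (hHc : Hc = Cfsg.weakClosure Q ⊤) (H₁ H₂ : Subgroup G) (hn₁ : H₁ ≤ Hc ∧ Hc ≤ Subgroup.normalizer ((H₁ : Subgroup G) : Set G)) (hn₂ : H₂ ≤ Hc ∧ Hc ≤ Subgroup.normalizer ((H₂ : Subgroup G) : Set G)) (hprod : H₁ ⊔ H₂ = Hc) (hcomm : ⁅H₁, H₂⁆ ≤ Subgroup.normalizer ((Q : Subgroup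 G) : Set G)) (K₁ K₂ : Subgroup G) (hK₁ : K₁ = ((Cfsg.pResidual p ↥(Cfsg.weakClosure Q (H₁ ⊔ Q))).map ((Cfsg.weakClosure Q (H₁ ⊔ Q))).subtype)) (hK₂ : K₂ = ((Cfsg.pResidual p ↥(Cfsg.weakClosure Q (H₂ ⊔ Q))).map ((Cfsg.weakClosure Q (H₂ ⊔ Q))).subtype)) : (⁅K₁, Q⁆ = K₁ ∧ ⁅K₁, H₁⁆ = K₁ ∧ K₁ ≤ ⁅H₁, H₁⁆ ∧ Hc ≤ Subgroup.normalizer ((K₁ : Subgroup G) : Set G)) ∧ (⁅K₂, Q⁆ = K₂ ∧ ⁅K₂, H₂⁆ = K₂ ∧ K₂ ≤ ⁅H₂, H₂⁆ ∧ Hc ≤ Subgroup.normalizer ((K₂ : Subgroup G) : Set G)) ∧ K₁ ⊔ K₂ = ((Cfsg.pResidual p ↥Hc).map (Hc).subtype) ∧ ⁅K₁, K₂⁆ ≤ (Cfsg.pCoreOf p Hc) := by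
  have hQp' : IsPGroup p Q := hQp
  have hQHc : Q ≤ Hc := by rw [hHc]; exact le_weakClosure Q ⊤ le_top
  obtain ⟨a1, a2, a3, a4, a5, a6⟩ := half Q hwc Hc hHc H₁ H₂ hn₁ hn₂ hprod hcomm
    (Cfsg.weakClosure Q (H₁ ⊔ Q)) K₁ rfl hK₁
  obtain ⟨b1, b2, b3, b4, b5, b6⟩ := half Q hwc Hc hHc H₂ H₁ hn₂ hn₁
    (by rw [sup_comm]; exact hprod) (by rw [Subgroup.commutator_comm]; exact hcomm)
    (Cfsg.weakClosure Q (H₂ ⊔ Q)) K₂ rfl hK₂
  refine ⟨⟨a1, a2, a3, a4⟩, ⟨b1, b2, b3, b4⟩, ?_, ?_⟩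
  · -- K₁ ⊔ K₂ = O^p(Hc)
    have hQN1 : Q ≤ Subgroup.normalizer (H₁ : Set G) := hQHc.trans hn₁.2
    have hQN2 : Q ≤ Subgroup.normalizer (H₂ : Set G) := hQHc.trans hn₂.2
    apply le_antisymm
    · apply sup_le
      · rw [hK₁]
        exact opOf_mono ((weakClosure_le Q _).trans (sup_le hn₁.1 hQHc))
      · rw [hK₂]
        exact opOf_mono ((weakClosure_le Q _).trans (sup_le hn₂.1 hQHc))
    · have hQNK : Q ≤ Subgroup.normalizer ((K₁ ⊔ K₂ : Subgroup G) : Set G) :=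
        hQHc.trans (le_trans (le_inf a4 b4) (normalizer_inf_le_sup K₁ K₂))
      apply opOf_le_of_le_sup (K₁ ⊔ K₂) Q Hc hQp' hQNK
      have h0 : Cfsg.weakClosure Q ⊤ ≤ K₁ ⊔ K₂ ⊔ Q := by
        apply weakClosure_le_of_conj' hwc ⊤ le_top
        intro w hw y hy
        rw [← hHc] at hw
        have hw2 : w ∈ ((H₁ ⊔ H₂ : Subgroup G) : Set G) := by rw [hprod]; exact hw
        rw [Subgroup.coe_mul_of_right_le_normalizer_left _ _ (hn₂.1.trans hn₁.2)] at hw2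
        obtain ⟨h₁, hh₁, h₂, hh₂, rfl⟩ := Set.mem_mul.mp hw2
        rw [mem_conj_iff] at hy
        -- v = h₂ u h₂⁻¹ ∈ W₂ ≤ K₂ ⊔ Q
        have hv : h₂ * ((h₁ * h₂)⁻¹ * y * (h₁ * h₂)) * h₂⁻¹ ∈ K₂ ⊔ Q :=
          b5 (conj_le_weakClosure Q (H₂ ⊔ Q) h₂ (conj_le_sup H₂ Q hQN2 h₂ hh₂)
            (conj_mem_conj Q h₂ hy))
        have hv2 : h₂ * ((h₁ * h₂)⁻¹ * y * (h₁ * h₂)) * h₂⁻¹ ∈ ((K₂ ⊔ Q : Subgroup G) : Set G) := hv
        rw [Subgroup.coe_mul_of_right_le_normalizer_left _ _ (hQHc.trans b4)] at hv2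
        obtain ⟨k₂, hk₂, u₂, hu₂, e⟩ := Set.mem_mul.mp hv2
        have e2 : y = (h₁ * k₂ * h₁⁻¹) * (h₁ * u₂ * h₁⁻¹) := by
          have : y = h₁ * (h₂ * ((h₁ * h₂)⁻¹ * y * (h₁ * h₂)) * h₂⁻¹) * h₁⁻¹ := by group
          rw [this, ← e]; group
        rw [e2]
        have hk : h₁ * k₂ * h₁⁻¹ ∈ K₂ :=
          (Subgroup.mem_normalizer_iff.mp (b4 (hn₁.1 hh₁)) _).mp hk₂
        have hu : h₁ * u₂ * h₁⁻¹ ∈ K₁ ⊔ Q :=
          a5 (conj_le_weakClosure Q (H₁ ⊔ Q) h₁ (conj_le_sup H₁ Q hQN1 h₁ hh₁)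
            (conj_mem_conj Q h₁ hu₂))
        have hle1 : K₂ ≤ K₁ ⊔ K₂ ⊔ Q := le_sup_right.trans le_sup_left
        have hle2 : K₁ ⊔ Q ≤ K₁ ⊔ K₂ ⊔ Q := sup_le_sup_right le_sup_left Q
        exact Subgroup.mul_mem _ (hle1 hk) (hle2 hu)
      rw [hHc]; exact h0
  · -- [K₁, K₂] ≤ O_p(Hc)
    have hDH1 : ⁅H₁, H₂⁆ ≤ H₁ := commutator_le_of_le_normalizer H₁ H₂ (hn₂.1.trans hn₁.2)
    have hDHc : ⁅H₁, H₂⁆ ≤ Hc := hDH1.trans hn₁.1
    have hHcD : Hc ≤ Subgroup.normalizer ((⁅H₁, H₂⁆ : Subgroup G) : Set G) :=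
      Cfsg.Agent.Lib.Helper55.le_normalizer_commutator hn₁.2 hn₂.2
    have hD1 := central_mod Q hwc Hc hHc ⁅H₁, H₂⁆ hDHc hHcD hcomm
    set R := Cfsg.pCoreOf p ⁅H₁, H₂⁆ with hR
    have hRHc : R ≤ Hc := (pCoreOf_le p _).trans hDHc
    have hHcR : Hc ≤ Subgroup.normalizer (R : Set G) :=
      hHcD.trans (normalizer_le_normalizer_pCoreOf p _)
    have hRle : R ≤ Cfsg.pCoreOf p Hc := pCoreOf_le_pCoreOf_of_normal Hc _ hDHc hHcD
    refine le_trans ?_ hRle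
    haveI hRn : (R.subgroupOf Hc).Normal :=
      (Subgroup.normal_subgroupOf_iff_le_normalizer hRHc).mpr hHcR
    have hcent : ∀ d : ↥Hc, (d : G) ∈ ⁅H₁, H₂⁆ →
        (QuotientGroup.mk' (R.subgroupOf Hc)) d ∈ Subgroup.center (↥Hc ⧸ R.subgroupOf Hc) := by
      intro d hd
      rw [Subgroup.mem_center_iff]
      intro γ
      obtain ⟨g, rfl⟩ := QuotientGroup.mk'_surjective (R.subgroupOf Hc) γ
      have h1 : ⁅d, g⁆ ∈ R.subgroupOf Hc := by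
        rw [Subgroup.mem_subgroupOf]
        exact hD1 _ hd _ g.2
      have h2 : (QuotientGroup.mk' (R.subgroupOf Hc)) ⁅d, g⁆ = 1 :=
        (QuotientGroup.eq_one_iff _).mpr h1
      rw [map_commutatorElement, commutatorElement_eq_one_iff_mul_comm] at h2
      exact h2.symm
    have key : ⁅K₁, H₁⁆ ≤ Cfsg.Agent.Lib.Helper55.stabMod K₂ R := by
      rw [Subgroup.commutator_le]
      intro k hk h hh
      rw [Cfsg.Agent.Lib.Helper55.mem_stabMod]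
      have hkHc : k ∈ Hc := hn₁.1 (a6 hk)
      have hhHc : h ∈ Hc := hn₁.1 hh
      refine ⟨hHcR (Hc.mul_mem (Hc.mul_mem (Hc.mul_mem hkHc hhHc) (Hc.inv_mem hkHc))
        (Hc.inv_mem hhHc)), fun z hz => ?_⟩
      have hzHc : z ∈ Hc := hn₂.1 (b6 hz)
      have hzk : ⁅z, k⁆ ∈ ⁅H₁, H₂⁆ := by
        rw [Subgroup.commutator_comm]
        exact Subgroup.commutator_mem_commutator (b6 hz) (a6 hk)
      have hzh : ⁅z, h⁆ ∈ ⁅H₁, H₂⁆ := by
        rw [Subgroup.commutator_comm]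
        exact Subgroup.commutator_mem_commutator (b6 hz) hh
      have c1 := hcent ⁅(⟨z, hzHc⟩ : ↥Hc), ⟨k, hkHc⟩⁆ hzk
      have c2 := hcent ⁅(⟨z, hzHc⟩ : ↥Hc), ⟨h, hhHc⟩⁆ hzh
      rw [map_commutatorElement] at c1 c2
      have c3 := comm_comm_of_central _ _ _ c1 c2
      rw [← map_commutatorElement, ← map_commutatorElement] at c3
      have c4 := (QuotientGroup.eq_one_iff _).mp c3
      rw [Subgroup.mem_subgroupOf] at c4
      exact c4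
    rw [a2] at key
    rw [Subgroup.commutator_le]
    intro k hk z hz
    have h1 := ((Cfsg.Agent.Lib.Helper55.mem_stabMod).mp (key hk)).2 z hz
    have h2 := R.inv_mem h1
    rwa [commutatorElement_inv] at h2

end Cfsg.Agent.S2859
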