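import Cfsg.Statements.S2864
import Cfsg.Agent.Lib.Helper56.Dagger
import Cfsg.Agent.Lib.Helper56.Burn
import Cfsg.Agent.Lib.Helper56.Frat
import Mathlib

set_option autoImplicit false
open Cfsg
open Cfsg.Agent.Lib.Helper56
open scoped Pointwise commutatorElement

namespace Cfsg.Agent.S2864

/-- Standing hypotheses: G a finite group, S a Sylow p-subgroup, Q a nontrivial large p-subgroup of G contained in S, M a subgroup containing S with the basic property (M ∈ 𝔐_G(S)); Y_M the largest p-reduced normal subgroup of M and M† = M·C_G(Y_M). Let I be a nontrivial normal p-subgroup of M and Y ≤ O_p(M†); let L be a subgroup of G containing Y and A a normal p-subgroup of L with I ≤ A ≤ M. If [Y, A] ≤ [I, A], then Y ≤ O_p(L). -/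
theorem result {G : Type*} [Group G] [Finite G] {p : ℕ} [Fact p.Prime] (S : Sylow p G) (Q : Subgroup G) (hQp : IsPGroup p ↥Q) (hQ1 : Q ≠ ⊥) (hQS : Q ≤ (S : Subgroup G)) (hQ : Cfsg.IsLarge Q) (M : Subgroup G) (hSM : (S : Subgroup G) ≤ M) (hM : Cfsg.IsInFrakM p M) (I : Subgroup G) (hI1 : I ≠ ⊥) (hIp : IsPGroup p ↥I) (hIM : I ≤ M ∧ M ≤ Subgroup.normalizer ((I : Subgroup G) : Set G)) (Y : Subgroup G) (hY : Y ≤ (Cfsg.pCoreOf p (M ⊔ Subgroup.centralizer (((Cfsg.largestPReducedOf p M) : Subgroup G) : Set G)))) (L : Subgroup G) (hYL : Y ≤ L) (A : Subgroup G) (hAp : IsPGroup p ↥A) (hAL : A ≤ L ∧ L ≤ Subgroup.normalizer ((A : Subgroup G) : Set G)) (hIA : I ≤ A) (hAM : A ≤ M) (hc : ⁅Y, A⁆ ≤ ⁅I, A⁆) : Y ≤ (Cfsg.pCoreOf p L) := by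
  classical
  set Md := M ⊔ Subgroup.centralizer ((Cfsg.largestPReducedOf p M : Subgroup G) : Set G) with hMd
  have hNI : Subgroup.normalizer (I : Set G) ≤ Md :=
    frakM_normalizer_le_dagger hQ hQp S hQS M hSM hM I hI1 hIp hIM.2
  have hLΦ : L ≤ Subgroup.normalizer ((frattOf A : Subgroup G) : Set G) :=
    hAL.2.trans (normalizer_le_normalizer_frattOf A)
  set K := L ⊓ frattStab A with hK
  have hLK : L ≤ Subgroup.normalizer ((K : Subgroup G) : Set G) := by
    refine le_trans ?_ (normalizer_inf_le L _)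
    refine le_inf Subgroup.le_normalizer ?_
    unfold frattStab
    refine le_trans ?_ (normalizer_inf_le _ _)
    exact le_inf (hAL.2.trans Subgroup.le_normalizer)
      (Cfsg.Agent.Lib.Helper55.le_normalizer_stabMod hAL.2 hLΦ)
  have hAAΦ : ⁅A, A⁆ ≤ frattOf A := by
    rw [← Cfsg.Agent.Lib.Helper55.map_subtype_commutator_top]
    exact Subgroup.map_mono (commutator_le_frattini_of_pgroup hAp)
  have hYK : Y ≤ K := by
    intro y hy
    refine Subgroup.mem_inf.mpr ⟨hYL hy, (mem_frattStab_iff A y).mpr ⟨hAL.2 (hYL hy), fun x hx => ?_⟩⟩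
    have h1 : ⁅y, x⁆ ∈ ⁅Y, A⁆ := Subgroup.commutator_mem_commutator hy hx
    have h2 := hAAΦ (Subgroup.commutator_mono hIA le_rfl (hc h1))
    rwa [commutatorElement_def] at h2
  set K0 := L ⊓ Subgroup.centralizer (A : Set G) with hK0
  have hK0K : K0 ≤ K := by
    intro c hc'
    obtain ⟨hcL, hcA⟩ := Subgroup.mem_inf.mp hc'
    refine Subgroup.mem_inf.mpr ⟨hcL, (mem_frattStab_iff A c).mpr
      ⟨Subgroup.centralizer_le_normalizer _ hcA, fun x hx => ?_⟩⟩
    have e : c * x * c⁻¹ * x⁻¹ = 1 := by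
      have := Subgroup.mem_centralizer_iff.mp hcA x hx
      rw [← this]; group
    rw [e]; exact Subgroup.one_mem _
  set X := Y ⊔ K0 with hX
  have hXK : X ≤ K := sup_le hYK hK0K
  have hXMd : X ≤ Md := by
    refine sup_le (hY.trans (pCoreOf_le p Md)) ?_
    exact inf_le_right.trans ((Subgroup.centralizer_le hIA).trans
      ((Subgroup.centralizer_le_normalizer _).trans hNI))
  have hYX : Y ≤ Cfsg.pCoreOf p X := by
    have h1 : Cfsg.pCoreOf p Md ⊓ X ≤ Cfsg.pCoreOf p X := by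
      apply le_pCoreOf X _ inf_le_right _ ((pCoreOf_isPGroup p Md).to_le inf_le_left)
      exact le_trans (le_inf (hXMd.trans (le_normalizer_pCoreOf p Md)) Subgroup.le_normalizer)
        (normalizer_inf_le _ _)
    exact (le_inf hY le_sup_left).trans h1
  have hres : (Cfsg.pResidual p ↥K).map K.subtype ≤ X := by
    rw [Cfsg.Agent.Lib.Helper55.map_subtype_pResidual_le_iff]
    intro x hxK hcop
    have hxC := burnside_coprime A hAp (orderOf x) x rfl hcop (Subgroup.mem_inf.mp hxK).2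
    have hx0 : x ∈ K0 := Subgroup.mem_inf.mpr ⟨(Subgroup.mem_inf.mp hxK).1, hxC⟩
    exact (le_sup_right : K0 ≤ Y ⊔ K0) hx0
  have hsub : (X.subgroupOf K).IsSubnormal :=
    Cfsg.Agent.Lib.Helper55.isSubnormal_of_residual_le (p := p) hres
  have h1 : Cfsg.pCoreOf p (X.subgroupOf K) ≤ Cfsg.pCore p ↥K :=
    Cfsg.Agent.Lib.Helper55.subnormal_pCoreOf_le_pCore hsub
  have hXKc : Cfsg.pCoreOf p X ≤ Cfsg.pCoreOf p K := by
    intro y hy
    have hyK : y ∈ K := hXK (pCoreOf_le p X hy)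
    have h2 : (Cfsg.pCoreOf p X).subgroupOf K ≤ Cfsg.pCoreOf p (X.subgroupOf K) := by
      apply le_pCoreOf (X.subgroupOf K) _ (fun x hx => pCoreOf_le p X hx) _
        ((pCoreOf_isPGroup p X).comap_of_injective K.subtype K.subtype_injective)
      intro x hx
      have hxN := le_normalizer_pCoreOf p X (Subgroup.mem_subgroupOf.mp hx)
      rw [Subgroup.mem_normalizer_iff]
      intro h
      exact Subgroup.mem_normalizer_iff.mp hxN (h : G)
    have h3 : (⟨y, hyK⟩ : ↥K) ∈ Cfsg.pCore p ↥K := h1 (h2 hy)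
    exact ⟨⟨y, hyK⟩, h3, rfl⟩
  exact hYX.trans (hXKc.trans (pCoreOf_le_pCoreOf_of_normal L K inf_le_left hLK))

end Cfsg.Agent.S2864
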