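import Cfsg.Statements.S2874
import Cfsg.Agent.Lib.Helper56.GL2
import Cfsg.Agent.Lib.Helper56.WeakClosed
import Mathlib

set_option autoImplicit false
open Cfsg
open Cfsg.Agent.Lib.Helper56
open scoped Pointwise commutatorElement

namespace Cfsg.Agent.S2874

/-- For k ≥ 2, any two subgroups of GL₂(ℤ/2ᵏℤ) (the automorphism group of the homocyclic group ℤ/2ᵏ × ℤ/2ᵏ) that are isomorphic to the alternating group of degree 4 are conjugate. -/
theorem result (k : ℕ) (hk : 2 ≤ k) (H₁ H₂ : Subgroup (GL (Fin 2) (ZMod (2 ^ k)))) (h₁ : Nonempty (↥H₁ ≃* ↥(alternatingGroup (Fin 4)))) (h₂ : Nonempty (↥H₂ ≃* ↥(alternatingGroup (Fin 4)))) : ∃ g : GL (Fin 2) (ZMod (2 ^ k)), H₂ = H₁.map (MulAut.conj g).toMonoidHom := by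
  obtain ⟨e₁⟩ := h₁
  obtain ⟨e₂⟩ := h₂
  obtain ⟨g₁, v₁, hp₁, hr₁⟩ := a4_normal_form k H₁ e₁
  obtain ⟨g₂, v₂, hp₂, hr₂⟩ := a4_normal_form k H₂ e₂
  have hk1 : 1 ≤ k := by omega
  have hC₁ : cUnit (ZMod (2 ^ k)) ∈ Subgroup.closure {cUnit (ZMod (2 ^ k)), v₁} :=
    Subgroup.subset_closure (by simp)
  have hC₂ : cUnit (ZMod (2 ^ k)) ∈ Subgroup.closure {cUnit (ZMod (2 ^ k)), v₂} :=
    Subgroup.subset_closure (by simp)
  have heq : Subgroup.closure {cUnit (ZMod (2 ^ k)), v₁} = Subgroup.closure {cUnit (ZMod (2 ^ k)), v₂} := by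
    apply le_antisymm
    · rw [Subgroup.closure_le]
      rintro x (rfl | rfl)
      · exact hC₂
      · exact a4pair_mem_closure k hk1 v₂ _ hp₂ hp₁
    · rw [Subgroup.closure_le]
      rintro x (rfl | rfl)
      · exact hC₁
      · exact a4pair_mem_closure k hk1 v₁ _ hp₁ hp₂
  refine ⟨g₂⁻¹ * g₁, ?_⟩
  rw [← conj_map_map, hr₁, heq, ← hr₂, conj_map_map, inv_mul_cancel, conj_one_map]

end Cfsg.Agent.S2874
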