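import Cfsg.Statements.S3803
import Mathlib

set_option autoImplicit false
open Cfsg

namespace Cfsg.Agent.S3803

variable {X : Type*} [Group X]

lemma conj_pow_eq {a x c : X} (h : a * x * a⁻¹ = x * c) (hc : Commute a c) (j : ℕ) :
    a ^ j * x * (a ^ j)⁻¹ = x * c ^ j := by
  induction j with
  | zero => simp
  | succ j ih =>
    have h1 : a ^ (j + 1) * x * (a ^ (j + 1))⁻¹ = a * (a ^ j * x * (a ^ j)⁻¹) * a⁻¹ := by
      rw [pow_succ']; group
    rw [h1, ih]
    have h2 : a * c ^ j * a⁻¹ = c ^ j := by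
      have h3 := (hc.pow_right j).eq
      rw [h3]; group
    calc a * (x * c ^ j) * a⁻¹ = (a * x * a⁻¹) * (a * c ^ j * a⁻¹) := by group
      _ = x * c * c ^ j := by rw [h, h2]
      _ = x * c ^ (j + 1) := by rw [pow_succ', mul_assoc]

lemma L1 [Finite X] {a x c : X} (h : a * x * a⁻¹ = x * c) (hc : Commute a c) (ha : Odd (orderOf a))
    {k : ℕ} (hck : c ^ 2 ^ k = 1) : c = 1 := by
  have h1 := conj_pow_eq h hc (orderOf a)
  rw [pow_orderOf_eq_one] at h1
  simp at h1
  have h2 : c ^ Nat.gcd (orderOf a) (2 ^ k) = 1 := pow_gcd_eq_one.mpr ⟨h1, hck⟩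
  have h3 : Nat.gcd (orderOf a) (2 ^ k) = 1 := by
    have h4 : Nat.Coprime (orderOf a) (2 ^ k) :=
      Nat.Coprime.pow_right k (Nat.Coprime.symm (Nat.coprime_two_left.mpr ha))
    exact h4
  rw [h3, pow_one] at h2
  exact h2

lemma nt {e : ℕ} {k : ℤ} {m : ℕ} (hm : Odd m) (h : ((2 ^ e : ℕ) : ℤ) ∣ k ^ m - 1) :
    ((2 ^ e : ℕ) : ℤ) ∣ k - 1 := by
  rcases Nat.eq_zero_or_pos e with rfl | he
  · simp
  have hm0 : m ≠ 0 := by
    rintro rfl
    simp at hm
  have h1 : ((k : ZMod (2 ^ e)) ^ m) = 1 := by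
    have h2 := (ZMod.intCast_zmod_eq_zero_iff_dvd (k ^ m - 1) (2 ^ e)).mpr h
    push_cast at h2
    exact sub_eq_zero.mp h2
  let u : (ZMod (2 ^ e))ˣ := Units.ofPowEqOne _ m h1 hm0
  have hu1 : u ^ m = 1 := Units.ext (by simp [u])
  have hu2 : u ^ (Nat.totient (2 ^ e)) = 1 := ZMod.pow_totient u
  have hu3 : u ^ Nat.gcd m (Nat.totient (2 ^ e)) = 1 := pow_gcd_eq_one.mpr ⟨hu1, hu2⟩
  have h3 : Nat.gcd m (Nat.totient (2 ^ e)) = 1 := by
    rw [Nat.totient_prime_pow Nat.prime_two he]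
    have h4 : Nat.Coprime m (2 ^ (e - 1) * (2 - 1)) := by
      simp only [Nat.add_one_sub_one, mul_one]
      exact Nat.Coprime.pow_right _ (Nat.Coprime.symm (Nat.coprime_two_left.mpr hm))
    exact h4
  rw [h3, pow_one] at hu3
  have h2 : (k : ZMod (2 ^ e)) = 1 := by
    have h5 := congrArg Units.val hu3
    simpa [u] using h5
  have h6 : (((k - 1 : ℤ) : ZMod (2 ^ e))) = 0 := by
    push_cast; rw [h2]; simp
  exact (ZMod.intCast_zmod_eq_zero_iff_dvd (k - 1) (2 ^ e)).mp h6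

lemma L3 [Finite X] {a y : X} (h : a * y * a⁻¹ ∈ Subgroup.zpowers y) (ha : Odd (orderOf a))
    {d : ℕ} (hy : y ^ 2 ^ d = 1) : a * y * a⁻¹ = y := by
  obtain ⟨k, hk⟩ := Subgroup.mem_zpowers_iff.mp h
  have hj : ∀ j : ℕ, a ^ j * y * (a ^ j)⁻¹ = y ^ (k ^ j) := by
    intro j
    induction j with
    | zero => simp
    | succ j ih =>
      have h1 : a ^ (j + 1) * y * (a ^ (j + 1))⁻¹ = a * (a ^ j * y * (a ^ j)⁻¹) * a⁻¹ := by
        rw [pow_succ']; group
      rw [h1, ih]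
      have h2 : a * y ^ (k ^ j) * a⁻¹ = (a * y * a⁻¹) ^ (k ^ j) := by
        rw [conj_zpow]
      rw [h2, ← hk, ← zpow_mul, pow_succ']
  have h1 := hj (orderOf a)
  rw [pow_orderOf_eq_one] at h1
  simp at h1
  have h2 : y ^ (k ^ orderOf a - 1) = 1 := by
    rw [zpow_sub, zpow_one, ← h1]; simp
  obtain ⟨e, he, hoy⟩ := (Nat.dvd_prime_pow Nat.prime_two).mp (orderOf_dvd_of_pow_eq_one hy)
  have h3 : ((orderOf y : ℕ) : ℤ) ∣ k ^ orderOf a - 1 := orderOf_dvd_iff_zpow_eq_one.mpr h2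
  rw [hoy] at h3
  have h4 := nt ha h3
  rw [← hoy] at h4
  have h5 : y ^ (k - 1) = 1 := orderOf_dvd_iff_zpow_eq_one.mp h4
  rw [← hk]
  have h6 : y ^ k = y ^ (k - 1) * y := by
    rw [← zpow_add_one]; simp
  rw [h6, h5, one_mul]

lemma exists_between [Finite X] {p : ℕ} [Fact p.Prime] {P H : Subgroup X} (hHP : H ≤ P) {k m : ℕ}
    (hH : Nat.card H = p ^ k) (hkm : k ≤ m) (hm : p ^ m ∣ Nat.card P) :
    ∃ K : Subgroup X, H ≤ K ∧ K ≤ P ∧ Nat.card K = p ^ m := by
  have h1 : Nat.card (H.subgroupOf P) = p ^ k := by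
    rw [← hH]; exact Nat.card_congr (Subgroup.subgroupOfEquivOfLe hHP).toEquiv
  obtain ⟨K', hK', hle⟩ := Sylow.exists_subgroup_card_pow_prime_le p hm (H.subgroupOf P) h1 hkm
  refine ⟨K'.map P.subtype, ?_, Subgroup.map_subtype_le K', ?_⟩
  · intro h hh
    exact ⟨⟨h, hHP hh⟩, hle (Subgroup.mem_subgroupOf.mpr hh), rfl⟩
  · rw [← hK']
    exact Nat.card_congr (K'.equivMapOfInjective P.subtype P.subtype_injective).symm.toEquiv

def sq (P : Subgroup X) : Subgroup X := Subgroup.closure {y | ∃ x ∈ P, y = x ^ 2}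

lemma sq_le (P : Subgroup X) : sq P ≤ P := by
  rw [sq, Subgroup.closure_le]
  rintro _ ⟨x, hx, rfl⟩
  exact P.pow_mem hx 2

lemma sq_conj {P : Subgroup X} {a : X} (ha : ∀ x ∈ P, a * x * a⁻¹ ∈ P) {s : X} (hs : s ∈ sq P) :
    a * s * a⁻¹ ∈ sq P := by
  unfold sq at hs ⊢
  induction hs using Subgroup.closure_induction with
  | mem y hy =>
    obtain ⟨x, hx, rfl⟩ := hy
    apply Subgroup.subset_closure
    exact ⟨a * x * a⁻¹, ha x hx, by rw [conj_pow]⟩
  | one => simp
  | mul u v _ _ hu hv =>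
    have h1 : a * (u * v) * a⁻¹ = (a * u * a⁻¹) * (a * v * a⁻¹) := by group
    rw [h1]; exact Subgroup.mul_mem _ hu hv
  | inv u _ hu =>
    have h1 : a * u⁻¹ * a⁻¹ = (a * u * a⁻¹)⁻¹ := by group
    rw [h1]; exact Subgroup.inv_mem _ hu

lemma index_two_of_card [Finite X] {P M : Subgroup X} (hMP : M ≤ P) {n : ℕ} (hn : n ≠ 0)
    (hP : Nat.card P = 2 ^ n) (hM : Nat.card M = 2 ^ (n - 1)) : (M.subgroupOf P).index = 2 := by
  have h0 : Nat.card (M.subgroupOf P) = Nat.card M :=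
    Nat.card_congr (Subgroup.subgroupOfEquivOfLe hMP).toEquiv
  have h1 : (M.subgroupOf P).index * Nat.card M = Nat.card P := by
    rw [← h0, mul_comm]; exact Subgroup.card_mul_index _
  rw [hM, hP] at h1
  have h2 : 2 ^ n = 2 * 2 ^ (n - 1) := by
    rw [← pow_succ']; congr 1; omega
  rw [h2] at h1
  have h3 : 0 < 2 ^ (n - 1) := by positivity
  exact Nat.eq_of_mul_eq_mul_right h3 h1

lemma sup_conj {E E₂ : Subgroup X} {a : X} (h1 : ∀ x ∈ E, a * x * a⁻¹ ∈ E)
    (h2 : ∀ x ∈ E₂, a * x * a⁻¹ ∈ E₂) {f : X} (hf : f ∈ E ⊔ E₂) : a * f * a⁻¹ ∈ E ⊔ E₂ := by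
  have h3 : (E ⊔ E₂).map (MulAut.conj a).toMonoidHom ≤ E ⊔ E₂ := by
    rw [Subgroup.map_sup]
    apply sup_le_sup
    · rintro _ ⟨x, hx, rfl⟩; exact h1 x hx
    · rintro _ ⟨x, hx, rfl⟩; exact h2 x hx
  exact h3 ⟨f, hf, rfl⟩

lemma sq_ne [Finite X] {P : Subgroup X} (hP : IsPGroup 2 P) (hne : P ≠ ⊥) : sq P ≠ P := by
  haveI : Fact (Nat.Prime 2) := ⟨Nat.prime_two⟩
  obtain ⟨n, hn⟩ := hP.exists_card_eq
  have hn0 : n ≠ 0 := by
    rintro rfl
    rw [pow_zero, Subgroup.card_eq_one] at hn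
    exact hne hn
  obtain ⟨M, -, hMP, hM⟩ := exists_between (p := 2) (P := P) (H := ⊥) bot_le (k := 0) (m := n - 1)
    (by simp) (Nat.zero_le _) (by rw [hn]; exact pow_dvd_pow 2 (Nat.sub_le n 1))
  intro hsq
  have hidx : (M.subgroupOf P).index = 2 := index_two_of_card hMP hn0 hn hM
  have hle : sq P ≤ M := by
    rw [sq, Subgroup.closure_le]
    rintro _ ⟨x, hx, rfl⟩
    have h1 := Subgroup.sq_mem_of_index_two hidx (⟨x, hx⟩ : P)
    rw [Subgroup.mem_subgroupOf] at h1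
    simpa using h1
  rw [hsq] at hle
  have h4 := Subgroup.card_le_of_le hle
  rw [hM, hn] at h4
  have h5 : 2 ^ (n - 1) < 2 ^ n := Nat.pow_lt_pow_right (by norm_num) (by omega)
  omega

lemma L2 [Finite X] (A : Subgroup X) (hA : ∀ a ∈ A, Odd (orderOf a)) :
    ∀ n : ℕ, ∀ P : Subgroup X, Nat.card P = n → IsPGroup 2 P →
      (∀ a ∈ A, ∀ x ∈ P, a * x * a⁻¹ ∈ P) →
      (∀ x ∈ P, x ^ 4 = 1 → ∀ a ∈ A, a * x * a⁻¹ = x) → ∀ x ∈ P, ∀ a ∈ A, a * x * a⁻¹ = x := by
  intro n
  induction n using Nat.strong_induction_on with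
  | _ n ih =>
  intro P hn hP hinv h4 x hx a ha
  have ih' : ∀ R : Subgroup X, R ≤ P → R ≠ P → (∀ a ∈ A, ∀ x ∈ R, a * x * a⁻¹ ∈ R) →
      ∀ x ∈ R, ∀ a ∈ A, a * x * a⁻¹ = x := by
    intro R hR hne hRinv
    have hlt : Nat.card R < n := by
      rw [← hn]
      exact lt_of_le_of_ne (Subgroup.card_le_of_le hR)
        (fun h => hne (Subgroup.eq_of_le_of_card_ge hR h.ge))
    exact ih _ hlt R rfl (hP.to_le hR) hRinv (fun x hx => h4 x (hR hx))
  by_cases hbot : P = ⊥
  · subst hbot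
    rw [Subgroup.mem_bot] at hx
    subst hx
    simp
  have hS := ih' (sq P) (sq_le P) (sq_ne hP hbot) (fun a ha s hs => sq_conj (hinv a ha) hs)
  set c := x⁻¹ * (a * x * a⁻¹) with hc
  have hcP : c ∈ P := P.mul_mem (P.inv_mem hx) (hinv a ha x hx)
  have hax : a * x * a⁻¹ = x * c := by rw [hc]; group
  obtain ⟨k, hk⟩ : ∃ k, c ^ 2 ^ k = 1 := by
    obtain ⟨k, hk⟩ := hP ⟨c, hcP⟩
    exact ⟨k, by simpa using congrArg Subtype.val hk⟩
  suffices hcomm : Commute a c by
    have h1 := L1 hax hcomm (hA a ha) hk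
    rw [hax, h1, mul_one]
  have hSP : ∀ p ∈ P, ∀ s ∈ sq P, p * s * p⁻¹ ∈ sq P := fun p hp s hs =>
    sq_conj (fun y hy => P.mul_mem (P.mul_mem hp hy) (P.inv_mem hp)) hs
  have hcS : ∀ s ∈ sq P, c * s = s * c := by
    intro s hs
    have e1 : a⁻¹ * s * a = s := by
      have h1 := hS s hs a⁻¹ (A.inv_mem ha)
      simpa using h1
    have e2 : a * (x * s * x⁻¹) * a⁻¹ = x * s * x⁻¹ := hS _ (hSP x hx s hs) a ha
    have e3 : (a * x * a⁻¹) * s * (a * x * a⁻¹)⁻¹ = x * s * x⁻¹ := by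
      calc (a * x * a⁻¹) * s * (a * x * a⁻¹)⁻¹ = a * (x * (a⁻¹ * s * a) * x⁻¹) * a⁻¹ := by group
        _ = x * s * x⁻¹ := by rw [e1, e2]
    calc c * s = x⁻¹ * ((a * x * a⁻¹) * s * (a * x * a⁻¹)⁻¹) * (a * x * a⁻¹) := by
          rw [hc]; group
      _ = s * c := by rw [e3, hc]; group
  by_cases hK : ∀ y ∈ P, ∀ s ∈ sq P, y * s = s * y
  · have hc4 : c ^ 4 = 1 := by
      have hyP : a * x * a⁻¹ ∈ P := hinv a ha x hx
      have hx2 : x ^ 2 ∈ sq P := Subgroup.subset_closure ⟨x, hx, rfl⟩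
      have hy2 : (a * x * a⁻¹) ^ 2 = x ^ 2 := by
        rw [conj_pow]; exact hS _ hx2 a ha
      have hc2 : c ^ 2 ∈ sq P := Subgroup.subset_closure ⟨c, hcP, rfl⟩
      have e1 : x * c ^ 2 = c ^ 2 * x := hK x hx _ hc2
      generalize a * x * a⁻¹ = y at hc hy2 hyP
      have e2 : c ^ 2 = x⁻¹ * y * x⁻¹ * y := by rw [hc]; simp [pow_two, mul_assoc]
      have e3 : c ^ 2 = y * x⁻¹ * y * x⁻¹ := by
        have h1 : c ^ 2 = x * c ^ 2 * x⁻¹ := by rw [e1]; group
        rw [h1, e2]; group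
      have e4 : y * y = x * x := by simpa [pow_two] using hy2
      have e5 : c ^ 4 = c ^ 2 * c ^ 2 := by rw [← pow_add]
      rw [e5]
      nth_rewrite 1 [e2]
      rw [e3]
      calc (x⁻¹ * y * x⁻¹ * y) * (y * x⁻¹ * y * x⁻¹)
          = x⁻¹ * y * x⁻¹ * (y * y) * x⁻¹ * y * x⁻¹ := by group
        _ = x⁻¹ * y * x⁻¹ * (x * x) * x⁻¹ * y * x⁻¹ := by rw [e4]
        _ = x⁻¹ * (y * y) * x⁻¹ := by group
        _ = x⁻¹ * (x * x) * x⁻¹ := by rw [e4]
        _ = 1 := by group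
    have h1 := h4 c hcP hc4 a ha
    exact (mul_inv_eq_iff_eq_mul.mp h1 : a * c = c * a)
  · let K : Subgroup X := P ⊓ Subgroup.centralizer (sq P : Set X)
    have hKne : K ≠ P := by
      intro hKP
      apply hK
      intro y hy s hs
      have h1 : y ∈ K := hKP ▸ hy
      exact ((Subgroup.mem_centralizer_iff.mp h1.2) s hs).symm
    have hKinv : ∀ a ∈ A, ∀ x ∈ K, a * x * a⁻¹ ∈ K := by
      intro b hb z hz
      refine ⟨hinv b hb z hz.1, Subgroup.mem_centralizer_iff.mpr ?_⟩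
      intro s hs
      have e1 : b⁻¹ * s * b = s := by simpa using hS s hs b⁻¹ (A.inv_mem hb)
      have e2 : s * z = z * s := Subgroup.mem_centralizer_iff.mp hz.2 s hs
      have e3 : b * s * b⁻¹ = s := hS s hs b hb
      calc s * (b * z * b⁻¹) = b * ((b⁻¹ * s * b) * z) * b⁻¹ := by group
        _ = b * (z * s) * b⁻¹ := by rw [e1, e2]
        _ = (b * z * b⁻¹) * (b * s * b⁻¹) := by group
        _ = b * z * b⁻¹ * s := by rw [e3]
    have hKc := ih' K inf_le_left hKne hKinv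
    have hcK : c ∈ K := ⟨hcP, Subgroup.mem_centralizer_iff.mpr (fun s hs => (hcS s hs).symm)⟩
    have h1 := hKc c hcK a ha
    exact (mul_inv_eq_iff_eq_mul.mp h1 : a * c = c * a)

lemma mainq [Finite X] (A : Subgroup X) {q : ℕ} [Fact q.Prime] (hq2 : q ≠ 2) (hAq : IsPGroup q A) :
    ∀ n : ℕ, ∀ P D : Subgroup X, Nat.card P = n → IsPGroup 2 P →
      (∀ a ∈ A, ∀ x ∈ P, a * x * a⁻¹ ∈ P) → D ≤ P → 1 < Nat.card D → Nat.card D < Nat.card P →
      (∀ E : Subgroup X, E ≤ P → (Nat.card E = Nat.card D ∨ (Nat.card D = 2 ∧ Nat.card E = 4)) →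
        ∀ a ∈ A, ∀ x ∈ E, a * x * a⁻¹ ∈ E) →
      ∀ x ∈ P, ∀ a ∈ A, a * x * a⁻¹ = x := by
  have hodd : ∀ a ∈ A, Odd (orderOf a) := by
    intro a ha
    obtain ⟨k, hk⟩ := hAq ⟨a, ha⟩
    have h1 : a ^ q ^ k = 1 := by simpa using congrArg Subtype.val hk
    have h2 : orderOf a ∣ q ^ k := orderOf_dvd_of_pow_eq_one h1
    exact Odd.of_dvd_nat ((Nat.Prime.odd_of_ne_two Fact.out hq2).pow) h2
  intro n
  induction n using Nat.strong_induction_on with
  | _ n ih =>
  intro P D hn hP hPinv hDP hD1 hD2 hinv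
  haveI : Fact (Nat.Prime 2) := ⟨Nat.prime_two⟩
  obtain ⟨n', hn'⟩ := hP.exists_card_eq
  obtain ⟨d, hd⟩ := (hP.to_le hDP).exists_card_eq
  have hd1 : 1 ≤ d := by
    by_contra h
    have h0 : d = 0 := by omega
    subst h0
    rw [pow_zero] at hd
    omega
  have hdn : d < n' := by
    rw [hd, hn'] at hD2
    exact (Nat.pow_lt_pow_iff_right (by norm_num)).mp hD2
  rcases Nat.lt_or_ge (d + 1) n' with hlt | hge
  · apply L2 A hodd n P hn hP hPinv
    intro x hx hx4 a ha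
    have hxpow : x ^ 2 ^ 2 = 1 := by simpa using hx4
    obtain ⟨k, hk2, hk⟩ := (Nat.dvd_prime_pow Nat.prime_two).mp (orderOf_dvd_of_pow_eq_one hxpow)
    have hzc : Nat.card (Subgroup.zpowers x) = 2 ^ k := by rw [Nat.card_zpowers, hk]
    have hzP : Subgroup.zpowers x ≤ P := by rw [Subgroup.zpowers_le]; exact hx
    by_cases hd2 : d = 1
    · have hz : ∀ a ∈ A, ∀ y ∈ Subgroup.zpowers x, a * y * a⁻¹ ∈ Subgroup.zpowers x := by
        interval_cases k
        · have hx1 : x = 1 := by simpa using hk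
          subst hx1
          intro a ha y hy
          simp at hy
          subst hy
          simp
        · exact hinv _ hzP (Or.inl (by rw [hzc, hd, hd2]))
        · exact hinv _ hzP (Or.inr ⟨by rw [hd, hd2]; norm_num, by rw [hzc]; norm_num⟩)
      exact L3 (hz a ha x (Subgroup.mem_zpowers x)) (hodd a ha) hxpow
    · have hd2' : 2 ≤ d := by omega
      obtain ⟨E, hzE, hEP, hE⟩ := exists_between (p := 2) hzP hzc (le_trans hk2 hd2')
        (by rw [hn']; exact pow_dvd_pow 2 hdn.le)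
      obtain ⟨F, hEF, hFP, hF⟩ := exists_between (p := 2) hEP hE (Nat.le_succ d)
        (by rw [hn']; exact pow_dvd_pow 2 hlt.le)
      have hxE : x ∈ E := hzE (Subgroup.mem_zpowers x)
      have hEinv := hinv E hEP (Or.inl (by rw [hE, hd]))
      by_cases hFinv : ∀ a ∈ A, ∀ f ∈ F, a * f * a⁻¹ ∈ F
      · have hFlt : Nat.card F < n := by
          rw [hF, ← hn, hn']; exact Nat.pow_lt_pow_right (by norm_num) hlt
        refine ih _ hFlt F E rfl (hP.to_le hFP) hFinv hEF ?_ ?_ ?_ x (hEF hxE) a ha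
        · rw [hE]; exact Nat.one_lt_two_pow (by omega)
        · rw [hE, hF]; exact Nat.pow_lt_pow_right (by norm_num) (by omega)
        · intro E₂ hE₂ hc
          apply hinv E₂ (hE₂.trans hFP)
          rcases hc with hc | ⟨hc1, hc2⟩
          · left; rw [hc, hE, hd]
          · right; exact ⟨by rw [hd, ← hE, hc1], hc2⟩
      · have huniq : ∀ E₂ : Subgroup X, E₂ ≤ F → Nat.card E₂ = 2 ^ d → E₂ = E := by
          intro E₂ hE₂F hE₂
          by_contra hne
          apply hFinv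
          have hE₂inv := hinv E₂ (hE₂F.trans hFP) (Or.inl (by rw [hE₂, hd]))
          have hsup : E ⊔ E₂ = F := by
            apply Subgroup.eq_of_le_of_card_ge (sup_le hEF hE₂F)
            obtain ⟨j, hj⟩ := (hP.to_le ((sup_le hEF hE₂F).trans hFP)).exists_card_eq
            have h1 : Nat.card E < Nat.card (E ⊔ E₂ : Subgroup X) := by
              apply lt_of_le_of_ne (Subgroup.card_le_of_le le_sup_left)
              intro h
              have h2 : E = E ⊔ E₂ := Subgroup.eq_of_le_of_card_ge le_sup_left h.ge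
              have h3 : E₂ ≤ E := by rw [h2]; exact le_sup_right
              exact hne (Subgroup.eq_of_le_of_card_ge h3 (by rw [hE, hE₂]))
            rw [hE, hj] at h1
            have h2 : d < j := (Nat.pow_lt_pow_iff_right (by norm_num)).mp h1
            rw [hF, hj]
            exact Nat.pow_le_pow_right (by norm_num) h2
          intro a ha f hf
          rw [← hsup] at hf ⊢
          exact sup_conj (hEinv a ha) (hE₂inv a ha) hf
        have hEltF : E < F := by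
          apply lt_of_le_of_ne hEF
          intro h
          rw [h, hF] at hE
          have h1 : 2 ^ d < 2 ^ (d + 1) := Nat.pow_lt_pow_right (by norm_num) (by omega)
          omega
        obtain ⟨y, hyF, hyE⟩ := SetLike.exists_of_lt hEltF
        have hzy : Subgroup.zpowers y = F := by
          have hzyF : Subgroup.zpowers y ≤ F := by rw [Subgroup.zpowers_le]; exact hyF
          obtain ⟨j, hj⟩ := (hP.to_le (hzyF.trans hFP)).exists_card_eq
          by_contra hne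
          have hjd : j ≤ d := by
            by_contra hjd
            apply hne
            apply Subgroup.eq_of_le_of_card_ge hzyF
            rw [hF, hj]; exact Nat.pow_le_pow_right (by norm_num) (by omega)
          obtain ⟨E₂, hzE₂, hE₂F, hE₂⟩ := exists_between (p := 2) hzyF hj hjd
            (by rw [hF]; exact pow_dvd_pow 2 (Nat.le_succ d))
          have h1 := huniq E₂ hE₂F hE₂
          exact hyE (h1 ▸ hzE₂ (Subgroup.mem_zpowers y))
        haveI : IsCyclic F := by rw [← hzy]; infer_instance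
        haveI : IsCyclic E := Subgroup.isCyclic_of_le hEF
        obtain ⟨⟨e, heE⟩, hgen⟩ := IsCyclic.exists_generator (α := E)
        have hxe : x ∈ Subgroup.zpowers e := by
          obtain ⟨i, hi⟩ := Subgroup.mem_zpowers_iff.mp (hgen ⟨x, hxE⟩)
          exact Subgroup.mem_zpowers_iff.mpr ⟨i, by simpa using congrArg Subtype.val hi⟩
        have haee : a * e * a⁻¹ ∈ Subgroup.zpowers e := by
          have h1 := hEinv a ha e heE
          obtain ⟨i, hi⟩ := Subgroup.mem_zpowers_iff.mp (hgen ⟨a * e * a⁻¹, h1⟩)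
          exact Subgroup.mem_zpowers_iff.mpr ⟨i, by simpa using congrArg Subtype.val hi⟩
        obtain ⟨ke, hke⟩ : ∃ k, e ^ 2 ^ k = 1 := by
          obtain ⟨k, hk⟩ := hP ⟨e, hEP heE⟩
          exact ⟨k, by simpa using congrArg Subtype.val hk⟩
        have hae := L3 haee (hodd a ha) hke
        obtain ⟨i, rfl⟩ := Subgroup.mem_zpowers_iff.mp hxe
        rw [← conj_zpow, hae]
  · have hdn' : n' = d + 1 := by omega
    let C : Subgroup X := P ⊓ Subgroup.centralizer (A : Set X)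
    have hCP : C ≤ P := inf_le_left
    have hCA : ∀ x ∈ C, ∀ a ∈ A, a * x * a⁻¹ = x := by
      intro x hx a ha
      have h1 := Subgroup.mem_centralizer_iff.mp hx.2 a ha
      rw [h1]; group
    by_cases hCeq : C = P
    · intro x hx
      exact hCA x (hCeq ▸ hx)
    exfalso
    obtain ⟨j, hj⟩ := (hP.to_le hCP).exists_card_eq
    have hjd : j ≤ d := by
      by_contra hjd
      exact hCeq (Subgroup.eq_of_le_of_card_ge hCP
        (by rw [hj, hn']; exact Nat.pow_le_pow_right (by norm_num) (by omega)))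
    obtain ⟨M, hCM, hMP, hM⟩ := exists_between (p := 2) hCP hj hjd
      (by rw [hn']; exact pow_dvd_pow 2 (by omega))
    have hMinv := hinv M hMP (Or.inl (by rw [hM, hd]))
    have hidx : (M.subgroupOf P).index = 2 :=
      index_two_of_card hMP (n := n') (by omega) hn' (by rw [hM, hdn']; rfl)
    have hmem : ∀ u ∈ P, ∀ v ∈ P, (u * v ∈ M ↔ (u ∈ M ↔ v ∈ M)) := by
      intro u hu v hv
      have h1 := Subgroup.mul_mem_iff_of_index_two hidx (a := ⟨u, hu⟩) (b := ⟨v, hv⟩)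
      simpa [Subgroup.mem_subgroupOf] using h1
    have hall : ∀ x' ∈ P, x' ∈ M := by
      intro x' hx'
      letI : MulAction A {y : X // y ∈ P ∧ x'⁻¹ * y ∈ M} :=
        { smul := fun a y => ⟨(a : X) * y.1 * (a : X)⁻¹, hPinv a a.2 y.1 y.2.1, by
            have h1 := (hmem x'⁻¹ (P.inv_mem hx') y.1 y.2.1).mp y.2.2
            have h2 : (a : X) * y.1 * (a : X)⁻¹ ∈ M ↔ y.1 ∈ M :=
              ⟨fun h => by
                have h3 := hMinv (a : X)⁻¹ (A.inv_mem a.2) _ h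
                simpa [mul_assoc] using h3, fun h => hMinv a a.2 _ h⟩
            exact (hmem x'⁻¹ (P.inv_mem hx') _ (hPinv a a.2 y.1 y.2.1)).mpr (h1.trans h2.symm)⟩
          one_smul := fun y => Subtype.ext (by
            show ((1 : A) : X) * y.1 * ((1 : A) : X)⁻¹ = y.1
            simp)
          mul_smul := fun a b y => Subtype.ext (by
            show ((a * b : A) : X) * y.1 * ((a * b : A) : X)⁻¹ =
              (a : X) * ((b : X) * y.1 * (b : X)⁻¹) * (a : X)⁻¹
            simp [mul_assoc]) }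
      have hcardS : Nat.card {y : X // y ∈ P ∧ x'⁻¹ * y ∈ M} = Nat.card M := by
        apply Nat.card_congr
        exact { toFun := fun y => ⟨x'⁻¹ * y.1, y.2.2⟩
                invFun := fun m => ⟨x' * m.1, P.mul_mem hx' (hMP m.2), by simp⟩
                left_inv := fun y => Subtype.ext (by simp)
                right_inv := fun m => Subtype.ext (by simp) }
      have hnd : ¬ q ∣ Nat.card {y : X // y ∈ P ∧ x'⁻¹ * y ∈ M} := by
        rw [hcardS, hM]
        intro h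
        have h1 := (Nat.prime_dvd_prime_iff_eq Fact.out Nat.prime_two).mp
          (Nat.Prime.dvd_of_dvd_pow Fact.out h)
        exact hq2 h1
      obtain ⟨y, hy⟩ := hAq.nonempty_fixed_point_of_prime_not_dvd_card _ hnd
      have hyC : y.1 ∈ C := by
        refine ⟨y.2.1, Subgroup.mem_centralizer_iff.mpr ?_⟩
        intro a ha
        have h1 := MulAction.mem_fixedPoints.mp hy ⟨a, ha⟩
        have h2 : a * y.1 * a⁻¹ = y.1 := congrArg Subtype.val h1
        exact mul_inv_eq_iff_eq_mul.mp h2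
      have h1 := (hmem x'⁻¹ (P.inv_mem hx') y.1 y.2.1).mp y.2.2
      exact M.inv_mem_iff.mp (h1.mpr (hCM hyC))
    have h1 : Nat.card P ≤ Nat.card M := Subgroup.card_le_of_le hall
    rw [hn', hM, hdn'] at h1
    have h2 : 2 ^ d < 2 ^ (d + 1) := Nat.pow_lt_pow_right (by norm_num) (by omega)
    omega

theorem result {X : Type*} [Group X] [Finite X] (P A D : Subgroup X) (hP : IsPGroup 2 P) (hA : Odd (Nat.card A))
    (hAP : A ≤ Subgroup.normalizer (P : Set X)) (hDP : D ≤ P) (hD1 : 1 < Nat.card D) (hD2 : Nat.card D < Nat.card P)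
    (hinv : ∀ E : Subgroup X, E ≤ P → (Nat.card E = Nat.card D ∨ (Nat.card D = 2 ∧ Nat.card E = 4)) → A ≤ Subgroup.normalizer (E : Set X)) :
    A ≤ Subgroup.centralizer (P : Set X) := by
  let B : Subgroup A := (Subgroup.centralizer (P : Set X)).subgroupOf A
  have hidx : B.index = 1 := by
    by_contra hne
    obtain ⟨q, hq, hqd⟩ := Nat.exists_prime_and_dvd hne
    haveI : Fact q.Prime := ⟨hq⟩
    have hqA : q ∣ Nat.card A := hqd.trans (Subgroup.index_dvd_card B)
    have hq2 : q ≠ 2 := by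
      rintro rfl
      exact (Nat.not_even_iff_odd.mpr hA) (even_iff_two_dvd.mpr hqA)
    let Q : Sylow q A := default
    have hQB : (Q : Subgroup A) ≤ B := by
      intro a haQ
      rw [Subgroup.mem_subgroupOf, Subgroup.mem_centralizer_iff]
      intro x hx
      have hQ'p : IsPGroup q ((Q : Subgroup A).map A.subtype) := Q.isPGroup'.map A.subtype
      have h1 := mainq ((Q : Subgroup A).map A.subtype) hq2 hQ'p (Nat.card P) P D rfl hP ?_ hDP hD1 hD2 ?_
        x hx (a : X) ⟨a, haQ, rfl⟩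
      · exact (mul_inv_eq_iff_eq_mul.mp h1).symm
      · rintro _ ⟨b, hb, rfl⟩ y hy
        exact (Subgroup.mem_normalizer_iff.mp (hAP b.2) y).mp hy
      · intro E hE hc
        rintro _ ⟨b, hb, rfl⟩ y hy
        exact (Subgroup.mem_normalizer_iff.mp (hinv E hE hc b.2) y).mp hy
    have h1 : B.index ∣ (Q : Subgroup A).index := Subgroup.index_dvd_of_le hQB
    exact Q.not_dvd_index (hqd.trans h1)
  have hB : B = ⊤ := Subgroup.index_eq_one.mp hidx
  intro a ha
  have h1 : (⟨a, ha⟩ : A) ∈ B := hB ▸ Subgroup.mem_top _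
  exact Subgroup.mem_subgroupOf.mp h1

end Cfsg.Agent.S3803
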