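import Cfsg.Statements.S2879
import Mathlib
import Cfsg.Agent.Lib.Helper57.SL23
import Cfsg.Agent.Lib.Helper57.PCore
import Cfsg.Agent.Lib.Helper58.CharP
import Cfsg.Agent.Lib.Helper12.CharTwo
import Cfsg.Agent.Lib.Helper12.TwoComp
import Cfsg.Agent.Lib.Helper13.Basic
import Cfsg.Agent.Lib.Helper43.DihSyl2
import Cfsg.Agent.Lib.Helper28.QD9
import Cfsg.Agent.S3803

set_option autoImplicit false
open Cfsg

namespace Cfsg.Agent.S2879

open Cfsg.Agent.Lib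

variable {G : Type*} [Group G]

/-- the properties of a dihedral or semidihedral 2-group `T` with cyclic maximal subgroup `C`
and central involution `z` that are used below. -/
structure TwoData (T C : Subgroup G) (z : G) : Prop where
  hC : C ≤ T
  hcyc : IsCyclic ↥C
  hidx : ∀ s ∈ T, ∀ t ∈ T, s ∉ C → t ∉ C → s⁻¹ * t ∈ C
  hinv : ∀ t ∈ T, t ∉ C → ∀ u ∈ C, u ^ 4 = 1 → t * u * t⁻¹ = u⁻¹
  h4 : ∀ t ∈ T, t ∉ C → t ^ 4 = 1
  hz1 : z ≠ 1
  hz2 : z * z = 1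
  hzC : z ∈ C
  hcent : ∀ w ∈ T, (∀ t ∈ T, w * t = t * w) → w = 1 ∨ w = z
  hzT : ∀ t ∈ T, z * t = t * z

theorem dihedral_data [Finite G] (T : Sylow 2 G) (n : ℕ) (hn : 4 ≤ n)
    (e : ↥(T : Subgroup G) ≃* DihedralGroup n) :
    ∃ (C : Subgroup G) (z : G), TwoData (T : Subgroup G) C z := by
  obtain ⟨k, hk0, hnk, ι, hinj, hS, hsurj⟩ := Helper43.exists_dih_emb T n (by omega) e
  have : NeZero n := ⟨by omega⟩
  obtain ⟨C, hmem, hCT, hcyc, -⟩ := Helper43.dih_cyclic_max T n ι hinj hS hsurj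
  have hout : ∀ t ∈ (T : Subgroup G), t ∉ C → ∃ i, t = ι (DihedralGroup.sr i) := by
    intro t ht htC
    obtain ⟨d, rfl⟩ := hsurj t ht
    cases d with
    | r j => exact absurd ((hmem _).2 ⟨j, rfl⟩) htC
    | sr i => exact ⟨i, rfl⟩
  refine ⟨C, ι (DihedralGroup.r (k : ZMod n)), ?_⟩
  refine { hC := hCT, hcyc := hcyc, hidx := ?_, hinv := ?_, h4 := ?_, hz1 := ?_, hz2 := ?_,
           hzC := (hmem _).2 ⟨_, rfl⟩, hcent := ?_, hzT := ?_ }
  · intro s hs t ht hsC htC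
    obtain ⟨i, rfl⟩ := hout s hs hsC
    obtain ⟨j, rfl⟩ := hout t ht htC
    rw [← map_inv, ← map_mul, DihedralGroup.inv_sr, DihedralGroup.sr_mul_sr]
    exact (hmem _).2 ⟨_, rfl⟩
  · intro t ht htC u hu _
    obtain ⟨i, rfl⟩ := hout t ht htC
    obtain ⟨j, rfl⟩ := (hmem u).1 hu
    rw [← map_inv, ← map_mul, ← map_mul, ← map_inv, DihedralGroup.inv_sr, DihedralGroup.sr_mul_r,
      DihedralGroup.sr_mul_sr, DihedralGroup.inv_r]
    congr 2
    ring
  · intro t ht htC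
    obtain ⟨i, rfl⟩ := hout t ht htC
    have h2 : (DihedralGroup.sr i : DihedralGroup n) ^ 2 = 1 := by
      rw [pow_two, DihedralGroup.sr_mul_self]
    rw [← map_pow, show (4 : ℕ) = 2 * 2 from rfl, pow_mul, h2, one_pow, map_one]
  · intro h1
    have h2 : DihedralGroup.r (k : ZMod n) = 1 := hinj (h1.trans (map_one ι).symm)
    rw [DihedralGroup.one_def] at h2
    have h3 : (k : ZMod n) = 0 := by
      injection h2
    exact Helper43.zmod_half_ne_zero hk0 hnk h3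
  · rw [← map_mul, DihedralGroup.r_mul_r, Helper43.zmod_half_add_half hnk, ← DihedralGroup.one_def,
      map_one]
  · intro w hw hcomm
    obtain ⟨d, rfl⟩ := hsurj w hw
    cases d with
    | r j =>
      have h1 := hcomm (ι (DihedralGroup.sr 0)) (hS _)
      rw [← map_mul, ← map_mul] at h1
      have h2 := hinj h1
      rw [DihedralGroup.r_mul_sr, DihedralGroup.sr_mul_r] at h2
      have h3 : (0 : ZMod n) - j = 0 + j := by
        injection h2
      have h4 : j + j = 0 := by linear_combination -h3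
      by_cases hj0 : j = 0
      · left
        rw [hj0, ← DihedralGroup.one_def, map_one]
      · right
        rw [Helper43.zmod_two_torsion hk0 hnk j h4 hj0]
    | sr i =>
      exfalso
      have h1 := hcomm (ι (DihedralGroup.r 1)) (hS _)
      rw [← map_mul, ← map_mul] at h1
      have h2 := hinj h1
      rw [DihedralGroup.r_mul_sr, DihedralGroup.sr_mul_r] at h2
      have h3 : i + 1 = i - 1 := by
        injection h2
      have h4 : ((2 : ℕ) : ZMod n) = 0 := by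
        push_cast
        linear_combination h3
      have h5 := (ZMod.natCast_eq_zero_iff 2 n).1 h4
      have h6 := Nat.le_of_dvd (by norm_num) h5
      omega
  · intro t ht
    obtain ⟨d, rfl⟩ := hsurj t ht
    rw [← map_mul, ← map_mul, Helper43.dih_r_central _ (Helper43.zmod_half_add_half hnk) d]

theorem qd_data (T : Subgroup G) (hT : IsQuasiDihedral ↥T) :
    ∃ (C : Subgroup G) (z : G), TwoData T C z := by
  obtain ⟨n, x, y, hn, h⟩ := Helper28.qd_of_isQuasiDihedral T hT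
  obtain ⟨r, hr⟩ : ∃ r : ℕ, r = 2 ^ (n - 3) := ⟨_, rfl⟩
  rw [← hr] at h
  have hF1 : ∀ a : ZMod (8 * r), Helper28.qdE x y r a false ∈ Subgroup.zpowers x := by
    intro a
    unfold Helper28.qdE
    simp only [cond_false, mul_one]
    exact Subgroup.pow_mem _ (Subgroup.mem_zpowers x) _
  have hF2 : ∀ a : ZMod (8 * r), Helper28.qdE x y r a true ∉ Subgroup.zpowers x := by
    intro a ha
    unfold Helper28.qdE at ha
    simp only [cond_true] at ha
    apply h.y_not_mem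
    have h1 := Subgroup.mul_mem _ (Subgroup.inv_mem _
      (Subgroup.pow_mem _ (Subgroup.mem_zpowers x) a.val)) ha
    rw [inv_mul_cancel_left] at h1
    exact h1
  have hout : ∀ t ∈ T, t ∉ Subgroup.zpowers x → ∃ a, t = Helper28.qdE x y r a true := by
    intro t ht htC
    obtain ⟨a, c, rfl⟩ := (h.mem_iff t).1 ht
    cases c with
    | false => exact absurd (hF1 a) htC
    | true => exact ⟨a, rfl⟩
  have hCT : Subgroup.zpowers x ≤ T := (Subgroup.zpowers_le).2 h.hxS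
  have hin : ∀ u ∈ Subgroup.zpowers x, ∃ a, u = Helper28.qdE x y r a false := by
    intro u hu
    obtain ⟨a, c, rfl⟩ := (h.mem_iff u).1 (hCT hu)
    cases c with
    | false => exact ⟨a, rfl⟩
    | true => exact absurd hu (hF2 a)
  refine ⟨Subgroup.zpowers x, x ^ (4 * r), ?_⟩
  refine { hC := hCT, hcyc := inferInstance, hidx := ?_, hinv := ?_, h4 := ?_, hz1 := ?_,
           hz2 := ?_, hzC := Subgroup.pow_mem _ (Subgroup.mem_zpowers x) _, hcent := ?_,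
           hzT := ?_ }
  · intro s hs t ht hsC htC
    obtain ⟨a, rfl⟩ := hout s hs hsC
    obtain ⟨b, rfl⟩ := hout t ht htC
    rw [h.E_inv_true, h.E_tt]
    exact hF1 _
  · intro t ht htC u hu hu4
    obtain ⟨k, rfl⟩ := hout t ht htC
    obtain ⟨a, rfl⟩ := hin u hu
    rw [h.E_pow_false, h.E_eq_one_iff] at hu4
    have h4a : (4 : ZMod (8 * r)) * a = 0 := by
      have := hu4.1
      push_cast at this
      exact this
    rw [h.conj_true_false, h.E_inv_false]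
    congr 1
    unfold Helper28.qdMu
    linear_combination (r : ZMod (8 * r)) * h4a
  · intro t ht htC
    obtain ⟨a, rfl⟩ := hout t ht htC
    have e1 : Helper28.qdE x y r a true ^ 4
        = (Helper28.qdE x y r a true * Helper28.qdE x y r a true)
          * (Helper28.qdE x y r a true * Helper28.qdE x y r a true) := by
      rw [show (4 : ℕ) = 2 + 2 from rfl, pow_add, pow_two]
    rw [e1, h.E_true_sq, h.E_ff, h.E_eq_one_iff]
    refine ⟨?_, rfl⟩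
    linear_combination a * Helper28.qd_eight r
  · intro h1
    have h2 := h.orderOf_z
    rw [h1, orderOf_one] at h2
    omega
  · have h2 := h.orderOf_z
    have h3 := pow_orderOf_eq_one (x ^ (4 * r))
    rw [h2, pow_two] at h3
    exact h3
  · intro w hw hcomm
    apply (h.mem_center_map w).1
    refine ⟨⟨w, hw⟩, ?_, rfl⟩
    show (⟨w, hw⟩ : T) ∈ Subgroup.center T
    rw [Subgroup.mem_center_iff]
    intro g
    exact Subtype.ext (hcomm g.1 g.2).symm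
  · intro t ht
    exact (h.z_comm ht).symm

theorem z_central {T C : Subgroup G} {z : G} (hd : TwoData T C z)
    (hZ : (T ⊓ Subgroup.centralizer (T : Set G)).Normal) (g : G) : g * z * g⁻¹ = z := by
  have hz : z ∈ T ⊓ Subgroup.centralizer (T : Set G) := by
    refine Subgroup.mem_inf.2 ⟨hd.hC hd.hzC, ?_⟩
    rw [Subgroup.mem_centralizer_iff]
    intro t ht
    exact (hd.hzT t ht).symm
  have h1 := hZ.conj_mem z hz g
  rcases hd.hcent _ h1.1 (fun t ht => ((Subgroup.mem_centralizer_iff.1 h1.2) t ht).symm) with h2 | h2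
  · exfalso
    apply hd.hz1
    have h3 : z = g⁻¹ * (g * z * g⁻¹) * g := by group
    rw [h3, h2]
    group
  · exact h2

theorem two_pow_of_mem {T : Subgroup G} (hT2 : IsPGroup 2 ↥T) {t : G} (ht : t ∈ T) :
    ∃ k : ℕ, t ^ 2 ^ k = 1 := by
  obtain ⟨k, hk⟩ := hT2 ⟨t, ht⟩
  exact ⟨k, by simpa using congrArg Subtype.val hk⟩

/-- an element of odd order normalizing `Q ≤ T` and `Q ∩ C` centralizes `Q`. -/
theorem cent_of_norm [Finite G] {T C : Subgroup G} {z : G} (hd : TwoData T C z)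
    (hT2 : IsPGroup 2 ↥T) {Q : Subgroup G} (hQT : Q ≤ T) {d : G}
    (hQ0 : Q ⊓ C = Subgroup.zpowers d) {σ : G} (hσ : Odd (orderOf σ))
    (hσQ : σ ∈ Subgroup.normalizer (Q : Set G)) (hσd : σ * d * σ⁻¹ ∈ Subgroup.zpowers d) :
    ∀ q ∈ Q, σ * q * σ⁻¹ = q := by
  have hdQC : d ∈ Q ⊓ C := by
    rw [hQ0]
    exact Subgroup.mem_zpowers d
  obtain ⟨k, hk⟩ := two_pow_of_mem hT2 (hQT (Subgroup.mem_inf.1 hdQC).1)
  have hdσ : σ * d * σ⁻¹ = d := Cfsg.Agent.S3803.L3 hσd hσ hk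
  have hfix : ∀ u ∈ Q ⊓ C, σ * u * σ⁻¹ = u := by
    intro u hu
    rw [hQ0] at hu
    obtain ⟨m, rfl⟩ := Subgroup.mem_zpowers_iff.1 hu
    rw [← conj_zpow, hdσ]
  intro q hq
  by_cases hqC : q ∈ C
  · exact hfix q (Subgroup.mem_inf.2 ⟨hq, hqC⟩)
  · have hq' : σ * q * σ⁻¹ ∈ Q := (Subgroup.mem_normalizer_iff.1 hσQ q).1 hq
    have hq'C : σ * q * σ⁻¹ ∉ C := by
      intro hc
      have h1 := hfix _ (Subgroup.mem_inf.2 ⟨hq', hc⟩)
      have h2 : σ * q * σ⁻¹ = q := by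
        have h3 : σ * (σ * q * σ⁻¹) * σ⁻¹ = σ * q * σ⁻¹ := h1
        have h4 : σ⁻¹ * (σ * (σ * q * σ⁻¹) * σ⁻¹) * σ = σ⁻¹ * (σ * q * σ⁻¹) * σ := by rw [h3]
        have h5 : σ⁻¹ * (σ * (σ * q * σ⁻¹) * σ⁻¹) * σ = σ * q * σ⁻¹ := by group
        have h6 : σ⁻¹ * (σ * q * σ⁻¹) * σ = q := by group
        rw [h5, h6] at h4
        exact h4
      rw [h2] at hc
      exact hqC hc
    have hcC : q⁻¹ * (σ * q * σ⁻¹) ∈ C := hd.hidx q (hQT hq) _ (hQT hq') hqC hq'C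
    have hcQ : q⁻¹ * (σ * q * σ⁻¹) ∈ Q := Subgroup.mul_mem _ (Subgroup.inv_mem _ hq) hq'
    have hcfix := hfix _ (Subgroup.mem_inf.2 ⟨hcQ, hcC⟩)
    have hcomm : Commute σ (q⁻¹ * (σ * q * σ⁻¹)) := by
      show σ * (q⁻¹ * (σ * q * σ⁻¹)) = (q⁻¹ * (σ * q * σ⁻¹)) * σ
      have h1 : σ * (q⁻¹ * (σ * q * σ⁻¹)) = (σ * (q⁻¹ * (σ * q * σ⁻¹)) * σ⁻¹) * σ := by group
      rw [h1, hcfix]
    obtain ⟨k2, hk2⟩ := two_pow_of_mem hT2 (hQT hcQ)
    have hL1 : q⁻¹ * (σ * q * σ⁻¹) = 1 :=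
      Cfsg.Agent.S3803.L1 (a := σ) (x := q) (c := q⁻¹ * (σ * q * σ⁻¹)) (by group) hcomm hσ hk2
    have h7 : σ * q * σ⁻¹ = q * (q⁻¹ * (σ * q * σ⁻¹)) := by group
    rw [h7, hL1, mul_one]

/-- the structure of `Q`: an element `d` generating `Q ∩ C` with `d² = z` and `ρ d ρ⁻¹ ∉ C`. -/
theorem structure_Q [Finite G] {T C : Subgroup G} {z : G} (hd : TwoData T C z)
    (hT2 : IsPGroup 2 ↥T) (hzG : ∀ g : G, g * z * g⁻¹ = z) {Q : Subgroup G} (hQT : Q ≤ T)
    {ρ : G} (hρ : Odd (orderOf ρ)) (hρQ : ρ ∈ Subgroup.normalizer (Q : Set G))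
    (hnc : ∃ q ∈ Q, ρ * q * ρ⁻¹ ≠ q) :
    ∃ d : G, Q ⊓ C = Subgroup.zpowers d ∧ d * d = z ∧ ρ * d * ρ⁻¹ ∉ C := by
  have hcycC := hd.hcyc
  haveI : IsCyclic ↥(Q ⊓ C) := Subgroup.isCyclic_of_le (inf_le_right : Q ⊓ C ≤ C)
  obtain ⟨d, hdgen⟩ := (Subgroup.isCyclic_iff_exists_zpowers_eq_top (Q ⊓ C)).1 inferInstance
  have hQ0 : Q ⊓ C = Subgroup.zpowers d := hdgen.symm
  have hdQC : d ∈ Q ⊓ C := by
    rw [hQ0]
    exact Subgroup.mem_zpowers d
  have hdQ : d ∈ Q := (Subgroup.mem_inf.1 hdQC).1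
  have hdC : d ∈ C := (Subgroup.mem_inf.1 hdQC).2
  have hnd : ρ * d * ρ⁻¹ ∉ Subgroup.zpowers d := by
    intro hc
    obtain ⟨q, hq, hne⟩ := hnc
    exact hne (cent_of_norm hd hT2 hQT hQ0 hρ hρQ hc q hq)
  have hd1Q : ρ * d * ρ⁻¹ ∈ Q := (Subgroup.mem_normalizer_iff.1 hρQ d).1 hdQ
  have hd1C : ρ * d * ρ⁻¹ ∉ C := by
    intro hc
    apply hnd
    rw [← hQ0]
    exact Subgroup.mem_inf.2 ⟨hd1Q, hc⟩
  refine ⟨d, hQ0, ?_, hd1C⟩
  have hd4 : d ^ 4 = 1 := by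
    have h1 := hd.h4 _ (hQT hd1Q) hd1C
    rw [conj_pow] at h1
    have h2 : d ^ 4 = ρ⁻¹ * (ρ * d ^ 4 * ρ⁻¹) * ρ := by group
    rw [h2, h1]
    group
  have hinvol : ∀ u ∈ C, u * u = 1 → u ≠ 1 → u = z := by
    intro u hu huu hu1
    have h1 : (⟨u, hu⟩ : C) = ⟨z, hd.hzC⟩ := by
      apply Helper12.eq_of_sq_eq_one_of_isCyclic
      · apply Subtype.ext
        show u ^ 2 = 1
        rw [pow_two, huu]
      · apply Subtype.ext
        show z ^ 2 = 1
        rw [pow_two, hd.hz2]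
      · intro h
        exact hu1 (congrArg Subtype.val h)
      · intro h
        exact hd.hz1 (congrArg Subtype.val h)
    exact congrArg Subtype.val h1
  have hdd1 : d * d ≠ 1 := by
    intro hdd
    apply hnd
    by_cases hd1 : d = 1
    · rw [hd1]
      simp
    · have hdz := hinvol d hdC hdd hd1
      rw [hdz, hzG ρ]
      exact Subgroup.mem_zpowers z
  apply hinvol (d * d) (Subgroup.mul_mem _ hdC hdC) _ hdd1
  have h3 : d * d * (d * d) = d ^ 4 := by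
    rw [show (4 : ℕ) = 2 + 2 from rfl, pow_add, pow_two]
  rw [h3, hd4]

/-- above `O₂(G) ≠ G` in a solvable group there is a normal subgroup `A` with `|A : O₂(G)|` a
power of an odd prime. -/
theorem exists_A [Finite G] [hsol : Group.IsSolvable G] (hne : pCore 2 G ≠ ⊤) :
    ∃ (A : Subgroup G) (r k : ℕ), A.Normal ∧ pCore 2 G ≤ A ∧ r.Prime ∧ r ≠ 2 ∧ 0 < k ∧
      Nat.card A = Nat.card (pCore 2 G) * r ^ k := by
  haveI hQn : (pCore 2 G).Normal := Helper58.pCore_normal 2 G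
  have hQp : IsPGroup 2 ↥(pCore 2 G) := Helper57.isPGroup_pCore 2 G
  have htop : (⊤ : Subgroup (G ⧸ pCore 2 G)) ≠ ⊥ := by
    intro h
    apply hne
    rw [eq_top_iff]
    intro g _
    have h1 : (QuotientGroup.mk' (pCore 2 G) g) ∈ (⊥ : Subgroup (G ⧸ pCore 2 G)) := by
      rw [← h]
      trivial
    rw [Subgroup.mem_bot] at h1
    exact (QuotientGroup.eq_one_iff g).1 h1
  obtain ⟨N, -, hNn, hNne, hNmin⟩ :=
    Helper13.exists_minimal_normal_le (⊤ : Subgroup (G ⧸ pCore 2 G)) inferInstance htop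
  obtain ⟨r, hr, hrdvd, -, -, hNp⟩ := Helper13.minimal_normal_solvable N hNn hNne hNmin
  haveI : Fact r.Prime := ⟨hr⟩
  obtain ⟨k, hk⟩ := hNp.exists_card_eq
  have hk0 : 0 < k := by
    rcases Nat.eq_zero_or_pos k with h0 | h0
    · exfalso
      rw [h0, pow_zero] at hk
      rw [hk] at hrdvd
      exact hr.one_lt.ne' (Nat.dvd_one.1 hrdvd)
    · exact h0
  have hsurj : Function.Surjective (QuotientGroup.mk' (pCore 2 G)) := QuotientGroup.mk'_surjective _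
  have hcardA : Nat.card (N.comap (QuotientGroup.mk' (pCore 2 G))) = Nat.card (pCore 2 G) * r ^ k := by
    have h1 := Subgroup.card_mul_index (N.comap (QuotientGroup.mk' (pCore 2 G)))
    have h2 := Subgroup.card_mul_index (pCore 2 G)
    have h3 := Subgroup.card_mul_index N
    rw [Subgroup.index_comap_of_surjective N hsurj] at h1
    rw [Subgroup.index_eq_card (pCore 2 G)] at h2
    rw [hk] at h3
    have h4 : N.index ≠ 0 := Subgroup.index_ne_zero_of_finite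
    have h5 : Nat.card (N.comap (QuotientGroup.mk' (pCore 2 G))) * N.index
        = Nat.card (pCore 2 G) * r ^ k * N.index := by
      rw [h1, ← h2, ← h3]
      ring
    exact Nat.eq_of_mul_eq_mul_right (Nat.pos_of_ne_zero h4) h5
  have hQA : pCore 2 G ≤ N.comap (QuotientGroup.mk' (pCore 2 G)) := by
    intro g hg
    rw [Subgroup.mem_comap]
    have h1 : QuotientGroup.mk' (pCore 2 G) g = 1 := (QuotientGroup.eq_one_iff g).2 hg
    rw [h1]
    exact Subgroup.one_mem N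
  refine ⟨N.comap (QuotientGroup.mk' (pCore 2 G)), r, k, hNn.comap _, hQA, hr, ?_, hk0, hcardA⟩
  rintro rfl
  apply hNne
  obtain ⟨a, ha⟩ := hQp.exists_card_eq
  have hAp : IsPGroup 2 ↥(N.comap (QuotientGroup.mk' (pCore 2 G))) := by
    apply IsPGroup.of_card (n := a + k)
    rw [hcardA, ha, pow_add]
  have hAle : N.comap (QuotientGroup.mk' (pCore 2 G)) ≤ pCore 2 G :=
    Helper57.le_pCore (hNn.comap _) hAp
  rw [eq_bot_iff]
  intro x hx
  obtain ⟨g, rfl⟩ := hsurj x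
  rw [Subgroup.mem_bot]
  exact (QuotientGroup.eq_one_iff g).2 (hAle (Subgroup.mem_comap.2 hx))

theorem norm_zpowers [Finite G] {g d : G} (h : g * d * g⁻¹ ∈ Subgroup.zpowers d) :
    g ∈ Subgroup.normalizer ((Subgroup.zpowers d : Subgroup G) : Set G) := by
  apply Subgroup.mem_normalizer_fintype
  intro n hn
  obtain ⟨j, rfl⟩ := Subgroup.mem_zpowers_iff.1 hn
  show g * d ^ j * g⁻¹ ∈ Subgroup.zpowers d
  rw [← conj_zpow]
  exact Subgroup.zpow_mem _ h j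

theorem zpowers_nat {d : G} (hd4 : d ^ 4 = 1) {u : G} (hu : u ∈ Subgroup.zpowers d) :
    ∃ m : ℕ, m < 4 ∧ u = d ^ m := by
  obtain ⟨m, rfl⟩ := Subgroup.mem_zpowers_iff.1 hu
  refine ⟨(m % 4).toNat, ?_, ?_⟩
  · have h1 : m % 4 < 4 := Int.emod_lt_of_pos m (by norm_num)
    have h2 : 0 ≤ m % 4 := Int.emod_nonneg m (by norm_num)
    omega
  · have h2 : 0 ≤ m % 4 := Int.emod_nonneg m (by norm_num)
    rw [zpow_eq_zpow_emod' m hd4, ← zpow_natCast, Int.toNat_of_nonneg h2]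
    rfl

theorem core [Finite G] {T C : Subgroup G} {z : G} (hd : TwoData T C z) (hT2 : IsPGroup 2 ↥T)
    (hzG : ∀ g : G, g * z * g⁻¹ = z) {Q A : Subgroup G} (hQT : Q ≤ T) (hQn : Q.Normal)
    (hcent : Subgroup.centralizer (Q : Set G) ≤ Q) (hQA : Q ≤ A) {r k : ℕ} (hr : r.Prime)
    (hr2 : r ≠ 2) (hk : 0 < k) (hcard : Nat.card A = Nat.card Q * r ^ k) :
    Nonempty (↥A ≃* Matrix.SpecialLinearGroup (Fin 2) (ZMod 3)) := by
  haveI : Fact r.Prime := ⟨hr⟩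
  have hnormtop : Subgroup.normalizer (Q : Set G) = ⊤ := Subgroup.normalizer_eq_top_iff.2 hQn
  have hQ2 : IsPGroup 2 ↥Q := hT2.to_le hQT
  -- an element of order `r`
  have hrdvd : r ∣ Nat.card A := by
    rw [hcard]
    exact Dvd.dvd.mul_left (dvd_pow_self r hk.ne') _
  obtain ⟨ρA, hρA⟩ := exists_prime_orderOf_dvd_card' (G := ↥A) r hrdvd
  obtain ⟨ρ, hρdef⟩ : ∃ ρ : G, ρ = (ρA : G) := ⟨_, rfl⟩
  have hρmem : ρ ∈ A := by rw [hρdef]; exact ρA.2
  have hρord : orderOf ρ = r := by rw [hρdef, Subgroup.orderOf_coe, hρA]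
  have hρodd : Odd (orderOf ρ) := by rw [hρord]; exact hr.odd_of_ne_two hr2
  have hρQ : ρ ∈ Subgroup.normalizer (Q : Set G) := by rw [hnormtop]; trivial
  have hnot2 : ∀ σ : G, σ ∈ Q → ∀ p : ℕ, p.Prime → orderOf σ = p → p = 2 := by
    intro σ hσ p hp hσp
    obtain ⟨m, hm⟩ := two_pow_of_mem hQ2 hσ
    have h1 := orderOf_dvd_of_pow_eq_one hm
    rw [hσp] at h1
    exact (Nat.prime_dvd_prime_iff_eq hp Nat.prime_two).1 (hp.dvd_of_dvd_pow h1)
  have hρnQ : ρ ∉ Q := fun h => hr2 (hnot2 ρ h r hr hρord)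
  have hnc : ∃ q ∈ Q, ρ * q * ρ⁻¹ ≠ q := by
    by_contra hcon
    push Not at hcon
    apply hρnQ
    apply hcent
    rw [Subgroup.mem_centralizer_iff]
    intro q hq
    have h1 := hcon q hq
    have h2 : ρ * q = ρ * q * ρ⁻¹ * ρ := by group
    rw [h2, h1]
  obtain ⟨d, hQ0, hdd, hd1C⟩ := structure_Q hd hT2 hzG hQT hρodd hρQ hnc
  have hdQC : d ∈ Q ⊓ C := by
    rw [hQ0]
    exact Subgroup.mem_zpowers d
  have hdQ : d ∈ Q := (Subgroup.mem_inf.1 hdQC).1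
  have hdC : d ∈ C := (Subgroup.mem_inf.1 hdQC).2
  have hd1Q : ρ * d * ρ⁻¹ ∈ Q := hQn.conj_mem d hdQ ρ
  have hd2 : d ^ 2 = z := by rw [pow_two, hdd]
  have hd4 : d ^ 4 = 1 := by
    rw [show (4 : ℕ) = 2 + 2 from rfl, pow_add, hd2, hd.hz2]
  have hd3 : d ^ 3 = d⁻¹ := by
    symm
    apply inv_eq_of_mul_eq_one_left
    rw [← pow_succ, hd4]
  have hd1sq : (ρ * d * ρ⁻¹) * (ρ * d * ρ⁻¹) = z := by
    have h1 : (ρ * d * ρ⁻¹) * (ρ * d * ρ⁻¹) = ρ * (d * d) * ρ⁻¹ := by group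
    rw [h1, hdd, hzG]
  have hinvd : (ρ * d * ρ⁻¹) * d * (ρ * d * ρ⁻¹)⁻¹ = d⁻¹ :=
    hd.hinv _ (hQT hd1Q) hd1C d hdC hd4
  have hzρ : ρ * z = z * ρ := by
    have h1 := hzG ρ
    have h2 : ρ * z = ρ * z * ρ⁻¹ * ρ := by group
    rw [h2, h1]
  -- elements of `Q`
  have helems : ∀ q ∈ Q, q ∉ C → ∃ m : ℕ, m < 4 ∧ q = (ρ * d * ρ⁻¹) * d ^ m := by
    intro q hq hqC
    have h1 : (ρ * d * ρ⁻¹)⁻¹ * q ∈ C := hd.hidx _ (hQT hd1Q) q (hQT hq) hd1C hqC
    have h2 : (ρ * d * ρ⁻¹)⁻¹ * q ∈ Q := Subgroup.mul_mem _ (Subgroup.inv_mem _ hd1Q) hq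
    have h3 : (ρ * d * ρ⁻¹)⁻¹ * q ∈ Subgroup.zpowers d := by
      rw [← hQ0]
      exact Subgroup.mem_inf.2 ⟨h2, h1⟩
    obtain ⟨m, hm, hm2⟩ := zpowers_nat hd4 h3
    exact ⟨m, hm, by rw [← hm2]; group⟩
  have hord4 : orderOf d = 4 := by
    have h1 : ¬ d ^ 2 ^ 1 = 1 := by
      rw [pow_one, hd2]
      exact hd.hz1
    have h2 : d ^ 2 ^ (1 + 1) = 1 := hd4
    exact orderOf_eq_prime_pow h1 h2
  have hzle : Subgroup.zpowers d ≤ Q := (Subgroup.zpowers_le).2 hdQ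
  -- `|Q| = 8`
  have hQcard : Nat.card Q = 8 := by
    have hle : Nat.card Q ≤ 8 := by
      let f : Bool × Fin 4 → Q := fun p =>
        ⟨(bif p.1 then ρ * d * ρ⁻¹ else 1) * d ^ (p.2 : ℕ),
          Subgroup.mul_mem _ (by cases p.1 <;> simp [hd1Q, Subgroup.one_mem])
            (Subgroup.pow_mem _ hdQ _)⟩
      have hf : Function.Surjective f := by
        rintro ⟨q, hq⟩
        by_cases hqC : q ∈ C
        · have h3 : q ∈ Subgroup.zpowers d := by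
            rw [← hQ0]
            exact Subgroup.mem_inf.2 ⟨hq, hqC⟩
          obtain ⟨m, hm, hm2⟩ := zpowers_nat hd4 h3
          refine ⟨(false, ⟨m, hm⟩), Subtype.ext ?_⟩
          simp [f, hm2]
        · obtain ⟨m, hm, hm2⟩ := helems q hq hqC
          refine ⟨(true, ⟨m, hm⟩), Subtype.ext ?_⟩
          simp [f, hm2]
      have h1 := Nat.card_le_card_of_surjective f hf
      have h2 : Nat.card (Bool × Fin 4) = 8 := by
        rw [Nat.card_eq_fintype_card]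
        rfl
      rw [h2] at h1
      exact h1
    have h4dvd : 4 ∣ Nat.card Q := by
      have h1 := Subgroup.card_dvd_of_le hzle
      rw [Nat.card_zpowers, hord4] at h1
      exact h1
    have hne4 : Nat.card Q ≠ 4 := by
      intro h4
      have h1 : Subgroup.zpowers d = Q := by
        apply Subgroup.eq_of_le_of_card_ge hzle
        rw [Nat.card_zpowers, hord4, h4]
      apply hd1C
      have h2 : ρ * d * ρ⁻¹ ∈ Subgroup.zpowers d := by rw [h1]; exact hd1Q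
      exact (Subgroup.zpowers_le).2 hdC h2
    have hpos : 0 < Nat.card Q := Nat.card_pos
    obtain ⟨c, hc⟩ := h4dvd
    omega
  -- the second conjugate
  have hc2Q : ρ * (ρ * d * ρ⁻¹) * ρ⁻¹ ∈ Q := hQn.conj_mem _ hd1Q ρ
  have hc2C : ρ * (ρ * d * ρ⁻¹) * ρ⁻¹ ∉ C := by
    intro hc
    have h1 : (ρ ^ 2) * d * (ρ ^ 2)⁻¹ ∈ Subgroup.zpowers d := by
      rw [← hQ0]
      have h2 : (ρ ^ 2) * d * (ρ ^ 2)⁻¹ = ρ * (ρ * d * ρ⁻¹) * ρ⁻¹ := by
        rw [pow_two]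
        group
      rw [h2]
      exact Subgroup.mem_inf.2 ⟨hc2Q, hc⟩
    have h3 : Odd (orderOf (ρ ^ 2)) := Odd.of_dvd_nat hρodd (orderOf_pow_dvd 2)
    have h4 : ρ ^ 2 ∈ Subgroup.normalizer (Q : Set G) := by rw [hnormtop]; trivial
    have h5 := cent_of_norm hd hT2 hQT hQ0 h3 h4 h1
    obtain ⟨q, hq, hne⟩ := hnc
    apply hne
    have h6 : Commute (ρ ^ 2) q := by
      show ρ ^ 2 * q = q * ρ ^ 2
      have h7 := h5 q hq
      have h8 : ρ ^ 2 * q = ρ ^ 2 * q * (ρ ^ 2)⁻¹ * ρ ^ 2 := by group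
      rw [h8, h7]
    obtain ⟨t, ht⟩ := hρodd
    have h9 : (ρ ^ 2) ^ (t + 1) = ρ := by
      rw [← pow_mul, show 2 * (t + 1) = (2 * t + 1) + 1 from by ring, ← ht, pow_succ,
        pow_orderOf_eq_one, one_mul]
    have h10 : Commute ρ q := by
      rw [← h9]
      exact h6.pow_left _
    have h11 : ρ * q * ρ⁻¹ = q * ρ * ρ⁻¹ := by rw [h10.eq]
    rw [h11]
    group
  have hc2 : ρ * (ρ * d * ρ⁻¹) * ρ⁻¹ = (ρ * d * ρ⁻¹) * d ∨
      ρ * (ρ * d * ρ⁻¹) * ρ⁻¹ = (ρ * d * ρ⁻¹) * d⁻¹ := by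
    obtain ⟨m, hm, hm2⟩ := helems _ hc2Q hc2C
    interval_cases m
    · exfalso
      rw [pow_zero, mul_one] at hm2
      apply hd1C
      have h1 : ρ * d * ρ⁻¹ = d := mul_left_cancel (mul_right_cancel hm2)
      rw [h1]
      exact hdC
    · left
      rw [hm2, pow_one]
    · exfalso
      rw [hd2] at hm2
      apply hd.hz1
      exact Cfsg.Agent.S3803.L1 (a := ρ) (x := ρ * d * ρ⁻¹) (c := z) hm2 hzρ hρodd
        (k := 1) (by rw [pow_one, pow_two, hd.hz2])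
    · right
      rw [hm2, hd3]
  -- the normalizer of `⟨d⟩` in `A`
  have hN2 : ∀ p : ℕ, p.Prime →
      p ∣ Nat.card ↥(A ⊓ Subgroup.normalizer ((Subgroup.zpowers d : Subgroup G) : Set G)) →
      p = 2 := by
    intro p hp hdvd
    haveI : Fact p.Prime := ⟨hp⟩
    obtain ⟨σN, hσN⟩ := exists_prime_orderOf_dvd_card'
      (G := ↥(A ⊓ Subgroup.normalizer ((Subgroup.zpowers d : Subgroup G) : Set G))) p hdvd
    have hσmem := σN.2
    have hσord : orderOf (σN : G) = p := by rw [Subgroup.orderOf_coe, hσN]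
    by_contra hp2
    have hσodd : Odd (orderOf (σN : G)) := by rw [hσord]; exact hp.odd_of_ne_two hp2
    have hσnorm := (Subgroup.mem_inf.1 hσmem).2
    have h1 : (σN : G) * d * (σN : G)⁻¹ ∈ Subgroup.zpowers d :=
      (Subgroup.mem_normalizer_iff.1 hσnorm d).1 (Subgroup.mem_zpowers d)
    have h2 : (σN : G) ∈ Subgroup.normalizer (Q : Set G) := by rw [hnormtop]; trivial
    have h3 := cent_of_norm hd hT2 hQT hQ0 hσodd h2 h1
    have h4 : (σN : G) ∈ Q := by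
      apply hcent
      rw [Subgroup.mem_centralizer_iff]
      intro q hq
      have h5 := h3 q hq
      have h6 : (σN : G) * q = (σN : G) * q * (σN : G)⁻¹ * (σN : G) := by group
      rw [h6, h5]
    exact hp2 (hnot2 _ h4 p hp hσord)
  have hNcard : Nat.card ↥(A ⊓ Subgroup.normalizer ((Subgroup.zpowers d : Subgroup G) : Set G))
      ≤ 8 := by
    have h1 := Nat.eq_prime_pow_of_unique_prime_dvd
      (Nat.card_pos (α := ↥(A ⊓ Subgroup.normalizer
        ((Subgroup.zpowers d : Subgroup G) : Set G)))).ne'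
      (fun {p} hp hdvd => hN2 p hp hdvd)
    have h2 : Nat.card ↥(A ⊓ Subgroup.normalizer ((Subgroup.zpowers d : Subgroup G) : Set G))
        ∣ Nat.card A := Subgroup.card_dvd_of_le inf_le_left
    rw [hcard, hQcard] at h2
    rw [h1] at h2 ⊢
    have h3 : Nat.Coprime (2 ^ (Nat.card ↥(A ⊓ Subgroup.normalizer
        ((Subgroup.zpowers d : Subgroup G) : Set G))).primeFactorsList.length) (r ^ k) :=
      Nat.Coprime.pow _ _ ((Nat.coprime_primes Nat.prime_two hr).2 (Ne.symm hr2))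
    exact Nat.le_of_dvd (by norm_num) (Nat.Coprime.dvd_of_dvd_mul_right h3 h2)
  have hzpz : d * z ∈ Subgroup.zpowers d := by
    rw [← hdd]
    exact Subgroup.mul_mem _ (Subgroup.mem_zpowers d)
      (Subgroup.mul_mem _ (Subgroup.mem_zpowers d) (Subgroup.mem_zpowers d))
  have hcover : ∀ g ∈ A, ∃ e : Fin 3,
      (ρ ^ (e : ℕ))⁻¹ * g ∈ A ⊓ Subgroup.normalizer ((Subgroup.zpowers d : Subgroup G) : Set G) := by
    intro g hg
    have hwQ : g * d * g⁻¹ ∈ Q := hQn.conj_mem d hdQ g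
    have hkey : ∀ (e : Fin 3) (ζ : G), (ζ = 1 ∨ ζ = z) →
        g * d * g⁻¹ = ρ ^ (e : ℕ) * d * (ρ ^ (e : ℕ))⁻¹ * ζ →
        (ρ ^ (e : ℕ))⁻¹ * g ∈ A ⊓ Subgroup.normalizer ((Subgroup.zpowers d : Subgroup G) : Set G) := by
      intro e ζ hζ hw
      refine Subgroup.mem_inf.2 ⟨Subgroup.mul_mem _ (Subgroup.inv_mem _ (Subgroup.pow_mem _ hρmem _)) hg, ?_⟩
      apply norm_zpowers
      have hζc : (ρ ^ (e : ℕ))⁻¹ * ζ * ρ ^ (e : ℕ) = ζ := by
        rcases hζ with rfl | rfl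
        · group
        · have h1 := hzG (ρ ^ (e : ℕ))⁻¹
          rw [inv_inv] at h1
          exact h1
      have h2 : (ρ ^ (e : ℕ))⁻¹ * g * d * ((ρ ^ (e : ℕ))⁻¹ * g)⁻¹
          = (ρ ^ (e : ℕ))⁻¹ * (g * d * g⁻¹) * ρ ^ (e : ℕ) := by group
      rw [h2, hw]
      have h3 : (ρ ^ (e : ℕ))⁻¹ * (ρ ^ (e : ℕ) * d * (ρ ^ (e : ℕ))⁻¹ * ζ) * ρ ^ (e : ℕ)
          = d * ((ρ ^ (e : ℕ))⁻¹ * ζ * ρ ^ (e : ℕ)) := by group
      rw [h3, hζc]
      rcases hζ with rfl | rfl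
      · rw [mul_one]
        exact Subgroup.mem_zpowers d
      · exact hzpz
    by_cases hwC : g * d * g⁻¹ ∈ C
    · refine ⟨0, ?_⟩
      refine Subgroup.mem_inf.2 ⟨by simpa using hg, ?_⟩
      have h1 : g * d * g⁻¹ ∈ Subgroup.zpowers d := by
        rw [← hQ0]
        exact Subgroup.mem_inf.2 ⟨hwQ, hwC⟩
      simpa using norm_zpowers h1
    · obtain ⟨m, hm, hm2⟩ := helems _ hwQ hwC
      have hc2' : ρ ^ 2 * d * (ρ ^ 2)⁻¹ = ρ * (ρ * d * ρ⁻¹) * ρ⁻¹ := by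
        rw [pow_two]
        group
      interval_cases m
      · exact ⟨1, hkey 1 1 (Or.inl rfl) (by rw [hm2]; simp)⟩
      · rcases hc2 with h | h
        · refine ⟨2, hkey 2 1 (Or.inl rfl) ?_⟩
          show g * d * g⁻¹ = ρ ^ 2 * d * (ρ ^ 2)⁻¹ * 1
          rw [hm2, hc2', h, pow_one, mul_one]
        · refine ⟨2, hkey 2 z (Or.inr rfl) ?_⟩
          show g * d * g⁻¹ = ρ ^ 2 * d * (ρ ^ 2)⁻¹ * z
          rw [hm2, hc2', h, pow_one, ← hdd]
          group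
      · refine ⟨1, hkey 1 z (Or.inr rfl) ?_⟩
        show g * d * g⁻¹ = ρ ^ 1 * d * (ρ ^ 1)⁻¹ * z
        rw [hm2, pow_one, hd2]
      · rcases hc2 with h | h
        · refine ⟨2, hkey 2 z (Or.inr rfl) ?_⟩
          show g * d * g⁻¹ = ρ ^ 2 * d * (ρ ^ 2)⁻¹ * z
          rw [hm2, hc2', h, ← hdd]
          simp only [pow_succ, pow_zero, one_mul, mul_assoc]
        · refine ⟨2, hkey 2 1 (Or.inl rfl) ?_⟩
          show g * d * g⁻¹ = ρ ^ 2 * d * (ρ ^ 2)⁻¹ * 1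
          rw [hm2, hc2', h, hd3, mul_one]
  -- `|A| ≤ 24`
  have hAle : Nat.card A ≤ 24 := by
    let F : Fin 3 × ↥(A ⊓ Subgroup.normalizer ((Subgroup.zpowers d : Subgroup G) : Set G)) → A :=
      fun p => ⟨ρ ^ (p.1 : ℕ) * (p.2 : G),
        Subgroup.mul_mem _ (Subgroup.pow_mem _ hρmem _) (Subgroup.mem_inf.1 p.2.2).1⟩
    have hF : Function.Surjective F := by
      rintro ⟨g, hg⟩
      obtain ⟨e, he⟩ := hcover g hg
      refine ⟨(e, ⟨_, he⟩), Subtype.ext ?_⟩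
      show ρ ^ (e : ℕ) * ((ρ ^ (e : ℕ))⁻¹ * g) = g
      group
    have h1 := Nat.card_le_card_of_surjective F hF
    rw [Nat.card_prod, Nat.card_fin] at h1
    omega
  have hr3 : r = 3 ∧ k = 1 := by
    rw [hcard, hQcard] at hAle
    have h1 : r ≤ r ^ k := Nat.le_self_pow hk.ne' r
    have h2 := hr.two_le
    have hr3 : r = 3 := by omega
    refine ⟨hr3, ?_⟩
    subst hr3
    by_contra hk1
    have h3 : 3 ^ 2 ≤ 3 ^ k := Nat.pow_le_pow_right (by norm_num) (by omega)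
    omega
  obtain ⟨rfl, rfl⟩ := hr3
  have hA24 : Nat.card A = 24 := by
    rw [hcard, hQcard]
    norm_num
  -- the generators
  have hgen : ∃ i j : G, i ∈ Q ∧ j ∈ Q ∧ orderOf i = 4 ∧ j * j = i * i ∧ i * j = j * i⁻¹ ∧
      ρ * i * ρ⁻¹ = j ∧ ρ * j * ρ⁻¹ = i * j := by
    have hrel : (ρ * d * ρ⁻¹) * d⁻¹ = d * (ρ * d * ρ⁻¹) := by
      have h1 : (ρ * d * ρ⁻¹) * d⁻¹ * (ρ * d * ρ⁻¹)⁻¹ = d := by
        have h2 : (ρ * d * ρ⁻¹) * d⁻¹ * (ρ * d * ρ⁻¹)⁻¹
            = ((ρ * d * ρ⁻¹) * d * (ρ * d * ρ⁻¹)⁻¹)⁻¹ := by group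
        rw [h2, hinvd, inv_inv]
      have h3 : (ρ * d * ρ⁻¹) * d⁻¹
          = (ρ * d * ρ⁻¹) * d⁻¹ * (ρ * d * ρ⁻¹)⁻¹ * (ρ * d * ρ⁻¹) := by group
      rw [h3, h1]
    rcases hc2 with h | h
    · refine ⟨d⁻¹, (ρ * d * ρ⁻¹)⁻¹, Subgroup.inv_mem _ hdQ, Subgroup.inv_mem _ hd1Q, ?_, ?_, ?_,
        ?_, ?_⟩
      · rw [orderOf_inv, hord4]
      · rw [← mul_inv_rev, ← mul_inv_rev, hd1sq, hdd]
      · rw [inv_inv, ← mul_inv_rev]
        have h1 : (ρ * d * ρ⁻¹) * d = d⁻¹ * (ρ * d * ρ⁻¹) := by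
          have h2 : (ρ * d * ρ⁻¹) * d
              = (ρ * d * ρ⁻¹) * d * (ρ * d * ρ⁻¹)⁻¹ * (ρ * d * ρ⁻¹) := by group
          rw [h2, hinvd]
        rw [h1, mul_inv_rev, inv_inv]
      · group
      · have h1 : ρ * (ρ * d * ρ⁻¹)⁻¹ * ρ⁻¹ = (ρ * (ρ * d * ρ⁻¹) * ρ⁻¹)⁻¹ := by
          simp only [mul_inv_rev, inv_inv, mul_assoc]
        rw [h1, h, mul_inv_rev]
    · exact ⟨d, ρ * d * ρ⁻¹, hdQ, hd1Q, hord4, by rw [hd1sq, hdd], hrel.symm, rfl,
        by rw [h, hrel]⟩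
  obtain ⟨i, j, hiQ, hjQ, hi4, hjj, hij, hρi, hρj⟩ := hgen
  have hdata : Helper57.Q8C3 (⟨i, hQA hiQ⟩ : A) ⟨j, hQA hjQ⟩ ρA := by
    refine { hi := ?_, hj := ?_, hij := ?_, hρi := ?_, hρj := ?_, hρ := hρA, hcard := hA24 }
    · rw [Subgroup.orderOf_mk, hi4]
    · exact Subtype.ext hjj
    · exact Subtype.ext hij
    · apply Subtype.ext
      show (ρA : G) * i * (ρA : G)⁻¹ = j
      rw [← hρdef]
      exact hρi
    · apply Subtype.ext
      show (ρA : G) * j * (ρA : G)⁻¹ = i * j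
      rw [← hρdef]
      exact hρj
  exact hdata.sl23

/-- Let G be a finite solvable group with O(G) = 1 whose Sylow 2-subgroup T is dihedral of order at least 8 or semidihedral, with G ≠ T and Z(T) normal in G. Then G has a normal subgroup isomorphic to SL₂(3). -/
theorem result {G : Type*} [Group G] [Finite G] (hsol : IsSolvable G) (hO : Cfsg.oddCore G = ⊥) (T : Sylow 2 G) (hT : (∃ n : ℕ, 4 ≤ n ∧ Nonempty (↥(T : Subgroup G) ≃* DihedralGroup n)) ∨ Cfsg.IsQuasiDihedral ↥(T : Subgroup G)) (hne : (T : Subgroup G) ≠ ⊤) (hZ : ((T : Subgroup G) ⊓ Subgroup.centralizer ((T : Subgroup G) : Set G)).Normal) : ∃ U : Subgroup G, U.Normal ∧ Nonempty (↥U ≃* Matrix.SpecialLinearGroup (Fin 2) (ZMod 3)) := by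
  haveI : Group.IsSolvable G := hsol
  have hdata : ∃ (C : Subgroup G) (z : G), TwoData (T : Subgroup G) C z := by
    rcases hT with ⟨n, hn, ⟨e⟩⟩ | hqd
    · exact dihedral_data T n hn e
    · exact qd_data (T : Subgroup G) hqd
  obtain ⟨C, z, hd⟩ := hdata
  have hzG := z_central hd hZ
  have hQT : pCore 2 G ≤ (T : Subgroup G) := Helper57.pCore_le_sylow T
  have hQne : pCore 2 G ≠ ⊤ := by
    intro h
    apply hne
    rw [eq_top_iff, ← h]
    exact hQT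
  have hcent : Subgroup.centralizer (pCore 2 G : Set G) ≤ pCore 2 G :=
    Helper12.centralizer_pCore_two_le hO
  obtain ⟨A, r, k, hAn, hQA, hr, hr2, hk, hcard⟩ := exists_A (G := G) hQne
  exact ⟨A, hAn, core hd T.2 hzG hQT (Helper58.pCore_normal 2 G) hcent hQA hr hr2 hk hcard⟩

end Cfsg.Agent.S2879
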