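import Cfsg.Statements.S2880
import Mathlib

set_option autoImplicit false
open Cfsg

namespace Cfsg.Agent.S2880

open scoped commutatorElement

theorem pow_mem_coatom {E : Type*} [Group E] [Finite E] {p : ℕ} [Fact p.Prime]
    (hE : IsPGroup p E) {M : Subgroup E} (hM : IsCoatom M) (x : E) : x ^ p ∈ M := by
  have hnil : Group.IsNilpotent E := hE.isNilpotent
  have hMn : M.Normal :=
    Subgroup.NormalizerCondition.normal_of_coatom _ Group.normalizerCondition_of_isNilpotent hM
  by_contra hx
  have hsup : M ⊔ Subgroup.zpowers (x ^ p) = ⊤ := by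
    apply hM.2
    refine lt_of_le_of_ne le_sup_left ?_
    intro h
    apply hx
    have : x ^ p ∈ M ⊔ Subgroup.zpowers (x ^ p) :=
      Subgroup.mem_sup_right (Subgroup.mem_zpowers _)
    rwa [← h] at this
  have hxmem : x ∈ M ⊔ Subgroup.zpowers (x ^ p) := by
    rw [hsup]; trivial
  rw [← SetLike.mem_coe, Subgroup.normal_mul, Set.mem_mul] at hxmem
  obtain ⟨m, hm, z, hz, hmz⟩ := hxmem
  obtain ⟨k, rfl⟩ := Subgroup.mem_zpowers_iff.mp hz
  obtain ⟨j, hj⟩ := hE x
  have h1 : IsCoprime (1 - (p : ℤ) * k) (p : ℤ) := ⟨1, k, by ring⟩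
  have h2 : IsCoprime (1 - (p : ℤ) * k) ((p : ℤ) ^ j) := h1.pow_right
  obtain ⟨a, b, hab⟩ := h2
  have hm' : m = x ^ (1 - (p : ℤ) * k) := by
    have : m = x * ((x ^ p) ^ k)⁻¹ := eq_mul_inv_of_mul_eq hmz
    rw [this, zpow_sub, zpow_one, zpow_mul, zpow_natCast]
  have hxM : x ∈ M := by
    have e : x = m ^ a * (x ^ (p ^ j)) ^ b := by
      rw [hm', ← zpow_natCast x (p ^ j), ← zpow_mul, ← zpow_mul, ← zpow_add]
      have : (1 - (p : ℤ) * k) * a + ((p ^ j : ℕ) : ℤ) * b = 1 := by
        push_cast; linarith
      rw [this, zpow_one]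
    rw [e, hj, one_zpow, mul_one]
    exact M.zpow_mem hm a
  exact hx (M.pow_mem hxM p)

theorem pow_mem_frattini {E : Type*} [Group E] [Finite E] {p : ℕ} [Fact p.Prime]
    (hE : IsPGroup p E) (x : E) : x ^ p ∈ frattini E := by
  unfold frattini Order.radical
  simp only [Subgroup.mem_iInf]
  intro M hM
  exact pow_mem_coatom hE hM x

theorem two_mul_card_filter {X : Type*} [Fintype X] (τ : X ≃ X) (Q : X → Prop) [DecidablePred Q]
    (h : ∀ x, Q (τ x) ↔ ¬ Q x) : 2 * (Finset.univ.filter Q).card = Fintype.card X := by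
  have h1 : (Finset.univ.filter (fun x => ¬ Q x)).card = (Finset.univ.filter Q).card := by
    apply Finset.card_bij (fun x _ => τ x)
    · intro x hx
      simp only [Finset.mem_filter, Finset.mem_univ, true_and] at hx ⊢
      exact (h x).mpr hx
    · intro x _ y _ hxy
      exact τ.injective hxy
    · intro y hy
      simp only [Finset.mem_filter, Finset.mem_univ, true_and] at hy
      refine ⟨τ.symm y, ?_, by simp⟩
      simp only [Finset.mem_filter, Finset.mem_univ, true_and]
      intro hq
      have := (h (τ.symm y)).mp (by simpa using hy)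
      exact this hq
  have h2 := Finset.card_filter_add_card_filter_not (s := (Finset.univ : Finset X)) Q
  rw [h1, Finset.card_univ] at h2
  omega

/-- the basic data of an extraspecial 2-group: a central involution `c` such that all
commutators and squares lie in `{1, c}` -/
structure Data (E : Type*) [Group E] (c : E) : Prop where
  ne_one : c ≠ 1
  sq : c * c = 1
  central : ∀ x : E, x * c = c * x
  center : ∀ z : E, (∀ x : E, x * z = z * x) → z = 1 ∨ z = c
  comm : ∀ a b : E, a * b = b * a ∨ a * b = c * (b * a)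
  square : ∀ x : E, x ^ 2 = 1 ∨ x ^ 2 = c

theorem exists_data {E : Type*} [Group E] [Finite E] (hE : Cfsg.IsExtraspecial 2 E) :
    ∃ c : E, Data E c := by
  obtain ⟨⟨hp, hfr, hcm⟩, hz2⟩ := hE
  have : Fact (Nat.Prime 2) := ⟨Nat.prime_two⟩
  obtain ⟨c, hcZ, hc1, hcall⟩ : ∃ c : E, c ∈ Subgroup.center E ∧ c ≠ 1 ∧
      ∀ z ∈ Subgroup.center E, z = 1 ∨ z = c := by
    obtain ⟨b, hb, hb'⟩ := (Nat.card_eq_two_iff' (1 : ↥(Subgroup.center E))).mp hz2
    refine ⟨b, b.2, ?_, ?_⟩
    · intro h
      apply hb
      ext
      exact h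
    · intro z hz
      by_cases h1 : z = 1
      · left; exact h1
      · right
        have := hb' ⟨z, hz⟩ (by intro h; apply h1; exact congrArg Subtype.val h)
        exact congrArg Subtype.val this
  have hcen : ∀ x : E, x * c = c * x := fun x => (Subgroup.mem_center_iff.mp hcZ x)
  have hcc : c * c = 1 := by
    rcases hcall _ (Subgroup.mul_mem _ hcZ hcZ) with h | h
    · exact h
    · exfalso
      apply hc1
      have : c * c = c * 1 := by rw [h, mul_one]
      exact mul_left_cancel this
  have hcommZ : ∀ a b : E, ⁅a, b⁆ ∈ Subgroup.center E := by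
    intro a b
    rw [← hcm, commutator_def]
    exact Subgroup.commutator_mem_commutator (Subgroup.mem_top a) (Subgroup.mem_top b)
  have hsqZ : ∀ x : E, x ^ 2 ∈ Subgroup.center E := by
    intro x
    rw [← hfr]
    exact pow_mem_frattini hp x
  refine ⟨c, hc1, hcc, hcen, ?_, ?_, ?_⟩
  · intro z hz
    exact hcall z (Subgroup.mem_center_iff.mpr hz)
  · intro a b
    rcases hcall _ (hcommZ a b) with h | h
    · left
      exact commutatorElement_eq_one_iff_mul_comm.mp h
    · right
      have h' : a * b * a⁻¹ * b⁻¹ = c := h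
      calc a * b = (a * b * a⁻¹ * b⁻¹) * (b * a) := by group
        _ = c * (b * a) := by rw [h']
  · intro x
    exact hcall _ (hsqZ x)

theorem Data.swap {E : Type*} [Group E] {c : E} (d : Data E c) {x₀ a : E}
    (h : x₀ * a ≠ a * x₀) (x : E) :
    (x * x₀) * a = a * (x * x₀) ↔ ¬ (x * a = a * x) := by
  have h0 : x₀ * a = c * (a * x₀) := by
    rcases d.comm x₀ a with h' | h'
    · exact absurd h' h
    · exact h'
  have hne : ∀ y : E, c * y ≠ y := by
    intro y hy
    apply d.ne_one
    have : c * y = 1 * y := by rw [hy, one_mul]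
    exact mul_right_cancel this
  have e1 : (x * x₀) * a = c * ((x * a) * x₀) := by
    calc (x * x₀) * a = x * (x₀ * a) := by rw [mul_assoc]
      _ = x * (c * (a * x₀)) := by rw [h0]
      _ = (x * c) * (a * x₀) := by rw [mul_assoc]
      _ = (c * x) * (a * x₀) := by rw [d.central x]
      _ = c * ((x * a) * x₀) := by simp [mul_assoc]
  rcases d.comm x a with h' | h'
  · constructor
    · intro h1
      exfalso
      rw [e1, h'] at h1
      exact hne _ (by rw [h1]; simp [mul_assoc])
    · intro h1
      exact absurd h' h1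
  · constructor
    · intro _ h1
      rw [h1] at h'
      exact hne _ h'.symm
    · intro _
      rw [e1, h']
      calc c * (c * (a * x) * x₀) = (c * c) * (a * (x * x₀)) := by simp [mul_assoc]
        _ = a * (x * x₀) := by rw [d.sq, one_mul]

theorem Data.orderOf_eq_four_iff {E : Type*} [Group E] {c : E} (d : Data E c) (x : E) :
    orderOf x = 4 ↔ ¬ (x ^ 2 = 1) := by
  constructor
  · intro h h2
    have := orderOf_dvd_of_pow_eq_one h2
    rw [h] at this
    omega
  · intro h
    have h4 : x ^ 4 = 1 := by
      rcases d.square x with h' | h'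
      · exact absurd h' h
      · have : x ^ 4 = x ^ 2 * x ^ 2 := by rw [← pow_add]
        rw [this, h', d.sq]
    have hdvd : orderOf x ∣ 2 ^ 2 := orderOf_dvd_of_pow_eq_one h4
    obtain ⟨k, hk, hk'⟩ := (Nat.dvd_prime_pow Nat.prime_two).mp hdvd
    interval_cases k
    · exfalso
      apply h
      have : x = 1 := orderOf_eq_one_iff.mp (by simpa using hk')
      rw [this, one_pow]
    · exfalso
      apply h
      have := pow_orderOf_eq_one x
      rwa [hk', pow_one] at this
    · simpa using hk'

theorem sum_two_cases {X : Type*} [Fintype X] (P : X → Prop) [DecidablePred P] (f : X → ℕ) (k : ℕ)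
    (h1 : ∀ x, P x → f x = 2 * k) (h2 : ∀ x, ¬ P x → f x = k) :
    ∑ x : X, f x = k * Fintype.card X + k * (Finset.univ.filter P).card := by
  rw [← Finset.sum_filter_add_sum_filter_not Finset.univ P f]
  rw [Finset.sum_congr rfl (fun x hx => h1 x (Finset.mem_filter.mp hx).2),
      Finset.sum_congr rfl (fun x hx => h2 x (Finset.mem_filter.mp hx).2)]
  simp only [Finset.sum_const, smul_eq_mul]
  have h3 := Finset.card_filter_add_card_filter_not (s := (Finset.univ : Finset X)) P
  rw [Finset.card_univ] at h3
  rw [← h3]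
  ring

open Classical in
/-- `C_E(A) = A` for an elementary abelian subgroup of maximal order -/
theorem mem_of_centralizes {E : Type*} [Group E] [Fintype E] {c : E} (d : Data E c) (m : ℕ)
    (hcard : Fintype.card E = 2 ^ (2 * m + 1)) (A : Subgroup E) (hAc : ∀ a ∈ A, ∀ b ∈ A, a * b = b * a)
    (hAcard : Fintype.card ↥A = 2 ^ (m + 1)) (x : E) (hx : ∀ a : ↥A, x * (a : E) = (a : E) * x) :
    x ∈ A := by
  -- double counting
  have hD : ∑ a : ↥A, (Finset.univ.filter (fun x : E => x * (a : E) = (a : E) * x)).card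
      = ∑ x : E, (Finset.univ.filter (fun a : ↥A => x * (a : E) = (a : E) * x)).card := by
    simp only [Finset.card_filter]
    exact Finset.sum_comm
  have hL : ∑ a : ↥A, 2 * (Finset.univ.filter (fun x : E => x * (a : E) = (a : E) * x)).card
      = Fintype.card E * Fintype.card ↥A + Fintype.card E *
        (Finset.univ.filter (fun a : ↥A => ∀ x : E, x * (a : E) = (a : E) * x)).card := by
    refine sum_two_cases (fun a : ↥A => ∀ x : E, x * (a : E) = (a : E) * x)
      (fun a : ↥A => 2 * (Finset.univ.filter (fun x : E => x * (a : E) = (a : E) * x)).card)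
      (Fintype.card E) ?_ ?_
    · intro a h
      show 2 * _ = _
      rw [Finset.filter_true_of_mem (fun x _ => h x), Finset.card_univ]
    · intro a h
      show 2 * _ = _
      rw [not_forall] at h
      obtain ⟨x₀, hx₀⟩ := h
      exact two_mul_card_filter (Equiv.mulRight x₀) _ (fun x => d.swap hx₀ x)
  have hR : ∑ x : E, 2 * (Finset.univ.filter (fun a : ↥A => x * (a : E) = (a : E) * x)).card
      = Fintype.card ↥A * Fintype.card E + Fintype.card ↥A *
        (Finset.univ.filter (fun x : E => ∀ a : ↥A, x * (a : E) = (a : E) * x)).card := by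
    refine sum_two_cases (fun x : E => ∀ a : ↥A, x * (a : E) = (a : E) * x)
      (fun x : E => 2 * (Finset.univ.filter (fun a : ↥A => x * (a : E) = (a : E) * x)).card)
      (Fintype.card ↥A) ?_ ?_
    · intro x h
      show 2 * _ = _
      rw [Finset.filter_true_of_mem (fun a _ => h a), Finset.card_univ]
    · intro x h
      show 2 * _ = _
      rw [not_forall] at h
      obtain ⟨a₀, ha₀⟩ := h
      refine two_mul_card_filter (Equiv.mulRight a₀) _ (fun a => ?_)
      have := d.swap (x₀ := (a₀ : E)) (a := x) (fun h' => ha₀ h'.symm) (a : E)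
      show x * ((a * a₀ : ↥A) : E) = ((a * a₀ : ↥A) : E) * x ↔ _
      rw [Subgroup.coe_mul]
      constructor
      · intro h1 h2
        exact (this.mp h1.symm) h2.symm
      · intro h1
        exact (this.mpr (fun h2 => h1 h2.symm)).symm
  have hD2 : Fintype.card E * Fintype.card ↥A + Fintype.card E *
        (Finset.univ.filter (fun a : ↥A => ∀ x : E, x * (a : E) = (a : E) * x)).card
      = Fintype.card ↥A * Fintype.card E + Fintype.card ↥A *
        (Finset.univ.filter (fun x : E => ∀ a : ↥A, x * (a : E) = (a : E) * x)).card := by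
    rw [← hL, ← hR, ← Finset.mul_sum, ← Finset.mul_sum, hD]
  -- central elements of A
  have hcen : (Finset.univ.filter (fun a : ↥A => ∀ x : E, x * (a : E) = (a : E) * x)).card ≤ 2 := by
    have hsub : (Finset.univ.filter (fun a : ↥A => ∀ x : E, x * (a : E) = (a : E) * x)).image
        (fun a : ↥A => (a : E)) ⊆ {1, c} := by
      intro z hz
      simp only [Finset.mem_image, Finset.mem_filter, Finset.mem_univ, true_and] at hz
      obtain ⟨a, ha, rfl⟩ := hz
      rcases d.center _ ha with h | h
      · simp [h]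
      · simp [h]
    have h1 := Finset.card_le_card hsub
    rw [Finset.card_image_of_injective _ Subtype.coe_injective] at h1
    exact h1.trans Finset.card_le_two
  set Cf := Finset.univ.filter (fun x : E => ∀ a : ↥A, x * (a : E) = (a : E) * x) with hCf
  set Af := Finset.univ.filter (fun x : E => x ∈ A) with hAf
  set cen := (Finset.univ.filter (fun a : ↥A => ∀ x : E, x * (a : E) = (a : E) * x)).card
    with hcendef
  have hAfcard : Af.card = Fintype.card ↥A := by
    rw [hAf, Fintype.card_subtype]
  have hCle : Cf.card ≤ Af.card := by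
    rw [hAfcard, hAcard]
    rw [hcard, hAcard] at hD2
    have h3 : 2 ^ (m + 1) * Cf.card ≤ 2 ^ (m + 1) * 2 ^ (m + 1) := by
      have e : (2 : ℕ) ^ (2 * m + 1) * 2 = 2 ^ (m + 1) * 2 ^ (m + 1) := by
        rw [← pow_add, ← pow_succ]; congr 1; omega
      have h4 : 2 ^ (m + 1) * Cf.card = 2 ^ (2 * m + 1) * cen := by
        have h5 : (2 : ℕ) ^ (2 * m + 1) * 2 ^ (m + 1) = 2 ^ (m + 1) * 2 ^ (2 * m + 1) :=
          Nat.mul_comm _ _
        omega
      rw [h4, ← e]
      exact Nat.mul_le_mul_left _ hcen
    exact Nat.le_of_mul_le_mul_left h3 (by positivity)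
  have hsub : Af ⊆ Cf := by
    intro y hy
    simp only [hAf, hCf, Finset.mem_filter, Finset.mem_univ, true_and] at hy ⊢
    intro a
    exact hAc y hy a a.2
  have heq := Finset.eq_of_subset_of_card_le hsub hCle
  have hxC : x ∈ Cf := by
    simp only [hCf, Finset.mem_filter, Finset.mem_univ, true_and]
    exact hx
  rw [← heq] at hxC
  simpa [hAf] using hxC

open Classical in
theorem two_mul_card_sq {E : Type*} [Group E] [Fintype E] {c : E} (d : Data E c) (m : ℕ)
    (hcard : Fintype.card E = 2 ^ (2 * m + 1)) (A : Subgroup E)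
    (hAc : ∀ a ∈ A, ∀ b ∈ A, a * b = b * a) (hA2 : ∀ a ∈ A, a ^ 2 = 1)
    (hAcard : Fintype.card ↥A = 2 ^ (m + 1)) :
    2 * (Finset.univ.filter (fun w : E => w ^ 2 = 1)).card = 2 ^ (2 * m + 1) + 2 ^ (m + 1) := by
  have hD : ∑ a : ↥A, (Finset.univ.filter (fun y : E => (y * (a : E)) ^ 2 = 1)).card
      = ∑ y : E, (Finset.univ.filter (fun a : ↥A => (y * (a : E)) ^ 2 = 1)).card := by
    simp only [Finset.card_filter]
    exact Finset.sum_comm
  have hL : ∀ a : ↥A, (Finset.univ.filter (fun y : E => (y * (a : E)) ^ 2 = 1)).card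
      = (Finset.univ.filter (fun w : E => w ^ 2 = 1)).card := by
    intro a
    apply Finset.card_bij (fun y _ => y * (a : E))
    · intro y hy
      simpa using hy
    · intro y _ z _ h
      exact mul_right_cancel h
    · intro w hw
      refine ⟨w * (a : E)⁻¹, ?_, by simp⟩
      simpa using hw
  have hR : ∑ y : E, 2 * (Finset.univ.filter (fun a : ↥A => (y * (a : E)) ^ 2 = 1)).card
      = Fintype.card ↥A * Fintype.card E + Fintype.card ↥A *
        (Finset.univ.filter (fun y : E => y ∈ A)).card := by
    refine sum_two_cases (fun y : E => y ∈ A)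
      (fun y : E => 2 * (Finset.univ.filter (fun a : ↥A => (y * (a : E)) ^ 2 = 1)).card)
      (Fintype.card ↥A) ?_ ?_
    · intro y h
      show 2 * _ = _
      rw [Finset.filter_true_of_mem (fun a _ => hA2 _ (A.mul_mem h a.2)), Finset.card_univ]
    · intro y h
      show 2 * _ = _
      have hy : ¬ ∀ a : ↥A, y * (a : E) = (a : E) * y := fun h' =>
        h (mem_of_centralizes d m hcard A hAc hAcard y h')
      rw [not_forall] at hy
      obtain ⟨a₀, ha₀⟩ := hy
      refine two_mul_card_filter (Equiv.mulRight a₀) _ (fun a => ?_)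
      show (y * ((a * a₀ : ↥A) : E)) ^ 2 = 1 ↔ _
      rw [Subgroup.coe_mul]
      -- w = y * a does not commute with a₀
      set w := y * (a : E) with hw
      have hwa : w * (a₀ : E) ≠ (a₀ : E) * w := by
        intro h'
        apply ha₀
        have e1 : w * (a₀ : E) = y * (a₀ : E) * (a : E) := by
          rw [hw, mul_assoc, hAc _ a.2 _ a₀.2, ← mul_assoc]
        have e2 : (a₀ : E) * w = (a₀ : E) * y * (a : E) := by
          rw [hw, mul_assoc]
        rw [e1, e2] at h'
        exact mul_right_cancel h'
      have hwa' : (a₀ : E) * w = c * (w * (a₀ : E)) := by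
        rcases d.comm (a₀ : E) w with h' | h'
        · exact absurd h'.symm hwa
        · exact h'
      have ha₀2 : (a₀ : E) * (a₀ : E) = 1 := by
        have := hA2 _ a₀.2
        rwa [pow_two] at this
      have e : (y * ((a : E) * (a₀ : E))) ^ 2 = c * w ^ 2 := by
        have : y * ((a : E) * (a₀ : E)) = w * (a₀ : E) := by rw [hw, mul_assoc]
        rw [this, pow_two]
        calc w * (a₀ : E) * (w * (a₀ : E)) = w * ((a₀ : E) * w) * (a₀ : E) := by simp [mul_assoc]
          _ = w * (c * (w * (a₀ : E))) * (a₀ : E) := by rw [hwa']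
          _ = (w * c) * w * ((a₀ : E) * (a₀ : E)) := by simp [mul_assoc]
          _ = c * w ^ 2 := by rw [ha₀2, d.central w, pow_two]; simp [mul_assoc]
      rw [e]
      rcases d.square w with h' | h'
      · rw [h', mul_one]
        constructor
        · intro h1; exact absurd h1 d.ne_one
        · intro h1; exact absurd rfl h1
      · rw [h', d.sq]
        constructor
        · intro _ h1; exact d.ne_one h1
        · intro _; trivial
  have hD2 : Fintype.card ↥A * (2 * (Finset.univ.filter (fun w : E => w ^ 2 = 1)).card)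
      = Fintype.card ↥A * Fintype.card E + Fintype.card ↥A *
        (Finset.univ.filter (fun y : E => y ∈ A)).card := by
    rw [← hR, ← Finset.mul_sum, ← hD]
    simp only [hL, Finset.sum_const, Finset.card_univ, smul_eq_mul]
    ring
  have hAfcard : (Finset.univ.filter (fun x : E => x ∈ A)).card = Fintype.card ↥A := by
    rw [Fintype.card_subtype]
  rw [hAfcard, hcard, hAcard, ← Nat.mul_add] at hD2
  have hpos : 0 < (2 : ℕ) ^ (m + 1) := by positivity
  exact Nat.eq_of_mul_eq_mul_left hpos hD2

/-- Let E be an extraspecial 2-group of order 2^(2m+1) of plus type, that is, containing an elementary abelian subgroup of order 2^(m+1) (equivalently, a central product of m dihedral groups of order 8). Then E has exactly 2^(2m) − 2^m elements of order 4. -/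
theorem result {E : Type*} [Group E] [Finite E] (m : ℕ) (hm : 1 ≤ m) (hE : Cfsg.IsExtraspecial 2 E) (hcard : Nat.card E = 2 ^ (2 * m + 1)) (hplus : ∃ A : Subgroup E, Cfsg.IsElementaryAbelian 2 A ∧ Nat.card A = 2 ^ (m + 1)) : Nat.card {x : E // orderOf x = 4} = 2 ^ (2 * m) - 2 ^ m := by
  classical
  obtain ⟨c, d⟩ := exists_data hE
  obtain ⟨A, ⟨hAcomm, hA2⟩, hAcard⟩ := hplus
  have : Fintype E := Fintype.ofFinite E
  rw [Nat.card_eq_fintype_card] at hcard hAcard ⊢
  have hAc : ∀ a ∈ A, ∀ b ∈ A, a * b = b * a := by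
    intro a ha b hb
    have := mul_comm' (⟨a, ha⟩ : ↥A) ⟨b, hb⟩
    exact congrArg Subtype.val this
  have key := two_mul_card_sq d m hcard A hAc hA2 (by convert hAcard)
  rw [Fintype.card_subtype]
  have h1 : Finset.univ.filter (fun x : E => orderOf x = 4)
      = Finset.univ.filter (fun x : E => ¬ (x ^ 2 = 1)) := by
    apply Finset.filter_congr
    intro x _
    exact d.orderOf_eq_four_iff x
  rw [h1]
  have h2 := Finset.card_filter_add_card_filter_not (s := (Finset.univ : Finset E))
    (fun x : E => x ^ 2 = 1)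
  rw [Finset.card_univ, hcard] at h2
  have e1 : (2 : ℕ) ^ (2 * m + 1) = 2 * 2 ^ (2 * m) := by rw [pow_succ]; ring
  have e2 : (2 : ℕ) ^ (m + 1) = 2 * 2 ^ m := by rw [pow_succ]; ring
  rw [e1, e2] at key
  rw [e1] at h2
  omega

end Cfsg.Agent.S2880
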