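import Cfsg.Statements.S2881
import Cfsg.Agent.S2880
import Mathlib

set_option autoImplicit false
open Cfsg

namespace Cfsg.Agent.S2881

theorem four_dvd_of_five_dvd (m : ℕ) (h : 5 ∣ 2 ^ (2 * m) - 2 ^ m) : 4 ∣ m := by
  have h1 : 2 ^ m ≤ 2 ^ (2 * m) := Nat.pow_le_pow_right (by norm_num) (by omega)
  have h2 : (2 : ℕ) ^ (2 * m) = 2 ^ m * 2 ^ m := by rw [← pow_add]; congr 1; omega
  have h3 : (2 ^ m * 2 ^ m) % 5 = 2 ^ m % 5 := by
    rw [h2] at h h1
    omega
  have h4 : 2 ^ m % 5 = 2 ^ (m % 4) % 5 := by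
    conv_lhs => rw [← Nat.div_add_mod m 4, pow_add, pow_mul]
    rw [Nat.mul_mod, Nat.pow_mod]
    norm_num
  have h5 : m % 4 < 4 := Nat.mod_lt _ (by norm_num)
  have h6 : 2 ^ m % 5 ≠ 0 := by
    intro h0
    have : 5 ∣ 2 ^ m := Nat.dvd_of_mod_eq_zero h0
    have := (Nat.Prime.dvd_of_dvd_pow (by norm_num : Nat.Prime 5) this)
    omega
  rw [Nat.mul_mod] at h3
  rw [h4] at h3 h6
  apply Nat.dvd_of_mod_eq_zero
  interval_cases hr : m % 4
  · rfl
  · norm_num at h3
  · norm_num at h3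
  · norm_num at h3

/-- Let E be an extraspecial 2-group of order 2^(2m+1) of plus type (containing an elementary abelian subgroup of order 2^(m+1)), and let ω be an automorphism of E of order 5 whose fixed points are exactly the centre of E. Then m is divisible by 4. -/
theorem result {E : Type*} [Group E] [Finite E] (m : ℕ) (hm : 1 ≤ m) (hE : Cfsg.IsExtraspecial 2 E) (hcard : Nat.card E = 2 ^ (2 * m + 1)) (hplus : ∃ A : Subgroup E, Cfsg.IsElementaryAbelian 2 A ∧ Nat.card A = 2 ^ (m + 1)) (ω : E ≃* E) (hω : orderOf ω = 5) (hfix : ∀ x : E, ω x = x ↔ x ∈ Subgroup.center E) : 4 ∣ m := by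
  classical
  have key := Cfsg.Agent.S2880.result m hm hE hcard hplus
  apply four_dvd_of_five_dvd
  rw [← key]
  have : Fintype E := Fintype.ofFinite E
  have : Fact (Nat.Prime 5) := ⟨by norm_num⟩
  rw [Nat.card_eq_fintype_card]
  by_contra hnd
  have hω5 : ω ^ 5 = 1 := by rw [← hω]; exact pow_orderOf_eq_one ω
  let σ : Equiv.Perm {x : E // orderOf x = 4} :=
    { toFun := fun x => ⟨ω x.1, by rw [MulEquiv.orderOf_eq]; exact x.2⟩
      invFun := fun x => ⟨ω.symm x.1, by rw [MulEquiv.orderOf_eq]; exact x.2⟩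
      left_inv := fun x => by ext; simp
      right_inv := fun x => by ext; simp }
  have hσpow : ∀ (k : ℕ) (x : {x : E // orderOf x = 4}), ((σ ^ k) x).1 = (ω ^ k) x.1 := by
    intro k
    induction k with
    | zero => intro x; rfl
    | succ n ih =>
      intro x
      rw [pow_succ, pow_succ]
      show ((σ ^ n) (σ x)).1 = (ω ^ n) (ω x.1)
      rw [ih (σ x)]
      rfl
  have hσ : σ ^ 5 ^ 1 = 1 := by
    ext x
    rw [pow_one, hσpow, hω5]
    rfl
  obtain ⟨a, ha⟩ := Equiv.Perm.exists_fixed_point_of_prime hnd hσ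
  have ha' : ω a.1 = a.1 := congrArg Subtype.val ha
  have hz : a.1 ∈ Subgroup.center E := (hfix a.1).mp ha'
  have hz2 : Nat.card (Subgroup.center E) = 2 := hE.2
  have h2 : (⟨a.1, hz⟩ : Subgroup.center E) ^ 2 = 1 := by
    rw [← hz2]
    exact pow_card_eq_one'
  have h3 : a.1 ^ 2 = 1 := congrArg Subtype.val h2
  have h4 := orderOf_dvd_of_pow_eq_one h3
  rw [a.2] at h4
  omega

end Cfsg.Agent.S2881
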