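import Cfsg.Statements.S2896
import Cfsg.Agent.Lib.Helper57.CharP2

set_option autoImplicit false
open Cfsg

namespace Cfsg.Agent.S2896

open Cfsg.Agent.Lib.Helper57

theorem charP_centralizer_of_conj {G : Type*} [Group G] [Finite G] {p : ℕ} (g z : G)
    (h : generalizedFittingSubgroup ↥(Subgroup.centralizer ({g⁻¹ * z * g} : Set G)) =
      pCore p ↥(Subgroup.centralizer ({g⁻¹ * z * g} : Set G))) :
    Subgroup.centralizer (pCore p ↥(Subgroup.centralizer ({z} : Set G)) :
        Set ↥(Subgroup.centralizer ({z} : Set G))) ≤ pCore p ↥(Subgroup.centralizer ({z} : Set G)) := by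
  have h1 := charP_centralizer_conj g (g⁻¹ * z * g) (charP_of_genFitting_eq_pCore h)
  have e : g * (g⁻¹ * z * g) * g⁻¹ = z := by group
  rwa [e] at h1

/-- Let p be a prime dividing the order of the finite group G, S a Sylow p-subgroup of G and X a subgroup of S. (i) If some nontrivial element z of the centre of X has F*(C_G(z)) = O_p(C_G(z)), then F*(N_G(X)) = O_p(N_G(X)). (ii) G has parabolic characteristic p if and only if F*(C_G(z)) = O_p(C_G(z)) for every nontrivial z ∈ Ω₁(Z(S)). (iii) If F*(C_G(z)) = O_p(C_G(z)) for every element z of S of order p, then G has local characteristic p. -/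
theorem result {G : Type*} [Group G] [Finite G] {p : ℕ} [Fact p.Prime] (hdiv : p ∣ Nat.card G) (S : Sylow p G) (X : Subgroup G) (hX : X ≤ (S : Subgroup G)) : (∀ z : G, z ≠ 1 → z ∈ X → (∀ x ∈ X, x * z = z * x) → Cfsg.generalizedFittingSubgroup ↥(Subgroup.centralizer ({z} : Set G)) = Cfsg.pCore p ↥(Subgroup.centralizer ({z} : Set G)) → Cfsg.generalizedFittingSubgroup ↥(Subgroup.normalizer (X : Set G)) = Cfsg.pCore p ↥(Subgroup.normalizer (X : Set G))) ∧ (Cfsg.IsOfParabolicCharacteristic p G ↔ ∀ z : G, z ≠ 1 → z ∈ Cfsg.omegaOne p ((S : Subgroup G) ⊓ Subgroup.centralizer ((S : Subgroup G) : Set G)) → Cfsg.generalizedFittingSubgroup ↥(Subgroup.centralizer ({z} : Set G)) = Cfsg.pCore p ↥(Subgroup.centralizer ({z} : Set G))) ∧ ((∀ z : G, z ∈ (S : Subgroup G) → orderOf z = p → Cfsg.generalizedFittingSubgroup ↥(Subgroup.centralizer ({z} : Set G)) = Cfsg.pCore p ↥(Subgroup.centralizer ({z} : Set G))) → Cfsg.IsOfLocalCharacteristic p G) := by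
  have hp : p.Prime := Fact.out
  refine ⟨?_, ⟨?_, ?_⟩, ?_⟩
  · intro z _ hzX hzc hF
    apply genFitting_eq_pCore_of_charP
    exact charP_normalizer_of_central_mem (S.isPGroup'.to_le hX) hzX hzc
      (charP_of_genFitting_eq_pCore hF)
  · intro hG z hz1 hzΩ
    have hz' := omegaOne_le p _ hzΩ
    have hzcent : z ∈ Subgroup.centralizer ((S : Subgroup G) : Set G) := hz'.2
    apply genFitting_eq_pCore_of_charP
    exact charP_centralizer_of_parabolic hG S hz1 hz'.1
      (fun s hs => Subgroup.mem_centralizer_iff.mp hzcent s hs)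
  · intro hyp R hR hRne hpar
    obtain ⟨T, hT⟩ := hpar
    have hRT : R ≤ (T : Subgroup G) := by
      have hsup : IsPGroup p ↥(R ⊔ (T : Subgroup G)) :=
        IsPGroup.to_sup_of_normal_left' hR T.isPGroup' hT
      have := T.is_maximal' hsup le_sup_right
      rw [← this]
      exact le_sup_left
    obtain ⟨z, hzR, hzp, hzc⟩ := exists_central_orderOf_of_normal T.isPGroup' hRT hT hRne
    obtain ⟨g, hg⟩ := MulAction.exists_smul_eq G S T
    have hmemT : ∀ x : G, x ∈ (T : Subgroup G) ↔ g⁻¹ * x * g ∈ (S : Subgroup G) := by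
      intro x
      rw [← hg]
      exact mem_smul_sylow S g x
    have hz₀S : g⁻¹ * z * g ∈ (S : Subgroup G) := (hmemT z).mp (hRT hzR)
    have hz₀ord : orderOf (g⁻¹ * z * g) = p := by
      have := orderOf_conj_eq g⁻¹ z
      rw [inv_inv] at this
      rw [this, hzp]
    have hz₀1 : g⁻¹ * z * g ≠ 1 := by
      intro h1
      rw [h1, orderOf_one] at hz₀ord
      exact hp.one_lt.ne hz₀ord
    have hz₀c : g⁻¹ * z * g ∈ Subgroup.centralizer ((S : Subgroup G) : Set G) := by
      rw [Subgroup.mem_centralizer_iff]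
      intro s hs
      have hsT : g * s * g⁻¹ ∈ (T : Subgroup G) := by
        rw [hmemT]
        have : g⁻¹ * (g * s * g⁻¹) * g = s := by group
        rw [this]; exact hs
      have h1 := hzc _ hsT
      calc s * (g⁻¹ * z * g) = g⁻¹ * (g * s * g⁻¹ * z) * g := by group
        _ = g⁻¹ * (z * (g * s * g⁻¹)) * g := by rw [h1]
        _ = g⁻¹ * z * g * s := by group
    have hz₀Ω : g⁻¹ * z * g ∈ omegaOne p ((S : Subgroup G) ⊓
        Subgroup.centralizer ((S : Subgroup G) : Set G)) := by
      have hmem : g⁻¹ * z * g ∈ (S : Subgroup G) ⊓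
          Subgroup.centralizer ((S : Subgroup G) : Set G) := ⟨hz₀S, hz₀c⟩
      apply mem_omegaOne hmem
      rw [← hz₀ord]
      exact pow_orderOf_eq_one _
    have hF := hyp _ hz₀1 hz₀Ω
    exact charP_normalizer_of_central_mem hR hzR (fun r hr => hzc r (hRT hr))
      (charP_centralizer_of_conj g z hF)
  · intro hyp
    refine ⟨hdiv, ?_⟩
    intro T hT hTne
    obtain ⟨z, hzT, hzp, hzc⟩ :=
      exists_central_orderOf_of_normal hT le_rfl Subgroup.le_normalizer hTne
    have hzpg : IsPGroup p ↥(Subgroup.zpowers z) := hT.to_le ((Subgroup.zpowers_le).mpr hzT)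
    obtain ⟨g, hg⟩ := exists_conj_sylow_ge_top S (Subgroup.zpowers z) hzpg
    have hz₀S : g⁻¹ * z * g ∈ (S : Subgroup G) :=
      (mem_smul_sylow S g z).mp (hg (Subgroup.mem_zpowers z))
    have hz₀ord : orderOf (g⁻¹ * z * g) = p := by
      have := orderOf_conj_eq g⁻¹ z
      rw [inv_inv] at this
      rw [this, hzp]
    have hF := hyp _ hz₀S hz₀ord
    exact charP_normalizer_of_central_mem hT hzT hzc (charP_centralizer_of_conj g z hF)

end Cfsg.Agent.S2896
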