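import Cfsg.Statements.S2897
import Cfsg.Agent.Lib.Helper57.CharP2

set_option autoImplicit false
open Cfsg

namespace Cfsg.Agent.S2897

open Cfsg.Agent.Lib.Helper57

/-- Let p be a prime dividing the order of the finite group G, suppose G has parabolic characteristic p, let S be a Sylow p-subgroup of G and G₁ a normal subgroup of G. If Ω₁(Z(S ∩ G₁)) is nontrivial and contained in Ω₁(Z(S)), then G₁ has parabolic characteristic p. -/
theorem result {G : Type*} [Group G] [Finite G] {p : ℕ} [Fact p.Prime] (hdiv : p ∣ Nat.card G) (hG : Cfsg.IsOfParabolicCharacteristic p G) (S : Sylow p G) (G₁ : Subgroup G) [G₁.Normal] (hne : Cfsg.omegaOne p (((S : Subgroup G) ⊓ G₁) ⊓ Subgroup.centralizer (((S : Subgroup G) ⊓ G₁ : Subgroup G) : Set G)) ≠ ⊥) (hle : Cfsg.omegaOne p (((S : Subgroup G) ⊓ G₁) ⊓ Subgroup.centralizer (((S : Subgroup G) ⊓ G₁ : Subgroup G) : Set G)) ≤ Cfsg.omegaOne p ((S : Subgroup G) ⊓ Subgroup.centralizer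 ((S : Subgroup G) : Set G))) : Cfsg.IsOfParabolicCharacteristic p ↥G₁ := by
  have hp : p.Prime := Fact.out
  have hG₁n : G₁.Normal := inferInstance
  intro R hR hRne hpar
  obtain ⟨T₁, hT₁⟩ := hpar
  have hRT : R ≤ (T₁ : Subgroup ↥G₁) := by
    have hsup : IsPGroup p ↥(R ⊔ (T₁ : Subgroup ↥G₁)) :=
      IsPGroup.to_sup_of_normal_left' hR T₁.isPGroup' hT₁
    have := T₁.is_maximal' hsup le_sup_right
    rw [← this]
    exact le_sup_left
  obtain ⟨z₁, hz₁R, hz₁p, hz₁c⟩ := exists_central_orderOf_of_normal T₁.isPGroup' hRT hT₁ hRne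
  have hT₁'p : IsPGroup p ↥((T₁ : Subgroup ↥G₁).map G₁.subtype) := T₁.isPGroup'.map _
  obtain ⟨g, hg⟩ := exists_conj_sylow_ge_top S ((T₁ : Subgroup ↥G₁).map G₁.subtype) hT₁'p
  -- T₁ is the intersection of the Sylow subgroup `g • S` with `G₁`
  have hQ : (((g • S : Sylow p G) : Subgroup G).subgroupOf G₁) = (T₁ : Subgroup ↥G₁) := by
    apply T₁.is_maximal' ((g • S : Sylow p G).isPGroup'.comap_subtype)
    intro t ht
    show (t : G) ∈ ((g • S : Sylow p G) : Subgroup G)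
    exact hg ⟨t, ht, rfl⟩
  have hconj : ∀ x : G, x ∈ (S : Subgroup G) → ∀ hx : x ∈ G₁,
      (⟨g * x * g⁻¹, hG₁n.conj_mem x hx g⟩ : ↥G₁) ∈ (T₁ : Subgroup ↥G₁) := by
    intro x hxS hx
    rw [← hQ, Subgroup.mem_subgroupOf]
    rw [mem_smul_sylow]
    have : g⁻¹ * (g * x * g⁻¹) * g = x := by group
    show g⁻¹ * (g * x * g⁻¹) * g ∈ (S : Subgroup G)
    rw [this]
    exact hxS
  have hz₁T' : (z₁ : G) ∈ ((g • S : Sylow p G) : Subgroup G) := hg ⟨z₁, hRT hz₁R, rfl⟩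
  have hz₀S : g⁻¹ * (z₁ : G) * g ∈ (S : Subgroup G) := (mem_smul_sylow S g _).mp hz₁T'
  have hz₀G₁ : g⁻¹ * (z₁ : G) * g ∈ G₁ := by
    have := hG₁n.conj_mem (z₁ : G) z₁.2 g⁻¹
    rwa [inv_inv] at this
  have hz₀ord : orderOf (g⁻¹ * (z₁ : G) * g) = p := by
    have := orderOf_conj_eq g⁻¹ (z₁ : G)
    rw [inv_inv] at this
    rw [this, Subgroup.orderOf_coe, hz₁p]
  have hz₀1 : g⁻¹ * (z₁ : G) * g ≠ 1 := by
    intro h1
    rw [h1, orderOf_one] at hz₀ord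
    exact hp.one_lt.ne hz₀ord
  have hz₀c : g⁻¹ * (z₁ : G) * g ∈
      Subgroup.centralizer (((S : Subgroup G) ⊓ G₁ : Subgroup G) : Set G) := by
    rw [Subgroup.mem_centralizer_iff]
    intro x hx
    have h1 := hz₁c _ (hconj x hx.1 hx.2)
    have h2 : g * x * g⁻¹ * (z₁ : G) = (z₁ : G) * (g * x * g⁻¹) := congrArg Subtype.val h1
    calc x * (g⁻¹ * (z₁ : G) * g) = g⁻¹ * (g * x * g⁻¹ * (z₁ : G)) * g := by group
      _ = g⁻¹ * ((z₁ : G) * (g * x * g⁻¹)) * g := by rw [h2]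
      _ = g⁻¹ * (z₁ : G) * g * x := by group
  have hz₀Ω : g⁻¹ * (z₁ : G) * g ∈ omegaOne p (((S : Subgroup G) ⊓ G₁) ⊓
      Subgroup.centralizer (((S : Subgroup G) ⊓ G₁ : Subgroup G) : Set G)) := by
    have hmem : g⁻¹ * (z₁ : G) * g ∈ ((S : Subgroup G) ⊓ G₁) ⊓
        Subgroup.centralizer (((S : Subgroup G) ⊓ G₁ : Subgroup G) : Set G) :=
      ⟨⟨hz₀S, hz₀G₁⟩, hz₀c⟩
    apply mem_omegaOne hmem
    rw [← hz₀ord]
    exact pow_orderOf_eq_one _
  have hz₀Z := omegaOne_le p _ (hle hz₀Ω)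
  have hz₀cS : g⁻¹ * (z₁ : G) * g ∈ Subgroup.centralizer ((S : Subgroup G) : Set G) := hz₀Z.2
  -- C_G(z₀) has characteristic p
  have h6 := charP_centralizer_of_parabolic hG S hz₀1 hz₀S
    (fun s hs => Subgroup.mem_centralizer_iff.mp hz₀cS s hs)
  have h7 := charP_centralizer_conj g (g⁻¹ * (z₁ : G) * g) h6
  have e : g * (g⁻¹ * (z₁ : G) * g) * g⁻¹ = (z₁ : G) := by group
  rw [e] at h7
  have h8 : Subgroup.centralizer (pCore p ↥(G₁ ⊓ Subgroup.centralizer ({(z₁ : G)} : Set G)) :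
      Set ↥(G₁ ⊓ Subgroup.centralizer ({(z₁ : G)} : Set G))) ≤
      pCore p ↥(G₁ ⊓ Subgroup.centralizer ({(z₁ : G)} : Set G)) := by
    refine charP_of_normal_of_le inf_le_right ?_ h7
    refine le_trans (le_inf ?_ Subgroup.le_normalizer) Subgroup.inf_normalizer_le_normalizer_inf
    rw [Subgroup.normalizer_eq_top_iff.mpr hG₁n]
    exact le_top
  have h9 := charP_centralizer_subtype G₁ z₁ h8
  exact charP_normalizer_of_central_mem hR hz₁R (fun r hr => hz₁c r (hRT hr)) h9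

end Cfsg.Agent.S2897
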