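import Cfsg.Statements.S3309
import Mathlib

set_option autoImplicit false
open Cfsg

namespace Cfsg.Agent.S3309

open scoped Pointwise

theorem odd_card_filter {G : Type*} [Group G] [Finite G] (H : Subgroup G) (hH : IsPGroup 2 H)
    [Fintype (G ⧸ H)] (P : G ⧸ H → Prop) [DecidablePred P]
    (hinv : ∀ (s : H) (q : G ⧸ H), P q → P (s • q))
    (hfix : ∀ q : G ⧸ H, q ∈ MulAction.fixedPoints H (G ⧸ H) → P q)
    (hodd : Odd H.index) : Odd (Finset.univ.filter P).card := by
  classical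
  have : Fact (Nat.Prime 2) := ⟨Nat.prime_two⟩
  let Z : SubMulAction H (G ⧸ H) :=
    { carrier := {q | ¬ P q}
      smul_mem' := by
        intro s q hq hP
        apply hq
        have := hinv s⁻¹ (s • q) hP
        rwa [inv_smul_smul] at this }
  have h1 := hH.card_modEq_card_fixedPoints Z
  have h2 : IsEmpty (MulAction.fixedPoints H Z) := by
    constructor
    rintro ⟨⟨q, hq⟩, hfixq⟩
    apply hq
    apply hfix
    intro s
    have := hfixq s
    exact congrArg Subtype.val this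
  have h3 : Nat.card (MulAction.fixedPoints H Z) = 0 := by
    rw [Nat.card_eq_zero]; left; exact h2
  rw [h3] at h1
  have h4 : Nat.card Z = (Finset.univ.filter (fun q => ¬ P q)).card := by
    have h40 : Nat.card Z = Nat.card {q : G ⧸ H // ¬ P q} := rfl
    rw [h40, Nat.card_eq_fintype_card, Fintype.card_subtype]
  have h5 := Finset.card_filter_add_card_filter_not (s := (Finset.univ : Finset (G ⧸ H))) P
  have h6 : (Finset.univ : Finset (G ⧸ H)).card = H.index := by
    rw [Finset.card_univ, Subgroup.index, Nat.card_eq_fintype_card]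
  rw [h6, ← h4] at h5
  have h7 : Nat.card Z % 2 = 0 := h1
  rcases hodd with ⟨k, hk⟩
  rw [Nat.odd_iff]
  omega

theorem z2_cases : ∀ a b : Multiplicative (ZMod 2), b ≠ 1 → (a = 1 ∨ a = b) := by decide

theorem z2_sq : ∀ b : Multiplicative (ZMod 2), b * b = 1 := by decide

theorem transfer_ne_one {G : Type*} [Group G] [Finite G] (H : Subgroup G) (hH2 : IsPGroup 2 H)
    (hodd : Odd H.index)
    (ϕ : H →* Multiplicative (ZMod 2)) (c : G) (hcS : c ∈ H)
    (hc2 : c * c = 1) (hcen : ∀ s ∈ H, s * c = c * s)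
    (hN : ∀ n ∈ Subgroup.normalizer (H : Set G), n⁻¹ * c * n = c)
    (hϕ : ϕ ⟨c, hcS⟩ ≠ 1) : MonoidHom.transfer ϕ c ≠ 1 := by
  classical
  have : Fact (Nat.Prime 2) := ⟨Nat.prime_two⟩
  letI := H.fintypeQuotientOfFiniteIndex
  let ψ : G → Multiplicative (ZMod 2) := fun x => if h : x ∈ H then ϕ ⟨x, h⟩ else 1
  have ψ_mem : ∀ x (h : x ∈ H), ψ x = ϕ ⟨x, h⟩ := fun x h => dif_pos h
  have ψ_one : ψ 1 = 1 := by rw [ψ_mem 1 H.one_mem]; exact map_one ϕ
  have ψ_mul : ∀ x y, x ∈ H → y ∈ H → ψ (x * y) = ψ x * ψ y := by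
    intro x y hx hy
    rw [ψ_mem _ (mul_mem hx hy), ψ_mem _ hx, ψ_mem _ hy, ← map_mul]; rfl
  have ψ_conj : ∀ x h, x ∈ H → h ∈ H → ψ (h⁻¹ * x * h) = ψ x := by
    intro x h hx hh
    rw [ψ_mul _ _ (mul_mem (inv_mem hh) hx) hh, ψ_mul _ _ (inv_mem hh) hx, mul_comm (ψ h⁻¹),
      mul_assoc, ← ψ_mul _ _ (inv_mem hh) hh, inv_mul_cancel, ψ_one, mul_one]
  let f : G ⧸ H → G := Quotient.out
  have hf : ∀ q, (f q : G ⧸ H) = q := fun q => QuotientGroup.out_eq' q
  let T : H.LeftTransversal := ⟨Set.range f, Subgroup.isComplement_range_left hf⟩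
  have hcinv : c⁻¹ = c := inv_eq_of_mul_eq_one_right hc2
  have hττ : ∀ q : G ⧸ H, c • (c • q) = q := by intro q; rw [← mul_smul, hc2, one_smul]
  let t : G ⧸ H → Multiplicative (ZMod 2) := fun q => ψ ((f q)⁻¹ * (c * f (c • q)))
  have h1 : MonoidHom.transfer ϕ c = ∏ q : G ⧸ H, t q := by
    rw [MonoidHom.transfer_def ϕ T c]
    unfold Subgroup.leftTransversals.diff
    refine Finset.prod_congr rfl (fun q _ => ?_)
    have hα : ((T.2.leftQuotientEquiv q : G)) = f q :=
      Subgroup.IsComplement.leftQuotientEquiv_apply hf q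
    have hβ : (((c • T).2.leftQuotientEquiv q : G)) = c * f (c • q) := by
      rw [Subgroup.smul_apply_eq_smul_apply_inv_smul, hcinv]
      have : ((T.2.leftQuotientEquiv (c • q) : G)) = f (c • q) :=
        Subgroup.IsComplement.leftQuotientEquiv_apply hf (c • q)
      rw [this]; rfl
    have key : ∀ (x : G) (hx : x ∈ H) (y : G), x = y → ϕ ⟨x, hx⟩ = ψ y := by
      intro x hx y hxy; subst hxy; exact (ψ_mem x hx).symm
    exact key _ _ _ (by rw [hα, hβ])
  have hmem : ∀ q : G ⧸ H, (f q)⁻¹ * (c * f (c • q)) ∈ H := by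
    intro q
    rw [← QuotientGroup.eq]
    have : ((c * f (c • q) : G) : G ⧸ H) = c • ((f (c • q) : G) : G ⧸ H) := rfl
    rw [this, hf, hf, hττ]
  have hpair : ∀ q, t q * t (c • q) = 1 := by
    intro q
    have h2 : (f (c • q))⁻¹ * (c * f (c • (c • q))) ∈ H := hmem (c • q)
    simp only [t]
    rw [← ψ_mul _ _ (hmem q) h2, hττ]
    have : (f q)⁻¹ * (c * f (c • q)) * ((f (c • q))⁻¹ * (c * f q)) = 1 := by
      calc (f q)⁻¹ * (c * f (c • q)) * ((f (c • q))⁻¹ * (c * f q))
          = (f q)⁻¹ * (c * c) * f q := by group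
        _ = 1 := by rw [hc2]; group
    rw [this, ψ_one]
  have h2 : ∏ q : G ⧸ H, t q = ∏ q ∈ Finset.univ.filter (fun q : G ⧸ H => c • q = q), t q := by
    rw [← Finset.prod_filter_mul_prod_filter_not Finset.univ (fun q : G ⧸ H => c • q = q)]
    have : ∏ q ∈ Finset.univ.filter (fun q : G ⧸ H => ¬ c • q = q), t q = 1 := by
      refine Finset.prod_involution (fun q _ => c • q) ?_ ?_ ?_ ?_
      · intro q _; exact hpair q
      · intro q hq _; exact (Finset.mem_filter.mp hq).2
      · intro q hq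
        have := (Finset.mem_filter.mp hq).2
        simp only [Finset.mem_filter, Finset.mem_univ, true_and]
        rw [hττ]
        exact fun h => this h.symm
      · intro q hq; exact hττ q
    rw [this, mul_one]
  set σ := ϕ ⟨c, hcS⟩ with hσ
  -- F q for fixed q
  have hfixmem : ∀ q : G ⧸ H, c • q = q → (f q)⁻¹ * c * f q ∈ H := by
    intro q hq
    have := hmem q
    rw [hq] at this
    simpa [mul_assoc] using this
  have hrep : ∀ (g : G), g⁻¹ * c * g ∈ H → ψ (g⁻¹ * c * g) = ψ ((f (g : G ⧸ H))⁻¹ * c * f (g : G ⧸ H)) := by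
    intro g hg
    have h3 : (f (g : G ⧸ H))⁻¹ * g ∈ H := by
      rw [← QuotientGroup.eq]; exact hf _
    have h4 : g⁻¹ * c * g = ((f (g : G ⧸ H))⁻¹ * g)⁻¹ * ((f (g : G ⧸ H))⁻¹ * c * f (g : G ⧸ H)) * ((f (g : G ⧸ H))⁻¹ * g) := by
      group
    have h5 : (f (g : G ⧸ H))⁻¹ * c * f (g : G ⧸ H) ∈ H := by
      have : (f (g : G ⧸ H))⁻¹ * c * f (g : G ⧸ H) = ((f (g : G ⧸ H))⁻¹ * g) * (g⁻¹ * c * g) * ((f (g : G ⧸ H))⁻¹ * g)⁻¹ := by
        group
      rw [this]
      exact mul_mem (mul_mem h3 hg) (inv_mem h3)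
    rw [h4]
    exact ψ_conj _ _ h5 h3
  let Fq : G ⧸ H → Multiplicative (ZMod 2) := fun q => ψ ((f q)⁻¹ * c * f q)
  have h3 : ∏ q ∈ Finset.univ.filter (fun q : G ⧸ H => c • q = q), t q
      = ∏ q ∈ Finset.univ.filter (fun q : G ⧸ H => c • q = q), Fq q := by
    refine Finset.prod_congr rfl (fun q hq => ?_)
    have := (Finset.mem_filter.mp hq).2
    simp only [t, Fq]; rw [this, mul_assoc]
  have hσ2 : ∀ a : Multiplicative (ZMod 2), a = 1 ∨ a = σ := by
    exact fun a => z2_cases a σ hϕ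
  have hσσ : σ * σ = 1 := z2_sq σ
  have h4 : ∏ q ∈ Finset.univ.filter (fun q : G ⧸ H => c • q = q), Fq q
      = σ ^ (Finset.univ.filter (fun q : G ⧸ H => c • q = q ∧ Fq q = σ)).card := by
    rw [← Finset.prod_filter_mul_prod_filter_not (Finset.univ.filter (fun q : G ⧸ H => c • q = q))
      (fun q => Fq q = σ)]
    have h41 : ∏ q ∈ (Finset.univ.filter (fun q : G ⧸ H => c • q = q)).filter (fun q => ¬ Fq q = σ), Fq q = 1 := by
      apply Finset.prod_eq_one
      intro q hq
      have := (Finset.mem_filter.mp hq).2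
      rcases hσ2 (Fq q) with h | h
      · exact h
      · exact absurd h this
    have h42 : ∏ q ∈ (Finset.univ.filter (fun q : G ⧸ H => c • q = q)).filter (fun q => Fq q = σ), Fq q
        = σ ^ ((Finset.univ.filter (fun q : G ⧸ H => c • q = q)).filter (fun q => Fq q = σ)).card := by
      rw [Finset.prod_congr rfl (fun q hq => (Finset.mem_filter.mp hq).2), Finset.prod_const]
    rw [h41, h42, mul_one, Finset.filter_filter]
  have h5 : Odd (Finset.univ.filter (fun q : G ⧸ H => c • q = q ∧ Fq q = σ)).card := by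
    apply odd_card_filter H hH2 (fun q : G ⧸ H => c • q = q ∧ Fq q = σ) _ _ hodd
    · rintro ⟨s, hs⟩ q ⟨hq1, hq2⟩
      have hsq : (⟨s, hs⟩ : H) • q = ((s * f q : G) : G ⧸ H) := by
        conv_lhs => rw [← hf q]
        rfl
      have hcs : c • ((⟨s, hs⟩ : H) • q) = (⟨s, hs⟩ : H) • q := by
        change c • (s • q) = s • q
        rw [← mul_smul, ← hcen s hs, mul_smul, hq1]
      refine ⟨hcs, ?_⟩
      have hg : (s * f q)⁻¹ * c * (s * f q) = (f q)⁻¹ * c * f q := by
        have : (s * f q)⁻¹ * c * (s * f q) = (f q)⁻¹ * (s⁻¹ * (s * c)) * f q := by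
          rw [hcen s hs]; group
        rw [this, inv_mul_cancel_left]
      have hgm : (s * f q)⁻¹ * c * (s * f q) ∈ H := by rw [hg]; exact hfixmem q hq1
      have := hrep (s * f q) hgm
      rw [hg] at this
      change ψ ((f ((⟨s, hs⟩ : H) • q))⁻¹ * c * f ((⟨s, hs⟩ : H) • q)) = σ
      rw [hsq, ← this]
      exact hq2
    · intro q hq
      have hq' : ((f q : G) : G ⧸ H) ∈ MulAction.fixedPoints H (G ⧸ H) := by rw [hf]; exact hq
      have hn : f q ∈ Subgroup.normalizer (H : Set G) :=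
        Sylow.mem_fixedPoints_mul_left_cosets_iff_mem_normalizer.mp hq'
      have hcn := hN (f q) hn
      constructor
      · conv_lhs => rw [← hf q]
        conv_rhs => rw [← hf q]
        change ((c * f q : G) : G ⧸ H) = ((f q : G) : G ⧸ H)
        rw [QuotientGroup.eq]
        have : (c * f q)⁻¹ * f q = ((f q)⁻¹ * c * f q)⁻¹ := by group
        rw [this, hcn]
        exact inv_mem hcS
      · change ψ ((f q)⁻¹ * c * f q) = σ
        rw [hcn, ψ_mem c hcS]
  rw [h1, h2, h3, h4]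
  obtain ⟨k, hk⟩ := h5
  rw [hk, pow_succ, pow_mul, pow_two, hσσ, one_pow, one_mul]
  exact hϕ

abbrev MM := Multiplicative (ZMod 2) × DihedralGroup 4

set_option maxRecDepth 100000 in
theorem model_facts : ∀ m : MM, ((∀ g : MM, g * m = m * g) ∧ ¬ ∃ v : MM, v * v = m) ↔
    (m = (Multiplicative.ofAdd 1, 1) ∨ m = (Multiplicative.ofAdd 1, DihedralGroup.r 2)) := by
  decide

theorem model_ne : ((Multiplicative.ofAdd 1, 1) : MM) ≠ (Multiplicative.ofAdd 1, DihedralGroup.r 2) := by
  decide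

theorem model_sq : ((Multiplicative.ofAdd 1, 1) : MM) * (Multiplicative.ofAdd 1, 1) = 1 := by decide

theorem model_fst : ((Multiplicative.ofAdd 1, 1) : MM).1 ≠ 1 := by decide

/-- abstract form: a 2-subgroup `H` of odd index with a central involution `c`, a hom to `Z/2`
nontrivial on `c`, such that the "special" set containing `c` has at most two elements and is
preserved by the normalizer. -/
theorem normalizer_centralizes {G : Type*} [Group G] [Finite G] (H : Subgroup G)
    (hodd : Odd H.index) (c c' : G) (hcH : c ∈ H) (hne : c ≠ c')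
    (hcen : ∀ s ∈ H, s * c = c * s)
    (hX : ∀ n ∈ Subgroup.normalizer (H : Set G), ∀ u : G, (u = c ∨ u = c') →
      (n⁻¹ * u * n = c ∨ n⁻¹ * u * n = c')) :
    ∀ n ∈ Subgroup.normalizer (H : Set G), n⁻¹ * c * n = c := by
  intro n₀ hn₀
  by_contra hcon
  have hn₀c : n₀⁻¹ * c * n₀ = c' := (hX n₀ hn₀ c (Or.inl rfl)).resolve_left hcon
  set N := Subgroup.normalizer (H : Set G) with hN
  let K : Subgroup G := N ⊓ Subgroup.centralizer ({c} : Set G)
  have hHK : H ≤ K := by
    intro s hs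
    refine ⟨Subgroup.le_normalizer hs, ?_⟩
    exact Subgroup.mem_centralizer_singleton_iff.mpr (hcen s hs)
  have hmemK : ∀ b ∈ N, (b ∈ K ↔ b⁻¹ * c * b = c) := by
    intro b hb
    constructor
    · intro h
      have := Subgroup.mem_centralizer_singleton_iff.mp h.2
      rw [mul_assoc, ← this, inv_mul_cancel_left]
    · intro h
      refine ⟨hb, ?_⟩
      apply Subgroup.mem_centralizer_singleton_iff.mpr
      have : b * (b⁻¹ * c * b) = b * c := by rw [h]
      rw [← this]; group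
  have h2 : K.relIndex N = 2 := by
    rw [Subgroup.relIndex_eq_two_iff]
    refine ⟨n₀, hn₀, fun b hb => ?_⟩
    have hbn : b * n₀ ∈ N := mul_mem hb hn₀
    have e1 : (b * n₀)⁻¹ * c * (b * n₀) = n₀⁻¹ * (b⁻¹ * c * b) * n₀ := by group
    rw [hmemK b hb, hmemK (b * n₀) hbn, e1]
    by_cases hbc : b⁻¹ * c * b = c
    · have h9 : ¬ n₀⁻¹ * (b⁻¹ * c * b) * n₀ = c := by rw [hbc]; exact hcon
      exact Or.inr ⟨hbc, h9⟩
    · have hbc' : b⁻¹ * c * b = c' := (hX b hb c (Or.inl rfl)).resolve_left hbc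
      have h9 : n₀⁻¹ * (b⁻¹ * c * b) * n₀ = c := ?_
      · exact Or.inl ⟨h9, hbc⟩
      rw [hbc']
      rcases hX n₀ hn₀ c' (Or.inr rfl) with h | h
      · exact h
      · exfalso
        have : n₀⁻¹ * c' * n₀ = n₀⁻¹ * c * n₀ := by rw [h, hn₀c]
        have : c' = c := by
          have h3 := congrArg (fun x => n₀ * x * n₀⁻¹) this
          simpa [mul_assoc] using h3
        exact hne this.symm
  have h3 : K.relIndex N ∣ H.relIndex N := Subgroup.relIndex_dvd_of_le_left N hHK
  have h4 : H.relIndex N ∣ H.index := Subgroup.relIndex_dvd_index_of_le Subgroup.le_normalizer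
  rw [h2] at h3
  have : 2 ∣ H.index := h3.trans h4
  rcases hodd with ⟨k, hk⟩
  omega

theorem result {G : Type*} [Group G] [Finite G] (S : Sylow 2 G) (hS : Nonempty (↥(S : Subgroup G) ≃* Multiplicative (ZMod 2) × DihedralGroup 4))
    [IsSimpleGroup G] (hG : ¬ IsMulCommutative G) : False := by
  obtain ⟨e⟩ := hS
  have : Fact (Nat.Prime 2) := ⟨Nat.prime_two⟩
  have hodd : Odd (S : Subgroup G).index := by
    rw [← Nat.not_even_iff_odd, even_iff_two_dvd]
    exact S.not_dvd_index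
  let m₁ : MM := (Multiplicative.ofAdd 1, 1)
  let m₂ : MM := (Multiplicative.ofAdd 1, DihedralGroup.r 2)
  let ϕ : (S : Subgroup G) →* Multiplicative (ZMod 2) :=
    (MonoidHom.fst (Multiplicative (ZMod 2)) (DihedralGroup 4)).comp e.toMonoidHom
  let c₀ : (S : Subgroup G) := e.symm m₁
  let c₁ : (S : Subgroup G) := e.symm m₂
  have hc₀ : e c₀ = m₁ := e.apply_symm_apply _
  have hc₁ : e c₁ = m₂ := e.apply_symm_apply _
  have hϕc : ϕ c₀ ≠ 1 := by
    change (e c₀).1 ≠ 1
    rw [hc₀]; exact model_fst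
  have hcen₀ : ∀ s : (S : Subgroup G), s * c₀ = c₀ * s := by
    intro s; apply e.injective; rw [map_mul, map_mul, hc₀]
    exact ((model_facts m₁).mpr (Or.inl rfl)).1 (e s)
  have hc2 : c₀ * c₀ = 1 := by
    apply e.injective; rw [map_mul, hc₀, map_one]; exact model_sq
  have hne : (c₀ : G) ≠ (c₁ : G) := by
    intro h
    have : c₀ = c₁ := Subtype.ext h
    have := congrArg e this
    rw [hc₀, hc₁] at this
    exact model_ne this
  have hX : ∀ u : (S : Subgroup G), (∀ s : (S : Subgroup G), s * u = u * s) →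
      (¬ ∃ v : (S : Subgroup G), v * v = u) → u = c₀ ∨ u = c₁ := by
    intro u h1 h2
    have h3 : (∀ g : MM, g * e u = e u * g) ∧ ¬ ∃ v : MM, v * v = e u := by
      constructor
      · intro g
        have := h1 (e.symm g)
        have := congrArg e this
        simpa using this
      · rintro ⟨v, hv⟩
        apply h2
        refine ⟨e.symm v, ?_⟩
        apply e.injective
        simpa using hv
    rcases (model_facts (e u)).mp h3 with h | h
    · left; apply e.injective; rw [hc₀]; exact h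
    · right; apply e.injective; rw [hc₁]; exact h
  have hprop : ∀ u : (S : Subgroup G), (u = c₀ ∨ u = c₁) →
      (∀ s : (S : Subgroup G), s * u = u * s) ∧ (¬ ∃ v : (S : Subgroup G), v * v = u) := by
    intro u hu
    have h3 : (∀ g : MM, g * e u = e u * g) ∧ ¬ ∃ v : MM, v * v = e u := by
      apply (model_facts (e u)).mpr
      rcases hu with h | h
      · left; rw [h, hc₀]
      · right; rw [h, hc₁]
    constructor
    · intro s
      apply e.injective
      rw [map_mul, map_mul]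
      exact h3.1 (e s)
    · rintro ⟨v, hv⟩
      apply h3.2
      exact ⟨e v, by rw [← map_mul, hv]⟩
  have hXN : ∀ n ∈ Subgroup.normalizer ((S : Subgroup G) : Set G), ∀ u : G, (u = (c₀ : G) ∨ u = (c₁ : G)) →
      (n⁻¹ * u * n = (c₀ : G) ∨ n⁻¹ * u * n = (c₁ : G)) := by
    intro n hn u hu
    have hnS : ∀ x : G, x ∈ (S : Subgroup G) ↔ n⁻¹ * x * n ∈ (S : Subgroup G) :=
      Subgroup.mem_normalizer_iff''.mp hn
    have hnS' : ∀ x : G, x ∈ (S : Subgroup G) ↔ n * x * n⁻¹ ∈ (S : Subgroup G) :=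
      Subgroup.mem_normalizer_iff.mp hn
    obtain ⟨u₀, hu₀, hu₀'⟩ : ∃ u₀ : (S : Subgroup G), (u₀ : G) = u ∧ (u₀ = c₀ ∨ u₀ = c₁) := by
      rcases hu with h | h
      · exact ⟨c₀, h.symm, Or.inl rfl⟩
      · exact ⟨c₁, h.symm, Or.inr rfl⟩
    obtain ⟨hp1, hp2⟩ := hprop u₀ hu₀'
    have hmem : n⁻¹ * u * n ∈ (S : Subgroup G) := by
      rw [← hu₀]; exact (hnS _).mp u₀.2
    have := hX ⟨n⁻¹ * u * n, hmem⟩ ?_ ?_
    · rcases this with h | h
      · left; exact congrArg Subtype.val h
      · right; exact congrArg Subtype.val h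
    · intro s
      apply Subtype.ext
      have h5 := congrArg Subtype.val (hp1 ⟨n * s * n⁻¹, (hnS' _).mp s.2⟩)
      simp only [Subgroup.coe_mul] at h5 ⊢
      rw [hu₀] at h5
      have : (s : G) * (n⁻¹ * u * n) = n⁻¹ * (n * s * n⁻¹ * u) * n := by group
      rw [this, h5]; group
    · rintro ⟨v, hv⟩
      apply hp2
      refine ⟨⟨n * v * n⁻¹, (hnS' _).mp v.2⟩, ?_⟩
      apply Subtype.ext
      have h5 := congrArg Subtype.val hv
      simp only [Subgroup.coe_mul] at h5 ⊢
      rw [hu₀]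
      have : n * v * n⁻¹ * (n * v * n⁻¹) = n * ((v : G) * v) * n⁻¹ := by group
      rw [this, h5]; group
  have hcenG : ∀ s ∈ (S : Subgroup G), s * (c₀ : G) = (c₀ : G) * s := by
    intro s hs
    exact congrArg Subtype.val (hcen₀ ⟨s, hs⟩)
  have hN := normalizer_centralizes (S : Subgroup G) hodd (c₀ : G) (c₁ : G) c₀.2 hne hcenG hXN
  have hc2G : (c₀ : G) * (c₀ : G) = 1 := congrArg Subtype.val hc2
  have htr := transfer_ne_one (S : Subgroup G) S.2 hodd ϕ (c₀ : G) c₀.2 hc2G hcenG hN hϕc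
  -- simple group
  have hker : (MonoidHom.transfer ϕ).ker.Normal := inferInstance
  rcases hker.eq_bot_or_eq_top with h | h
  · apply hG
    have hinj : Function.Injective (MonoidHom.transfer ϕ) := (MonoidHom.ker_eq_bot_iff _).mp h
    refine ⟨⟨fun a b => ?_⟩⟩
    apply hinj
    rw [map_mul, map_mul, mul_comm]
  · apply htr
    have : (c₀ : G) ∈ (MonoidHom.transfer ϕ).ker := by rw [h]; exact Subgroup.mem_top _
    exact MonoidHom.mem_ker.mp this

end Cfsg.Agent.S3309
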