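import Cfsg.Statements.S2911
import Mathlib
import Cfsg.Agent.S3309

set_option autoImplicit false
open Cfsg

namespace Cfsg.Agent.S2911

open Cfsg.Agent.S3309

theorem z2_top : ∀ a : Multiplicative (ZMod 2), a ≠ 1 → ∀ b : Multiplicative (ZMod 2), b = 1 ∨ b = a := by
  decide

theorem index_ker_eq_two {G : Type*} [Group G] (f : G →* Multiplicative (ZMod 2)) (c : G)
    (hc : f c ≠ 1) : f.ker.index = 2 := by
  rw [Subgroup.index_eq_two_iff]
  refine ⟨c, fun b => ?_⟩
  rw [MonoidHom.mem_ker, MonoidHom.mem_ker, map_mul]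
  rcases z2_top (f c) hc (f b) with h | h
  · right
    refine ⟨h, ?_⟩
    rw [h, one_mul]; exact hc
  · left
    refine ⟨?_, ?_⟩
    · rw [h]; exact Cfsg.Agent.S3309.z2_sq (f c)
    · rw [h]; exact hc

/-- A finite group whose Sylow 2-subgroups are isomorphic to the direct product of a group of order 2 and a dihedral group of order 8 has a subgroup of index two. -/
theorem result {G : Type*} [Group G] [Finite G] (S : Sylow 2 G) (hS : Nonempty (↥(S : Subgroup G) ≃* Multiplicative (ZMod 2) × DihedralGroup 4)) : ∃ H : Subgroup G, H.index = 2 := by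
  obtain ⟨e⟩ := hS
  have : Fact (Nat.Prime 2) := ⟨Nat.prime_two⟩
  have hodd : Odd (S : Subgroup G).index := by
    rw [← Nat.not_even_iff_odd, even_iff_two_dvd]
    exact S.not_dvd_index
  let m₁ : MM := (Multiplicative.ofAdd 1, 1)
  let m₂ : MM := (Multiplicative.ofAdd 1, DihedralGroup.r 2)
  let ϕ : (S : Subgroup G) →* Multiplicative (ZMod 2) :=
    (MonoidHom.fst (Multiplicative (ZMod 2)) (DihedralGroup 4)).comp e.toMonoidHom
  let c₀ : (S : Subgroup G) := e.symm m₁
  let c₁ : (S : Subgroup G) := e.symm m₂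
  have hc₀ : e c₀ = m₁ := e.apply_symm_apply _
  have hc₁ : e c₁ = m₂ := e.apply_symm_apply _
  have hϕc : ϕ c₀ ≠ 1 := by
    change (e c₀).1 ≠ 1
    rw [hc₀]; exact model_fst
  have hcen₀ : ∀ s : (S : Subgroup G), s * c₀ = c₀ * s := by
    intro s; apply e.injective; rw [map_mul, map_mul, hc₀]
    exact ((model_facts m₁).mpr (Or.inl rfl)).1 (e s)
  have hc2 : c₀ * c₀ = 1 := by
    apply e.injective; rw [map_mul, hc₀, map_one]; exact model_sq
  have hne : (c₀ : G) ≠ (c₁ : G) := by
    intro h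
    have : c₀ = c₁ := Subtype.ext h
    have := congrArg e this
    rw [hc₀, hc₁] at this
    exact model_ne this
  have hX : ∀ u : (S : Subgroup G), (∀ s : (S : Subgroup G), s * u = u * s) →
      (¬ ∃ v : (S : Subgroup G), v * v = u) → u = c₀ ∨ u = c₁ := by
    intro u h1 h2
    have h3 : (∀ g : MM, g * e u = e u * g) ∧ ¬ ∃ v : MM, v * v = e u := by
      constructor
      · intro g
        have := h1 (e.symm g)
        have := congrArg e this
        simpa using this
      · rintro ⟨v, hv⟩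
        apply h2
        refine ⟨e.symm v, ?_⟩
        apply e.injective
        simpa using hv
    rcases (model_facts (e u)).mp h3 with h | h
    · left; apply e.injective; rw [hc₀]; exact h
    · right; apply e.injective; rw [hc₁]; exact h
  have hprop : ∀ u : (S : Subgroup G), (u = c₀ ∨ u = c₁) →
      (∀ s : (S : Subgroup G), s * u = u * s) ∧ (¬ ∃ v : (S : Subgroup G), v * v = u) := by
    intro u hu
    have h3 : (∀ g : MM, g * e u = e u * g) ∧ ¬ ∃ v : MM, v * v = e u := by
      apply (model_facts (e u)).mpr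
      rcases hu with h | h
      · left; rw [h, hc₀]
      · right; rw [h, hc₁]
    constructor
    · intro s
      apply e.injective
      rw [map_mul, map_mul]
      exact h3.1 (e s)
    · rintro ⟨v, hv⟩
      apply h3.2
      exact ⟨e v, by rw [← map_mul, hv]⟩
  have hXN : ∀ n ∈ Subgroup.normalizer ((S : Subgroup G) : Set G), ∀ u : G, (u = (c₀ : G) ∨ u = (c₁ : G)) →
      (n⁻¹ * u * n = (c₀ : G) ∨ n⁻¹ * u * n = (c₁ : G)) := by
    intro n hn u hu
    have hnS : ∀ x : G, x ∈ (S : Subgroup G) ↔ n⁻¹ * x * n ∈ (S : Subgroup G) :=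
      Subgroup.mem_normalizer_iff''.mp hn
    have hnS' : ∀ x : G, x ∈ (S : Subgroup G) ↔ n * x * n⁻¹ ∈ (S : Subgroup G) :=
      Subgroup.mem_normalizer_iff.mp hn
    obtain ⟨u₀, hu₀, hu₀'⟩ : ∃ u₀ : (S : Subgroup G), (u₀ : G) = u ∧ (u₀ = c₀ ∨ u₀ = c₁) := by
      rcases hu with h | h
      · exact ⟨c₀, h.symm, Or.inl rfl⟩
      · exact ⟨c₁, h.symm, Or.inr rfl⟩
    obtain ⟨hp1, hp2⟩ := hprop u₀ hu₀'
    have hmem : n⁻¹ * u * n ∈ (S : Subgroup G) := by
      rw [← hu₀]; exact (hnS _).mp u₀.2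
    have := hX ⟨n⁻¹ * u * n, hmem⟩ ?_ ?_
    · rcases this with h | h
      · left; exact congrArg Subtype.val h
      · right; exact congrArg Subtype.val h
    · intro s
      apply Subtype.ext
      have h5 := congrArg Subtype.val (hp1 ⟨n * s * n⁻¹, (hnS' _).mp s.2⟩)
      simp only [Subgroup.coe_mul] at h5 ⊢
      rw [hu₀] at h5
      have : (s : G) * (n⁻¹ * u * n) = n⁻¹ * (n * s * n⁻¹ * u) * n := by group
      rw [this, h5]; group
    · rintro ⟨v, hv⟩
      apply hp2
      refine ⟨⟨n * v * n⁻¹, (hnS' _).mp v.2⟩, ?_⟩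
      apply Subtype.ext
      have h5 := congrArg Subtype.val hv
      simp only [Subgroup.coe_mul] at h5 ⊢
      rw [hu₀]
      have : n * v * n⁻¹ * (n * v * n⁻¹) = n * ((v : G) * v) * n⁻¹ := by group
      rw [this, h5]; group
  have hcenG : ∀ s ∈ (S : Subgroup G), s * (c₀ : G) = (c₀ : G) * s := by
    intro s hs
    exact congrArg Subtype.val (hcen₀ ⟨s, hs⟩)
  have hN := normalizer_centralizes (S : Subgroup G) hodd (c₀ : G) (c₁ : G) c₀.2 hne hcenG hXN
  have hc2G : (c₀ : G) * (c₀ : G) = 1 := congrArg Subtype.val hc2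
  have htr := transfer_ne_one (S : Subgroup G) S.2 hodd ϕ (c₀ : G) c₀.2 hc2G hcenG hN hϕc
  exact ⟨(MonoidHom.transfer ϕ).ker, index_ker_eq_two _ _ htr⟩

end Cfsg.Agent.S2911
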