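import Cfsg.Statements.S2912
import Mathlib
import Cfsg.Agent.S2880

set_option autoImplicit false
open Cfsg

namespace Cfsg.Agent.S2912

section abstract

variable {H V : Type*} [Group H] [CommGroup V] [MulDistribMulAction H V]

/-- The "norm" of `v` under the cyclic group generated by `g` (of order dividing `p`). -/
def nrm (p : ℕ) (g : H) (v : V) : V := ∏ k ∈ Finset.range p, g ^ k • v

theorem nrm_mul (p : ℕ) (g : H) (v w : V) : nrm p g (v * w) = nrm p g v * nrm p g w := by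
  simp only [nrm, smul_mul', Finset.prod_mul_distrib]

theorem nrm_prod {ι : Type*} (p : ℕ) (g : H) (s : Finset ι) (f : ι → V) :
    nrm p g (∏ i ∈ s, f i) = ∏ i ∈ s, nrm p g (f i) := by
  simp only [nrm, Finset.smul_prod']
  exact Finset.prod_comm

theorem nrm_smul_self {p : ℕ} {g : H} (hg : g ^ p = 1) (v : V) : g • nrm p g v = nrm p g v := by
  have h1 : g • nrm p g v = ∏ k ∈ Finset.range p, g ^ (k + 1) • v := by
    simp only [nrm, Finset.smul_prod', smul_smul, pow_succ']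
  have h2 := Finset.prod_range_succ' (fun k => g ^ k • v) p
  have h3 := Finset.prod_range_succ (fun k => g ^ k • v) p
  rw [h1]
  rw [h3, hg, pow_zero] at h2
  exact (mul_right_cancel h2).symm

theorem nrm_of_fixed (p : ℕ) {g : H} {v : V} (h : g • v = v) : nrm p g v = v ^ p := by
  have : ∀ k : ℕ, g ^ k • v = v := by
    intro k
    induction k with
    | zero => simp
    | succ k ih => rw [pow_succ, mul_smul, h, ih]
  simp [nrm, this]

theorem nrm_smul_comm (p : ℕ) {g h : H} (hc : h * g = g * h) (v : V) :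
    h • nrm p g v = nrm p g (h • v) := by
  have : ∀ k : ℕ, h * g ^ k = g ^ k * h := fun k => (Commute.pow_right hc k).eq
  simp only [nrm, Finset.smul_prod', smul_smul, this]

theorem nrm_mem (p : ℕ) {g : H} {U : Subgroup V} (hg : ∀ u ∈ U, g • u ∈ U) {v : V} (hv : v ∈ U) :
    nrm p g v ∈ U := by
  have : ∀ k : ℕ, g ^ k • v ∈ U := by
    intro k
    induction k with
    | zero => simpa using hv
    | succ k ih => rw [pow_succ', mul_smul]; exact hg _ ih
  exact Subgroup.prod_mem U (fun k _ => this k)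

theorem key_identity (p : ℕ) (hp : 0 < p) {x c : H} (hxc : x * c = c * x) (u : V)
    (h1 : ∀ k, 1 ≤ k → k < p → nrm p (c ^ k) u = 1) :
    ∏ i ∈ Finset.range p, nrm p (x * c ^ i) u = u ^ p := by
  have e1 : ∀ i k : ℕ, (x * c ^ i) ^ k • u = x ^ k • ((c ^ k) ^ i • u) := by
    intro i k
    have : Commute x (c ^ i) := Commute.pow_right hxc i
    rw [this.mul_pow, mul_smul, ← pow_mul, ← pow_mul, mul_comm i k]
  have e2 : ∏ i ∈ Finset.range p, nrm p (x * c ^ i) u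
      = ∏ k ∈ Finset.range p, x ^ k • nrm p (c ^ k) u := by
    simp only [nrm, e1, Finset.smul_prod']
    exact Finset.prod_comm
  rw [e2]
  obtain ⟨q, rfl⟩ : ∃ q, p = q + 1 := ⟨p - 1, by omega⟩
  rw [Finset.prod_range_succ', Finset.prod_eq_one]
  · simp [nrm]
  · intro k hk
    rw [h1 (k + 1) (by omega) (by simpa using hk), smul_one]

/-- The inductive hypotheses: `H₀` is "extraspecial-like" with centre `Z` of order `p`, acting on the
`r`-group `U` with `Z` acting fixed-point-freely. -/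
structure Hyp (p r : ℕ) (H₀ Z : Subgroup H) (U : Subgroup V) : Prop where
  Zle : Z ≤ H₀
  Zcard : Nat.card Z = p
  cen : ∀ g ∈ Z, ∀ h ∈ H₀, g * h = h * g
  cen' : ∀ g ∈ H₀, (∀ h ∈ H₀, g * h = h * g) → g ∈ Z
  comm : ∀ g ∈ H₀, ∀ h ∈ H₀, g * h * g⁻¹ * h⁻¹ ∈ Z
  pow : ∀ g ∈ H₀, g ^ p ∈ Z
  inv : ∀ h ∈ H₀, ∀ u ∈ U, h • u ∈ U
  fpf : ∀ t ∈ Z, t ≠ 1 → ∀ u ∈ U, t • u = u → u = 1
  exp : ∀ u ∈ U, u ^ r = 1

theorem Z_pow_eq_one {p : ℕ} {Z : Subgroup H} (hZ : Nat.card Z = p) {t : H} (ht : t ∈ Z) :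
    t ^ p = 1 := by
  have h := pow_card_eq_one' (G := ↥Z) (x := ⟨t, ht⟩)
  rw [hZ] at h
  simpa using congrArg Subtype.val h

theorem Z_orderOf {p : ℕ} [Fact p.Prime] {Z : Subgroup H} (hZ : Nat.card Z = p) {t : H}
    (ht : t ∈ Z) (ht1 : t ≠ 1) : orderOf t = p := by
  have h := orderOf_dvd_of_pow_eq_one (Z_pow_eq_one hZ ht)
  rcases (Nat.dvd_prime (Fact.out : p.Prime)).1 h with h1 | h1
  · exact absurd (orderOf_eq_one_iff.1 h1) ht1
  · exact h1

theorem Z_pow_ne_one {p : ℕ} [Fact p.Prime] {Z : Subgroup H} (hZ : Nat.card Z = p) {t : H}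
    (ht : t ∈ Z) (ht1 : t ≠ 1) {k : ℕ} (hk : 1 ≤ k) (hkp : k < p) : t ^ k ≠ 1 := by
  apply pow_ne_one_of_lt_orderOf (by omega)
  rw [Z_orderOf hZ ht ht1]; exact hkp

theorem Z_mem_powers {p : ℕ} [Fact p.Prime] {Z : Subgroup H} (hZ : Nat.card Z = p) {t : H}
    (ht : t ∈ Z) (ht1 : t ≠ 1) {s : H} (hs : s ∈ Z) : ∃ k : ℕ, t ^ k = s := by
  have h := mem_powers_of_prime_card (G := ↥Z) hZ (g := ⟨t, ht⟩) (g' := ⟨s, hs⟩)
    (by simpa [Subtype.ext_iff] using ht1)
  obtain ⟨k, hk⟩ := h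
  exact ⟨k, by simpa using congrArg Subtype.val hk⟩

theorem Z_exists_ne_one {p : ℕ} [Fact p.Prime] {Z : Subgroup H} (hZ : Nat.card Z = p) :
    ∃ t ∈ Z, t ≠ 1 := by
  by_contra hcon
  push Not at hcon
  have : Z = ⊥ := (Subgroup.eq_bot_iff_forall Z).2 hcon
  rw [this, Subgroup.card_bot] at hZ
  exact (Fact.out : p.Prime).one_lt.ne hZ

theorem torsion {p r : ℕ} [Fact p.Prime] [Fact r.Prime] (hpr : p ≠ r) {u : V}
    (h1 : u ^ p = 1) (h2 : u ^ r = 1) : u = 1 := by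
  have hcop : Nat.Coprime p r := (Nat.coprime_primes Fact.out Fact.out).2 hpr
  have := orderOf_dvd_of_pow_eq_one h1
  have h' := orderOf_dvd_of_pow_eq_one h2
  have : orderOf u ∣ 1 := by
    have := Nat.dvd_gcd this h'
    rwa [hcop.gcd_eq_one] at this
  exact orderOf_eq_one_iff.1 (Nat.dvd_one.1 this)

theorem card_pow {r : ℕ} [Fact r.Prime] [Finite V] {U : Subgroup V} (hexp : ∀ u ∈ U, u ^ r = 1) :
    ∃ d : ℕ, Nat.card U = r ^ d := by
  have hU : IsPGroup r U := fun u => ⟨1, by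
    apply Subtype.ext
    simpa using hexp u u.2⟩
  exact IsPGroup.iff_card.1 hU

theorem base {p r : ℕ} [Fact p.Prime] [Fact r.Prime] [Finite V] {H₀ Z : Subgroup H}
    {U : Subgroup V} (hy : Hyp p r H₀ Z U) (hU : U ≠ ⊥) (n : ℕ)
    (hmin : ∀ k : ℕ, 1 ≤ k → p ∣ r ^ k - 1 → n ≤ k) : r ^ n ≤ Nat.card U := by
  classical
  obtain ⟨d, hd⟩ := card_pow hy.exp
  have hr1 : 1 < r := (Fact.out : r.Prime).one_lt
  have hd1 : 1 ≤ d := by
    rcases Nat.eq_zero_or_pos d with h0 | h0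
    · exfalso
      rw [h0, pow_zero] at hd
      exact hU (Subgroup.card_eq_one.1 hd)
    · exact h0
  obtain ⟨t, ht, ht1⟩ := Z_exists_ne_one hy.Zcard
  let f : Function.End ↥U := fun u => ⟨t • u.1, hy.inv t (hy.Zle ht) u.1 u.2⟩
  have hfk : ∀ k : ℕ, ∀ u : ↥U, ((f ^ k) u : V) = t ^ k • (u : V) := by
    intro k
    induction k with
    | zero => intro u; rw [pow_zero, pow_zero, one_smul]; rfl
    | succ k ih =>
      intro u
      rw [pow_succ', Function.End.mul_def]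
      show t • ((f ^ k) u : V) = _
      rw [ih, smul_smul, ← pow_succ']
  have hf : f ^ p ^ 1 = 1 := by
    funext u
    apply Subtype.ext
    rw [pow_one, hfk, Z_pow_eq_one hy.Zcard ht, one_smul]
    rfl
  let _ : Fintype ↥U := Fintype.ofFinite _
  have h := Equiv.Perm.card_fixedPoints_modEq (p := p) hf
  have hfix : Fintype.card (Function.fixedPoints f) = 1 := by
    rw [Fintype.card_eq_one_iff]
    refine ⟨⟨1, ?_⟩, ?_⟩
    · show f 1 = 1
      apply Subtype.ext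
      show t • ((1 : ↥U) : V) = _
      simp
    · rintro ⟨u, hu⟩
      apply Subtype.ext
      apply Subtype.ext
      have : t • (u : V) = u := congrArg Subtype.val hu
      simpa using hy.fpf t ht ht1 u.1 u.2 this
  rw [hfix, ← Nat.card_eq_fintype_card, hd] at h
  have hdvd : p ∣ r ^ d - 1 := (Nat.modEq_iff_dvd' (Nat.one_le_pow _ _ (by omega))).1 h.symm
  have := hmin d hd1 hdvd
  rw [hd]
  exact Nat.pow_le_pow_right (by omega) this

/-- Index bound from a "homomorphism on `H₀`" with values in `Z`. -/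
theorem index_bound [Finite H] {H₀ Z K : Subgroup H} (f : H → H) (hfZ : ∀ a ∈ H₀, f a ∈ Z)
    (hmul : ∀ a ∈ H₀, ∀ b ∈ H₀, f (a * b) = f a * f b) (hK : ∀ a ∈ H₀, f a = 1 → a ∈ K) :
    Nat.card H₀ ≤ Nat.card Z * Nat.card K := by
  let φ : ↥H₀ →* ↥Z := MonoidHom.mk' (fun a => ⟨f a.1, hfZ a.1 a.2⟩) (by
    intro a b
    apply Subtype.ext
    exact hmul a.1 a.2 b.1 b.2)
  have h1 : Nat.card φ.ker * φ.ker.index = Nat.card ↥H₀ := Subgroup.card_mul_index φ.ker
  have h2 : φ.ker.index = Nat.card φ.range := Subgroup.index_ker φ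
  have h3 : Nat.card φ.range ≤ Nat.card ↥Z := Subgroup.card_le_card_group _
  have h4 : Nat.card φ.ker ≤ Nat.card ↥K := by
    refine Nat.card_le_card_of_injective
      (fun k => (⟨k.1.1, hK k.1.1 k.1.2 ?_⟩ : ↥K)) ?_
    · have := k.2
      rw [MonoidHom.mem_ker] at this
      exact congrArg Subtype.val this
    · intro a b hab
      apply Subtype.ext
      apply Subtype.ext
      exact congrArg (fun k : ↥K => (k : H)) hab
  calc Nat.card ↥H₀ = Nat.card φ.ker * φ.ker.index := h1.symm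
    _ ≤ Nat.card ↥K * Nat.card ↥Z := by rw [h2]; exact Nat.mul_le_mul h4 h3
    _ = Nat.card ↥Z * Nat.card ↥K := Nat.mul_comm _ _

theorem pow_mul_comm_class2 {a b d : H} (hba : b * a = d * a * b)
    (hdb : d * b = b * d) (k : ℕ) : b ^ k * a = d ^ k * a * b ^ k := by
  induction k with
  | zero => simp
  | succ k ih =>
    have hdk : b * d ^ k = d ^ k * b := ((Commute.pow_left hdb k).eq).symm
    calc b ^ (k + 1) * a = b * (b ^ k * a) := by rw [pow_succ', mul_assoc]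
      _ = b * (d ^ k * a * b ^ k) := by rw [ih]
      _ = (b * d ^ k) * a * b ^ k := by simp only [mul_assoc]
      _ = d ^ k * (b * a) * b ^ k := by rw [hdk]; simp only [mul_assoc]
      _ = d ^ k * (d * a * b) * b ^ k := by rw [hba]
      _ = d ^ (k + 1) * a * b ^ (k + 1) := by
        rw [pow_succ, pow_succ']; simp only [mul_assoc]

theorem mul_pow_class2 {a b d : H} (hba : b * a = d * a * b) (hda : d * a = a * d)
    (hdb : d * b = b * d) (k : ℕ) : (a * b) ^ k = d ^ (k.choose 2) * a ^ k * b ^ k := by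
  induction k with
  | zero => simp
  | succ k ih =>
    have hdk : a ^ k * d ^ k = d ^ k * a ^ k :=
      ((Commute.pow_pow hda k k).eq).symm
    have hch : (k + 1).choose 2 = k.choose 2 + k := by
      have h := Nat.choose_succ_succ' k 1
      rw [Nat.choose_one_right] at h
      rw [show (2 : ℕ) = 1 + 1 from rfl, h, Nat.add_comm]
    calc (a * b) ^ (k + 1) = (a * b) ^ k * (a * b) := pow_succ _ _
      _ = d ^ (k.choose 2) * a ^ k * b ^ k * (a * b) := by rw [ih]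
      _ = d ^ (k.choose 2) * a ^ k * (b ^ k * a) * b := by simp only [mul_assoc]
      _ = d ^ (k.choose 2) * a ^ k * (d ^ k * a * b ^ k) * b := by
        rw [pow_mul_comm_class2 hba hdb]
      _ = d ^ (k.choose 2) * (a ^ k * d ^ k) * a * b ^ k * b := by simp only [mul_assoc]
      _ = d ^ (k.choose 2) * (d ^ k * a ^ k) * a * b ^ k * b := by rw [hdk]
      _ = d ^ ((k + 1).choose 2) * a ^ (k + 1) * b ^ (k + 1) := by
        rw [hch, pow_add, pow_succ, pow_succ]; simp only [mul_assoc]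

theorem comm_mul {p r : ℕ} {H₀ Z : Subgroup H} {U : Subgroup V} (hy : Hyp p r H₀ Z U) {x : H}
    (hx : x ∈ H₀) {a b : H} (ha : a ∈ H₀) (hb : b ∈ H₀) :
    (a * b) * x * (a * b)⁻¹ * x⁻¹ = (a * x * a⁻¹ * x⁻¹) * (b * x * b⁻¹ * x⁻¹) := by
  have hb' := hy.comm b hb x hx
  have ha' := hy.comm a ha x hx
  have h1 : (b * x * b⁻¹ * x⁻¹) * a = a * (b * x * b⁻¹ * x⁻¹) := hy.cen _ hb' a ha
  have h2 : (b * x * b⁻¹ * x⁻¹) * (a * x * a⁻¹ * x⁻¹)
      = (a * x * a⁻¹ * x⁻¹) * (b * x * b⁻¹ * x⁻¹) := hy.cen _ hb' _ (hy.Zle ha')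
  calc (a * b) * x * (a * b)⁻¹ * x⁻¹ = a * (b * x * b⁻¹ * x⁻¹) * (x * a⁻¹ * x⁻¹) := by
        simp only [mul_inv_rev, mul_assoc, inv_mul_cancel_left]
    _ = (b * x * b⁻¹ * x⁻¹) * a * (x * a⁻¹ * x⁻¹) := by rw [← h1]
    _ = (b * x * b⁻¹ * x⁻¹) * (a * x * a⁻¹ * x⁻¹) := by simp only [mul_assoc]
    _ = _ := h2

theorem exists_x_odd [Finite H] {p r : ℕ} [Fact p.Prime] {H₀ Z : Subgroup H} {U : Subgroup V}
    (hy : Hyp p r H₀ Z U) (hp2 : p ≠ 2) (hcard : p ^ 3 ≤ Nat.card H₀) :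
    ∃ x ∈ H₀, x ∉ Z ∧ x ^ p = 1 := by
  have hp : p.Prime := Fact.out
  by_contra hcon
  push Not at hcon
  have hb := index_bound (H₀ := H₀) (Z := Z) (K := Z) (fun a => a ^ p) (fun a ha => hy.pow a ha)
    (by
      intro a ha b hb
      have hd := hy.comm b hb a ha
      have h1 := mul_pow_class2 (a := a) (b := b) (d := b * a * b⁻¹ * a⁻¹)
        (by simp only [mul_assoc, inv_mul_cancel, mul_one])
        (hy.cen _ hd a ha) (hy.cen _ hd b hb) p
      have h2 : p ∣ p.choose 2 := hp.dvd_choose_self (by norm_num)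
        (lt_of_le_of_ne hp.two_le (Ne.symm hp2))
      obtain ⟨m, hm⟩ := h2
      show (a * b) ^ p = a ^ p * b ^ p
      rw [h1, hm, pow_mul, Z_pow_eq_one hy.Zcard hd, one_pow, one_mul])
    (by
      intro a ha h1
      by_contra h2
      exact hcon a ha h2 h1)
  rw [hy.Zcard] at hb
  have : p ^ 3 = p * p * p := by ring
  have h2 := hp.two_le
  nlinarith [Nat.mul_le_mul_left p h2]

theorem exists_x_big [Finite H] {p r : ℕ} [Fact p.Prime] {H₀ Z : Subgroup H} {U : Subgroup V}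
    (hy : Hyp p r H₀ Z U) (hcard : p ^ 5 ≤ Nat.card H₀) :
    ∃ x ∈ H₀, x ∉ Z ∧ x ^ p = 1 := by
  have hp : p.Prime := Fact.out
  have hp2 := hp.two_le
  have hpp : p ^ 2 * p < p ^ 5 := by
    have : p ^ 5 = p ^ 2 * p * (p * p) := by ring
    rw [this]
    have h4 : 2 * 2 ≤ p * p := Nat.mul_le_mul hp2 hp2
    have hpos : 0 < p ^ 2 * p := by positivity
    nlinarith
  have hp1 : p < p ^ 5 := by
    have : p ≤ p ^ 2 * p := Nat.le_mul_of_pos_left _ (by positivity)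
    omega
  obtain ⟨g, hg, hgZ⟩ : ∃ g ∈ H₀, g ∉ Z := by
    by_contra hcon
    push Not at hcon
    have : Nat.card H₀ ≤ Nat.card Z := Subgroup.card_le_of_le hcon
    rw [hy.Zcard] at this
    omega
  by_cases hgp : g ^ p = 1
  · exact ⟨g, hg, hgZ, hgp⟩
  have htZ : g ^ p ∈ Z := hy.pow g hg
  have hb := index_bound (H₀ := H₀) (Z := Z) (K := H₀ ⊓ Subgroup.centralizer {g})
    (fun a => a * g * a⁻¹ * g⁻¹) (fun a ha => hy.comm a ha g hg)
    (fun a ha b hb => comm_mul hy hg ha hb)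
    (by
      intro a ha h1
      refine Subgroup.mem_inf.2 ⟨ha, Subgroup.mem_centralizer_singleton_iff.2 ?_⟩
      have h1' : a * g * a⁻¹ * g⁻¹ = 1 := h1
      have : a * g = g * a := by
        have h2 := congrArg (fun t => t * g * a) h1'
        simpa [mul_assoc] using h2
      exact this)
  rw [hy.Zcard] at hb
  have hord : Nat.card (Subgroup.zpowers g) ≤ p ^ 2 := by
    rw [Nat.card_zpowers]
    apply Nat.le_of_dvd (by positivity)
    apply orderOf_dvd_of_pow_eq_one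
    rw [pow_two, pow_mul, Z_pow_eq_one hy.Zcard htZ]
  obtain ⟨u, hu, hug⟩ : ∃ u ∈ H₀ ⊓ Subgroup.centralizer {g}, u ∉ Subgroup.zpowers g := by
    by_contra hcon
    push Not at hcon
    have h1 : Nat.card ↥(H₀ ⊓ Subgroup.centralizer {g}) ≤ Nat.card (Subgroup.zpowers g) :=
      Subgroup.card_le_of_le hcon
    have h2 : Nat.card ↥(H₀ ⊓ Subgroup.centralizer {g}) ≤ p ^ 2 := h1.trans hord
    have h3 : p * Nat.card ↥(H₀ ⊓ Subgroup.centralizer {g}) ≤ p * p ^ 2 :=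
      Nat.mul_le_mul_left p h2
    have : p * p ^ 2 = p ^ 2 * p := Nat.mul_comm _ _
    omega
  obtain ⟨huH, huc⟩ := Subgroup.mem_inf.1 hu
  have hgu : g * u = u * g := (Subgroup.mem_centralizer_singleton_iff.1 huc).symm
  obtain ⟨m, hm⟩ := Z_mem_powers hy.Zcard htZ hgp (Z.inv_mem (hy.pow u huH))
  refine ⟨g ^ m * u, H₀.mul_mem (H₀.pow_mem hg m) huH, ?_, ?_⟩
  · intro hZ
    obtain ⟨j, hj⟩ := Z_mem_powers hy.Zcard htZ hgp hZ
    apply hug
    have : u = (g ^ m)⁻¹ * (g ^ p) ^ j := by rw [hj]; simp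
    rw [this]
    exact (Subgroup.zpowers g).mul_mem ((Subgroup.zpowers g).inv_mem
      (Subgroup.pow_mem _ (Subgroup.mem_zpowers g) m))
      (Subgroup.pow_mem _ (Subgroup.pow_mem _ (Subgroup.mem_zpowers g) p) j)
  · have hc : Commute (g ^ m) u := Commute.pow_left hgu m
    rw [hc.mul_pow, ← pow_mul, mul_comm m p, pow_mul, hm]
    simp

theorem exists_x [Finite H] {p r : ℕ} [Fact p.Prime] {H₀ Z : Subgroup H} {U : Subgroup V}
    (hy : Hyp p r H₀ Z U) (hcard : (p ≠ 2 ∧ p ^ 3 ≤ Nat.card H₀) ∨ p ^ 5 ≤ Nat.card H₀) :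
    ∃ x ∈ H₀, x ∉ Z ∧ x ^ p = 1 := by
  rcases hcard with ⟨h1, h2⟩ | h
  · exact exists_x_odd hy h1 h2
  · exact exists_x_big hy h

theorem exists_x_fixed {p r : ℕ} [Fact p.Prime] [Fact r.Prime] (hpr : p ≠ r) {H₀ Z : Subgroup H}
    {U : Subgroup V} (hy : Hyp p r H₀ Z U) (hU : U ≠ ⊥) {x : H} (hx : x ∈ H₀) (hxZ : x ∉ Z)
    (hxp : x ^ p = 1) :
    ∃ x' ∈ H₀, x' ∉ Z ∧ x' ^ p = 1 ∧ ∃ u ∈ U, u ≠ 1 ∧ x' • u = u := by
  have hp : p.Prime := Fact.out
  obtain ⟨c, hc, hc1⟩ := Z_exists_ne_one hy.Zcard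
  obtain ⟨u₀, hu₀, hu₀1⟩ : ∃ u ∈ U, u ≠ 1 := by
    by_contra hcon
    push Not at hcon
    exact hU ((Subgroup.eq_bot_iff_forall U).2 hcon)
  have hxc : x * c = c * x := (hy.cen c hc x hx).symm
  have h1 : ∀ k, 1 ≤ k → k < p → nrm p (c ^ k) u₀ = 1 := by
    intro k hk hkp
    have hckZ : c ^ k ∈ Z := Z.pow_mem hc k
    apply hy.fpf (c ^ k) hckZ (Z_pow_ne_one hy.Zcard hc hc1 hk hkp)
    · exact nrm_mem p (hy.inv _ (hy.Zle hckZ)) hu₀
    · exact nrm_smul_self (Z_pow_eq_one hy.Zcard hckZ) u₀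
  have hkey := key_identity p hp.pos hxc u₀ h1
  have hne : u₀ ^ p ≠ 1 := fun h => hu₀1 (torsion hpr h (hy.exp u₀ hu₀))
  obtain ⟨i, -, hi⟩ : ∃ i ∈ Finset.range p, nrm p (x * c ^ i) u₀ ≠ 1 := by
    by_contra hcon
    push Not at hcon
    rw [Finset.prod_eq_one hcon] at hkey
    exact hne hkey.symm
  have hciZ : c ^ i ∈ Z := Z.pow_mem hc i
  have hx' : x * c ^ i ∈ H₀ := H₀.mul_mem hx (hy.Zle hciZ)
  have hx'p : (x * c ^ i) ^ p = 1 := by
    have : Commute x (c ^ i) := Commute.pow_right hxc i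
    rw [this.mul_pow, hxp, Z_pow_eq_one hy.Zcard hciZ, one_mul]
  refine ⟨x * c ^ i, hx', ?_, hx'p, nrm p (x * c ^ i) u₀, nrm_mem p (hy.inv _ hx') hu₀, hi,
    nrm_smul_self hx'p u₀⟩
  intro hZ
  apply hxZ
  have : x = (x * c ^ i) * (c ^ i)⁻¹ := by simp
  rw [this]
  exact Z.mul_mem hZ (Z.inv_mem hciZ)

theorem card_ge_sq {p r : ℕ} [Fact p.Prime] [Fact r.Prime] [Finite V] {H₀ Z : Subgroup H}
    {U : Subgroup V} (hy : Hyp p r H₀ Z U) (hU : U ≠ ⊥) {g : H} (hg : g ∈ H₀) (hgZ : g ∉ Z) :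
    r ^ 2 ≤ Nat.card U := by
  have hr : r.Prime := Fact.out
  obtain ⟨d, hd⟩ := card_pow hy.exp
  rcases Nat.lt_or_ge d 2 with hd2 | hd2
  swap
  · rw [hd]; exact Nat.pow_le_pow_right hr.pos hd2
  exfalso
  have hd1 : d = 1 := by
    rcases Nat.eq_zero_or_pos d with h0 | h0
    · exfalso
      rw [h0, pow_zero] at hd
      exact hU (Subgroup.card_eq_one.1 hd)
    · omega
  rw [hd1, pow_one] at hd
  have hcyc : IsCyclic ↥U := isCyclic_of_prime_card hd
  obtain ⟨v, hv⟩ := IsCyclic.exists_generator (α := ↥U)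
  have hv1 : (v : V) ≠ 1 := by
    intro h
    apply hU
    rw [Subgroup.eq_bot_iff_forall]
    intro x hx
    obtain ⟨k, hk⟩ := Subgroup.mem_zpowers_iff.1 (hv ⟨x, hx⟩)
    have := congrArg Subtype.val hk
    simp only [Subgroup.coe_zpow, h, one_zpow] at this
    exact this.symm
  have hpw : ∀ e ∈ H₀, ∃ k : ℤ, e • (v : V) = (v : V) ^ k := by
    intro e he
    obtain ⟨k, hk⟩ := Subgroup.mem_zpowers_iff.1 (hv ⟨e • (v : V), hy.inv e he v.1 v.2⟩)
    refine ⟨k, ?_⟩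
    have := congrArg Subtype.val hk
    simpa using this.symm
  have hcm : ∀ e₁ ∈ H₀, ∀ e₂ ∈ H₀, (e₁ * e₂) • (v : V) = (e₂ * e₁) • (v : V) := by
    intro e₁ h₁ e₂ h₂
    obtain ⟨k₁, hk₁⟩ := hpw e₁ h₁
    obtain ⟨k₂, hk₂⟩ := hpw e₂ h₂
    rw [mul_smul, mul_smul, hk₂, hk₁, smul_zpow', smul_zpow', hk₁, hk₂, ← zpow_mul, ← zpow_mul,
      mul_comm]
  obtain ⟨h, hh, hgh⟩ : ∃ h ∈ H₀, g * h ≠ h * g := by
    by_contra hcon
    push Not at hcon
    exact hgZ (hy.cen' g hg hcon)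
  have ht := hy.comm g hg h hh
  have ht1 : g * h * g⁻¹ * h⁻¹ ≠ 1 := by
    intro h1
    apply hgh
    have h2 := congrArg (fun t => t * h * g) h1
    simpa [mul_assoc] using h2
  apply hv1
  apply hy.fpf _ ht ht1 v.1 v.2
  obtain ⟨m, hm⟩ := hpw (h * g)⁻¹ (H₀.inv_mem (H₀.mul_mem hh hg))
  have e1 : g * h * g⁻¹ * h⁻¹ = (g * h) * (h * g)⁻¹ := by simp [mul_assoc]
  rw [e1, mul_smul, hm, smul_zpow', hcm g hg h hh, ← smul_zpow', ← hm, smul_smul]
  simp

theorem conj_pow {p r : ℕ} {H₀ Z : Subgroup H} {U : Subgroup V} (hy : Hyp p r H₀ Z U)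
    {a b : H} (ha : a ∈ H₀) (hb : b ∈ H₀) (k : ℕ) :
    a ^ k * b = (a * b * a⁻¹ * b⁻¹) ^ k * b * a ^ k := by
  have hd := hy.comm a ha b hb
  exact pow_mul_comm_class2 (a := b) (b := a) (d := a * b * a⁻¹ * b⁻¹) (by simp [mul_assoc])
    (hy.cen _ hd a ha) k

theorem card_fix_pow {p r : ℕ} [Fact p.Prime] [Fact r.Prime] (hpr : p ≠ r) [Finite V]
    {H₀ Z : Subgroup H} {U U₂ : Subgroup V} (hy : Hyp p r H₀ Z U) {x y : H} (hx : x ∈ H₀)
    (hy' : y ∈ H₀) (hxp : x ^ p = 1) (hc1 : y * x * y⁻¹ * x⁻¹ ≠ 1)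
    (hU₂ : ∀ u ∈ U₂, u ∈ U ∧ x • u = u) : Nat.card U₂ ^ p ≤ Nat.card U := by
  set c := y * x * y⁻¹ * x⁻¹ with hcdef
  have hc : c ∈ Z := hy.comm y hy' x hx
  have hF1 : ∀ i : ℕ, y ^ i * x = c ^ i * x * y ^ i := fun i => conj_pow hy hy' hx i
  have hcx : c * x = x * c := hy.cen c hc x hx
  have hgp : ∀ j : ℕ, (c ^ j * x) ^ p = 1 := by
    intro j
    have : Commute (c ^ j) x := Commute.pow_left hcx j
    rw [this.mul_pow, hxp, Z_pow_eq_one hy.Zcard (Z.pow_mem hc j), one_mul]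
  have hgH : ∀ j : ℕ, c ^ j * x ∈ H₀ := fun j => H₀.mul_mem (hy.Zle (Z.pow_mem hc j)) hx
  have hF2 : ∀ i : ℕ, ∀ a ∈ U₂, (c ^ i * x) • (y ^ i • a) = y ^ i • a := by
    intro i a ha
    rw [smul_smul, ← hF1, mul_smul, (hU₂ a ha).2]
  have hyU : ∀ i : ℕ, ∀ a ∈ U₂, y ^ i • a ∈ U :=
    fun i a ha => hy.inv _ (H₀.pow_mem hy' i) a (hU₂ a ha).1
  have hF3 : ∀ i j : ℕ, i < p → j < p → i ≠ j → ∀ w ∈ U, (c ^ i * x) • w = w →
      nrm p (c ^ j * x) w = 1 := by
    intro i j hi hj hij w hw hfix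
    have hN : nrm p (c ^ j * x) w ∈ U := nrm_mem p (hy.inv _ (hgH j)) hw
    have h1 : (c ^ j * x) • nrm p (c ^ j * x) w = nrm p (c ^ j * x) w := nrm_smul_self (hgp j) w
    have hcomm : (c ^ i * x) * (c ^ j * x) = (c ^ j * x) * (c ^ i * x) := by
      have e1 : x * c ^ j = c ^ j * x := ((Commute.pow_left hcx j).eq).symm
      have e2 : x * c ^ i = c ^ i * x := ((Commute.pow_left hcx i).eq).symm
      calc c ^ i * x * (c ^ j * x) = c ^ i * (x * c ^ j) * x := by simp only [mul_assoc]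
        _ = c ^ i * c ^ j * x * x := by rw [e1]; simp only [mul_assoc]
        _ = c ^ j * c ^ i * x * x := by rw [← pow_add, ← pow_add, add_comm]
        _ = c ^ j * (x * c ^ i) * x := by rw [e2]; simp only [mul_assoc]
        _ = _ := by simp only [mul_assoc]
    have h2 : (c ^ i * x) • nrm p (c ^ j * x) w = nrm p (c ^ j * x) w := by
      rw [nrm_smul_comm p hcomm, hfix]
    have h3 : (c ^ j * (c ^ i)⁻¹) • nrm p (c ^ j * x) w = nrm p (c ^ j * x) w := by
      have e : c ^ j * (c ^ i)⁻¹ = (c ^ j * x) * (c ^ i * x)⁻¹ := by simp [mul_assoc]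
      rw [e, mul_smul, inv_smul_eq_iff.2 h2.symm, h1]
    refine hy.fpf _ (Z.mul_mem (Z.pow_mem hc j) (Z.inv_mem (Z.pow_mem hc i))) ?_ _ hN h3
    intro h
    have hji : c ^ j = c ^ i := mul_inv_eq_one.1 h
    have hord := Z_orderOf hy.Zcard hc hc1
    have := (pow_injOn_Iio_orderOf (x := c)) (by simpa [hord] using hj)
      (by simpa [hord] using hi) hji
    exact hij this.symm
  have key : ∀ (f : Fin p → ↥U₂) (j : Fin p),
      nrm p (c ^ (j : ℕ) * x) (∏ i : Fin p, y ^ (i : ℕ) • ((f i : ↥U₂) : V))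
        = (y ^ (j : ℕ) • ((f j : ↥U₂) : V)) ^ p := by
    intro f j
    rw [nrm_prod, Finset.prod_eq_single j]
    · exact nrm_of_fixed p (hF2 j _ (f j).2)
    · intro i _ hij
      exact hF3 i j i.2 j.2 (fun h => hij (Fin.ext h)) _ (hyU i _ (f i).2) (hF2 i _ (f i).2)
    · intro h; exact absurd (Finset.mem_univ j) h
  have hinj : Function.Injective (fun f : Fin p → ↥U₂ =>
      (⟨∏ i : Fin p, y ^ (i : ℕ) • ((f i : ↥U₂) : V),
        Subgroup.prod_mem U (fun i _ => hyU i _ (f i).2)⟩ : ↥U)) := by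
    intro f f' hff
    have hff' : ∏ i : Fin p, y ^ (i : ℕ) • ((f i : ↥U₂) : V)
        = ∏ i : Fin p, y ^ (i : ℕ) • ((f' i : ↥U₂) : V) := congrArg Subtype.val hff
    funext j
    have h1 := key f j
    rw [hff', key f' j, ← smul_pow', ← smul_pow'] at h1
    have h2 : ((f' j : ↥U₂) : V) ^ p = ((f j : ↥U₂) : V) ^ p := MulAction.injective _ h1
    have h3 : (((f j : ↥U₂) : V) * ((f' j : ↥U₂) : V)⁻¹) ^ p = 1 := by
      rw [mul_pow, inv_pow, h2, mul_inv_cancel]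
    have h4 := torsion hpr h3
      (hy.exp _ (U.mul_mem (hU₂ _ (f j).2).1 (U.inv_mem (hU₂ _ (f' j).2).1)))
    apply Subtype.ext
    exact mul_inv_eq_one.1 h4
  have := Nat.card_le_card_of_injective _ hinj
  rwa [Nat.card_fun, Nat.card_fin] at this

theorem fix_comm {p r : ℕ} [Fact p.Prime] {H₀ Z : Subgroup H} {U : Subgroup V}
    (hy : Hyp p r H₀ Z U) {a b : H} (ha : a ∈ H₀) (hb : b ∈ H₀) (hd1 : a * b * a⁻¹ * b⁻¹ ≠ 1)
    {h : H} (hh : h ∈ H₀) : ∃ m : ℕ, (a ^ m * h) * b = b * (a ^ m * h) := by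
  have hd := hy.comm a ha b hb
  have ht := hy.comm h hh b hb
  obtain ⟨m, hm⟩ := Z_mem_powers hy.Zcard hd hd1 (Z.inv_mem ht)
  refine ⟨m, ?_⟩
  have h1 := conj_pow hy ha hb m
  have h2 : h * b = (h * b * h⁻¹ * b⁻¹) * b * h := by simp [mul_assoc]
  have h3 : a ^ m * (h * b * h⁻¹ * b⁻¹) = (h * b * h⁻¹ * b⁻¹) * a ^ m :=
    (hy.cen _ ht _ (H₀.pow_mem ha m)).symm
  calc a ^ m * h * b = a ^ m * (h * b) := mul_assoc _ _ _
    _ = a ^ m * ((h * b * h⁻¹ * b⁻¹) * b * h) := congrArg (a ^ m * ·) h2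
    _ = (a ^ m * (h * b * h⁻¹ * b⁻¹)) * b * h := by simp only [mul_assoc]
    _ = (h * b * h⁻¹ * b⁻¹) * (a ^ m * b) * h := by rw [h3]; simp only [mul_assoc]
    _ = (h * b * h⁻¹ * b⁻¹) * ((a * b * a⁻¹ * b⁻¹) ^ m * b * a ^ m) * h := by rw [h1]
    _ = b * (a ^ m * h) := by rw [hm]; simp [mul_assoc]

theorem hyp_sub [Finite H] {p r : ℕ} [Fact p.Prime] {H₀ Z : Subgroup H} {U : Subgroup V}
    (hy : Hyp p r H₀ Z U) {x y : H} (hx : x ∈ H₀) (hy' : y ∈ H₀)
    (hc1 : y * x * y⁻¹ * x⁻¹ ≠ 1) {U₂ : Subgroup V} (hU₂ : ∀ u, u ∈ U₂ ↔ u ∈ U ∧ x • u = u) :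
    Hyp p r (H₀ ⊓ Subgroup.centralizer {x} ⊓ Subgroup.centralizer {y}) Z U₂ ∧
    Nat.card H₀ ≤
      p * (p * Nat.card ↥(H₀ ⊓ Subgroup.centralizer {x} ⊓ Subgroup.centralizer {y})) := by
  have hmem : ∀ h, h ∈ H₀ ⊓ Subgroup.centralizer {x} ⊓ Subgroup.centralizer {y} ↔
      (h ∈ H₀ ∧ h * x = x * h) ∧ h * y = y * h := by
    intro h
    simp only [Subgroup.mem_inf, Subgroup.mem_centralizer_singleton_iff]
  have hle : H₀ ⊓ Subgroup.centralizer {x} ⊓ Subgroup.centralizer {y} ≤ H₀ :=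
    inf_le_left.trans inf_le_left
  have hc1' : x * y * x⁻¹ * y⁻¹ ≠ 1 := by
    intro h
    apply hc1
    have h2 : x * y = y * x := by
      have := congrArg (fun t => t * y * x) h
      simpa [mul_assoc] using this
    rw [← h2]; simp [mul_assoc]
  refine ⟨⟨?_, hy.Zcard, ?_, ?_, ?_, ?_, ?_, ?_, ?_⟩, ?_⟩
  · intro t ht
    exact (hmem t).2 ⟨⟨hy.Zle ht, hy.cen t ht x hx⟩, hy.cen t ht y hy'⟩
  · intro g hg h hh
    exact hy.cen g hg h (hle hh)
  · intro g hg hcomm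
    obtain ⟨⟨hgH, hgx⟩, hgy⟩ := (hmem g).1 hg
    apply hy.cen' g hgH
    intro h hh
    obtain ⟨m, hm⟩ := fix_comm hy hy' hx hc1 hh
    obtain ⟨m', hm'⟩ := fix_comm hy hx hy' hc1' (H₀.mul_mem (H₀.pow_mem hy' m) hh)
    have h2 : x ^ m' * (y ^ m * h) ∈ H₀ ⊓ Subgroup.centralizer {x} ⊓ Subgroup.centralizer {y} := by
      refine (hmem _).2
        ⟨⟨H₀.mul_mem (H₀.pow_mem hx m') (H₀.mul_mem (H₀.pow_mem hy' m) hh), ?_⟩, hm'⟩
      calc x ^ m' * (y ^ m * h) * x = x ^ m' * (y ^ m * h * x) := mul_assoc _ _ _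
        _ = x ^ m' * (x * (y ^ m * h)) := by rw [hm]
        _ = x * (x ^ m' * (y ^ m * h)) := by rw [← mul_assoc, ← pow_succ, pow_succ', mul_assoc]
    have c1 : Commute g (x ^ m') := Commute.pow_right hgx m'
    have c2 : Commute g (y ^ m) := Commute.pow_right hgy m
    have c3 : Commute g (x ^ m' * (y ^ m * h)) := hcomm _ h2
    have e : h = (y ^ m)⁻¹ * ((x ^ m')⁻¹ * (x ^ m' * (y ^ m * h))) := by simp
    have c4 : Commute g h := by
      rw [e]
      exact c2.inv_right.mul_right (c1.inv_right.mul_right c3)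
    exact c4.eq
  · intro g hg h hh
    exact hy.comm g (hle hg) h (hle hh)
  · intro g hg; exact hy.pow g (hle hg)
  · intro h hh u hu
    obtain ⟨⟨hhH, hhx⟩, hhy⟩ := (hmem h).1 hh
    obtain ⟨huU, hux⟩ := (hU₂ u).1 hu
    refine (hU₂ _).2 ⟨hy.inv h hhH u huU, ?_⟩
    rw [smul_smul, ← hhx, mul_smul, hux]
  · intro t ht ht1 u hu hfix
    exact hy.fpf t ht ht1 u ((hU₂ u).1 hu).1 hfix
  · intro u hu; exact hy.exp u ((hU₂ u).1 hu).1
  · have hb1 := index_bound (H₀ := H₀) (Z := Z) (K := H₀ ⊓ Subgroup.centralizer {x})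
      (fun a => a * x * a⁻¹ * x⁻¹) (fun a ha => hy.comm a ha x hx)
      (fun a ha b hb => comm_mul hy hx ha hb)
      (by
        intro a ha h1
        refine Subgroup.mem_inf.2 ⟨ha, Subgroup.mem_centralizer_singleton_iff.2 ?_⟩
        have h1' : a * x * a⁻¹ * x⁻¹ = 1 := h1
        have h2 := congrArg (fun t => t * x * a) h1'
        simpa [mul_assoc] using h2)
    have hb2 := index_bound (H₀ := H₀ ⊓ Subgroup.centralizer {x}) (Z := Z)
      (K := H₀ ⊓ Subgroup.centralizer {x} ⊓ Subgroup.centralizer {y})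
      (fun a => a * y * a⁻¹ * y⁻¹) (fun a ha => hy.comm a (Subgroup.mem_inf.1 ha).1 y hy')
      (fun a ha b hb => comm_mul hy hy' (Subgroup.mem_inf.1 ha).1 (Subgroup.mem_inf.1 hb).1)
      (by
        intro a ha h1
        refine Subgroup.mem_inf.2 ⟨ha, Subgroup.mem_centralizer_singleton_iff.2 ?_⟩
        have h1' : a * y * a⁻¹ * y⁻¹ = 1 := h1
        have h2 := congrArg (fun t => t * y * a) h1'
        simpa [mul_assoc] using h2)
    rw [hy.Zcard] at hb1 hb2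
    exact hb1.trans (Nat.mul_le_mul_left p hb2)

/-- The fixed points of `x` in `U`. -/
def fixSub (U : Subgroup V) (x : H) : Subgroup V where
  carrier := {u | u ∈ U ∧ x • u = u}
  mul_mem' := fun {a b} ha hb => ⟨U.mul_mem ha.1 hb.1, by rw [smul_mul', ha.2, hb.2]⟩
  one_mem' := ⟨U.one_mem, smul_one x⟩
  inv_mem' := fun {a} ha => ⟨U.inv_mem ha.1, by rw [smul_inv', ha.2]⟩

theorem main {p r : ℕ} [Fact p.Prime] [Fact r.Prime] (hpr : p ≠ r) [Finite H] [Finite V]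
    (Z : Subgroup H) (n : ℕ) (hn : 1 ≤ n)
    (hmin : ∀ k : ℕ, 1 ≤ k → p ∣ r ^ k - 1 → n ≤ k) :
    ∀ (w : ℕ) (H₀ : Subgroup H) (U : Subgroup V), Hyp p r H₀ Z U →
      p ^ (2 * w + 1) ≤ Nat.card H₀ → U ≠ ⊥ → r ^ (n * p ^ w) ≤ Nat.card U := by
  have hp : p.Prime := Fact.out
  have hr : r.Prime := Fact.out
  intro w
  induction w with
  | zero =>
    intro H₀ U hy _ hU
    simpa using base hy hU n hmin
  | succ w ih =>
    intro H₀ U hy hcard hU
    by_cases hex : ∃ x ∈ H₀, x ∉ Z ∧ x ^ p = 1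
    · obtain ⟨x₀, hx₀, hx₀Z, hx₀p⟩ := hex
      obtain ⟨x, hx, hxZ, hxp, u, hu, hu1, hxu⟩ := exists_x_fixed hpr hy hU hx₀ hx₀Z hx₀p
      obtain ⟨y, hy', hxy⟩ : ∃ y ∈ H₀, x * y ≠ y * x := by
        by_contra hcon
        push Not at hcon
        exact hxZ (hy.cen' x hx hcon)
      have hc1 : y * x * y⁻¹ * x⁻¹ ≠ 1 := by
        intro h
        apply hxy
        have h2 := congrArg (fun t => t * x * y) h
        simpa [mul_assoc] using h2.symm
      have hU₂ : ∀ u, u ∈ fixSub U x ↔ u ∈ U ∧ x • u = u := fun u => Iff.rfl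
      obtain ⟨hy₂, hcard₂⟩ := hyp_sub hy hx hy' hc1 hU₂
      have hU₂ne : fixSub U x ≠ ⊥ := by
        intro h
        have : u ∈ fixSub U x := (hU₂ u).2 ⟨hu, hxu⟩
        rw [h, Subgroup.mem_bot] at this
        exact hu1 this
      have hc₂ : p ^ (2 * w + 1) ≤
          Nat.card ↥(H₀ ⊓ Subgroup.centralizer {x} ⊓ Subgroup.centralizer {y}) := by
        have e : p ^ (2 * (w + 1) + 1) = p * (p * p ^ (2 * w + 1)) := by ring
        rw [e] at hcard
        have := hcard.trans hcard₂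
        exact Nat.le_of_mul_le_mul_left (Nat.le_of_mul_le_mul_left this hp.pos) hp.pos
      have h1 := ih _ (fixSub U x) hy₂ hc₂ hU₂ne
      have h2 := card_fix_pow hpr hy hx hy' hxp hc1 (fun u hu => (hU₂ u).1 hu)
      calc r ^ (n * p ^ (w + 1)) = (r ^ (n * p ^ w)) ^ p := by
            rw [← pow_mul, pow_succ, mul_assoc]
        _ ≤ Nat.card (fixSub U x) ^ p := Nat.pow_le_pow_left h1 p
        _ ≤ Nat.card U := h2
    · have hp2 : p = 2 := by
        by_contra h2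
        apply hex
        apply exists_x hy (Or.inl ⟨h2, ?_⟩)
        exact (Nat.pow_le_pow_right hp.pos (by omega)).trans hcard
      have hw : w = 0 := by
        by_contra hw
        apply hex
        apply exists_x hy (Or.inr ?_)
        exact (Nat.pow_le_pow_right hp.pos (by omega)).trans hcard
      subst hw
      have hn1 : n = 1 := by
        have : n ≤ 1 := hmin 1 le_rfl (by
          rw [hp2, pow_one]
          have hr2 : r ≠ 2 := fun h => hpr (hp2.trans h.symm)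
          rcases hr.eq_two_or_odd with h | h
          · exact absurd h hr2
          · omega)
        omega
      obtain ⟨g, hg, hgZ⟩ : ∃ g ∈ H₀, g ∉ Z := by
        by_contra hcon
        push Not at hcon
        have : Nat.card H₀ ≤ Nat.card Z := Subgroup.card_le_of_le hcon
        rw [hy.Zcard] at this
        have h3 : p ^ 3 ≤ p := by simpa using hcard.trans this
        rw [hp2] at h3
        norm_num at h3
      have := card_ge_sq hy hU hg hgZ
      rw [hn1, hp2]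
      simpa using this

theorem pow_smul_fixed {g : H} {v : V} (h : g • v = v) (k : ℕ) : g ^ k • v = v := by
  induction k with
  | zero => simp
  | succ k ih => rw [pow_succ, mul_smul, h, ih]

end abstract

/-- Conjugation action of `E` on a subgroup `A` that it normalizes. -/
@[reducible] def conjAct {G : Type*} [Group G] (E A : Subgroup G)
    (hnorm : E ≤ Subgroup.normalizer (A : Set G)) : MulDistribMulAction ↥E ↥A where
  smul e a := ⟨(e : G) * a * (e : G)⁻¹, ((Subgroup.mem_normalizer_iff.1 (hnorm e.2)) a.1).1 a.2⟩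
  one_smul a := by
    apply Subtype.ext
    show ((1 : ↥E) : G) * a * ((1 : ↥E) : G)⁻¹ = a
    simp
  mul_smul e₁ e₂ a := by
    apply Subtype.ext
    show ((e₁ * e₂ : ↥E) : G) * a * ((e₁ * e₂ : ↥E) : G)⁻¹
      = (e₁ : G) * ((e₂ : G) * a * (e₂ : G)⁻¹) * (e₁ : G)⁻¹
    simp [mul_assoc]
  smul_mul e a b := by
    apply Subtype.ext
    show (e : G) * ((a * b : ↥A) : G) * (e : G)⁻¹
      = ((e : G) * a * (e : G)⁻¹) * ((e : G) * b * (e : G)⁻¹)
    simp [mul_assoc]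
  smul_one e := by
    apply Subtype.ext
    show (e : G) * ((1 : ↥A) : G) * (e : G)⁻¹ = 1
    simp

/-- Let p and r be distinct primes, let E be an extraspecial subgroup of order p^(2w+1) of a finite group, and let A be an elementary abelian r-subgroup normalized by E on which E acts faithfully (C_E(A) = 1). If n ≥ 1 is least with p dividing rⁿ − 1 (the smallest dimension of a faithful representation of a group of order p over the field with r elements), then the order of A is at least r^(n·p^w). -/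
theorem result {G : Type*} [Group G] [Finite G] {p r : ℕ} [Fact p.Prime] [hr : Fact r.Prime] (hpr : p ≠ r) (E A : Subgroup G) (w : ℕ) (hE : Cfsg.IsExtraspecial p ↥E) (hEcard : Nat.card ↥E = p ^ (2 * w + 1)) (hA : Cfsg.IsElementaryAbelian r A) (hnorm : E ≤ Subgroup.normalizer (A : Set G)) (hfaith : E ⊓ Subgroup.centralizer (A : Set G) = ⊥) (n : ℕ) (hn : 1 ≤ n) (hdiv : p ∣ r ^ n - 1) (hmin : ∀ k : ℕ, 1 ≤ k → p ∣ r ^ k - 1 → n ≤ k) : r ^ (n * p ^ w) ≤ Nat.card ↥A := by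
  obtain ⟨⟨hEp, hfrat, hcomm⟩, hZcard⟩ := hE
  letI cg : CommGroup ↥A :=
    { (inferInstance : Group ↥A) with mul_comm := fun a b => (isMulCommutative_iff.1 hA.1) a b }
  letI act : MulDistribMulAction ↥E ↥A := conjAct E A hnorm
  have hsmul : ∀ (e : ↥E) (a : ↥A), ((e • a : ↥A) : G) = (e : G) * a * (e : G)⁻¹ :=
    fun e a => rfl
  obtain ⟨z, hz, hz1⟩ := Z_exists_ne_one (Z := Subgroup.center ↥E) hZcard
  have hzp : z ^ p = 1 := Z_pow_eq_one hZcard hz
  let φ : ↥A →* ↥A := MonoidHom.mk' (nrm p z) (nrm_mul p z)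
  have hφ : ∀ u : ↥A, u ∈ φ.ker ↔ nrm p z u = 1 := fun u => MonoidHom.mem_ker
  have hexp : ∀ u : ↥A, u ^ r = 1 := by
    intro u
    apply Subtype.ext
    simpa using hA.2 u.1 u.2
  have hyp : Hyp p r (⊤ : Subgroup ↥E) (Subgroup.center ↥E) φ.ker := by
    refine ⟨le_top, hZcard, ?_, ?_, ?_, ?_, ?_, ?_, ?_⟩
    · intro g hg h _
      exact (Subgroup.mem_center_iff.1 hg h).symm
    · intro g _ hc
      exact Subgroup.mem_center_iff.2 (fun h => (hc h (Subgroup.mem_top h)).symm)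
    · intro g _ h _
      rw [← hcomm, commutator_def, ← commutatorElement_def]
      exact Subgroup.commutator_mem_commutator (Subgroup.mem_top g) (Subgroup.mem_top h)
    · intro g _
      rw [← hfrat]
      exact Cfsg.Agent.S2880.pow_mem_frattini hEp g
    · intro h _ u hu
      rw [hφ] at hu ⊢
      rw [← nrm_smul_comm p (Subgroup.mem_center_iff.1 hz h), hu, smul_one]
    · intro t ht ht1 u hu hfix
      rw [hφ] at hu
      obtain ⟨k, hk⟩ := Z_mem_powers hZcard ht ht1 hz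
      have hzu : z • u = u := by rw [← hk]; exact pow_smul_fixed hfix k
      rw [nrm_of_fixed p hzu] at hu
      exact torsion hpr hu (hexp u)
    · intro u _
      exact hexp u
  have hcard : p ^ (2 * w + 1) ≤ Nat.card (⊤ : Subgroup ↥E) := by
    rw [Subgroup.card_top, hEcard]
  have hUne : φ.ker ≠ ⊥ := by
    have hzc : (z : G) ∉ Subgroup.centralizer (A : Set G) := by
      intro h
      have : (z : G) ∈ E ⊓ Subgroup.centralizer (A : Set G) := Subgroup.mem_inf.2 ⟨z.2, h⟩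
      rw [hfaith, Subgroup.mem_bot] at this
      exact hz1 (Subtype.ext this)
    rw [Subgroup.mem_centralizer_iff] at hzc
    push Not at hzc
    obtain ⟨a, ha, haz⟩ := hzc
    intro hbot
    have hu : (z • (⟨a, ha⟩ : ↥A)) * (⟨a, ha⟩ : ↥A)⁻¹ ∈ φ.ker := by
      rw [MonoidHom.mem_ker, map_mul, map_inv]
      show nrm p z (z • (⟨a, ha⟩ : ↥A)) * (nrm p z (⟨a, ha⟩ : ↥A))⁻¹ = 1
      rw [← nrm_smul_comm p rfl, nrm_smul_self hzp, mul_inv_cancel]
    rw [hbot, Subgroup.mem_bot, mul_inv_eq_one] at hu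
    have := congrArg Subtype.val hu
    rw [hsmul] at this
    apply haz
    have h2 : (z : G) * a * (z : G)⁻¹ = a := this
    have h3 := congrArg (fun t => t * (z : G)) h2
    simpa [mul_assoc] using h3.symm
  have := main (H := ↥E) (V := ↥A) hpr (Subgroup.center ↥E) n hn hmin w ⊤ φ.ker hyp hcard hUne
  exact this.trans (Subgroup.card_le_card_group _)

end Cfsg.Agent.S2912
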