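import Cfsg.Statements.S2933
import Cfsg.Agent.Lib.Helper28.L3Fin

set_option autoImplicit false
open Cfsg

namespace Cfsg.Agent.S2933

/-- Let T be a 2-subgroup of a finite group G, V ≤ Z(T) a four-group, and t, ρ ∈ N_G(V) ∩ N_G(T) elements of order 2 and 3 with t commuting with ρ and with V. If [V, ρ] = V and C_T(t) = V, then T is elementary abelian of order 16, or homocyclic of rank 2 (ℤ/2ⁿ × ℤ/2ⁿ for some n ≥ 1), or isomorphic to a Sylow 2-subgroup of PSL₃(4) or of PSU₃(4). -/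
theorem result {G : Type*} [Group G] [Finite G] (T V : Subgroup G) (hT : IsPGroup 2 ↥T) (hVT : V ≤ T ⊓ Subgroup.centralizer (T : Set G)) (hV : Nat.card ↥V = 4 ∧ ∀ v ∈ V, v ^ 2 = 1) (t ρ : G) (ht : orderOf t = 2) (hρ : orderOf ρ = 3) (htn : t ∈ Subgroup.normalizer (V : Set G) ⊓ Subgroup.normalizer (T : Set G)) (hρn : ρ ∈ Subgroup.normalizer (V : Set G) ⊓ Subgroup.normalizer (T : Set G)) (htρ : t * ρ = ρ * t) (htV : t ∈ Subgroup.centralizer (V : Set G)) (hVρ : ⁅V, Subgroup.zpowers ρ⁆ = V) (hCt : T ⊓ Subgroup.centralizer ({t} : Set G) = V) : (Nat.card ↥T = 16 ∧ ∀ x ∈ T, x ^ 2 = 1) ∨ (∃ n : ℕ, 1 ≤ n ∧ Nonempty (↥T ≃* Multiplicative (ZMod (2 ^ n)) × Multiplicative (ZMod (2 ^ n)))) ∨ (∃ (F : Type) (_ : Field F) (_ : Fintype F), Fintype.card F = 4 ∧ ∀ P : Sylow 2 (Matrix.ProjectiveSpecialLinearGroup (Fin 3) F), Nonempty (↥T ≃* ↥(P : Subgroup (Matrix.ProjectiveSpecialLinearGroup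 (Fin 3) F)))) ∨ (∃ (F : Type) (_ : Field F) (_ : Fintype F), Fintype.card F = 16 ∧ ∀ P : Sylow 2 (Cfsg.PSU 3 F 4), Nonempty (↥T ≃* ↥(P : Subgroup (Cfsg.PSU 3 F 4)))) := by
  have hsys := Cfsg.Agent.Lib.Helper28.L3.sub_sys T V hT hVT hV t ρ ht hρ htn hρn htρ hVρ hCt
  rcases Cfsg.Agent.Lib.Helper28.L3.sys_main hsys with ⟨h16, hexp⟩ | ⟨n, hn, ⟨e⟩⟩ | ⟨e⟩ | ⟨e⟩
  · left
    refine ⟨h16, fun x hx => ?_⟩
    have h1 := hexp ⟨x, hx⟩
    rw [pow_two]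
    exact congrArg Subtype.val h1
  · right; left
    exact ⟨n, hn, ⟨e.trans (MulEquiv.prodMultiplicative _ _)⟩⟩
  · right; right; left
    obtain ⟨F, i1, i2, hF, hP⟩ := Cfsg.Agent.Lib.Helper28.L3.all_sylow
    refine ⟨F, i1, i2, hF, fun P => ?_⟩
    obtain ⟨e'⟩ := hP P
    obtain ⟨e0⟩ := e
    exact ⟨e0.symm.trans e'⟩
  · right; right; right
    obtain ⟨F, i1, i2, hF, hP⟩ := Cfsg.Agent.Lib.Helper28.L3.all_sylow_U
    refine ⟨F, i1, i2, hF, fun P => ?_⟩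
    obtain ⟨e'⟩ := hP P
    obtain ⟨e0⟩ := e
    exact ⟨e0.symm.trans e'⟩

end Cfsg.Agent.S2933
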