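import Mathlib
import Cfsg.Statements.S2942
import Cfsg.Agent.Lib.Helper72.JLCore
import Cfsg.Agent.Lib.Helper72.JMExt
import Cfsg.Agent.Lib.Helper13.JLTrj
import Cfsg.Agent.Lib.Helper15.JLO2
import Cfsg.Agent.Lib.Helper22.JLTra
import Cfsg.Agent.Lib.Helper22.JLTrb
import Cfsg.Agent.Lib.Helper22.JLTrk
import Cfsg.Agent.Lib.Helper22.JLTrq
import Cfsg.Agent.Lib.Helper23.SCFfb
import Cfsg.Agent.Lib.Helper31.JLBo
import Cfsg.Agent.Lib.Helper36.JLKn
import Cfsg.Agent.Lib.Helper41.JLPs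
import Cfsg.Agent.Lib.Helper47.JLCt
import Cfsg.Agent.Lib.Helper52.JLKc
import Cfsg.Agent.Lib.Helper52.JLSubnil
import Cfsg.Agent.Lib.Helper54.JMExtm2
import Cfsg.Agent.Lib.Helper6.JLVab
import Cfsg.Agent.Lib.Helper62.JLExta
import Cfsg.Agent.Lib.Helper62.JLExtb
import Cfsg.Agent.Lib.Helper79.SCFfa
import Cfsg.Agent.Lib.Helper83.JLTrc
import Cfsg.Agent.Lib.Helper93.JLAl

set_option autoImplicit false
open Cfsg

namespace Cfsg.Agent.S2942

open Cfsg.Agent.Lib.Helper72.JL Cfsg.Agent.Lib.Helper72.SC in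
/-- The abstract theorem (assembly of the pieces of the JL project). -/
theorem mainAux.{u} : MainStmt.{u} :=
  have hFfa : FfaStmt.{u} := (Cfsg.Agent.Lib.Helper79.SC.ffa.{u})
  have hFfb : FfbStmt.{u} := (Cfsg.Agent.Lib.Helper23.SC.ffb.{u} hFfa)
  have hVab : VabStmt.{u} := (Cfsg.Agent.Lib.Helper6.JL.vab.{u})
  have hO2 : O2Stmt.{u} := (Cfsg.Agent.Lib.Helper15.JL.o2.{u})
  have hPs : PsStmt.{u} := (Cfsg.Agent.Lib.Helper41.JL.ps.{u})
  have hBo : BoStmt.{u} := (Cfsg.Agent.Lib.Helper31.JL.bo.{u} hVab)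
  have hExtm : ExtmStmt.{u} := Cfsg.Agent.Lib.Helper72.JM.extm_of_extm2 (Cfsg.Agent.Lib.Helper54.JM.extm2.{u})
  have hExta : ExtaStmt.{u} := (Cfsg.Agent.Lib.Helper62.JL.exta.{u} hExtm)
  have hExt : ExtStmt.{u} := (Cfsg.Agent.Lib.Helper62.JL.extb.{u} hFfa hFfb hExta)
  have hKn : KnStmt.{u} := (Cfsg.Agent.Lib.Helper36.JL.kn.{u} hFfa hVab hBo)
  have hCt : CtStmt.{u} := (Cfsg.Agent.Lib.Helper47.JL.ct.{u} hVab)
  have hSubnil : SubnilStmt.{u} := (Cfsg.Agent.Lib.Helper52.JL.subnil.{u})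
  have hKc : KcStmt.{u} := (Cfsg.Agent.Lib.Helper52.JL.kc.{u})
  have hAl : AlStmt.{u} := (Cfsg.Agent.Lib.Helper93.JL.al.{u} hSubnil hKc)
  main_of_pieces hVab hO2 hPs hExt hKn hCt hAl

open Cfsg.Agent.Lib.Helper72.JL in
/-- Transport piece. -/
theorem traAux.{u} : TraStmt.{u} := (Cfsg.Agent.Lib.Helper22.JL.tra.{u})

open Cfsg.Agent.Lib.Helper72.JL in
/-- Transport piece. -/
theorem trbAux.{u} : TrbStmt.{u} := (Cfsg.Agent.Lib.Helper22.JL.trb.{u})

open Cfsg.Agent.Lib.Helper72.JL in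
/-- Transport piece. -/
theorem trcAux.{u} : TrcStmt.{u} := (Cfsg.Agent.Lib.Helper83.JL.trc.{u})

open Cfsg.Agent.Lib.Helper72.JL in
/-- Transport piece. -/
theorem trjAux.{u} : TrjStmt.{u} := (Cfsg.Agent.Lib.Helper13.JL.trj.{u})

open Cfsg.Agent.Lib.Helper72.JL in
/-- Transport piece. -/
theorem trkAux.{u} : TrkStmt.{u} := (Cfsg.Agent.Lib.Helper22.JL.trk.{u})

open Cfsg.Agent.Lib.Helper72.JL in
/-- Transport piece. -/
theorem trqAux.{u} : TrqStmt.{u} := (Cfsg.Agent.Lib.Helper22.JL.trq.{u})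


/-- Let G be a finite group of characteristic 2 type in which every 2-local subgroup is solvable and the centralizer of Ω₁(Z(S)) lies in N_G(S) for every Sylow 2-subgroup S, and let T be a nontrivial 2-subgroup (below, J is the Thompson subgroup generated by the elementary abelian 2-subgroups of largest order). If L is a subgroup in which T is a Sylow 2-subgroup, with J(T) not contained in O₂(L) and C_G(O₂(L)) ≤ O₂(L), then every J(T)-component contained in L is subnormal in L. -/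
theorem result {G : Type*} [Group G] [Finite G] (hL : Cfsg.IsCharacteristicTwoType G) (hN : ∀ N : Subgroup G, Cfsg.IsTwoLocal N → Group.IsSolvable ↥N)
    (hZ : ∀ S : Sylow 2 G, Subgroup.centralizer (Cfsg.omegaCenterOf (S : Subgroup G) : Set G) ≤ Subgroup.normalizer ((S : Subgroup G) : Set G)) (T : Subgroup G) (hT : IsPGroup 2 ↥T) (hT1 : T ≠ ⊥) (L : Subgroup G) (hLT : L ∈ Cfsg.jOvergroups T)
    (K : Subgroup G) (hK : Cfsg.IsJComponent T K) (hKL : K ≤ L) : (K.subgroupOf L).IsSubnormal :=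
  Cfsg.Agent.Lib.Helper72.JL.final_of_pieces mainAux traAux trbAux trcAux trjAux trkAux trqAux
    hL hN hZ T hT hT1 L hLT K hK hKL

end Cfsg.Agent.S2942
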