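import Mathlib
import Cfsg.Statements.S2943
import Cfsg.Agent.Lib.Helper72.JMCore
import Cfsg.Agent.Lib.Helper13.JLTrj
import Cfsg.Agent.Lib.Helper15.JLO2
import Cfsg.Agent.Lib.Helper21.JMKd
import Cfsg.Agent.Lib.Helper22.JLTra
import Cfsg.Agent.Lib.Helper22.JLTrb
import Cfsg.Agent.Lib.Helper22.JLTrk
import Cfsg.Agent.Lib.Helper22.JLTrq
import Cfsg.Agent.Lib.Helper23.SCFfb
import Cfsg.Agent.Lib.Helper31.JLBo
import Cfsg.Agent.Lib.Helper31.JMC2
import Cfsg.Agent.Lib.Helper31.JMYy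
import Cfsg.Agent.Lib.Helper36.JLKn
import Cfsg.Agent.Lib.Helper36.JMTrn
import Cfsg.Agent.Lib.Helper39.JMExtd
import Cfsg.Agent.Lib.Helper4.JMYx
import Cfsg.Agent.Lib.Helper41.JLPs
import Cfsg.Agent.Lib.Helper47.JLCt
import Cfsg.Agent.Lib.Helper54.JMExtm2
import Cfsg.Agent.Lib.Helper6.JLVab
import Cfsg.Agent.Lib.Helper62.JLExta
import Cfsg.Agent.Lib.Helper62.JMWv
import Cfsg.Agent.Lib.Helper62.JMWz
import Cfsg.Agent.Lib.Helper63.JMKt
import Cfsg.Agent.Lib.Helper79.SCFfa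
import Cfsg.Agent.Lib.Helper83.JLTrc
import Cfsg.Agent.Lib.Helper89.JMExtc
import Cfsg.Agent.Lib.Helper92.JMGr

set_option autoImplicit false
open Cfsg

namespace Cfsg.Agent.S2943

open Cfsg.Agent.Lib.Helper72.JM Cfsg.Agent.Lib.Helper72.JL Cfsg.Agent.Lib.Helper72.SC in
/-- The abstract theorem (assembly of the pieces of the JM project). -/
theorem main2Aux.{u} : Main2Stmt.{u} :=
  have hFfa : FfaStmt.{u} := (Cfsg.Agent.Lib.Helper79.SC.ffa.{u})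
  have hFfb : FfbStmt.{u} := (Cfsg.Agent.Lib.Helper23.SC.ffb.{u} hFfa)
  have hVab : VabStmt.{u} := (Cfsg.Agent.Lib.Helper6.JL.vab.{u})
  have hO2 : O2Stmt.{u} := (Cfsg.Agent.Lib.Helper15.JL.o2.{u})
  have hPs : PsStmt.{u} := (Cfsg.Agent.Lib.Helper41.JL.ps.{u})
  have hBo : BoStmt.{u} := (Cfsg.Agent.Lib.Helper31.JL.bo.{u} hVab)
  have hExtm2 : Extm2Stmt.{u} := (Cfsg.Agent.Lib.Helper54.JM.extm2.{u})
  have hExtm : ExtmStmt.{u} := extm_of_extm2 hExtm2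
  have hExta : ExtaStmt.{u} := (Cfsg.Agent.Lib.Helper62.JL.exta.{u} hExtm)
  have hExtc : ExtcStmt.{u} := (Cfsg.Agent.Lib.Helper89.JM.extc.{u} hExtm2)
  have hExt2 : Ext2Stmt.{u} := (Cfsg.Agent.Lib.Helper39.JM.extd.{u} hFfa hFfb hExta hExtc)
  have hKn : KnStmt.{u} := (Cfsg.Agent.Lib.Helper36.JL.kn.{u} hFfa hVab hBo)
  have hCt : CtStmt.{u} := (Cfsg.Agent.Lib.Helper47.JL.ct.{u} hVab)
  have hC2 : C2Stmt.{u} := (Cfsg.Agent.Lib.Helper31.JM.c2.{u})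
  have hWz : WzStmt.{u} := (Cfsg.Agent.Lib.Helper62.JM.wz.{u})
  have hWv : WvStmt.{u} := (Cfsg.Agent.Lib.Helper62.JM.wv.{u})
  have hYy : YyStmt.{u} := (Cfsg.Agent.Lib.Helper31.JM.yy.{u})
  have hYx : YxStmt.{u} := (Cfsg.Agent.Lib.Helper4.JM.yx.{u} hYy hVab)
  have hGr : GrStmt.{u} := (Cfsg.Agent.Lib.Helper92.JM.gr.{u})
  main2_of_pieces hVab hO2 hPs hExt2 hKn hCt hC2 hWz hWv hYx hGr

open Cfsg.Agent.Lib.Helper72.JM Cfsg.Agent.Lib.Helper72.JL in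
/-- Transport piece. -/
theorem traAux.{u} : TraStmt.{u} := (Cfsg.Agent.Lib.Helper22.JL.tra.{u})

open Cfsg.Agent.Lib.Helper72.JM Cfsg.Agent.Lib.Helper72.JL in
/-- Transport piece. -/
theorem trbAux.{u} : TrbStmt.{u} := (Cfsg.Agent.Lib.Helper22.JL.trb.{u})

open Cfsg.Agent.Lib.Helper72.JM Cfsg.Agent.Lib.Helper72.JL in
/-- Transport piece. -/
theorem trcAux.{u} : TrcStmt.{u} := (Cfsg.Agent.Lib.Helper83.JL.trc.{u})

open Cfsg.Agent.Lib.Helper72.JM Cfsg.Agent.Lib.Helper72.JL in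
/-- Transport piece. -/
theorem trjAux.{u} : TrjStmt.{u} := (Cfsg.Agent.Lib.Helper13.JL.trj.{u})

open Cfsg.Agent.Lib.Helper72.JM Cfsg.Agent.Lib.Helper72.JL in
/-- Transport piece. -/
theorem trkAux.{u} : TrkStmt.{u} := (Cfsg.Agent.Lib.Helper22.JL.trk.{u})

open Cfsg.Agent.Lib.Helper72.JM Cfsg.Agent.Lib.Helper72.JL in
/-- Transport piece. -/
theorem trqAux.{u} : TrqStmt.{u} := (Cfsg.Agent.Lib.Helper22.JL.trq.{u})

open Cfsg.Agent.Lib.Helper72.JM Cfsg.Agent.Lib.Helper72.JL in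
/-- Transport piece. -/
theorem trnAux.{u} : TrnStmt.{u} := (Cfsg.Agent.Lib.Helper36.JM.trn.{u})

open Cfsg.Agent.Lib.Helper72.JM Cfsg.Agent.Lib.Helper72.JL in
/-- Transport piece. -/
theorem kdAux.{u} : KdStmt.{u} := (Cfsg.Agent.Lib.Helper21.JM.kd.{u})

open Cfsg.Agent.Lib.Helper72.JM Cfsg.Agent.Lib.Helper72.JL in
/-- Transport piece. -/
theorem ktAux.{u} : KtStmt.{u} := (Cfsg.Agent.Lib.Helper63.JM.kt.{u})


/-- Let G be a finite group of characteristic 2 type in which every 2-local subgroup is solvable and the centralizer of Ω₁(Z(S)) lies in N_G(S) for every Sylow 2-subgroup S, and let T be a nontrivial 2-subgroup (below, J is the Thompson subgroup generated by the elementary abelian 2-subgroups of largest order), L a subgroup in which T is a Sylow 2-subgroup with J(T) not contained in O₂(L) and C_G(O₂(L)) ≤ O₂(L), and K a J(T)-component contained in L. If Z(T) meets W_K = [Ω₁(Z(O₂(K))),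 K] nontrivially, then T normalizes K. -/
theorem result {G : Type*} [Group G] [Finite G] (hL : Cfsg.IsCharacteristicTwoType G) (hN : ∀ N : Subgroup G, Cfsg.IsTwoLocal N → Group.IsSolvable ↥N)
    (hZ : ∀ S : Sylow 2 G, Subgroup.centralizer (Cfsg.omegaCenterOf (S : Subgroup G) : Set G) ≤ Subgroup.normalizer ((S : Subgroup G) : Set G)) (T : Subgroup G) (hT : IsPGroup 2 ↥T) (hT1 : T ≠ ⊥) (L : Subgroup G) (hLT : L ∈ Cfsg.jOvergroups T)
    (K : Subgroup G) (hK : Cfsg.IsJComponent T K) (hKL : K ≤ L)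
    (hZW : T ⊓ Subgroup.centralizer (T : Set G) ⊓ Cfsg.wOf K ≠ ⊥) : T ≤ Subgroup.normalizer (K : Set G) :=
  Cfsg.Agent.Lib.Helper72.JM.final2_of_pieces main2Aux traAux trbAux trcAux trjAux trkAux trqAux trnAux
    kdAux ktAux hL hN hZ T hT hT1 L hLT K hK hKL hZW

end Cfsg.Agent.S2943
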