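import Mathlib
import Cfsg.Statements.S2944
import Cfsg.Agent.S2942
import Cfsg.Agent.Lib.Helper78.JNCore
import Cfsg.Agent.Lib.Helper78.JNOffa
import Cfsg.Agent.Lib.Helper12.JNCq
import Cfsg.Agent.Lib.Helper13.JNPb1
import Cfsg.Agent.Lib.Helper13.JNPb2
import Cfsg.Agent.Lib.Helper2.JNOffx
import Cfsg.Agent.Lib.Helper31.JNOffb
import Cfsg.Agent.Lib.Helper56.JNKnorm
import Cfsg.Agent.Lib.Helper57.JNVw
import Cfsg.Agent.Lib.Helper66.JNThc
import Cfsg.Agent.Lib.Helper76.JNTrw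
import Cfsg.Agent.Lib.Helper77.JNTrn
import Cfsg.Agent.Lib.Helper84.JNNc
import Cfsg.Agent.Lib.Helper85.JNAut
import Cfsg.Agent.Lib.Helper78.JNFin

set_option autoImplicit false
open Cfsg

namespace Cfsg.Agent.S2944

open Cfsg.Agent.Lib.Helper72.JL Cfsg.Agent.Lib.Helper72.SC in
/-- The abstract theorem (assembly of the pieces of the JN project, on top of the JL project). -/
theorem normAux.{u} : Cfsg.Agent.Lib.Helper78.JN.NormStmt.{u} :=
  have hFfa : FfaStmt.{u} := (Cfsg.Agent.Lib.Helper79.SC.ffa.{u})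
  have hFfb : FfbStmt.{u} := (Cfsg.Agent.Lib.Helper23.SC.ffb.{u} hFfa)
  have hVab : VabStmt.{u} := (Cfsg.Agent.Lib.Helper6.JL.vab.{u})
  have hO2 : O2Stmt.{u} := (Cfsg.Agent.Lib.Helper15.JL.o2.{u})
  have hPs : PsStmt.{u} := (Cfsg.Agent.Lib.Helper41.JL.ps.{u})
  have hBo : BoStmt.{u} := (Cfsg.Agent.Lib.Helper31.JL.bo.{u} hVab)
  have hExtm : ExtmStmt.{u} :=
    Cfsg.Agent.Lib.Helper72.JM.extm_of_extm2 (Cfsg.Agent.Lib.Helper54.JM.extm2.{u})
  have hExta : ExtaStmt.{u} := (Cfsg.Agent.Lib.Helper62.JL.exta.{u} hExtm)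
  have hExt : ExtStmt.{u} := (Cfsg.Agent.Lib.Helper62.JL.extb.{u} hFfa hFfb hExta)
  have hKn : KnStmt.{u} := (Cfsg.Agent.Lib.Helper36.JL.kn.{u} hFfa hVab hBo)
  have hCt : CtStmt.{u} := (Cfsg.Agent.Lib.Helper47.JL.ct.{u} hVab)
  have hKc : KcStmt.{u} := (Cfsg.Agent.Lib.Helper52.JL.kc.{u})
  have hCq : Cfsg.Agent.Lib.Helper78.JN.CqStmt.{u} := (Cfsg.Agent.Lib.Helper12.JN.cq.{u})
  have hAut : Cfsg.Agent.Lib.Helper78.JN.AutStmt.{u} := (Cfsg.Agent.Lib.Helper85.JN.aut.{u})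
  have hFin : Cfsg.Agent.Lib.Helper78.JN.FinStmt.{u} := (Cfsg.Agent.Lib.Helper78.JN.fin.{u})
  have hKnorm : Cfsg.Agent.Lib.Helper78.JN.KnormStmt.{u} := (Cfsg.Agent.Lib.Helper56.JN.knorm.{u})
  have hVw : Cfsg.Agent.Lib.Helper78.JN.VwStmt.{u} := (Cfsg.Agent.Lib.Helper57.JN.vw.{u})
  have hNc : Cfsg.Agent.Lib.Helper78.JN.NcStmt.{u} := (Cfsg.Agent.Lib.Helper84.JN.nc.{u})
  have hOffa : Cfsg.Agent.Lib.Helper78.JN.OffaStmt.{u} := (Cfsg.Agent.Lib.Helper78.JN.offa.{u})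
  have hOffb : Cfsg.Agent.Lib.Helper78.JN.OffbStmt.{u} := (Cfsg.Agent.Lib.Helper31.JN.offb.{u})
  have hOffg : Cfsg.Agent.Lib.Helper78.JN.OffgStmt.{u} :=
    Cfsg.Agent.Lib.Helper78.JN.offg_of_pieces hOffa hOffb
  have hOffx : Cfsg.Agent.Lib.Helper78.JN.OffxStmt.{u} :=
    (Cfsg.Agent.Lib.Helper2.JN.offx.{u} hOffg hFfa hFfb hBo hO2 hPs hVab)
  Cfsg.Agent.Lib.Helper78.JN.norm_of_pieces hVab hO2 hPs hExt hKn hCt hKc hCq hAut hFin hKnorm hVw
    hNc hOffx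

/-- Let G be a finite group of characteristic 2 type in which every 2-local subgroup is solvable and the centralizer of Ω₁(Z(S)) lies in N_G(S) for every Sylow 2-subgroup S, and let T be a nontrivial 2-subgroup (below, J is the Thompson subgroup generated by the elementary abelian 2-subgroups of largest order) and K a J(T)-component such that J(T) is the Thompson subgroup of every Sylow 2-subgroup of N_G(W_K) containing J(T), where W_K = [Ω₁(Z(O₂(K))), K]. Then N_G(K) = N_G(W_K), and K is a J(Tᵍ)-component for every conjugate Tᵍ of T with J(Tᵍ) ≤ N_G(W_K). -/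
theorem result {G : Type*} [Group G] [Finite G] (hL : Cfsg.IsCharacteristicTwoType G) (hN : ∀ N : Subgroup G, Cfsg.IsTwoLocal N → Group.IsSolvable ↥N)
    (hZ : ∀ S : Sylow 2 G, Subgroup.centralizer (Cfsg.omegaCenterOf (S : Subgroup G) : Set G) ≤ Subgroup.normalizer ((S : Subgroup G) : Set G)) (T : Subgroup G) (hT : IsPGroup 2 ↥T) (hT1 : T ≠ ⊥) (K : Subgroup G) (hK : K ∈ Cfsg.jComponentsZero T) :
    Subgroup.normalizer (K : Set G) = Subgroup.normalizer (Cfsg.wOf K : Set G) ∧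
      ∀ g : G, Cfsg.thompsonSubgroupOf 2 (T.map (MulAut.conj g).toMonoidHom) ≤ Subgroup.normalizer (Cfsg.wOf K : Set G) →
        Cfsg.IsJComponent (T.map (MulAut.conj g).toMonoidHom) K := by
  have _ := hT1
  exact Cfsg.Agent.Lib.Helper78.JN.final_of_pieces normAux Cfsg.Agent.S2942.traAux
    Cfsg.Agent.S2942.trbAux Cfsg.Agent.S2942.trcAux Cfsg.Agent.S2942.trjAux
    Cfsg.Agent.S2942.trkAux Cfsg.Agent.S2942.trqAux Cfsg.Agent.Lib.Helper77.JN.trn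
    Cfsg.Agent.Lib.Helper76.JN.trw
    (Cfsg.Agent.Lib.Helper13.JN.pb1 Cfsg.Agent.Lib.Helper66.JN.thc)
    (Cfsg.Agent.Lib.Helper13.JN.pb2 Cfsg.Agent.Lib.Helper66.JN.thc)
    hL hN hZ T hT K hK

end Cfsg.Agent.S2944
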