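import Mathlib
import Cfsg.Statements.S2948
import Cfsg.Agent.Lib.Helper58.JECore
import Cfsg.Agent.Lib.Helper83.JEFfg
import Cfsg.Agent.Lib.Helper77.JEFf3
import Cfsg.Agent.Lib.Helper94.JEDataX
import Cfsg.Agent.Lib.Helper16.JEDataL
import Cfsg.Agent.Lib.Helper95.JEDataG
import Cfsg.Agent.Lib.Helper87.JEY1
import Cfsg.Agent.Lib.Helper12.JEY2
import Cfsg.Agent.Lib.Helper92.JEK1
import Cfsg.Agent.Lib.Helper86.JEK2
import Cfsg.Agent.Lib.Helper20.JESyl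
import Cfsg.Agent.Lib.Helper66.JEHalf
import Cfsg.Agent.Lib.Helper79.JEFMod
import Cfsg.Agent.Lib.Helper90.JEFTr
import Cfsg.Agent.Lib.Helper32.JEW1
import Cfsg.Agent.Lib.Helper56.JEFApp
import Cfsg.Agent.Lib.Helper4.JEWEq
import Cfsg.Agent.Lib.Helper6.JEA1
import Cfsg.Agent.Lib.Helper75.JEA2
import Cfsg.Agent.Lib.Helper10.JEA3
import Cfsg.Agent.Lib.Helper39.JEA4
import Cfsg.Agent.Lib.Helper79.SCFfa
import Cfsg.Agent.Lib.Helper23.SCFfb
import Cfsg.Agent.Lib.Helper6.JLVab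
import Cfsg.Agent.Lib.Helper15.JLO2
import Cfsg.Agent.Lib.Helper41.JLPs
import Cfsg.Agent.Lib.Helper31.JLBo
import Cfsg.Agent.Lib.Helper54.JMExtm2
import Cfsg.Agent.Lib.Helper47.JLCt
import Cfsg.Agent.Lib.Helper31.JMC2
import Cfsg.Agent.Lib.Helper22.JLTra
import Cfsg.Agent.Lib.Helper22.JLTrb
import Cfsg.Agent.Lib.Helper83.JLTrc
import Cfsg.Agent.Lib.Helper13.JLTrj

set_option autoImplicit false
open Cfsg

namespace Cfsg.Agent.S2948

open Cfsg.Agent.Lib.Helper58.JE Cfsg.Agent.Lib.Helper72.JM Cfsg.Agent.Lib.Helper72.JL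
  Cfsg.Agent.Lib.Helper72.SC in
/-- The data of an overgroup `L ∈ ℒ(T)` (assembly of the data chain of the JE project on top of
the JL/JM pieces). -/
theorem dataAux.{u} : DataStmt.{u} :=
  have hFfa : FfaStmt.{u} := (Cfsg.Agent.Lib.Helper79.SC.ffa.{u})
  have hFfb : FfbStmt.{u} := (Cfsg.Agent.Lib.Helper23.SC.ffb.{u} hFfa)
  have hVab : VabStmt.{u} := (Cfsg.Agent.Lib.Helper6.JL.vab.{u})
  have hO2 : O2Stmt.{u} := (Cfsg.Agent.Lib.Helper15.JL.o2.{u})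
  have hPs : PsStmt.{u} := (Cfsg.Agent.Lib.Helper41.JL.ps.{u})
  have hBo : BoStmt.{u} := (Cfsg.Agent.Lib.Helper31.JL.bo.{u} hVab)
  have hExtm2 : Extm2Stmt.{u} := (Cfsg.Agent.Lib.Helper54.JM.extm2.{u})
  have hCt : CtStmt.{u} := (Cfsg.Agent.Lib.Helper47.JL.ct.{u} hVab)
  have hC2 : C2Stmt.{u} := (Cfsg.Agent.Lib.Helper31.JM.c2.{u})
  have hFFG : FFGStmt.{u} := (Cfsg.Agent.Lib.Helper83.JE.ffg.{u} hExtm2)
  have hFF3 : FF3Stmt.{u} := (Cfsg.Agent.Lib.Helper77.JE.ff3.{u} hFfa hFfb hFFG)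
  have hDX : DataXStmt.{u} := (Cfsg.Agent.Lib.Helper94.JE.datax.{u} hVab hO2 hPs hBo hC2 hFF3)
  have hDL : DataLStmt.{u} := (Cfsg.Agent.Lib.Helper16.JE.datal.{u} hVab hCt hC2 hDX)
  Cfsg.Agent.Lib.Helper95.JE.datag.{u} (Cfsg.Agent.Lib.Helper22.JL.tra.{u})
    (Cfsg.Agent.Lib.Helper22.JL.trb.{u}) (Cfsg.Agent.Lib.Helper83.JL.trc.{u})
    (Cfsg.Agent.Lib.Helper13.JL.trj.{u}) hDL

open Cfsg.Agent.Lib.Helper58.JE in
/-- The existence of a `J(T)`-component (assembly of the component pieces of the JE project). -/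
theorem compAux.{u} : CompStmt.{u} :=
  have hHalf : HalfStmt.{u} := (Cfsg.Agent.Lib.Helper66.JE.half.{u})
  have hFMod : FModStmt.{u} := (Cfsg.Agent.Lib.Helper79.JE.fmod.{u} hHalf)
  have hFours : FoursStmt.{u} := (Cfsg.Agent.Lib.Helper90.JE.ftr.{u} hFMod)
  comp_of_pieces (Cfsg.Agent.Lib.Helper87.JE.y1.{u}) (Cfsg.Agent.Lib.Helper12.JE.y2.{u})
    (Cfsg.Agent.Lib.Helper92.JE.k1.{u}) (Cfsg.Agent.Lib.Helper86.JE.k2.{u})
    (Cfsg.Agent.Lib.Helper20.JE.syl.{u}) (Cfsg.Agent.Lib.Helper32.JE.w1.{u})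
    (Cfsg.Agent.Lib.Helper56.JE.fapp.{u}) hFours (Cfsg.Agent.Lib.Helper4.JE.weq.{u})

/-- Let G be a finite group of characteristic 2 type in which every 2-local subgroup is solvable and the centralizer of Ω₁(Z(S)) lies in N_G(S) for every Sylow 2-subgroup S; suppose O₂(G) = 1, fix a Sylow 2-subgroup S and a 2-local subgroup M containing N_G(J(S)) (J the Thompson subgroup generated by the elementary abelian 2-subgroups of largest order). Let T be maximal (as in the family 𝒯*(M): lexicographically for the order of a largest elementary abelian subgroup, the order of J(T), the order of T) among the nontrivial 2-subgroups of M lying in a 2-local subgroup not inside M, and let L be a 2-local subgroup not contained in M with a Sylow 2-subgroup T₀ containing J(T). Then J(T) = J(T₀), T₀ again lies in a 2-local subgroup not inside M (and is a nontrivial 2-subgroup of M), and L belongs to the family ℒ(T₀):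 T₀ is Sylow in L, J(T₀) is not inside O₂(L) and C_G(O₂(L)) ≤ O₂(L). In particular if T ≤ L then T itself is a Sylow 2-subgroup of L, L ∈ ℒ(T), and L contains a J(T)-component. -/
theorem result {G : Type*} [Group G] [Finite G] (hL : Cfsg.IsCharacteristicTwoType G) (hN : ∀ N : Subgroup G, Cfsg.IsTwoLocal N → Group.IsSolvable ↥N)
    (hZ : ∀ S : Sylow 2 G, Subgroup.centralizer (Cfsg.omegaCenterOf (S : Subgroup G) : Set G) ≤ Subgroup.normalizer ((S : Subgroup G) : Set G)) (hO : Cfsg.pCore 2 G = ⊥) (S : Sylow 2 G) (M : Subgroup G) (hM : Cfsg.IsTwoLocal M)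
    (hMJ : Subgroup.normalizer (Cfsg.thompsonSubgroupOf 2 (S : Subgroup G) : Set G) ≤ M) (T : Subgroup G) (hT : T ∈ Cfsg.maxStraddlingTwoSubgroups M)
    (L : Subgroup G) (hL2 : Cfsg.IsTwoLocal L) (hLM : ¬ L ≤ M) (T₀ : Subgroup G) (hT₀ : Cfsg.IsSylowTwoIn T₀ L)
    (hJT₀ : Cfsg.thompsonSubgroupOf 2 T ≤ T₀) :
    Cfsg.thompsonSubgroupOf 2 T = Cfsg.thompsonSubgroupOf 2 T₀ ∧ T₀ ∈ Cfsg.straddlingTwoSubgroups M ∧ L ∈ Cfsg.jOvergroups T₀ ∧
      (T ≤ L → L ∈ Cfsg.jOvergroups T ∧ ∃ K : Subgroup G, Cfsg.IsJComponent T K ∧ K ≤ L) := by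
  exact Cfsg.Agent.Lib.Helper58.JE.main_of_pieces (Cfsg.Agent.Lib.Helper6.JE.a1)
    (Cfsg.Agent.Lib.Helper75.JE.a2) (Cfsg.Agent.Lib.Helper10.JE.a3) (Cfsg.Agent.Lib.Helper39.JE.a4)
    dataAux compAux hL hN hZ S M hMJ T hT L hL2 hLM T₀ hT₀ hJT₀

end Cfsg.Agent.S2948
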