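import Cfsg.Statements.S2968
import Cfsg.Agent.Lib.Helper58.Isolated

set_option autoImplicit false
open Cfsg

namespace Cfsg.Agent.S2968

/-- Let G be a finite group, p a prime, P a Sylow p-subgroup of G and x ∈ P an element of p-power order which is isolated in G (the only conjugate of x commuting with x is x itself). Then x lies in the centre of P, and the subgroup generated by x is both strongly closed and weakly closed in P with respect to G. -/
theorem result {G : Type*} [Group G] [Finite G] {p : ℕ} [Fact p.Prime] (P : Sylow p G) (x : G) (hxP : x ∈ (P : Subgroup G)) (hx : ∃ k : ℕ, orderOf x = p ^ k) (hiso : Cfsg.IsIsolated x) : x ∈ (P : Subgroup G) ⊓ Subgroup.centralizer ((P : Subgroup G) : Set G) ∧ Cfsg.IsStronglyClosed (Subgroup.zpowers x) (P : Subgroup G) ∧ Cfsg.IsWeaklyClosed (Subgroup.zpowers x) (P : Subgroup G) := by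
  have hcen := Cfsg.Agent.Lib.Helper58.isolated_commute_of_mem_pGroup hiso (P : Subgroup G) P.isPGroup' hxP
  have hzP : Subgroup.zpowers x ≤ (P : Subgroup G) := Subgroup.zpowers_le.mpr hxP
  have hfix : ∀ y ∈ Subgroup.zpowers x, ∀ g : G, g * y * g⁻¹ ∈ (P : Subgroup G) → g * y * g⁻¹ = y :=
    fun y hy g hg => Cfsg.Agent.Lib.Helper58.isolated_conj_power_eq P hxP hiso y hy g hg
  refine ⟨Subgroup.mem_inf.mpr ⟨hxP, ?_⟩, ⟨hzP, ?_⟩, ⟨hzP, ?_⟩⟩
  · rw [Subgroup.mem_centralizer_iff]
    intro h hh
    exact (hcen h hh).eq.symm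
  · intro y hy g hg
    rw [hfix y hy g hg]; exact hy
  · intro g hle
    ext z
    constructor
    · rintro ⟨y, hy, rfl⟩
      have hyP : g * y * g⁻¹ ∈ (P : Subgroup G) := hle ⟨y, hy, by simp⟩
      have := hfix y hy g hyP
      simp only [MulEquiv.toMonoidHom_eq_coe, MonoidHom.coe_coe, MulAut.conj_apply]
      rw [this]; exact hy
    · intro hz
      have hzP' : g * z * g⁻¹ ∈ (P : Subgroup G) := hle ⟨z, hz, by simp⟩
      have := hfix z hz g hzP'
      exact ⟨z, hz, by simpa using this⟩

end Cfsg.Agent.S2968
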