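import Cfsg.Statements.S2971
import Mathlib
import Cfsg.Agent.S3977
import Cfsg.Agent.Lib.Helper30.Cores
import Cfsg.Agent.Lib.Helper58.Isolated
import Cfsg.Agent.Lib.Helper58.Isolated2
import Cfsg.Agent.Lib.Helper58.SylowConj

set_option autoImplicit false
open Cfsg

namespace Cfsg.Agent.S2971

open Cfsg.Agent.Lib Cfsg.Agent.Lib.Helper58

/-- In a group of `p`-rank at most 1, a Sylow `p`-subgroup has at most one subgroup of
order `p`. -/
theorem unique_order_p {G : Type*} [Group G] [Finite G] {p : ℕ} [Fact p.Prime]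
    (hrk : Cfsg.PRankLE p 1 G) (P : Sylow p G) (hPnt : Nontrivial ↥(P : Subgroup G))
    (H K : Subgroup G) (hH : H ≤ P) (hK : K ≤ P) (hcH : Nat.card ↥H = p) (hcK : Nat.card ↥K = p) :
    H = K := by
  -- a central element of order p in P
  have hPp : IsPGroup p ↥(P : Subgroup G) := P.2
  have hZnt : Nontrivial ↥(Subgroup.center ↥(P : Subgroup G)) := hPp.center_nontrivial
  have hZp : IsPGroup p ↥(Subgroup.center ↥(P : Subgroup G)) := hPp.to_subgroup _
  have hdvd : p ∣ Nat.card ↥(Subgroup.center ↥(P : Subgroup G)) := by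
    obtain ⟨n, hn⟩ := IsPGroup.iff_card.mp hZp
    rcases Nat.eq_zero_or_pos n with h0 | hpos
    · exfalso
      rw [h0, pow_zero] at hn
      have := Finite.one_lt_card (α := ↥(Subgroup.center ↥(P : Subgroup G)))
      omega
    · rw [hn]; exact dvd_pow_self p hpos.ne'
  obtain ⟨z', hz'⟩ := exists_prime_orderOf_dvd_card'
    (G := ↥(Subgroup.center ↥(P : Subgroup G))) p hdvd
  obtain ⟨z₀, hz₀def⟩ : ∃ z₀ : G, z₀ = (((z' : ↥(P : Subgroup G))) : G) := ⟨_, rfl⟩
  have hz₀ord : orderOf z₀ = p := by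
    rw [hz₀def, Subgroup.orderOf_coe, Subgroup.orderOf_coe]; exact hz'
  have hz₀P : z₀ ∈ (P : Subgroup G) := by rw [hz₀def]; exact (z' : ↥(P : Subgroup G)).2
  have hz₀c : ∀ y ∈ (P : Subgroup G), y * z₀ = z₀ * y := by
    intro y hy
    have h1 := Subgroup.mem_center_iff.mp z'.2 ⟨y, hy⟩
    have h2 := congrArg Subtype.val h1
    rw [hz₀def]; exact h2
  have hcZ : Nat.card ↥(Subgroup.zpowers z₀) = p := by rw [Nat.card_zpowers, hz₀ord]
  -- every subgroup of order p of P equals zpowers z₀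
  have key : ∀ L : Subgroup G, L ≤ P → Nat.card ↥L = p → L = Subgroup.zpowers z₀ := by
    intro L hL hcL
    by_contra hne
    have hcomm : ∀ a ∈ L, ∀ b ∈ Subgroup.zpowers z₀, a * b = b * a := by
      intro a ha b hb
      obtain ⟨i, rfl⟩ := Subgroup.mem_zpowers_iff.mp hb
      have h1 : Commute a z₀ := hz₀c a (hL ha)
      exact (h1.zpow_right i).eq
    have hLcyc : IsCyclic ↥L := isCyclic_of_prime_card hcL
    have hLcomm : ∀ a ∈ L, ∀ b ∈ L, a * b = b * a := by
      intro a ha b hb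
      have := (IsCyclic.isMulCommutative (α := ↥L)).is_comm.comm ⟨a, ha⟩ ⟨b, hb⟩
      exact congrArg Subtype.val this
    have hAcomm : IsMulCommutative ↥(L ⊔ Subgroup.zpowers z₀) := by
      refine ⟨⟨fun a b => ?_⟩⟩
      obtain ⟨a1, ha1, a2, ha2, ha⟩ := Helper30.mem_sup_of_commute hcomm a.2
      obtain ⟨b1, hb1, b2, hb2, hb⟩ := Helper30.mem_sup_of_commute hcomm b.2
      obtain ⟨i, rfl⟩ := Subgroup.mem_zpowers_iff.mp ha2
      obtain ⟨j, rfl⟩ := Subgroup.mem_zpowers_iff.mp hb2
      apply Subtype.ext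
      show (a : G) * (b : G) = (b : G) * (a : G)
      rw [ha, hb]
      have e1 : Commute a1 b1 := hLcomm a1 ha1 b1 hb1
      have e2 : Commute a1 (z₀ ^ j) := hcomm a1 ha1 _ (Subgroup.zpow_mem_zpowers z₀ j)
      have e3 : Commute b1 (z₀ ^ i) := hcomm b1 hb1 _ (Subgroup.zpow_mem_zpowers z₀ i)
      have e4 : Commute (z₀ ^ i) (z₀ ^ j) := (Commute.refl z₀).zpow_zpow i j
      calc a1 * z₀ ^ i * (b1 * z₀ ^ j) = a1 * (z₀ ^ i * b1) * z₀ ^ j := by group
        _ = a1 * (b1 * z₀ ^ i) * z₀ ^ j := by rw [e3.eq]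
        _ = (a1 * b1) * (z₀ ^ i * z₀ ^ j) := by group
        _ = (b1 * a1) * (z₀ ^ j * z₀ ^ i) := by rw [e1.eq, e4.eq]
        _ = b1 * (a1 * z₀ ^ j) * z₀ ^ i := by group
        _ = b1 * (z₀ ^ j * a1) * z₀ ^ i := by rw [e2.eq]
        _ = b1 * z₀ ^ j * (a1 * z₀ ^ i) := by group
    have hAexp : ∀ a ∈ L ⊔ Subgroup.zpowers z₀, a ^ p = 1 := by
      intro a ha
      obtain ⟨a1, ha1, a2, ha2, rfl⟩ := Helper30.mem_sup_of_commute hcomm ha
      have h1 : Commute a1 a2 := hcomm a1 ha1 a2 ha2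
      rw [h1.mul_pow]
      have h2 : a1 ^ p = 1 := by
        have := pow_card_eq_one' (G := ↥L) (x := ⟨a1, ha1⟩)
        rw [hcL] at this
        exact congrArg Subtype.val this
      have h3 : a2 ^ p = 1 := by
        obtain ⟨i, rfl⟩ := Subgroup.mem_zpowers_iff.mp ha2
        rw [← zpow_natCast, ← zpow_mul, mul_comm, zpow_mul, zpow_natCast, ← hz₀ord,
          pow_orderOf_eq_one, one_zpow]
      rw [h2, h3, one_mul]
    have hcard := hrk _ hAcomm hAexp
    rw [pow_one] at hcard
    have hLA : L = L ⊔ Subgroup.zpowers z₀ :=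
      Subgroup.eq_of_le_of_card_ge le_sup_left (by rw [hcL]; exact hcard)
    have hZL : Subgroup.zpowers z₀ ≤ L := by
      rw [hLA]; exact le_sup_right
    exact hne (Subgroup.eq_of_le_of_card_ge hZL (by rw [hcL, hcZ])).symm
  rw [key H hH hcH, key K hK hcK]

theorem aux {G : Type*} [Group G] [Finite G] {p : ℕ} [Fact p.Prime]
    (hrk : Cfsg.PRankLE p 1 G) (x : G) (hx : orderOf x = p) (hiso : Cfsg.IsIsolated x)
    (hS3977 : ∀ (P : Sylow p G) (m : ℕ), Nat.card ↥(P : Subgroup G) = p ^ m → 1 < m →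
      (∀ H K : Subgroup ↥(P : Subgroup G), Nat.card H = p ^ 1 → Nat.card K = p ^ 1 → H = K) →
      IsCyclic ↥(P : Subgroup G)) :
    Cfsg.InZStar p x := by
  have hxp : ∃ k : ℕ, x ^ (p ^ k) = 1 := ⟨1, by rw [pow_one, ← hx]; exact pow_orderOf_eq_one x⟩
  have hx1 : x ≠ 1 := by
    intro h
    rw [h, orderOf_one] at hx
    exact (Fact.out : p.Prime).one_lt.ne hx
  have hcyc : ∀ P : Sylow p G, IsCyclic ↥(P : Subgroup G) := by
    intro P
    obtain ⟨m, hm⟩ := IsPGroup.iff_card.mp P.2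
    rcases Nat.lt_or_ge 1 m with h1 | h1
    · apply hS3977 P m hm h1
      intro H K hH hK
      rw [pow_one] at hH hK
      have hnt : Nontrivial ↥(P : Subgroup G) := by
        rw [← Finite.one_lt_card_iff_nontrivial, hm]
        exact Nat.one_lt_pow (by omega) (Fact.out : p.Prime).one_lt
      have h2 := unique_order_p hrk P hnt (H.map (P : Subgroup G).subtype)
        (K.map (P : Subgroup G).subtype) (Subgroup.map_subtype_le _) (Subgroup.map_subtype_le _)
        (by rw [Helper30.card_map_subtype]; exact hH) (by rw [Helper30.card_map_subtype]; exact hK)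
      exact Subgroup.map_injective (Subgroup.subtype_injective _) h2
    · interval_cases m
      · rw [pow_zero] at hm
        have : Subsingleton ↥(P : Subgroup G) := (Nat.card_eq_one_iff_unique.mp hm).1
        exact isCyclic_of_subsingleton
      · rw [pow_one] at hm
        exact isCyclic_of_prime_card hm
  obtain ⟨P, N, hN, hcompl⟩ := isolated_cyclic_hasNormalPComplement hxp hiso hx1 hcyc
  have hNc : (Nat.card ↥N).Coprime p := by
    rw [← hcompl.index_eq_card]
    exact ((Nat.Prime.coprime_iff_not_dvd Fact.out).mpr P.not_dvd_index).symm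
  have hNle : N ≤ pPrimeCore p G := Helper30.le_pPrimeCore_of_normal hN hNc
  have hPcomm : ∀ a ∈ (P : Subgroup G), ∀ b ∈ (P : Subgroup G), a * b = b * a := by
    intro a ha b hb
    have hc := hcyc P
    have := (IsCyclic.isMulCommutative (α := ↥(P : Subgroup G))).is_comm.comm ⟨a, ha⟩ ⟨b, hb⟩
    exact congrArg Subtype.val this
  have hdec : ∀ g : G, ∃ n ∈ N, ∃ u ∈ (P : Subgroup G), g = n * u := by
    intro g
    obtain ⟨⟨n, u⟩, hnu, -⟩ := Subgroup.isComplement_iff_existsUnique.mp hcompl g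
    exact ⟨n, n.2, u, u.2, hnu.symm⟩
  intro g
  apply hNle
  obtain ⟨n, hn, u, hu, rfl⟩ := hdec g
  obtain ⟨n', hn', u', hu', hxe⟩ := hdec x
  haveI := hN
  rw [← QuotientGroup.eq_one_iff (N := N), hxe]
  simp only [QuotientGroup.mk_mul, QuotientGroup.mk_inv, (QuotientGroup.eq_one_iff n).mpr hn,
    (QuotientGroup.eq_one_iff n').mpr hn', one_mul]
  have h5 : (QuotientGroup.mk u : G ⧸ N) * QuotientGroup.mk u' =
      QuotientGroup.mk u' * QuotientGroup.mk u := by
    rw [← QuotientGroup.mk_mul, ← QuotientGroup.mk_mul, hPcomm u hu u' hu']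
  rw [h5]
  group

/-- Let G be a finite group and p an odd prime such that G has p-rank at most 1 (no elementary abelian subgroup of order p²). If x ∈ G is an isolated element of order p, then x is central modulo the largest normal subgroup of G of order prime to p. -/
theorem result {G : Type*} [Group G] [Finite G] {p : ℕ} [Fact p.Prime] (hp : p ≠ 2) (hrk : Cfsg.PRankLE p 1 G) (x : G) (hx : orderOf x = p) (hiso : Cfsg.IsIsolated x) : Cfsg.InZStar p x := by
  exact aux hrk x hx hiso (fun P m hm h1 hu =>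
    Cfsg.Agent.S3977.result p m 1 Fact.out hm le_rfl h1 (Or.inl hp) hu)

end Cfsg.Agent.S2971
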