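import Cfsg.Statements.S2972
import Mathlib
import Cfsg.Agent.Lib.Helper30.Cores
import Cfsg.Agent.Lib.Helper58.Isolated
import Cfsg.Agent.Lib.Helper58.SylowConj
import Cfsg.Agent.Lib.Helper58.ZStar

set_option autoImplicit false
open Cfsg

namespace Cfsg.Agent.S2972


open Cfsg.Agent.Lib Cfsg.Agent.Lib.Helper58

open scoped Pointwise in
/-- decomposition of elements of `G` with respect to `N ⊔ zpowers y = ⊤` -/
theorem decomp {G : Type*} [Group G] (N : Subgroup G) [N.Normal] (y : G)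
    (h : N ⊔ Subgroup.zpowers y = ⊤) (a : G) : ∃ n ∈ N, ∃ i : ℤ, a = n * y ^ i := by
  have ha : a ∈ N ⊔ Subgroup.zpowers y := h ▸ Subgroup.mem_top a
  have : a ∈ ((N : Set G) * (Subgroup.zpowers y : Set G)) := by
    rw [← Subgroup.normal_mul]; exact ha
  obtain ⟨n, hn, z, hz, rfl⟩ := Set.mem_mul.mp this
  obtain ⟨i, rfl⟩ := Subgroup.mem_zpowers_iff.mp hz
  exact ⟨n, hn, i, rfl⟩

theorem conj_commute {G : Type*} [Group G] {x g d : G} (h : Commute x (g * d * g⁻¹)) :
    Commute (g⁻¹ * x * g) d := by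
  have h1 : x * (g * d * g⁻¹) = (g * d * g⁻¹) * x := h
  show g⁻¹ * x * g * d = d * (g⁻¹ * x * g)
  calc g⁻¹ * x * g * d = g⁻¹ * (x * (g * d * g⁻¹)) * g := by group
    _ = g⁻¹ * ((g * d * g⁻¹) * x) * g := by rw [h1]
    _ = d * (g⁻¹ * x * g) := by group

open scoped commutatorElement in
theorem sup_conj_eq_top {G : Type*} [Group G] {x g : G}
    (h : commutator G ⊔ Subgroup.zpowers x = ⊤) :
    commutator G ⊔ Subgroup.zpowers (g⁻¹ * x * g) = ⊤ := by
  rw [eq_top_iff, ← h]
  refine sup_le le_sup_left ?_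
  rw [Subgroup.zpowers_le]
  have h1 : ⁅x, g⁻¹⁆ ∈ commutator G := by
    rw [commutator_def]
    exact Subgroup.commutator_mem_commutator (Subgroup.mem_top x) (Subgroup.mem_top g⁻¹)
  have h2 : x = ⁅x, g⁻¹⁆ * (g⁻¹ * x * g) := by
    rw [commutatorElement_def]; group
  have h3 : ⁅x, g⁻¹⁆ * (g⁻¹ * x * g) ∈ commutator G ⊔ Subgroup.zpowers (g⁻¹ * x * g) :=
    Subgroup.mul_mem _ ((le_sup_left : commutator G ≤ _) h1)
      ((le_sup_right : Subgroup.zpowers (g⁻¹ * x * g) ≤ _) (Subgroup.mem_zpowers _))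
  rw [← h2] at h3
  exact h3

theorem mem_core {G : Type*} [Group G] (N : Subgroup G) [N.Normal] (Tm : Subgroup G)
    (hT : ∀ n ∈ N, ∀ t ∈ Tm, n * t * n⁻¹ ∈ Tm) (d y : G) (hd : d ∈ Tm) (hcom : Commute y d)
    (hsup : N ⊔ Subgroup.zpowers y = ⊤) : d ∈ Tm.normalCore := by
  intro b
  obtain ⟨n, hn, i, rfl⟩ := decomp N y hsup b
  have h1 : y ^ i * d * (y ^ i)⁻¹ = d := by
    rw [(hcom.zpow_left i).eq]; group
  have h2 : n * y ^ i * d * (n * y ^ i)⁻¹ = n * (y ^ i * d * (y ^ i)⁻¹) * n⁻¹ := by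
    group
  rw [h2, h1]
  exact hT n hn d hd

open scoped commutatorElement in
theorem comm_le {G : Type*} [Group G] (N : Subgroup G) [N.Normal] (x : G)
    (h : N ⊔ Subgroup.zpowers x = ⊤) : commutator G ≤ N := by
  rw [commutator_def, Subgroup.commutator_le]
  intro a _ b _
  obtain ⟨n, hn, i, rfl⟩ := decomp N x h a
  obtain ⟨m, hm, j, rfl⟩ := decomp N x h b
  rw [← QuotientGroup.eq_one_iff]
  simp only [commutatorElement_def, QuotientGroup.mk_mul, QuotientGroup.mk_inv,
    (QuotientGroup.eq_one_iff n).mpr hn, (QuotientGroup.eq_one_iff m).mpr hm, one_mul,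
    QuotientGroup.mk_zpow]
  have hc : Commute ((QuotientGroup.mk x : G ⧸ N) ^ i) ((QuotientGroup.mk x : G ⧸ N) ^ j) :=
    (Commute.refl _).zpow_zpow i j
  rw [hc.eq]
  group

open scoped commutatorElement in
theorem aux {G : Type*} [Group G] [Finite G] {p : ℕ} [Fact p.Prime] (x : G) (hx : orderOf x = p)
    (hiso : Cfsg.IsIsolated x) (hnz : ¬ Cfsg.InZStar p x)
    (hmin : ∀ (H : Subgroup G) (hxH : x ∈ H), H ≠ ⊤ → Cfsg.InZStar p (⟨x, hxH⟩ : ↥H))
    (hquot : ∀ (N : Subgroup G) [N.Normal], N ≠ ⊥ →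
      Cfsg.InZStar p (QuotientGroup.mk x : G ⧸ N)) :
    IsSimpleGroup ↥(commutator G) ∧ ¬ IsMulCommutative ↥(commutator G) ∧
      commutator G ⊔ Subgroup.zpowers x = ⊤ := by
  have hO := pPrimeCore_eq_bot_of_min hnz hquot
  have key : ∀ (N : Subgroup G) [N.Normal], N ≠ ⊥ → N ⊔ Subgroup.zpowers x = ⊤ :=
    fun N _ hne => normal_sup_zpowers_eq_top hx hiso hnz hmin hquot N hne
  have hcomm_le : ∀ (N : Subgroup G) [N.Normal], N ≠ ⊥ → commutator G ≤ N :=
    fun N _ hne => comm_le N x (key N hne)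
  have hxcentral_false : (∀ g : G, g * x * g⁻¹ = x) → False := fun h =>
    hnz ((inZStar_iff hO).mpr h)
  have hG'ne : commutator G ≠ ⊥ := by
    intro h
    apply hxcentral_false
    intro g
    have h1 : ⁅g, x⁆ ∈ commutator G := by
      rw [commutator_def]
      exact Subgroup.commutator_mem_commutator (Subgroup.mem_top g) (Subgroup.mem_top x)
    rw [h, Subgroup.mem_bot, commutatorElement_def] at h1
    exact mul_inv_eq_one.mp h1
  have hG'n : (commutator G).Normal := inferInstance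
  have hthird : commutator G ⊔ Subgroup.zpowers x = ⊤ := key (commutator G) hG'ne
  have hOG' : pPrimeCore p ↥(commutator G) = ⊥ := pPrimeCore_subgroup_eq_bot hO hG'n
  obtain ⟨P₀, hP₀⟩ := (isPGroup_zpowers (p := p) x
    ⟨1, by rw [pow_one, ← hx]; exact pow_orderOf_eq_one x⟩).exists_le_sylow
  have hxP₀ : x ∈ (P₀ : Subgroup G) := hP₀ (Subgroup.mem_zpowers x)
  refine ⟨?_, ?_, hthird⟩
  · -- simplicity
    have hnt : Nontrivial ↥(commutator G) := (Subgroup.nontrivial_iff_ne_bot _).mpr hG'ne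
    refine ⟨fun T hT => ?_⟩
    by_contra hcon
    rw [not_or] at hcon
    obtain ⟨hTbot, hTtop⟩ := hcon
    have hpT : p ∣ Nat.card ↥T := by
      by_contra hnd
      have hc : (Nat.card ↥T).Coprime p :=
        ((Nat.Prime.coprime_iff_not_dvd Fact.out).mpr hnd).symm
      exact hTbot (normal_coprime_eq_bot hOG' hT hc)
    obtain ⟨d, hd⟩ := exists_prime_orderOf_dvd_card' (G := ↥T) p hpT
    obtain ⟨d₀, hd₀def⟩ : ∃ d₀ : G, d₀ = ((d : ↥(commutator G)) : G) := ⟨_, rfl⟩
    have hd₀ : orderOf d₀ = p := by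
      rw [hd₀def, Subgroup.orderOf_coe, Subgroup.orderOf_coe]; exact hd
    have hd₀T : d₀ ∈ T.map (commutator G).subtype := ⟨d, d.2, hd₀def.symm⟩
    have hd₀ne : d₀ ≠ 1 := by
      intro h
      rw [h, orderOf_one] at hd₀
      exact (Fact.out : p.Prime).one_lt.ne hd₀
    obtain ⟨g, hg⟩ := exists_conj_mem_sylow P₀ d₀
      ⟨1, by rw [pow_one, ← hd₀]; exact pow_orderOf_eq_one _⟩
    have hcom := isolated_commute_of_mem_pGroup hiso P₀ P₀.2 hxP₀ _ hg
    have hcom' : Commute (g⁻¹ * x * g) d₀ := conj_commute hcom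
    have hsup : commutator G ⊔ Subgroup.zpowers (g⁻¹ * x * g) = ⊤ := sup_conj_eq_top hthird
    have hdcore : d₀ ∈ (T.map (commutator G).subtype).normalCore := by
      apply mem_core (commutator G) _ _ d₀ (g⁻¹ * x * g) hd₀T hcom' hsup
      rintro n hn _ ⟨t, ht, rfl⟩
      exact ⟨(⟨n, hn⟩ : ↥(commutator G)) * t * (⟨n, hn⟩ : ↥(commutator G))⁻¹,
        hT.conj_mem t ht _, rfl⟩
    have hcore_ne : (T.map (commutator G).subtype).normalCore ≠ ⊥ := by
      intro h
      rw [h, Subgroup.mem_bot] at hdcore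
      exact hd₀ne hdcore
    have hle := (hcomm_le _ hcore_ne).trans (Subgroup.normalCore_le _)
    apply hTtop
    rw [eq_top_iff]
    intro t _
    obtain ⟨t', ht', htt⟩ := hle t.2
    have : t' = t := Subtype.ext htt
    rw [← this]; exact ht'
  · -- non-commutativity
    intro hcomm
    have hG'p : IsPGroup p ↥(commutator G) :=
      isPGroup_of_comm_of_pPrimeCore_eq_bot (fun a b => hcomm.is_comm.comm a b) hOG'
    have hle : commutator G ≤ P₀ := hG'p.le_sylow_of_normal P₀
    have htop : (P₀ : Subgroup G) = ⊤ := by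
      rw [eq_top_iff, ← hthird]
      exact sup_le hle hP₀
    apply hxcentral_false
    intro g
    have := isolated_commute_of_mem_pGroup hiso P₀ P₀.2 hxP₀ g (htop ▸ Subgroup.mem_top g)
    have h1 : x * g = g * x := this
    rw [← h1]; group

/-- Let G be a finite group, p a prime and x ∈ G an isolated element of order p (the only conjugate of x commuting with x is x) which is not central modulo the largest normal subgroup of order prime to p, while x is central modulo the largest normal subgroup of order prime to p in every proper subgroup containing x, and the image of x is so in every quotient of G by a nontrivial normal subgroup (a minimal counterexample to the Z*_p statement). Then the derived subgroup G' is a non-abelian simple group and G = G'⟨x⟩. -/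
theorem result {G : Type*} [Group G] [Finite G] {p : ℕ} [Fact p.Prime] (x : G) (hx : orderOf x = p) (hiso : Cfsg.IsIsolated x) (hnz : ¬ Cfsg.InZStar p x) (hmin : ∀ (H : Subgroup G) (hxH : x ∈ H), H ≠ ⊤ → Cfsg.InZStar p (⟨x, hxH⟩ : ↥H)) (hquot : ∀ (N : Subgroup G) [N.Normal], N ≠ ⊥ → Cfsg.InZStar p (QuotientGroup.mk x : G ⧸ N)) : IsSimpleGroup ↥(commutator G) ∧ ¬ IsMulCommutative ↥(commutator G) ∧ commutator G ⊔ Subgroup.zpowers x = ⊤ := by
  exact aux x hx hiso hnz hmin hquot

end Cfsg.Agent.S2972
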