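import Cfsg.Statements.S2975
import Mathlib
import Cfsg.Agent.Lib.Helper30.Cores
import Cfsg.Agent.Lib.Helper58.Isolated
import Cfsg.Agent.Lib.Helper58.SylowConj
import Cfsg.Agent.Lib.Helper58.SylowControl
import Cfsg.Agent.Lib.Helper58.FunctorRegular
import Cfsg.Agent.Lib.Helper58.PLocal
import Cfsg.Agent.Lib.Helper58.ZStar
import Cfsg.Agent.Lib.Helper58.InvSylow

set_option autoImplicit false
open Cfsg

namespace Cfsg.Agent.S2975


open Cfsg.Agent.Lib Cfsg.Agent.Lib.Helper58

/-- Every `q`-subgroup `T₁` of `H = N_G(Q)` lies in `Q`, for `Q` a maximal `x`-invariant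
`q`-subgroup (`q ≠ p`) such that `x` is central modulo `O_{p'}` in `H`. -/
theorem le_of_le_normalizer {G : Type*} [Group G] [Finite G] {p q : ℕ} [Fact p.Prime]
    [Fact q.Prime] (hqp : q ≠ p) (x : G) (hxp : ∃ k : ℕ, x ^ (p ^ k) = 1) (Q : Subgroup G)
    (hQ : IsPGroup q ↥Q) (hxH : x ∈ Subgroup.normalizer (Q : Set G))
    (hmax : ∀ R : Subgroup G, IsPGroup q ↥R → x ∈ Subgroup.normalizer (R : Set G) → Q ≤ R → R = Q)
    (hz : Cfsg.InZStar p (⟨x, hxH⟩ : ↥(Subgroup.normalizer (Q : Set G))))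
    (T₁ : Subgroup G) (hT₁ : IsPGroup q ↥T₁) (hT₁H : T₁ ≤ Subgroup.normalizer (Q : Set G)) :
    T₁ ≤ Q := by
  have hcopq : ∀ k : ℕ, (q ^ k).Coprime p := fun k =>
    Nat.Coprime.pow_left k ((Nat.coprime_primes Fact.out Fact.out).mpr hqp)
  have hK'n : (pPrimeCore p ↥(Subgroup.normalizer (Q : Set G))).Normal := pPrimeCore_normal' p
  have hK'c : (Nat.card ↥(pPrimeCore p ↥(Subgroup.normalizer (Q : Set G)))).Coprime p :=
    Helper30.pPrimeCore_coprime p
  -- K₁' = K' ⊔ T₁' inside H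
  have hT₁'card : Nat.card ↥(T₁.subgroupOf (Subgroup.normalizer (Q : Set G))) = Nat.card ↥T₁ :=
    Nat.card_congr (Subgroup.subgroupOfEquivOfLe hT₁H).toEquiv
  have hK₁'c : ¬ p ∣ Nat.card ↥((pPrimeCore p ↥(Subgroup.normalizer (Q : Set G)) ⊔
      T₁.subgroupOf (Subgroup.normalizer (Q : Set G))).map
      (Subgroup.normalizer (Q : Set G)).subtype) := by
    rw [Helper30.card_map_subtype]
    intro hdvd
    have h1 := hdvd.trans (Helper30.card_sup_dvd (pPrimeCore p ↥(Subgroup.normalizer (Q : Set G)))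
      (T₁.subgroupOf (Subgroup.normalizer (Q : Set G))))
    obtain ⟨k, hk⟩ := IsPGroup.iff_card.mp hT₁
    rw [hT₁'card, hk] at h1
    have h2 : (Nat.card ↥(pPrimeCore p ↥(Subgroup.normalizer (Q : Set G))) * q ^ k).Coprime p :=
      Nat.Coprime.mul_left hK'c (hcopq k)
    exact (Nat.Prime.coprime_iff_not_dvd Fact.out).mp h2.symm h1
  -- x normalizes K₁' in H
  have hx' : ∀ y ∈ pPrimeCore p ↥(Subgroup.normalizer (Q : Set G)) ⊔
      T₁.subgroupOf (Subgroup.normalizer (Q : Set G)),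
      (⟨x, hxH⟩ : ↥(Subgroup.normalizer (Q : Set G))) * y *
        (⟨x, hxH⟩ : ↥(Subgroup.normalizer (Q : Set G)))⁻¹ ∈
      pPrimeCore p ↥(Subgroup.normalizer (Q : Set G)) ⊔
        T₁.subgroupOf (Subgroup.normalizer (Q : Set G)) := by
    have hle : pPrimeCore p ↥(Subgroup.normalizer (Q : Set G)) ⊔
        T₁.subgroupOf (Subgroup.normalizer (Q : Set G)) ≤
        (pPrimeCore p ↥(Subgroup.normalizer (Q : Set G)) ⊔
          T₁.subgroupOf (Subgroup.normalizer (Q : Set G))).comap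
          (MulAut.conj (⟨x, hxH⟩ : ↥(Subgroup.normalizer (Q : Set G)))).toMonoidHom := by
      apply sup_le
      · intro y hy
        rw [Subgroup.mem_comap]
        exact (le_sup_left : pPrimeCore p ↥(Subgroup.normalizer (Q : Set G)) ≤ _)
          (hK'n.conj_mem y hy _)
      · intro t ht
        rw [Subgroup.mem_comap]
        have h1 := hz t⁻¹
        rw [inv_inv] at h1
        have h2 : (MulAut.conj (⟨x, hxH⟩ : ↥(Subgroup.normalizer (Q : Set G)))).toMonoidHom t =
            t * (t⁻¹ * (⟨x, hxH⟩ : ↥(Subgroup.normalizer (Q : Set G))) * t *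
              (⟨x, hxH⟩ : ↥(Subgroup.normalizer (Q : Set G)))⁻¹) := by
          simp [MulAut.conj_apply, mul_assoc]
        rw [h2]
        exact Subgroup.mul_mem _ ((le_sup_right : T₁.subgroupOf _ ≤ _) ht)
          ((le_sup_left : pPrimeCore p ↥(Subgroup.normalizer (Q : Set G)) ≤ _) h1)
    intro y hy
    have := hle hy
    rw [Subgroup.mem_comap] at this
    simpa [MulAut.conj_apply] using this
  have hxK₁ : x ∈ Subgroup.normalizer ((((pPrimeCore p ↥(Subgroup.normalizer (Q : Set G)) ⊔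
      T₁.subgroupOf (Subgroup.normalizer (Q : Set G))).map
      (Subgroup.normalizer (Q : Set G)).subtype : Subgroup G)) : Set G) := by
    apply mem_normalizer_of_conj_mem
    rintro _ ⟨y, hy, rfl⟩
    exact ⟨_, hx' y hy, rfl⟩
  obtain ⟨T₂, hT₂⟩ := exists_invariant_sylow (q := q) _ x hxK₁ hxp hK₁'c
  -- Q ≤ K₁
  have hQsub_n : (Q.subgroupOf (Subgroup.normalizer (Q : Set G))).Normal :=
    (Subgroup.normal_subgroupOf_iff_le_normalizer Subgroup.le_normalizer).mpr le_rfl
  have hQsub_c : (Nat.card ↥(Q.subgroupOf (Subgroup.normalizer (Q : Set G)))).Coprime p := by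
    rw [Nat.card_congr (Subgroup.subgroupOfEquivOfLe
      (Subgroup.le_normalizer : Q ≤ Subgroup.normalizer (Q : Set G))).toEquiv]
    obtain ⟨k, hk⟩ := IsPGroup.iff_card.mp hQ
    rw [hk]; exact hcopq k
  have hQK' : Q.subgroupOf (Subgroup.normalizer (Q : Set G)) ≤
      pPrimeCore p ↥(Subgroup.normalizer (Q : Set G)) :=
    Helper30.le_pPrimeCore_of_normal hQsub_n hQsub_c
  have hK₁H : (pPrimeCore p ↥(Subgroup.normalizer (Q : Set G)) ⊔
      T₁.subgroupOf (Subgroup.normalizer (Q : Set G))).map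
      (Subgroup.normalizer (Q : Set G)).subtype ≤ Subgroup.normalizer (Q : Set G) :=
    Subgroup.map_subtype_le _
  have hQK₁ : Q ≤ (pPrimeCore p ↥(Subgroup.normalizer (Q : Set G)) ⊔
      T₁.subgroupOf (Subgroup.normalizer (Q : Set G))).map
      (Subgroup.normalizer (Q : Set G)).subtype := by
    intro y hy
    exact ⟨⟨y, Subgroup.le_normalizer hy⟩,
      (le_sup_left : pPrimeCore p ↥(Subgroup.normalizer (Q : Set G)) ≤ _)
        (hQK' (Subgroup.mem_subgroupOf.mpr hy)), rfl⟩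
  have hT₁K₁ : T₁ ≤ (pPrimeCore p ↥(Subgroup.normalizer (Q : Set G)) ⊔
      T₁.subgroupOf (Subgroup.normalizer (Q : Set G))).map
      (Subgroup.normalizer (Q : Set G)).subtype := by
    intro y hy
    exact ⟨⟨y, hT₁H hy⟩, (le_sup_right : T₁.subgroupOf _ ≤ _) (Subgroup.mem_subgroupOf.mpr hy),
      rfl⟩
  -- Q.subgroupOf K₁ is a normal q-subgroup of K₁, hence inside T₂
  have hQn : (Q.subgroupOf ((pPrimeCore p ↥(Subgroup.normalizer (Q : Set G)) ⊔
      T₁.subgroupOf (Subgroup.normalizer (Q : Set G))).map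
      (Subgroup.normalizer (Q : Set G)).subtype)).Normal :=
    (Subgroup.normal_subgroupOf_iff_le_normalizer hQK₁).mpr hK₁H
  have hQT₂ : Q.subgroupOf ((pPrimeCore p ↥(Subgroup.normalizer (Q : Set G)) ⊔
      T₁.subgroupOf (Subgroup.normalizer (Q : Set G))).map
      (Subgroup.normalizer (Q : Set G)).subtype) ≤ T₂ := by
    have hQp : IsPGroup q ↥(Q.subgroupOf ((pPrimeCore p ↥(Subgroup.normalizer (Q : Set G)) ⊔
      T₁.subgroupOf (Subgroup.normalizer (Q : Set G))).map
      (Subgroup.normalizer (Q : Set G)).subtype)) := hQ.comap_subtype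
    exact @IsPGroup.le_sylow_of_normal _ _ _ _ hQn hQp T₂
  have hQT₂m : Q ≤ (T₂.toSubgroup).map (Subgroup.subtype _) := by
    intro y hy
    exact ⟨⟨y, hQK₁ hy⟩, hQT₂ (Subgroup.mem_subgroupOf.mpr hy), rfl⟩
  have hT₂Q := hmax _ (T₂.2.map _) hT₂ hQT₂m
  have hT₂eq : T₂.toSubgroup = Q.subgroupOf ((pPrimeCore p ↥(Subgroup.normalizer (Q : Set G)) ⊔
      T₁.subgroupOf (Subgroup.normalizer (Q : Set G))).map
      (Subgroup.normalizer (Q : Set G)).subtype) := by
    ext y
    rw [Subgroup.mem_subgroupOf]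
    constructor
    · intro hy
      exact hT₂Q.le ⟨y, hy, rfl⟩
    · intro hy
      obtain ⟨y', hy', hyy⟩ := hT₂Q.ge hy
      have : y' = y := Subtype.ext hyy
      exact this ▸ hy'
  have hT₂n : (T₂.toSubgroup).Normal := hT₂eq ▸ hQn
  -- T₁ inside K₁ is a q-subgroup, contained in a Sylow subgroup, which must be T₂
  obtain ⟨T₃, hT₃⟩ := (hT₁.comap_subtype (K := (pPrimeCore p ↥(Subgroup.normalizer (Q : Set G)) ⊔
      T₁.subgroupOf (Subgroup.normalizer (Q : Set G))).map
      (Subgroup.normalizer (Q : Set G)).subtype)).exists_le_sylow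
  obtain ⟨k, hk⟩ := MulAction.exists_smul_eq
    (↥((pPrimeCore p ↥(Subgroup.normalizer (Q : Set G)) ⊔
      T₁.subgroupOf (Subgroup.normalizer (Q : Set G))).map
      (Subgroup.normalizer (Q : Set G)).subtype)) T₂ T₃
  rw [Sylow.smul_eq_of_normal] at hk
  intro y hy
  have h1 : (⟨y, hT₁K₁ hy⟩ : ↥((pPrimeCore p ↥(Subgroup.normalizer (Q : Set G)) ⊔
      T₁.subgroupOf (Subgroup.normalizer (Q : Set G))).map
      (Subgroup.normalizer (Q : Set G)).subtype)) ∈ T₃.toSubgroup :=
    hT₃ (Subgroup.mem_subgroupOf.mpr hy)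
  rw [← hk, hT₂eq, Subgroup.mem_subgroupOf] at h1
  exact h1

theorem aux {G : Type*} [Group G] [Finite G] {p : ℕ} [Fact p.Prime] (x : G) (hx : orderOf x = p)
    (hiso : Cfsg.IsIsolated x) (hnz : ¬ Cfsg.InZStar p x)
    (hmin : ∀ (H : Subgroup G) (hxH : x ∈ H), H ≠ ⊤ → Cfsg.InZStar p (⟨x, hxH⟩ : ↥H))
    (hquot : ∀ (N : Subgroup G) [N.Normal], N ≠ ⊥ →
      Cfsg.InZStar p (QuotientGroup.mk x : G ⧸ N)) (q : ℕ) [Fact q.Prime] :
    (∀ Q : Subgroup G, IsPGroup q ↥Q → x ∈ Subgroup.normalizer (Q : Set G) →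
      (∀ R : Subgroup G, IsPGroup q ↥R → x ∈ Subgroup.normalizer (R : Set G) → Q ≤ R → R = Q) →
      Q = ⊥ ∨ ∃ S : Sylow q G, (S : Subgroup G) = Q) ∧
    (∀ S₁ S₂ : Sylow q G, x ∈ Subgroup.normalizer ((S₁ : Subgroup G) : Set G) →
      x ∈ Subgroup.normalizer ((S₂ : Subgroup G) : Set G) →
      ∃ c ∈ Subgroup.centralizer ({x} : Set G),
        (S₁ : Subgroup G).map (MulAut.conj c).toMonoidHom = (S₂ : Subgroup G)) := by
  have hxp : ∃ k : ℕ, x ^ (p ^ k) = 1 := ⟨1, by rw [pow_one, ← hx]; exact pow_orderOf_eq_one x⟩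
  constructor
  · intro Q hQ hxQ hmax
    by_cases hQbot : Q = ⊥
    · exact Or.inl hQbot
    right
    by_cases hqp : q = p
    · subst hqp
      have hZ : IsPGroup q ↥(Subgroup.zpowers x) := isPGroup_zpowers x hxp
      have hsup : IsPGroup q ↥(Subgroup.zpowers x ⊔ Q) :=
        IsPGroup.to_sup_of_normal_right' hZ hQ ((Subgroup.zpowers_le).mpr hxQ)
      have hxsup : x ∈ Subgroup.zpowers x ⊔ Q :=
        (le_sup_left : Subgroup.zpowers x ≤ _) (Subgroup.mem_zpowers x)
      have h1 := hmax _ hsup (Subgroup.le_normalizer hxsup) le_sup_right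
      have hxQ' : x ∈ Q := h1 ▸ hxsup
      obtain ⟨P, hP⟩ := hQ.exists_le_sylow
      have hxP : x ∈ (P : Subgroup G) := hP hxQ'
      have hxNP : x ∈ Subgroup.normalizer ((P : Subgroup G) : Set G) := by
        apply mem_normalizer_of_conj_mem
        intro y hy
        have hc := isolated_commute_of_mem_pGroup hiso P P.2 hxP y hy
        have h2 : x * y * x⁻¹ = y := by
          have h3 : x * y = y * x := hc
          rw [h3]; group
        rw [h2]; exact hy
      exact ⟨P, hmax _ P.2 hxNP hP⟩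
    · -- q ≠ p
      have hne : Subgroup.normalizer (Q : Set G) ≠ ⊤ := by
        intro htop
        have hQn : Q.Normal := Subgroup.normalizer_eq_top_iff.mp htop
        have hc : (Nat.card ↥Q).Coprime p := by
          obtain ⟨k, hk⟩ := IsPGroup.iff_card.mp hQ
          rw [hk]
          exact Nat.Coprime.pow_left k ((Nat.coprime_primes Fact.out Fact.out).mpr hqp)
        exact hnz (inZStar_of_quotient_coprime Q hc (hquot Q hQbot))
      have hz := hmin _ hxQ hne
      obtain ⟨R, hR⟩ := hQ.exists_le_sylow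
      have hT₁ := le_of_le_normalizer hqp x hxp Q hQ hxQ hmax hz
        (Subgroup.normalizer (Q : Set G) ⊓ (R : Subgroup G)) (R.2.to_le inf_le_right) inf_le_left
      refine ⟨R, ?_⟩
      by_contra hQR
      have hlt := card_lt_card_normalizer_inf hR (fun h => hQR h.symm)
      have hle := Subgroup.card_le_of_le hT₁
      omega
  · intro S₁ S₂ h1 h2
    obtain ⟨g, hg⟩ := MulAction.exists_smul_eq G S₁ S₂
    have hgx : g⁻¹ * x * g⁻¹⁻¹ ∈ Subgroup.normalizer ((S₁ : Subgroup G) : Set G) := by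
      apply mem_normalizer_of_conj_mem
      intro y hy
      have h3 : g * y * g⁻¹ ∈ (S₂ : Subgroup G) := hg ▸ conj_mem_smul_sylow hy
      have h4 : x * (g * y * g⁻¹) * x⁻¹ ∈ (S₂ : Subgroup G) :=
        (Subgroup.mem_normalizer_iff.mp h2 _).mp h3
      rw [← hg, mem_smul_sylow_iff] at h4
      have h5 : g⁻¹ * x * g⁻¹⁻¹ * y * (g⁻¹ * x * g⁻¹⁻¹)⁻¹ = g⁻¹ * (x * (g * y * g⁻¹) * x⁻¹) * g := by
        group
      rw [h5]; exact h4
    obtain ⟨h, hh, hc⟩ := isolated_fusion hxp hiso _ h1 g⁻¹ hgx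
    refine ⟨(h * g⁻¹)⁻¹, Subgroup.inv_mem _ (mem_centralizer_singleton_iff.mpr hc), ?_⟩
    rw [← hg]
    ext y
    rw [Subgroup.mem_map_equiv, mem_smul_sylow_iff]
    have h6 : (MulAut.conj (h * g⁻¹)⁻¹).symm y = h * (g⁻¹ * y * g) * h⁻¹ := by
      rw [MulAut.conj_symm_apply]; group
    rw [h6]
    constructor
    · intro hy
      have := (Subgroup.mem_normalizer_iff.mp (Subgroup.inv_mem _ hh) _).mp hy
      simpa [mul_assoc] using this
    · intro hy
      exact (Subgroup.mem_normalizer_iff.mp hh _).mp hy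

/-- Let G be a finite group, p a prime and x ∈ G an isolated element of order p (the only conjugate of x commuting with x is x) which is not central modulo the largest normal subgroup of order prime to p, while x is central modulo the largest normal subgroup of order prime to p in every proper subgroup containing x, and the image of x is so in every quotient of G by a nontrivial normal subgroup (a minimal counterexample to the Z*_p statement). Then for every prime q, every q-subgroup of G that is normalized by x and maximal among the q-subgroups normalized by x is either trivial or a Sylow q-subgroup of G; and C_G(x) permutes the x-invariant Sylow q-subgroups of G transitively by conjugation. -/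
theorem result {G : Type*} [Group G] [Finite G] {p : ℕ} [Fact p.Prime] (x : G) (hx : orderOf x = p) (hiso : Cfsg.IsIsolated x) (hnz : ¬ Cfsg.InZStar p x) (hmin : ∀ (H : Subgroup G) (hxH : x ∈ H), H ≠ ⊤ → Cfsg.InZStar p (⟨x, hxH⟩ : ↥H)) (hquot : ∀ (N : Subgroup G) [N.Normal], N ≠ ⊥ → Cfsg.InZStar p (QuotientGroup.mk x : G ⧸ N)) (q : ℕ) [Fact q.Prime] : (∀ Q : Subgroup G, IsPGroup q ↥Q → x ∈ Subgroup.normalizer (Q : Set G) → (∀ R : Subgroup G, IsPGroup q ↥R → x ∈ Subgroup.normalizer (R : Set G) → Q ≤ R → R = Q) → Q = ⊥ ∨ ∃ S : Sylow q G, (S : Subgroup G) = Q) ∧ (∀ S₁ S₂ : Sylow q G, x ∈ Subgroup.normalizer ((S₁ : Subgroup G) : Set G) → x ∈ Subgroup.normalizer ((S₂ : Subgroup G) : Set G) → ∃ c ∈ Subgroup.centralizer ({x} : Set G), (S₁ : Subgroup G).map (MulAut.conj c).toMonoidHom = (S₂ : Subgroup G)) := by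
  exact aux x hx hiso hnz hmin hquot q

end Cfsg.Agent.S2975
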