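import Cfsg.Statements.S3023
import Cfsg.Agent.Lib.Helper57.CharP2
import Cfsg.Agent.Lib.Helper57.SylSubnormal

set_option autoImplicit false
open Cfsg

namespace Cfsg.Agent.S3023

open Cfsg.Agent.Lib.Helper57

/-- characteristic `p` passes to the intersection with a subnormal subgroup -/
theorem charP_inf_of_subnormal {G : Type*} [Group G] [Finite G] {p : ℕ} [Fact p.Prime]
    {K : Subgroup G} (hK : K.IsSubnormal) :
    ∀ X : Subgroup G, Subgroup.centralizer (pCore p ↥X : Set ↥X) ≤ pCore p ↥X →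
      Subgroup.centralizer (pCore p ↥(K ⊓ X) : Set ↥(K ⊓ X)) ≤ pCore p ↥(K ⊓ X) := by
  induction hK with
  | top =>
    intro X hX
    rw [top_inf_eq]
    exact hX
  | step H K h_le hSubn hN ih =>
    intro X hX
    have h1 := ih X hX
    refine charP_of_normal_of_le (inf_le_inf_right X h_le) ?_ h1
    have hHK : K ≤ Subgroup.normalizer (H : Set G) :=
      (Subgroup.normal_subgroupOf_iff_le_normalizer h_le).1 hN
    exact le_trans (le_inf (inf_le_left.trans hHK) (inf_le_right.trans Subgroup.le_normalizer))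
      Subgroup.inf_normalizer_le_normalizer_inf

/-- Let p be a prime, G a finite group of parabolic characteristic p (every p-local subgroup containing a Sylow p-subgroup of G has characteristic p), S a Sylow p-subgroup of G and G₁ a subnormal subgroup of G. If the centre of S ∩ G₁ is nontrivial and contained in the centre of S, then G₁ has parabolic characteristic p. -/
theorem result {G : Type*} [Group G] [Finite G] {p : ℕ} [Fact p.Prime] (hG : Cfsg.IsOfParabolicCharacteristic p G) (S : Sylow p G) (G₁ : Subgroup G) (hsn : G₁.IsSubnormal) (hne : ((S : Subgroup G) ⊓ G₁) ⊓ Subgroup.centralizer (((S : Subgroup G) ⊓ G₁ : Subgroup G) : Set G) ≠ ⊥) (hle : ((S : Subgroup G) ⊓ G₁) ⊓ Subgroup.centralizer (((S : Subgroup G) ⊓ G₁ : Subgroup G) : Set G) ≤ (S : Subgroup G) ⊓ Subgroup.centralizer ((S : Subgroup G) : Set G)) : Cfsg.IsOfParabolicCharacteristic p ↥G₁ := by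
  have hp : p.Prime := Fact.out
  intro R hR hRne hpar
  obtain ⟨T₁, hT₁⟩ := hpar
  have hRT : R ≤ (T₁ : Subgroup ↥G₁) := by
    have hsup : IsPGroup p ↥(R ⊔ (T₁ : Subgroup ↥G₁)) :=
      IsPGroup.to_sup_of_normal_left' hR T₁.isPGroup' hT₁
    have := T₁.is_maximal' hsup le_sup_right
    rw [← this]
    exact le_sup_left
  obtain ⟨z₁, hz₁R, hz₁p, hz₁c⟩ := exists_central_orderOf_of_normal T₁.isPGroup' hRT hT₁ hRne
  -- the Sylow subgroup `S ∩ G₁` of `G₁`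
  have hpg : IsPGroup p ↥(((S : Subgroup G) ⊓ G₁).subgroupOf G₁) :=
    (S.isPGroup'.to_le inf_le_left).comap_subtype
  have hidx : ¬ p ∣ (((S : Subgroup G) ⊓ G₁).subgroupOf G₁).index :=
    sylow_inf_subnormal_not_dvd hsn S
  obtain ⟨h, hh⟩ := MulAction.exists_smul_eq ↥G₁ T₁ (hpg.toSylow hidx)
  have hT₀ : ∀ x : ↥G₁, x ∈ ((h • T₁ : Sylow p ↥G₁) : Subgroup ↥G₁) ↔
      (x : G) ∈ (S : Subgroup G) := by
    intro x
    rw [hh, IsPGroup.toSylow_coe, Subgroup.mem_subgroupOf, Subgroup.mem_inf]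
    exact ⟨fun hx => hx.1, fun hx => ⟨hx, x.2⟩⟩
  have hz₀T : h * z₁ * h⁻¹ ∈ ((h • T₁ : Sylow p ↥G₁) : Subgroup ↥G₁) := by
    rw [mem_smul_sylow]
    have : h⁻¹ * (h * z₁ * h⁻¹) * h = z₁ := by group
    rw [this]; exact hRT hz₁R
  have hz₀S : ((h * z₁ * h⁻¹ : ↥G₁) : G) ∈ (S : Subgroup G) := (hT₀ _).1 hz₀T
  have hz₀c : ((h * z₁ * h⁻¹ : ↥G₁) : G) ∈
      Subgroup.centralizer (((S : Subgroup G) ⊓ G₁ : Subgroup G) : Set G) := by
    rw [Subgroup.mem_centralizer_iff]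
    intro x hx
    have hx' : x ∈ (S : Subgroup G) ⊓ G₁ := hx
    rw [Subgroup.mem_inf] at hx'
    have hxT : (⟨x, hx'.2⟩ : ↥G₁) ∈ ((h • T₁ : Sylow p ↥G₁) : Subgroup ↥G₁) := (hT₀ _).2 hx'.1
    rw [mem_smul_sylow] at hxT
    have h1 := hz₁c _ hxT
    have h2 : (⟨x, hx'.2⟩ : ↥G₁) * (h * z₁ * h⁻¹) = (h * z₁ * h⁻¹) * ⟨x, hx'.2⟩ := by
      calc (⟨x, hx'.2⟩ : ↥G₁) * (h * z₁ * h⁻¹)
          = h * ((h⁻¹ * ⟨x, hx'.2⟩ * h) * z₁) * h⁻¹ := by group
        _ = h * (z₁ * (h⁻¹ * ⟨x, hx'.2⟩ * h)) * h⁻¹ := by rw [h1]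
        _ = (h * z₁ * h⁻¹) * ⟨x, hx'.2⟩ := by group
    exact congrArg Subtype.val h2
  have hz₀ord : orderOf ((h * z₁ * h⁻¹ : ↥G₁) : G) = p := by
    rw [Subgroup.orderOf_coe]
    exact ((MulAut.conj h).orderOf_eq z₁).trans hz₁p
  have hz₀1 : ((h * z₁ * h⁻¹ : ↥G₁) : G) ≠ 1 := by
    intro h1
    rw [h1, orderOf_one] at hz₀ord
    exact hp.one_lt.ne hz₀ord
  have hz₀Z := hle (Subgroup.mem_inf.2
    ⟨Subgroup.mem_inf.2 ⟨hz₀S, (h * z₁ * h⁻¹ : ↥G₁).2⟩, hz₀c⟩)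
  have hz₀cS : ((h * z₁ * h⁻¹ : ↥G₁) : G) ∈ Subgroup.centralizer ((S : Subgroup G) : Set G) :=
    (Subgroup.mem_inf.1 hz₀Z).2
  have h6 := charP_centralizer_of_parabolic hG S hz₀1 hz₀S
    (fun s hs => Subgroup.mem_centralizer_iff.mp hz₀cS s hs)
  have h7 := charP_centralizer_conj ((h : G)⁻¹) ((h * z₁ * h⁻¹ : ↥G₁) : G) h6
  have e : (h : G)⁻¹ * ((h * z₁ * h⁻¹ : ↥G₁) : G) * ((h : G)⁻¹)⁻¹ = (z₁ : G) := by
    simp only [Subgroup.coe_mul, Subgroup.coe_inv]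
    group
  rw [e] at h7
  have h8 := charP_inf_of_subnormal hsn _ h7
  have h9 := charP_centralizer_subtype G₁ z₁ h8
  exact charP_normalizer_of_central_mem hR hz₁R (fun r hr => hz₁c r (hRT hr)) h9

end Cfsg.Agent.S3023
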