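import Cfsg.Statements.S3028
import Mathlib
import Cfsg.Agent.Lib.Helper12.Subnormal
import Cfsg.Agent.Lib.Helper57.SylSubnormal
import Cfsg.Agent.Lib.Helper59.Replace

set_option autoImplicit false
open Cfsg

namespace Cfsg.Agent.S3028

open Cfsg.Agent.Lib.Helper59 Cfsg.Agent.Lib.Helper12 Cfsg.Agent.Lib.Helper57

universe u

/-- the order of the intersection of a Sylow subgroup with a subnormal subgroup -/
theorem card_sylow_inf_subnormal {G : Type u} [Group G] [Finite G] {p : ℕ} [hp : Fact p.Prime]
    (S : Sylow p G) {K : Subgroup G} (hK : K.IsSubnormal) :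
    Nat.card ↥((S : Subgroup G) ⊓ K) = p ^ padicValNat p (Nat.card K) := by
  have hnd : ¬ p ∣ ((S : Subgroup G) ⊓ K).relIndex K := sylow_inf_subnormal_not_dvd hK S
  obtain ⟨k, hk⟩ := IsPGroup.iff_card.1
    (S.isPGroup'.to_le (inf_le_left : (S : Subgroup G) ⊓ K ≤ S))
  have hmul : Nat.card ↥((S : Subgroup G) ⊓ K) * ((S : Subgroup G) ⊓ K).relIndex K
      = Nat.card K := by
    have := Subgroup.relIndex_mul_relIndex ⊥ ((S : Subgroup G) ⊓ K) K bot_le inf_le_right
    rwa [Subgroup.relIndex_bot_left, Subgroup.relIndex_bot_left] at this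
  have hne : ((S : Subgroup G) ⊓ K).relIndex K ≠ 0 := by
    intro h0
    apply hnd
    rw [h0]
    exact dvd_zero p
  rw [hk, ← hmul, hk, padicValNat.mul (pow_ne_zero _ hp.out.ne_zero) hne, padicValNat.prime_pow,
    padicValNat.eq_zero_of_not_dvd hnd, add_zero]

/-- a Sylow subgroup meets the product of two subnormal subgroups, one normalizing the other, in
the product of the two intersections -/
theorem sylow_inf_sup {G : Type u} [Group G] [Finite G] {p : ℕ} [hp : Fact p.Prime]
    (S : Sylow p G) {A C : Subgroup G} (hA : A.IsSubnormal)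
    (hC : C.IsSubnormal) (hAC : A ≤ Subgroup.normalizer (C : Set G)) :
    (S : Subgroup G) ⊓ (C ⊔ A) = ((S : Subgroup G) ⊓ C) ⊔ ((S : Subgroup G) ⊓ A) := by
  have hle : ((S : Subgroup G) ⊓ C) ⊔ ((S : Subgroup G) ⊓ A) ≤ (S : Subgroup G) ⊓ (C ⊔ A) :=
    sup_le (inf_le_inf_left _ le_sup_left) (inf_le_inf_left _ le_sup_right)
  have hnorm : (S : Subgroup G) ⊓ A ≤
      Subgroup.normalizer (((S : Subgroup G) ⊓ C : Subgroup G) : Set G) :=
    le_trans (le_inf (inf_le_left.trans Subgroup.le_normalizer) (inf_le_right.trans hAC))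
      Subgroup.inf_normalizer_le_normalizer_inf
  have h1 := card_sup_mul_card_inf ((S : Subgroup G) ⊓ C) ((S : Subgroup G) ⊓ A) hnorm
  have h2 := card_sup_mul_card_inf C A hAC
  have e1 : ((S : Subgroup G) ⊓ C) ⊓ ((S : Subgroup G) ⊓ A) = (S : Subgroup G) ⊓ (C ⊓ A) :=
    (inf_inf_distrib_left _ _ _).symm
  have hsn1 : (C ⊓ A).IsSubnormal := hC.inf hA
  have hsn2 : (C ⊔ A).IsSubnormal := isSubnormal_sup hC hA
  rw [e1, card_sylow_inf_subnormal S hsn1, card_sylow_inf_subnormal S hC,
    card_sylow_inf_subnormal S hA] at h1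
  obtain ⟨t, ht⟩ := IsPGroup.iff_card.1 (S.isPGroup'.to_le
    (sup_le inf_le_left inf_le_left : ((S : Subgroup G) ⊓ C) ⊔ ((S : Subgroup G) ⊓ A) ≤ S))
  rw [ht, ← pow_add, ← pow_add] at h1
  have h3 : t + padicValNat p (Nat.card ↥(C ⊓ A)) =
      padicValNat p (Nat.card C) + padicValNat p (Nat.card A) :=
    Nat.pow_right_injective hp.out.two_le h1
  have h4 : padicValNat p (Nat.card ↥(C ⊔ A)) + padicValNat p (Nat.card ↥(C ⊓ A)) =
      padicValNat p (Nat.card C) + padicValNat p (Nat.card A) := by
    rw [← padicValNat.mul Nat.card_pos.ne' Nat.card_pos.ne',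
      ← padicValNat.mul Nat.card_pos.ne' Nat.card_pos.ne', h2]
  have h5 : t = padicValNat p (Nat.card ↥(C ⊔ A)) := by omega
  have hcard : Nat.card ↥((S : Subgroup G) ⊓ (C ⊔ A)) ≤
      Nat.card ↥(((S : Subgroup G) ⊓ C) ⊔ ((S : Subgroup G) ⊓ A)) := by
    rw [card_sylow_inf_subnormal S hsn2, ht, h5]
  exact (Subgroup.eq_of_le_of_card_ge hle hcard).symm

/-- the key inclusion, by induction on the order of the group -/
theorem key (p : ℕ) [hp : Fact p.Prime] : ∀ (n : ℕ) (G : Type u) [Group G] [Finite G],
    Nat.card G = n → ∀ (S : Sylow p G) (A B : Subgroup G), A.IsSubnormal → B.IsSubnormal →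
      (A ⊔ B) ⊓ (S : Subgroup G) ≤ (A ⊓ (S : Subgroup G)) ⊔ (B ⊓ (S : Subgroup G)) := by
  intro n
  induction n using Nat.strong_induction_on with
  | _ n ih =>
    intro G _ _ hn S A B hA hB
    by_cases hJ : A ⊔ B = ⊤
    · rw [hJ, top_inf_eq]
      by_contra hST
      obtain ⟨T, hT⟩ : ∃ T : Subgroup G,
          T = (A ⊓ (S : Subgroup G)) ⊔ (B ⊓ (S : Subgroup G)) := ⟨_, rfl⟩
      rw [← hT] at hST
      have hTS : T ≤ (S : Subgroup G) := by rw [hT]; exact sup_le inf_le_right inf_le_right
      have hAT : A ⊓ (S : Subgroup G) ≤ T := by rw [hT]; exact le_sup_left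
      have hBT : B ⊓ (S : Subgroup G) ≤ T := by rw [hT]; exact le_sup_right
      -- passing to quotients
      have h2a : ∀ Z : Subgroup G, Z.Normal → Z ≠ ⊥ →
          (S : Subgroup G) ≤ T ⊔ ((S : Subgroup G) ⊓ Z) := by
        intro Z hZn hZ1
        haveI := hZn
        have hQlt : Nat.card (G ⧸ Z) < n := by
          have h1 : Nat.card (G ⧸ Z) * Nat.card Z = Nat.card G :=
            (Subgroup.card_eq_card_quotient_mul_card_subgroup Z).symm
          have h2 : 1 < Nat.card Z := by
            rcases Nat.lt_or_ge 1 (Nat.card Z) with h | h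
            · exact h
            · exact absurd (Subgroup.card_eq_one.1 (le_antisymm h Nat.card_pos)) hZ1
          have h3 : 0 < Nat.card (G ⧸ Z) := Nat.card_pos
          rw [← hn, ← h1]
          nlinarith
        have hsurj : Function.Surjective (QuotientGroup.mk' Z) := QuotientGroup.mk'_surjective Z
        have hih := ih _ hQlt (G ⧸ Z) rfl (S.mapSurjective hsurj)
          (A.map (QuotientGroup.mk' Z)) (B.map (QuotientGroup.mk' Z))
          (hA.map hsurj) (hB.map hsurj)
        rw [Sylow.coe_mapSurjective, ← Subgroup.map_sup, hJ,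
          Subgroup.map_top_of_surjective _ hsurj, top_inf_eq] at hih
        have hcl : ∀ X : Subgroup G, X.IsSubnormal →
            X.map (QuotientGroup.mk' Z) ⊓ (S : Subgroup G).map (QuotientGroup.mk' Z) ≤
              (X ⊓ (S : Subgroup G)).map (QuotientGroup.mk' Z) := by
          intro X hX y hy
          rw [Subgroup.mem_inf] at hy
          obtain ⟨a, ha, hay⟩ := Subgroup.mem_map.1 hy.1
          obtain ⟨s, hs, hsy⟩ := Subgroup.mem_map.1 hy.2
          have hker : a⁻¹ * s ∈ Z := by
            have : (QuotientGroup.mk' Z) (a⁻¹ * s) = 1 := by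
              rw [map_mul, map_inv, hay, hsy, inv_mul_cancel]
            rwa [← MonoidHom.mem_ker, QuotientGroup.ker_mk'] at this
          have hsXZ : s ∈ (S : Subgroup G) ⊓ (Z ⊔ X) := by
            refine Subgroup.mem_inf.2 ⟨hs, ?_⟩
            have : s = a * (a⁻¹ * s) := by group
            rw [this]
            exact mul_mem (Subgroup.mem_sup_right ha) (Subgroup.mem_sup_left hker)
          have hXZ : X ≤ Subgroup.normalizer (Z : Set G) := by
            rw [Subgroup.normalizer_eq_top]; exact le_top
          rw [sylow_inf_sup S hX hZn.isSubnormal hXZ] at hsXZ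
          have hmap : ((S : Subgroup G) ⊓ Z ⊔ (S : Subgroup G) ⊓ X).map (QuotientGroup.mk' Z) ≤
              (X ⊓ (S : Subgroup G)).map (QuotientGroup.mk' Z) := by
            rw [Subgroup.map_sup]
            apply sup_le
            · have : ((S : Subgroup G) ⊓ Z).map (QuotientGroup.mk' Z) = ⊥ := by
                rw [Subgroup.map_eq_bot_iff, QuotientGroup.ker_mk']; exact inf_le_right
              rw [this]; exact bot_le
            · rw [inf_comm]
          rw [← hsy]
          exact hmap (Subgroup.mem_map_of_mem _ hsXZ)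
        have hSmap : (S : Subgroup G).map (QuotientGroup.mk' Z) ≤
            T.map (QuotientGroup.mk' Z) := by
          refine hih.trans ?_
          rw [hT, Subgroup.map_sup]
          exact sup_le_sup (hcl A hA) (hcl B hB)
        intro s hs
        have h1 : s ∈ (T.map (QuotientGroup.mk' Z)).comap (QuotientGroup.mk' Z) :=
          hSmap (Subgroup.mem_map_of_mem _ hs)
        rw [Subgroup.comap_map_eq, QuotientGroup.ker_mk'] at h1
        have h1' : s ∈ ((T ⊔ Z : Subgroup G) : Set G) := h1
        rw [Subgroup.mul_normal] at h1'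
        obtain ⟨t, ht, z, hz, rfl⟩ := Set.mem_mul.1 h1'
        have hzS : z ∈ (S : Subgroup G) := by
          have : z = t⁻¹ * (t * z) := by group
          rw [this]; exact mul_mem (inv_mem (hTS ht)) hs
        exact mul_mem (Subgroup.mem_sup_left ht)
          (Subgroup.mem_sup_right (Subgroup.mem_inf.2 ⟨hzS, hz⟩))
      -- the subgroup generated by the `p'`-elements
      obtain ⟨R, hR⟩ : ∃ R : Subgroup G,
          R = Subgroup.normalClosure {g : G | (orderOf g).Coprime p} := ⟨_, rfl⟩
      have hRn : R.Normal := by rw [hR]; exact Subgroup.normalClosure_normal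
      have hRmem : ∀ g : G, (orderOf g).Coprime p → g ∈ R := by
        intro g hg; rw [hR]; exact Subgroup.subset_normalClosure hg
      by_cases hR1 : R = ⊥
      · -- `G` is a `p`-group
        apply hST
        have hpG : IsPGroup p G := by
          have hall : ∀ {q : ℕ}, q.Prime → q ∣ Nat.card G → q = p := by
            intro q hq hqd
            by_contra hne
            haveI := Fact.mk hq
            obtain ⟨g, hg⟩ := exists_prime_orderOf_dvd_card' q hqd
            have hgR : g ∈ R := hRmem g (by rw [hg]; exact (Nat.coprime_primes hq hp.out).2 hne)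
            rw [hR1, Subgroup.mem_bot] at hgR
            rw [hgR, orderOf_one] at hg
            exact hq.one_lt.ne hg
          exact IsPGroup.of_card (Nat.eq_prime_pow_of_unique_prime_dvd Nat.card_pos.ne' hall)
        have hStop : (S : Subgroup G) = ⊤ :=
          (S.is_maximal' (Q := ⊤) (hpG.to_subgroup ⊤) le_top).symm
        have hTtop : T = ⊤ := by rw [hT, hStop, inf_top_eq, inf_top_eq, hJ]
        rw [hTtop]; exact le_top
      · -- a minimal normal subgroup `Z ≤ R`
        obtain ⟨Z, hZR, hZmin⟩ := exists_isMinNormal_le (Nat.card R) R rfl hRn hR1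
        have hZA : Z ≤ Subgroup.normalizer (A : Set G) :=
          isMinNormal_le_normalizer n G hn A Z hA hZmin
        have hZB : Z ≤ Subgroup.normalizer (B : Set G) :=
          isMinNormal_le_normalizer n G hn B Z hB hZmin
        obtain ⟨hZn, hZ1, hZmin'⟩ := hZmin
        haveI := hZn
        have hSTZ := h2a Z hZn hZ1
        have hcX : ∀ X : Subgroup G, Z ≤ Subgroup.normalizer (X : Set G) →
            ∀ a ∈ X, ∀ w ∈ Z, a * w * a⁻¹ * w⁻¹ ∈ X ⊓ Z := by
          intro X hZX a ha w hw
          refine Subgroup.mem_inf.2 ⟨?_, ?_⟩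
          · have h1 : w * a⁻¹ * w⁻¹ ∈ X :=
              (Subgroup.mem_normalizer_iff.1 (hZX hw) a⁻¹).1 (inv_mem ha)
            have : a * w * a⁻¹ * w⁻¹ = a * (w * a⁻¹ * w⁻¹) := by group
            rw [this]; exact mul_mem ha h1
          · exact mul_mem (hZn.conj_mem w hw a) (inv_mem hw)
        obtain ⟨Z₀, hZ₀⟩ : ∃ Z₀ : Subgroup G, Z₀ = (A ⊓ Z) ⊔ (B ⊓ Z) := ⟨_, rfl⟩
        have hZ₀Z : Z₀ ≤ Z := by rw [hZ₀]; exact sup_le inf_le_right inf_le_right
        have hAZ₀ : A ⊓ Z ≤ Z₀ := by rw [hZ₀]; exact le_sup_left
        have hBZ₀ : B ⊓ Z ≤ Z₀ := by rw [hZ₀]; exact le_sup_right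
        have hZ₀n : Z₀.Normal := by
          rw [← Subgroup.normalizer_eq_top_iff, eq_top_iff, ← hJ]
          apply sup_le
          · intro a ha
            apply conj_mem_imp_mem_normalizer
            intro w hw
            have : a * w * a⁻¹ = (a * w * a⁻¹ * w⁻¹) * w := by group
            rw [this]
            exact mul_mem (hAZ₀ (hcX A hZA a ha w (hZ₀Z hw))) hw
          · intro b hb
            apply conj_mem_imp_mem_normalizer
            intro w hw
            have : b * w * b⁻¹ = (b * w * b⁻¹ * w⁻¹) * w := by group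
            rw [this]
            exact mul_mem (hBZ₀ (hcX B hZB b hb w (hZ₀Z hw))) hw
        rcases eq_or_ne Z₀ ⊥ with h0 | h0
        · -- `Z` is central
          have hAZ : A ⊓ Z = ⊥ := le_bot_iff.1 (hAZ₀.trans h0.le)
          have hBZ : B ⊓ Z = ⊥ := le_bot_iff.1 (hBZ₀.trans h0.le)
          have hcent : ∀ w ∈ Z, ∀ g : G, g * w = w * g := by
            intro w hw
            have hle : A ⊔ B ≤ Subgroup.centralizer ({w} : Set G) := by
              apply sup_le
              · intro a ha
                rw [Subgroup.mem_centralizer_iff]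
                intro x hx
                rw [Set.mem_singleton_iff] at hx
                rw [hx]
                have h1 := hcX A hZA a ha w hw
                rw [hAZ, Subgroup.mem_bot] at h1
                calc w * a = (a * w * a⁻¹ * w⁻¹)⁻¹ * (a * w) := by group
                  _ = a * w := by rw [h1, inv_one, one_mul]
              · intro b hb
                rw [Subgroup.mem_centralizer_iff]
                intro x hx
                rw [Set.mem_singleton_iff] at hx
                rw [hx]
                have h1 := hcX B hZB b hb w hw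
                rw [hBZ, Subgroup.mem_bot] at h1
                calc w * b = (b * w * b⁻¹ * w⁻¹)⁻¹ * (b * w) := by group
                  _ = b * w := by rw [h1, inv_one, one_mul]
            intro g
            have hg : g ∈ Subgroup.centralizer ({w} : Set G) :=
              hle (by rw [hJ]; exact Subgroup.mem_top g)
            exact (Subgroup.mem_centralizer_iff.1 hg w (Set.mem_singleton w)).symm
          have hconj : ∀ z ∈ Z, ∀ x : G, z * x * z⁻¹ = x := by
            intro z hz x
            rw [← hcent z hz x, mul_inv_cancel_right]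
          -- `Z` has prime order
          obtain ⟨q, hq, hqd⟩ : ∃ q : ℕ, q.Prime ∧ q ∣ Nat.card Z := by
            have : Nat.card Z ≠ 1 := fun h => hZ1 (Subgroup.card_eq_one.1 h)
            exact ⟨_, Nat.minFac_prime this, Nat.minFac_dvd _⟩
          haveI := Fact.mk hq
          obtain ⟨u', hu'⟩ := exists_prime_orderOf_dvd_card' q hqd
          have hu : orderOf (u' : G) = q := by rw [Subgroup.orderOf_coe]; exact hu'
          have huZ : (u' : G) ∈ Z := u'.2
          have hzn : (Subgroup.zpowers (u' : G)).Normal := by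
            constructor
            intro x hx g
            have hxZ : x ∈ Z := (Subgroup.zpowers_le.2 huZ) hx
            have : g * x * g⁻¹ = x := by rw [hcent x hxZ g, mul_inv_cancel_right]
            rw [this]; exact hx
          have hZeq : Subgroup.zpowers (u' : G) = Z := by
            apply hZmin' _ hzn (Subgroup.zpowers_le.2 huZ)
            intro h
            have hmem : (u' : G) ∈ Subgroup.zpowers (u' : G) := Subgroup.mem_zpowers _
            rw [h, Subgroup.mem_bot] at hmem
            rw [hmem, orderOf_one] at hu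
            exact hq.one_lt.ne hu
          have hZcard : Nat.card Z = q := by rw [← hZeq, Nat.card_zpowers, hu]
          by_cases hqp : q = p
          · rw [hqp] at hZcard hu
            have hZS : Z ≤ (S : Subgroup G) := by
              have h1 := card_sylow_inf_subnormal S hZn.isSubnormal
              rw [hZcard, padicValNat_self, pow_one] at h1
              have h2 : (S : Subgroup G) ⊓ Z = Z :=
                Subgroup.eq_of_le_of_card_ge inf_le_right (by rw [h1, hZcard])
              exact inf_eq_right.1 h2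
            have huS : (u' : G) ∈ (S : Subgroup G) := hZS huZ
            have huT : (u' : G) ∉ T := by
              intro h
              apply hST
              refine hSTZ.trans (sup_le le_rfl ?_)
              refine inf_le_right.trans ?_
              rw [← hZeq, Subgroup.zpowers_le]; exact h
            have hSle : (S : Subgroup G) ≤ T ⊔ Z := hSTZ.trans (sup_le_sup le_rfl inf_le_right)
            have hdec : ∀ s ∈ (S : Subgroup G), ∃ t ∈ T, ∃ z ∈ Z, s = t * z := by
              intro s hs
              have h1 : s ∈ ((T ⊔ Z : Subgroup G) : Set G) := hSle hs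
              rw [Subgroup.mul_normal] at h1
              obtain ⟨t, ht, z, hz, rfl⟩ := Set.mem_mul.1 h1
              exact ⟨t, ht, z, hz, rfl⟩
            have hcommT : ∀ s₁ ∈ (S : Subgroup G), ∀ s₂ ∈ (S : Subgroup G),
                s₁ * s₂ * s₁⁻¹ * s₂⁻¹ ∈ T := by
              intro s₁ hs₁ s₂ hs₂
              obtain ⟨t₁, ht₁, z₁, hz₁, rfl⟩ := hdec s₁ hs₁
              obtain ⟨t₂, ht₂, z₂, hz₂, rfl⟩ := hdec s₂ hs₂
              have e : t₁ * z₁ * (t₂ * z₂) * (t₁ * z₁)⁻¹ * (t₂ * z₂)⁻¹ =
                  t₁ * t₂ * t₁⁻¹ * t₂⁻¹ := by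
                calc t₁ * z₁ * (t₂ * z₂) * (t₁ * z₁)⁻¹ * (t₂ * z₂)⁻¹
                    = t₁ * (z₁ * (t₂ * z₂) * z₁⁻¹) * t₁⁻¹ * (t₂ * z₂)⁻¹ := by group
                  _ = t₁ * (t₂ * z₂) * t₁⁻¹ * (t₂ * z₂)⁻¹ := by rw [hconj z₁ hz₁]
                  _ = t₁ * t₂ * (z₂ * t₁⁻¹ * z₂⁻¹) * t₂⁻¹ := by group
                  _ = t₁ * t₂ * t₁⁻¹ * t₂⁻¹ := by rw [hconj z₂ hz₂]
              rw [e]
              exact mul_mem (mul_mem (mul_mem ht₁ ht₂) (inv_mem ht₁)) (inv_mem ht₂)
            obtain ⟨T', hT'⟩ : ∃ T' : Subgroup ↥(S : Subgroup G),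
                T' = T.subgroupOf (S : Subgroup G) := ⟨_, rfl⟩
            have hcomm' : ∀ a b : ↥(S : Subgroup G), a * b * a⁻¹ * b⁻¹ ∈ T' := by
              intro a b
              rw [hT', Subgroup.mem_subgroupOf]
              exact hcommT a a.2 b b.2
            have hT'n : T'.Normal := by
              constructor
              intro x hx g
              have : g * x * g⁻¹ = (g * x * g⁻¹ * x⁻¹) * x := by group
              rw [this]
              exact mul_mem (hcomm' g x) hx
            haveI := hT'n
            letI : CommGroup (↥(S : Subgroup G) ⧸ T') :=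
              { (inferInstance : Group (↥(S : Subgroup G) ⧸ T')) with
                mul_comm := by
                  intro x y
                  induction x using QuotientGroup.induction_on with
                  | H a =>
                    induction y using QuotientGroup.induction_on with
                    | H b =>
                      rw [← QuotientGroup.mk_mul, ← QuotientGroup.mk_mul, QuotientGroup.eq]
                      have h := hcomm' b⁻¹ a⁻¹
                      have e : (a * b)⁻¹ * (b * a) = b⁻¹ * a⁻¹ * (b⁻¹)⁻¹ * (a⁻¹)⁻¹ := by group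
                      rw [e]; exact h }
            have hVu := MonoidHom.transfer_eq_pow (QuotientGroup.mk' T') (u' : G)
              (fun k g₀ _ => by
                rw [mul_assoc, ← hcent _ (Z.pow_mem huZ k) g₀, inv_mul_cancel_left])
            have hker : R ≤ (MonoidHom.transfer (QuotientGroup.mk' T')).ker := by
              rw [hR]
              apply Subgroup.normalClosure_le_normal
              intro g hg
              rw [SetLike.mem_coe, MonoidHom.mem_ker]
              have hpq : IsPGroup p (↥(S : Subgroup G) ⧸ T') := S.isPGroup'.to_quotient T'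
              obtain ⟨k, hk⟩ := hpq (MonoidHom.transfer (QuotientGroup.mk' T') g)
              have h2 : (MonoidHom.transfer (QuotientGroup.mk' T') g) ^ orderOf g = 1 := by
                rw [← map_pow, pow_orderOf_eq_one, map_one]
              have h3 := pow_gcd_eq_one.2 ⟨hk, h2⟩
              have hc : Nat.gcd (p ^ k) (orderOf g) = 1 :=
                Nat.Coprime.pow_left k (Nat.Coprime.symm hg)
              rwa [hc, pow_one] at h3
            have hVu1 : MonoidHom.transfer (QuotientGroup.mk' T') (u' : G) = 1 :=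
              MonoidHom.mem_ker.1 (hker (hZR huZ))
            rw [hVu1] at hVu
            have hmem : (u' : G) ^ (S : Subgroup G).index ∈ T := by
              have h1 := (QuotientGroup.eq_one_iff _).1 hVu.symm
              rw [hT', Subgroup.mem_subgroupOf] at h1
              exact h1
            have hcop : Nat.Coprime (S : Subgroup G).index (orderOf (u' : G)) := by
              rw [hu]
              exact ((Nat.Prime.coprime_iff_not_dvd hp.out).2 S.not_dvd_index).symm
            obtain ⟨j, hj⟩ := exists_pow_eq_self_of_coprime hcop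
            apply huT
            rw [← hj]
            exact T.pow_mem hmem j
          · apply hST
            refine hSTZ.trans (sup_le le_rfl ?_)
            have : (S : Subgroup G) ⊓ Z = ⊥ := by
              rw [← Subgroup.card_eq_one, card_sylow_inf_subnormal S hZn.isSubnormal, hZcard,
                padicValNat.eq_zero_of_not_dvd, pow_zero]
              intro hpq'
              exact hqp ((Nat.prime_dvd_prime_iff_eq hp.out hq).1 hpq').symm
            rw [this]; exact bot_le
        · -- `Z = (A ∩ Z)(B ∩ Z)`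
          have hZ₀eq : Z₀ = Z := hZmin' Z₀ hZ₀n hZ₀Z h0
          apply hST
          refine hSTZ.trans (sup_le le_rfl ?_)
          have hnn : A ⊓ Z ≤ Subgroup.normalizer ((B ⊓ Z : Subgroup G) : Set G) :=
            le_trans (le_inf (inf_le_right.trans hZB) (inf_le_right.trans Subgroup.le_normalizer))
              Subgroup.inf_normalizer_le_normalizer_inf
          have h1 := sylow_inf_sup S (hA.inf hZn.isSubnormal) (hB.inf hZn.isSubnormal) hnn
          have h2 : (B ⊓ Z) ⊔ (A ⊓ Z) = Z := by rw [sup_comm, ← hZ₀, hZ₀eq]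
          rw [h2] at h1
          rw [h1]
          apply sup_le
          · exact le_trans (le_inf (inf_le_right.trans inf_le_left) inf_le_left) hBT
          · exact le_trans (le_inf (inf_le_right.trans inf_le_left) inf_le_left) hAT
    · -- reduction to the join
      obtain ⟨J, hJdef⟩ : ∃ J : Subgroup G, J = A ⊔ B := ⟨_, rfl⟩
      rw [← hJdef] at hJ ⊢
      have hAJ : A ≤ J := by rw [hJdef]; exact le_sup_left
      have hBJ : B ≤ J := by rw [hJdef]; exact le_sup_right
      have hJlt : Nat.card ↥J < n := by
        rw [← hn]; exact card_lt_card_of_lt_top (lt_top_iff_ne_top.2 hJ)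
      have hJsn : J.IsSubnormal := by rw [hJdef]; exact isSubnormal_sup hA hB
      have hpg : IsPGroup p ↥(((S : Subgroup G) ⊓ J).subgroupOf J) :=
        (S.isPGroup'.to_le inf_le_left).comap_subtype
      have hidx : ¬ p ∣ (((S : Subgroup G) ⊓ J).subgroupOf J).index :=
        sylow_inf_subnormal_not_dvd hJsn S
      obtain ⟨SJ, hSJ⟩ : ∃ SJ : Sylow p ↥J,
          (SJ : Subgroup ↥J) = ((S : Subgroup G) ⊓ J).subgroupOf J :=
        ⟨hpg.toSylow hidx, IsPGroup.toSylow_coe _ _⟩
      have hih := ih _ hJlt ↥J rfl SJ (A.subgroupOf J) (B.subgroupOf J)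
        hA.subgroupOf hB.subgroupOf
      intro x hx
      rw [Subgroup.mem_inf] at hx
      have hx' : (⟨x, hx.1⟩ : ↥J) ∈ (A.subgroupOf J ⊔ B.subgroupOf J) ⊓ (SJ : Subgroup ↥J) := by
        rw [Subgroup.mem_inf]
        constructor
        · rw [← Subgroup.subgroupOf_sup hAJ hBJ, ← hJdef, Subgroup.subgroupOf_self]
          exact Subgroup.mem_top _
        · rw [hSJ, Subgroup.mem_subgroupOf, Subgroup.mem_inf]
          exact ⟨hx.2, hx.1⟩
      have hy := hih hx'
      have hmap : ((A.subgroupOf J ⊓ (SJ : Subgroup ↥J)) ⊔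
          (B.subgroupOf J ⊓ (SJ : Subgroup ↥J))).map J.subtype ≤
          (A ⊓ (S : Subgroup G)) ⊔ (B ⊓ (S : Subgroup G)) := by
        rw [Subgroup.map_sup]
        apply sup_le_sup
        · intro z hz
          obtain ⟨y, hy, rfl⟩ := Subgroup.mem_map.1 hz
          rw [Subgroup.mem_inf, hSJ, Subgroup.mem_subgroupOf, Subgroup.mem_subgroupOf,
            Subgroup.mem_inf] at hy
          exact Subgroup.mem_inf.2 ⟨hy.1, hy.2.1⟩
        · intro z hz
          obtain ⟨y, hy, rfl⟩ := Subgroup.mem_map.1 hz
          rw [Subgroup.mem_inf, hSJ, Subgroup.mem_subgroupOf, Subgroup.mem_subgroupOf,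
            Subgroup.mem_inf] at hy
          exact Subgroup.mem_inf.2 ⟨hy.1, hy.2.1⟩
      exact hmap (Subgroup.mem_map.2 ⟨⟨x, hx.1⟩, hy, rfl⟩)

/-- Let G be a finite group, p a prime, S a Sylow p-subgroup of G and A₁, A₂ subnormal subgroups of G. Then the join of S ∩ A₁ and S ∩ A₂ is a Sylow p-subgroup of the join of A₁ and A₂; equivalently ⟨A₁, A₂⟩ ∩ S = ⟨A₁ ∩ S, A₂ ∩ S⟩. -/
theorem result {G : Type*} [Group G] [Finite G] {p : ℕ} [Fact p.Prime] (S : Sylow p G) (A₁ A₂ : Subgroup G)
    (h₁ : A₁.IsSubnormal) (h₂ : A₂.IsSubnormal) :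
    (A₁ ⊔ A₂) ⊓ (S : Subgroup G) = (A₁ ⊓ (S : Subgroup G)) ⊔ (A₂ ⊓ (S : Subgroup G)) := by
  apply le_antisymm
  · exact key p _ G rfl S A₁ A₂ h₁ h₂
  · exact sup_le (inf_le_inf_right _ le_sup_left) (inf_le_inf_right _ le_sup_right)

end Cfsg.Agent.S3028
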