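import Cfsg.Statements.S3315
import Cfsg.Agent.Lib.Helper7.U3Unip
import Cfsg.Agent.Lib.Helper60.U3Base
import Cfsg.Agent.Lib.Helper28.U3Aut

set_option autoImplicit false
open Cfsg

namespace Cfsg.Agent.S3315

open Cfsg.Agent.Lib.Helper60 Cfsg.Agent.Lib.Helper7 Cfsg.Agent.Lib.Helper28.U3A in
theorem toSU_inj {F : Type*} [Field F] [Fintype F] {q : ℕ} (hF : Fintype.card F = q ^ 2)
    (h2 : (2 : F) = 0) : Function.Injective (toSU hF h2) := by
  intro a b hab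
  apply toPSU_injective hF h2
  show (QuotientGroup.mk' (Subgroup.center (Cfsg.SU 3 F q))) (toSU hF h2 a) =
    (QuotientGroup.mk' (Subgroup.center (Cfsg.SU 3 F q))) (toSU hF h2 b)
  rw [hab]

open Cfsg.Agent.Lib.Helper60 Cfsg.Agent.Lib.Helper7 Cfsg.Agent.Lib.Helper28.U3A in
theorem card_sylow_SU3 {F : Type*} [Field F] [Fintype F] {n : ℕ} (hn : 1 ≤ n)
    (hF : Fintype.card F = (2 ^ n) ^ 2) (S : Sylow 2 ↥(Cfsg.SU 3 F (2 ^ n))) :
    Nat.card ↥(S : Subgroup ↥(Cfsg.SU 3 F (2 ^ n))) = (2 ^ n) ^ 3 := by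
  haveI : Fact (Nat.Prime 2) := ⟨Nat.prime_two⟩
  rw [Sylow.card_eq_multiplicity]
  have h := card_SU3 hF
  have hNpos : Nat.card ↥(Cfsg.SU 3 F (2 ^ n)) ≠ 0 := Nat.card_pos.ne'
  have hsplit := Nat.ordProj_mul_ordCompl_eq_self (Nat.card ↥(Cfsg.SU 3 F (2 ^ n))) 2
  have hodd := Nat.not_dvd_ordCompl Nat.prime_two hNpos
  obtain ⟨k, hk⟩ : ∃ k, 2 ^ n = 2 * k := ⟨2 ^ (n - 1), by
    rw [← pow_succ']; congr 1; omega⟩
  have hkpos : 0 < k := by
    rcases Nat.eq_zero_or_pos k with h0 | h0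
    · rw [h0] at hk; simp at hk
    · exact h0
  have hodd2 : ¬ 2 ∣ ((2 ^ n) ^ 2 - 1) := by
    have : (2 ^ n) ^ 2 = 2 * (2 * k * k) := by rw [hk]; ring
    rw [this]
    have : 0 < 2 * k * k := by positivity
    omega
  have hodd3 : ¬ 2 ∣ ((2 ^ n) ^ 3 + 1) := by
    have : (2 ^ n) ^ 3 = 2 * (4 * k * k * k) := by rw [hk]; ring
    rw [this]; omega
  have hB : ¬ 2 ∣ ((2 ^ n) ^ 2 - 1) * ((2 ^ n) ^ 3 + 1) := by
    intro hd
    rcases (Nat.Prime.dvd_mul Nat.prime_two).mp hd with h1 | h1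
    · exact hodd2 h1
    · exact hodd3 h1
  have hfin : 2 ^ (Nat.card ↥(Cfsg.SU 3 F (2 ^ n))).factorization 2 *
      (Nat.card ↥(Cfsg.SU 3 F (2 ^ n)) /
        2 ^ (Nat.card ↥(Cfsg.SU 3 F (2 ^ n))).factorization 2) =
      2 ^ (n * 3) * (((2 ^ n) ^ 2 - 1) * ((2 ^ n) ^ 3 + 1)) := by
    rw [hsplit, h, pow_mul]
  rw [pow_two_unique hodd hB hfin, pow_mul]

open Cfsg.Agent.Lib.Helper60 Cfsg.Agent.Lib.Helper7 Cfsg.Agent.Lib.Helper28.U3A in
theorem sylow_SU3_equiv {F : Type*} [Field F] [Fintype F] {n : ℕ} (hn : 1 ≤ n)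
    (hF : Fintype.card F = (2 ^ n) ^ 2) (S : Sylow 2 ↥(Cfsg.SU 3 F (2 ^ n))) :
    Nonempty (↥(S : Subgroup ↥(Cfsg.SU 3 F (2 ^ n))) ≃* ↥(U3 hF)) := by
  haveI : Fact (Nat.Prime 2) := ⟨Nat.prime_two⟩
  have h2 : (2 : F) = 0 :=
    two_eq_zero_of_card (m := n * 2) (by rw [hF, ← pow_mul])
  have hR : Nat.card (toSU hF h2).range = (2 ^ n) ^ 3 := by
    rw [← card_U3 hF h2]
    exact (Nat.card_congr (MonoidHom.ofInjective (toSU_inj hF h2)).toEquiv).symm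
  have hRp : IsPGroup 2 (toSU hF h2).range :=
    IsPGroup.of_card (n := n * 3) (by rw [hR, ← pow_mul])
  obtain ⟨Q, hQ⟩ := hRp.exists_le_sylow
  have hQc := card_sylow_SU3 hn hF Q
  have hEq : (toSU hF h2).range = (Q : Subgroup _) :=
    Subgroup.eq_of_le_of_card_ge hQ (by rw [hQc, hR])
  have e1 : ↥(S : Subgroup ↥(Cfsg.SU 3 F (2 ^ n))) ≃* ↥(Q : Subgroup ↥(Cfsg.SU 3 F (2 ^ n))) :=
    Sylow.equiv S Q
  have e2 : ↥(U3 hF) ≃* ↥(toSU hF h2).range :=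
    MonoidHom.ofInjective (toSU_inj hF h2)
  have e3 : ↥(toSU hF h2).range ≃* ↥(Q : Subgroup ↥(Cfsg.SU 3 F (2 ^ n))) :=
    MulEquiv.subgroupCongr hEq
  exact ⟨e1.trans (e3.symm.trans e2.symm)⟩

/-- Let S be a Sylow 2-subgroup of SU₃(2ⁿ), n ≥ 2 (realised over the field with 4ⁿ elements). If a finite 2-group R contains a subgroup S' of index 2 isomorphic to S, then the centre of S' is contained in the centre of R. -/
theorem result {R : Type*} [Group R] [Finite R]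
    (hR : IsPGroup 2 R) (n : ℕ) (hn : 2 ≤ n) {F : Type*} [Field F] [Fintype F] (hF : Fintype.card F = 4 ^ n)
    (P : Sylow 2 ↥(Cfsg.SU 3 F (2 ^ n))) (S' : Subgroup R) (hS : Nonempty (↥S' ≃* ↥(P : Subgroup ↥(Cfsg.SU 3 F (2 ^ n)))))
    (hidx : S'.index = 2) :
    (Subgroup.center ↥S').map S'.subtype ≤ Subgroup.center R := by
  classical
  haveI : Fact (Nat.Prime 2) := ⟨Nat.prime_two⟩
  have hF' : Fintype.card F = (2 ^ n) ^ 2 := by
    rw [hF, ← pow_mul, mul_comm, pow_mul]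
    norm_num
  have h2 : (2 : F) = 0 :=
    Cfsg.Agent.Lib.Helper60.two_eq_zero_of_card (m := n * 2) (by rw [hF', ← pow_mul])
  obtain ⟨e0⟩ := hS
  obtain ⟨e1⟩ := sylow_SU3_equiv (by omega) hF' P
  let e : ↥S' ≃* ↥(Cfsg.Agent.Lib.Helper60.U3 hF') := e0.trans e1
  haveI hnorm : S'.Normal := Subgroup.normal_of_index_eq_two hidx
  rintro _ ⟨z, hz, rfl⟩
  rw [Subgroup.mem_center_iff]
  intro g
  have hzc : ∀ x : ↥S', x * z = z * x := fun x => Subgroup.mem_center_iff.mp hz x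
  by_cases hg : g ∈ S'
  · exact congrArg Subtype.val (hzc ⟨g, hg⟩)
  · have hgg : g * g ∈ S' := Subgroup.mul_self_mem_of_index_two hidx g
    let cg : ↥S' ≃* ↥S' := MulAut.conjNormal g
    have hcg : ∀ x : ↥S', ((cg x : ↥S') : R) = g * x * g⁻¹ := fun x => MulAut.conjNormal_apply g x
    have hcg2 : ∀ x : ↥S', cg (cg x) = ⟨g * g, hgg⟩ * x * (⟨g * g, hgg⟩ : ↥S')⁻¹ := by
      intro x
      apply Subtype.ext
      rw [hcg, hcg]
      show g * (g * (x : R) * g⁻¹) * g⁻¹ = g * g * (x : R) * (g * g)⁻¹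
      group
    let τ : ↥(Cfsg.Agent.Lib.Helper60.U3 hF') ≃* ↥(Cfsg.Agent.Lib.Helper60.U3 hF') :=
      e.symm.trans (cg.trans e)
    have hτdef : ∀ a, τ a = e (cg (e.symm a)) := fun a => rfl
    have hτ : ∀ a, τ (τ a) = e ⟨g * g, hgg⟩ * a * (e ⟨g * g, hgg⟩)⁻¹ := by
      intro a
      rw [hτdef, hτdef, MulEquiv.symm_apply_apply, hcg2, map_mul, map_mul, map_inv,
        MulEquiv.apply_symm_apply]
    have hz0 : (e z).1.c = 0 := by
      apply Cfsg.Agent.Lib.Helper28.U3A.c_zero_of_central hF' h2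
      intro b
      have h1 := hzc (e.symm b)
      have h3 := congrArg e h1
      rw [map_mul, map_mul, MulEquiv.apply_symm_apply] at h3
      exact h3.symm
    have hfix := Cfsg.Agent.Lib.Helper28.U3A.aut_fix hF' h2 τ (e ⟨g * g, hgg⟩) hτ (e z) hz0
    rw [hτdef, MulEquiv.symm_apply_apply] at hfix
    have h4 : cg z = z := e.injective hfix
    have h5 : g * (z : R) * g⁻¹ = (z : R) := by
      rw [← hcg, h4]
    show g * (z : R) = (z : R) * g
    calc g * (z : R) = g * (z : R) * g⁻¹ * g := by group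
      _ = (z : R) * g := by rw [h5]

end Cfsg.Agent.S3315
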