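import Cfsg.Statements.S3162
import Cfsg.Agent.S3315
import Cfsg.Agent.Lib.Helper28.U3Core

set_option autoImplicit false
open Cfsg

namespace Cfsg.Agent.S3162

/-- Let S be a Sylow 2-subgroup of the special unitary group of dimension 3 with parameter q = 2^n (n ≥ 2; realised over the field with q² elements). Then the largest normal 2-subgroup of the automorphism group of S is elementary abelian of order 2^(2n²), and the automorphism group has order 2^(2n²) · 2n(q² − 1). -/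
theorem result {S : Type*} [Group S] [Finite S] (n : ℕ) (hn : 2 ≤ n) {F : Type*} [Field F] [Fintype F] (hF : Fintype.card F = 4 ^ n)
    (P : Sylow 2 ↥(Cfsg.SU 3 F (2 ^ n))) (hS : Nonempty (S ≃* ↥(P : Subgroup ↥(Cfsg.SU 3 F (2 ^ n))))) :
    Cfsg.IsElementaryAbelian 2 (Cfsg.pCore 2 (MulAut S)) ∧ Nat.card ↥(Cfsg.pCore 2 (MulAut S)) = 2 ^ (2 * n ^ 2) ∧
      Nat.card (MulAut S) = 2 ^ (2 * n ^ 2) * (2 * n * ((2 ^ n) ^ 2 - 1)) := by
  have hF' : Fintype.card F = (2 ^ n) ^ 2 := by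
    rw [hF, ← pow_mul, mul_comm, pow_mul]
    norm_num
  obtain ⟨e0⟩ := hS
  obtain ⟨e1⟩ := Cfsg.Agent.S3315.sylow_SU3_equiv (by omega) hF' P
  let e : S ≃* ↥(Cfsg.Agent.Lib.Helper60.U3 hF') := e0.trans e1
  let E : MulAut S ≃* MulAut ↥(Cfsg.Agent.Lib.Helper60.U3 hF') := MulAut.congr e
  obtain ⟨⟨hcomm, hexp⟩, hcard, hA⟩ := Cfsg.Agent.Lib.Helper28.U3G.main_U (n := n) (by omega) hF'
  have hmap := Cfsg.Agent.Lib.Helper28.U3G.pCore_map_equiv 2 E
  have hmem : ∀ a ∈ Cfsg.pCore 2 (MulAut S),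
      E a ∈ Cfsg.pCore 2 (MulAut ↥(Cfsg.Agent.Lib.Helper60.U3 hF')) := by
    intro a ha
    rw [← hmap]
    exact Subgroup.mem_map_of_mem E.toMonoidHom ha
  refine ⟨⟨⟨⟨fun a b => ?_⟩⟩, fun a ha => ?_⟩, ?_, ?_⟩
  · have h := hcomm.is_comm.comm ⟨E a.1, hmem a.1 a.2⟩ ⟨E b.1, hmem b.1 b.2⟩
    have h' : E a.1 * E b.1 = E b.1 * E a.1 := congrArg Subtype.val h
    apply Subtype.ext
    apply E.injective
    show E (a.1 * b.1) = E (b.1 * a.1)
    rw [map_mul, map_mul]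
    exact h'
  · have h := hexp _ (hmem a ha)
    apply E.injective
    rw [map_pow, h, map_one]
  · rw [← hcard, ← hmap]
    exact (Subgroup.card_map_of_injective (f := E.toMonoidHom) E.injective).symm
  · rw [← hA]
    exact Nat.card_congr E.toEquiv

end Cfsg.Agent.S3162
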