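import Mathlib
import Cfsg.Statements.S3200
import Cfsg.Agent.S4034
import Cfsg.Agent.Lib.Helper1.Hall
import Cfsg.Agent.Lib.Helper61.Transfer

set_option autoImplicit false
open Cfsg

namespace Cfsg.Agent.S3200

open Subgroup

universe u

theorem solvable_of_abelian_compl {G : Type u} [Group G] [Finite G] (C : Subgroup G)
    (hC : IsMulCommutative C) (hodd : ¬ 2 ∣ Nat.card C) (hidx : ∃ k : ℕ, C.index = 2 ^ k) :
    Group.IsSolvable G := by
  have h := (Cfsg.Agent.S4034.result (G := G) Nat.prime_two).mpr ⟨C, hC, hodd, hidx⟩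
  have hP : Cfsg.Agent.S4034.PRegPow 2 G := fun x hx => by
    obtain ⟨k, hk⟩ := h x hx
    exact ⟨k, by rw [← Cfsg.Agent.S4034.ncard_carrier_eq_index, hk]⟩
  exact Cfsg.Agent.S4034.isSolvable_of_pRegPow Nat.prime_two _ G rfl hP

theorem odd_of_not_two_dvd {m : ℕ} (h : ¬ 2 ∣ m) : Odd m :=
  Nat.odd_iff.mpr (Nat.two_dvd_ne_zero.mp h)

/-- Let H be a finite group in which a Sylow 2-subgroup has an abelian complement (an abelian subgroup meeting it trivially whose product with it is all of H). Then H is solvable, and every subgroup and every quotient group of H again has a Sylow 2-subgroup with an abelian complement. -/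
theorem result {H : Type*} [Group H] [Finite H]
    (S : Sylow 2 H) (C : Subgroup H) (hC : IsMulCommutative ↥C) (hSC : Subgroup.IsComplement' (S : Subgroup H) C) :
    Group.IsSolvable H ∧
    (∀ L : Subgroup H, ∃ (P : Sylow 2 ↥L) (D : Subgroup ↥L), IsMulCommutative ↥D ∧ Subgroup.IsComplement' (P : Subgroup ↥L) D) ∧
    (∀ (N : Subgroup H) [N.Normal], ∃ (P : Sylow 2 (H ⧸ N)) (D : Subgroup (H ⧸ N)),
      IsMulCommutative ↥D ∧ Subgroup.IsComplement' (P : Subgroup (H ⧸ N)) D) := by
  have : Fact (Nat.Prime 2) := ⟨Nat.prime_two⟩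
  have hcard := hSC.card_mul_card
  obtain ⟨k, hk⟩ := IsPGroup.iff_card.mp S.2
  have hCodd : ¬ 2 ∣ Nat.card C := by
    have h1 := (S : Subgroup H).card_mul_index
    have h2 : Nat.card C = (S : Subgroup H).index := by
      have : Nat.card (S : Subgroup H) * Nat.card C = Nat.card (S : Subgroup H) *
          (S : Subgroup H).index := by rw [hcard, h1]
      exact Nat.eq_of_mul_eq_mul_left Nat.card_pos this
    rw [h2]
    exact S.not_dvd_index
  have hCodd' : Odd (Nat.card C) := odd_of_not_two_dvd hCodd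
  have hCidx : C.index = 2 ^ k := by
    have h1 := C.card_mul_index
    have : Nat.card C * C.index = Nat.card C * Nat.card (S : Subgroup H) := by
      rw [h1, ← hcard, mul_comm]
    rw [← hk]
    exact Nat.eq_of_mul_eq_mul_left Nat.card_pos this
  have hsolv : Group.IsSolvable H := solvable_of_abelian_compl C hC hCodd ⟨k, hCidx⟩
  have hG : Nat.card H = Nat.card C * 2 ^ k := by rw [← hcard, hk, mul_comm]
  have hcop : (Nat.card C).Coprime (2 ^ k) :=
    Nat.Coprime.pow_right k (Nat.coprime_two_right.mpr hCodd')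
  have hCcomm : ∀ a ∈ C, ∀ b ∈ C, a * b = b * a := fun a ha b hb =>
    congrArg Subtype.val ((isMulCommutative_iff.mp hC) ⟨a, ha⟩ ⟨b, hb⟩)
  refine ⟨hsolv, ?_, ?_⟩
  · intro L
    obtain ⟨P⟩ : Nonempty (Sylow 2 L) := inferInstance
    obtain ⟨a, ha⟩ := IsPGroup.iff_card.mp P.2
    have hm : Odd (P : Subgroup L).index := odd_of_not_two_dvd P.not_dvd_index
    have hL : Nat.card L = (P : Subgroup L).index * 2 ^ a := by
      rw [← ha, mul_comm]; exact (P : Subgroup L).card_mul_index.symm
    have hcopL : ((P : Subgroup L).index).Coprime (2 ^ a) :=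
      Nat.Coprime.pow_right a (Nat.coprime_two_right.mpr hm)
    obtain ⟨D, hD⟩ := Cfsg.Agent.Lib.Helper1.hall_exists _ _ hL hcopL
    have hD' : Nat.card (D.map L.subtype) = (P : Subgroup L).index := by
      rw [Subgroup.card_map_of_injective L.subtype_injective, hD]
    obtain ⟨C', hC'card, hC'le⟩ := Cfsg.Agent.Lib.Helper1.hall_dominance _ _ hG hcop
      (D.map L.subtype) (by rw [hD']; exact Nat.Coprime.pow_right k (Nat.coprime_two_right.mpr hm))
    obtain ⟨g, hg⟩ := Cfsg.Agent.Lib.Helper1.hall_conj _ _ hG hcop C C' rfl hC'card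
    have hC'comm : ∀ x ∈ C', ∀ y ∈ C', x * y = y * x := by
      intro x hx y hy
      rw [← hg, Subgroup.mem_pointwise_smul_iff_inv_smul_mem] at hx hy
      have hx' : g⁻¹ * x * g ∈ C := by simpa [MulAut.smul_def] using hx
      have hy' : g⁻¹ * y * g ∈ C := by simpa [MulAut.smul_def] using hy
      have h := hCcomm _ hx' _ hy'
      calc x * y = g * ((g⁻¹ * x * g) * (g⁻¹ * y * g)) * g⁻¹ := by group
        _ = g * ((g⁻¹ * y * g) * (g⁻¹ * x * g)) * g⁻¹ := by rw [h]
        _ = y * x := by group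
    refine ⟨P, D, ?_, ?_⟩
    · refine isMulCommutative_iff.mpr (fun x y => Subtype.ext (Subtype.ext ?_))
      exact hC'comm _ (hC'le ⟨x, x.2, rfl⟩) _ (hC'le ⟨y, y.2, rfl⟩)
    · apply Subgroup.isComplement'_of_coprime
      · rw [hD, ha, hL, mul_comm]
      · rw [hD, ha]; exact hcopL.symm
  · intro N _
    obtain ⟨P⟩ : Nonempty (Sylow 2 (H ⧸ N)) := inferInstance
    have hDcomm : IsMulCommutative (C.map (QuotientGroup.mk' N)) :=
      Subgroup.map_isMulCommutative C _
    have hDodd : Odd (Nat.card (C.map (QuotientGroup.mk' N))) := by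
      obtain ⟨c, hc⟩ := Subgroup.card_map_dvd (H := C) (QuotientGroup.mk' N)
      rw [hc] at hCodd'
      exact (Nat.odd_mul.mp hCodd').1
    have hDidx : ∃ i : ℕ, (C.map (QuotientGroup.mk' N)).index = 2 ^ i := by
      have h1 : (C.map (QuotientGroup.mk' N)).index ∣ C.index :=
        Subgroup.index_map_dvd C (QuotientGroup.mk'_surjective N)
      rw [hCidx] at h1
      obtain ⟨i, -, hi⟩ := (Nat.dvd_prime_pow Nat.prime_two).mp h1
      exact ⟨i, hi⟩
    obtain ⟨i, hi⟩ := hDidx
    have hQ : Nat.card (H ⧸ N) = 2 ^ i * Nat.card (C.map (QuotientGroup.mk' N)) := by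
      rw [← hi, mul_comm]; exact (Subgroup.card_mul_index _).symm
    have hPcard : Nat.card (P : Subgroup (H ⧸ N)) = 2 ^ i := by
      rw [Sylow.card_eq_multiplicity, Cfsg.Agent.Lib.Helper61.factorization_two_of_eq hQ hDodd]
    refine ⟨P, C.map (QuotientGroup.mk' N), hDcomm, ?_⟩
    apply Subgroup.isComplement'_of_coprime
    · rw [hPcard, hQ]
    · rw [hPcard]
      exact Nat.Coprime.pow_left i (Nat.coprime_two_left.mpr hDodd)

end Cfsg.Agent.S3200
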