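import Cfsg.Statements.S4593
import Mathlib
import Cfsg.Agent.S0215

set_option autoImplicit false
open Cfsg

namespace Cfsg.Agent.S4593

universe u

/-- A finite group with abelian Sylow 2-subgroup `S`, no nontrivial normal subgroup of odd order and
trivial centre has `S` inside every subgroup `K` containing the commutators with `b ∈ S` and `b²`. -/
theorem no_index_two {H : Type u} [Group H] [Finite H] (K : Subgroup H)
    (S : Sylow 2 H) (hS : ∀ x ∈ S, ∀ y ∈ S, x * y = y * x)
    (b : H) (hbS : b ∈ S) (hbK : b ∉ K) (hb2 : b * b ∈ K)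
    (hcomm : ∀ n : H, n * b * n⁻¹ * b⁻¹ ∈ K)
    (hodd : ∀ N : Subgroup H, N.Normal → Odd (Nat.card N) → N = ⊥)
    (hcent : Subgroup.center H = ⊥) : False := by
  classical
  haveI : Fact (Nat.Prime 2) := ⟨Nat.prime_two⟩
  haveI hSc : IsMulCommutative (S : Subgroup H) := ⟨⟨fun x y => Subtype.ext (hS x x.2 y y.2)⟩⟩
  letI : CommGroup ↥(S : Subgroup H) :=
    { (inferInstance : Group ↥(S : Subgroup H)) with
      mul_comm := fun x y => Subtype.ext (hS x x.2 y y.2) }
  haveI : Fintype ↥(S : Subgroup H) := Fintype.ofFinite _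
  set N : Subgroup H := Subgroup.normalizer ((S : Subgroup H) : Set H) with hN
  have hNS : ∀ n ∈ N, ∀ s ∈ S, n * s * n⁻¹ ∈ S :=
    fun n hn s hs => (Subgroup.mem_normalizer_iff.1 hn s).1 hs
  have hSN : (S : Subgroup H) ≤ N := Subgroup.le_normalizer
  let bS : ↥(S : Subgroup H) := ⟨b, hbS⟩
  let cj : (n : H) → n ∈ N → ↥(S : Subgroup H) → ↥(S : Subgroup H) :=
    fun n hn s => ⟨n * s * n⁻¹, hNS n hn s s.2⟩
  let X : Finset ↥(S : Subgroup H) :=
    Finset.univ.filter (fun x => ∃ n ∈ N, (x : H) = n * b * n⁻¹)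
  have hXmem : ∀ x : ↥(S : Subgroup H), x ∈ X ↔ ∃ n ∈ N, (x : H) = n * b * n⁻¹ := by
    intro x; simp [X]
  let Pr : ↥(S : Subgroup H) := ∏ x ∈ X, x
  -- invariance
  have hcjX : ∀ (n : H) (hn : n ∈ N) (x : ↥(S : Subgroup H)), x ∈ X → cj n hn x ∈ X := by
    intro n hn x hx
    rw [hXmem] at hx ⊢
    obtain ⟨m, hm, hxm⟩ := hx
    refine ⟨n * m, N.mul_mem hn hm, ?_⟩
    show n * (x : H) * n⁻¹ = _
    rw [hxm]; group
  have hinv : ∀ n ∈ N, n * (Pr : H) * n⁻¹ = (Pr : H) := by
    intro n hn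
    let φ : ↥(S : Subgroup H) →* ↥(S : Subgroup H) :=
      { toFun := cj n hn
        map_one' := by apply Subtype.ext; show n * (1 : H) * n⁻¹ = 1; group
        map_mul' := fun s t => by
          apply Subtype.ext
          show n * ((s : H) * (t : H)) * n⁻¹ = (n * (s : H) * n⁻¹) * (n * (t : H) * n⁻¹)
          group }
    have h1 : (φ Pr : H) = n * (Pr : H) * n⁻¹ := rfl
    rw [← h1]
    congr 1
    show φ (∏ x ∈ X, x) = ∏ x ∈ X, x
    rw [map_prod]
    refine Finset.prod_nbij' (fun x => φ x) (fun x => cj n⁻¹ (N.inv_mem hn) x) ?_ ?_ ?_ ?_ ?_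
    · intro x hx; exact hcjX n hn x hx
    · intro x hx; exact hcjX n⁻¹ (N.inv_mem hn) x hx
    · intro x _; apply Subtype.ext
      show n⁻¹ * (n * (x : H) * n⁻¹) * n⁻¹⁻¹ = x
      group
    · intro x _; apply Subtype.ext
      show n * (n⁻¹ * (x : H) * n⁻¹⁻¹) * n⁻¹ = x
      group
    · intro x _; rfl
  -- oddness of the orbit
  have hXodd : Odd X.card := by
    letI act : MulAction ↥N H :=
      MulAction.compHom H ((MulAut.conj : H →* MulAut H).comp N.subtype)
    have hsmul : ∀ (n : ↥N) (x : H), n • x = (n : H) * x * (n : H)⁻¹ := fun n x => rfl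
    have h1 := MulAction.index_stabilizer ↥N b
    have h2 : (S : Subgroup H).subgroupOf N ≤ MulAction.stabilizer ↥N b := by
      intro s hs
      rw [MulAction.mem_stabilizer_iff, hsmul]
      have := hS (s : H) (Subgroup.mem_subgroupOf.1 hs) b hbS
      rw [this]; group
    have h3 : (MulAction.stabilizer ↥N b).index ∣ ((S : Subgroup H).subgroupOf N).index :=
      Subgroup.index_dvd_of_le h2
    have h4 : ((S : Subgroup H).subgroupOf N).index ∣ (S : Subgroup H).index := by
      have := Subgroup.relIndex_mul_index hSN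
      exact Dvd.intro _ this
    have h5 : ¬ 2 ∣ (S : Subgroup H).index := S.not_dvd_index
    have h6 : (MulAction.orbit ↥N b) = (fun x : ↥(S : Subgroup H) => (x : H)) '' (↑X : Set ↥(S : Subgroup H)) := by
      ext y
      constructor
      · rintro ⟨n, rfl⟩
        refine ⟨⟨(n : H) * b * (n : H)⁻¹, hNS n n.2 b hbS⟩, ?_, rfl⟩
        rw [Finset.mem_coe, hXmem]
        exact ⟨n, n.2, rfl⟩
      · rintro ⟨x, hx, rfl⟩
        rw [Finset.mem_coe, hXmem] at hx
        obtain ⟨n, hn, hxn⟩ := hx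
        exact ⟨⟨n, hn⟩, hxn.symm⟩
    have h7 : (MulAction.orbit ↥N b).ncard = X.card := by
      rw [h6, Set.ncard_image_of_injective _ Subtype.val_injective, Set.ncard_coe_finset]
    rw [← h7, ← h1]
    rw [← Nat.not_even_iff_odd, even_iff_two_dvd]
    intro h
    exact h5 (dvd_trans (dvd_trans h h3) h4)
  -- Pr is not in K
  have hPrK : (Pr : H) ≠ 1 := by
    intro hPr1
    let Q' : Subgroup ↥(S : Subgroup H) := K.subgroupOf S
    have h1 : Pr / bS ^ X.card ∈ Q' := by
      have : Pr / bS ^ X.card = ∏ x ∈ X, x / bS := by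
        rw [Finset.prod_div_distrib, Finset.prod_const]
      rw [this]
      refine Subgroup.prod_mem _ ?_
      intro x hx
      rw [hXmem] at hx
      obtain ⟨n, hn, hxn⟩ := hx
      rw [Subgroup.mem_subgroupOf]
      show (x : H) / b ∈ K
      rw [hxn, div_eq_mul_inv]
      exact hcomm n
    rw [Subgroup.mem_subgroupOf] at h1
    have h2 : (Pr : H) / b ^ X.card ∈ K := h1
    rw [hPr1, one_div] at h2
    have h3 : b ^ X.card ∈ K := by simpa using K.inv_mem h2
    obtain ⟨m, hm⟩ := hXodd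
    rw [hm, pow_succ, pow_mul, pow_two] at h3
    have h4 : ((b * b) ^ m)⁻¹ * ((b * b) ^ m * b) ∈ K := K.mul_mem (K.inv_mem (K.pow_mem hb2 m)) h3
    rw [inv_mul_cancel_left] at h4
    exact hbK h4
  -- the involution
  obtain ⟨a, ha⟩ : ∃ a, orderOf (Pr : H) = 2 ^ a := by
    have := (IsPGroup.iff_orderOf.1 S.isPGroup') Pr
    rwa [Subgroup.orderOf_coe]
  have ha0 : a ≠ 0 := by
    rintro rfl
    rw [pow_zero, orderOf_eq_one_iff] at ha
    exact hPrK ha
  set uu : H := (Pr : H) ^ (2 ^ (a - 1)) with huu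
  have huS : uu ∈ S := (S : Subgroup H).pow_mem Pr.2 _
  have hu1 : uu ≠ 1 := by
    refine pow_ne_one_of_lt_orderOf (by positivity) ?_
    rw [ha]
    exact Nat.pow_lt_pow_right (by norm_num) (by omega)
  have hu2 : orderOf uu = 2 := by
    refine orderOf_eq_prime ?_ hu1
    rw [huu, ← pow_mul, ← pow_succ, Nat.sub_add_cancel (Nat.one_le_iff_ne_zero.2 ha0), ← ha]
    exact pow_orderOf_eq_one _
  have hinvu : ∀ n ∈ N, n * uu * n⁻¹ = uu := by
    intro n hn
    rw [huu, ← conj_pow, hinv n hn]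
  have hiso : ∀ g : H, g * uu * g⁻¹ ∈ S → g * uu * g⁻¹ = uu := by
    intro g hg
    obtain ⟨n, hn, he⟩ := S.conj_eq_normalizer_conj_of_mem uu g⁻¹ huS (by simpa using hg)
    rw [inv_inv] at he
    rw [he]
    have := hinvu n⁻¹ (N.inv_mem hn)
    rwa [inv_inv] at this
  obtain ⟨N0, hN0, hN0odd, hc⟩ := Cfsg.Agent.S0215.result S uu hu2 huS hiso
  have hN0bot := hodd N0 hN0 hN0odd
  have hucent : uu ∈ Subgroup.center H := by
    rw [Subgroup.mem_center_iff]
    intro g
    have := hc g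
    rw [hN0bot, Subgroup.mem_bot] at this
    -- uu * g * uu⁻¹ * g⁻¹ = 1
    have h2 : uu * g = g * uu := by
      calc uu * g = (uu * g * uu⁻¹ * g⁻¹) * (g * uu) := by group
        _ = g * uu := by rw [this, one_mul]
    exact h2.symm
  rw [hcent, Subgroup.mem_bot] at hucent
  exact hu1 hucent

theorem conj_conj {G : Type u} [Group G] (φ : MulAut G) (g : G) :
    φ * MulAut.conj g * φ⁻¹ = MulAut.conj (φ g) := by
  ext x
  simp [MulAut.mul_apply, MulAut.conj_apply, MulAut.inv_apply]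

theorem conj_inj {G : Type u} [Group G] (hZ : Subgroup.center G = ⊥) :
    Function.Injective (MulAut.conj : G →* MulAut G) := by
  rw [injective_iff_map_eq_one]
  intro g hg
  have : g ∈ Subgroup.center G := by
    rw [Subgroup.mem_center_iff]
    intro x
    have h1 : (MulAut.conj g) x = x := by rw [hg]; rfl
    rw [MulAut.conj_apply] at h1
    calc x * g = (g * x * g⁻¹) * g := by rw [h1]
      _ = g * x := by group
  rw [hZ] at this
  exact Subgroup.mem_bot.1 this

theorem core {G : Type u} [Group G] [Finite G] (hZ : Subgroup.center G = ⊥)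
    (hcore : Cfsg.pPrimeCore 2 G = ⊥) (P : Sylow 2 G)
    (hab : IsMulCommutative (P : Subgroup G))
    (β : MulAut G) (j : ℕ) (hj : β ^ (2 ^ j) = 1) (hfix : ∀ x ∈ (P : Subgroup G), β x = x)
    (hsq : β * β ∈ (MulAut.conj : G →* MulAut G).range) :
    β ∈ (MulAut.conj : G →* MulAut G).range := by
  classical
  by_contra hβ
  haveI : Fact (Nat.Prime 2) := ⟨Nat.prime_two⟩
  set ι : G →* MulAut G := MulAut.conj with hι
  set Gt : Subgroup (MulAut G) := ι.range with hGt
  have hιinj : Function.Injective ι := conj_inj hZ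
  have hcc : ∀ (φ : MulAut G) (g : G), φ * ι g * φ⁻¹ = ι (φ g) := conj_conj
  haveI hGtN : Gt.Normal := ⟨by rintro _ ⟨x, rfl⟩ g; exact ⟨g x, (hcc g x).symm⟩⟩
  let H1 : Subgroup (MulAut G) :=
    { carrier := {h | h ∈ Gt ∨ h * β⁻¹ ∈ Gt}
      one_mem' := Or.inl Gt.one_mem
      mul_mem' := by
        rintro a c (ha | ha) (hc | hc)
        · exact Or.inl (Gt.mul_mem ha hc)
        · right
          have := Gt.mul_mem ha hc
          rwa [← mul_assoc] at this
        · right
          have h1 := hGtN.conj_mem c hc β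
          have := Gt.mul_mem ha h1
          have e : a * β⁻¹ * (β * c * β⁻¹) = a * c * β⁻¹ := by group
          rwa [e] at this
        · left
          have h1 := hGtN.conj_mem _ hc β
          have := Gt.mul_mem (Gt.mul_mem ha h1) hsq
          have e : a * β⁻¹ * (β * (c * β⁻¹) * β⁻¹) * (β * β) = a * c := by group
          rwa [e] at this
      inv_mem' := by
        rintro a (ha | ha)
        · exact Or.inl (Gt.inv_mem ha)
        · right
          have h1 := hGtN.conj_mem _ (Gt.inv_mem ha) β⁻¹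
          have := Gt.mul_mem h1 (Gt.inv_mem hsq)
          have e : β⁻¹ * (a * β⁻¹)⁻¹ * β⁻¹⁻¹ * (β * β)⁻¹ = a⁻¹ * β⁻¹ := by group
          rwa [e] at this }
  have hGtH1 : Gt ≤ H1 := fun h hh => Or.inl hh
  have hβH1 : β ∈ H1 := Or.inr (by rw [mul_inv_cancel]; exact Gt.one_mem)
  have hβp : ∀ p ∈ (P : Subgroup G), β * ι p = ι p * β := by
    intro p hp
    have := hcc β p
    rw [hfix p hp] at this
    calc β * ι p = (β * ι p * β⁻¹) * β := by group
      _ = ι p * β := by rw [this]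
  have hpp : ∀ p ∈ (P : Subgroup G), ∀ q ∈ (P : Subgroup G), ι p * ι q = ι q * ι p := by
    intro p hp q hq
    rw [← map_mul, ← map_mul]
    congr 1
    have := hab.is_comm.comm ⟨p, hp⟩ ⟨q, hq⟩
    exact congrArg Subtype.val this
  have hordβ : IsPGroup 2 (Subgroup.zpowers β) := by
    have hd : orderOf β ∣ 2 ^ j := orderOf_dvd_of_pow_eq_one hj
    obtain ⟨k, -, hk⟩ := (Nat.dvd_prime_pow Nat.prime_two).1 hd
    exact IsPGroup.of_card (n := k) (by rw [Nat.card_zpowers, hk])
  have hPt : IsPGroup 2 ((P : Subgroup G).map ι) := P.isPGroup'.map ι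
  have hT : IsPGroup 2 (Subgroup.zpowers β ⊔ (P : Subgroup G).map ι : Subgroup (MulAut G)) := by
    refine IsPGroup.to_sup_of_normal_right' hordβ hPt ?_
    refine le_trans ?_ (Subgroup.centralizer_le_normalizer _)
    rw [Subgroup.zpowers_le, Subgroup.mem_centralizer_iff]
    rintro _ ⟨p, hp, rfl⟩
    exact (hβp p hp).symm
  have hTle : (Subgroup.zpowers β ⊔ (P : Subgroup G).map ι : Subgroup (MulAut G)) ≤ H1 := by
    refine sup_le ?_ ?_
    · rw [Subgroup.zpowers_le]; exact hβH1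
    · exact le_trans (Subgroup.map_le_range ι _) hGtH1
  obtain ⟨S, hTS⟩ := (hT.comap_subtype (K := H1)).exists_le_sylow
  let b : ↥H1 := ⟨β, hβH1⟩
  have hbS : b ∈ S :=
    hTS (show (b : MulAut G) ∈ _ from Subgroup.mem_sup_left (Subgroup.mem_zpowers β))
  have hpS : ∀ p (hp : p ∈ (P : Subgroup G)), (⟨ι p, hGtH1 ⟨p, rfl⟩⟩ : ↥H1) ∈ S := fun p hp =>
    hTS (show ι p ∈ _ from Subgroup.mem_sup_right (Subgroup.mem_map_of_mem ι hp))
  let Q2 : Subgroup G := ((S : Subgroup ↥H1).map H1.subtype).comap ι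
  have hQ2 : IsPGroup 2 Q2 := (S.isPGroup'.map H1.subtype).comap_of_injective ι hιinj
  have hPQ2 : (P : Subgroup G) ≤ Q2 := fun p hp => ⟨_, hpS p hp, rfl⟩
  have hQ2P : Q2 = P := P.is_maximal' hQ2 hPQ2
  have hSform : ∀ s : ↥H1, s ∈ S →
      ∃ p ∈ (P : Subgroup G), (s : MulAut G) = ι p ∨ (s : MulAut G) = ι p * β := by
    intro s hs
    rcases s.2 with h | h
    · obtain ⟨g, hg⟩ := h
      have hgQ : g ∈ Q2 := ⟨s, hs, hg.symm⟩
      rw [hQ2P] at hgQ
      exact ⟨g, hgQ, Or.inl hg.symm⟩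
    · obtain ⟨g, hg⟩ := h
      have hsb : s * b⁻¹ ∈ S := (S : Subgroup ↥H1).mul_mem hs ((S : Subgroup ↥H1).inv_mem hbS)
      have hgQ : g ∈ Q2 := ⟨s * b⁻¹, hsb, hg.symm⟩
      rw [hQ2P] at hgQ
      refine ⟨g, hgQ, Or.inr ?_⟩
      rw [hg]; group
  have hSab : ∀ x ∈ S, ∀ y ∈ S, x * y = y * x := by
    intro x hx y hy
    obtain ⟨p, hp, hxp⟩ := hSform x hx
    obtain ⟨q, hq, hyq⟩ := hSform y hy
    apply Subtype.ext
    show (x : MulAut G) * (y : MulAut G) = (y : MulAut G) * (x : MulAut G)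
    have c1 : Commute (ι p) (ι q) := hpp p hp q hq
    have c2 : Commute (ι p) β := (hβp p hp).symm
    have c3 : Commute (ι q) β := (hβp q hq).symm
    rcases hxp with h | h <;> rcases hyq with h' | h' <;> rw [h, h']
    · exact c1
    · exact (c1.mul_right c2).eq
    · exact (c1.mul_left c3.symm).eq
    · exact ((c1.mul_right c2).mul_left (c3.symm.mul_right (Commute.refl β))).eq
  let K : Subgroup ↥H1 := Gt.subgroupOf H1
  have hbK : b ∉ K := fun h => hβ (Subgroup.mem_subgroupOf.1 h)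
  have hb2 : b * b ∈ K := Subgroup.mem_subgroupOf.2 hsq
  have hcomm : ∀ n : ↥H1, n * b * n⁻¹ * b⁻¹ ∈ K := by
    intro n
    rw [Subgroup.mem_subgroupOf]
    show (n : MulAut G) * β * (n : MulAut G)⁻¹ * β⁻¹ ∈ Gt
    rcases n.2 with h | h
    · have h1 := hGtN.conj_mem _ (Gt.inv_mem h) β
      have := Gt.mul_mem h h1
      rwa [← mul_assoc, ← mul_assoc] at this
    · have h1 := hGtN.conj_mem _ (Gt.inv_mem h) β
      have := Gt.mul_mem h h1
      have e : (n : MulAut G) * β⁻¹ * (β * ((n : MulAut G) * β⁻¹)⁻¹ * β⁻¹)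
          = (n : MulAut G) * β * (n : MulAut G)⁻¹ * β⁻¹ := by group
      rwa [e] at this
  have hsqGt : ∀ h ∈ H1, h * h ∈ Gt := by
    rintro h (hh | hh)
    · exact Gt.mul_mem hh hh
    · have h1 := hGtN.conj_mem _ hh β
      have := Gt.mul_mem (Gt.mul_mem hh h1) hsq
      have e : h * β⁻¹ * (β * (h * β⁻¹) * β⁻¹) * (β * β) = h * h := by group
      rwa [e] at this
  have hodd : ∀ N : Subgroup ↥H1, N.Normal → Odd (Nat.card N) → N = ⊥ := by
    intro N hN hNodd
    let N' : Subgroup G := (N.map H1.subtype).comap ι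
    have hN'n : N'.Normal := by
      constructor
      intro x hx g
      obtain ⟨n, hn, hnx⟩ := hx
      refine ⟨(⟨ι g, hGtH1 ⟨g, rfl⟩⟩ : ↥H1) * n * (⟨ι g, hGtH1 ⟨g, rfl⟩⟩ : ↥H1)⁻¹,
        hN.conj_mem n hn _, ?_⟩
      show ι g * (n : MulAut G) * (ι g)⁻¹ = ι (g * x * g⁻¹)
      have hnx' : (n : MulAut G) = ι x := hnx
      rw [hnx', map_mul, map_mul, map_inv]
    have hcard : Nat.card N' ∣ Nat.card N := by
      have h1 := Subgroup.card_comap_dvd_of_injective (N.map H1.subtype) ι hιinj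
      rwa [Subgroup.card_map_of_injective H1.subtype_injective] at h1
    have hN'odd : (Nat.card N').Coprime 2 := by
      have : Odd (Nat.card N') := hNodd.of_dvd_nat hcard
      exact Nat.coprime_two_right.2 this
    have hN'bot : N' = ⊥ := by
      have hle : N' ≤ Cfsg.pPrimeCore 2 G := le_sSup ⟨hN'n, hN'odd⟩
      rw [hcore] at hle
      exact le_bot_iff.1 hle
    rw [Subgroup.eq_bot_iff_forall]
    intro n hn
    have h1 : ((n * n : ↥H1) : MulAut G) ∈ Gt := hsqGt _ n.2
    obtain ⟨x, hx⟩ := h1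
    have hxN' : x ∈ N' := ⟨n * n, N.mul_mem hn hn, hx.symm⟩
    rw [hN'bot, Subgroup.mem_bot] at hxN'
    have hnn : n * n = 1 := by
      apply Subtype.ext
      rw [← hx, hxN', map_one]; rfl
    have ho2 : orderOf n ∣ 2 := orderOf_dvd_of_pow_eq_one (by rw [pow_two]; exact hnn)
    have hoN : orderOf n ∣ Nat.card N := Subgroup.orderOf_dvd_natCard N hn
    have ho1 : orderOf n = 1 := by
      rcases (Nat.dvd_prime Nat.prime_two).1 ho2 with h | h
      · exact h
      · rw [h] at hoN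
        exact absurd (even_iff_two_dvd.2 hoN) (Nat.not_even_iff_odd.2 hNodd)
    exact orderOf_eq_one_iff.1 ho1
  have hcent : Subgroup.center ↥H1 = ⊥ := by
    rw [Subgroup.eq_bot_iff_forall]
    intro z hz
    rw [Subgroup.mem_center_iff] at hz
    apply Subtype.ext
    show (z : MulAut G) = 1
    ext g
    have h1 := hz ⟨ι g, hGtH1 ⟨g, rfl⟩⟩
    have h2 : ι g * (z : MulAut G) = (z : MulAut G) * ι g := congrArg Subtype.val h1
    have h3 := hcc (z : MulAut G) g
    rw [← h2] at h3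
    have h4 : ι g = ι ((z : MulAut G) g) := by rw [← h3]; group
    exact (hιinj h4).symm
  exact no_index_two K S hSab b hbS hbK hb2 hcomm hodd hcent

theorem main {G : Type u} [Group G] [Finite G] (hZ : Subgroup.center G = ⊥)
    (hcore : Cfsg.pPrimeCore 2 G = ⊥) (P : Sylow 2 G)
    (hab : IsMulCommutative (P : Subgroup G)) :
    ∀ (j : ℕ) (α : MulAut G), α ^ (2 ^ j) = 1 → (∀ x ∈ (P : Subgroup G), α x = x) →
      α ∈ (MulAut.conj : G →* MulAut G).range := by
  intro j
  induction j with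
  | zero =>
    intro α hα _
    rw [pow_zero, pow_one] at hα
    rw [hα]; exact Subgroup.one_mem _
  | succ j ih =>
    intro α hα hfix
    have h1 : (α * α) ^ (2 ^ j) = 1 := by
      rw [← pow_two, ← pow_mul, ← pow_succ']; exact hα
    have h2 : ∀ x ∈ (P : Subgroup G), (α * α) x = x := fun x hx => by
      rw [MulAut.mul_apply, hfix x hx, hfix x hx]
    exact core hZ hcore P hab α (j + 1) hα hfix (ih (α * α) h1 h2)

/-- Let G be a finite group with trivial centre and no nontrivial normal subgroup of odd order, whose Sylow 2-subgroups are abelian, and let P be a Sylow 2-subgroup. Every automorphism of G of 2-power order that fixes P elementwise is inner. -/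
theorem result {G : Type*} [Group G] [Finite G] (hZ : Subgroup.center G = ⊥) (hcore : Cfsg.pPrimeCore 2 G = ⊥) (P : Sylow 2 G) (hab : IsMulCommutative (P : Subgroup G))
    (α : MulAut G) (h2 : ∃ j : ℕ, orderOf α = 2 ^ j) (hfix : ∀ x ∈ (P : Subgroup G), α x = x) :
    ∃ g : G, ∀ x : G, α x = g * x * g⁻¹ := by
  obtain ⟨j, hj⟩ := h2
  have hmem : α ∈ (MulAut.conj : G →* MulAut G).range :=
    main hZ hcore P hab j α (by rw [← hj]; exact pow_orderOf_eq_one α) hfix
  obtain ⟨g, hg⟩ := hmem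
  exact ⟨g, fun x => by rw [← hg]; rfl⟩

end Cfsg.Agent.S4593
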