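import Cfsg.Statements.S3206
import Mathlib
import Cfsg.Agent.S4593
import Cfsg.Agent.S0808
import Cfsg.Agent.Lib.Helper91.SL2Invol

set_option autoImplicit false
open Cfsg

namespace Cfsg.Agent.S3206

universe u v w

theorem central_aux {L : Type v} [Group L] (u k₂ k₃ : L) (hc : k₂ * u = u * k₂) :
    u = (u * k₂) * (u * k₃) * (u * (k₂ * k₃))⁻¹ := by
  calc u = u * (u * k₂) * k₂⁻¹ * u⁻¹ := by group
    _ = u * (k₂ * u) * k₂⁻¹ * u⁻¹ := by rw [← hc]
    _ = _ := by group

/-- Perfect central 2-extensions of a group whose Sylow 2-subgroup is elementary abelian of rank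
at least 3 with all involutions conjugate are trivial. -/
theorem ext_trivial {G : Type u} [Group G] [Finite G] (S : Sylow 2 G) (t : G)
    (P1 : ∀ s ∈ S, s * s = 1) (P2 : ∀ x ∈ S, ∀ y ∈ S, x * y = y * x)
    (P3 : ∀ s ∈ S, s ≠ 1 → ∃ g : G, s = g * t * g⁻¹)
    (P4 : ∃ s₁ ∈ S, ∃ s₂ ∈ S, ∃ s₃ ∈ S, s₁ ≠ 1 ∧ s₂ ≠ 1 ∧ s₃ ≠ 1 ∧ s₂ ≠ s₃ ∧ s₁ ≠ s₂ ∧
      s₁ ≠ s₃ ∧ s₁ ≠ s₂ * s₃)
    {L : Type v} [Group L] [Finite L] (Z : Subgroup L) (hperf : commutator L = ⊤)
    (hZc : Z ≤ Subgroup.center L) (hZ2 : IsPGroup 2 ↥Z) (π : L →* G)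
    (hπ : Function.Surjective π) (hker : ∀ x : L, π x = 1 ↔ x ∈ Z) : Z = ⊥ := by
  classical
  haveI : Fact (Nat.Prime 2) := ⟨Nat.prime_two⟩
  have hcen : ∀ z ∈ Z, ∀ g : L, g * z = z * g :=
    fun z hz g => Subgroup.mem_center_iff.1 (hZc hz) g
  have hsqZ : ∀ x : L, π x ∈ S → x * x ∈ Z := by
    intro x hx; rw [← hker, map_mul]; exact P1 _ hx
  have hkZ : ∀ x y : L, π x ∈ S → π y ∈ S → x⁻¹ * y * x * y⁻¹ ∈ Z := by
    intro x y hx hy
    rw [← hker]
    simp only [map_mul, map_inv]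
    have := P2 _ hx _ hy
    calc (π x)⁻¹ * π y * π x * (π y)⁻¹ = (π x)⁻¹ * (π y * π x) * (π y)⁻¹ := by group
      _ = (π x)⁻¹ * (π x * π y) * (π y)⁻¹ := by rw [this]
      _ = 1 := by group
  let Zsq : Subgroup L :=
    { carrier := {y | ∃ z ∈ Z, y = z * z}
      one_mem' := ⟨1, Z.one_mem, by simp⟩
      mul_mem' := by
        rintro _ _ ⟨z₁, hz₁, rfl⟩ ⟨z₂, hz₂, rfl⟩
        refine ⟨z₁ * z₂, Z.mul_mem hz₁ hz₂, ?_⟩
        have := hcen z₂ hz₂ z₁
        calc z₁ * z₁ * (z₂ * z₂) = z₁ * (z₁ * z₂) * z₂ := by group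
          _ = z₁ * (z₂ * z₁) * z₂ := by rw [this]
          _ = z₁ * z₂ * (z₁ * z₂) := by group
      inv_mem' := by
        rintro _ ⟨z, hz, rfl⟩
        exact ⟨z⁻¹, Z.inv_mem hz, by group⟩ }
  have hZsq_mem : ∀ z ∈ Z, z * z ∈ Zsq := fun z hz => ⟨z, hz, rfl⟩
  have hZsq_def : ∀ y ∈ Zsq, ∃ z ∈ Z, y = z * z := fun y hy => hy
  -- (★)
  have hstar : ∀ x y : L, π x ∈ S → π y ∈ S → π x ≠ 1 → π y ≠ 1 →
      (y * y) * (x * x)⁻¹ ∈ Zsq := by
    intro x y hx hy hx1 hy1
    obtain ⟨g₁, hg₁⟩ := P3 _ hx hx1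
    obtain ⟨g₂, hg₂⟩ := P3 _ hy hy1
    obtain ⟨h, hh⟩ := hπ (g₂ * g₁⁻¹)
    have hz : (h * x * h⁻¹)⁻¹ * y ∈ Z := by
      rw [← hker]
      simp only [map_mul, map_inv, hh, hg₁, hg₂]
      group
    obtain ⟨z, hzdef⟩ : ∃ z, z = (h * x * h⁻¹)⁻¹ * y := ⟨_, rfl⟩
    rw [← hzdef] at hz
    have hy' : y = h * x * h⁻¹ * z := by rw [hzdef]; group
    have hxx := hsqZ x hx
    have e1 : h * (x * x) * h⁻¹ = x * x := by
      have := hcen _ hxx h
      rw [this]; group
    have e2 : y * y = (x * x) * (z * z) := by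
      have hc := hcen z hz (h * x * h⁻¹)
      calc y * y = (h * x * h⁻¹ * z) * (h * x * h⁻¹ * z) := by rw [← hy']
        _ = h * x * h⁻¹ * (z * (h * x * h⁻¹)) * z := by group
        _ = h * x * h⁻¹ * ((h * x * h⁻¹) * z) * z := by rw [hc]
        _ = (h * (x * x) * h⁻¹) * (z * z) := by group
        _ = (x * x) * (z * z) := by rw [e1]
    have e3 : (y * y) * (x * x)⁻¹ = z * z := by
      rw [e2]
      have := hcen _ (Z.mul_mem hz hz) (x * x)
      rw [this]; group
    rw [e3]; exact hZsq_mem z hz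
  have hD : ∀ x y : L, π x ∈ S → π y ∈ S → π x ≠ 1 → π y ≠ 1 → π x ≠ π y →
      (y * y) * (x⁻¹ * y * x * y⁻¹) ∈ Zsq := by
    intro x y hx hy hx1 hy1 hxy
    have hxyS : π (x * y) ∈ S := by rw [map_mul]; exact (S : Subgroup G).mul_mem hx hy
    have hxy1 : π (x * y) ≠ 1 := by
      rw [map_mul]
      intro h
      apply hxy
      have h1 := P1 _ hx
      exact mul_left_cancel (h1.trans h.symm)
    have h1 := hstar x (x * y) hx hxyS hx1 hxy1
    have hk := hkZ x y hx hy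
    have hyy := hsqZ y hy
    have c1 := hcen _ hk
    have c2 := hcen _ hyy
    have e : (x * y) * (x * y) * (x * x)⁻¹ = (y * y) * (x⁻¹ * y * x * y⁻¹) := by
      calc (x * y) * (x * y) * (x * x)⁻¹
          = x * x * (x⁻¹ * y * x * y⁻¹) * (y * y) * (x * x)⁻¹ := by group
        _ = (x⁻¹ * y * x * y⁻¹) * (x * x) * (y * y) * (x * x)⁻¹ := by rw [c1 (x * x)]
        _ = (x⁻¹ * y * x * y⁻¹) * ((x * x) * (y * y)) * (x * x)⁻¹ := by group
        _ = (x⁻¹ * y * x * y⁻¹) * ((y * y) * (x * x)) * (x * x)⁻¹ := by rw [c2 (x * x)]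
        _ = (x⁻¹ * y * x * y⁻¹) * (y * y) := by group
        _ = (y * y) * (x⁻¹ * y * x * y⁻¹) := c2 _
    rw [e] at h1; exact h1
  obtain ⟨s₁, hs₁, s₂, hs₂, s₃, hs₃, h1, h2, h3, h23, h12, h13, h123⟩ := P4
  obtain ⟨x₁, rfl⟩ := hπ s₁
  obtain ⟨x₂, rfl⟩ := hπ s₂
  obtain ⟨x₃, rfl⟩ := hπ s₃
  have hu : x₁ * x₁ ∈ Zsq := by
    have a1 := hD x₁ x₂ hs₁ hs₂ h1 h2 h12
    have a2 := hD x₁ x₃ hs₁ hs₃ h1 h3 h13
    have h23S : π (x₂ * x₃) ∈ S := by rw [map_mul]; exact (S : Subgroup G).mul_mem hs₂ hs₃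
    have h23ne : π (x₂ * x₃) ≠ 1 := by
      rw [map_mul]; intro h
      exact h23 (mul_left_cancel ((P1 _ hs₂).trans h.symm))
    have a3 := hD x₁ (x₂ * x₃) hs₁ h23S h1 h23ne (by rw [map_mul]; exact h123)
    have b1 := hstar x₁ x₂ hs₁ hs₂ h1 h2
    have b2 := hstar x₁ x₃ hs₁ hs₃ h1 h3
    have b3 := hstar x₁ (x₂ * x₃) hs₁ h23S h1 h23ne
    have hk₃ := hkZ x₁ x₃ hs₁ hs₃
    have huZ := hsqZ x₁ hs₁
    have c1 : (x₁ * x₁) * (x₁⁻¹ * x₂ * x₁ * x₂⁻¹) ∈ Zsq := by
      have := Zsq.mul_mem (Zsq.inv_mem b1) a1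
      convert this using 1; group
    have c2 : (x₁ * x₁) * (x₁⁻¹ * x₃ * x₁ * x₃⁻¹) ∈ Zsq := by
      have := Zsq.mul_mem (Zsq.inv_mem b2) a2
      convert this using 1; group
    have c3 : (x₁ * x₁) * (x₁⁻¹ * (x₂ * x₃) * x₁ * (x₂ * x₃)⁻¹) ∈ Zsq := by
      have := Zsq.mul_mem (Zsq.inv_mem b3) a3
      convert this using 1; group
    have ebil : x₁⁻¹ * (x₂ * x₃) * x₁ * (x₂ * x₃)⁻¹
        = (x₁⁻¹ * x₂ * x₁ * x₂⁻¹) * (x₁⁻¹ * x₃ * x₁ * x₃⁻¹) := by
      calc x₁⁻¹ * (x₂ * x₃) * x₁ * (x₂ * x₃)⁻¹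
          = x₁⁻¹ * x₂ * x₁ * ((x₁⁻¹ * x₃ * x₁ * x₃⁻¹) * x₂⁻¹) := by group
        _ = x₁⁻¹ * x₂ * x₁ * (x₂⁻¹ * (x₁⁻¹ * x₃ * x₁ * x₃⁻¹)) := by rw [← hcen _ hk₃ x₂⁻¹]
        _ = (x₁⁻¹ * x₂ * x₁ * x₂⁻¹) * (x₁⁻¹ * x₃ * x₁ * x₃⁻¹) := by group
    rw [ebil] at c3
    have hfin := Zsq.mul_mem (Zsq.mul_mem c1 c2) (Zsq.inv_mem c3)
    have hcu := hcen _ huZ (x₁⁻¹ * x₂ * x₁ * x₂⁻¹)
    have e := central_aux (x₁ * x₁) (x₁⁻¹ * x₂ * x₁ * x₂⁻¹) (x₁⁻¹ * x₃ * x₁ * x₃⁻¹) hcu
    rw [e]; exact hfin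
  have hsq_all : ∀ y : L, π y ∈ S → y * y ∈ Zsq := by
    intro y hy
    by_cases hy1 : π y = 1
    · exact hZsq_mem y ((hker y).1 hy1)
    · have := Zsq.mul_mem (hstar x₁ y hs₁ hy h1 hy1) hu
      convert this using 1; group
  have hk_all : ∀ x y : L, π x ∈ S → π y ∈ S → x⁻¹ * y * x * y⁻¹ ∈ Zsq := by
    intro x y hx hy
    by_cases hx1 : π x = 1
    · have hxZ := (hker x).1 hx1
      have hc := hcen x hxZ y
      have : x⁻¹ * y * x * y⁻¹ = 1 := by
        calc x⁻¹ * y * x * y⁻¹ = x⁻¹ * (y * x) * y⁻¹ := by group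
          _ = x⁻¹ * (x * y) * y⁻¹ := by rw [hc]
          _ = 1 := by group
      rw [this]; exact Zsq.one_mem
    by_cases hy1 : π y = 1
    · have hyZ := (hker y).1 hy1
      have hc := hcen y hyZ x
      have : x⁻¹ * y * x * y⁻¹ = 1 := by
        calc x⁻¹ * y * x * y⁻¹ = x⁻¹ * (y * x) * y⁻¹ := by group
          _ = x⁻¹ * (x * y) * y⁻¹ := by rw [← hc]
          _ = 1 := by group
      rw [this]; exact Zsq.one_mem
    by_cases hxy : π x = π y
    · have hz : x⁻¹ * y ∈ Z := by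
        rw [← hker, map_mul, map_inv, hxy, inv_mul_cancel]
      have hc := hcen _ hz x
      have : x⁻¹ * y * x * y⁻¹ = 1 := by
        calc x⁻¹ * y * x * y⁻¹ = ((x⁻¹ * y) * x) * (x⁻¹ * y)⁻¹ * x⁻¹ := by group
          _ = (x * (x⁻¹ * y)) * (x⁻¹ * y)⁻¹ * x⁻¹ := by rw [← hc]
          _ = 1 := by group
      rw [this]; exact Zsq.one_mem
    · have h1' := hD x y hx hy hx1 hy1 hxy
      have h2' := hsq_all y hy
      have := Zsq.mul_mem (Zsq.inv_mem h2') h1'
      convert this using 1; group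
  -- the Sylow 2-subgroup of L
  have hŜ : IsPGroup 2 ↥((S : Subgroup G).comap π) := by
    rintro ⟨x, hx⟩
    have hxZ := hsqZ x hx
    obtain ⟨k, hk⟩ := hZ2 ⟨x * x, hxZ⟩
    refine ⟨k + 1, ?_⟩
    apply Subtype.ext
    have hk' : (x * x) ^ 2 ^ k = 1 := by
      have := congrArg Subtype.val hk
      simpa using this
    show x ^ 2 ^ (k + 1) = 1
    rw [pow_succ', pow_mul, pow_two]; exact hk'
  obtain ⟨P, hP⟩ := hŜ.exists_le_sylow
  have hPS : ∀ x ∈ P, π x ∈ S := by
    have hm : IsPGroup 2 ↥((P : Subgroup L).map π) := P.isPGroup'.map π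
    have hle : (S : Subgroup G) ≤ (P : Subgroup L).map π := by
      intro s hs
      obtain ⟨x, rfl⟩ := hπ s
      exact ⟨x, hP (show x ∈ (S : Subgroup G).comap π from hs), rfl⟩
    have := S.is_maximal' hm hle
    intro x hx
    have hx' : π x ∈ (P : Subgroup L).map π := ⟨x, hx, rfl⟩
    rw [this] at hx'; exact hx'
  have hZle : ∀ z ∈ Z, z ∈ Zsq := by
    intro z hz
    have hzc : z ∈ Subgroup.center L := hZc hz
    let ϕ : ↥(P : Subgroup L) →* Abelianization ↥(P : Subgroup L) := Abelianization.of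
    have key : ∀ (k : ℕ) (g₀ : L), g₀⁻¹ * z ^ k * g₀ ∈ (P : Subgroup L) →
        g₀⁻¹ * z ^ k * g₀ = z ^ k := by
      intro k g₀ _
      have := Subgroup.mem_center_iff.1 ((Subgroup.center L).pow_mem hzc k) g₀
      rw [mul_assoc, ← this, inv_mul_cancel_left]
    have h1 := MonoidHom.transfer_eq_pow ϕ z key
    have h2 : MonoidHom.transfer ϕ z = 1 := by
      have : z ∈ (MonoidHom.transfer ϕ).ker :=
        Abelianization.commutator_subset_ker _ (by rw [hperf]; trivial)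
      exact this
    rw [h2] at h1
    have hcomm : ∀ w : ↥(P : Subgroup L), ϕ w = 1 → (w : L) ∈ Zsq := by
      intro w hw
      have hw' : w ∈ commutator ↥(P : Subgroup L) := by
        rw [← Abelianization.ker_of]; exact hw
      have hle : commutator ↥(P : Subgroup L) ≤ Zsq.comap (P : Subgroup L).subtype := by
        rw [commutator_def, Subgroup.commutator_le]
        intro g₁ _ g₂ _
        rw [Subgroup.mem_comap, commutatorElement_def]
        show (g₁ : L) * (g₂ : L) * (g₁ : L)⁻¹ * (g₂ : L)⁻¹ ∈ Zsq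
        have := hk_all (g₁ : L)⁻¹ (g₂ : L)
          (by rw [map_inv]; exact (S : Subgroup G).inv_mem (hPS _ g₁.2)) (hPS _ g₂.2)
        simpa using this
      exact hle hw'
    have h5 : z ^ (P : Subgroup L).index ∈ Zsq := hcomm _ h1.symm
    have hodd : ¬ 2 ∣ (P : Subgroup L).index := P.not_dvd_index
    obtain ⟨k, hk⟩ : ∃ k, orderOf z = 2 ^ k := by
      have := (IsPGroup.iff_orderOf.1 hZ2) ⟨z, hz⟩
      rwa [Subgroup.orderOf_mk] at this
    have hcop : ((P : Subgroup L).index).Coprime (orderOf z) := by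
      rw [hk]
      exact Nat.Coprime.pow_right _
        (Nat.coprime_comm.1 ((Nat.Prime.coprime_iff_not_dvd Nat.prime_two).2 hodd))
    obtain ⟨m, hm⟩ := exists_pow_eq_self_of_coprime hcop
    rw [← hm]; exact Zsq.pow_mem h5 m
  have hpow : ∀ k : ℕ, ∀ z ∈ Z, ∃ w ∈ Z, z = w ^ (2 ^ k) := by
    intro k
    induction k with
    | zero => intro z hz; exact ⟨z, hz, by simp⟩
    | succ k ih =>
      intro z hz
      obtain ⟨w, hw, rfl⟩ := ih z hz
      obtain ⟨v, hv, hwv⟩ := hZsq_def w (hZle w hw)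
      refine ⟨v, hv, ?_⟩
      rw [hwv, ← pow_two, ← pow_mul, ← pow_succ']
  rw [Subgroup.eq_bot_iff_forall]
  intro z hz
  obtain ⟨m, hm⟩ := (IsPGroup.iff_card.1 hZ2)
  obtain ⟨w, hw, rfl⟩ := hpow m z hz
  have := pow_card_eq_one' (G := ↥Z) (x := ⟨w, hw⟩)
  rw [hm] at this
  exact congrArg Subtype.val this

section psl
open Cfsg.Agent.S0807 Cfsg.Agent.S0809

theorem sl_centralizer_aux {F : Type*} [Field F] [Fintype F] (h2 : (2 : F) ≠ 0)
    (g h Y : SLF F) (hg : g * g = negOne) (hgh : h * g = g⁻¹ * h)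
    (hYg : g * Y = Y * g ∨ g * Y = Y * g * negOne)
    (hYh : h * Y = Y * h ∨ h * Y = Y * h * negOne) :
    (QuotientGroup.mk Y : PSLF F) = 1 ∨ (QuotientGroup.mk Y : PSLF F) = QuotientGroup.mk g ∨
    (QuotientGroup.mk Y : PSLF F) = QuotientGroup.mk h ∨
    (QuotientGroup.mk Y : PSLF F) = QuotientGroup.mk g * QuotientGroup.mk h := by
  have hgi : g⁻¹ = g * negOne := by
    apply inv_eq_of_mul_eq_one_right
    rw [← mul_assoc, hg, negOne_sq]
  have hgh' : h * g = g * h * negOne := by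
    rw [hgh, hgi, mul_assoc, negOne_mul h, mul_assoc]
  have hmg : (QuotientGroup.mk g : PSLF F) * QuotientGroup.mk g = 1 := by
    rw [← QuotientGroup.mk_mul, hg, mk_negOne h2]
  have hh := anti_sq h2 g h hg hgh
  have hmh : (QuotientGroup.mk h : PSLF F) * QuotientGroup.mk h = 1 := by
    rw [← QuotientGroup.mk_mul, hh, mk_negOne h2]
  -- step 1: fix the g-sign
  obtain ⟨Y₁, hY₁, hA, hB⟩ : ∃ Y₁ : SLF F, (Y₁ = Y ∨ Y₁ = Y * h) ∧ g * Y₁ = Y₁ * g ∧
      (h * Y₁ = Y₁ * h ∨ h * Y₁ = Y₁ * h * negOne) := by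
    rcases hYg with hY | hY
    · exact ⟨Y, Or.inl rfl, hY, hYh⟩
    · refine ⟨Y * h, Or.inr rfl, ?_, ?_⟩
      · calc g * (Y * h) = (g * Y) * h := by group
          _ = (Y * g * negOne) * h := by rw [hY]
          _ = Y * (g * (negOne * h)) := by group
          _ = Y * (g * (h * negOne)) := by rw [negOne_mul h]
          _ = Y * (g * h * negOne) := by group
          _ = Y * (h * g) := by rw [hgh']
          _ = (Y * h) * g := by group
      · rcases hYh with hY' | hY'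
        · left
          calc h * (Y * h) = (h * Y) * h := by group
            _ = (Y * h) * h := by rw [hY']
        · right
          calc h * (Y * h) = (h * Y) * h := by group
            _ = (Y * h * negOne) * h := by rw [hY']
            _ = Y * h * (negOne * h) := by group
            _ = Y * h * (h * negOne) := by rw [negOne_mul h]
            _ = (Y * h) * h * negOne := by group
  -- step 2: fix the h-sign
  obtain ⟨Y₂, hY₂, hA₂, hB₂⟩ : ∃ Y₂ : SLF F, (Y₂ = Y₁ ∨ Y₂ = Y₁ * g) ∧ g * Y₂ = Y₂ * g ∧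
      h * Y₂ = Y₂ * h := by
    rcases hB with hY | hY
    · exact ⟨Y₁, Or.inl rfl, hA, hY⟩
    · refine ⟨Y₁ * g, Or.inr rfl, ?_, ?_⟩
      · calc g * (Y₁ * g) = (g * Y₁) * g := by group
          _ = (Y₁ * g) * g := by rw [hA]
      · calc h * (Y₁ * g) = (h * Y₁) * g := by group
          _ = (Y₁ * h * negOne) * g := by rw [hY]
          _ = Y₁ * h * (negOne * g) := by group
          _ = Y₁ * h * (g * negOne) := by rw [negOne_mul g]
          _ = Y₁ * (h * g) * negOne := by group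
          _ = Y₁ * (g * h * negOne) * negOne := by rw [hgh']
          _ = Y₁ * g * h * (negOne * negOne) := by group
          _ = (Y₁ * g) * h := by rw [negOne_sq, mul_one]
  have hone : (QuotientGroup.mk Y₂ : PSLF F) = 1 := by
    rcases Cfsg.Agent.S0808.comm_pair h2 Y₂ g h hg hgh hA₂.symm hB₂.symm with h' | h'
    · rw [h']; rfl
    · rw [h']; exact mk_negOne h2
  have hgi' : (QuotientGroup.mk g : PSLF F)⁻¹ = QuotientGroup.mk g :=
    inv_eq_of_mul_eq_one_right hmg
  have hhi' : (QuotientGroup.mk h : PSLF F)⁻¹ = QuotientGroup.mk h :=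
    inv_eq_of_mul_eq_one_right hmh
  rcases hY₂ with rfl | rfl <;> rcases hY₁ with rfl | rfl
  · exact Or.inl hone
  · right; right; left
    rw [QuotientGroup.mk_mul] at hone
    rw [eq_inv_of_mul_eq_one_left hone, hhi']
  · right; left
    rw [QuotientGroup.mk_mul] at hone
    rw [eq_inv_of_mul_eq_one_left hone, hgi']
  · right; right; right
    rw [QuotientGroup.mk_mul, QuotientGroup.mk_mul, mul_assoc] at hone
    rw [eq_inv_of_mul_eq_one_left hone, mul_inv_rev, hgi', hhi']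

theorem psl_klein {F : Type*} [Field F] [Fintype F] (hFo : Odd (Fintype.card F))
    {H : Type*} [Group H] (e : H ≃* Matrix.ProjectiveSpecialLinearGroup (Fin 2) F) :
    ∃ a b : H, a ≠ 1 ∧ b ≠ 1 ∧ a ≠ b ∧ a * a = 1 ∧ b * b = 1 ∧ a * b = b * a ∧
      (∀ y : H, y * a = a * y → y * b = b * y → (y = 1 ∨ y = a ∨ y = b ∨ y = a * b)) ∧
      (∃ n : H, n * a * n⁻¹ = b) ∧ (∃ n : H, n * a * n⁻¹ = a * b) := by
  classical
  have h2 : (2 : F) ≠ 0 := by
    intro h
    have hchar : ringChar F = 2 :=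
      CharP.ringChar_of_prime_eq_zero Nat.prime_two (by exact_mod_cast h)
    have := FiniteField.even_card_iff_char_two.1 hchar
    obtain ⟨m, hm⟩ := hFo
    omega
  have hodd' : Fintype.card F % 2 = 1 := Nat.odd_iff.1 hFo
  have h12 := Cfsg.Agent.S0807.result (F := F) rfl hFo
  have hpos : 0 < Nat.card (Matrix.ProjectiveSpecialLinearGroup (Fin 2) F) := Nat.card_pos
  have hne : Nat.card {V : Subgroup (PSLF F) // IsKleinFour V} ≠ 0 := by
    intro h0; rw [h0] at h12; omega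
  obtain ⟨⟨V, hV⟩⟩ := (Nat.card_ne_zero.1 hne).1
  obtain ⟨hsq, hcomm⟩ := klein_facts V hV
  have h4 : Nat.card ↥V = 4 := hV.card_four
  obtain ⟨a₀, ha₀V, ha₀1⟩ : ∃ a₀ ∈ V, a₀ ≠ 1 := by
    by_contra hcon
    push Not at hcon
    have hbot : V = ⊥ := (Subgroup.eq_bot_iff_forall V).2 hcon
    have := (Subgroup.eq_bot_iff_card V).1 hbot
    omega
  have hoa : orderOf a₀ = 2 := orderOf_eq_prime (by rw [pow_two]; exact hsq a₀ ha₀V) ha₀1
  obtain ⟨b₀, hb₀V, hb₀1, hb₀a⟩ : ∃ b₀ ∈ V, b₀ ≠ 1 ∧ b₀ ≠ a₀ := by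
    by_contra hcon
    push Not at hcon
    have hle : V ≤ Subgroup.zpowers a₀ := by
      intro x hx
      by_cases hx1 : x = 1
      · rw [hx1]; exact Subgroup.one_mem _
      · rw [hcon x hx hx1]; exact Subgroup.mem_zpowers a₀
    have := Subgroup.card_le_of_le hle
    rw [Nat.card_zpowers, hoa] at this
    omega
  have hob : orderOf b₀ = 2 := orderOf_eq_prime (by rw [pow_two]; exact hsq b₀ hb₀V) hb₀1
  have hab1 : a₀ * b₀ ≠ 1 := by
    intro h
    apply hb₀a
    have h1 : a₀⁻¹ = b₀ := inv_eq_of_mul_eq_one_right h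
    rw [← h1, inv_eq_of_mul_eq_one_right (hsq a₀ ha₀V)]
  have hoab : orderOf (a₀ * b₀) = 2 :=
    orderOf_eq_prime (by rw [pow_two]; exact hsq _ (V.mul_mem ha₀V hb₀V)) hab1
  obtain ⟨n₁, hn₁⟩ := Cfsg.Agent.Lib.Helper91.psl2_invol_conj hodd' a₀ b₀ hoa hob
  obtain ⟨n₂, hn₂⟩ := Cfsg.Agent.Lib.Helper91.psl2_invol_conj hodd' a₀ (a₀ * b₀) hoa hoab
  have hcent : ∀ y : PSLF F, y * a₀ = a₀ * y → y * b₀ = b₀ * y →
      (y = 1 ∨ y = a₀ ∨ y = b₀ ∨ y = a₀ * b₀) := by
    obtain ⟨g, rfl⟩ := QuotientGroup.mk_surjective a₀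
    obtain ⟨h, rfl⟩ := QuotientGroup.mk_surjective b₀
    obtain ⟨hg, hgh⟩ := pair_of_klein h2 g h (hsq _ ha₀V) (hsq _ hb₀V) (hcomm _ ha₀V _ hb₀V)
      ha₀1 hb₀1 (fun hh => hb₀a hh.symm)
    intro y hya hyb
    obtain ⟨Y, rfl⟩ := QuotientGroup.mk_surjective y
    rw [← QuotientGroup.mk_mul, ← QuotientGroup.mk_mul] at hya hyb
    exact sl_centralizer_aux h2 g h Y hg hgh ((mk_eq_iff h2 _ _).1 hya) ((mk_eq_iff h2 _ _).1 hyb)
  refine ⟨e.symm a₀, e.symm b₀, ?_, ?_, ?_, ?_, ?_, ?_, ?_, ?_, ?_⟩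
  · intro h; exact ha₀1 ((MulEquiv.map_eq_one_iff e.symm).1 h)
  · intro h; exact hb₀1 ((MulEquiv.map_eq_one_iff e.symm).1 h)
  · intro h; exact hb₀a (e.symm.injective h).symm
  · rw [← map_mul, hsq a₀ ha₀V, map_one]
  · rw [← map_mul, hsq b₀ hb₀V, map_one]
  · rw [← map_mul, ← map_mul, hcomm _ ha₀V _ hb₀V]
  · intro y hya hyb
    have h1 : e y * a₀ = a₀ * e y := by
      have := congrArg e hya
      simpa using this
    have h2' : e y * b₀ = b₀ * e y := by
      have := congrArg e hyb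
      simpa using this
    rcases hcent (e y) h1 h2' with h | h | h | h
    · left; exact (MulEquiv.map_eq_one_iff e).1 h
    · right; left; rw [← h, e.symm_apply_apply]
    · right; right; left; rw [← h, e.symm_apply_apply]
    · right; right; right; rw [← map_mul, ← h, e.symm_apply_apply]
  · exact ⟨e.symm n₁, by rw [← map_inv, ← map_mul, ← map_mul, hn₁]⟩
  · exact ⟨e.symm n₂, by rw [← map_inv, ← map_mul, ← map_mul, hn₂, map_mul]⟩

end psl

theorem simple_center {H : Type u} [Group H] [IsSimpleGroup H]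
    (hnc : ¬ ∀ x y : H, x * y = y * x) : Subgroup.center H = ⊥ := by
  rcases (Subgroup.Normal.eq_bot_or_eq_top
    (inferInstance : (Subgroup.center H).Normal)) with h | h
  · exact h
  · exfalso; apply hnc; intro x y
    have : y ∈ Subgroup.center H := by rw [h]; trivial
    exact Subgroup.mem_center_iff.1 this x

theorem simple_core {H : Type u} [Group H] [Finite H] [IsSimpleGroup H] (a : H)
    (ha : orderOf a = 2) : Cfsg.pPrimeCore 2 H = ⊥ := by
  unfold Cfsg.pPrimeCore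
  rw [eq_bot_iff]
  apply sSup_le
  rintro N ⟨hN, hcop⟩
  rcases hN.eq_bot_or_eq_top with h | h
  · rw [h]
  · exfalso
    rw [h, Subgroup.card_top] at hcop
    have h2 : 2 ∣ Nat.card H := ha ▸ orderOf_dvd_natCard a
    have := Nat.Coprime.eq_one_of_dvd hcop.symm h2
    omega

/-- In a group with abelian Sylow 2-subgroup `S`, the conjugates of `b ∈ S` lying in `S` are
odd in number. -/
theorem odd_conj {H : Type u} [Group H] [Finite H] (S : Sylow 2 H)
    (hS : ∀ x ∈ S, ∀ y ∈ S, x * y = y * x) (b : H) (hbS : b ∈ S) :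
    Odd ({x : H | x ∈ S ∧ ∃ g : H, x = g * b * g⁻¹} : Set H).ncard := by
  classical
  haveI : Fact (Nat.Prime 2) := ⟨Nat.prime_two⟩
  haveI hSc : IsMulCommutative (S : Subgroup H) := ⟨⟨fun x y => Subtype.ext (hS x x.2 y y.2)⟩⟩
  set N : Subgroup H := Subgroup.normalizer ((S : Subgroup H) : Set H) with hN
  have hNS : ∀ n ∈ N, ∀ s ∈ S, n * s * n⁻¹ ∈ S :=
    fun n hn s hs => (Subgroup.mem_normalizer_iff.1 hn s).1 hs
  have hSN : (S : Subgroup H) ≤ N := Subgroup.le_normalizer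
  letI act : MulAction ↥N H :=
    MulAction.compHom H ((MulAut.conj : H →* MulAut H).comp N.subtype)
  have hsmul : ∀ (n : ↥N) (x : H), n • x = (n : H) * x * (n : H)⁻¹ := fun n x => rfl
  have h1 := MulAction.index_stabilizer ↥N b
  have h2 : (S : Subgroup H).subgroupOf N ≤ MulAction.stabilizer ↥N b := by
    intro s hs
    rw [MulAction.mem_stabilizer_iff, hsmul]
    have := hS (s : H) (Subgroup.mem_subgroupOf.1 hs) b hbS
    rw [this]; group
  have h3 : (MulAction.stabilizer ↥N b).index ∣ ((S : Subgroup H).subgroupOf N).index :=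
    Subgroup.index_dvd_of_le h2
  have h4 : ((S : Subgroup H).subgroupOf N).index ∣ (S : Subgroup H).index := by
    have := Subgroup.relIndex_mul_index hSN
    exact Dvd.intro _ this
  have h5 : ¬ 2 ∣ (S : Subgroup H).index := S.not_dvd_index
  have h6 : (MulAction.orbit ↥N b) = {x : H | x ∈ S ∧ ∃ g : H, x = g * b * g⁻¹} := by
    ext y
    constructor
    · rintro ⟨n, rfl⟩
      exact ⟨hNS n n.2 b hbS, n, rfl⟩
    · rintro ⟨hy, g, rfl⟩
      obtain ⟨n, hn, he⟩ := S.conj_eq_normalizer_conj_of_mem b g⁻¹ hbS (by simpa using hy)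
      rw [inv_inv] at he
      refine ⟨⟨n⁻¹, N.inv_mem hn⟩, ?_⟩
      show (⟨n⁻¹, N.inv_mem hn⟩ : ↥N) • b = g * b * g⁻¹
      rw [hsmul, he]
      simp
  rw [← h6, ← h1]
  rw [← Nat.not_even_iff_odd, even_iff_two_dvd]
  intro h
  exact h5 (dvd_trans (dvd_trans h h3) h4)

theorem card4 {G : Type u} (w x y z : G) (h1 : w ≠ x) (h2 : w ≠ y) (h3 : w ≠ z)
    (h4 : x ≠ y) (h5 : x ≠ z) (h6 : y ≠ z) : ({w, x, y, z} : Set G).ncard = 4 := by
  classical
  have : ({w, x, y, z} : Set G) = ((({w, x, y, z} : Finset G)) : Set G) := by simp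
  rw [this, Set.ncard_coe_finset]
  rw [Finset.card_insert_of_notMem, Finset.card_insert_of_notMem, Finset.card_pair h6]
  · simp [h4, h5]
  · simp [h1, h2, h3]

theorem structure_S {G : Type u} [Group G] [Finite G] [IsSimpleGroup G]
    (hG : ¬ IsMulCommutative G) (hab : ∀ S : Sylow 2 G, IsMulCommutative ↥(S : Subgroup G))
    (t : G) (ht : orderOf t = 2)
    (E : Subgroup G)
    (hE : Cfsg.IsInternalDirectProduct (Subgroup.zpowers t) E (Subgroup.centralizer ({t} : Set G)))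
    {F : Type w} [Field F] [Fintype F] (hFo : Odd (Fintype.card F)) (hF3 : 3 < Fintype.card F)
    (N : Subgroup ↥E) [N.Normal]
    (hN : Nonempty (↥N ≃* Matrix.ProjectiveSpecialLinearGroup (Fin 2) F))
    (hNc : Subgroup.centralizer (N : Set ↥E) = ⊥) :
    ∃ S : Sylow 2 G, (∀ s ∈ S, s * s = 1) ∧ (∀ x ∈ S, ∀ y ∈ S, x * y = y * x) ∧
      (∀ s ∈ S, s ≠ 1 → ∃ g : G, s = g * t * g⁻¹) ∧
      (∃ s₁ ∈ S, ∃ s₂ ∈ S, ∃ s₃ ∈ S, s₁ ≠ 1 ∧ s₂ ≠ 1 ∧ s₃ ≠ 1 ∧ s₂ ≠ s₃ ∧ s₁ ≠ s₂ ∧
        s₁ ≠ s₃ ∧ s₁ ≠ s₂ * s₃) := by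
  classical
  haveI : Fact (Nat.Prime 2) := ⟨Nat.prime_two⟩
  obtain ⟨e⟩ := hN
  obtain ⟨a, b, ha1, hb1, hab', haa, hbb, hcomm, hcent, ⟨n₁, hn₁⟩, ⟨n₂, hn₂⟩⟩ := psl_klein hFo e
  obtain ⟨hzE, hEC, htE, hinf, hsup⟩ := hE
  have ht1 : t ≠ 1 := by rintro rfl; rw [orderOf_one] at ht; omega
  have htt : t * t = 1 := by have := pow_orderOf_eq_one t; rwa [ht, pow_two] at this
  have htc : ∀ y ∈ E, t * y = y * t := fun y hy => htE t (Subgroup.mem_zpowers t) y hy
  have htnE : t ∉ E := by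
    intro h
    have : t ∈ Subgroup.zpowers t ⊓ E := ⟨Subgroup.mem_zpowers t, h⟩
    rw [hinf, Subgroup.mem_bot] at this
    exact ht1 this
  let ι : ↥N →* G := E.subtype.comp N.subtype
  have hιinj : Function.Injective ι := fun x y h => Subtype.ext (Subtype.ext h)
  have hιE : ∀ x : ↥N, ι x ∈ E := fun x => (x : ↥E).2
  obtain ⟨a', ha'⟩ : ∃ a', a' = ι a := ⟨_, rfl⟩
  obtain ⟨b', hb'⟩ : ∃ b', b' = ι b := ⟨_, rfl⟩
  have ha'1 : a' ≠ 1 := fun h => ha1 (hιinj ((ha'.symm.trans h).trans (map_one ι).symm))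
  have hb'1 : b' ≠ 1 := fun h => hb1 (hιinj ((hb'.symm.trans h).trans (map_one ι).symm))
  have ha'b' : a' ≠ b' := fun h => hab' (hιinj ((ha'.symm.trans h).trans hb'))
  have ha'a' : a' * a' = 1 := by rw [ha', ← map_mul, haa, map_one]
  have hb'b' : b' * b' = 1 := by rw [hb', ← map_mul, hbb, map_one]
  have hc' : a' * b' = b' * a' := by rw [ha', hb', ← map_mul, ← map_mul, hcomm]
  have ha'E : a' ∈ E := ha' ▸ hιE a
  have hb'E : b' ∈ E := hb' ▸ hιE b
  have hab1 : a' * b' ≠ 1 := by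
    intro h; apply ha'b'
    have h1 : a'⁻¹ = b' := inv_eq_of_mul_eq_one_right h
    rw [← h1, inv_eq_of_mul_eq_one_right ha'a']
  let V : Subgroup G := Cfsg.Agent.S0807.kleinSub a' b' ha'a' hb'b' hc'
  have hVmem : ∀ x, x ∈ V ↔ x = 1 ∨ x = a' ∨ x = b' ∨ x = a' * b' := fun x => Iff.rfl
  have hVE : V ≤ E := by
    intro x hx
    rcases (hVmem x).1 hx with h | h | h | h <;> rw [h]
    · exact E.one_mem
    · exact ha'E
    · exact hb'E
    · exact E.mul_mem ha'E hb'E
  have hVsq : ∀ x ∈ V, x * x = 1 := by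
    intro x hx
    rcases (hVmem x).1 hx with h | h | h | h <;> rw [h]
    · simp
    · exact ha'a'
    · exact hb'b'
    · calc a' * b' * (a' * b') = a' * (b' * a') * b' := by group
        _ = a' * (a' * b') * b' := by rw [hc']
        _ = (a' * a') * (b' * b') := by group
        _ = 1 := by rw [ha'a', hb'b', one_mul]
  have hVp : IsPGroup 2 ↥V := by
    rintro ⟨x, hx⟩
    refine ⟨1, ?_⟩
    apply Subtype.ext
    show x ^ 2 ^ 1 = 1
    rw [pow_one, pow_two]; exact hVsq x hx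
  have htp : IsPGroup 2 ↥(Subgroup.zpowers t) :=
    IsPGroup.of_card (n := 1) (by rw [Nat.card_zpowers, ht, pow_one])
  have hT : IsPGroup 2 ↥(Subgroup.zpowers t ⊔ V) := by
    refine IsPGroup.to_sup_of_normal_right' htp hVp ?_
    refine le_trans ?_ (Subgroup.centralizer_le_normalizer _)
    rw [Subgroup.zpowers_le, Subgroup.mem_centralizer_iff]
    intro x hx
    exact (htc x (hVE hx)).symm
  obtain ⟨S, hTS⟩ := hT.exists_le_sylow
  have htS : t ∈ S := hTS (Subgroup.mem_sup_left (Subgroup.mem_zpowers t))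
  have hVS : V ≤ S := le_trans le_sup_right hTS
  have ha'S : a' ∈ S := hVS ((hVmem a').2 (Or.inr (Or.inl rfl)))
  have hb'S : b' ∈ S := hVS ((hVmem b').2 (Or.inr (Or.inr (Or.inl rfl))))
  have hSab : ∀ x ∈ S, ∀ y ∈ S, x * y = y * x := by
    intro x hx y hy
    have := (hab S).is_comm.comm ⟨x, hx⟩ ⟨y, hy⟩
    exact congrArg Subtype.val this
  have hSE : ∀ s ∈ S, s ∈ E ∨ t * s ∈ E := by
    let M₀ : Subgroup G :=
      { carrier := {x | x ∈ E ∨ t * x ∈ E}
        one_mem' := Or.inl E.one_mem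
        mul_mem' := by
          rintro x y (hx | hx) (hy | hy)
          · exact Or.inl (E.mul_mem hx hy)
          · right
            have := E.mul_mem hx hy
            have e : t * (x * y) = x * (t * y) := by rw [← mul_assoc, htc x hx, mul_assoc]
            rw [e]; exact this
          · right
            have := E.mul_mem hx hy
            rwa [mul_assoc] at this
          · left
            have := E.mul_mem hx hy
            have e : x * y = (t * x) * (t * y) := by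
              have h1 := htc (t * x) hx
              calc x * y = (t * t) * x * y := by rw [htt, one_mul]
                _ = (t * (t * x)) * y := by group
                _ = ((t * x) * t) * y := by rw [h1]
                _ = (t * x) * (t * y) := by group
            rw [e]; exact this
        inv_mem' := by
          rintro x (hx | hx)
          · exact Or.inl (E.inv_mem hx)
          · right
            have h1 := htc (t * x)⁻¹ (E.inv_mem hx)
            have e : t * x⁻¹ = (t * x)⁻¹ := by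
              calc t * x⁻¹ = t * (t * x)⁻¹ * t := by group
                _ = (t * x)⁻¹ * t * t := by rw [h1]
                _ = (t * x)⁻¹ := by rw [mul_assoc, htt, mul_one]
            rw [e]; exact E.inv_mem hx }
    have hle : Subgroup.zpowers t ⊔ E ≤ M₀ := by
      refine sup_le ?_ ?_
      · rw [Subgroup.zpowers_le]; exact Or.inr (by rw [htt]; exact E.one_mem)
      · exact fun x hx => Or.inl hx
    intro s hs
    have hsC : s ∈ Subgroup.centralizer ({t} : Set G) := by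
      rw [Subgroup.mem_centralizer_iff]
      intro h hh
      rw [Set.mem_singleton_iff.1 hh]
      exact hSab t htS s hs
    rw [← hsup] at hsC
    exact hle hsC
  -- a Sylow 2-subgroup of N
  have hKp : IsPGroup 2 ↥(Cfsg.Agent.S0807.kleinSub a b haa hbb hcomm) := by
    rintro ⟨x, hx⟩
    refine ⟨1, ?_⟩
    apply Subtype.ext
    show x ^ 2 ^ 1 = 1
    rw [pow_one, pow_two]
    rcases (Cfsg.Agent.S0807.mem_kleinSub a b haa hbb hcomm x).1 hx with h | h | h | h <;> rw [h]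
    · simp
    · exact haa
    · exact hbb
    · calc a * b * (a * b) = a * (b * a) * b := by group
        _ = a * (a * b) * b := by rw [hcomm]
        _ = (a * a) * (b * b) := by group
        _ = 1 := by rw [haa, hbb, one_mul]
  obtain ⟨PN, hPN⟩ := hKp.exists_le_sylow
  have haPN : a ∈ PN :=
    hPN ((Cfsg.Agent.S0807.mem_kleinSub a b haa hbb hcomm a).2 (Or.inr (Or.inl rfl)))
  have hbPN : b ∈ PN :=
    hPN ((Cfsg.Agent.S0807.mem_kleinSub a b haa hbb hcomm b).2 (Or.inr (Or.inr (Or.inl rfl))))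
  have hPNab : ∀ x ∈ PN, ∀ y ∈ PN, x * y = y * x := by
    have hm : IsPGroup 2 ↥((PN : Subgroup ↥N).map ι) := PN.isPGroup'.map ι
    obtain ⟨S', hS'⟩ := hm.exists_le_sylow
    intro x hx y hy
    have := (hab S').is_comm.comm ⟨ι x, hS' ⟨x, hx, rfl⟩⟩ ⟨ι y, hS' ⟨y, hy, rfl⟩⟩
    have h' : ι x * ι y = ι y * ι x := congrArg Subtype.val this
    rw [← map_mul, ← map_mul] at h'
    exact hιinj h'
  have hPNV : ∀ x ∈ PN, x = 1 ∨ x = a ∨ x = b ∨ x = a * b := fun x hx =>
    hcent x (hPNab x hx a haPN) (hPNab x hx b hbPN)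
  haveI hPNc : IsMulCommutative ↥(PN : Subgroup ↥N) :=
    ⟨⟨fun x y => Subtype.ext (hPNab x x.2 y y.2)⟩⟩
  haveI hNnt : Nontrivial ↥N := ⟨⟨a, 1, ha1⟩⟩
  haveI hNsimple : IsSimpleGroup ↥N := by
    haveI : IsSimpleGroup (Matrix.ProjectiveSpecialLinearGroup (Fin 2) F) :=
      Matrix.ProjectiveSpecialLinearGroup.rank_two_simple
        (by rw [Nat.card_eq_fintype_card]; omega)
    exact e.isSimpleGroup
  have hZN : Subgroup.center ↥N = ⊥ := by
    apply simple_center
    intro hall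
    apply hab'
    rw [← hn₁, hall n₁ a]; group
  have hoa : orderOf a = 2 := orderOf_eq_prime (by rw [pow_two]; exact haa) ha1
  have hcoreN : Cfsg.pPrimeCore 2 ↥N = ⊥ := simple_core a hoa
  have hSEV : ∀ s ∈ S, s ∈ E → s ∈ V := by
    intro s hs hsE
    let s' : ↥E := ⟨s, hsE⟩
    let α : MulAut ↥N := MulAut.conjNormal s'
    have hαapp : ∀ x : ↥N, ((α x : ↥N) : ↥E) = s' * x * s'⁻¹ :=
      fun x => MulAut.conjNormal_apply s' x
    obtain ⟨k, hk⟩ : ∃ k, s ^ 2 ^ k = 1 := by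
      obtain ⟨k, hk⟩ := S.isPGroup' ⟨s, hs⟩
      exact ⟨k, by simpa using congrArg Subtype.val hk⟩
    have hαk : α ^ (2 ^ k) = 1 := by
      have hs'k : s' ^ 2 ^ k = 1 := Subtype.ext (by simpa using hk)
      show (MulAut.conjNormal s') ^ (2 ^ k) = 1
      rw [← map_pow, hs'k, map_one]
    have hfix : ∀ x ∈ (PN : Subgroup ↥N), α x = x := by
      intro x hx
      apply Subtype.ext
      rw [hαapp]
      apply Subtype.ext
      show s * ι x * s⁻¹ = ι x
      have hxS : ι x ∈ S := by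
        rcases hPNV x hx with h | h | h | h <;> rw [h]
        · rw [map_one]; exact (S : Subgroup G).one_mem
        · rw [← ha']; exact ha'S
        · rw [← hb']; exact hb'S
        · rw [map_mul, ← ha', ← hb']; exact (S : Subgroup G).mul_mem ha'S hb'S
      rw [hSab s hs _ hxS]; group
    have hmem := Cfsg.Agent.S4593.main hZN hcoreN PN hPNc k α hαk hfix
    obtain ⟨n, hn⟩ := hmem
    have hcz : (n : ↥E)⁻¹ * s' ∈ Subgroup.centralizer (N : Set ↥E) := by
      rw [Subgroup.mem_centralizer_iff]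
      intro x hx
      have h1 : ((α ⟨x, hx⟩ : ↥N) : ↥E) = s' * x * s'⁻¹ := hαapp ⟨x, hx⟩
      have h2 : ((α ⟨x, hx⟩ : ↥N) : ↥E) = (n : ↥E) * x * (n : ↥E)⁻¹ := by
        rw [← hn]; rfl
      have h3 : s' * x * s'⁻¹ = (n : ↥E) * x * (n : ↥E)⁻¹ := h1.symm.trans h2
      calc x * ((n : ↥E)⁻¹ * s') = (n : ↥E)⁻¹ * ((n : ↥E) * x * (n : ↥E)⁻¹) * s' := by group
        _ = (n : ↥E)⁻¹ * (s' * x * s'⁻¹) * s' := by rw [h3]
        _ = (n : ↥E)⁻¹ * s' * x := by group
    rw [hNc, Subgroup.mem_bot] at hcz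
    have hsn : (n : ↥E) = s' := inv_mul_eq_one.1 hcz
    have hsι : s = ι n := (congrArg Subtype.val hsn).symm
    have hna : n * a = a * n := by
      apply hιinj
      rw [map_mul, map_mul, ← hsι, ← ha']
      exact hSab s hs a' ha'S
    have hnb : n * b = b * n := by
      apply hιinj
      rw [map_mul, map_mul, ← hsι, ← hb']
      exact hSab s hs b' hb'S
    rw [hVmem, hsι]
    rcases hcent n hna hnb with h | h | h | h <;> rw [h]
    · left; exact map_one ι
    · right; left; exact ha'.symm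
    · right; right; left; exact hb'.symm
    · right; right; right; rw [map_mul, ← ha', ← hb']
  have hSform : ∀ s ∈ S, s ∈ V ∨ ∃ v ∈ V, s = t * v := by
    intro s hs
    rcases hSE s hs with h | h
    · exact Or.inl (hSEV s hs h)
    · right
      refine ⟨t * s, hSEV (t * s) ((S : Subgroup G).mul_mem htS hs) h, ?_⟩
      rw [← mul_assoc, htt, one_mul]
  have P1 : ∀ s ∈ S, s * s = 1 := by
    intro s hs
    rcases hSform s hs with h | ⟨v, hv, rfl⟩
    · exact hVsq s h
    · have := htc v (hVE hv)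
      calc t * v * (t * v) = t * (v * t) * v := by group
        _ = t * (t * v) * v := by rw [this]
        _ = (t * t) * (v * v) := by group
        _ = 1 := by rw [htt, hVsq v hv, one_mul]
  -- conjugacy
  have hCconj : ∀ (x h : G), (∃ g, x = g * t * g⁻¹) → ∃ g, h * x * h⁻¹ = g * t * g⁻¹ := by
    rintro x h ⟨g, rfl⟩; exact ⟨h * g, by group⟩
  have hg₁ : ι n₁ * a' * (ι n₁)⁻¹ = b' := by
    rw [ha', hb', ← map_inv, ← map_mul, ← map_mul, hn₁]
  have hg₂ : ι n₂ * a' * (ι n₂)⁻¹ = a' * b' := by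
    rw [ha', hb', ← map_inv, ← map_mul, ← map_mul, hn₂, map_mul]
  have hgt : ∀ (n : ↥N) (x : G), ι n * (t * x) * (ι n)⁻¹ = t * (ι n * x * (ι n)⁻¹) := by
    intro n x
    have := htc (ι n) (hιE n)
    calc ι n * (t * x) * (ι n)⁻¹ = (ι n * t) * x * (ι n)⁻¹ := by group
      _ = (t * ι n) * x * (ι n)⁻¹ := by rw [this]
      _ = t * (ι n * x * (ι n)⁻¹) := by group
  have hA1 : (∃ g, a' = g * t * g⁻¹) → (∃ g, b' = g * t * g⁻¹) := fun h => by
    rw [← hg₁]; exact hCconj _ _ h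
  have hA2 : (∃ g, a' = g * t * g⁻¹) → (∃ g, a' * b' = g * t * g⁻¹) := fun h => by
    rw [← hg₂]; exact hCconj _ _ h
  have hA1' : (∃ g, b' = g * t * g⁻¹) → (∃ g, a' = g * t * g⁻¹) := fun h => by
    have e : a' = (ι n₁)⁻¹ * b' * ((ι n₁)⁻¹)⁻¹ := by rw [← hg₁]; group
    rw [e]; exact hCconj _ _ h
  have hA2' : (∃ g, a' * b' = g * t * g⁻¹) → (∃ g, a' = g * t * g⁻¹) := fun h => by
    have e : a' = (ι n₂)⁻¹ * (a' * b') * ((ι n₂)⁻¹)⁻¹ := by rw [← hg₂]; group
    rw [e]; exact hCconj _ _ h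
  have hB1 : (∃ g, t * a' = g * t * g⁻¹) → (∃ g, t * b' = g * t * g⁻¹) := fun h => by
    rw [← hg₁, ← hgt]; exact hCconj _ _ h
  have hB2 : (∃ g, t * a' = g * t * g⁻¹) → (∃ g, t * (a' * b') = g * t * g⁻¹) := fun h => by
    rw [← hg₂, ← hgt]; exact hCconj _ _ h
  have hB1' : (∃ g, t * b' = g * t * g⁻¹) → (∃ g, t * a' = g * t * g⁻¹) := fun h => by
    have e : t * a' = (ι n₁)⁻¹ * (t * b') * ((ι n₁)⁻¹)⁻¹ := by
      rw [← hg₁, ← hgt]; group
    rw [e]; exact hCconj _ _ h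
  have hB2' : (∃ g, t * (a' * b') = g * t * g⁻¹) → (∃ g, t * a' = g * t * g⁻¹) := fun h => by
    have e : t * a' = (ι n₂)⁻¹ * (t * (a' * b')) * ((ι n₂)⁻¹)⁻¹ := by
      rw [← hg₂, ← hgt]; group
    rw [e]; exact hCconj _ _ h
  have hZG : Subgroup.center G = ⊥ := simple_center (fun hall => hG ⟨⟨hall⟩⟩)
  have hex : ∃ g : G, g * t * g⁻¹ ∈ S ∧ g * t * g⁻¹ ≠ t := by
    by_contra hcon
    push Not at hcon
    obtain ⟨N0, hN0, hN0odd, hc⟩ := Cfsg.Agent.S0215.result S t ht htS hcon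
    have hN0bot : N0 = ⊥ := by
      rcases hN0.eq_bot_or_eq_top with h | h
      · exact h
      · exfalso
        rw [h, Subgroup.card_top] at hN0odd
        have h2 : 2 ∣ Nat.card G := ht ▸ orderOf_dvd_natCard t
        exact (Nat.not_even_iff_odd.2 hN0odd) (even_iff_two_dvd.2 h2)
    have htc' : t ∈ Subgroup.center G := by
      rw [Subgroup.mem_center_iff]
      intro g
      have := hc g
      rw [hN0bot, Subgroup.mem_bot] at this
      have h2 : t * g = g * t := by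
        calc t * g = (t * g * t⁻¹ * g⁻¹) * (g * t) := by group
          _ = g * t := by rw [this, one_mul]
      exact h2.symm
    rw [hZG, Subgroup.mem_bot] at htc'
    exact ht1 htc'
  have hone_not : ¬ ∃ g : G, (1 : G) = g * t * g⁻¹ := by
    rintro ⟨g, hg⟩
    apply ht1
    have : t = g⁻¹ * (g * t * g⁻¹) * g := by group
    rw [this, ← hg]; group
  have hor : (∃ g, a' = g * t * g⁻¹) ∨ (∃ g, t * a' = g * t * g⁻¹) := by
    obtain ⟨g, hgS, hgt'⟩ := hex
    have hC : ∃ g', g * t * g⁻¹ = g' * t * g'⁻¹ := ⟨g, rfl⟩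
    rcases hSform _ hgS with h | ⟨v, hv, hv'⟩
    · rcases (hVmem _).1 h with h | h | h | h
      · rw [h] at hC; exact absurd hC hone_not
      · rw [h] at hC; exact Or.inl hC
      · rw [h] at hC; exact Or.inl (hA1' hC)
      · rw [h] at hC; exact Or.inl (hA2' hC)
    · rw [hv'] at hC hgt'
      rcases (hVmem _).1 hv with h | h | h | h
      · rw [h, mul_one] at hgt'; exact absurd rfl hgt'
      · rw [h] at hC; exact Or.inr hC
      · rw [h] at hC; exact Or.inr (hB1' hC)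
      · rw [h] at hC; exact Or.inr (hB2' hC)
  have hoddX := odd_conj S hSab t htS
  have htne : ∀ v ∈ V, t ≠ v := fun v hv h => htnE (h ▸ hVE hv)
  have hboth : (∃ g, a' = g * t * g⁻¹) ∧ (∃ g, t * a' = g * t * g⁻¹) := by
    by_cases hcA : ∃ g, a' = g * t * g⁻¹
    · by_cases hcB : ∃ g, t * a' = g * t * g⁻¹
      · exact ⟨hcA, hcB⟩
      · exfalso
        have hX : {x : G | x ∈ S ∧ ∃ g : G, x = g * t * g⁻¹} = {t, a', b', a' * b'} := by
          ext x
          simp only [Set.mem_ofPred_eq, Set.mem_insert_iff, Set.mem_singleton_iff]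
          constructor
          · rintro ⟨hxS, hxC⟩
            rcases hSform x hxS with h | ⟨v, hv, rfl⟩
            · rcases (hVmem _).1 h with h | h | h | h
              · rw [h] at hxC; exact absurd hxC hone_not
              · exact Or.inr (Or.inl h)
              · exact Or.inr (Or.inr (Or.inl h))
              · exact Or.inr (Or.inr (Or.inr h))
            · rcases (hVmem _).1 hv with h | h | h | h
              · left; rw [h, mul_one]
              · rw [h] at hxC; exact absurd hxC hcB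
              · rw [h] at hxC; exact absurd (hB1' hxC) hcB
              · rw [h] at hxC; exact absurd (hB2' hxC) hcB
          · rintro (h | h | h | h) <;> rw [h]
            · exact ⟨htS, 1, by group⟩
            · exact ⟨ha'S, hcA⟩
            · exact ⟨hb'S, hA1 hcA⟩
            · exact ⟨(S : Subgroup G).mul_mem ha'S hb'S, hA2 hcA⟩
        rw [hX, card4 t a' b' (a' * b')
          (htne a' ((hVmem a').2 (Or.inr (Or.inl rfl))))
          (htne b' ((hVmem b').2 (Or.inr (Or.inr (Or.inl rfl)))))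
          (htne (a' * b') ((hVmem _).2 (Or.inr (Or.inr (Or.inr rfl)))))
          ha'b' (fun h => hb'1 (by simpa using h.symm)) (fun h => ha'1 (by simpa using h.symm))]
          at hoddX
        exact absurd hoddX (by decide)
    · exfalso
      have hcB : ∃ g, t * a' = g * t * g⁻¹ := hor.resolve_left hcA
      have hX : {x : G | x ∈ S ∧ ∃ g : G, x = g * t * g⁻¹}
          = {t, t * a', t * b', t * (a' * b')} := by
        ext x
        simp only [Set.mem_ofPred_eq, Set.mem_insert_iff, Set.mem_singleton_iff]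
        constructor
        · rintro ⟨hxS, hxC⟩
          rcases hSform x hxS with h | ⟨v, hv, rfl⟩
          · rcases (hVmem _).1 h with h | h | h | h
            · rw [h] at hxC; exact absurd hxC hone_not
            · rw [h] at hxC; exact absurd hxC hcA
            · rw [h] at hxC; exact absurd (hA1' hxC) hcA
            · rw [h] at hxC; exact absurd (hA2' hxC) hcA
          · rcases (hVmem _).1 hv with h | h | h | h
            · left; rw [h, mul_one]
            · exact Or.inr (Or.inl (by rw [h]))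
            · exact Or.inr (Or.inr (Or.inl (by rw [h])))
            · exact Or.inr (Or.inr (Or.inr (by rw [h])))
        · rintro (h | h | h | h) <;> rw [h]
          · exact ⟨htS, 1, by group⟩
          · exact ⟨(S : Subgroup G).mul_mem htS ha'S, hcB⟩
          · exact ⟨(S : Subgroup G).mul_mem htS hb'S, hB1 hcB⟩
          · exact ⟨(S : Subgroup G).mul_mem htS ((S : Subgroup G).mul_mem ha'S hb'S), hB2 hcB⟩
      rw [hX, card4 t (t * a') (t * b') (t * (a' * b'))
        (fun h => ha'1 (by simpa using h.symm))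
        (fun h => hb'1 (by simpa using h.symm))
        (fun h => hab1 (by simpa using h.symm))
        (fun h => ha'b' (mul_left_cancel h))
        (fun h => hb'1 (by simpa using (mul_left_cancel h).symm))
        (fun h => ha'1 (by simpa using (mul_left_cancel h).symm))] at hoddX
      exact absurd hoddX (by decide)
  obtain ⟨hcA, hcB⟩ := hboth
  refine ⟨S, P1, hSab, ?_, ?_⟩
  · intro s hs hs1
    rcases hSform s hs with h | ⟨v, hv, rfl⟩
    · rcases (hVmem _).1 h with h | h | h | h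
      · exact absurd h hs1
      · rw [h]; exact hcA
      · rw [h]; exact hA1 hcA
      · rw [h]; exact hA2 hcA
    · rcases (hVmem _).1 hv with h | h | h | h
      · rw [h, mul_one]; exact ⟨1, by group⟩
      · rw [h]; exact hcB
      · rw [h]; exact hB1 hcB
      · rw [h]; exact hB2 hcB
  · refine ⟨t, htS, a', ha'S, b', hb'S, ht1, ha'1, hb'1, ha'b', ?_, ?_, ?_⟩
    · exact htne a' ((hVmem a').2 (Or.inr (Or.inl rfl)))
    · exact htne b' ((hVmem b').2 (Or.inr (Or.inr (Or.inl rfl))))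
    · exact htne (a' * b') ((hVmem _).2 (Or.inr (Or.inr (Or.inr rfl))))

/-- Let G be a non-abelian finite simple group with abelian Sylow 2-subgroups, and let t be an involution of G whose centralizer is a maximal subgroup of G and is the direct product of the subgroup generated by t with a subgroup E having a normal subgroup isomorphic to PSL(2, q), q odd and greater than 3, with trivial centralizer in E. Then every finite perfect group having a central 2-subgroup with quotient isomorphic to G has that central subgroup trivial (G has no nontrivial perfect central extension by a 2-group), and every automorphism of G of 2-power order that fixes every element of some Sylow 2-subgroup of G is inner. -/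
theorem result {G : Type*} [Group G] [Finite G] [IsSimpleGroup G]
    (hG : ¬ IsMulCommutative G) (hab : ∀ S : Sylow 2 G, IsMulCommutative ↥(S : Subgroup G))
    (t : G) (ht : orderOf t = 2) (hmax : IsCoatom (Subgroup.centralizer ({t} : Set G)))
    (E : Subgroup G) (hE : Cfsg.IsInternalDirectProduct (Subgroup.zpowers t) E (Subgroup.centralizer ({t} : Set G)))
    {F : Type*} [Field F] [Fintype F] (hFo : Odd (Fintype.card F)) (hF3 : 3 < Fintype.card F)
    (N : Subgroup ↥E) [N.Normal] (hN : Nonempty (↥N ≃* Matrix.ProjectiveSpecialLinearGroup (Fin 2) F))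
    (hNc : Subgroup.centralizer (N : Set ↥E) = ⊥) :
    (∀ (L : Type) (_ : Group L) (_ : Finite L) (Z : Subgroup L) (_ : Z.Normal), commutator L = ⊤ → Z ≤ Subgroup.center L →
        IsPGroup 2 ↥Z → Nonempty (L ⧸ Z ≃* G) → Z = ⊥) ∧
    (∀ (φ : G ≃* G) (k : ℕ), φ ^ (2 ^ k) = 1 → (∃ S : Sylow 2 G, ∀ s ∈ (S : Subgroup G), φ s = s) →
        ∃ g : G, ∀ x : G, φ x = g * x * g⁻¹) := by
  classical
  obtain ⟨S, P1, P2, P3, P4⟩ := structure_S hG hab t ht E hE hFo hF3 N hN hNc
  refine ⟨?_, ?_⟩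
  · intro L _ _ Z hZn hperf hZc hZ2 hφ
    obtain ⟨φ⟩ := hφ
    exact ext_trivial S t P1 P2 P3 P4 Z hperf hZc hZ2
      (φ.toMonoidHom.comp (QuotientGroup.mk' Z))
      (φ.surjective.comp (QuotientGroup.mk'_surjective Z))
      (fun x => by
        show φ (QuotientGroup.mk x) = 1 ↔ x ∈ Z
        rw [MulEquiv.map_eq_one_iff, QuotientGroup.eq_one_iff])
  · intro φ k hφ hS
    obtain ⟨S', hS'⟩ := hS
    have hZG : Subgroup.center G = ⊥ := simple_center (fun hall => hG ⟨⟨hall⟩⟩)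
    have hcore : Cfsg.pPrimeCore 2 G = ⊥ := simple_core t ht
    obtain ⟨g, hg⟩ := Cfsg.Agent.S4593.main hZG hcore S' (hab S') k φ hφ hS'
    exact ⟨g, fun x => by rw [← hg]; rfl⟩

end Cfsg.Agent.S3206
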