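import Mathlib
import Cfsg.Statements.S3215
import Cfsg.Agent.Lib.Helper12.CharTwo
import Cfsg.Agent.Lib.Helper40.AxB
import Cfsg.Agent.Lib.Helper66.Cores
import Cfsg.Agent.S0040
import Cfsg.Agent.S1349
import Cfsg.Agent.Lib.Helper61.PGroup

set_option autoImplicit false
open Cfsg

namespace Cfsg.Agent.S3215

open Subgroup

open scoped commutatorElement

universe u

/-- an element of odd order and of 2-power order is trivial -/
theorem eq_one_of_odd_of_two_pow {G : Type*} [Group G] {g : G} (h1 : Odd (orderOf g)) {k : ℕ}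
    (h2 : g ^ 2 ^ k = 1) : g = 1 := by
  have hd : orderOf g ∣ 2 ^ k := orderOf_dvd_of_pow_eq_one h2
  have hc : (orderOf g).Coprime (2 ^ k) := Nat.Coprime.pow_right k (Nat.coprime_two_right.mpr h1)
  exact orderOf_eq_one_iff.mp (Nat.Coprime.eq_one_of_dvd hc hd)

theorem odd_of_dvd_odd {a b : ℕ} (h : a ∣ b) (hb : Odd b) : Odd a := by
  rcases h with ⟨c, rfl⟩
  exact (Nat.odd_mul.mp hb).1

section

variable {H : Type u} [Group H] [Finite H]

/-- the normal 2-complement of `C(t)` centralizes `C_Y(t)` -/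
theorem comm_of_odd
    (hI : ∀ t : H, orderOf t = 2 → Cfsg.HasNormalPComplement 2 ↥(centralizer ({t} : Set H)))
    (t : H) (ht : orderOf t = 2) (x : H) (hx : Odd (orderOf x)) (hxt : x * t = t * x)
    (c : H) (hc : c ∈ pCore 2 H) (hct : c * t = t * c) : x * c = c * x := by
  have : Fact (Nat.Prime 2) := ⟨Nat.prime_two⟩
  obtain ⟨P, N, hNn, hNc⟩ := hI t ht
  have hxC : x ∈ centralizer ({t} : Set H) := mem_centralizer_singleton_iff.mpr hxt
  have hcC : c ∈ centralizer ({t} : Set H) := mem_centralizer_singleton_iff.mpr hct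
  obtain ⟨j, hj⟩ := IsPGroup.iff_card.mp P.2
  have hNidx : N.index = 2 ^ j := by rw [hNc.symm.index_eq_card]; exact hj
  have hNodd : Odd (Nat.card N) := by
    rw [← hNc.index_eq_card]
    exact Nat.not_even_iff_odd.mp (fun he => P.not_dvd_index (even_iff_two_dvd.mp he))
  obtain ⟨x', hx'⟩ : ∃ x' : centralizer ({t} : Set H), x' = ⟨x, hxC⟩ := ⟨_, rfl⟩
  obtain ⟨c', hc'⟩ : ∃ c' : centralizer ({t} : Set H), c' = ⟨c, hcC⟩ := ⟨_, rfl⟩
  have hxN : x' ∈ N := by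
    have h1 := Subgroup.pow_index_mem N x'
    rw [hNidx] at h1
    have h2 : x' ^ orderOf x = 1 := by
      rw [hx']; exact Subtype.ext (pow_orderOf_eq_one x)
    exact Cfsg.Agent.Lib.Helper40.mem_of_pow_mem_of_pow_eq_one h1 h2
      (Nat.Coprime.pow_left j (Nat.coprime_two_left.mpr hx))
  have hcomm : x' * c' * x'⁻¹ * c'⁻¹ ∈ N := by
    have h := hNn.conj_mem _ (inv_mem hxN) c'
    have e : x' * c' * x'⁻¹ * c'⁻¹ = x' * (c' * x'⁻¹ * c'⁻¹) := by group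
    rw [e]; exact mul_mem hxN h
  have hgY : x * c * x⁻¹ * c⁻¹ ∈ pCore 2 H :=
    mul_mem ((pCore_normal 2 H).conj_mem c hc x) (inv_mem hc)
  obtain ⟨k, hk⟩ := (Cfsg.Agent.Lib.Helper31.pCore_isPGroup 2 (G := H)) ⟨_, hgY⟩
  have hg2 : (x * c * x⁻¹ * c⁻¹) ^ 2 ^ k = 1 := congrArg Subtype.val hk
  have hval : ((x' * c' * x'⁻¹ * c'⁻¹ : centralizer ({t} : Set H)) : H) = x * c * x⁻¹ * c⁻¹ := by
    rw [hx', hc']; rfl
  have hgodd : Odd (orderOf (x * c * x⁻¹ * c⁻¹)) := by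
    have h1 : orderOf (⟨_, hcomm⟩ : N) ∣ Nat.card N := orderOf_dvd_natCard _
    have h2 : orderOf (⟨_, hcomm⟩ : N) = orderOf (x * c * x⁻¹ * c⁻¹) := by
      rw [← Subgroup.orderOf_coe, ← Subgroup.orderOf_coe, ← hval]
    rw [h2] at h1
    exact odd_of_dvd_odd h1 hNodd
  have h1 := eq_one_of_odd_of_two_pow hgodd hg2
  calc x * c = (x * c * x⁻¹ * c⁻¹) * (c * x) := by group
    _ = c * x := by rw [h1, one_mul]

/-- elements of odd order act without fixed points on `O_2(H)` -/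
theorem fpf (hsol : Group.IsSolvable H) (hO : Cfsg.oddCore H = ⊥)
    (hI : ∀ t : H, orderOf t = 2 → Cfsg.HasNormalPComplement 2 ↥(centralizer ({t} : Set H)))
    (x : H) (hx : Odd (orderOf x)) (y : H) (hy : y ∈ pCore 2 H) (hy1 : y ≠ 1)
    (hxy : x * y = y * x) : x = 1 := by
  have : Fact (Nat.Prime 2) := ⟨Nat.prime_two⟩
  have hYp : IsPGroup 2 (pCore 2 H) := Cfsg.Agent.Lib.Helper31.pCore_isPGroup 2
  obtain ⟨k, hk⟩ := hYp ⟨y, hy⟩
  have hyk : y ^ 2 ^ k = 1 := congrArg Subtype.val hk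
  obtain ⟨a, ha⟩ : ∃ a, orderOf y = 2 ^ a := by
    have := orderOf_dvd_of_pow_eq_one hyk
    obtain ⟨a, -, ha⟩ := (Nat.dvd_prime_pow Nat.prime_two).mp this
    exact ⟨a, ha⟩
  have ha0 : a ≠ 0 := by
    rintro rfl
    rw [pow_zero, orderOf_eq_one_iff] at ha
    exact hy1 ha
  obtain ⟨b, rfl⟩ : ∃ b, a = b + 1 := ⟨a - 1, by omega⟩
  obtain ⟨t, ht_def⟩ : ∃ t, t = y ^ 2 ^ b := ⟨_, rfl⟩
  have ht : orderOf t = 2 := by
    apply orderOf_eq_prime
    · rw [ht_def, ← pow_mul, ← pow_succ, ← ha]; exact pow_orderOf_eq_one y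
    · intro h
      rw [ht_def] at h
      have h1 := orderOf_dvd_of_pow_eq_one h
      rw [ha] at h1
      have h2 := Nat.le_of_dvd (by positivity) h1
      have : 2 ^ b < 2 ^ (b + 1) := Nat.pow_lt_pow_right (by norm_num) (by omega)
      omega
  have htY : t ∈ pCore 2 H := by rw [ht_def]; exact pow_mem hy _
  have hxt : x * t = t * x := by
    rw [ht_def]; exact (show Commute x y from hxy).pow_right _
  have hcent : ∀ u ∈ pCore 2 H, (∀ r ∈ zpowers t, r * u = u * r) →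
      ∀ w ∈ zpowers x, w * u = u * w := by
    intro u hu hur w hw
    have hut : u * t = t * u := (hur t (mem_zpowers t)).symm
    have hxu := comm_of_odd hI t ht x hx hxt u hu hut
    obtain ⟨i, rfl⟩ := mem_zpowers_iff.mp hw
    exact (show Commute x u from hxu).zpow_left i
  have hW : (Nat.card (zpowers x)).Coprime 2 := by
    rw [Nat.card_zpowers]; exact Nat.coprime_two_right.mpr hx
  have hR : IsPGroup 2 (zpowers t) :=
    IsPGroup.of_card (n := 1) (by rw [Nat.card_zpowers, ht, pow_one])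
  have hWR : ∀ w ∈ zpowers x, ∀ r ∈ zpowers t, w * r = r * w := by
    intro w hw r hr
    obtain ⟨i, rfl⟩ := mem_zpowers_iff.mp hw
    obtain ⟨j, rfl⟩ := mem_zpowers_iff.mp hr
    exact (show Commute x t from hxt).zpow_zpow i j
  have hnorm : normalizer ((pCore 2 H : Subgroup H) : Set H) = ⊤ :=
    normalizer_eq_top_iff.mpr (pCore_normal 2 H)
  have key := Cfsg.Agent.Lib.Helper40.thompson_AxB (zpowers x) (zpowers t) hR hW hWR _ (pCore 2 H)
    rfl hYp (by rw [hnorm]; exact le_top) (by rw [hnorm]; exact le_top) hcent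
  have hxC : x ∈ centralizer (pCore 2 H : Set H) := by
    rw [mem_centralizer_iff]
    intro u hu
    exact (key u hu x (mem_zpowers x)).symm
  have hsol' : Group.IsSolvable H := hsol
  have hxY := Cfsg.Agent.Lib.Helper12.centralizer_pCore_two_le hO hxC
  obtain ⟨k', hk'⟩ := hYp ⟨x, hxY⟩
  exact eq_one_of_odd_of_two_pow hx (congrArg Subtype.val hk')

/-- subgroups of odd order are Z-groups -/
theorem zgroup_of_odd
    (hfpf : ∀ x : H, Odd (orderOf x) → ∀ y ∈ pCore 2 H, y ≠ 1 → x * y = y * x → x = 1)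
    (hY : pCore 2 H ≠ ⊥) (U : Subgroup H) (hU : Odd (Nat.card U)) : IsZGroup U := by
  have hfpf' : ∀ h ∈ U, h ≠ 1 → pCore 2 H ⊓ centralizer {h} = ⊥ := by
    intro h hh hh1
    rw [eq_bot_iff]
    rintro y ⟨hy1, hy2⟩
    rw [mem_bot]
    by_contra hyne
    apply hh1
    have hodd : Odd (orderOf h) := odd_of_dvd_odd (Subgroup.orderOf_dvd_natCard U hh) hU
    exact hfpf h hodd y hy1 hyne (mem_centralizer_singleton_iff.mp hy2).symm
  have hΓ : ∀ B : Subgroup U, IsMulCommutative B → IsCyclic B := by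
    intro B hB
    have hB' : IsMulCommutative (B.map U.subtype) := inferInstance
    have hcyc := Cfsg.Agent.S0040.isCyclic_of_fpf (pCore 2 H) U hY hfpf' (B.map U.subtype)
      (Subgroup.map_subtype_le B)
    exact isCyclic_of_surjective
      ((Subgroup.equivMapOfInjective B U.subtype U.subtype_injective).symm)
      (MulEquiv.surjective _)
  refine ⟨?_⟩
  intro p hp P
  have hpF : Fact p.Prime := ⟨hp⟩
  have huniq := Cfsg.Agent.S0040.unique_of_abelian_cyclic hΓ p (P : Subgroup U) P.2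
  rcases Cfsg.Agent.S0016.result (G := (P : Subgroup U)) p P.2 huniq with h | ⟨-, n, ⟨e⟩⟩
  · exact h
  · exfalso
    have h1 : Nat.card (P : Subgroup U) = Nat.card (QuaternionGroup (2 ^ n)) :=
      Nat.card_congr e.toEquiv
    have hne : NeZero (2 ^ n) := ⟨by positivity⟩
    have h1' : Nat.card (QuaternionGroup (2 ^ n)) = 4 * 2 ^ n := by
      rw [Nat.card_eq_fintype_card, QuaternionGroup.card]
    rw [h1'] at h1
    have h2 : Odd (Nat.card (P : Subgroup U)) :=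
      odd_of_dvd_odd (Subgroup.card_subgroup_dvd_card (P : Subgroup U)) hU
    rw [h1] at h2
    have h3 : Even (4 * 2 ^ n) := ⟨2 * 2 ^ n, by ring⟩
    exact (Nat.not_even_iff_odd.mpr h2) h3


theorem normal_of_comm {G : Type*} [Group G] (M : Subgroup G) (h : ∀ g h : G, ⁅g, h⁆ ∈ M) :
    M.Normal := by
  constructor
  intro n hn g
  have e : g * n * g⁻¹ = ⁅g, n⁆ * n := by rw [commutatorElement_def]; group
  rw [e]; exact mul_mem (h g n) hn

/-- all commutators lie in `X ⊔ O_2(H)` -/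
theorem comm_mem (hsol : Group.IsSolvable H) (X : Subgroup H) (hXodd : Odd (Nat.card X))
    (hXidx : ∃ k : ℕ, X.index = 2 ^ k) (hXZ : IsZGroup X) :
    ∀ g h : H, ⁅g, h⁆ ∈ X ⊔ pCore 2 H := by
  have : Fact (Nat.Prime 2) := ⟨Nat.prime_two⟩
  have hsolQ : Group.IsSolvable (H ⧸ pCore 2 H) := inferInstance
  -- `O_2` of the quotient is trivial
  have hQ2 : pCore 2 (H ⧸ pCore 2 H) = ⊥ := by
    have hle : (pCore 2 (H ⧸ pCore 2 H)).comap (QuotientGroup.mk' (pCore 2 H)) ≤ pCore 2 H := by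
      apply Cfsg.Agent.Lib.Helper31.le_pCore
        (Subgroup.Normal.comap (pCore_normal 2 (H ⧸ pCore 2 H)) (QuotientGroup.mk' (pCore 2 H)))
      rintro ⟨g, hg⟩
      obtain ⟨a, ha⟩ := (Cfsg.Agent.Lib.Helper31.pCore_isPGroup 2 (G := H ⧸ pCore 2 H))
        ⟨QuotientGroup.mk g, hg⟩
      have ha' : (QuotientGroup.mk g : H ⧸ pCore 2 H) ^ 2 ^ a = 1 := congrArg Subtype.val ha
      have h1 : g ^ 2 ^ a ∈ pCore 2 H := by
        rw [← QuotientGroup.eq_one_iff, QuotientGroup.mk_pow]; exact ha'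
      obtain ⟨b, hb⟩ := (Cfsg.Agent.Lib.Helper31.pCore_isPGroup 2 (G := H)) ⟨_, h1⟩
      have hb' : (g ^ 2 ^ a) ^ 2 ^ b = 1 := congrArg Subtype.val hb
      refine ⟨a + b, Subtype.ext ?_⟩
      change g ^ 2 ^ (a + b) = 1
      rw [pow_add, pow_mul]; exact hb'
    rw [eq_bot_iff]
    intro q hq
    obtain ⟨g, rfl⟩ := QuotientGroup.mk_surjective q
    rw [mem_bot]
    exact (QuotientGroup.eq_one_iff g).mpr (hle hq)
  obtain ⟨F, hF⟩ : ∃ F : Subgroup (H ⧸ pCore 2 H), F = fittingSubgroup (H ⧸ pCore 2 H) :=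
    ⟨_, rfl⟩
  have hFn : F.Normal := by rw [hF]; exact Cfsg.Agent.Lib.Helper30.fitting_normal
  have hFnil : Group.IsNilpotent F := by rw [hF]; exact Cfsg.Agent.Lib.Helper30.fitting_nilpotent
  have hCF : centralizer (F : Set (H ⧸ pCore 2 H)) ≤ F := by
    rw [hF]; exact Cfsg.Agent.S1349.fitting_facts hsolQ
  have hFodd : Odd (Nat.card F) := by
    rw [← Nat.not_even_iff_odd, even_iff_two_dvd]
    intro h2
    obtain ⟨f, hf⟩ := exists_prime_orderOf_dvd_card' 2 h2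
    have hf' : orderOf (f : H ⧸ pCore 2 H) = 2 ^ 1 := by rw [Subgroup.orderOf_coe, hf, pow_one]
    have hfF : (f : H ⧸ pCore 2 H) ∈ fittingSubgroup (H ⧸ pCore 2 H) := by rw [← hF]; exact f.2
    have hmem := Cfsg.Agent.Lib.Helper66.mem_pCore_of_mem_fitting hfF hf'
    rw [hQ2, mem_bot] at hmem
    rw [hmem, orderOf_one] at hf'
    norm_num at hf'
  -- the image of `X`
  obtain ⟨Xb, hXb⟩ : ∃ Xb : Subgroup (H ⧸ pCore 2 H),
      Xb = X.map (QuotientGroup.mk' (pCore 2 H)) := ⟨_, rfl⟩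
  have hXbodd : Odd (Nat.card Xb) := by
    rw [hXb]; exact odd_of_dvd_odd (Subgroup.card_map_dvd X _) hXodd
  obtain ⟨k, hk⟩ := hXidx
  have hXbidx : Xb.index ∣ 2 ^ k := by
    rw [hXb, ← hk]; exact Subgroup.index_map_dvd X (QuotientGroup.mk'_surjective _)
  have hFX : F ≤ Xb := by
    have h1 : Nat.card (Xb ⊔ F : Subgroup _) ∣ Nat.card Xb * Nat.card F :=
      Cfsg.Agent.Lib.Helper31.card_sup_dvd Xb F
    have h2 : Odd (Nat.card (Xb ⊔ F : Subgroup _)) :=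
      odd_of_dvd_odd h1 (Nat.odd_mul.mpr ⟨hXbodd, hFodd⟩)
    have h3 : Xb.relIndex (Xb ⊔ F) ∣ Xb.index :=
      Dvd.intro _ (Subgroup.relIndex_mul_index le_sup_left)
    have h4 : Xb.relIndex (Xb ⊔ F) ∣ Nat.card (Xb ⊔ F : Subgroup _) :=
      Subgroup.relIndex_dvd_card _ _
    have h5 : Odd (Xb.relIndex (Xb ⊔ F)) := odd_of_dvd_odd h4 h2
    have h6 : Xb.relIndex (Xb ⊔ F) ∣ 2 ^ k := h3.trans hXbidx
    have h7 : Xb.relIndex (Xb ⊔ F) = 1 := by
      have hc : (Xb.relIndex (Xb ⊔ F)).Coprime (2 ^ k) :=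
        Nat.Coprime.pow_right k (Nat.coprime_two_right.mpr h5)
      exact Nat.Coprime.eq_one_of_dvd hc h6
    exact le_sup_right.trans (Subgroup.relIndex_eq_one.mp h7)
  -- `F` is cyclic
  have hXbZ : IsZGroup Xb := by
    rw [hXb]
    exact IsZGroup.of_surjective (f := (QuotientGroup.mk' (pCore 2 H)).subgroupMap X)
      (MonoidHom.subgroupMap_surjective _ _)
  have hFZ : IsZGroup F :=
    IsZGroup.of_injective (f := Subgroup.inclusion hFX) (Subgroup.inclusion_injective hFX)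
  have hFcyc : IsCyclic F := inferInstance
  obtain ⟨f, hf⟩ := IsCyclic.exists_generator (α := F)
  have hpow : ∀ g : H ⧸ pCore 2 H, ∃ a : ℤ,
      g * (f : H ⧸ pCore 2 H) * g⁻¹ = (f : H ⧸ pCore 2 H) ^ a := by
    intro g
    have h1 : g * (f : H ⧸ pCore 2 H) * g⁻¹ ∈ F := hFn.conj_mem _ f.2 g
    obtain ⟨a, ha⟩ := mem_zpowers_iff.mp (hf ⟨_, h1⟩)
    refine ⟨a, ?_⟩
    rw [← Subgroup.coe_zpow, ha]
  have hconj_pow : ∀ (g : H ⧸ pCore 2 H) (a : ℤ),
      g * (f : H ⧸ pCore 2 H) * g⁻¹ = (f : H ⧸ pCore 2 H) ^ a →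
      ∀ j : ℤ, g * (f : H ⧸ pCore 2 H) ^ j * g⁻¹ = (f : H ⧸ pCore 2 H) ^ (a * j) := by
    intro g a ha j
    rw [← conj_zpow, ha, ← zpow_mul]
  have hcomm : ∀ g h : H ⧸ pCore 2 H, ⁅g, h⁆ ∈ Xb := by
    intro g h
    apply hFX
    apply hCF
    rw [mem_centralizer_iff]
    intro z hz
    obtain ⟨i, hi⟩ := mem_zpowers_iff.mp (hf ⟨z, hz⟩)
    have hz' : z = (f : H ⧸ pCore 2 H) ^ i := by rw [← Subgroup.coe_zpow, hi]
    obtain ⟨a, ha⟩ := hpow g
    obtain ⟨b, hb⟩ := hpow h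
    obtain ⟨a', ha'⟩ := hpow g⁻¹
    obtain ⟨b', hb'⟩ := hpow h⁻¹
    rw [inv_inv] at ha' hb'
    obtain ⟨φ, hφ⟩ : ∃ φ : H ⧸ pCore 2 H, φ = (f : H ⧸ pCore 2 H) := ⟨_, rfl⟩
    rw [← hφ] at ha hb ha' hb' hz'
    have hcp := hconj_pow
    rw [← hφ] at hcp
    have e1 : φ ^ (a * a') = φ := by
      have h1 := hcp g a ha a'
      rw [← ha'] at h1
      rw [← h1]; group
    have e2 : φ ^ (b * b') = φ := by
      have h1 := hcp h b hb b'
      rw [← hb'] at h1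
      rw [← h1]; group
    have e3 : ⁅g, h⁆ * φ * ⁅g, h⁆⁻¹ = φ := by
      have s1 : h⁻¹ * φ * h = φ ^ (b' * 1) := by rw [mul_one]; exact hb'
      have s2 : g⁻¹ * φ ^ (b' * 1) * g = φ ^ (a' * (b' * 1)) := by
        have := hcp g⁻¹ a' (by rw [inv_inv]; exact ha') (b' * 1)
        rwa [inv_inv] at this
      have s3 := hcp h b hb (a' * (b' * 1))
      have s4 := hcp g a ha (b * (a' * (b' * 1)))
      calc ⁅g, h⁆ * φ * ⁅g, h⁆⁻¹
          = g * (h * (g⁻¹ * (h⁻¹ * φ * h) * g) * h⁻¹) * g⁻¹ := by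
            rw [commutatorElement_def]; group
        _ = φ ^ (a * (b * (a' * (b' * 1)))) := by rw [s1, s2, s3, s4]
        _ = (φ ^ (a * a')) ^ (b * b') := by rw [← zpow_mul]; congr 1; ring
        _ = φ := by rw [e1, e2]
    have e4 : Commute ⁅g, h⁆ φ := by
      have : ⁅g, h⁆ * φ = φ * ⁅g, h⁆ := by
        calc ⁅g, h⁆ * φ = (⁅g, h⁆ * φ * ⁅g, h⁆⁻¹) * ⁅g, h⁆ := by group
          _ = φ * ⁅g, h⁆ := by rw [e3]
      exact this
    rw [hz']
    exact (e4.zpow_right i).symm.eq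
  intro g h
  have h1 := hcomm (QuotientGroup.mk g) (QuotientGroup.mk h)
  have h2 : ⁅g, h⁆ ∈ Xb.comap (QuotientGroup.mk' (pCore 2 H)) := by
    rw [mem_comap, map_commutatorElement]; exact h1
  rw [hXb, Subgroup.comap_map_eq, QuotientGroup.ker_mk'] at h2
  exact h2


/-- the quotient by `X ⊔ O_2(H)` is a cyclic 2-group -/
theorem cyclic_quot
    (hI : ∀ t : H, orderOf t = 2 → Cfsg.HasNormalPComplement 2 ↥(centralizer ({t} : Set H)))
    (X : Subgroup H) (hXodd : Odd (Nat.card X)) (hXidx : ∃ k : ℕ, X.index = 2 ^ k)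
    (hY : pCore 2 H ≠ ⊥)
    (hfpf : ∀ x : H, Odd (orderOf x) → ∀ y ∈ pCore 2 H, y ≠ 1 → x * y = y * x → x = 1)
    (hcomm : ∀ g h : H, ⁅g, h⁆ ∈ X ⊔ pCore 2 H) (hN : (X ⊔ pCore 2 H).Normal) :
    IsCyclic (H ⧸ (X ⊔ pCore 2 H)) ∧ IsPGroup 2 (H ⧸ (X ⊔ pCore 2 H)) := by
  have : Fact (Nat.Prime 2) := ⟨Nat.prime_two⟩
  have hYp : IsPGroup 2 (pCore 2 H) := Cfsg.Agent.Lib.Helper31.pCore_isPGroup 2
  obtain ⟨k, hk⟩ := hXidx
  obtain ⟨j, hj⟩ : ∃ j, Nat.card (H ⧸ (X ⊔ pCore 2 H)) = 2 ^ j := by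
    have h1 : (X ⊔ pCore 2 H).index ∣ 2 ^ k := hk ▸ Subgroup.index_dvd_of_le le_sup_left
    rw [← Subgroup.index_eq_card]
    obtain ⟨j, -, hj⟩ := (Nat.dvd_prime_pow Nat.prime_two).mp h1
    exact ⟨j, hj⟩
  have hAp : IsPGroup 2 (H ⧸ (X ⊔ pCore 2 H)) := IsPGroup.of_card hj
  refine ⟨?_, hAp⟩
  have hAcomm : ∀ a b : H ⧸ (X ⊔ pCore 2 H), a * b = b * a := by
    intro a b
    obtain ⟨a, rfl⟩ := QuotientGroup.mk_surjective a
    obtain ⟨b, rfl⟩ := QuotientGroup.mk_surjective b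
    have h1 := (QuotientGroup.eq_one_iff _).mpr (hcomm a b)
    rw [commutatorElement_def, QuotientGroup.mk_mul, QuotientGroup.mk_mul, QuotientGroup.mk_mul,
      QuotientGroup.mk_inv, QuotientGroup.mk_inv] at h1
    obtain ⟨α, hα⟩ : ∃ α : H ⧸ (X ⊔ pCore 2 H), α = QuotientGroup.mk a := ⟨_, rfl⟩
    obtain ⟨β, hβ⟩ : ∃ β : H ⧸ (X ⊔ pCore 2 H), β = QuotientGroup.mk b := ⟨_, rfl⟩
    rw [← hα, ← hβ] at h1 ⊢
    calc α * β = (α * β * α⁻¹ * β⁻¹) * (β * α) := by group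
      _ = β * α := by rw [h1, one_mul]
  apply Cfsg.Agent.S0016.isCyclic_of_comm_of_unique 2 hAp hAcomm
  intro B₁ B₂ hB₁ hB₂
  by_contra hne
  -- `X` is nontrivial
  have hX1 : Nat.card X ≠ 1 := by
    intro hX1
    have hcard : Nat.card H = 2 ^ k := by
      rw [← Subgroup.card_mul_index X, hX1, one_mul, hk]
    have hHp : IsPGroup 2 H := IsPGroup.of_card hcard
    have htop : (⊤ : Subgroup H) ≤ pCore 2 H :=
      Cfsg.Agent.Lib.Helper31.le_pCore inferInstance (hHp.to_subgroup ⊤)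
    have hM : X ⊔ pCore 2 H = ⊤ := top_le_iff.mp (htop.trans le_sup_right)
    have h1 : Nat.card (H ⧸ (X ⊔ pCore 2 H)) = 1 := by
      rw [← Subgroup.index_eq_card, hM, Subgroup.index_top]
    have h2 := Subgroup.card_subgroup_dvd_card B₁
    rw [hB₁, h1] at h2
    omega
  obtain ⟨p, hp, hpX⟩ := Nat.exists_prime_and_dvd hX1
  have hpF : Fact p.Prime := ⟨hp⟩
  have hpodd : Odd p := odd_of_dvd_odd hpX hXodd
  obtain ⟨Pm⟩ : Nonempty (Sylow p ↥(X ⊔ pCore 2 H)) := inferInstance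
  obtain ⟨P₂, hP₂⟩ : ∃ P₂ : Subgroup H,
      P₂ = (Pm : Subgroup ↥(X ⊔ pCore 2 H)).map (X ⊔ pCore 2 H).subtype := ⟨_, rfl⟩
  have hP₂p : IsPGroup p P₂ := by rw [hP₂]; exact Pm.2.map _
  have hP₂ne : P₂ ≠ ⊥ := by
    rw [hP₂]
    intro hbot
    have hdvd : p ∣ Nat.card ↥(X ⊔ pCore 2 H) :=
      hpX.trans (Subgroup.card_dvd_of_le le_sup_left)
    exact Pm.ne_bot_of_dvd_card hdvd
      ((Subgroup.map_eq_bot_iff_of_injective _ (X ⊔ pCore 2 H).subtype_injective).mp hbot)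
  have hP₂odd : Odd (Nat.card P₂) := by
    obtain ⟨i, hi⟩ := IsPGroup.iff_card.mp hP₂p
    rw [hi]; exact hpodd.pow
  have hP₂elt : ∀ x ∈ P₂, Odd (orderOf x) := fun x hx =>
    odd_of_dvd_odd (Subgroup.orderOf_dvd_natCard P₂ hx) hP₂odd
  have hP₂comm : ∀ a ∈ P₂, ∀ b ∈ P₂, a * b = b * a := by
    have hZ : IsZGroup P₂ := zgroup_of_odd hfpf hY P₂ hP₂odd
    have hnil : Group.IsNilpotent P₂ := hP₂p.isNilpotent
    have hcyc : IsCyclic P₂ := inferInstance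
    intro a ha b hb
    have := (IsCyclic.isMulCommutative (α := P₂)).is_comm.comm ⟨a, ha⟩ ⟨b, hb⟩
    exact congrArg Subtype.val this
  have hfrat : normalizer (P₂ : Set H) ⊔ (X ⊔ pCore 2 H) = ⊤ := by
    rw [hP₂]; exact Sylow.normalizer_sup_eq_top Pm
  -- a 2-element of `X ⊔ O_2(H)` normalizing `P₂` is trivial
  have htwo : ∀ g ∈ X ⊔ pCore 2 H, g ∈ normalizer (P₂ : Set H) → ∀ e : ℕ, g ^ 2 ^ e = 1 →
      g = 1 := by
    intro g hgM hgN e hge
    obtain ⟨x, hx, y, hy, rfl⟩ := (Subgroup.mem_sup_of_normal_right).mp hgM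
    have hx1 : x = 1 := by
      have h1 : (QuotientGroup.mk (x * y) : H ⧸ pCore 2 H) = QuotientGroup.mk x := by
        rw [QuotientGroup.mk_mul, (QuotientGroup.eq_one_iff y).mpr hy, mul_one]
      have h2 : (QuotientGroup.mk (x ^ 2 ^ e) : H ⧸ pCore 2 H) = 1 := by
        rw [QuotientGroup.mk_pow, ← h1, ← QuotientGroup.mk_pow, hge]; rfl
      have h3 : x ^ 2 ^ e ∈ pCore 2 H := (QuotientGroup.eq_one_iff _).mp h2
      obtain ⟨b, hb⟩ := hYp ⟨_, h3⟩
      have hb' : (x ^ 2 ^ e) ^ 2 ^ b = 1 := congrArg Subtype.val hb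
      have hxodd : Odd (orderOf x) := odd_of_dvd_odd (Subgroup.orderOf_dvd_natCard X hx) hXodd
      apply eq_one_of_odd_of_two_pow hxodd (k := e + b)
      rw [pow_add, pow_mul]; exact hb'
    rw [hx1, one_mul] at hgN ⊢
    obtain ⟨x₀, hx₀⟩ := (Subgroup.ne_bot_iff_exists_ne_one).mp hP₂ne
    have hx₀1 : (x₀ : H) ≠ 1 := fun h => hx₀ (Subtype.ext h)
    have hw1 : y * (x₀ : H) * y⁻¹ * (x₀ : H)⁻¹ ∈ P₂ :=
      mul_mem ((mem_normalizer_iff.mp hgN _).mp x₀.2) (inv_mem x₀.2)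
    have hw2 : y * (x₀ : H) * y⁻¹ * (x₀ : H)⁻¹ ∈ pCore 2 H := by
      have e1 : y * (x₀ : H) * y⁻¹ * (x₀ : H)⁻¹ = y * ((x₀ : H) * y⁻¹ * (x₀ : H)⁻¹) := by group
      rw [e1]
      exact mul_mem hy ((pCore_normal 2 H).conj_mem _ (inv_mem hy) _)
    obtain ⟨b, hb⟩ := hYp ⟨_, hw2⟩
    have hw3 : y * (x₀ : H) * y⁻¹ * (x₀ : H)⁻¹ = 1 :=
      eq_one_of_odd_of_two_pow (hP₂elt _ hw1) (congrArg Subtype.val hb)
    have hcx : (x₀ : H) * y = y * (x₀ : H) := by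
      calc (x₀ : H) * y = (y * (x₀ : H) * y⁻¹ * (x₀ : H)⁻¹)⁻¹ * (y * (x₀ : H)) := by group
        _ = y * (x₀ : H) := by rw [hw3, inv_one, one_mul]
    by_contra hy1
    exact hx₀1 (hfpf _ (hP₂elt _ x₀.2) y hy hy1 hcx)
  -- involutions normalizing `P₂` invert it
  have hinv : ∀ t ∈ normalizer (P₂ : Set H), orderOf t = 2 → ∀ x ∈ P₂, t * x * t⁻¹ = x⁻¹ := by
    intro t htN ht x hx
    have htt : t * t = 1 := by rw [← pow_two, ← ht]; exact pow_orderOf_eq_one t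
    have htinv : t⁻¹ = t := inv_eq_of_mul_eq_one_left htt
    have hR : IsPGroup 2 (zpowers t) :=
      IsPGroup.of_card (n := 1) (by rw [Nat.card_zpowers, ht, pow_one])
    have hRY : IsPGroup 2 (zpowers t ⊔ pCore 2 H : Subgroup H) :=
      IsPGroup.to_sup_of_normal_right hR hYp
    obtain ⟨c, hcY, hc1, hcc⟩ := Cfsg.Agent.Lib.Helper61.exists_central_of_normal Nat.prime_two
      (zpowers t ⊔ pCore 2 H) (pCore 2 H) hRY hY le_sup_right
      (fun g _ w hw => (pCore_normal 2 H).conj_mem w hw g)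
    have hct : c * t = t * c := (hcc t (le_sup_left (a := zpowers t) (mem_zpowers t))).symm
    have hconj : t * x * t⁻¹ ∈ P₂ := (mem_normalizer_iff.mp htN x).mp hx
    obtain ⟨u, hu⟩ : ∃ u, u = x * (t * x * t⁻¹) := ⟨_, rfl⟩
    have huP : u ∈ P₂ := by rw [hu]; exact mul_mem hx hconj
    have hut : u * t = t * u := by
      have h1 : t * u * t⁻¹ = u := by
        calc t * u * t⁻¹ = (t * x * t⁻¹) * ((t * t) * x * (t * t)⁻¹) := by rw [hu]; group
          _ = (t * x * t⁻¹) * x := by rw [htt]; group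
          _ = u := by rw [hu]; exact hP₂comm _ hconj _ hx
      calc u * t = (t * u * t⁻¹) * t := by rw [h1]
        _ = t * u := by group
    have huc := comm_of_odd hI t ht u (hP₂elt u huP) hut c hcY hct
    have hu1 : u = 1 := hfpf u (hP₂elt u huP) c hcY hc1 huc
    rw [hu] at hu1
    exact eq_inv_of_mul_eq_one_right hu1
  -- lifting involutions
  have hlift : ∀ n ∈ normalizer (P₂ : Set H),
      orderOf (QuotientGroup.mk n : H ⧸ (X ⊔ pCore 2 H)) = 2 →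
      ∃ m₀ : ℕ, orderOf (n ^ m₀) = 2 ∧
        (QuotientGroup.mk (n ^ m₀) : H ⧸ (X ⊔ pCore 2 H)) = QuotientGroup.mk n := by
    intro n hnN hn2
    obtain ⟨e, m₀, hm₀, hord⟩ := Nat.exists_eq_two_pow_mul_odd (orderOf_pos n).ne'
    have hsq : (QuotientGroup.mk n : H ⧸ (X ⊔ pCore 2 H)) ^ 2 = 1 := by
      have := pow_orderOf_eq_one (QuotientGroup.mk n : H ⧸ (X ⊔ pCore 2 H))
      rwa [hn2] at this
    have hmk : (QuotientGroup.mk (n ^ m₀) : H ⧸ (X ⊔ pCore 2 H)) = QuotientGroup.mk n := by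
      obtain ⟨i, rfl⟩ := hm₀
      rw [QuotientGroup.mk_pow, pow_succ, pow_mul, hsq, one_pow, one_mul]
    refine ⟨m₀, ?_, hmk⟩
    have h2e : (n ^ m₀) ^ 2 ^ e = 1 := by
      rw [← pow_mul, mul_comm, ← hord]; exact pow_orderOf_eq_one n
    have hsqM : n ^ m₀ * n ^ m₀ ∈ X ⊔ pCore 2 H := by
      rw [← QuotientGroup.eq_one_iff, QuotientGroup.mk_mul, hmk, ← pow_two]; exact hsq
    have hsqN : n ^ m₀ * n ^ m₀ ∈ normalizer (P₂ : Set H) :=
      mul_mem (pow_mem hnN _) (pow_mem hnN _)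
    have hsq1 : n ^ m₀ * n ^ m₀ = 1 := by
      apply htwo _ hsqM hsqN e
      rw [← pow_two, ← pow_mul (n ^ m₀) 2 (2 ^ e), mul_comm 2 (2 ^ e),
        pow_mul (n ^ m₀) (2 ^ e) 2, h2e, one_pow]
    apply orderOf_eq_prime
    · rw [pow_two]; exact hsq1
    · intro h1
      have h2 : (QuotientGroup.mk n : H ⧸ (X ⊔ pCore 2 H)) = 1 := by rw [← hmk, h1]; rfl
      rw [h2, orderOf_one] at hn2
      norm_num at hn2
  -- involutions of the quotient
  have hBinv : ∀ B : Subgroup (H ⧸ (X ⊔ pCore 2 H)), Nat.card B = 2 →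
      ∃ b : H ⧸ (X ⊔ pCore 2 H), orderOf b = 2 ∧ B = zpowers b := by
    intro B hB
    have hnt : B ≠ ⊥ := by
      intro h
      rw [h, Subgroup.card_bot] at hB
      omega
    obtain ⟨b, hb1⟩ := (Subgroup.ne_bot_iff_exists_ne_one).mp hnt
    have h2 : orderOf b = 2 := by
      have hd : orderOf b ∣ 2 := by
        have := _root_.orderOf_dvd_natCard b
        rwa [hB] at this
      rcases (Nat.dvd_prime Nat.prime_two).mp hd with h1 | h1
      · exact absurd (orderOf_eq_one_iff.mp h1) hb1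
      · exact h1
    have h3 : orderOf (b : H ⧸ (X ⊔ pCore 2 H)) = 2 := by rw [Subgroup.orderOf_coe]; exact h2
    refine ⟨b, h3, ?_⟩
    have hle : zpowers (b : H ⧸ (X ⊔ pCore 2 H)) ≤ B := by rw [zpowers_le]; exact b.2
    exact (Subgroup.eq_of_le_of_card_ge hle (by rw [Nat.card_zpowers, h3, hB])).symm
  obtain ⟨b₁, hb₁, hB₁'⟩ := hBinv B₁ hB₁
  obtain ⟨b₂, hb₂, hB₂'⟩ := hBinv B₂ hB₂
  have hb12 : b₁ ≠ b₂ := by
    intro h; apply hne; rw [hB₁', hB₂', h]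
  have hsurj : ∀ b : H ⧸ (X ⊔ pCore 2 H), ∃ n ∈ normalizer (P₂ : Set H),
      (QuotientGroup.mk n : H ⧸ (X ⊔ pCore 2 H)) = b := by
    intro b
    obtain ⟨h, rfl⟩ := QuotientGroup.mk_surjective b
    have hh : h ∈ normalizer (P₂ : Set H) ⊔ (X ⊔ pCore 2 H) := by rw [hfrat]; exact mem_top h
    obtain ⟨n, hn, m, hm, rfl⟩ := (Subgroup.mem_sup_of_normal_right).mp hh
    refine ⟨n, hn, ?_⟩
    rw [QuotientGroup.mk_mul, (QuotientGroup.eq_one_iff m).mpr hm, mul_one]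
  obtain ⟨n₁, hn₁N, hn₁⟩ := hsurj b₁
  obtain ⟨n₂, hn₂N, hn₂⟩ := hsurj b₂
  obtain ⟨m₁, ht₁, hmk₁⟩ := hlift n₁ hn₁N (by rw [hn₁]; exact hb₁)
  obtain ⟨m₂, ht₂, hmk₂⟩ := hlift n₂ hn₂N (by rw [hn₂]; exact hb₂)
  obtain ⟨t₁, hdef₁⟩ : ∃ t₁, t₁ = n₁ ^ m₁ := ⟨_, rfl⟩
  obtain ⟨t₂, hdef₂⟩ : ∃ t₂, t₂ = n₂ ^ m₂ := ⟨_, rfl⟩
  rw [← hdef₁] at ht₁ hmk₁
  rw [← hdef₂] at ht₂ hmk₂
  have ht₁N : t₁ ∈ normalizer (P₂ : Set H) := by rw [hdef₁]; exact pow_mem hn₁N _
  have ht₂N : t₂ ∈ normalizer (P₂ : Set H) := by rw [hdef₂]; exact pow_mem hn₂N _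
  have hsN : t₁ * t₂ ∈ normalizer (P₂ : Set H) := mul_mem ht₁N ht₂N
  have hscent : ∀ x ∈ P₂, (t₁ * t₂) * x = x * (t₁ * t₂) := by
    intro x hx
    have h1 := hinv t₂ ht₂N ht₂ x hx
    have h2 := hinv t₁ ht₁N ht₁ x⁻¹ (inv_mem hx)
    rw [inv_inv] at h2
    calc (t₁ * t₂) * x = t₁ * (t₂ * x * t₂⁻¹) * t₁⁻¹ * (t₁ * t₂) := by group
      _ = (t₁ * x⁻¹ * t₁⁻¹) * (t₁ * t₂) := by rw [h1]
      _ = x * (t₁ * t₂) := by rw [h2]
  have hs2 : orderOf (QuotientGroup.mk (t₁ * t₂) : H ⧸ (X ⊔ pCore 2 H)) = 2 := by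
    rw [QuotientGroup.mk_mul, hmk₁, hmk₂, hn₁, hn₂]
    have e1 : b₁ * b₁ = 1 := by
      have := pow_orderOf_eq_one b₁
      rwa [hb₁, pow_two] at this
    have e2 : b₂ * b₂ = 1 := by
      have := pow_orderOf_eq_one b₂
      rwa [hb₂, pow_two] at this
    apply orderOf_eq_prime
    · rw [pow_two]
      calc b₁ * b₂ * (b₁ * b₂) = b₁ * (b₂ * b₁) * b₂ := by group
        _ = b₁ * (b₁ * b₂) * b₂ := by rw [hAcomm b₂ b₁]
        _ = (b₁ * b₁) * (b₂ * b₂) := by group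
        _ = 1 := by rw [e1, e2, one_mul]
    · intro h
      apply hb12
      calc b₁ = (b₁ * b₂) * b₂⁻¹ := by group
        _ = b₂⁻¹ := by rw [h, one_mul]
        _ = b₂ := inv_eq_of_mul_eq_one_left e2
  obtain ⟨m₃, ht₃, -⟩ := hlift (t₁ * t₂) hsN hs2
  obtain ⟨x₀, hx₀⟩ := (Subgroup.ne_bot_iff_exists_ne_one).mp hP₂ne
  have hx₀1 : (x₀ : H) ≠ 1 := fun h => hx₀ (Subtype.ext h)
  have h1 := hinv _ (pow_mem hsN m₃) ht₃ x₀ x₀.2
  have h2 : (t₁ * t₂) ^ m₃ * (x₀ : H) * ((t₁ * t₂) ^ m₃)⁻¹ = x₀ := by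
    have hc : Commute (t₁ * t₂) (x₀ : H) := hscent x₀ x₀.2
    have := (hc.pow_left m₃).eq
    rw [this]; group
  rw [h2] at h1
  apply hx₀1
  apply eq_one_of_odd_of_two_pow (hP₂elt _ x₀.2) (k := 1)
  rw [pow_one, pow_two]
  calc (x₀ : H) * x₀ = x₀ * (x₀ : H)⁻¹ := by rw [← h1]
    _ = 1 := mul_inv_cancel _

end

/-- Let H be a finite solvable group with no nontrivial normal subgroup of odd order in which the centralizer of every involution has a normal 2-complement. Let X be a Hall 2'-subgroup of H (odd order, index a power of 2) and Y = O₂(H). Then no non-identity element of X commutes with a non-identity element of Y (so for X ≠ 1 the group XY is a Frobenius group with kernel Y), every Sylow subgroup of X is cyclic, XY is normal in H, and H/XY is a cyclic 2-group. -/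
theorem result {H : Type*} [Group H] [Finite H] (hsol : Group.IsSolvable H)
    (hO : Cfsg.oddCore H = ⊥)
    (hI : ∀ t : H, orderOf t = 2 → Cfsg.HasNormalPComplement 2 ↥(Subgroup.centralizer ({t} : Set H)))
    (X : Subgroup H) (hXodd : Odd (Nat.card X)) (hXidx : ∃ k : ℕ, X.index = 2 ^ k) :
    (∀ x ∈ X, x ≠ 1 → ∀ y ∈ Cfsg.pCore 2 H, y ≠ 1 → x * y ≠ y * x) ∧
      (∀ (p : ℕ) [Fact p.Prime] (P : Sylow p ↥X), IsCyclic ↥(P : Subgroup ↥X)) ∧
      (X ⊔ Cfsg.pCore 2 H).Normal ∧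
      ∀ hN : (X ⊔ Cfsg.pCore 2 H).Normal, IsCyclic (H ⧸ (X ⊔ Cfsg.pCore 2 H)) ∧ IsPGroup 2 (H ⧸ (X ⊔ Cfsg.pCore 2 H)) := by
  have hfpf := fpf hsol hO hI
  by_cases hY : pCore 2 H = ⊥
  · have hsub : Subsingleton H := by
      have hsol' := hsol
      have h1 := Cfsg.Agent.Lib.Helper12.centralizer_pCore_two_le hO
      rw [hY] at h1
      have h2 : ∀ g : H, g = 1 := by
        intro g
        have : g ∈ centralizer (((⊥ : Subgroup H) : Subgroup H) : Set H) := by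
          rw [mem_centralizer_iff]
          intro u hu
          rw [SetLike.mem_coe, mem_bot] at hu
          rw [hu, one_mul, mul_one]
        exact mem_bot.mp (h1 this)
      exact ⟨fun a b => (h2 a).trans (h2 b).symm⟩
    refine ⟨?_, ?_, ?_, ?_⟩
    · intro x _ hx1; exact absurd (Subsingleton.elim x 1) hx1
    · intro p _ P; exact isCyclic_of_subsingleton
    · exact ⟨fun n hn g => by rw [Subsingleton.elim (g * n * g⁻¹) n]; exact hn⟩
    · intro hN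
      exact ⟨isCyclic_of_subsingleton, fun g => ⟨0, Subsingleton.elim _ _⟩⟩
  · have hXZ : IsZGroup X := zgroup_of_odd hfpf hY X hXodd
    have hcomm := comm_mem hsol X hXodd hXidx hXZ
    have hMn : (X ⊔ pCore 2 H).Normal := normal_of_comm _ hcomm
    refine ⟨?_, ?_, hMn, ?_⟩
    · intro x hx hx1 y hy hy1 hxy
      exact hx1 (hfpf x (odd_of_dvd_odd (Subgroup.orderOf_dvd_natCard X hx) hXodd) y hy hy1 hxy)
    · intro p hp P
      exact hXZ.isZGroup p hp.out P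
    · intro hN
      exact cyclic_quot hI X hXodd hXidx hY hfpf hcomm hN

end Cfsg.Agent.S3215
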