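import Cfsg.Statements.S3278
import Mathlib
import Cfsg.Agent.Lib.Helper5.V4kArith
import Cfsg.Agent.Lib.Helper5.V4Block
import Cfsg.Agent.Lib.Helper5.V4kGroup
import Cfsg.Agent.Lib.Helper5.V4kChar
import Cfsg.Agent.S0942
import Cfsg.Agent.S0494
import Cfsg.Agent.Lib.Helper83.Codeg
import Cfsg.Agent.Lib.Helper83.Quot
import Cfsg.Agent.Lib.Helper81.PSolv2
import Cfsg.Agent.Lib.Helper79.Klein6
import Cfsg.Agent.Lib.Helper82.PQ
import Cfsg.Agent.Lib.Helper35.Ind
import Cfsg.Agent.Lib.Helper4.CharExp2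

set_option autoImplicit false
open Cfsg

namespace Cfsg.Agent.S3278

set_option maxHeartbeats 1600000 in
/-- Let G be a finite simple group with an involution x such that a Sylow 2-subgroup of C_G(x) is a Klein four-group which is normal in C_G(x). Then G is isomorphic to the alternating group of degree 5 (that is, to PSL(2, 5)). -/
theorem result {G : Type*} [Group G] [Finite G] [IsSimpleGroup G] (x : G) (hx : orderOf x = 2)
    (S₀ : Subgroup G) (hle : S₀ ≤ Subgroup.centralizer ({x} : Set G)) (hK : IsKleinFour ↥S₀)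
    (hodd : ¬ 2 ∣ S₀.relIndex (Subgroup.centralizer ({x} : Set G))) (hn : (S₀.subgroupOf (Subgroup.centralizer ({x} : Set G))).Normal) :
    Nonempty (G ≃* ↥(alternatingGroup (Fin 5))) := by
  classical
  haveI : Fact (Nat.Prime 2) := ⟨Nat.prime_two⟩
  letI : Fintype G := Fintype.ofFinite G
  have hcard : Nat.card S₀ = 4 := hK.card_four
  obtain ⟨P, hPS⟩ := Cfsg.Agent.Lib.Helper5.s0_sylow x S₀ hx hcard hle hodd hn
  have hP : Nat.card P = 4 := by
    have h : Nat.card (P : Subgroup G) = 4 := by rw [hPS]; exact hcard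
    exact h
  have hxS : x ∈ S₀ := Cfsg.Agent.Lib.Helper5.x_mem_s0 x S₀ hx hle hodd hn
  have hxP : x ∈ (P : Subgroup G) := by rw [hPS]; exact hxS
  have hidx : ¬ 2 ∣ (P : Subgroup G).index := P.not_dvd_index
  have hcardG : Nat.card G = 4 * (P : Subgroup G).index := by
    rw [← hP]; exact ((P : Subgroup G).card_mul_index).symm
  obtain ⟨g₀, hg₀def⟩ : ∃ g₀ : ℕ, g₀ = (P : Subgroup G).index := ⟨_, rfl⟩
  rw [← hg₀def] at hidx hcardG
  have hg₀ : Odd g₀ := by rw [Nat.odd_iff]; omega
  have hxx : x * x = 1 := by rw [← pow_two, ← hx]; exact pow_orderOf_eq_one x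
  have hx1 : x ≠ 1 := by
    rintro rfl
    rw [orderOf_one] at hx
    omega
  -- no normal `2`-complement
  have hnc : ¬ ∃ N : Subgroup G, N.Normal ∧ Nat.card N = g₀ := by
    rintro ⟨N, hNn, hNc⟩
    rcases hNn.eq_bot_or_eq_top with h | h
    · rw [h, Subgroup.card_bot] at hNc
      have h4 : Nat.card G = 4 := by rw [hcardG, ← hNc]
      have hnz : (Subgroup.zpowers x).Normal := by
        constructor
        intro n hn g
        have h5 : g * n * g⁻¹ = n := by
          rw [Cfsg.Agent.Lib.Helper79.comm_of_card_four h4 g n, mul_inv_cancel_right]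
        rw [h5]; exact hn
      rcases hnz.eq_bot_or_eq_top with h' | h'
      · exact hx1 (Subgroup.zpowers_eq_bot.mp h')
      · have h6 : Nat.card (Subgroup.zpowers x) = 2 := by rw [Nat.card_zpowers, hx]
        rw [h', Subgroup.card_top, h4] at h6
        omega
    · rw [h, Subgroup.card_top, hcardG] at hNc
      obtain ⟨k, hk⟩ := hg₀
      omega
  -- centralizers
  have hCP : Subgroup.centralizer ((P : Subgroup G) : Set G) =
      Subgroup.centralizer ({x} : Set G) := by
    apply le_antisymm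
    · intro k hk
      rw [Subgroup.mem_centralizer_singleton_iff]
      exact (hk x hxP).symm
    · intro k hk
      rw [Subgroup.mem_centralizer_iff]
      intro v hv
      have hv' : v ∈ S₀ := by rw [← hPS]; exact hv
      exact (Cfsg.Agent.Lib.Helper5.s0_central x S₀ hx hcard hle hodd hn k hk v hv').symm
  have hPC : (P : Subgroup G) ≤ Subgroup.centralizer ({x} : Set G) := by
    rw [hPS]; exact hle
  -- the principal block
  obtain ⟨M, hM⟩ := Cfsg.Agent.Lib.Helper82.exists_isPModular 2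
  obtain ⟨χ₁, χ₂, χ₃, ε₁, ε₂, ε₃, hB, hdist, hε, hval⟩ :=
    Cfsg.Agent.Lib.Helper5.v4_block M hM P hP x hxP hx
  obtain ⟨hrel, n, hn', hform⟩ := Cfsg.Agent.Lib.Helper79.klein_four_relations hM g₀ hg₀ hcardG
    hnc P x hxP hx χ₁ χ₂ χ₃ ε₁ ε₂ ε₃ hB hdist hε hval
  rw [hCP] at hn'
  have hCpos : 0 < Nat.card (Subgroup.centralizer ({x} : Set G)) := Nat.card_pos
  have hn1 : n = 1 := by
    have h : n * Nat.card (Subgroup.centralizer ({x} : Set G)) =
        1 * Nat.card (Subgroup.centralizer ({x} : Set G)) := by rw [hn', one_mul]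
    exact Nat.eq_of_mul_eq_mul_right hCpos h
  rw [hn1] at hform
  -- the index of the centralizer
  have hNG : Nat.card G = Nat.card (Subgroup.centralizer ({x} : Set G)) *
      (Subgroup.centralizer ({x} : Set G)).index :=
    ((Subgroup.centralizer ({x} : Set G)).card_mul_index).symm
  obtain ⟨N, hNdef⟩ : ∃ N : ℕ, N = (Subgroup.centralizer ({x} : Set G)).index := ⟨_, rfl⟩
  rw [← hNdef] at hNG
  have hNodd : N % 2 = 1 := by
    have h1 : N ∣ g₀ := by
      rw [hNdef, hg₀def]
      exact Subgroup.index_dvd_of_le hPC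
    have h2 : ¬ 2 ∣ N := fun h => hidx (dvd_trans h h1)
    omega
  have hform' : (N : ℚ) * (1 + (ε₁ : ℚ) / (charDegree (χ₁ : G → ℂ) : ℚ) +
      (ε₂ : ℚ) / (charDegree (χ₂ : G → ℂ) : ℚ) + (ε₃ : ℚ) / (charDegree (χ₃ : G → ℂ) : ℚ)) = 8 := by
    have hc0 : (Nat.card (Subgroup.centralizer ({x} : Set G)) : ℚ) ≠ 0 := by
      exact_mod_cast hCpos.ne'
    rw [hNG] at hform
    push_cast at hform
    have h2 : (Nat.card (Subgroup.centralizer ({x} : Set G)) : ℚ) * ((N : ℚ) *
        (1 + (ε₁ : ℚ) / (charDegree (χ₁ : G → ℂ) : ℚ) +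
        (ε₂ : ℚ) / (charDegree (χ₂ : G → ℂ) : ℚ) + (ε₃ : ℚ) / (charDegree (χ₃ : G → ℂ) : ℚ))) =
        (Nat.card (Subgroup.centralizer ({x} : Set G)) : ℚ) * 8 := by
      linear_combination hform
    exact mul_left_cancel₀ hc0 h2
  rcases Cfsg.Agent.Lib.Helper5.v4k_arith N (charDegree (χ₁ : G → ℂ)) (charDegree (χ₂ : G → ℂ))
    (charDegree (χ₃ : G → ℂ)) ε₁ ε₂ ε₃ hNodd
    (Cfsg.Agent.Lib.Helper79.charDegree_pos χ₁) (Cfsg.Agent.Lib.Helper79.charDegree_pos χ₂)
    (Cfsg.Agent.Lib.Helper79.charDegree_pos χ₃) hε.1 hε.2.1 hε.2.2 hrel hform' with hN3 | ⟨hN15, hχ⟩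
  · -- index three is impossible
    exfalso
    have hker := Subgroup.normalCore_eq_ker (Subgroup.centralizer ({x} : Set G))
    rcases (Subgroup.normalCore_normal (Subgroup.centralizer ({x} : Set G))).eq_bot_or_eq_top
      with h | h
    · have hinj : Function.Injective
          (MulAction.toPermHom G (G ⧸ Subgroup.centralizer ({x} : Set G))) := by
        rw [← MonoidHom.ker_eq_bot_iff, ← hker]; exact h
      have hdvd := Subgroup.card_dvd_of_injective _ hinj
      rw [Nat.card_perm, ← Subgroup.index_eq_card, ← hNdef, hN3, hcardG] at hdvd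
      have h6 : Nat.factorial 3 = 6 := rfl
      rw [h6] at hdvd
      have h46 : 4 ∣ 6 := dvd_trans (dvd_mul_right 4 g₀) hdvd
      omega
    · have htop : Subgroup.centralizer ({x} : Set G) = ⊤ :=
        top_le_iff.mp (h ▸ Subgroup.normalCore_le _)
      rw [htop, Subgroup.index_top] at hNdef
      omega
  · -- index fifteen
    have hχ' : ∃ χ : IrrCharacter G, χ ∈ principalBlock M G ∧ (χ : G → ℂ) ≠ (fun _ => 1) ∧
        (χ : G → ℂ) x = -1 ∧ charDegree (χ : G → ℂ) = 3 := by
      rcases hχ with ⟨he, hd⟩ | ⟨he, hd⟩ | ⟨he, hd⟩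
      · refine ⟨χ₁, ?_, hdist.1, ?_, hd⟩
        · rw [hB]; exact Or.inr (Or.inl rfl)
        · rw [hval.1, he]; norm_num
      · refine ⟨χ₂, ?_, hdist.2.1, ?_, hd⟩
        · rw [hB]; exact Or.inr (Or.inr (Or.inl rfl))
        · rw [hval.2.1, he]; norm_num
      · refine ⟨χ₃, ?_, hdist.2.2.1, ?_, hd⟩
        · rw [hB]; exact Or.inr (Or.inr (Or.inr rfl))
        · rw [hval.2.2, he]; norm_num
    obtain ⟨χ, hχB, hχ1, hχx, hχd⟩ := hχ'
    have hχone : (χ : G → ℂ) 1 = 3 := by
      rw [Cfsg.Agent.Lib.Helper79.irr_one_eq_charDegree, hχd]; norm_num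
    -- fusion of the involutions of `P`
    obtain ⟨J₂, hJ₂P, hJ₂2, hJ₂x, hconj1, hconj2⟩ :=
      Cfsg.Agent.Lib.Helper79.exists_fusion g₀ hg₀ hcardG hnc P hxP hx
    have hJ₂1 : J₂ ≠ 1 := by
      rintro rfl
      rw [orderOf_one] at hJ₂2
      omega
    have hfus : ∀ v ∈ (P : Subgroup G), v ≠ 1 → IsConj x v := by
      intro v hv hv1
      by_cases hvx : v = x
      · rw [hvx]
      · rcases Cfsg.Agent.Lib.Helper79.sylow_four_enum P hP hxP hx hJ₂P hJ₂1 hJ₂x hv hv1 hvx
          with h | h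
        · rw [h]; exact hconj1
        · rw [h]; exact hconj2
    have hinv : ∀ v ∈ (P : Subgroup G), v ≠ 1 → orderOf v = 2 := by
      intro v hv hv1
      have hv' : v ∈ S₀ := by rw [← hPS]; exact hv
      have h := IsKleinFour.mul_self (⟨v, hv'⟩ : S₀)
      have h2 : v * v = 1 := congrArg Subtype.val h
      exact Cfsg.Agent.Lib.Helper79.orderOf_eq_two_of_sq h2 hv1
    -- elements of odd order in the centralizer are trivial
    have hoddelt : ∀ k ∈ Subgroup.centralizer ({x} : Set G), ¬ 2 ∣ orderOf k → k = 1 := by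
      intro k hk hk2
      have hzC : ∀ z ∈ Subgroup.zpowers k, z ∈ Subgroup.centralizer ({x} : Set G) :=
        fun z hz => (Subgroup.zpowers_le.mpr hk) hz
      have hcomm : ∀ v ∈ (P : Subgroup G), ∀ z ∈ Subgroup.zpowers k, v * z = z * v := by
        intro v hv z hz
        have hv' : v ∈ S₀ := by rw [← hPS]; exact hv
        exact (Cfsg.Agent.Lib.Helper5.s0_central x S₀ hx hcard hle hodd hn z (hzC z hz) v hv').symm
      have hvalk : ∀ v ∈ (P : Subgroup G), v ≠ 1 → ∀ z ∈ Subgroup.zpowers k,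
          (χ : G → ℂ) (v * z) = -1 := by
        intro v hv hv1 z hz
        have hv2 := hinv v hv hv1
        have hzv : z ∈ Subgroup.centralizer ({v} : Set G) := by
          rw [Subgroup.mem_centralizer_singleton_iff]
          exact (hcomm v hv z hz).symm
        have hz2 : ¬ 2 ∣ orderOf z := fun h => hk2 (dvd_trans h (orderOf_dvd_of_mem_zpowers hz))
        have hidxK := Cfsg.Agent.Lib.Helper79.index_pPrimeCore_centralizer P hP hv hv2
        haveI := Cfsg.Agent.Lib.Helper81.pPrimeCore_normal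
          (G := Subgroup.centralizer ({v} : Set G)) 2
        have hmem : (⟨z, hzv⟩ : Subgroup.centralizer ({v} : Set G)) ∈
            pPrimeCore 2 (Subgroup.centralizer ({v} : Set G)) := by
          apply Cfsg.Agent.Lib.Helper5.mem_of_coprime_index
          rw [Subgroup.orderOf_mk, hidxK]
          have h4 : (4 : ℕ) = 2 ^ 2 := by norm_num
          rw [h4]
          exact Nat.Coprime.pow_right 2
            ((Nat.Prime.coprime_iff_not_dvd Nat.prime_two).mpr hz2).symm
        have hzcore : z ∈ centralizerPPrimeCore 2 v := ⟨⟨z, hzv⟩, hmem, rfl⟩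
        have h942 := Cfsg.Agent.S0942.result 2 M hM v ⟨1, by rw [hv2, pow_one]⟩ z hzcore χ hχB
        rw [h942, ← Cfsg.Agent.Lib.Helper4.irr_eq_of_isConj χ (hfus v hv hv1), hχx]
      have hk3 := Cfsg.Agent.Lib.Helper5.char_three_const
        (Cfsg.Agent.Lib.Helper35.isChar_of_irr χ.2) hχone (P : Subgroup G) hP k hcomm hvalk
      have hkker : k ∈ Cfsg.Agent.Lib.Helper83.irrKer χ := by
        rw [Cfsg.Agent.Lib.Helper83.mem_irrKer, hk3, hχone]
      rcases (Cfsg.Agent.Lib.Helper83.irrKer_normal χ).eq_bot_or_eq_top with h | h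
      · rw [h] at hkker
        exact Subgroup.mem_bot.mp hkker
      · exfalso
        have h2 := (Cfsg.Agent.Lib.Helper83.irrKer_eq_top_iff χ).mp h
        apply hχ1
        rw [h2]
        rfl
    -- the centralizer has order four
    have hrel1 : S₀.relIndex (Subgroup.centralizer ({x} : Set G)) = 1 := by
      by_contra hne
      obtain ⟨q, hq, hqd⟩ := Nat.exists_prime_and_dvd hne
      haveI : Fact q.Prime := ⟨hq⟩
      have hq2 : q ≠ 2 := by
        rintro rfl
        exact hodd hqd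
      have hqC : q ∣ Nat.card (Subgroup.centralizer ({x} : Set G)) := by
        rw [Cfsg.Agent.Lib.Helper5.card_centralizer_s0 x S₀ hcard hle]
        exact dvd_mul_of_dvd_right hqd 4
      obtain ⟨c, hc⟩ := exists_prime_orderOf_dvd_card' q hqC
      have hc' : orderOf (c : G) = q := by rw [Subgroup.orderOf_coe]; exact hc
      have hc2 : ¬ 2 ∣ orderOf (c : G) := by
        rw [hc']
        intro h
        exact hq2 ((Nat.prime_dvd_prime_iff_eq Nat.prime_two hq).mp h).symm
      have hc1 := hoddelt (c : G) c.2 hc2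
      rw [hc1, orderOf_one] at hc'
      exact hq.one_lt.ne hc'
    have hC4 : Nat.card (Subgroup.centralizer ({x} : Set G)) = 4 := by
      rw [Cfsg.Agent.Lib.Helper5.card_centralizer_s0 x S₀ hcard hle, hrel1]
    have h60 : Nat.card G = 60 := by
      rw [hNG, hC4, hN15]
    exact Cfsg.Agent.S0494.result h60

end Cfsg.Agent.S3278
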