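import Cfsg.Statements.S4381
import Cfsg.Agent.S0023
import Cfsg.Agent.S0660

set_option autoImplicit false
open Pointwise
open Cfsg

namespace Cfsg.Agent.S4381

/-- `L` is invariant under the action of `A`. -/
def AInv (A : Type*) {G : Type*} [Group A] [Group G] [MulDistribMulAction A G]
    (L : Subgroup G) : Prop :=
  ∀ a : A, ∀ x ∈ L, a • x ∈ L

section

variable {A G : Type*} [Group A] [Group G] [MulDistribMulAction A G]

theorem ainv_sup {L L' : Subgroup G} (h : AInv A L) (h' : AInv A L') : AInv A (L ⊔ L') := by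
  intro a x hx
  have h1 : L.map (MulDistribMulAction.toMonoidHom G a) ≤ L ⊔ L' := by
    rintro _ ⟨y, hy, rfl⟩; exact Subgroup.mem_sup_left (h a y hy)
  have h2 : L'.map (MulDistribMulAction.toMonoidHom G a) ≤ L ⊔ L' := by
    rintro _ ⟨y, hy, rfl⟩; exact Subgroup.mem_sup_right (h' a y hy)
  have h3 : (L ⊔ L').map (MulDistribMulAction.toMonoidHom G a) ≤ L ⊔ L' := by
    rw [Subgroup.map_sup]; exact sup_le h1 h2
  exact h3 ⟨x, hx, rfl⟩

theorem ainv_frattini : AInv A (frattini G) := by
  intro a x hx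
  have hc : (frattini G).Characteristic := inferInstance
  have := Subgroup.characteristic_iff_map_le.mp hc (MulDistribMulAction.toMulAut A G a)
  exact this ⟨x, hx, rfl⟩

theorem exists_max_ainv [Finite G] : ∀ (n : ℕ) (L : Subgroup G), AInv A L → L ≠ ⊤ →
    Nat.card G - Nat.card L ≤ n →
    ∃ M : Subgroup G, (M ≠ ⊤ ∧ AInv A M ∧
      ∀ L' : Subgroup G, M < L' → AInv A L' → L' = ⊤) ∧ L ≤ M := by
  intro n
  induction n with
  | zero =>
    intro L _ hL hn
    exfalso; apply hL
    apply Subgroup.eq_top_of_le_card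
    omega
  | succ n ih =>
    intro L hinv hL hn
    by_cases h : ∃ L' : Subgroup G, L < L' ∧ AInv A L' ∧ L' ≠ ⊤
    · obtain ⟨L', hlt, hinv', hne'⟩ := h
      have hcard : Nat.card L < Nat.card L' := by
        rcases Nat.lt_or_ge (Nat.card L) (Nat.card L') with h2 | h2
        · exact h2
        · exact absurd (Subgroup.eq_of_le_of_card_ge hlt.le h2) hlt.ne
      have hle : Nat.card L' ≤ Nat.card G := Subgroup.card_le_card_group L'
      obtain ⟨M, hM, hLM⟩ := ih L' hinv' hne' (by omega)
      exact ⟨M, hM, hlt.le.trans hLM⟩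
    · push Not at h
      exact ⟨L, ⟨hL, hinv, fun L' hlt hinv' => h L' hlt hinv'⟩, le_rfl⟩

/-- Under coprime action there is an invariant Sylow subgroup (abstract action version). -/
theorem exists_invariant_sylow [Finite A] [Finite G] (hcop : (Nat.card A).Coprime (Nat.card G))
    (hsol : Group.IsSolvable A ∨ Group.IsSolvable G) (p : ℕ) [Fact p.Prime] :
    ∃ R : Subgroup G, AInv A R ∧ IsPGroup p R ∧
      ∀ k : ℕ, p ^ k ∣ Nat.card G → p ^ k ∣ Nat.card R := by
  classical
  let φ : A →* MulAut G := MulDistribMulAction.toMulAut A G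
  have hfin : Finite (G ⋊[φ] A) := Finite.of_equiv _ SemidirectProduct.equivProd.symm
  let K : Subgroup (G ⋊[φ] A) := (SemidirectProduct.inl : G →* G ⋊[φ] A).range
  let A' : Subgroup (G ⋊[φ] A) := (SemidirectProduct.inr : A →* G ⋊[φ] A).range
  have hKn : K.Normal := by
    have : K = (SemidirectProduct.rightHom : G ⋊[φ] A →* A).ker :=
      SemidirectProduct.range_inl_eq_ker_rightHom
    rw [this]; infer_instance
  have hAK : A' ≤ Subgroup.normalizer (K : Set (G ⋊[φ] A)) := by
    rw [Subgroup.normalizer_eq_top_iff.mpr hKn]; exact le_top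
  let eK : G ≃* K := MonoidHom.ofInjective SemidirectProduct.inl_injective
  let eA : A ≃* A' := MonoidHom.ofInjective SemidirectProduct.inr_injective
  have hcK : Nat.card K = Nat.card G := (Nat.card_congr eK.toEquiv).symm
  have hcA : Nat.card A' = Nat.card A := (Nat.card_congr eA.toEquiv).symm
  have hsol' : Group.IsSolvable A' ∨ Group.IsSolvable K := by
    rcases hsol with h | h
    · left; exact solvable_of_surjective eA.surjective
    · right; exact solvable_of_surjective eK.surjective
  obtain ⟨P, hP⟩ := Cfsg.Agent.S0023.result A' K hAK (by rw [hcA, hcK]; exact hcop) hsol' p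
  refine ⟨((P : Subgroup K).map K.subtype).comap SemidirectProduct.inl, ?_, ?_, ?_⟩
  · intro a x hx
    show (SemidirectProduct.inl (a • x) : G ⋊[φ] A) ∈ (P : Subgroup K).map K.subtype
    have h1 : (SemidirectProduct.inl (a • x) : G ⋊[φ] A) =
        SemidirectProduct.inr a * SemidirectProduct.inl x * (SemidirectProduct.inr a)⁻¹ := by
      rw [← map_inv]
      exact SemidirectProduct.inl_aut (φ := φ) a x
    rw [h1]
    have hn := hP (⟨a, rfl⟩ : (SemidirectProduct.inr a : G ⋊[φ] A) ∈ A')
    exact (Subgroup.mem_set_normalizer_iff.mp hn _).mp hx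
  · exact (P.isPGroup'.map K.subtype).comap_of_injective _ SemidirectProduct.inl_injective
  · intro k hk
    have hle : (P : Subgroup K).map K.subtype ≤ (SemidirectProduct.inl : G →* G ⋊[φ] A).range := by
      rintro _ ⟨y, _, rfl⟩; exact y.2
    have h1 : Nat.card ↥(((P : Subgroup K).map K.subtype).comap SemidirectProduct.inl) =
        Nat.card (P : Subgroup K) := by
      calc Nat.card ↥(((P : Subgroup K).map K.subtype).comap SemidirectProduct.inl)
          = Nat.card ↥((((P : Subgroup K).map K.subtype).comap SemidirectProduct.inl).map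
              (SemidirectProduct.inl : G →* G ⋊[φ] A)) :=
            (Subgroup.card_map_of_injective SemidirectProduct.inl_injective).symm
        _ = Nat.card ↥((P : Subgroup K).map K.subtype) := by
            rw [Subgroup.map_comap_eq_self hle]
        _ = Nat.card (P : Subgroup K) := Subgroup.card_map_of_injective K.subtype_injective
    rw [h1]
    exact P.pow_dvd_card_of_pow_dvd_card (by rw [hcK]; exact hk)

end

/-- A maximal subgroup of a finite `p`-group contains all commutators and all `p`-th powers. -/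
theorem coatom_props {G : Type*} [Group G] [Finite G] (p : ℕ) [hp : Fact p.Prime]
    (hG : IsPGroup p G) {M : Subgroup G} (hM : IsCoatom M) :
    (∀ x y : G, x * y * x⁻¹ * y⁻¹ ∈ M) ∧ (∀ x : G, x ^ p ∈ M) := by
  have hnil : Group.IsNilpotent G := hG.isNilpotent
  have hMn : M.Normal :=
    Subgroup.NormalizerCondition.normal_of_coatom M Group.normalizerCondition_of_isNilpotent hM
  obtain ⟨g, hg⟩ : ∃ g : G, g ∉ M := by
    by_contra h
    push Not at h
    exact hM.1 (eq_top_iff.mpr fun x _ => h x)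
  have htop : M ⊔ Subgroup.zpowers g = ⊤ := by
    apply hM.2
    refine lt_of_le_of_ne le_sup_left ?_
    intro h
    apply hg
    have : Subgroup.zpowers g ≤ M := by rw [h]; exact le_sup_right
    exact this (Subgroup.mem_zpowers _)
  have hdec : ∀ x : G, ∃ i : ℤ, (QuotientGroup.mk' M) x = (QuotientGroup.mk' M g) ^ i := by
    intro x
    have hx : x ∈ M ⊔ Subgroup.zpowers g := by rw [htop]; exact Subgroup.mem_top x
    rw [← SetLike.mem_coe, Subgroup.normal_mul] at hx
    obtain ⟨m, hm, w, hw, rfl⟩ := Set.mem_mul.mp hx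
    obtain ⟨i, rfl⟩ := Subgroup.mem_zpowers_iff.mp hw
    refine ⟨i, ?_⟩
    rw [map_mul, map_zpow]
    have : (QuotientGroup.mk' M) m = 1 := (QuotientGroup.eq_one_iff m).mpr hm
    rw [this, one_mul]
  constructor
  · intro x y
    obtain ⟨i, hi⟩ := hdec x
    obtain ⟨j, hj⟩ := hdec y
    have h1 : (QuotientGroup.mk' M) (x * y * x⁻¹ * y⁻¹) = 1 := by
      rw [map_mul, map_mul, map_mul, map_inv, map_inv, hi, hj, zpow_mul_comm _ i j,
        mul_inv_cancel_right, mul_inv_cancel]
    exact (QuotientGroup.eq_one_iff _).mp h1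
  · intro u
    by_contra hu
    have hlt : M < M ⊔ Subgroup.zpowers (u ^ p) := by
      refine lt_of_le_of_ne le_sup_left ?_
      intro h
      apply hu
      have : Subgroup.zpowers (u ^ p) ≤ M := by rw [h]; exact le_sup_right
      exact this (Subgroup.mem_zpowers _)
    have htop' : M ⊔ Subgroup.zpowers (u ^ p) = ⊤ := hM.2 _ hlt
    have hmem : u ∈ M ⊔ Subgroup.zpowers (u ^ p) := by rw [htop']; exact Subgroup.mem_top _
    rw [← SetLike.mem_coe, Subgroup.normal_mul] at hmem
    obtain ⟨m, hm, w, hw, hmw⟩ := Set.mem_mul.mp hmem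
    obtain ⟨k, rfl⟩ := Subgroup.mem_zpowers_iff.mp hw
    have h1 : u ^ (1 - (p : ℤ) * k) = m := by
      have : (u ^ p) ^ k = u ^ ((p : ℤ) * k) := by rw [zpow_mul, zpow_natCast]
      rw [this] at hmw
      have h0 : u ^ (1 - (p : ℤ) * k) = u * (u ^ ((p : ℤ) * k))⁻¹ := by rw [zpow_sub, zpow_one]
      rw [h0]
      nth_rewrite 1 [← hmw]
      rw [mul_inv_cancel_right]
    obtain ⟨j, hj⟩ := hG u
    have hcop : IsCoprime (1 - (p : ℤ) * k) ((p : ℤ) ^ j) := by
      apply IsCoprime.pow_right
      exact ⟨1, k, by ring⟩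
    obtain ⟨a, b, hab⟩ := hcop
    have h2 : u = (u ^ (1 - (p : ℤ) * k)) ^ a := by
      have h3 : u ^ (a * (1 - (p : ℤ) * k) + b * (p : ℤ) ^ j) = u := by rw [hab, zpow_one]
      rw [zpow_add, zpow_mul' u b, ← Nat.cast_pow, zpow_natCast, hj, one_zpow, mul_one, mul_comm,
        zpow_mul] at h3
      exact h3.symm
    have hum : u ∈ M := by
      rw [h2, h1]; exact Subgroup.zpow_mem _ hm _
    exact hu (Subgroup.pow_mem _ hum p)

theorem comm_mem_frattini {G : Type*} [Group G] [Finite G] (p : ℕ) [Fact p.Prime]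
    (hG : IsPGroup p G) (x y : G) : x * y * x⁻¹ * y⁻¹ ∈ frattini G := by
  unfold frattini Order.radical
  simp only [Subgroup.mem_iInf]
  intro M hM
  exact (coatom_props p hG hM).1 x y

theorem pow_mem_frattini {G : Type*} [Group G] [Finite G] (p : ℕ) [Fact p.Prime]
    (hG : IsPGroup p G) (x : G) : x ^ p ∈ frattini G := by
  unfold frattini Order.radical
  simp only [Subgroup.mem_iInf]
  intro M hM
  exact (coatom_props p hG hM).2 x

/-- Every subgroup of a finite elementary abelian `p`-group has a complement. -/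
theorem exists_compl_elem {V : Type*} [Group V] [Finite V] (hcomm : ∀ a b : V, a * b = b * a)
    (p : ℕ) (hp : p.Prime) (hexp : ∀ v : V, v ^ p = 1) (U : Subgroup V) :
    ∃ W : Subgroup V, U ⊓ W = ⊥ ∧ U ⊔ W = ⊤ := by
  have hnormal : ∀ W : Subgroup V, W.Normal := fun W =>
    ⟨fun n hn g => by rw [hcomm g n, mul_inv_cancel_right]; exact hn⟩
  have key : ∀ (n : ℕ) (W : Subgroup V), U ⊓ W = ⊥ → Nat.card V - Nat.card W ≤ n →
      ∃ W' : Subgroup V, U ⊓ W' = ⊥ ∧ U ⊔ W' = ⊤ := by
    intro n
    induction n with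
    | zero =>
      intro W hW hn
      have : W = ⊤ := Subgroup.eq_top_of_le_card _ (by omega)
      exact ⟨W, hW, by rw [this]; simp⟩
    | succ n ih =>
      intro W hW hn
      by_cases htop : U ⊔ W = ⊤
      · exact ⟨W, hW, htop⟩
      · obtain ⟨v, hv⟩ : ∃ v : V, v ∉ U ⊔ W := by
          by_contra h
          push Not at h
          exact htop (eq_top_iff.mpr fun x _ => h x)
        have hWn : W.Normal := hnormal W
        have hUW1 : U ⊓ (W ⊔ Subgroup.zpowers v) = ⊥ := by
          rw [eq_bot_iff]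
          rintro x ⟨hxU, hxW⟩
          have hxW' : x ∈ W ⊔ Subgroup.zpowers v := hxW
          rw [← SetLike.mem_coe, Subgroup.normal_mul] at hxW'
          obtain ⟨w, hw, y, hy, rfl⟩ := Set.mem_mul.mp hxW'
          obtain ⟨i, rfl⟩ := Subgroup.mem_zpowers_iff.mp hy
          by_cases hy1 : v ^ i = 1
          · rw [hy1, mul_one] at hxU ⊢
            have : w ∈ U ⊓ W := ⟨hxU, hw⟩
            rw [hW] at this; exact this
          · exfalso
            apply hv
            have hndvd : ¬ (p : ℤ) ∣ i := by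
              rintro ⟨m, rfl⟩
              apply hy1
              rw [zpow_mul, zpow_natCast, hexp, one_zpow]
            have hcop : IsCoprime (p : ℤ) i :=
              (Nat.prime_iff_prime_int.mp hp).coprime_iff_not_dvd.mpr hndvd
            obtain ⟨a, b, hab⟩ := hcop
            have h3 : v = (v ^ i) ^ b := by
              have h4 : v ^ (a * (p : ℤ) + b * i) = v := by rw [hab, zpow_one]
              rw [zpow_add, zpow_mul' v a, zpow_natCast, hexp, one_zpow, one_mul, mul_comm,
                zpow_mul] at h4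
              exact h4.symm
            have h5 : v ^ i ∈ U ⊔ W := by
              have : v ^ i = w⁻¹ * (w * v ^ i) := by group
              rw [this, hcomm]
              exact Subgroup.mul_mem_sup hxU (W.inv_mem hw)
            rw [h3]
            exact Subgroup.zpow_mem _ h5 _
        have hlt : W < W ⊔ Subgroup.zpowers v := by
          refine lt_of_le_of_ne le_sup_left ?_
          intro h
          apply hv
          have : Subgroup.zpowers v ≤ W := by rw [h]; exact le_sup_right
          exact Subgroup.mem_sup_right (this (Subgroup.mem_zpowers _))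
        have hcard : Nat.card W < Nat.card ↥(W ⊔ Subgroup.zpowers v) := by
          rcases Nat.lt_or_ge (Nat.card W) (Nat.card ↥(W ⊔ Subgroup.zpowers v)) with h2 | h2
          · exact h2
          · exact absurd (Subgroup.eq_of_le_of_card_ge hlt.le h2) hlt.ne
        have hle : Nat.card ↥(W ⊔ Subgroup.zpowers v) ≤ Nat.card V := Subgroup.card_le_card_group _
        exact ih _ hUW1 (by omega)
  exact key (Nat.card V) ⊥ (by simp) (by omega)

/-- Maschke's theorem for an elementary abelian subgroup of a finite group (from S0660). -/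
theorem maschke_in {Γ : Type*} [Group Γ] [Finite Γ] (V A' U : Subgroup Γ)
    (hVc : ∀ x ∈ V, ∀ y ∈ V, x * y = y * x) (p : ℕ) (hp : p.Prime) (hexp : ∀ x ∈ V, x ^ p = 1)
    (hAV : A' ≤ Subgroup.normalizer (V : Set Γ)) (hcop : (Nat.card A').Coprime (Nat.card V))
    (hUV : U ≤ V) (hAU : A' ≤ Subgroup.normalizer (U : Set Γ)) :
    ∃ W' : Subgroup Γ, W' ≤ V ∧ A' ≤ Subgroup.normalizer (W' : Set Γ) ∧ U ⊓ W' = ⊥ ∧
      U ⊔ W' = V := by
  have hVab : IsMulCommutative V := ⟨⟨fun a b => Subtype.ext (hVc a.1 a.2 b.1 b.2)⟩⟩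
  obtain ⟨W₀, h1, h2⟩ := exists_compl_elem (V := ↥V)
    (fun a b => Subtype.ext (hVc a.1 a.2 b.1 b.2)) p hp
    (fun v => Subtype.ext (by simpa using hexp v.1 v.2)) (U.subgroupOf V)
  refine Cfsg.Agent.S0660.result V A' U hVab hAV hcop hUV hAU (W₀.map V.subtype) ?_ ?_ ?_
  · exact Subgroup.map_subtype_le W₀
  · rw [eq_bot_iff]
    rintro x ⟨hxU, y, hy, rfl⟩
    have : y ∈ U.subgroupOf V ⊓ W₀ := ⟨Subgroup.mem_subgroupOf.mpr hxU, hy⟩
    rw [h1] at this
    rw [Subgroup.mem_bot] at this ⊢
    rw [this]; rfl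
  · apply le_antisymm
    · exact sup_le hUV (Subgroup.map_subtype_le W₀)
    · intro x hx
      have hmem : (⟨x, hx⟩ : ↥V) ∈ U.subgroupOf V ⊔ W₀ := by rw [h2]; exact Subgroup.mem_top _
      have h3 : x ∈ (U.subgroupOf V ⊔ W₀).map V.subtype := ⟨⟨x, hx⟩, hmem, rfl⟩
      rw [Subgroup.map_sup] at h3
      have h4 : (U.subgroupOf V).map V.subtype ≤ U := by
        rintro _ ⟨y, hy, rfl⟩; exact hy
      exact (sup_le_sup_right h4 _) h3

/-- Let the finite group A act by automorphisms on the finite group G with the orders of A and G coprime, and assume that A or G is solvable. Call a proper A-invariant subgroup of G maximal A-invariant when no A-invariant subgroup lies strictly between it and G. Then all maximal A-invariant subgroups of G are conjugate under elements of the fixed-point subgroup C_G(A) if and only if G is a p-group for some prime p and A leaves invariant no subgroup strictly between the Frattini subgroup of G and G. In that case, if G is nontrivial, the Frattini subgroup is the only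 maximal A-invariant subgroup (a trivial G has none). -/
theorem result {A G : Type*} [Group A] [Finite A]
    [Group G] [Finite G] [MulDistribMulAction A G] (hcop : (Nat.card A).Coprime (Nat.card G)) (hsol : Group.IsSolvable A ∨ Group.IsSolvable G) :
    ((∀ M N : Subgroup G, (M ≠ ⊤ ∧ (∀ a : A, ∀ x ∈ M, a • x ∈ M) ∧ ∀ L : Subgroup G, M < L → (∀ a : A, ∀ x ∈ L, a • x ∈ L) → L = ⊤) → (N ≠ ⊤ ∧ (∀ a : A, ∀ x ∈ N, a • x ∈ N) ∧ ∀ L : Subgroup G, N < L → (∀ a : A, ∀ x ∈ L, a • x ∈ L) → L = ⊤) →
        ∃ c : G, (∀ a : A, a • c = c) ∧ N = MulAut.conj c • M) ↔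
      ((∃ p : ℕ, p.Prime ∧ IsPGroup p G) ∧ ∀ L : Subgroup G, frattini G < L → (∀ a : A, ∀ x ∈ L, a • x ∈ L) → L = ⊤)) ∧
    (((∃ p : ℕ, p.Prime ∧ IsPGroup p G) ∧ ∀ L : Subgroup G, frattini G < L → (∀ a : A, ∀ x ∈ L, a • x ∈ L) → L = ⊤) →
      ∀ M : Subgroup G, (M ≠ ⊤ ∧ (∀ a : A, ∀ x ∈ M, a • x ∈ M) ∧ ∀ L : Subgroup G, M < L → (∀ a : A, ∀ x ∈ L, a • x ∈ L) → L = ⊤) ↔ (M = frattini G ∧ M ≠ ⊤)) := by
  have star : (∀ L : Subgroup G, frattini G < L → AInv A L → L = ⊤) →
      ∀ M : Subgroup G, (M ≠ ⊤ ∧ AInv A M ∧ ∀ L : Subgroup G, M < L → AInv A L → L = ⊤) ↔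
        (M = frattini G ∧ M ≠ ⊤) := by
    intro hirr M
    constructor
    · rintro ⟨hM, hinv, hmax⟩
      have hsup : M ⊔ frattini G = M := by
        by_contra hne
        have hlt : M < M ⊔ frattini G := lt_of_le_of_ne le_sup_left (Ne.symm hne)
        have := hmax _ hlt (ainv_sup hinv ainv_frattini)
        exact hM (frattini_nongenerating this)
      have hle : frattini G ≤ M := by rw [← hsup]; exact le_sup_right
      refine ⟨?_, hM⟩
      by_contra hne
      exact hM (hirr M (lt_of_le_of_ne hle (Ne.symm hne)) hinv)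
    · rintro ⟨rfl, hM⟩
      exact ⟨hM, ainv_frattini, fun L hlt hinv => hirr L hlt hinv⟩
  refine ⟨⟨?_, ?_⟩, fun h => star h.2⟩
  · intro hconj
    have hpg : ∃ p : ℕ, p.Prime ∧ IsPGroup p G := by
      by_contra hno
      push Not at hno
      have hbot : (⊥ : Subgroup G) ≠ ⊤ := by
        intro h
        apply hno 2 Nat.prime_two
        intro g
        refine ⟨0, ?_⟩
        have : g ∈ (⊥ : Subgroup G) := by rw [h]; exact Subgroup.mem_top g
        rw [Subgroup.mem_bot] at this
        rw [this]; simp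
      have hbinv : AInv A (⊥ : Subgroup G) := by
        intro a x hx
        rw [Subgroup.mem_bot] at hx ⊢
        rw [hx, smul_one]
      obtain ⟨M₀, hM₀, _⟩ := exists_max_ainv (A := A) (Nat.card G) ⊥ hbinv hbot (by omega)
      apply hM₀.1
      apply Subgroup.eq_top_of_le_card
      apply Nat.le_of_dvd Nat.card_pos
      rw [Nat.dvd_iff_prime_pow_dvd_dvd]
      intro r k hr hrk
      haveI : Fact r.Prime := ⟨hr⟩
      obtain ⟨R, hRinv, hRp, hRdvd⟩ := exists_invariant_sylow (A := A) (G := G) hcop hsol r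
      have hRtop : R ≠ ⊤ := by
        intro h
        apply hno r hr
        intro g
        obtain ⟨j, hj⟩ := hRp ⟨g, by rw [h]; exact Subgroup.mem_top g⟩
        exact ⟨j, by simpa using congrArg Subtype.val hj⟩
      obtain ⟨M, hM, hRM⟩ := exists_max_ainv (A := A) (Nat.card G) R hRinv hRtop (by omega)
      obtain ⟨c, _, hc⟩ := hconj M₀ M hM₀ hM
      have hcard : Nat.card M = Nat.card M₀ := by
        rw [hc]; exact (Nat.card_congr (Subgroup.equivSMul (MulAut.conj c) M₀).toEquiv).symm
      exact (hRdvd k hrk).trans ((Subgroup.card_dvd_of_le hRM).trans (by rw [hcard]))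
    refine ⟨hpg, ?_⟩
    obtain ⟨p, hp, hG⟩ := hpg
    haveI : Fact p.Prime := ⟨hp⟩
    intro L hLlt hLinv
    by_contra hLtop
    obtain ⟨M₁, hM₁, hLM⟩ := exists_max_ainv (A := A) (Nat.card G) L hLinv hLtop (by omega)
    have hΦM : frattini G ≤ M₁ := hLlt.le.trans hLM
    have huniq : ∀ W : Subgroup G, AInv A W → W ≠ ⊤ → W ≤ M₁ := by
      intro W hW hWtop
      obtain ⟨N, hN, hWN⟩ := exists_max_ainv (A := A) (Nat.card G) W hW hWtop (by omega)
      obtain ⟨c, _, hc⟩ := hconj M₁ N hM₁ hN
      have hNM : N = M₁ := by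
        rw [hc]
        ext x
        rw [Subgroup.mem_pointwise_smul_iff_inv_smul_mem, MulAut.smul_def, MulAut.conj_inv_apply]
        constructor
        · intro h
          have hcm := comm_mem_frattini p hG c (c⁻¹ * x * c)
          have : x = (c * (c⁻¹ * x * c) * c⁻¹ * (c⁻¹ * x * c)⁻¹) * (c⁻¹ * x * c) := by group
          rw [this]
          exact M₁.mul_mem (hΦM hcm) h
        · intro h
          have hcm := comm_mem_frattini p hG c⁻¹ x
          have : c⁻¹ * x * c = (c⁻¹ * x * c⁻¹⁻¹ * x⁻¹) * x := by group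
          rw [this]
          exact M₁.mul_mem (hΦM hcm) h
      rw [← hNM]; exact hWN
    classical
    let φ : A →* MulAut G := MulDistribMulAction.toMulAut A G
    have hfin : Finite (G ⋊[φ] A) := Finite.of_equiv _ SemidirectProduct.equivProd.symm
    let Φ' : Subgroup (G ⋊[φ] A) := (frattini G).map (SemidirectProduct.inl : G →* G ⋊[φ] A)
    have hΦn : Φ'.Normal := by
      constructor
      rintro _ ⟨f, hf, rfl⟩ γ
      have e : γ * SemidirectProduct.inl f * γ⁻¹ =
          (SemidirectProduct.inl (γ.left * (γ.right • f) * γ.left⁻¹) : G ⋊[φ] A) := by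
        conv_lhs => rw [← SemidirectProduct.inl_left_mul_inr_right γ]
        have h1 : (SemidirectProduct.inl (γ.right • f) : G ⋊[φ] A) =
            SemidirectProduct.inr γ.right * SemidirectProduct.inl f *
              (SemidirectProduct.inr γ.right)⁻¹ := by
          rw [← map_inv]; exact SemidirectProduct.inl_aut (φ := φ) γ.right f
        rw [map_mul, map_mul, h1, map_inv]
        group
      rw [e]
      exact Subgroup.mem_map_of_mem _
        ((inferInstance : (frattini G).Normal).conj_mem _ (ainv_frattini γ.right f hf) _)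
    let θ : G →* (G ⋊[φ] A) ⧸ Φ' := (QuotientGroup.mk' Φ').comp SemidirectProduct.inl
    let α : A →* (G ⋊[φ] A) ⧸ Φ' := (QuotientGroup.mk' Φ').comp SemidirectProduct.inr
    have hθα : ∀ a g, α a * θ g * (α a)⁻¹ = θ (a • g) := by
      intro a g
      show (QuotientGroup.mk' Φ') (SemidirectProduct.inr a) *
        (QuotientGroup.mk' Φ') (SemidirectProduct.inl g) *
        ((QuotientGroup.mk' Φ') (SemidirectProduct.inr a))⁻¹ =
        (QuotientGroup.mk' Φ') (SemidirectProduct.inl (a • g))
      rw [← map_inv, ← map_mul, ← map_mul]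
      congr 1
      rw [← map_inv]
      exact (SemidirectProduct.inl_aut (φ := φ) a g).symm
    have hker : ∀ g, θ g = 1 ↔ g ∈ frattini G := by
      intro g
      show (QuotientGroup.mk' Φ') (SemidirectProduct.inl g) = 1 ↔ _
      rw [QuotientGroup.mk'_apply, QuotientGroup.eq_one_iff]
      constructor
      · rintro ⟨f, hf, hfg⟩
        rw [← SemidirectProduct.inl_injective hfg]; exact hf
      · intro h; exact Subgroup.mem_map_of_mem _ h
    have hnorm : ∀ L : Subgroup G, AInv A L →
        α.range ≤ Subgroup.normalizer ((L.map θ : Subgroup ((G ⋊[φ] A) ⧸ Φ')) : Set _) := by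
      intro L hL
      rintro _ ⟨a, rfl⟩
      rw [Subgroup.mem_set_normalizer_iff]
      intro x
      constructor
      · rintro ⟨g, hg, rfl⟩
        exact ⟨a • g, hL a g hg, (hθα a g).symm⟩
      · rintro ⟨g, hg, hgx⟩
        refine ⟨a⁻¹ • g, hL a⁻¹ g hg, ?_⟩
        rw [← hθα, hgx, map_inv]; group
    have hVc : ∀ x ∈ θ.range, ∀ y ∈ θ.range, x * y = y * x := by
      rintro _ ⟨g, rfl⟩ _ ⟨h, rfl⟩
      have h1 : θ (g * h * g⁻¹ * h⁻¹) = 1 := (hker _).mpr (comm_mem_frattini p hG g h)
      rw [map_mul, map_mul, map_mul, map_inv, map_inv] at h1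
      have h2 := mul_inv_eq_one.mp h1
      exact mul_inv_eq_iff_eq_mul.mp h2
    have hexp : ∀ x ∈ θ.range, x ^ p = 1 := by
      rintro _ ⟨g, rfl⟩
      rw [← map_pow]; exact (hker _).mpr (pow_mem_frattini p hG g)
    have hAV : α.range ≤ Subgroup.normalizer ((θ.range : Subgroup ((G ⋊[φ] A) ⧸ Φ')) : Set _) := by
      have := hnorm ⊤ (fun a x _ => Subgroup.mem_top _)
      rwa [← MonoidHom.range_eq_map] at this
    have hcop' : (Nat.card α.range).Coprime (Nat.card θ.range) :=
      Nat.Coprime.coprime_dvd_left (Subgroup.card_range_dvd α)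
        (Nat.Coprime.coprime_dvd_right (Subgroup.card_range_dvd θ) hcop)
    obtain ⟨W', hW'V, hW'A, hUW, hUW'⟩ := maschke_in θ.range α.range (M₁.map θ) hVc p hp hexp hAV
      hcop' (Subgroup.map_le_range θ M₁) (hnorm M₁ hM₁.2.1)
    have hWinv : AInv A (W'.comap θ) := by
      intro a x hx
      show θ (a • x) ∈ W'
      rw [← hθα]
      exact (Subgroup.mem_set_normalizer_iff.mp (hW'A ⟨a, rfl⟩) _).mp hx
    by_cases hWtop : W'.comap θ = ⊤
    · have hM₁Φ : M₁ ≤ frattini G := by
        intro m hm
        rw [← hker]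
        have h1 : θ m ∈ M₁.map θ ⊓ W' := ⟨Subgroup.mem_map_of_mem _ hm, by
          have : m ∈ W'.comap θ := by rw [hWtop]; exact Subgroup.mem_top m
          exact this⟩
        rw [hUW] at h1
        exact Subgroup.mem_bot.mp h1
      exact absurd (hLM.trans hM₁Φ) (not_le_of_gt hLlt)
    · have hWM : W'.comap θ ≤ M₁ := huniq _ hWinv hWtop
      have hW'U : W' ≤ M₁.map θ := by
        intro x hx
        obtain ⟨g, rfl⟩ := hW'V hx
        exact Subgroup.mem_map_of_mem _ (hWM hx)
      have hW'bot : W' = ⊥ := by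
        rw [eq_bot_iff, ← hUW]; exact le_inf hW'U le_rfl
      rw [hW'bot, sup_bot_eq] at hUW'
      apply hM₁.1
      rw [eq_top_iff]
      intro g _
      have h1 : θ g ∈ M₁.map θ := by rw [hUW']; exact ⟨g, rfl⟩
      obtain ⟨m, hm, hmg⟩ := h1
      have h2 : m⁻¹ * g ∈ frattini G := by
        rw [← hker, map_mul, map_inv, hmg, inv_mul_cancel]
      have : g = m * (m⁻¹ * g) := by group
      rw [this]
      exact M₁.mul_mem hm (hΦM h2)
  · rintro ⟨_, hirr⟩ M N hM hN
    have h1 := (star hirr M).mp hM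
    have h2 := (star hirr N).mp hN
    refine ⟨1, fun a => smul_one a, ?_⟩
    rw [h1.1, h2.1, map_one, one_smul]

end Cfsg.Agent.S4381
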