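import Cfsg.Statements.S3376
import Mathlib
import Cfsg.Agent.S4381
import Cfsg.Agent.Lib.Helper66.PAct

namespace Cfsg.Agent.S3376

open scoped Pointwise

/-- the permutation of the statement -/
def sig : Equiv.Perm (Fin 9) :=
  Equiv.swap (0 : Fin 9) 1 * Equiv.swap 1 2 * Equiv.swap 3 4 * Equiv.swap 4 5 * Equiv.swap 6 7 * Equiv.swap 7 8

theorem sig_pow3 : sig ^ 3 = 1 := by decide +kernel
theorem sig_fix : ∀ i : Fin 9, sig i ≠ i := by decide +kernel

theorem ct (ρ : Equiv.Perm (Fin 9)) (h3 : ρ ^ 3 = 1) (hfix : ∀ i, ρ i ≠ i) :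
    ρ.cycleType = Multiset.replicate 3 3 := by
  have h1 : ρ ≠ 1 := by
    intro h
    exact hfix 0 (by rw [h]; rfl)
  haveI : Fact (Nat.Prime 3) := ⟨Nat.prime_three⟩
  have hord : orderOf ρ = 3 := orderOf_eq_prime h3 h1
  obtain ⟨n, hn⟩ := Equiv.Perm.cycleType_prime_order (σ := ρ) (by rw [hord]; exact Nat.prime_three)
  have hsum := Equiv.Perm.sum_cycleType ρ
  have hsupp : ρ.support = Finset.univ := by
    ext i
    simp [Equiv.Perm.mem_support, hfix i]
  rw [hn, hsupp, hord, Multiset.sum_replicate] at hsum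
  simp at hsum
  have hn2 : n = 2 := by omega
  rw [hn, hn2, hord]

theorem conj_sig (ρ : Equiv.Perm (Fin 9)) (h3 : ρ ^ 3 = 1) (hfix : ∀ i, ρ i ≠ i) :
    ∃ c : Equiv.Perm (Fin 9), c * ρ * c⁻¹ = sig := by
  have h : IsConj ρ sig := by
    rw [Equiv.Perm.isConj_iff_cycleType_eq, ct ρ h3 hfix, ct sig sig_pow3 sig_fix]
  exact isConj_iff.1 h

/-- triples in pairwise distinct blocks -/
def DD : Finset (Fin 9 × Fin 9 × Fin 9) :=
  Finset.univ.filter fun p => (p.1 : ℕ) / 3 ≠ (p.2.1 : ℕ) / 3 ∧ (p.1 : ℕ) / 3 ≠ (p.2.2 : ℕ) / 3 ∧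
    (p.2.1 : ℕ) / 3 ≠ (p.2.2 : ℕ) / 3

theorem DD_card : DD.card = 162 := by decide +kernel

theorem blk : ∀ x y : Fin 9, (x : ℕ) / 3 = (y : ℕ) / 3 → y = x ∨ y = sig x ∨ y = sig (sig x) := by
  decide +kernel

theorem sig_vals : sig 0 = 1 ∧ sig 1 = 2 ∧ sig 3 = 4 ∧ sig 4 = 5 ∧ sig 6 = 7 ∧ sig 7 = 8 := by
  decide +kernel

theorem cent_card : Nat.card (Subgroup.centralizer ({sig} : Set (Equiv.Perm (Fin 9)))) ≤ 162 := by
  have hc : ∀ g ∈ Subgroup.centralizer ({sig} : Set (Equiv.Perm (Fin 9))), ∀ x, g (sig x) = sig (g x) := by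
    intro g hg x
    have h1 := Subgroup.mem_centralizer_iff.1 hg sig rfl
    have h2 := congrArg (fun f : Equiv.Perm (Fin 9) => f x) h1
    simpa [Equiv.Perm.mul_apply] using h2.symm
  obtain ⟨s0, s1, s3, s4, s6, s7⟩ := sig_vals
  have hvals : ∀ g ∈ Subgroup.centralizer ({sig} : Set (Equiv.Perm (Fin 9))),
      g 1 = sig (g 0) ∧ g 2 = sig (sig (g 0)) ∧ g 4 = sig (g 3) ∧ g 5 = sig (sig (g 3)) ∧
        g 7 = sig (g 6) ∧ g 8 = sig (sig (g 6)) := by
    intro g hg
    have h := hc g hg
    refine ⟨?_, ?_, ?_, ?_, ?_, ?_⟩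
    · rw [← h, s0]
    · rw [← h, ← h, s0, s1]
    · rw [← h, s3]
    · rw [← h, ← h, s3, s4]
    · rw [← h, s6]
    · rw [← h, ← h, s6, s7]
  have hmem : ∀ g : Subgroup.centralizer ({sig} : Set (Equiv.Perm (Fin 9))),
      ((g : Equiv.Perm (Fin 9)) 0, (g : Equiv.Perm (Fin 9)) 3, (g : Equiv.Perm (Fin 9)) 6) ∈ DD := by
    rintro ⟨g, hg⟩
    obtain ⟨h1, h2, h4, h5, h7, h8⟩ := hvals g hg
    simp only [DD, Finset.mem_filter, Finset.mem_univ, true_and]
    refine ⟨?_, ?_, ?_⟩
    · intro h
      rcases blk _ _ h with e | e | e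
      · exact absurd (g.injective e) (by decide)
      · rw [← h1] at e; exact absurd (g.injective e) (by decide)
      · rw [← h2] at e; exact absurd (g.injective e) (by decide)
    · intro h
      rcases blk _ _ h with e | e | e
      · exact absurd (g.injective e) (by decide)
      · rw [← h1] at e; exact absurd (g.injective e) (by decide)
      · rw [← h2] at e; exact absurd (g.injective e) (by decide)
    · intro h
      rcases blk _ _ h with e | e | e
      · exact absurd (g.injective e) (by decide)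
      · rw [← h4] at e; exact absurd (g.injective e) (by decide)
      · rw [← h5] at e; exact absurd (g.injective e) (by decide)
  let f : Subgroup.centralizer ({sig} : Set (Equiv.Perm (Fin 9))) → {p // p ∈ DD} :=
    fun g => ⟨_, hmem g⟩
  have hf : Function.Injective f := by
    rintro ⟨g, hg⟩ ⟨g', hg'⟩ h
    have h' := congrArg Subtype.val h
    simp only [f, Prod.mk.injEq] at h'
    obtain ⟨e0, e3, e6⟩ := h'
    obtain ⟨h1, h2, h4, h5, h7, h8⟩ := hvals g hg
    obtain ⟨h1', h2', h4', h5', h7', h8'⟩ := hvals g' hg'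
    apply Subtype.ext
    apply Equiv.ext
    intro x
    fin_cases x
    · exact e0
    · show g 1 = g' 1; rw [h1, h1', e0]
    · show g 2 = g' 2; rw [h2, h2', e0]
    · exact e3
    · show g 4 = g' 4; rw [h4, h4', e3]
    · show g 5 = g' 5; rw [h5, h5', e3]
    · exact e6
    · show g 7 = g' 7; rw [h7, h7', e6]
    · show g 8 = g' 8; rw [h8, h8', e6]
  have := Nat.card_le_card_of_injective f hf
  rwa [Nat.card_eq_fintype_card (α := {p // p ∈ DD}), Fintype.card_coe, DD_card] at this


theorem sylow_card {G : Type*} [Group G] [Finite G] {p : ℕ} [Fact p.Prime] (P : Sylow p G) (k m : ℕ)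
    (hG : Nat.card G = p ^ k * m) (hm : ¬ p ∣ m) : Nat.card P = p ^ k := by
  have hp : p.Prime := Fact.out
  have hm0 : m ≠ 0 := fun h => hm (h ▸ dvd_zero p)
  rw [Sylow.card_eq_multiplicity, hG, Nat.factorization_mul (pow_ne_zero _ hp.ne_zero) hm0,
    Nat.factorization_pow]
  simp [hp.factorization_self, Nat.factorization_eq_zero_of_not_dvd hm]

theorem result {G : Type*} [Group G] [Finite G] (hG : Nat.card G = 162)
    (S : Sylow 3 G) (T : Sylow 2 G) (J : Subgroup G) [hJn : J.Normal] (hJcomm : IsMulCommutative J)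
    (hJexp : ∀ a ∈ J, a ^ 3 = 1) (hJcard : Nat.card J = 27)
    (Z : Subgroup G) (hZ : Z = (S : Subgroup G) ⊓ Subgroup.centralizer ((S : Subgroup G) : Set G)) (hZcard : Nat.card Z = 3)
    (hZT : Z ≤ Subgroup.centralizer ((T : Subgroup G) : Set G))
    (hST : (S : Subgroup G) ⊓ Subgroup.centralizer ((T : Subgroup G) : Set G) ≠ S) :
    Nonempty (G ≃* Subgroup.centralizer ({Equiv.swap (0 : Fin 9) 1 * Equiv.swap 1 2 * Equiv.swap 3 4 * Equiv.swap 4 5 * Equiv.swap 6 7 * Equiv.swap 7 8} : Set (Equiv.Perm (Fin 9)))) := by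
  classical
  haveI : Fact (Nat.Prime 3) := ⟨Nat.prime_three⟩
  haveI : Fact (Nat.Prime 2) := ⟨Nat.prime_two⟩
  have hS : Nat.card (S : Subgroup G) = 81 := by
    have := sylow_card S 4 2 (by rw [hG]; norm_num) (by norm_num)
    simpa using this
  have hTc : Nat.card (T : Subgroup G) = 2 := by
    have := sylow_card T 1 81 (by rw [hG]; norm_num) (by norm_num)
    simpa using this
  have hSidx : (S : Subgroup G).index = 2 := by
    have := (S : Subgroup G).card_mul_index
    rw [hS, hG] at this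
    omega
  haveI hSn : (S : Subgroup G).Normal := Subgroup.normal_of_index_eq_two hSidx
  -- the involution t
  obtain ⟨t, htT, ht1⟩ : ∃ t ∈ (T : Subgroup G), t ≠ 1 := by
    have hne : (T : Subgroup G) ≠ ⊥ := by
      intro h
      rw [h, Subgroup.card_bot] at hTc
      omega
    obtain ⟨⟨t, ht⟩, h1⟩ := (Subgroup.ne_bot_iff_exists_ne_one).1 hne
    exact ⟨t, ht, fun h => h1 (Subtype.ext h)⟩
  have ht2 : t * t = 1 := by
    have h1 : (⟨t, htT⟩ : (T : Subgroup G)) ^ Nat.card (T : Subgroup G) = 1 := pow_card_eq_one'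
    rw [hTc] at h1
    have := congrArg Subtype.val h1
    simpa [pow_two] using this
  have htinv : t⁻¹ = t := inv_eq_of_mul_eq_one_left ht2
  have hTel : ∀ g ∈ (T : Subgroup G), g = 1 ∨ g = t := by
    intro g hg
    by_contra hcon
    push Not at hcon
    obtain ⟨y, -, hy⟩ := (Nat.card_eq_two_iff' (1 : (T : Subgroup G))).1 hTc
    have e1 := hy ⟨t, htT⟩ (fun h => ht1 (congrArg Subtype.val h))
    have e2 := hy ⟨g, hg⟩ (fun h => hcon.1 (congrArg Subtype.val h))
    exact hcon.2 (congrArg Subtype.val (e2.trans e1.symm))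
  have htS : t ∉ (S : Subgroup G) := by
    intro h
    have h2 : orderOf t = 2 := orderOf_eq_prime (by rw [pow_two]; exact ht2) ht1
    have := Subgroup.orderOf_dvd_natCard _ h
    rw [h2, hS] at this
    norm_num at this
  have hJS : J ≤ S := by
    have hJp : IsPGroup 3 J := IsPGroup.of_card (n := 3) (by rw [hJcard]; norm_num)
    obtain ⟨Q, hQ⟩ := hJp.exists_le_sylow
    obtain ⟨g, hg⟩ := MulAction.exists_smul_eq G S Q
    rw [Sylow.smul_eq_of_normal] at hg
    rw [← hg] at hQ
    exact hQ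
  have hZS : Z ≤ S := by rw [hZ]; exact inf_le_left
  have hZcS : ∀ n ∈ Z, ∀ s ∈ (S : Subgroup G), s * n = n * s := by
    intro n hn s hs
    rw [hZ] at hn
    exact Subgroup.mem_centralizer_iff.1 hn.2 s hs
  have hZcent : ∀ n ∈ Z, ∀ g : G, g * n = n * g := by
    intro n hn
    have hSC : (S : Subgroup G) ≤ Subgroup.centralizer {n} := by
      intro s hs
      rw [Subgroup.mem_centralizer_iff]
      intro h hh
      rw [Set.mem_singleton_iff] at hh
      subst hh
      exact (hZcS h hn s hs).symm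
    have hTC : (T : Subgroup G) ≤ Subgroup.centralizer {n} := by
      intro τ hτ
      rw [Subgroup.mem_centralizer_iff]
      intro h hh
      rw [Set.mem_singleton_iff] at hh
      subst hh
      exact (Subgroup.mem_centralizer_iff.1 (hZT hn) τ hτ).symm
    have htop : Subgroup.centralizer ({n} : Set G) = ⊤ := by
      apply (Subgroup.card_eq_iff_eq_top _).1
      have d1 := Subgroup.card_dvd_of_le hSC
      have d2 := Subgroup.card_dvd_of_le hTC
      rw [hS] at d1
      rw [hTc] at d2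
      have d3 : 81 * 2 ∣ Nat.card (Subgroup.centralizer ({n} : Set G)) :=
        Nat.Coprime.mul_dvd_of_dvd_of_dvd (by norm_num) d1 d2
      have d4 := Subgroup.card_subgroup_dvd_card (Subgroup.centralizer ({n} : Set G))
      rw [hG] at d4 ⊢
      exact Nat.dvd_antisymm d4 d3
    intro g
    have : g ∈ Subgroup.centralizer ({n} : Set G) := by rw [htop]; trivial
    exact (Subgroup.mem_centralizer_iff.1 this n rfl).symm
  haveI hZn : Z.Normal :=
    ⟨fun n hn g => by rw [hZcent n hn g, mul_inv_cancel_right]; exact hn⟩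
  -- elements of S central in S lie in Z
  have hcenZ : ∀ n : (S : Subgroup G), n ∈ Subgroup.center (S : Subgroup G) → (n : G) ∈ Z := by
    intro n hnC
    rw [hZ]
    refine Subgroup.mem_inf.2 ⟨n.2, ?_⟩
    rw [Subgroup.mem_centralizer_iff]
    intro s hs
    have := Subgroup.mem_center_iff.1 hnC ⟨s, hs⟩
    exact congrArg Subtype.val this
  have hZJ : Z ≤ J := by
    have hNne : J.subgroupOf S ≠ ⊥ := by
      intro h
      rw [Subgroup.subgroupOf_eq_bot] at h
      have h2 := h.eq_bot
      rw [inf_eq_left.2 hJS] at h2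
      rw [h2, Subgroup.card_bot] at hJcard
      omega
    have h1 := Cfsg.Agent.Lib.Helper66.normal_inf_center_ne_bot S.isPGroup'
      (N := J.subgroupOf S) hNne
    obtain ⟨⟨n, hnJ, hnC⟩, hn1⟩ := (Subgroup.ne_bot_iff_exists_ne_one).1 h1
    have hnJ' : (n : G) ∈ J := Subgroup.mem_subgroupOf.1 hnJ
    have hnZ : (n : G) ∈ Z := hcenZ n hnC
    have hn1' : (n : G) ≠ 1 := fun h => hn1 (Subtype.ext (Subtype.ext h))
    have hle : Subgroup.zpowers (n : G) ≤ Z := Subgroup.zpowers_le_of_mem hnZ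
    have hcard : Nat.card (Subgroup.zpowers (n : G)) = 3 := by
      rw [Nat.card_zpowers]
      have hd : orderOf (n : G) ∣ 3 := by
        have := Subgroup.orderOf_dvd_natCard _ hnZ
        rwa [hZcard] at this
      rcases (Nat.dvd_prime Nat.prime_three).1 hd with h | h
      · exact absurd (orderOf_eq_one_iff.1 h) hn1'
      · exact h
    have : Subgroup.zpowers (n : G) = Z :=
      Subgroup.eq_of_le_of_card_ge hle (by rw [hcard, hZcard])
    rw [← this]
    exact Subgroup.zpowers_le_of_mem hnJ'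
  -- a T-invariant complement of Z in J
  obtain ⟨H₀, hH₀J, hTH₀, hZH₀, hsup⟩ := Cfsg.Agent.S4381.maschke_in J (T : Subgroup G) Z
    (fun x hx y hy => congrArg Subtype.val (hJcomm.is_comm.comm (⟨x, hx⟩ : J) ⟨y, hy⟩))
    3 Nat.prime_three hJexp
    (by rw [Subgroup.normalizer_eq_top]; exact le_top)
    (by rw [hTc, hJcard]; norm_num)
    hZJ
    (by rw [Subgroup.normalizer_eq_top]; exact le_top)
  have hH₀card : Nat.card H₀ = 9 := by
    have h1 : Z.relIndex (H₀ ⊔ Z) = Z.relIndex H₀ := Subgroup.relIndex_sup_right _ _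
    rw [sup_comm, hsup] at h1
    have h2 : (⊥ : Subgroup G).relIndex Z * Z.relIndex J = (⊥ : Subgroup G).relIndex J :=
      Subgroup.relIndex_mul_relIndex _ _ _ bot_le hZJ
    rw [Subgroup.relIndex_bot_left, Subgroup.relIndex_bot_left, hZcard, hJcard] at h2
    have h3 : Z.relIndex H₀ = Nat.card H₀ := by
      rw [← Subgroup.inf_relIndex_right, hZH₀, Subgroup.relIndex_bot_left]
    omega
  have htn : ∀ h, h ∈ H₀ ↔ t * h * t ∈ H₀ := by
    intro h
    have := (Subgroup.mem_normalizer_iff.1 (hTH₀ htT)) h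
    rwa [htinv] at this
  let H : Subgroup G :=
    { carrier := {g | g ∈ H₀ ∨ t * g ∈ H₀}
      mul_mem' := by
        rintro a b (ha | ha) (hb | hb)
        · exact Or.inl (H₀.mul_mem ha hb)
        · right
          have : t * (a * b) = (t * a * t) * (t * b) := by
            rw [show (t * a * t) * (t * b) = t * a * (t * t) * b by group, ht2]
            group
          rw [this]
          exact H₀.mul_mem ((htn a).1 ha) hb
        · right
          rw [← mul_assoc]
          exact H₀.mul_mem ha hb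
        · left
          have : a * b = (t * (t * a) * t) * (t * b) := by
            rw [show (t * (t * a) * t) * (t * b) = (t * t) * a * (t * t) * b by group, ht2]
            group
          rw [this]
          exact H₀.mul_mem ((htn _).1 ha) hb
      one_mem' := Or.inl H₀.one_mem
      inv_mem' := by
        rintro a (ha | ha)
        · exact Or.inl (H₀.inv_mem ha)
        · right
          have : t * a⁻¹ = t * (t * a)⁻¹ * t := by group
          rw [this]
          exact (htn _).1 (H₀.inv_mem ha) }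
  have hH₀H : H₀ ≤ H := fun g hg => Or.inl hg
  have htH : t ∈ H := Or.inr (by rw [ht2]; exact H₀.one_mem)
  have hHS : (S : Subgroup G) ⊓ H = H₀ := by
    ext g
    constructor
    · rintro ⟨hgS, hg | hg⟩
      · exact hg
      · exfalso
        apply htS
        have : t = (t * g) * g⁻¹ := by group
        rw [this]
        exact Subgroup.mul_mem _ (hJS (hH₀J hg)) (Subgroup.inv_mem _ hgS)
    · intro hg
      exact ⟨hJS (hH₀J hg), Or.inl hg⟩
  have hHtop : H ⊔ (S : Subgroup G) = ⊤ := by
    rw [eq_top_iff]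
    intro g _
    by_cases hg : g ∈ (S : Subgroup G)
    · exact Subgroup.mem_sup_right hg
    · have h1 : t * g ∈ (S : Subgroup G) :=
        (Subgroup.mul_mem_iff_of_index_two hSidx).2 ⟨fun h => absurd h htS, fun h => absurd h hg⟩
      have : g = t * (t * g) := by rw [← mul_assoc, ht2, one_mul]
      rw [this]
      exact Subgroup.mul_mem _ (Subgroup.mem_sup_left htH) (Subgroup.mem_sup_right h1)
  have hHcard : Nat.card H = 18 := by
    have h1 : (S : Subgroup G).relIndex (H ⊔ S) = (S : Subgroup G).relIndex H :=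
      Subgroup.relIndex_sup_right _ _
    rw [hHtop, Subgroup.relIndex_top_right, hSidx] at h1
    have h2 : ((S : Subgroup G) ⊓ H).relIndex H = (S : Subgroup G).relIndex H :=
      Subgroup.inf_relIndex_right _ _
    rw [hHS] at h2
    have h3 := Subgroup.relIndex_mul_relIndex _ _ _ (bot_le : (⊥ : Subgroup G) ≤ H₀) hH₀H
    rw [Subgroup.relIndex_bot_left, Subgroup.relIndex_bot_left, hH₀card] at h3
    omega
  have hHidx : H.index = 9 := by
    have := H.card_mul_index
    rw [hHcard, hG] at this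
    omega
  -- a generator z of Z
  obtain ⟨z, hzZ, hz1⟩ : ∃ z ∈ Z, z ≠ 1 := by
    have hne : Z ≠ ⊥ := by
      intro h
      rw [h, Subgroup.card_bot] at hZcard
      omega
    obtain ⟨⟨z, hz⟩, h1⟩ := (Subgroup.ne_bot_iff_exists_ne_one).1 hne
    exact ⟨z, hz, fun h => h1 (Subtype.ext h)⟩
  have hz3 : z ^ 3 = 1 := by
    have h1 : (⟨z, hzZ⟩ : Z) ^ Nat.card Z = 1 := pow_card_eq_one'
    rw [hZcard] at h1
    exact congrArg Subtype.val h1
  have hzH : z ∉ H := by
    rintro (h | h)
    · have : z ∈ Z ⊓ H₀ := ⟨hzZ, h⟩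
      rw [hZH₀, Subgroup.mem_bot] at this
      exact hz1 this
    · apply htS
      have : t = (t * z) * z⁻¹ := by group
      rw [this]
      exact Subgroup.mul_mem _ (hJS (hH₀J h)) (Subgroup.inv_mem _ (hZS hzZ))
  -- the core of H is trivial
  have hKH : H.normalCore ≤ H := Subgroup.normalCore_le H
  have hKS : ∀ g ∈ H.normalCore, g ∈ (S : Subgroup G) → g = 1 := by
    by_contra hcon
    push Not at hcon
    obtain ⟨g₀, hg₀K, hg₀S, hg₀1⟩ := hcon
    have hNne : (H.normalCore ⊓ S).subgroupOf S ≠ ⊥ := by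
      intro h
      have : (⟨g₀, hg₀S⟩ : (S : Subgroup G)) ∈ (H.normalCore ⊓ S).subgroupOf S :=
        Subgroup.mem_subgroupOf.2 ⟨hg₀K, hg₀S⟩
      rw [h, Subgroup.mem_bot] at this
      exact hg₀1 (congrArg Subtype.val this)
    have h1 := Cfsg.Agent.Lib.Helper66.normal_inf_center_ne_bot S.isPGroup'
      (N := (H.normalCore ⊓ S).subgroupOf S) hNne
    obtain ⟨⟨n, hnN, hnC⟩, hn1⟩ := (Subgroup.ne_bot_iff_exists_ne_one).1 h1
    have hnK : (n : G) ∈ H.normalCore ⊓ S := Subgroup.mem_subgroupOf.1 hnN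
    have hnH₀ : (n : G) ∈ H₀ := by
      rw [← hHS]
      exact ⟨n.2, hKH hnK.1⟩
    have : (n : G) ∈ Z ⊓ H₀ := ⟨hcenZ n hnC, hnH₀⟩
    rw [hZH₀, Subgroup.mem_bot] at this
    exact hn1 (Subtype.ext (Subtype.ext this))
  have hcore : H.normalCore = ⊥ := by
    rw [eq_bot_iff]
    intro k hk
    rw [Subgroup.mem_bot]
    by_contra hk1
    have hkS : k ∉ (S : Subgroup G) := fun h => hk1 (hKS k hk h)
    have hkc : ∀ g : G, g * k * g⁻¹ = k := by
      intro g
      have h1 : g * k * g⁻¹ ∈ H.normalCore := (inferInstance : H.normalCore.Normal).conj_mem k hk g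
      have h2 : g * k * g⁻¹ ∉ (S : Subgroup G) := by
        intro h
        apply hkS
        have := hSn.conj_mem _ h g⁻¹
        simpa [mul_assoc] using this
      have h3 : k⁻¹ * (g * k * g⁻¹) ∈ (S : Subgroup G) :=
        (Subgroup.mul_mem_iff_of_index_two hSidx).2
          ⟨fun h => absurd ((Subgroup.inv_mem_iff _).1 h) hkS, fun h => absurd h h2⟩
      have h4 := hKS _ (Subgroup.mul_mem _ (Subgroup.inv_mem _ hk) h1) h3
      exact (inv_mul_eq_one.1 h4).symm
    have hk2 : k ^ 2 = 1 :=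
      hKS _ (Subgroup.pow_mem _ hk 2) (Subgroup.sq_mem_of_index_two hSidx k)
    have hkT : k ∈ (T : Subgroup G) := by
      have hp : IsPGroup 2 (Subgroup.zpowers k) := by
        apply IsPGroup.of_card (n := 1)
        rw [Nat.card_zpowers, orderOf_eq_prime hk2 hk1, pow_one]
      obtain ⟨Q, hQ⟩ := hp.exists_le_sylow
      obtain ⟨g, hg⟩ := MulAction.exists_smul_eq G Q T
      have hkQ : k ∈ (Q : Subgroup G) := hQ (Subgroup.mem_zpowers k)
      have h1 : MulAut.conj g • k ∈ MulAut.conj g • (Q : Subgroup G) :=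
        Subgroup.smul_mem_pointwise_smul k (MulAut.conj g) Q hkQ
      have h2 : (MulAut.conj g • (Q : Subgroup G)) = ((g • Q : Sylow 2 G) : Subgroup G) := rfl
      rw [h2, hg] at h1
      have h3 : MulAut.conj g • k = g * k * g⁻¹ := rfl
      rw [h3, hkc g] at h1
      exact h1
    rcases hTel k hkT with h | h
    · exact hk1 h
    · apply hST
      apply inf_eq_left.2
      intro s hs
      rw [Subgroup.mem_centralizer_iff]
      intro τ hτ
      rcases hTel τ hτ with rfl | rfl
      · simp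
      · have h5 := hkc s
        rw [h] at h5
        calc τ * s = (s * τ * s⁻¹) * s := by rw [h5]
          _ = s * τ := by group
  -- the permutation representation on the cosets of H
  have hX : Nat.card (G ⧸ H) = 9 := by rw [← Subgroup.index_eq_card]; exact hHidx
  have e₀ : (G ⧸ H) ≃ Fin 9 := Finite.equivFinOfCardEq hX
  have hπ : Function.Injective (MulAction.toPermHom G (G ⧸ H)) := by
    rw [← MonoidHom.ker_eq_bot_iff, ← Subgroup.normalCore_eq_ker]
    exact hcore
  let ψ₀ : G →* Equiv.Perm (Fin 9) :=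
    (e₀.permCongrHom : Equiv.Perm (G ⧸ H) ≃* Equiv.Perm (Fin 9)).toMonoidHom.comp
      (MulAction.toPermHom G (G ⧸ H))
  have hψ₀ : Function.Injective ψ₀ := by
    intro a b hab
    apply hπ
    exact (e₀.permCongrHom : Equiv.Perm (G ⧸ H) ≃* Equiv.Perm (Fin 9)).injective hab
  have hτ3 : (ψ₀ z) ^ 3 = 1 := by rw [← map_pow, hz3, map_one]
  have hτfix : ∀ i, ψ₀ z i ≠ i := by
    intro i h
    have h1 : e₀ (z • e₀.symm i) = i := h
    have h2 : z • e₀.symm i = e₀.symm i := by
      apply e₀.injective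
      rw [h1, Equiv.apply_symm_apply]
    obtain ⟨g, hg⟩ := QuotientGroup.mk_surjective (e₀.symm i)
    rw [← hg] at h2
    have h3 : ((z * g : G) : G ⧸ H) = (g : G ⧸ H) := h2
    rw [QuotientGroup.eq] at h3
    apply hzH
    have h4 : (z * g)⁻¹ * g = z⁻¹ := by
      rw [← hZcent z hzZ g]
      group
    rw [h4] at h3
    exact (Subgroup.inv_mem_iff _).1 h3
  obtain ⟨c, hc⟩ := conj_sig (ψ₀ z) hτ3 hτfix
  let ψ : G →* Equiv.Perm (Fin 9) := (MulAut.conj c).toMonoidHom.comp ψ₀
  have hψ : Function.Injective ψ := by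
    intro a b hab
    apply hψ₀
    exact (MulAut.conj c).injective hab
  have hψz : ψ z = sig := hc
  have hψmem : ∀ g, ψ g ∈ Subgroup.centralizer ({sig} : Set (Equiv.Perm (Fin 9))) := by
    intro g
    rw [Subgroup.mem_centralizer_iff]
    intro h hh
    rw [Set.mem_singleton_iff] at hh
    subst hh
    rw [← hψz, ← map_mul, ← map_mul, hZcent z hzZ g]
  have hinj : Function.Injective (ψ.codRestrict _ hψmem) :=
    (MonoidHom.injective_codRestrict ψ _ hψmem).2 hψ
  have hbij := hinj.bijective_of_nat_card_le (by rw [hG]; exact cent_card)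
  exact ⟨MulEquiv.ofBijective _ hbij⟩

end Cfsg.Agent.S3376
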