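-- Statement S3421: order + spectrum characterisation of PSL(2, F) (helper14 and team; see note 1531).
import Cfsg.Statements.S3421
import Cfsg.Agent.Lib.Helper14.OSGlue3
import Cfsg.Agent.Lib.Helper21.OSL
import Cfsg.Agent.Lib.Helper66.OSV
import Cfsg.Agent.Lib.Helper6.PSLCard
import Cfsg.Agent.Lib.Helper23.PSL2C

set_option autoImplicit false
open Cfsg

namespace Cfsg.Agent.S3421

open Cfsg.Agent.Lib.Helper14.OS

theorem aux_card_even {F : Type*} [Field F] [Fintype F] (h2 : (2 : F) = 0) :
    Nat.card (Matrix.ProjectiveSpecialLinearGroup (Fin 2) F)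
      = Fintype.card F * (Fintype.card F ^ 2 - 1) := by
  obtain ⟨p, hp⟩ := CharP.exists F
  have : Fact p.Prime := ⟨CharP.char_is_prime F p⟩
  have hev : Even (Fintype.card F) := Cfsg.Agent.Lib.Helper19.Dk.q_even p h2
  have hq2 : 2 ≤ Fintype.card F := Fintype.one_lt_card
  have h := Cfsg.Agent.Lib.Helper6.card_psl (F := F) rfl 2 (by norm_num)
  rw [Fin.prod_univ_two] at h
  obtain ⟨q, hq⟩ : ∃ q, q = Fintype.card F := ⟨_, rfl⟩
  rw [← hq] at h hev hq2 ⊢
  have hg : Nat.gcd 2 (q - 1) = 1 := by
    rw [Nat.coprime_iff_gcd_eq_one.symm, Nat.coprime_two_left]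
    obtain ⟨k, hk⟩ := hev
    exact ⟨k - 1, by omega⟩
  rw [hg, one_mul] at h
  have h1 : q ^ 2 - q ^ ((1 : Fin 2) : ℕ) = q * (q - 1) := by
    obtain ⟨r, rfl⟩ : ∃ r, q = r + 1 := ⟨q - 1, by omega⟩
    have e : r + 1 - 1 = r := by omega
    have e2 : (r + 1) ^ 2 = (r + 1) * r + (r + 1) := by ring
    simp only [Fin.val_one, pow_one]
    rw [e, e2]; omega
  have h0 : q ^ 2 - q ^ ((0 : Fin 2) : ℕ) = q ^ 2 - 1 := by simp
  rw [h0, h1] at h
  have hpos : 0 < q - 1 := by omega
  apply Nat.eq_of_mul_eq_mul_left hpos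
  rw [h]; ring

theorem aux_card_odd {F : Type*} [Field F] [Fintype F] (h2 : (2 : F) ≠ 0) :
    2 * Nat.card (Matrix.ProjectiveSpecialLinearGroup (Fin 2) F)
      = Fintype.card F * (Fintype.card F ^ 2 - 1) := by
  obtain ⟨p, hp⟩ := CharP.exists F
  have : Fact p.Prime := ⟨CharP.char_is_prime F p⟩
  have hodd : Odd (Fintype.card F) := Cfsg.Agent.Lib.Helper19.Dk.q_odd p h2
  have hq2 : 2 ≤ Fintype.card F := Fintype.one_lt_card
  have h := Cfsg.Agent.Lib.Helper6.card_psl (F := F) rfl 2 (by norm_num)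
  rw [Fin.prod_univ_two] at h
  obtain ⟨q, hq⟩ : ∃ q, q = Fintype.card F := ⟨_, rfl⟩
  rw [← hq] at h hodd hq2 ⊢
  have hg : Nat.gcd 2 (q - 1) = 2 := by
    apply Nat.gcd_eq_left
    obtain ⟨k, hk⟩ := hodd
    exact ⟨k, by omega⟩
  rw [hg] at h
  have h1 : q ^ 2 - q ^ ((1 : Fin 2) : ℕ) = q * (q - 1) := by
    obtain ⟨r, rfl⟩ : ∃ r, q = r + 1 := ⟨q - 1, by omega⟩
    have e : r + 1 - 1 = r := by omega
    have e2 : (r + 1) ^ 2 = (r + 1) * r + (r + 1) := by ring
    simp only [Fin.val_one, pow_one]
    rw [e, e2]; omega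
  have h0 : q ^ 2 - q ^ ((0 : Fin 2) : ℕ) = q ^ 2 - 1 := by simp
  rw [h0, h1] at h
  have hpos : 0 < q - 1 := by omega
  apply Nat.eq_of_mul_eq_mul_left hpos
  calc (q - 1) * (2 * Nat.card (Matrix.ProjectiveSpecialLinearGroup (Fin 2) F))
      = 2 * ((q - 1) * Nat.card (Matrix.ProjectiveSpecialLinearGroup (Fin 2) F)) := by ring
    _ = (q ^ 2 - 1) * (q * (q - 1)) := h
    _ = (q - 1) * (q * (q ^ 2 - 1)) := by ring

theorem aux_card_inj (n m : ℕ) (hn : 2 ≤ n) (hm : 2 ≤ m)
    (h : n * (n ^ 2 - 1) = m * (m ^ 2 - 1)) : n = m := by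
  apply glue_cube_inj n m hn hm
  have e : ∀ k : ℕ, 1 ≤ k → k ^ 2 - 1 = (k + 1) * (k - 1) := by
    intro k hk
    obtain ⟨r, rfl⟩ : ∃ r, k = r + 1 := ⟨k - 1, by omega⟩
    have e1 : r + 1 - 1 = r := by omega
    have e2 : (r + 1) ^ 2 = (r + 1 + 1) * r + 1 := by ring
    rw [e1, e2]; omega
  rw [e n (by omega), e m (by omega)] at h
  rw [mul_assoc, mul_assoc]; exact h

/-- Let F be a finite field with more than 3 elements. A finite group G is isomorphic to PSL(2, F) if and only if G has the same set of element orders and the same order as PSL(2, F). -/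
theorem result {G : Type*} [Group G] [Finite G] {F : Type*} [Field F] [Fintype F] (hF : 3 < Fintype.card F) :
    Nonempty (G ≃* Matrix.ProjectiveSpecialLinearGroup (Fin 2) F) ↔
      (Set.range (orderOf : G → ℕ) = Set.range (orderOf : Matrix.ProjectiveSpecialLinearGroup (Fin 2) F → ℕ) ∧
        Nat.card G = Nat.card (Matrix.ProjectiveSpecialLinearGroup (Fin 2) F)) := by
  constructor
  · rintro ⟨e⟩
    refine ⟨?_, Nat.card_congr e.toEquiv⟩
    ext n
    constructor
    · rintro ⟨g, rfl⟩
      exact ⟨e g, e.orderOf_eq g⟩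
    · rintro ⟨g, rfl⟩
      exact ⟨e.symm g, e.symm.orderOf_eq g⟩
  · rintro ⟨hspec, hcard⟩
    have hex : ∀ g : G, ∃ g' : Matrix.ProjectiveSpecialLinearGroup (Fin 2) F,
        orderOf g' = orderOf g := by
      intro g
      have h : orderOf g ∈ Set.range (orderOf : G → ℕ) := ⟨g, rfl⟩
      rw [hspec] at h
      exact h
    have hex' : ∀ g' : Matrix.ProjectiveSpecialLinearGroup (Fin 2) F, ∃ g : G,
        orderOf g = orderOf g' := by
      intro g'
      have h : orderOf g' ∈ Set.range
          (orderOf : Matrix.ProjectiveSpecialLinearGroup (Fin 2) F → ℕ) := ⟨g', rfl⟩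
      rw [← hspec] at h
      exact h
    by_cases h2 : (2 : F) = 0
    · -- characteristic 2
      apply even_case h2 hF (by rw [hcard]; exact aux_card_even h2)
      intro g hg
      obtain ⟨g', hg'⟩ := hex g
      rw [← hg'] at hg ⊢
      exact psl2_order_even_char2 h2 g' hg
    · -- odd characteristic
      obtain ⟨p, hp⟩ := CharP.exists F
      have : Fact p.Prime := ⟨CharP.char_is_prime F p⟩
      have hodd : Odd (Fintype.card F) := Cfsg.Agent.Lib.Helper19.Dk.q_odd p h2
      obtain ⟨q, hq⟩ : ∃ q, q = Fintype.card F := ⟨_, rfl⟩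
      have hc2 := aux_card_odd h2
      rw [← hcard] at hc2
      have hdvd := fun g' => psl2_order_dvd_odd h2 g'
      obtain ⟨⟨g1, hg1⟩, ⟨g2, hg2⟩⟩ := psl2_order_exists_odd h2
      rw [← hq] at hF hodd hc2 hdvd hg1 hg2
      obtain ⟨k, hk⟩ := hodd
      have hq21 : q ^ 2 - 1 = 4 * k * (k + 1) := by
        have : q ^ 2 = 4 * k * (k + 1) + 1 := by rw [hk]; ring
        omega
      have e1 : (q - 1) / 2 = k := by omega
      have e2 : (q + 1) / 2 = k + 1 := by omega
      rw [e1] at hg1
      rw [e2] at hg2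
      have hdvd' : ∀ g : G, orderOf g ∣ q ∨ orderOf g ∣ k ∨ orderOf g ∣ k + 1 := by
        intro g
        obtain ⟨g', hg'⟩ := hex g
        have := hdvd g'
        rw [e1, e2, hg'] at this
        exact this
      obtain ⟨x1, hx1⟩ := hex' g1
      obtain ⟨x2, hx2⟩ := hex' g2
      rw [hg1] at hx1
      rw [hg2] at hx2
      have hGc : Nat.card G = 2 * q * k * (k + 1) := by
        rw [hq21] at hc2
        apply Nat.eq_of_mul_eq_mul_left (show 0 < 2 by norm_num)
        rw [hc2]; ring
      have hres : ∃ (F' : Type) (_ : Field F') (_ : Fintype F'), Odd (Fintype.card F') ∧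
          Nonempty (G ≃* Matrix.ProjectiveSpecialLinearGroup (Fin 2) F') := by
        rcases Nat.even_or_odd k with hke | hko
        · -- `a = k`, `b = k + 1`
          have H : Hyp G q k (k + 1) :=
            { hab := by omega
              hdiff := Or.inr rfl
              ha := hke
              hb := by
                obtain ⟨j, hj⟩ := hke
                omega
              hcard := hGc
              hord := hdvd'
              hexa := ⟨x1, hx1⟩
              hexb := ⟨x2, hx2⟩ }
          exact at_odd H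
        · -- `a = k + 1`, `b = k`
          have H : Hyp G q (k + 1) k :=
            { hab := by omega
              hdiff := Or.inl rfl
              ha := hko.add_one
              hb := by
                obtain ⟨j, hj⟩ := hko
                omega
              hcard := by rw [hGc]; ring
              hord := fun g => by
                rcases hdvd' g with h | h | h
                · exact Or.inl h
                · exact Or.inr (Or.inr h)
                · exact Or.inr (Or.inl h)
              hexa := ⟨x2, hx2⟩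
              hexb := ⟨x1, hx1⟩ }
          exact at_odd H
      obtain ⟨F', iF, iFt, hodd', ⟨e⟩⟩ := hres
      have h2' : (2 : F') ≠ 0 := by
        intro h0
        obtain ⟨p', hp'⟩ := CharP.exists F'
        have : Fact p'.Prime := ⟨CharP.char_is_prime F' p'⟩
        have := Cfsg.Agent.Lib.Helper19.Dk.q_even p' h0
        exact (Nat.not_even_iff_odd.mpr hodd') this
      have hc3 := aux_card_odd h2'
      rw [← Nat.card_congr e.toEquiv, hc2] at hc3
      have hq' : q = Fintype.card F' :=
        aux_card_inj _ _ (by omega) Fintype.one_lt_card hc3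
      obtain ⟨e2'⟩ := Cfsg.Agent.Lib.Helper23.psl_congr (Fin 2)
        (FiniteField.ringEquivOfCardEq (hq'.symm.trans hq))
      exact ⟨e.trans e2'⟩

end Cfsg.Agent.S3421
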