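import Cfsg.Statements.S3494
import Mathlib

set_option autoImplicit false
open Cfsg

namespace Cfsg.Agent.S3494

open MulAction

/-- A normal subgroup of a group acting primitively on an orbit is transitive on that orbit
as soon as it moves the base point. -/
theorem trans_of_moves {H : Type*} [Group H] {X : Type*} [MulAction H X] (γ : X)
    (hprim : IsPreprimitive H (orbit H γ)) (K : Subgroup H) [K.Normal] (k0 : H) (hk0 : k0 ∈ K)
    (hmove : k0 • γ ≠ γ) : ∀ σ ∈ orbit H γ, ∃ k ∈ K, k • γ = σ := by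
  intro σ hσ
  have hfix : fixedPoints K (orbit H γ) ≠ Set.univ := by
    intro h
    have h1 : (⟨γ, mem_orbit_self γ⟩ : orbit H γ) ∈ fixedPoints K (orbit H γ) := by
      rw [h]; trivial
    have h2 := h1 ⟨k0, hk0⟩
    exact hmove (congrArg Subtype.val h2)
  have htr : IsPretransitive K (orbit H γ) := IsQuasiPreprimitive.isPretransitive_of_normal hfix
  obtain ⟨k, hk⟩ := htr.exists_smul_eq ⟨γ, mem_orbit_self γ⟩ ⟨σ, hσ⟩
  exact ⟨k, k.2, congrArg Subtype.val hk⟩

/-- A nontrivial point stabilizer of a primitive group fixes no second point. -/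
theorem exists_moves {G : Type*} [Group G] {Ω : Type*} [MulAction G Ω] [FaithfulSMul G Ω]
    [IsPretransitive G Ω] (α : Ω) (hmax : IsCoatom (stabilizer G α)) (hH : stabilizer G α ≠ ⊥)
    (ω : Ω) (hω : ω ≠ α) : ∃ h : G, h • α = α ∧ h • ω ≠ ω := by
  by_contra hall
  push Not at hall
  have hle : stabilizer G α ≤ stabilizer G ω := fun h hh => hall h hh
  have hne : stabilizer G ω ≠ ⊤ := by
    intro htop
    obtain ⟨x, hx⟩ := exists_smul_eq G ω α
    have : x ∈ stabilizer G ω := by rw [htop]; trivial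
    have h1 : x • ω = ω := this
    exact hω (h1.symm.trans hx)
  have heq : stabilizer G α = stabilizer G ω := by
    by_contra hne'
    exact hne (hmax.2 _ (lt_of_le_of_ne hle hne'))
  obtain ⟨g, hg⟩ := exists_smul_eq G α ω
  let S : Subgroup G :=
    { carrier := {x | ∀ h : G, h • α = α → (x * h * x⁻¹) • α = α ∧ (x⁻¹ * h * x) • α = α}
      one_mem' := by
        intro h hh
        simp [hh]
      mul_mem' := by
        intro x y hx hy h hh
        constructor
        · have h1 := (hy h hh).1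
          have h2 := (hx _ h1).1
          have : x * y * h * (x * y)⁻¹ = x * (y * h * y⁻¹) * x⁻¹ := by group
          rw [this]; exact h2
        · have h1 := (hx h hh).2
          have h2 := (hy _ h1).2
          have : (x * y)⁻¹ * h * (x * y) = y⁻¹ * (x⁻¹ * h * x) * y := by group
          rw [this]; exact h2
      inv_mem' := by
        intro x hx h hh
        constructor
        · have := (hx h hh).2
          rwa [inv_inv]
        · have := (hx h hh).1
          rwa [inv_inv] }
  have hαS : stabilizer G α ≤ S := by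
    intro x hx h hh
    have hx' : x • α = α := hx
    have hxi : x⁻¹ • α = α := by rw [inv_smul_eq_iff, hx']
    constructor
    · rw [mul_smul, mul_smul, hxi, hh, hx']
    · rw [mul_smul, mul_smul, hx', hh, hxi]
  have hgS : g ∈ S := by
    intro h hh
    constructor
    · have : g * h * g⁻¹ ∈ stabilizer G ω := by
        rw [mem_stabilizer_iff, ← hg, mul_smul, mul_smul, inv_smul_smul, hh]
      rw [← heq] at this; exact this
    · have h1 : h • ω = ω := hall h hh
      rw [mul_smul, mul_smul, hg, h1, ← hg, inv_smul_smul]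
  have hgα : g ∉ stabilizer G α := by
    intro h
    have h1 : g • α = α := h
    exact hω (hg.symm.trans h1)
  have hS : S = ⊤ := hmax.2 S (lt_of_le_of_ne hαS (fun h => hgα (by rw [h]; exact hgS)))
  apply hH
  rw [Subgroup.eq_bot_iff_forall]
  intro h hh
  apply FaithfulSMul.eq_of_smul_eq_smul (α := Ω)
  intro y
  obtain ⟨z, rfl⟩ := exists_smul_eq G α y
  have hz : z ∈ S := by rw [hS]; trivial
  have h1 : (z⁻¹ * h * z) • α = α := (hz h hh).2
  rw [one_smul]
  calc h • z • α = z • ((z⁻¹ * h * z) • α) := by rw [smul_smul, smul_smul]; congr 1; group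
    _ = z • α := by rw [h1]

theorem smul_mem_orb {G : Type*} [Group G] {Ω : Type*} [MulAction G Ω] (α ω : Ω) (x : G)
    (hx : x • α = α) (y : Ω) (hy : y ∈ orbit (stabilizer G α) ω) :
    x • y ∈ orbit (stabilizer G α) ω := by
  obtain ⟨h', rfl⟩ := hy
  exact ⟨⟨x, hx⟩ * h', mul_smul (⟨x, hx⟩ : stabilizer G α) h' ω⟩

theorem claimA {G : Type*} [Group G] {Ω : Type*} [Finite Ω] [MulAction G Ω]
    [IsPretransitive G Ω] (α ω : Ω) (hω : ω ≠ α) (hmax : IsCoatom (stabilizer G α))
    (hep : ∀ γ : Ω, IsPreprimitive (stabilizer G α) (orbit (stabilizer G α) γ))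
    (k : G) (hkα : k • α = α) (hk : ∀ x ∈ orbit (stabilizer G α) ω, k • x = x)
    (g : G) (hg : g • ω = ω) : k • (g • α) = g • α := by
  by_contra hmove
  have horb : ∀ (h : stabilizer G α) (x : Ω), x ∈ orbit (stabilizer G α) ω →
      (h : G) • x ∈ orbit (stabilizer G α) ω := by
    intro h x hx
    exact smul_mem_orb α ω (h : G) h.2 x hx
  let K : Subgroup (stabilizer G α) :=
    { carrier := {k' | ∀ x ∈ orbit (stabilizer G α) ω, (k' : G) • x = x}
      one_mem' := fun x _ => one_smul _ _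
      mul_mem' := fun {a b} ha hb x hx => by
        show ((a : G) * (b : G)) • x = x
        rw [mul_smul, hb x hx, ha x hx]
      inv_mem' := fun {a} ha x hx => by
        show ((a : G)⁻¹) • x = x
        rw [inv_smul_eq_iff, ha x hx] }
  have hKn : K.Normal := ⟨fun n hn h x hx => by
    show ((h : G) * (n : G) * (h : G)⁻¹) • x = x
    have h1 : (h : G)⁻¹ • x ∈ orbit (stabilizer G α) ω := horb h⁻¹ x hx
    rw [mul_smul, mul_smul, hn _ h1, smul_inv_smul]⟩
  have htrans := trans_of_moves (H := stabilizer G α) (X := Ω) (g • α) (hep (g • α)) K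
    ⟨k, hkα⟩ hk hmove
  have hsub : ∀ y ∈ orbit (stabilizer G α) ω, g⁻¹ • y ∈ orbit (stabilizer G α) ω := by
    rintro y ⟨h, rfl⟩
    have hσ : (h⁻¹ : stabilizer G α) • (g • α) ∈ orbit (stabilizer G α) (g • α) := ⟨h⁻¹, rfl⟩
    obtain ⟨k', hk'K, hk'⟩ := htrans _ hσ
    have hk'' : (k' : G) • (g • α) = (h : G)⁻¹ • (g • α) := hk'
    have hk'ω : (k' : G) • ω = ω := hk'K ω (mem_orbit_self ω)
    have hfixα : (g⁻¹ * (h : G) * ((k' : G) * g)) • α = α := by
      rw [mul_smul, mul_smul, mul_smul, hk'', smul_inv_smul, inv_smul_smul]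
    refine ⟨⟨g⁻¹ * (h : G) * ((k' : G) * g), hfixα⟩, ?_⟩
    show (g⁻¹ * (h : G) * ((k' : G) * g)) • ω = g⁻¹ • ((h : G) • ω)
    rw [mul_smul, mul_smul, mul_smul, hg, hk'ω]
  have hsub' : ∀ y ∈ orbit (stabilizer G α) ω, g • y ∈ orbit (stabilizer G α) ω := by
    intro y hy
    have hinj : Function.Injective (fun z : orbit (stabilizer G α) ω =>
        (⟨g⁻¹ • (z : Ω), hsub z z.2⟩ : orbit (stabilizer G α) ω)) := by
      intro z z' hzz
      have : g⁻¹ • (z : Ω) = g⁻¹ • (z' : Ω) := congrArg Subtype.val hzz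
      exact Subtype.ext (smul_left_cancel _ this)
    obtain ⟨z, hz⟩ := (Finite.injective_iff_surjective.mp hinj) ⟨y, hy⟩
    have hz' : g⁻¹ • (z : Ω) = y := congrArg Subtype.val hz
    rw [← hz', smul_inv_smul]
    exact z.2
  let S : Subgroup G :=
    { carrier := {x | ∀ y ∈ orbit (stabilizer G α) ω,
        x • y ∈ orbit (stabilizer G α) ω ∧ x⁻¹ • y ∈ orbit (stabilizer G α) ω}
      one_mem' := by
        intro y hy
        simp [hy]
      mul_mem' := by
        intro x x' hx hx' y hy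
        constructor
        · rw [mul_smul]; exact (hx _ (hx' y hy).1).1
        · rw [mul_inv_rev, mul_smul]; exact (hx' _ (hx y hy).2).2
      inv_mem' := by
        intro x hx y hy
        constructor
        · exact (hx y hy).2
        · rw [inv_inv]; exact (hx y hy).1 }
  have hαS : stabilizer G α ≤ S := by
    intro x hx y hy
    have hx' : x⁻¹ ∈ stabilizer G α := (stabilizer G α).inv_mem hx
    exact ⟨horb ⟨x, hx⟩ y hy, horb ⟨x⁻¹, hx'⟩ y hy⟩
  have hgS : g ∈ S := fun y hy => ⟨hsub' y hy, hsub y hy⟩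
  have hgα : g ∉ stabilizer G α := by
    intro h
    have h1 : g • α = α := h
    rw [h1] at hmove
    exact hmove hkα
  have hS : S = ⊤ := hmax.2 S (lt_of_le_of_ne hαS (fun h => hgα (by rw [h]; exact hgS)))
  obtain ⟨x, hx⟩ := exists_smul_eq G ω α
  have hxS : x ∈ S := by rw [hS]; trivial
  have h1 := (hxS ω (mem_orbit_self ω)).1
  rw [hx] at h1
  obtain ⟨h, hh⟩ := h1
  have hh' : (h : G) • ω = α := hh
  have hhα : (h : G) • α = α := h.2
  exact hω (smul_left_cancel (h : G) (hh'.trans hhα.symm))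

theorem result {G : Type*} [Group G] [Finite G] {Ω : Type*} [Fintype Ω] [MulAction G Ω] [FaithfulSMul G Ω] (hprim : MulAction.IsPreprimitive G Ω) (hH : ∀ α : Ω, MulAction.stabilizer G α ≠ ⊥) (hep : ∀ (α : Ω) (ω : Ω), MulAction.IsPreprimitive (MulAction.stabilizer G α) (MulAction.orbit (MulAction.stabilizer G α) ω))
    (α ω : Ω) (hω : ω ≠ α) (h : MulAction.stabilizer G α) (hfix : ∀ x ∈ MulAction.orbit (MulAction.stabilizer G α) ω, h • x = x) : h = 1 := by
  have hnt : Nontrivial Ω := ⟨⟨ω, α, hω⟩⟩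
  have htr : IsPretransitive G Ω := hprim.toIsPretransitive
  have hmaxα : IsCoatom (stabilizer G α) :=
    IsPreprimitive.isCoatom_stabilizer_of_isPreprimitive G α
  have hmaxω : IsCoatom (stabilizer G ω) :=
    IsPreprimitive.isCoatom_stabilizer_of_isPreprimitive G ω
  let K : Subgroup G :=
    { carrier := {k | k • α = α ∧ ∀ x ∈ orbit (stabilizer G α) ω, k • x = x}
      one_mem' := ⟨one_smul _ _, fun x _ => one_smul _ _⟩
      mul_mem' := by
        rintro a b ⟨ha, ha'⟩ ⟨hb, hb'⟩
        exact ⟨by rw [mul_smul, hb, ha], fun x hx => by rw [mul_smul, hb' x hx, ha' x hx]⟩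
      inv_mem' := by
        rintro a ⟨ha, ha'⟩
        exact ⟨by rw [inv_smul_eq_iff, ha], fun x hx => by rw [inv_smul_eq_iff, ha' x hx]⟩ }
  have hKK' : ∀ k : G, k ∈ K ↔ (k • ω = ω ∧ ∀ x ∈ orbit (stabilizer G ω) α, k • x = x) := by
    intro k
    constructor
    · rintro ⟨hkα, hk⟩
      refine ⟨hk ω (mem_orbit_self ω), ?_⟩
      rintro x ⟨g, rfl⟩
      exact claimA α ω hω hmaxα (hep α) k hkα hk g g.2
    · rintro ⟨hkω, hk⟩
      refine ⟨hk α (mem_orbit_self α), ?_⟩
      rintro x ⟨g, rfl⟩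
      exact claimA ω α hω.symm hmaxω (hep ω) k hkω hk g g.2
  have hconjα : ∀ x : G, x • α = α → ∀ k ∈ K, x * k * x⁻¹ ∈ K := by
    rintro x hx k ⟨hkα, hk⟩
    have hxi : x⁻¹ • α = α := by rw [inv_smul_eq_iff, hx]
    refine ⟨by rw [mul_smul, mul_smul, hxi, hkα, hx], ?_⟩
    rintro y ⟨h', rfl⟩
    have h1 : x⁻¹ • ((h' : G) • ω) ∈ orbit (stabilizer G α) ω :=
      smul_mem_orb α ω x⁻¹ hxi _ ⟨h', rfl⟩
    show (x * k * x⁻¹) • ((h' : G) • ω) = (h' : G) • ω
    rw [mul_smul, mul_smul, hk _ h1, smul_inv_smul]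
  have hconjω : ∀ x : G, x • ω = ω → ∀ k ∈ K, x * k * x⁻¹ ∈ K := by
    intro x hx k hkK
    obtain ⟨hkω, hk⟩ := (hKK' k).mp hkK
    rw [hKK']
    have hxi : x⁻¹ • ω = ω := by rw [inv_smul_eq_iff, hx]
    refine ⟨by rw [mul_smul, mul_smul, hxi, hkω, hx], ?_⟩
    rintro y ⟨h', rfl⟩
    have h1 : x⁻¹ • ((h' : G) • α) ∈ orbit (stabilizer G ω) α :=
      smul_mem_orb ω α x⁻¹ hxi _ ⟨h', rfl⟩
    show (x * k * x⁻¹) • ((h' : G) • α) = (h' : G) • α
    rw [mul_smul, mul_smul, hk _ h1, smul_inv_smul]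
  let S : Subgroup G :=
    { carrier := {x | ∀ k ∈ K, x * k * x⁻¹ ∈ K ∧ x⁻¹ * k * x ∈ K}
      one_mem' := by
        intro k hk
        simp [hk]
      mul_mem' := by
        intro x y hx hy k hk
        constructor
        · have h1 := (hy k hk).1
          have h2 := (hx _ h1).1
          have : x * y * k * (x * y)⁻¹ = x * (y * k * y⁻¹) * x⁻¹ := by group
          rw [this]; exact h2
        · have h1 := (hx k hk).2
          have h2 := (hy _ h1).2
          have : (x * y)⁻¹ * k * (x * y) = y⁻¹ * (x⁻¹ * k * x) * y := by group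
          rw [this]; exact h2
      inv_mem' := by
        intro x hx k hk
        constructor
        · have := (hx k hk).2
          rwa [inv_inv]
        · have := (hx k hk).1
          rwa [inv_inv] }
  have hαS : stabilizer G α ≤ S := by
    intro x hx k hk
    have hx' : x • α = α := hx
    have hxi : x⁻¹ • α = α := by rw [inv_smul_eq_iff, hx']
    refine ⟨hconjα x hx' k hk, ?_⟩
    have := hconjα x⁻¹ hxi k hk
    rwa [inv_inv] at this
  obtain ⟨x, hxω, hxα⟩ := exists_moves ω hmaxω (hH ω) α hω.symm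
  have hxS : x ∈ S := by
    intro k hk
    have hxi : x⁻¹ • ω = ω := by rw [inv_smul_eq_iff, hxω]
    refine ⟨hconjω x hxω k hk, ?_⟩
    have := hconjω x⁻¹ hxi k hk
    rwa [inv_inv] at this
  have hS : S = ⊤ := hmaxα.2 S (lt_of_le_of_ne hαS (fun heq => hxα (by
    have : x ∈ stabilizer G α := by rw [heq]; exact hxS
    exact this)))
  have hK1 : ∀ k ∈ K, k = 1 := by
    intro k hk
    apply FaithfulSMul.eq_of_smul_eq_smul (α := Ω)
    intro y
    obtain ⟨z, rfl⟩ := exists_smul_eq G α y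
    have hz : z ∈ S := by rw [hS]; trivial
    have h1 : (z⁻¹ * k * z) • α = α := ((hz k hk).2).1
    rw [one_smul]
    calc k • z • α = z • ((z⁻¹ * k * z) • α) := by rw [smul_smul, smul_smul]; congr 1; group
      _ = z • α := by rw [h1]
  have hh : (h : G) ∈ K := ⟨h.2, fun x hx => hfix x hx⟩
  exact Subtype.ext (hK1 _ hh)

end Cfsg.Agent.S3494
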