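import Cfsg.Statements.S3495
import Mathlib
import Cfsg.Agent.S3494
import Cfsg.Agent.Lib.Helper64.Socle

set_option autoImplicit false
open Cfsg

namespace Cfsg.Agent.S3495

open MulAction Cfsg.Agent.Lib.Helper64

theorem result {G : Type*} [Group G] [Finite G] {Ω : Type*} [Fintype Ω] [MulAction G Ω] [FaithfulSMul G Ω] (hprim : MulAction.IsPreprimitive G Ω) (hH : ∀ α : Ω, MulAction.stabilizer G α ≠ ⊥) (hep : ∀ (α : Ω) (ω : Ω), MulAction.IsPreprimitive (MulAction.stabilizer G α) (MulAction.orbit (MulAction.stabilizer G α) ω))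
    (N : Subgroup G) [N.Normal] (hNc : IsMulCommutative N) (p : ℕ) (hp : p.Prime) (hNp : ∀ n ∈ N, n ^ p = 1)
    (hNtr : MulAction.IsPretransitive N Ω) (hNreg : ∀ ω : Ω, MulAction.stabilizer N ω = ⊥) (α : Ω) (M : Subgroup G) (hM : M ≠ ⊥) (hMle : M ≤ MulAction.stabilizer G α)
    (hMn : MulAction.stabilizer G α ≤ Subgroup.normalizer (M : Set G)) :
    (∀ ω : Ω, MulAction.orbit M ω = MulAction.orbit (MulAction.stabilizer G α) ω) ∧
    (∀ L : Subgroup G, L ≤ N → M ≤ Subgroup.normalizer (L : Set G) → L = ⊥ ∨ L = N) := by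
  have hNn : N.Normal := inferInstance
  have hab : ∀ a ∈ N, ∀ b ∈ N, a * b = b * a := isMulCommutative_iff_of_setLike.mp hNc
  have hNt : ∀ a b : Ω, ∃ n ∈ N, n • a = b := by
    intro a b
    obtain ⟨n, hn⟩ := hNtr.exists_smul_eq a b
    exact ⟨n, n.2, hn⟩
  have hNs : ∀ n ∈ N, ∀ ω : Ω, n • ω = ω → n = 1 := by
    intro n hn ω hω
    have h1 : (⟨n, hn⟩ : N) ∈ stabilizer N ω := hω
    rw [hNreg ω, Subgroup.mem_bot] at h1
    exact congrArg Subtype.val h1
  have hMconj : ∀ h : G, h • α = α → ∀ m ∈ M, h * m * h⁻¹ ∈ M := by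
    intro h hh m hm
    exact (Subgroup.mem_normalizer_iff.mp (hMn hh) m).mp hm
  -- part 1
  have part1 : ∀ ω : Ω, orbit M ω = orbit (stabilizer G α) ω := by
    intro ω
    apply Set.Subset.antisymm
    · rintro x ⟨m, rfl⟩
      exact ⟨⟨m, hMle m.2⟩, rfl⟩
    · by_cases hω : ω = α
      · rintro x ⟨h, rfl⟩
        refine ⟨1, ?_⟩
        show (1 : M) • ω = (h : G) • ω
        rw [one_smul, hω]
        exact h.2.symm
      · have hmove : ∃ m0 ∈ M, m0 • ω ≠ ω := by
          by_contra hall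
          push Not at hall
          apply hM
          rw [Subgroup.eq_bot_iff_forall]
          intro m hm
          have hfix : ∀ x ∈ orbit (stabilizer G α) ω,
              (⟨m, hMle hm⟩ : stabilizer G α) • x = x := by
            rintro x ⟨h, rfl⟩
            show m • ((h : G) • ω) = (h : G) • ω
            have h1 : (h : G)⁻¹ * m * (h : G) ∈ M := by
              have hi : (h : G)⁻¹ • α = α := by rw [inv_smul_eq_iff]; exact h.2.symm
              have := hMconj _ hi m hm
              rwa [inv_inv] at this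
            have h2 := hall _ h1
            calc m • ((h : G) • ω) = (h : G) • (((h : G)⁻¹ * m * (h : G)) • ω) := by
                  rw [smul_smul, smul_smul]; congr 1; group
              _ = (h : G) • ω := by rw [h2]
          have := Cfsg.Agent.S3494.result hprim hH hep α ω hω ⟨m, hMle hm⟩ hfix
          exact congrArg Subtype.val this
        obtain ⟨m0, hm0, hm0ω⟩ := hmove
        have hnorm : (M.subgroupOf (stabilizer G α)).Normal :=
          (Subgroup.normal_subgroupOf_iff_le_normalizer hMle).mpr hMn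
        have htrans := Cfsg.Agent.S3494.trans_of_moves (H := stabilizer G α) (X := Ω) ω
          (hep α ω) (M.subgroupOf (stabilizer G α)) ⟨m0, hMle hm0⟩
          (Subgroup.mem_subgroupOf.mpr hm0) hm0ω
        intro x hx
        obtain ⟨k, hk, hkx⟩ := htrans x hx
        exact ⟨⟨(k : G), Subgroup.mem_subgroupOf.mp hk⟩, hkx⟩
  refine ⟨part1, ?_⟩
  intro L hLN hML
  by_cases hL : L = ⊥
  · exact Or.inl hL
  right
  have hMLconj : ∀ m ∈ M, ∀ l ∈ L, m * l * m⁻¹ ∈ L := by
    intro m hm l hl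
    exact (Subgroup.mem_normalizer_iff.mp (hML hm) l).mp hl
  -- G_α normalizes L
  have hstabL : ∀ h : G, h • α = α → ∀ l ∈ L, h * l * h⁻¹ ∈ L := by
    intro h hh l hl
    have h1 : h • (l • α) ∈ orbit (stabilizer G α) (l • α) := ⟨⟨h, hh⟩, rfl⟩
    rw [← part1] at h1
    obtain ⟨m, hm⟩ := h1
    have hm' : (m : G) • (l • α) = h • (l • α) := hm
    have hmα : (m : G) • α = α := hMle m.2
    have hmi : (m : G)⁻¹ • α = α := by rw [inv_smul_eq_iff, hmα]
    have hhi : h⁻¹ • α = α := by rw [inv_smul_eq_iff, hh]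
    have e1 : ((m : G) * l * (m : G)⁻¹) • α = (m : G) • (l • α) := by
      rw [mul_smul, mul_smul, hmi]
    have e2 : (h * l * h⁻¹) • α = h • (l • α) := by
      rw [mul_smul, mul_smul, hhi]
    have h3 : h * l * h⁻¹ = (m : G) * l * (m : G)⁻¹ :=
      eq_of_smul_eq hNs (hNn.conj_mem l (hLN hl) h) (hNn.conj_mem l (hLN hl) _)
        (by rw [e1, e2, hm'])
    rw [h3]
    exact hMLconj m m.2 l hl
  have hLn : L.Normal := by
    refine ⟨fun l hl g => ?_⟩
    obtain ⟨n, hn, hnα⟩ := hNt α (g • α)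
    have hh : (n⁻¹ * g) • α = α := by rw [mul_smul, inv_smul_eq_iff, hnα]
    have h1 := hstabL _ hh l hl
    have h2 : g * l * g⁻¹ = n * ((n⁻¹ * g) * l * (n⁻¹ * g)⁻¹) * n⁻¹ := by group
    rw [h2]
    have h3 := hab n hn _ (hLN h1)
    rw [h3, mul_inv_cancel_right]
    exact h1
  have hLt := trans_of_normal (Ω := Ω) L hL
  apply le_antisymm hLN
  intro n hn
  obtain ⟨l, hl, hlα⟩ := hLt α (n • α)
  have := eq_of_smul_eq hNs (hLN hl) hn hlα
  rw [← this]; exact hl

end Cfsg.Agent.S3495
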