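import Cfsg.Statements.S3766
import Mathlib

set_option autoImplicit false
open Cfsg

namespace Cfsg.Agent.S3766

open scoped commutatorElement Pointwise

universe u

/-- iterated commutator `[D, A, A, ..., A]` -/
def icom {K : Type*} [Group K] (A D : Subgroup K) : ℕ → Subgroup K
  | 0 => D
  | n + 1 => ⁅icom A D n, A⁆

theorem inf_centralizer_ne_bot {K : Type*} [Group K] (A D : Subgroup K)
    (hA : ∃ n, A.lowerCentralSeries n = ⊥) (hDA : D ≤ A) (hD : D ≠ ⊥) (hn : ⁅D, A⁆ ≤ D) :
    D ⊓ Subgroup.centralizer (A : Set K) ≠ ⊥ := by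
  obtain ⟨n, hn0⟩ := hA
  set ic : ℕ → Subgroup K := icom A D with hic
  have ic0 : ic 0 = D := rfl
  have icS : ∀ i, ic (i + 1) = ⁅ic i, A⁆ := fun i => rfl
  have h1 : ∀ i, ic i ≤ D := by
    intro i
    induction i with
    | zero => exact le_rfl
    | succ i ih => rw [icS]; exact (Subgroup.commutator_mono ih le_rfl).trans hn
  have h2 : ∀ i, ic i ≤ A.lowerCentralSeries i := by
    intro i
    induction i with
    | zero => exact hDA
    | succ i ih =>
      rw [icS, Subgroup.lowerCentralSeries_succ]
      exact Subgroup.commutator_mono ih le_rfl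
  have h3 : ic n = ⊥ := by rw [eq_bot_iff, ← hn0]; exact h2 n
  have h4 : ∀ i, ic i = ⊥ → ∃ k, ic k ≠ ⊥ ∧ ⁅ic k, A⁆ = ⊥ := by
    intro i
    induction i with
    | zero => intro h; exact absurd h hD
    | succ i ih =>
      intro h
      by_cases hi : ic i = ⊥
      · exact ih hi
      · exact ⟨i, hi, h⟩
  obtain ⟨k, hk1, hk2⟩ := h4 n h3
  have hk3 : ic k ≤ Subgroup.centralizer (A : Set K) :=
    Subgroup.commutator_eq_bot_iff_le_centralizer.1 hk2
  intro hbot
  apply hk1
  rw [eq_bot_iff, ← hbot]
  exact le_inf (h1 k) hk3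

theorem fitting_top : ∀ (n : ℕ) (K : Type u) [Group K] [Finite K] (A B : Subgroup K)
    [A.Normal] [B.Normal], Nat.card K = n → Group.IsNilpotent A → Group.IsNilpotent B →
    A ⊔ B = ⊤ → Group.IsNilpotent K := by
  intro n
  induction n using Nat.strong_induction_on with
  | _ n ih =>
    intro K _ _ A B _ _ hn hA hB hAB
    by_cases hAbot : A = ⊥
    · have hBtop : B = ⊤ := by rw [hAbot, bot_sup_eq] at hAB; exact hAB
      subst hBtop
      exact Group.isNilpotent_top.1 hB
    · have hAn := (Subgroup.isNilpotent_iff_lowerCentralSeries A).1 hA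
      have hBn := (Subgroup.isNilpotent_iff_lowerCentralSeries B).1 hB
      have hZA : A ⊓ Subgroup.centralizer (A : Set K) ≠ ⊥ :=
        inf_centralizer_ne_bot A A hAn le_rfl hAbot (Subgroup.commutator_le_left A A)
      have hcenter : Subgroup.center K ≠ ⊥ := by
        have key : ∀ X : Subgroup K, X ≤ Subgroup.centralizer (A : Set K) →
            X ≤ Subgroup.centralizer (B : Set K) → X ≤ Subgroup.center K := by
          intro X hXA hXB
          have h1 : A ≤ Subgroup.centralizer (X : Set K) := Subgroup.le_centralizer_iff.1 hXA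
          have h2 : B ≤ Subgroup.centralizer (X : Set K) := Subgroup.le_centralizer_iff.1 hXB
          have h3 : (⊤ : Subgroup K) ≤ Subgroup.centralizer (X : Set K) := by
            rw [← hAB]; exact sup_le h1 h2
          have h4 : X ≤ Subgroup.centralizer ((⊤ : Subgroup K) : Set K) :=
            Subgroup.le_centralizer_iff.1 h3
          rw [Subgroup.coe_top, Subgroup.centralizer_univ] at h4
          exact h4
        by_cases hD : (A ⊓ Subgroup.centralizer (A : Set K)) ⊓ B = ⊥
        · have h5 : A ⊓ Subgroup.centralizer (A : Set K) ≤ Subgroup.centralizer (B : Set K) := by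
            rw [← Subgroup.commutator_eq_bot_iff_le_centralizer, eq_bot_iff, ← hD]
            exact Subgroup.commutator_le_inf _ B
          have h6 := key _ inf_le_right h5
          intro hc
          apply hZA
          rw [eq_bot_iff, ← hc]
          exact h6
        · have h7 : ((A ⊓ Subgroup.centralizer (A : Set K)) ⊓ B) ⊓
              Subgroup.centralizer (B : Set K) ≠ ⊥ :=
            inf_centralizer_ne_bot B _ hBn inf_le_right hD (Subgroup.commutator_le_left _ B)
          have h8 := key _ (inf_le_left.trans (inf_le_left.trans inf_le_right))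
            (inf_le_right : ((A ⊓ Subgroup.centralizer (A : Set K)) ⊓ B) ⊓
              Subgroup.centralizer (B : Set K) ≤ _)
          intro hc
          apply h7
          rw [eq_bot_iff, ← hc]
          exact h8
      apply Group.of_quotient_center_nilpotent
      have hlt : Nat.card (K ⧸ Subgroup.center K) < n := by
        rw [← hn, ← Subgroup.index_eq_card, ← Subgroup.card_mul_index (Subgroup.center K)]
        have h1 : 1 < Nat.card (Subgroup.center K) := by
          have : Nontrivial (Subgroup.center K) := (Subgroup.nontrivial_iff_ne_bot _).2 hcenter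
          exact Finite.one_lt_card
        have hpos : 0 < (Subgroup.center K).index :=
          Nat.pos_of_ne_zero Subgroup.index_ne_zero_of_finite
        nlinarith
      have hAm : (A.map (QuotientGroup.mk' (Subgroup.center K))).Normal :=
        Subgroup.Normal.map inferInstance _ (QuotientGroup.mk'_surjective _)
      have hBm : (B.map (QuotientGroup.mk' (Subgroup.center K))).Normal :=
        Subgroup.Normal.map inferInstance _ (QuotientGroup.mk'_surjective _)
      refine ih _ hlt (K ⧸ Subgroup.center K) (A.map (QuotientGroup.mk' _))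
        (B.map (QuotientGroup.mk' _)) rfl ?_ ?_ ?_
      · exact Group.nilpotent_of_surjective _
          ((QuotientGroup.mk' (Subgroup.center K)).subgroupMap_surjective A)
      · exact Group.nilpotent_of_surjective _
          ((QuotientGroup.mk' (Subgroup.center K)).subgroupMap_surjective B)
      · rw [← Subgroup.map_sup, hAB,
          Subgroup.map_top_of_surjective _ (QuotientGroup.mk'_surjective _)]

theorem fitting_sup {K : Type*} [Group K] [Finite K] (A B : Subgroup K) [A.Normal] [B.Normal]
    (hA : Group.IsNilpotent A) (hB : Group.IsNilpotent B) : Group.IsNilpotent ↥(A ⊔ B) := by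
  have h1 : Group.IsNilpotent ↥(A.subgroupOf (A ⊔ B)) :=
    Group.nilpotent_of_mulEquiv (Subgroup.subgroupOfEquivOfLe le_sup_left).symm
  have h2 : Group.IsNilpotent ↥(B.subgroupOf (A ⊔ B)) :=
    Group.nilpotent_of_mulEquiv (Subgroup.subgroupOfEquivOfLe le_sup_right).symm
  refine fitting_top _ ↥(A ⊔ B) (A.subgroupOf (A ⊔ B)) (B.subgroupOf (A ⊔ B)) rfl h1 h2 ?_
  rw [← Subgroup.subgroupOf_sup le_sup_left le_sup_right, Subgroup.subgroupOf_self]

theorem fitting_mem (K : Type*) [Group K] [Finite K] :
    (Cfsg.fittingSubgroup K).Normal ∧ Group.IsNilpotent ↥(Cfsg.fittingSubgroup K) := by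
  let S : Set (Subgroup K) := {N | N.Normal ∧ Group.IsNilpotent N}
  have hne : S.Nonempty := ⟨⊥, inferInstance, inferInstance⟩
  obtain ⟨M, hM⟩ := Set.Finite.exists_maximal (Set.toFinite S) hne
  have hMS : M ∈ S := hM.1
  have hle : ∀ X ∈ S, X ≤ M := by
    intro X hX
    have hXn : X.Normal := hX.1
    have hMn : M.Normal := hMS.1
    have h1 : M ⊔ X ∈ S := ⟨inferInstance, fitting_sup M X hMS.2 hX.2⟩
    have h2 : M ⊔ X ≤ M := hM.2 h1 le_sup_left
    exact le_sup_right.trans h2
  have : Cfsg.fittingSubgroup K = M := le_antisymm (sSup_le hle) (le_sSup hMS)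
  rw [this]
  exact hMS

theorem fitting_char (K : Type*) [Group K] [Finite K] :
    (Cfsg.fittingSubgroup K).Characteristic := by
  rw [Subgroup.characteristic_iff_map_le]
  intro φ
  obtain ⟨hn, hnil⟩ := fitting_mem K
  apply le_sSup
  refine ⟨?_, ?_⟩
  · exact hn.map φ.toMonoidHom φ.surjective
  · exact Group.nilpotent_of_mulEquiv (φ.subgroupMap (Cfsg.fittingSubgroup K))

/-- the centralizer of the factor `U/V` -/
def cf {G : Type*} [Group G] (U V : Subgroup G) [U.Normal] [hV : V.Normal] : Subgroup G where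
  carrier := {x | ∀ u ∈ U, u * x * u⁻¹ * x⁻¹ ∈ V}
  one_mem' := by
    intro u _
    simp [V.one_mem]
  mul_mem' := by
    intro x y hx hy u hu
    have : u * (x * y) * u⁻¹ * (x * y)⁻¹
        = (u * x * u⁻¹ * x⁻¹) * (x * (u * y * u⁻¹ * y⁻¹) * x⁻¹) := by group
    rw [this]
    exact V.mul_mem (hx u hu) (hV.conj_mem _ (hy u hu) x)
  inv_mem' := by
    intro x hx u hu
    have : u * x⁻¹ * u⁻¹ * x⁻¹⁻¹ = x⁻¹ * (u * x * u⁻¹ * x⁻¹)⁻¹ * x⁻¹⁻¹ := by group
    rw [this]
    exact hV.conj_mem _ (V.inv_mem (hx u hu)) x⁻¹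

instance cf_normal {G : Type*} [Group G] (U V : Subgroup G) [hU : U.Normal] [hV : V.Normal] :
    (cf U V).Normal := by
  constructor
  intro x hx y u hu
  have h1 : y⁻¹ * u * y ∈ U := by
    have := hU.conj_mem u hu y⁻¹
    simpa using this
  have h2 := hx _ h1
  have : u * (y * x * y⁻¹) * u⁻¹ * (y * x * y⁻¹)⁻¹
      = y * ((y⁻¹ * u * y) * x * (y⁻¹ * u * y)⁻¹ * x⁻¹) * y⁻¹ := by group
  rw [this]
  exact hV.conj_mem _ h2 y

theorem dir1 {G : Type*} [Group G] (F : Subgroup G) [F.Normal]
    (hF : ∃ n, F.lowerCentralSeries n = ⊥)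
    (U V : Subgroup G) [U.Normal] [hVn : V.Normal] (hVU : V < U)
    (hmin : ∀ W : Subgroup G, W.Normal → V ≤ W → W ≤ U → W = V ∨ W = U) : ⁅U, F⁆ ≤ V := by
  have hW : V ⊔ ⁅U, F⁆ = V ∨ V ⊔ ⁅U, F⁆ = U :=
    hmin _ inferInstance le_sup_left (sup_le hVU.le (Subgroup.commutator_le_left U F))
  rcases hW with h | h
  · rw [← h]; exact le_sup_right
  · obtain ⟨n, hn⟩ := hF
    have claim : ∀ k, ⁅U, F⁆ ≤ V ⊔ F.lowerCentralSeries k := by
      intro k
      induction k with
      | zero => exact (Subgroup.commutator_le_right U F).trans le_sup_right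
      | succ k ih =>
        have h1 : U ≤ V ⊔ F.lowerCentralSeries k := by
          rw [← h]; exact sup_le le_sup_left ih
        refine (Subgroup.commutator_mono h1 le_rfl).trans ?_
        rw [Subgroup.commutator_le]
        intro x hx f hf
        have hx' : x ∈ ((V ⊔ F.lowerCentralSeries k : Subgroup G) : Set G) := hx
        rw [Subgroup.normal_mul, Set.mem_mul] at hx'
        obtain ⟨v, hv, l, hl, rfl⟩ := hx'
        have e : ⁅v * l, f⁆ = v * ⁅l, f⁆ * v⁻¹ * ⁅v, f⁆ := by
          simp only [commutatorElement_def]; group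
        rw [e]
        refine Subgroup.mul_mem _ ?_ ?_
        · apply (inferInstance : (V ⊔ F.lowerCentralSeries (k + 1)).Normal).conj_mem
          exact (le_sup_right : F.lowerCentralSeries (k + 1) ≤ _)
            (Subgroup.commutator_mem_commutator hl hf)
        · apply (le_sup_left : V ≤ _)
          have : ⁅v, f⁆ = v * (f * v⁻¹ * f⁻¹) := by
            simp only [commutatorElement_def]; group
          rw [this]
          exact V.mul_mem hv (hVn.conj_mem _ (V.inv_mem hv) f)
    have := claim n
    rw [hn, sup_bot_eq] at this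
    exact this

theorem icom_mono {K : Type*} [Group K] (E A A' : Subgroup K) (h : A ≤ A') :
    ∀ i, icom E A i ≤ icom E A' i := by
  intro i
  induction i with
  | zero => exact h
  | succ i ih => exact Subgroup.commutator_mono ih le_rfl

theorem icom_shift {K : Type*} [Group K] (E A : Subgroup K) :
    ∀ i, icom E ⁅A, E⁆ i = icom E A (i + 1) := by
  intro i
  induction i with
  | zero => rfl
  | succ i ih =>
    show ⁅icom E ⁅A, E⁆ i, E⁆ = ⁅icom E A (i + 1), E⁆
    rw [ih]

/-- derived series of a subgroup, inside the ambient group -/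
def dser {G : Type*} [Group G] (C : Subgroup G) : ℕ → Subgroup G
  | 0 => C
  | n + 1 => ⁅dser C n, dser C n⁆

theorem dir3 {G : Type*} [Group G] [Finite G] (hG : Group.IsSolvable G) (N F : Subgroup G)
    [N.Normal]
    (hFmax : ∀ E : Subgroup G, E.Normal → E ≤ N → Group.IsNilpotent E → E ≤ F)
    (g : G) (hgN : g ∈ N)
    (hg : ∀ U V : Subgroup G, (U.Normal ∧ V.Normal ∧ V < U ∧
      ∀ W : Subgroup G, W.Normal → V ≤ W → W ≤ U → W = V ∨ W = U) → U ≤ F →
      ∀ u ∈ U, u * g * u⁻¹ * g⁻¹ ∈ V) : g ∈ F := by
  by_contra hgF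
  set C := Subgroup.normalClosure ({g} : Set G) with hC
  have hCN : C ≤ N := Subgroup.normalClosure_le_normal (by simpa using hgN)
  have hCg : g ∈ C := Subgroup.subset_normalClosure (Set.mem_singleton g)
  have hCcf : ∀ U V : Subgroup G, (U.Normal ∧ V.Normal ∧ V < U ∧
      ∀ W : Subgroup G, W.Normal → V ≤ W → W ≤ U → W = V ∨ W = U) → U ≤ F →
      ∀ x ∈ C, ∀ u ∈ U, u * x * u⁻¹ * x⁻¹ ∈ V := by
    intro U V h hUF
    have hUn := h.1
    have hVn := h.2.1
    have : C ≤ cf U V := Subgroup.normalClosure_le_normal (by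
      intro x hx
      rw [Set.mem_singleton_iff] at hx
      subst hx
      exact hg U V h hUF)
    exact fun x hx => this hx
  set D : ℕ → Subgroup G := dser C with hD
  have D0 : D 0 = C := rfl
  have DS : ∀ i, D (i + 1) = ⁅D i, D i⁆ := fun i => rfl
  have Dnormal : ∀ i, (D i).Normal := by
    intro i
    induction i with
    | zero => exact Subgroup.normalClosure_normal
    | succ i ih => rw [DS]; infer_instance
  have DleC : ∀ i, D i ≤ C := by
    intro i
    induction i with
    | zero => exact le_rfl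
    | succ i ih =>
      rw [DS]
      have := Dnormal i
      exact (Subgroup.commutator_le_left (D i) (D i)).trans ih
  have Dder : ∀ i, D i ≤ derivedSeries G i := by
    intro i
    induction i with
    | zero => exact le_top
    | succ i ih => rw [DS, derivedSeries_succ]; exact Subgroup.commutator_mono ih ih
  obtain ⟨n, hn⟩ := hG.solvable
  have hDn : D n ≤ F := by
    have := Dder n
    rw [hn] at this
    exact this.trans bot_le
  have hfind : ∀ i, D i ≤ F → ∃ m, ¬ D m ≤ F ∧ ⁅D m, D m⁆ ≤ F := by
    intro i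
    induction i with
    | zero => intro h; exact absurd (h hCg) hgF
    | succ i ih =>
      intro h
      by_cases hi : D i ≤ F
      · exact ih hi
      · exact ⟨i, hi, h⟩
  obtain ⟨m, hEF, hA⟩ := hfind n hDn
  apply hEF
  have hEn := Dnormal m
  apply hFmax (D m) (Dnormal m) ((DleC m).trans hCN)
  set E := D m with hE
  have P : ∀ (c : ℕ) (A : Subgroup G), A.Normal → A ≤ F → Nat.card A = c →
      ∃ i, icom E A i = ⊥ := by
    intro c
    induction c using Nat.strong_induction_on with
    | _ c ih =>
      intro A hAn hAF hc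
      by_cases hAbot : A = ⊥
      · exact ⟨0, hAbot⟩
      · let S : Set (Subgroup G) := {V | V.Normal ∧ V < A}
        have hne : S.Nonempty := ⟨⊥, inferInstance, bot_lt_iff_ne_bot.2 hAbot⟩
        obtain ⟨V, hV⟩ := Set.Finite.exists_maximal (Set.toFinite S) hne
        have hVS : V ∈ S := hV.1
        have hchief : A.Normal ∧ V.Normal ∧ V < A ∧
            ∀ W : Subgroup G, W.Normal → V ≤ W → W ≤ A → W = V ∨ W = A := by
          refine ⟨hAn, hVS.1, hVS.2, ?_⟩
          intro W hWn hVW hWA
          by_cases hWA' : W = A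
          · exact Or.inr hWA'
          · left
            have hWS : W ∈ S := ⟨hWn, lt_of_le_of_ne hWA hWA'⟩
            exact le_antisymm (hV.2 hWS hVW) hVW
        have hcomm : ⁅A, E⁆ ≤ V := by
          rw [Subgroup.commutator_le]
          intro a ha e he
          have := hCcf A V hchief hAF e (DleC m he) a ha
          rw [commutatorElement_def]
          exact this
        have hcard : Nat.card V < c := by
          rw [← hc]
          by_contra hge
          push Not at hge
          exact (ne_of_lt hVS.2) (Subgroup.eq_of_le_of_card_ge hVS.2.le hge)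
        obtain ⟨i, hi⟩ := ih _ hcard V hVS.1 (hVS.2.le.trans hAF) rfl
        refine ⟨i + 1, ?_⟩
        rw [← icom_shift, eq_bot_iff, ← hi]
        exact icom_mono E _ _ hcomm i
  obtain ⟨i, hi⟩ := P _ ⁅E, E⁆ inferInstance hA rfl
  have hL : ∀ j, E.lowerCentralSeries (j + 1) ≤ icom E ⁅E, E⁆ j := by
    intro j
    induction j with
    | zero => exact le_rfl
    | succ j ih =>
      rw [Subgroup.lowerCentralSeries_succ]
      exact Subgroup.commutator_mono ih le_rfl
  apply Subgroup.isNilpotent_of_lowerCentralSeries_eq_bot (n := i + 1)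
  rw [eq_bot_iff, ← hi]
  exact hL i

/-- Let G be a finite solvable group and N a normal subgroup of G. Call a pair V < U of normal subgroups of G a chief factor of G when no normal subgroup of G lies strictly between them; an element g centralizes the chief factor U/V when u g u⁻¹ g⁻¹ ∈ V for all u ∈ U. Then an element of G lies in the Fitting subgroup F(N) if and only if it lies in N and centralizes every chief factor of G; and also if and only if it lies in N and centralizes every chief factor U/V of G with U ≤ F(N). -/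
theorem result {G : Type*} [Group G] [Finite G] (hG : Group.IsSolvable G) (N : Subgroup G) [N.Normal] (g : G) : (g ∈ (Cfsg.fittingSubgroup ↥N).map N.subtype ↔ g ∈ N ∧ ∀ U V : Subgroup G, (U.Normal ∧ V.Normal ∧ V < U ∧ ∀ W : Subgroup G, W.Normal → V ≤ W → W ≤ U → W = V ∨ W = U) → ∀ u ∈ U, u * g * u⁻¹ * g⁻¹ ∈ V) ∧ (g ∈ (Cfsg.fittingSubgroup ↥N).map N.subtype ↔ g ∈ N ∧ ∀ U V : Subgroup G, (U.Normal ∧ V.Normal ∧ V < U ∧ ∀ W : Subgroup G, W.Normal → V ≤ W → W ≤ U → W = V ∨ W = U) → U ≤ (Cfsg.fittingSubgroup ↥N).map N.subtype → ∀ u ∈ U, u * g * u⁻¹ * g⁻¹ ∈ V) := by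
  set F := (Cfsg.fittingSubgroup ↥N).map N.subtype with hFdef
  have hchar := fitting_char ↥N
  have hFnormal : F.Normal := ConjAct.normal_of_characteristic_of_normal
  have hnil := (fitting_mem ↥N).2
  have hFnil : ∃ n, F.lowerCentralSeries n = ⊥ :=
    (Subgroup.isNilpotent_iff_lowerCentralSeries F).1
      (Group.nilpotent_of_mulEquiv
        (Subgroup.equivMapOfInjective _ N.subtype N.subtype_injective))
  have hFN : F ≤ N := Subgroup.map_subtype_le _
  have hFmax : ∀ E : Subgroup G, E.Normal → E ≤ N → Group.IsNilpotent E → E ≤ F := by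
    intro E hEn hEN hEnil
    have h1 : E.subgroupOf N ≤ Cfsg.fittingSubgroup ↥N := by
      apply le_sSup
      exact ⟨inferInstance, Group.nilpotent_of_mulEquiv (Subgroup.subgroupOfEquivOfLe hEN).symm⟩
    have h2 := Subgroup.map_mono (f := N.subtype) h1
    rwa [Subgroup.map_subgroupOf_eq_of_le hEN] at h2
  have d1 : g ∈ F → g ∈ N ∧ ∀ U V : Subgroup G, (U.Normal ∧ V.Normal ∧ V < U ∧
      ∀ W : Subgroup G, W.Normal → V ≤ W → W ≤ U → W = V ∨ W = U) →
      ∀ u ∈ U, u * g * u⁻¹ * g⁻¹ ∈ V := by
    intro hgF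
    refine ⟨hFN hgF, ?_⟩
    intro U V h u hu
    have hUn := h.1
    have hVn := h.2.1
    have h1 := dir1 F hFnil U V h.2.2.1 h.2.2.2
    have h2 : ⁅u, g⁆ ∈ ⁅U, F⁆ := Subgroup.commutator_mem_commutator hu hgF
    have h3 := h1 h2
    rwa [commutatorElement_def] at h3
  have d3 := dir3 hG N F hFmax g
  exact ⟨⟨d1, fun h => d3 h.1 (fun U V hc _ => h.2 U V hc)⟩,
    ⟨fun h => ⟨(d1 h).1, fun U V hc _ => (d1 h).2 U V hc⟩, fun h => d3 h.1 h.2⟩⟩

end Cfsg.Agent.S3766
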