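import Mathlib
import Cfsg.Statements.S3497
import Cfsg.Agent.S3494
import Cfsg.Agent.S3766

set_option autoImplicit false
open Cfsg

namespace Cfsg.Agent.S3497

open MulAction

section abs

variable {H : Type*} [Group H] {X : Type*} [MulAction H X]

theorem trans_of_normal (ω : X) (hA : IsPreprimitive H (orbit H ω))
    (hB : ∀ h : H, (∀ x ∈ orbit H ω, h • x = x) → h = 1)
    (K : Subgroup H) [K.Normal] (hK : K ≠ ⊥) : ∀ σ ∈ orbit H ω, ∃ k ∈ K, k • ω = σ := by
  have h1 : ∃ k ∈ K, k ≠ 1 := by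
    by_contra h
    push Not at h
    exact hK ((Subgroup.eq_bot_iff_forall K).mpr h)
  obtain ⟨k, hk, hk1⟩ := h1
  have h2 : ∃ x ∈ orbit H ω, k • x ≠ x := by
    by_contra h
    push Not at h
    exact hk1 (hB k h)
  obtain ⟨x, ⟨h, rfl⟩, hx⟩ := h2
  have hmem : h⁻¹ * k * h ∈ K := by
    have := (inferInstance : K.Normal).conj_mem k hk h⁻¹
    rwa [inv_inv] at this
  refine Cfsg.Agent.S3494.trans_of_moves ω hA K (h⁻¹ * k * h) hmem ?_
  intro h3
  apply hx
  have h4 : h • ((h⁻¹ * k * h) • ω) = h • ω := by rw [h3]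
  rw [← mul_smul] at h4
  have h5 : h * (h⁻¹ * k * h) = k * h := by group
  rw [h5, mul_smul] at h4
  exact h4

theorem eq_one_of_comm (ω : X) (hA : IsPreprimitive H (orbit H ω))
    (hB : ∀ h : H, (∀ x ∈ orbit H ω, h • x = x) → h = 1)
    (K : Subgroup H) [K.Normal] (hK : K ≠ ⊥) (c : H) (hc : ∀ k ∈ K, c * k = k * c)
    (hcω : c • ω = ω) : c = 1 := by
  apply hB
  intro σ hσ
  obtain ⟨k, hk, rfl⟩ := trans_of_normal ω hA hB K hK σ hσ
  rw [← mul_smul, hc k hk, mul_smul, hcω]

theorem mem_of_comm (ω : X) (hA : IsPreprimitive H (orbit H ω))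
    (hB : ∀ h : H, (∀ x ∈ orbit H ω, h • x = x) → h = 1)
    (K : Subgroup H) [K.Normal] (hK : K ≠ ⊥) (hKab : ∀ a ∈ K, ∀ b ∈ K, a * b = b * a)
    (c : H) (hc : ∀ k ∈ K, c * k = k * c) : c ∈ K := by
  obtain ⟨k, hk, hkc⟩ := trans_of_normal ω hA hB K hK (c • ω) ⟨c, rfl⟩
  have h1 : k⁻¹ * c = 1 := by
    apply eq_one_of_comm ω hA hB K hK
    · intro k' hk'
      rw [mul_assoc, hc k' hk', ← mul_assoc, ← mul_assoc, hKab _ (K.inv_mem hk) _ hk']
    · rw [mul_smul, ← hkc, inv_smul_smul]
  have h2 : c = k := by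
    have := congrArg (fun t => k * t) h1
    simpa using this
  rw [h2]
  exact hk

theorem prime_of_bot_coatom [Finite H] (h : IsCoatom (⊥ : Subgroup H)) : (Nat.card H).Prime := by
  have hnt : Nontrivial H := by
    by_contra hn
    rw [not_nontrivial_iff_subsingleton] at hn
    exact h.1 (Subsingleton.elim _ _)
  have h1 : Nat.card H ≠ 1 := by
    intro h1
    have := (Nat.card_eq_one_iff_unique.mp h1).1
    exact not_subsingleton H this
  have hq : (Nat.card H).minFac.Prime := Nat.minFac_prime h1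
  have hqf : Fact (Nat.card H).minFac.Prime := ⟨hq⟩
  obtain ⟨x, hx⟩ := exists_prime_orderOf_dvd_card' (Nat.card H).minFac (Nat.minFac_dvd _)
  have hx1 : x ≠ 1 := by
    intro h2
    rw [h2, orderOf_one] at hx
    rw [← hx] at hq
    exact Nat.not_prime_one hq
  have hz : Subgroup.zpowers x = ⊤ := by
    apply h.2
    rw [bot_lt_iff_ne_bot]
    intro h2
    apply hx1
    have : x ∈ Subgroup.zpowers x := Subgroup.mem_zpowers x
    rw [h2] at this
    exact Subgroup.mem_bot.mp this
  have hc : Nat.card H = orderOf x := by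
    rw [← Nat.card_zpowers, hz, Subgroup.card_top]
  rw [hc, hx]
  exact hq

theorem center_eq_bot [Finite H] (ω : X) (hA : IsPreprimitive H (orbit H ω))
    (hB : ∀ h : H, (∀ x ∈ orbit H ω, h • x = x) → h = 1) (hH1 : Nontrivial H)
    (hHp : ¬ (Nat.card H).Prime) : Subgroup.center H = ⊥ := by
  by_contra hne
  have hstab : ∀ c : H, c • ω = ω → c = 1 := by
    intro c hc
    exact eq_one_of_comm ω hA hB (Subgroup.center H) hne c
      (fun k hk => (Subgroup.mem_center_iff.mp hk c)) hc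
  obtain ⟨h, hh1⟩ := exists_ne (1 : H)
  have h2 : ∃ x ∈ orbit H ω, h • x ≠ x := by
    by_contra hc
    push Not at hc
    exact hh1 (hB h hc)
  obtain ⟨x, hx, hxne⟩ := h2
  have hnt : Nontrivial (orbit H ω) :=
    ⟨⟨(⟨x, hx⟩ : orbit H ω), h • (⟨x, hx⟩ : orbit H ω),
      fun e => hxne (congrArg Subtype.val e).symm⟩⟩
  have hco := IsPreprimitive.isCoatom_stabilizer_of_isPreprimitive H
    (⟨ω, mem_orbit_self ω⟩ : orbit H ω)
  have hst : stabilizer H (⟨ω, mem_orbit_self ω⟩ : orbit H ω) = ⊥ := by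
    rw [Subgroup.eq_bot_iff_forall]
    intro c hc
    apply hstab
    rw [mem_stabilizer_iff] at hc
    exact congrArg Subtype.val hc
  rw [hst] at hco
  exact hHp (prime_of_bot_coatom hco)

theorem card_dvd [Fintype X] (F : Subgroup H) (α : X) (hα : ∀ f ∈ F, f • α = α)
    (hfree : ∀ ω : X, ω ≠ α → ∀ f ∈ F, f • ω = ω → f = 1) :
    Nat.card F ∣ Fintype.card X - 1 := by
  classical
  let S : SubMulAction F X :=
    { carrier := {ω | ω ≠ α}
      smul_mem' := by
        intro f ω hω h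
        apply hω
        have h1 : (f : H) • ω = (f : H) • α := by
          rw [hα f f.2]
          exact h
        exact smul_left_cancel (f : H) h1 }
  have hstab : ∀ b : S, stabilizer F b = ⊥ := by
    intro b
    rw [Subgroup.eq_bot_iff_forall]
    intro f hf
    have h1 : (f : H) • (b : X) = b := by
      have := congrArg Subtype.val (mem_stabilizer_iff.mp hf)
      exact this
    exact Subtype.ext (hfree b b.2 f f.2 h1)
  have e := MulAction.selfEquivOrbitsQuotientProd hstab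
  have hc : Nat.card S = Nat.card (Quotient (orbitRel F S)) * Nat.card F := by
    rw [Nat.card_congr e, Nat.card_prod]
  have hS : Nat.card S = Fintype.card X - 1 := by
    have h1 : Nat.card S = Set.ncard ({α}ᶜ : Set X) := by
      rw [← Nat.card_coe_set_eq]
      rfl
    rw [h1, Set.ncard_compl, Set.ncard_singleton, Nat.card_eq_fintype_card]
  rw [← hS, hc]
  exact dvd_mul_left _ _

end abs

open scoped IsMulCommutative in
theorem gl_of_comm {M : Type*} [Group M] [IsMulCommutative M] [Finite M] (p e : ℕ)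
    [Fact p.Prime] (hexp : ∀ x : M, x ^ p = 1) (hcard : Nat.card M = p ^ e) :
    ∃ Φ : MulAut M →* GL (Fin e) (ZMod p), Function.Injective Φ := by
  obtain ⟨inst⟩ : Nonempty (Module (ZMod p) (Additive M)) :=
    ⟨AddCommGroup.zmodModule (n := p) (fun x => by
      show Additive.ofMul (Additive.toMul x ^ p) = 0
      rw [hexp]; rfl)⟩
  let cA : MulAut M → Module.End (ZMod p) (Additive M) := fun σ =>
    (MonoidHom.toAdditive σ.toMonoidHom).toZModLinearMap p
  have hcA : ∀ (σ : MulAut M) (x : Additive M),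
      cA σ x = Additive.ofMul (σ (Additive.toMul x)) := fun σ x => rfl
  let ψ : MulAut M →* Module.End (ZMod p) (Additive M) :=
    { toFun := cA
      map_one' := by
        ext x
        rw [hcA]
        rfl
      map_mul' := by
        intro a b
        ext x
        rw [hcA]
        rfl }
  have hψ : ∀ (σ : MulAut M) (x : Additive M),
      ψ σ x = Additive.ofMul (σ (Additive.toMul x)) := fun σ x => rfl
  have hfin : Module.finrank (ZMod p) (Additive M) = e := by
    have h1 : Nat.card (Additive M) = p ^ Module.finrank (ZMod p) (Additive M) := by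
      rw [Module.natCard_eq_pow_finrank (K := ZMod p), Nat.card_zmod]
    rw [Nat.card_congr Additive.toMul, hcard] at h1
    exact (Nat.pow_right_injective (Fact.out : p.Prime).two_le h1).symm
  let b := Module.finBasisOfFinrankEq (ZMod p) (Additive M) hfin
  let T := LinearMap.toMatrixAlgEquiv b
  refine ⟨(Units.mapEquiv T.toRingEquiv.toMulEquiv).toMonoidHom.comp ψ.toHomUnits, ?_⟩
  intro σ τ hστ
  have h1 : ψ.toHomUnits σ = ψ.toHomUnits τ :=
    (Units.mapEquiv T.toRingEquiv.toMulEquiv).injective hστ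
  have h2 : ψ σ = ψ τ := congrArg Units.val h1
  ext x
  have h3 := congrArg (fun E : Module.End (ZMod p) (Additive M) => E (Additive.ofMul x)) h2
  simp only [hψ] at h3
  exact Additive.ofMul.injective h3

section abs2

variable {H : Type*} [Group H] {X : Type*} [MulAction H X]

theorem abelian_of_nilpotent (ω : X) (hA : IsPreprimitive H (orbit H ω))
    (hB : ∀ h : H, (∀ x ∈ orbit H ω, h • x = x) → h = 1)
    (F : Subgroup H) [F.Normal] (hnil : ∃ n, F.lowerCentralSeries n = ⊥) (hF : F ≠ ⊥) :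
    (∀ a ∈ F, ∀ b ∈ F, a * b = b * a) ∧ (∀ c : H, (∀ f ∈ F, c * f = f * c) → c ∈ F) := by
  have hZ : F ⊓ Subgroup.centralizer (F : Set H) ≠ ⊥ :=
    Cfsg.Agent.S3766.inf_centralizer_ne_bot F F hnil le_rfl hF (Subgroup.commutator_le_left F F)
  have hZn : (F ⊓ Subgroup.centralizer (F : Set H)).Normal := inferInstance
  have hZab : ∀ a ∈ F ⊓ Subgroup.centralizer (F : Set H),
      ∀ b ∈ F ⊓ Subgroup.centralizer (F : Set H), a * b = b * a := by
    intro a ha b hb
    exact Subgroup.mem_centralizer_iff.mp hb.2 a ha.1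
  have hmem := mem_of_comm ω hA hB _ hZ hZab
  have hFZ : ∀ f ∈ F, f ∈ F ⊓ Subgroup.centralizer (F : Set H) := by
    intro f hf
    apply hmem
    intro z hz
    exact Subgroup.mem_centralizer_iff.mp hz.2 f hf
  constructor
  · intro a ha b hb
    exact hZab a (hFZ a ha) b (hFZ b hb)
  · intro c hc
    exact (hmem c (fun z hz => hc z hz.1)).1

theorem exponent_p [Finite H] (ω : X) (hA : IsPreprimitive H (orbit H ω))
    (hB : ∀ h : H, (∀ x ∈ orbit H ω, h • x = x) → h = 1)
    (F : Subgroup H) [F.Normal] (hF : F ≠ ⊥) (hab : ∀ a ∈ F, ∀ b ∈ F, a * b = b * a) :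
    ∃ p : ℕ, p.Prime ∧ ∀ x ∈ F, x ^ p = 1 := by
  have hc1 : Nat.card F ≠ 1 := fun h => hF (Subgroup.card_eq_one.mp h)
  obtain ⟨p, hpdef⟩ : ∃ p, p = (Nat.card F).minFac := ⟨_, rfl⟩
  have hp : p.Prime := by rw [hpdef]; exact Nat.minFac_prime hc1
  have hpf : Fact p.Prime := ⟨hp⟩
  refine ⟨p, hp, ?_⟩
  obtain ⟨Fp, hFp⟩ : ∃ Fp : Subgroup H, ∀ x, x ∈ Fp ↔ (x ∈ F ∧ x ^ p = 1) :=
    ⟨{ carrier := {x | x ∈ F ∧ x ^ p = 1}
       one_mem' := ⟨F.one_mem, one_pow _⟩
       mul_mem' := by
         rintro a b ⟨ha, ha1⟩ ⟨hb, hb1⟩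
         refine ⟨F.mul_mem ha hb, ?_⟩
         have hcm : Commute a b := hab a ha b hb
         rw [hcm.mul_pow, ha1, hb1, one_mul]
       inv_mem' := by
         rintro a ⟨ha, ha1⟩
         exact ⟨F.inv_mem ha, by rw [inv_pow, ha1, inv_one]⟩ }, fun x => Iff.rfl⟩
  have hFpn : Fp.Normal := by
    constructor
    intro n hn g
    rw [hFp] at hn ⊢
    refine ⟨(inferInstance : F.Normal).conj_mem n hn.1 g, ?_⟩
    rw [conj_pow, hn.2]
    group
  have hFpne : Fp ≠ ⊥ := by
    obtain ⟨x, hx⟩ := exists_prime_orderOf_dvd_card' (G := F) p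
      (by rw [hpdef]; exact Nat.minFac_dvd _)
    intro h
    have hxmem : (x : H) ∈ Fp := by
      rw [hFp]
      refine ⟨x.2, ?_⟩
      rw [← Subgroup.coe_pow, ← hx, pow_orderOf_eq_one]
      rfl
    rw [h, Subgroup.mem_bot] at hxmem
    have hx1 : x = 1 := Subtype.ext hxmem
    rw [hx1, orderOf_one] at hx
    rw [← hx] at hp
    exact Nat.not_prime_one hp
  intro x hx
  obtain ⟨y, hy, hyx⟩ := trans_of_normal ω hA hB Fp hFpne (x • ω) ⟨x, rfl⟩
  rw [hFp] at hy
  have h1 : y⁻¹ * x = 1 := by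
    apply eq_one_of_comm ω hA hB F hF
    · intro k hk
      exact hab _ (F.mul_mem (F.inv_mem hy.1) hx) k hk
    · rw [mul_smul, ← hyx, inv_smul_smul]
  have h2 : x = y := by
    have := congrArg (fun t => y * t) h1
    simpa using this
  rw [h2]
  exact hy.2

end abs2

theorem core {H : Type*} [Group H] [Finite H] {X : Type*} [Fintype X] [MulAction H X]
    (α : X) (hfixα : ∀ h : H, h • α = α)
    (hA : ∀ ω : X, IsPreprimitive H (orbit H ω))
    (hB : ∀ ω : X, ω ≠ α → ∀ h : H, (∀ x ∈ orbit H ω, h • x = x) → h = 1)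
    (ω₀ : X) (hω₀ : ω₀ ≠ α)
    (hH1 : Nontrivial H) (hHp : ¬ (Nat.card H).Prime) :
    Subgroup.center H = ⊥ ∧ IsMulCommutative (Cfsg.fittingSubgroup H) ∧
    ∃ p e : ℕ, p.Prime ∧ Nat.card (Cfsg.fittingSubgroup H) = p ^ e ∧
      (∀ x ∈ Cfsg.fittingSubgroup H, x ^ p = 1) ∧
      (Cfsg.fittingSubgroup H ≠ ⊥ → p ^ e ∣ Fintype.card X - 1 ∧
        ∃ φ : H →* GL (Fin e) (ZMod p), φ.ker = Cfsg.fittingSubgroup H) := by
  refine ⟨center_eq_bot ω₀ (hA ω₀) (hB ω₀ hω₀) hH1 hHp, ?_⟩
  obtain ⟨hFn, hFnil⟩ := Cfsg.Agent.S3766.fitting_mem H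
  obtain ⟨F, hFdef⟩ : ∃ F, F = Cfsg.fittingSubgroup H := ⟨_, rfl⟩
  rw [← hFdef] at hFn hFnil ⊢
  by_cases hF : F = ⊥
  · have h1 : ∀ x ∈ F, x = 1 := (Subgroup.eq_bot_iff_forall F).mp hF
    refine ⟨⟨⟨fun a b => Subtype.ext ?_⟩⟩, 2, 0, Nat.prime_two, ?_, ?_, fun h => absurd hF h⟩
    · rw [Subgroup.coe_mul, Subgroup.coe_mul, h1 a a.2, h1 b b.2]
    · rw [pow_zero]
      exact Subgroup.card_eq_one.mpr hF
    · intro x hx
      rw [h1 x hx, one_pow]
  · obtain ⟨hab, hself⟩ := abelian_of_nilpotent ω₀ (hA ω₀) (hB ω₀ hω₀) F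
      ((Subgroup.isNilpotent_iff_lowerCentralSeries F).mp hFnil) hF
    obtain ⟨p, hp, hexp⟩ := exponent_p ω₀ (hA ω₀) (hB ω₀ hω₀) F hF hab
    have hpf : Fact p.Prime := ⟨hp⟩
    have hpg : IsPGroup p F := fun x => ⟨1, by rw [pow_one]; exact Subtype.ext (hexp x x.2)⟩
    obtain ⟨e, he⟩ := (IsPGroup.iff_card).mp hpg
    have hcomm : IsMulCommutative F := ⟨⟨fun a b => Subtype.ext (hab a a.2 b b.2)⟩⟩
    refine ⟨hcomm, p, e, hp, he, hexp, fun _ => ⟨?_, ?_⟩⟩
    · rw [← he]
      exact card_dvd F α (fun f _ => hfixα f) (fun ω hω f hf hfω =>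
        eq_one_of_comm ω (hA ω) (hB ω hω) F hF f (fun k hk => hab f hf k hk) hfω)
    · obtain ⟨Φ, hΦ⟩ := gl_of_comm (M := F) p e (fun x => Subtype.ext (hexp x x.2)) he
      refine ⟨Φ.comp (MulAut.conjNormal (H := F)), ?_⟩
      ext h
      rw [MonoidHom.mem_ker, MonoidHom.comp_apply]
      constructor
      · intro hh
        have h1 : (MulAut.conjNormal h : MulAut F) = 1 := hΦ (by rw [hh, map_one])
        apply hself
        intro f hf
        have h2 := congrArg (fun σ : MulAut F => ((σ ⟨f, hf⟩ : F) : H)) h1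
        simp only [MulAut.conjNormal_apply, MulAut.one_apply] at h2
        calc h * f = h * f * h⁻¹ * h := by group
          _ = f * h := by rw [h2]
      · intro hh
        have h1 : (MulAut.conjNormal h : MulAut F) = 1 := by
          ext x
          rw [MulAut.conjNormal_apply, MulAut.one_apply, hab h hh x x.2]
          group
        rw [h1, map_one]

/-- Restrictions on the point stabilizer of an extremely primitive group. Let a finite group G act faithfully and primitively on a finite set Ω with point stabilizers H = G_α whose order is neither 1 nor a prime, each acting primitively on every one of its orbits. Then H has trivial center, the Fitting subgroup F(H) is an elementary abelian p-group for some prime p, and if F(H) ≠ 1 has order p ^ e then p ^ e divides the number of points minus one and H / F(H) embeds in GL_e(p) (there is a homomorphism from H to GL_e(p) with kernel exactly F(H)). -/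
theorem result {G : Type*} [Group G] [Finite G] {Ω : Type*} [Fintype Ω] [MulAction G Ω] [FaithfulSMul G Ω] (hprim : MulAction.IsPreprimitive G Ω) (hep : ∀ (α : Ω) (ω : Ω), MulAction.IsPreprimitive (MulAction.stabilizer G α) (MulAction.orbit (MulAction.stabilizer G α) ω)) (α : Ω)
    (hH1 : MulAction.stabilizer G α ≠ ⊥) (hHp : ¬ (Nat.card (MulAction.stabilizer G α)).Prime) :
    Subgroup.center (MulAction.stabilizer G α) = ⊥ ∧
    IsMulCommutative (Cfsg.fittingSubgroup (MulAction.stabilizer G α)) ∧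
    ∃ p e : ℕ, p.Prime ∧ Nat.card (Cfsg.fittingSubgroup (MulAction.stabilizer G α)) = p ^ e ∧
      (∀ x ∈ Cfsg.fittingSubgroup (MulAction.stabilizer G α), x ^ p = 1) ∧
      (Cfsg.fittingSubgroup (MulAction.stabilizer G α) ≠ ⊥ →
        p ^ e ∣ Fintype.card Ω - 1 ∧
        ∃ φ : MulAction.stabilizer G α →* GL (Fin e) (ZMod p), φ.ker = Cfsg.fittingSubgroup (MulAction.stabilizer G α)) := by
  have htr : IsPretransitive G Ω := hprim.toIsPretransitive
  have hH : ∀ β : Ω, stabilizer G β ≠ ⊥ := by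
    intro β
    obtain ⟨g, rfl⟩ := exists_smul_eq G α β
    intro hbot
    apply hH1
    rw [Subgroup.eq_bot_iff_forall] at hbot ⊢
    intro x hx
    have h1 : g * x * g⁻¹ ∈ stabilizer G (g • α) := by
      rw [mem_stabilizer_iff, mul_smul, mul_smul, inv_smul_smul, mem_stabilizer_iff.mp hx]
    have h2 := hbot _ h1
    have h3 : x = g⁻¹ * (g * x * g⁻¹) * g := by group
    rw [h3, h2]
    group
  obtain ⟨g, hg, hg1⟩ : ∃ g ∈ stabilizer G α, g ≠ 1 := by
    by_contra h
    push Not at h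
    exact hH1 ((Subgroup.eq_bot_iff_forall _).mpr h)
  obtain ⟨ω₀, hω₀⟩ : ∃ ω, g • ω ≠ ω := by
    by_contra h
    push Not at h
    exact hg1 (FaithfulSMul.eq_of_smul_eq_smul (α := Ω) (fun ω => by rw [h ω, one_smul]))
  have hω₀α : ω₀ ≠ α := by
    rintro rfl
    exact hω₀ (mem_stabilizer_iff.mp hg)
  have hnt : Nontrivial (stabilizer G α) := (Subgroup.nontrivial_iff_ne_bot _).mpr hH1
  exact core (H := stabilizer G α) α (fun h => h.2) (hep α)
    (fun ω hω h hfix => Cfsg.Agent.S3494.result hprim hH hep α ω hω h hfix) ω₀ hω₀α hnt hHp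

end Cfsg.Agent.S3497
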