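import Mathlib
import Cfsg.Statements.S3498
import Cfsg.Agent.Lib.Helper64.Socle

set_option autoImplicit false
open Cfsg

namespace Cfsg.Agent.S3498

open Cfsg.Agent.Lib.Helper64

theorem no_normal_pgroup {G : Type*} [Group G] [Finite G] (T : Subgroup G) [T.Normal]
    (hT : IsSimpleGroup T) (hTc : ¬ IsMulCommutative T)
    (hC : Subgroup.centralizer (T : Set G) = ⊥) (M : Subgroup G) (hMn : M.Normal) (q : ℕ)
    [Fact q.Prime] (hM : IsPGroup q M) : M = ⊥ := by
  have hn : (M.subgroupOf T).Normal := hMn.subgroupOf T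
  rcases hT.eq_bot_or_eq_top_of_normal _ hn with h | h
  · rw [Subgroup.subgroupOf_eq_bot] at h
    have hle : M ≤ Subgroup.centralizer (T : Set G) := by
      intro m hm
      rw [Subgroup.mem_centralizer_iff]
      intro t ht
      exact (Subgroup.commute_of_normal_of_disjoint M T hMn inferInstance h m t hm ht).symm.eq
    rw [hC] at hle
    exact le_bot_iff.mp hle
  · rw [Subgroup.subgroupOf_eq_top] at h
    exfalso
    have hTp : IsPGroup q T := hM.to_le h
    have hnt : Nontrivial T := hT.toNontrivial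
    have hcn : Nontrivial (Subgroup.center T) := hTp.center_nontrivial
    have hct : Subgroup.center T = ⊤ := by
      rcases hT.eq_bot_or_eq_top_of_normal (Subgroup.center T) inferInstance with h1 | h1
      · exfalso
        rw [h1] at hcn
        exact not_nontrivial _ hcn
      · exact h1
    apply hTc
    refine ⟨⟨fun a b => ?_⟩⟩
    have ha : a ∈ Subgroup.center T := by rw [hct]; trivial
    exact (Subgroup.mem_center_iff.mp ha b).symm

/-- A maximal subgroup of a finite almost simple group does not have prime order. Here G is almost simple in the sense that it has a non-abelian simple normal subgroup T with trivial centralizer. -/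
theorem result {G : Type*} [Group G] [Finite G] (T : Subgroup G) [T.Normal] (hT : IsSimpleGroup T) (hTc : ¬ IsMulCommutative T)
    (hC : Subgroup.centralizer (T : Set G) = ⊥) (H : Subgroup G) (hmax : IsCoatom H) : ¬ (Nat.card H).Prime := by
  intro hp
  have hfact : Fact (Nat.card H).Prime := ⟨hp⟩
  obtain ⟨p, hpdef⟩ : ∃ p, p = Nat.card H := ⟨_, rfl⟩
  rw [← hpdef] at hp hfact
  have hHp : IsPGroup p H := IsPGroup.of_card (n := 1) (by rw [pow_one, hpdef])
  have hHne : H ≠ ⊥ := by
    intro h
    rw [h, Subgroup.card_bot] at hpdef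
    rw [hpdef] at hp
    exact Nat.not_prime_one hp
  have L := no_normal_pgroup T hT hTc hC
  by_cases hn : H.Normal
  · exact hHne (L H hn p hHp)
  have hNH : Subgroup.normalizer (H : Set G) = H := by
    by_contra hne
    have hlt : H < Subgroup.normalizer (H : Set G) :=
      lt_of_le_of_ne Subgroup.le_normalizer (fun h => hne h.symm)
    exact hn (Subgroup.normalizer_eq_top_iff.mp (hmax.2 _ hlt))
  obtain ⟨Q, hHQ⟩ := hHp.exists_le_sylow
  have hQH : (Q : Subgroup G) = H := by
    by_contra hne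
    have hnil : Group.IsNilpotent Q := Q.2.isNilpotent
    have hnc := Group.normalizerCondition_of_isNilpotent (G := Q)
    have hlt : H.subgroupOf Q < ⊤ := by
      rw [lt_top_iff_ne_top, Ne, Subgroup.subgroupOf_eq_top]
      intro hle
      exact hne (le_antisymm hle hHQ)
    have h2 := hnc _ hlt
    obtain ⟨x, hxN, hxH⟩ := SetLike.exists_of_lt h2
    apply hxH
    rw [Subgroup.mem_subgroupOf, ← hNH, Subgroup.mem_normalizer_iff]
    intro h
    rw [Subgroup.mem_normalizer_iff] at hxN
    constructor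
    · intro hh
      have := (hxN ⟨h, hHQ hh⟩).mp (by rw [Subgroup.mem_subgroupOf]; exact hh)
      rw [Subgroup.mem_subgroupOf] at this
      exact this
    · intro hh
      have hhQ : h ∈ (Q : Subgroup G) := by
        have h3 : (x : G)⁻¹ * ((x : G) * h * (x : G)⁻¹) * (x : G) ∈ (Q : Subgroup G) :=
          mul_mem (mul_mem (inv_mem x.2) (hHQ hh)) x.2
        have h4 : (x : G)⁻¹ * ((x : G) * h * (x : G)⁻¹) * (x : G) = h := by group
        rw [h4] at h3
        exact h3
      have := (hxN ⟨h, hhQ⟩).mpr (by rw [Subgroup.mem_subgroupOf]; exact hh)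
      rw [Subgroup.mem_subgroupOf] at this
      exact this
  have hcyc : IsCyclic H := isCyclic_of_prime_card hpdef.symm
  have hQN : Subgroup.normalizer ((Q : Subgroup G) : Set G) ≤ Subgroup.centralizer (Q : Set G) := by
    rw [hQH, hNH]
    intro x hx
    rw [Subgroup.mem_centralizer_iff]
    intro h hh
    have hh' : h ∈ H := by rw [← hQH]; exact hh
    have hc := (IsCyclic.commGroup (α := H)).mul_comm ⟨h, hh'⟩ ⟨x, hx⟩
    exact congrArg Subtype.val hc
  have hcomp := MonoidHom.ker_transferSylow_isComplement' Q hQN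
  obtain ⟨K, hKdef⟩ : ∃ K, K = (MonoidHom.transferSylow Q hQN).ker := ⟨_, rfl⟩
  rw [← hKdef, hQH] at hcomp
  have hKn : K.Normal := by rw [hKdef]; infer_instance
  have hdisj : K ⊓ H = ⊥ := disjoint_iff.mp hcomp.disjoint
  have hsup : K ⊔ H = ⊤ := hcomp.sup_eq_top
  have hidx : K.index = p := by rw [hpdef]; exact hcomp.symm.index_eq_card
  have hKb : K ≠ ⊥ := by
    intro h
    rw [h, bot_sup_eq] at hsup
    exact hmax.1 hsup
  have hK1 : Nat.card K ≠ 1 := by
    intro h
    exact hKb (Subgroup.card_eq_one.mp h)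
  obtain ⟨r, hr⟩ : ∃ r, r = (Nat.card K).minFac := ⟨_, rfl⟩
  have hrp : r.Prime := by rw [hr]; exact Nat.minFac_prime hK1
  have hrfact : Fact r.Prime := ⟨hrp⟩
  have hrdvd : r ∣ Nat.card K := by rw [hr]; exact Nat.minFac_dvd _
  obtain ⟨R⟩ : Nonempty (Sylow r K) := inferInstance
  have hRne : (R : Subgroup K) ≠ ⊥ := R.ne_bot_of_dvd_card hrdvd
  obtain ⟨R', hR'⟩ : ∃ R' : Subgroup G, R' = (R : Subgroup K).map K.subtype := ⟨_, rfl⟩
  have hfrat : Subgroup.normalizer (R' : Set G) ⊔ K = ⊤ := by
    rw [hR']; exact Sylow.normalizer_sup_eq_top R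
  have hR'K : R' ≤ K := by
    rw [hR']
    intro y hy
    obtain ⟨z, -, rfl⟩ := Subgroup.mem_map.mp hy
    exact z.2
  have hR'ne : R' ≠ ⊥ := by
    rw [hR']
    intro h
    exact hRne ((Subgroup.map_eq_bot_iff_of_injective _ K.subtype_injective).mp h)
  have hR'p : IsPGroup r R' := by rw [hR']; exact R.2.map K.subtype
  have hpN : p ∣ Nat.card (Subgroup.normalizer (R' : Set G)) := by
    have h1 := Subgroup.relIndex_sup_right (H := Subgroup.normalizer (R' : Set G)) (K := K)
    rw [hfrat, Subgroup.relIndex_top_right, hidx] at h1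
    rw [h1]
    exact Subgroup.relIndex_dvd_card _ _
  obtain ⟨x, hx⟩ := exists_prime_orderOf_dvd_card' p hpN
  have hxo : orderOf (x : G) = p := by rw [Subgroup.orderOf_coe]; exact hx
  have hzp : IsPGroup p (Subgroup.zpowers (x : G)) :=
    IsPGroup.of_card (n := 1) (by rw [pow_one, Nat.card_zpowers, hxo])
  obtain ⟨Q', hQ'⟩ := hzp.exists_le_sylow
  have hcQ : Nat.card (Q' : Subgroup G) = p := by
    rw [Q'.card_eq_multiplicity, ← Q.card_eq_multiplicity, hQH, hpdef]
  have hzQ : Subgroup.zpowers (x : G) = (Q' : Subgroup G) := by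
    apply Subgroup.eq_of_le_of_card_ge hQ'
    rw [hcQ, Nat.card_zpowers, hxo]
  obtain ⟨g, hg⟩ := MulAction.exists_smul_eq G Q' Q
  have hHg : ∀ h ∈ H, g⁻¹ * h * g ∈ Subgroup.normalizer (R' : Set G) := by
    intro h hh
    have h1 : h ∈ ((g • Q' : Sylow p G) : Subgroup G) := by rw [hg, hQH]; exact hh
    rw [Sylow.coe_subgroup_smul, Subgroup.mem_pointwise_smul_iff_inv_smul_mem, MulAut.smul_def,
      MulAut.conj_inv_apply, ← hzQ] at h1
    exact (Subgroup.zpowers_le.mpr x.2) h1
  have hR''K : cj g R' ≤ K := by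
    intro y hy
    rw [mem_cj] at hy
    have h1 := hKn.conj_mem _ (hR'K hy) g
    have h2 : g * (g⁻¹ * y * g) * g⁻¹ = y := by group
    rw [h2] at h1
    exact h1
  have hR''ne : cj g R' ≠ ⊥ := by
    intro h
    apply hR'ne
    rw [eq_bot_iff]
    intro t ht
    have h1 : g * t * g⁻¹ ∈ cj g R' := conj_mem_cj ht
    rw [h, Subgroup.mem_bot] at h1
    rw [Subgroup.mem_bot]
    have h2 : t = g⁻¹ * (g * t * g⁻¹) * g := by group
    rw [h2, h1]; group
  have hR''p : IsPGroup r (cj g R') := hR'p.map _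
  have hHnorm : H ≤ Subgroup.normalizer ((cj g R' : Subgroup G) : Set G) := by
    intro h hh
    rw [Subgroup.mem_normalizer_iff]
    intro y
    rw [mem_cj, mem_cj]
    have h1 := Subgroup.mem_normalizer_iff.mp (hHg h hh) (g⁻¹ * y * g)
    have h2 : g⁻¹ * h * g * (g⁻¹ * y * g) * (g⁻¹ * h * g)⁻¹ = g⁻¹ * (h * y * h⁻¹) * g := by group
    rw [h2] at h1
    exact h1
  have hlt : H < cj g R' ⊔ H := by
    refine lt_of_le_of_ne le_sup_right (fun heq => ?_)
    have h1 : cj g R' ≤ H := by rw [heq]; exact le_sup_left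
    have h2 : cj g R' ≤ K ⊓ H := le_inf hR''K h1
    rw [hdisj] at h2
    exact hR''ne (le_bot_iff.mp h2)
  have htop := hmax.2 _ hlt
  have hnormal : (cj g R').Normal := by
    rw [← Subgroup.normalizer_eq_top_iff, eq_top_iff, ← htop]
    exact sup_le Subgroup.le_normalizer hHnorm
  exact hR''ne (L _ hnormal r hR''p)

end Cfsg.Agent.S3498
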