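import Cfsg.Statements.S3548
import Cfsg.Agent.S3546
import Mathlib

set_option autoImplicit false
open Cfsg

namespace Cfsg.Agent.S3548

open MulAction

/-- If all orbits inside an invariant set have size divisible by `k`, so has the set. -/
theorem dvd_ncard_of_dvd_orbits {H Ω : Type*} [Group H] [MulAction H Ω] [Finite Ω] (S : Set Ω)
    (hS : ∀ (h : H) (x : Ω), x ∈ S → h • x ∈ S) (k : ℕ)
    (hk : ∀ x ∈ S, k ∣ (orbit H x).ncard) : k ∣ S.ncard := by
  classical
  let T : SubMulAction H Ω := ⟨S, fun h x hx => hS h x hx⟩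
  have hT : Nat.card T = S.ncard := Nat.card_coe_set_eq S
  rw [← hT]
  have : Finite T := Subtype.finite
  have : Fintype (orbitRel.Quotient H T) := Fintype.ofFinite _
  rw [Nat.card_congr (selfEquivSigmaOrbits H T), Nat.card_sigma]
  apply Finset.dvd_sum
  intro q _
  have h1 : Nat.card (orbit H (Quotient.out q)) = (orbit H ((Quotient.out q : T) : Ω)).ncard := by
    rw [Nat.card_coe_set_eq, ← index_stabilizer, ← index_stabilizer,
      SubMulAction.stabilizer_of_subMul]
  rw [h1]
  exact hk _ (Quotient.out q).2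

theorem two_fixed_card_ne_one {G Ω : Type*} [Group G] [MulAction G Ω] (g : G) (a b : Ω)
    (hab : a ≠ b) (ha : g • a = a) (hb : g • b = b) : Nat.card (fixedBy Ω g) ≠ 1 := by
  intro h
  rw [Nat.card_eq_one_iff_unique] at h
  obtain ⟨h1, _⟩ := h
  have := h1.elim (⟨a, ha⟩ : fixedBy Ω g) ⟨b, hb⟩
  exact hab (congrArg Subtype.val this)

theorem sup_eq_top {G Ω : Type*} [Group G] [MulAction G Ω] (D : Subgroup G)
    (hDt : IsPretransitive D Ω) (α : Ω) : stabilizer G α ⊔ D = ⊤ := by
  rw [eq_top_iff]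
  intro g _
  obtain ⟨d, hd⟩ := hDt.exists_smul_eq α (g • α)
  have h1 : (d : G)⁻¹ * g ∈ stabilizer G α := by
    rw [mem_stabilizer_iff, mul_smul, inv_smul_eq_iff]
    exact hd.symm
  have h2 : g = (d : G) * ((d : G)⁻¹ * g) := by group
  rw [h2]
  exact Subgroup.mul_mem _ (Subgroup.mem_sup_right d.2) (Subgroup.mem_sup_left h1)

theorem index_subgroupOf {G Ω : Type*} [Group G] [MulAction G Ω] (D : Subgroup G) [D.Normal]
    (hDt : IsPretransitive D Ω) (α : Ω) : (D.subgroupOf (stabilizer G α)).index = D.index := by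
  have h1 : D.relIndex (stabilizer G α ⊔ D) = D.relIndex (stabilizer G α) :=
    Subgroup.relIndex_sup_right _ _
  rw [sup_eq_top D hDt α, Subgroup.relIndex_top_right] at h1
  exact h1.symm

theorem stab_le {G Ω : Type*} [Group G] [MulAction G Ω] (D : Subgroup G)
    (hD : ∀ g : G, Nat.card (fixedBy Ω g) ≠ 1 → g ∈ D) (α x : Ω) (hx : x ≠ α) :
    stabilizer (stabilizer G α) x ≤ D.subgroupOf (stabilizer G α) := by
  intro h hh
  rw [Subgroup.mem_subgroupOf]
  apply hD
  have h1 : (h : G) • α = α := h.2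
  have h2 : (h : G) • x = x := hh
  exact two_fixed_card_ne_one _ α x (Ne.symm hx) h1 h2

theorem index_dvd_orbit {G Ω : Type*} [Group G] [MulAction G Ω] (D : Subgroup G) [D.Normal]
    (hDt : IsPretransitive D Ω) (hD : ∀ g : G, Nat.card (fixedBy Ω g) ≠ 1 → g ∈ D)
    (α x : Ω) (hx : x ≠ α) : D.index ∣ (orbit (stabilizer G α) x).ncard := by
  rw [← index_stabilizer, ← index_subgroupOf D hDt α]
  exact Subgroup.index_dvd_of_le (stab_le D hD α x hx)

instance derangementNormal {G Ω : Type*} [Group G] [MulAction G Ω] :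
    (Subgroup.closure {g : G | ∀ ω : Ω, g • ω ≠ ω}).Normal := by
  have h : Subgroup.normalClosure {g : G | ∀ ω : Ω, g • ω ≠ ω} =
      Subgroup.closure {g : G | ∀ ω : Ω, g • ω ≠ ω} := by
    apply le_antisymm
    · apply Subgroup.closure_mono
      intro y hy
      rw [Group.mem_conjugatesOfSet_iff] at hy
      obtain ⟨a, ha, hay⟩ := hy
      rw [isConj_iff] at hay
      obtain ⟨c, rfl⟩ := hay
      intro ω hω
      apply ha (c⁻¹ • ω)
      rw [mul_smul, mul_smul] at hω
      rw [eq_inv_smul_iff]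
      exact hω
    · exact Subgroup.closure_le_normalClosure
  rw [← h]
  exact Subgroup.normalClosure_normal

theorem stab_invariant {G Ω : Type*} [Group G] [MulAction G Ω] (α : Ω)
    (h : stabilizer G α) (x : Ω) (hx : x ∈ ({α} : Set Ω)ᶜ) : h • x ∈ ({α} : Set Ω)ᶜ := by
  intro hh
  apply hx
  rw [Set.mem_singleton_iff] at hh ⊢
  have h1 : (h : G) • x = α := hh
  have h2 : (h : G) • α = α := h.2
  exact smul_left_cancel _ (h1.trans h2.symm)

theorem index_dvd {G Ω : Type*} [Group G] [MulAction G Ω] [Finite Ω] (D : Subgroup G) [D.Normal]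
    (hDt : IsPretransitive D Ω) (hD : ∀ g : G, Nat.card (fixedBy Ω g) ≠ 1 → g ∈ D)
    (α : Ω) : D.index ∣ Nat.card Ω - 1 := by
  have h := dvd_ncard_of_dvd_orbits (H := stabilizer G α) ({α} : Set Ω)ᶜ
    (stab_invariant α) D.index (fun x hx => index_dvd_orbit D hDt hD α x hx)
  rwa [Set.ncard_compl, Set.ncard_singleton] at h

theorem card_group {G Ω : Type*} [Group G] [MulAction G Ω] [Finite G] [Finite Ω]
    [IsPretransitive G Ω] (α : Ω) :
    Nat.card Ω * Nat.card (stabilizer G α) = Nat.card G := by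
  rw [← index_stabilizer_of_transitive G α, mul_comm]
  exact Subgroup.card_mul_index _

theorem card_derangements {G Ω : Type*} [Group G] [MulAction G Ω] [Fintype G] [Finite Ω]
    [IsPretransitive G Ω] [Nonempty Ω] [DecidablePred fun g : G => ∀ ω : Ω, g • ω ≠ ω]
    (hsharp : ∀ α x : Ω, x ≠ α → ∀ g : G, g • α = α → g • x = x → g = 1) :
    (Finset.univ.filter (fun g : G => ∀ ω : Ω, g • ω ≠ ω)).card = Nat.card Ω - 1 := by
  classical
  have hB := Cfsg.Agent.S3546.burnside G Ω
  have horbG : Nat.card (orbitRel.Quotient G Ω) = 1 := by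
    have : Subsingleton (orbitRel.Quotient G Ω) :=
      (pretransitive_iff_subsingleton_quotient G Ω).mp inferInstance
    have : Nonempty (orbitRel.Quotient G Ω) := ⟨Quotient.mk'' (Classical.arbitrary Ω)⟩
    exact Nat.card_unique
  rw [horbG, one_mul] at hB
  have hn : 1 ≤ Nat.card Ω := Nat.card_pos
  have hpt : ∀ g : G, Nat.card (fixedBy Ω g) + (if (∀ ω : Ω, g • ω ≠ ω) then 1 else 0) =
      1 + (if g = 1 then Nat.card Ω - 1 else 0) := by
    intro g
    by_cases hg : g = 1
    · subst hg
      have h1 : Nat.card (fixedBy Ω (1 : G)) = Nat.card Ω := by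
        rw [fixedBy_one_eq_univ]
        exact Nat.card_congr (Equiv.Set.univ Ω)
      have h2 : ¬ (∀ ω : Ω, (1 : G) • ω ≠ ω) := by
        intro h
        exact h (Classical.arbitrary Ω) (one_smul _ _)
      rw [h1, if_neg h2, if_pos rfl]
      omega
    · rw [if_neg hg]
      by_cases hd : ∀ ω : Ω, g • ω ≠ ω
      · rw [if_pos hd]
        have : IsEmpty (fixedBy Ω g) := ⟨fun ω => hd ω.1 ω.2⟩
        rw [Nat.card_of_isEmpty]
      · rw [if_neg hd]
        push Not at hd
        obtain ⟨ω, hω⟩ := hd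
        have h1 : Nat.card (fixedBy Ω g) = 1 := by
          rw [Nat.card_eq_one_iff_unique]
          refine ⟨⟨?_⟩, ⟨⟨ω, hω⟩⟩⟩
          rintro ⟨a, ha⟩ ⟨b, hb⟩
          by_contra hab
          have hab' : b ≠ a := fun h => hab (Subtype.ext h.symm)
          exact hg (hsharp a b hab' g ha hb)
        rw [h1]
  have hsum := Finset.sum_congr (rfl : (Finset.univ : Finset G) = Finset.univ) (fun g _ => hpt g)
  rw [Finset.sum_add_distrib, Finset.sum_add_distrib, hB] at hsum
  simp only [Finset.sum_boole, Finset.sum_ite_eq', Finset.mem_univ, if_true, Finset.sum_const,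
    Finset.card_univ, smul_eq_mul, mul_one, Nat.cast_id] at hsum
  rw [Nat.card_eq_fintype_card] at hsum
  omega

theorem primePow {G Ω : Type*} [Group G] [MulAction G Ω] [Finite G] [Finite Ω]
    [IsPretransitive G Ω] (hn : 2 ≤ Nat.card Ω)
    (hsharp : ∀ α x : Ω, x ≠ α → ∀ g : G, g • α = α → g • x = x → g = 1)
    (hstab : ∀ α : Ω, Nat.card (stabilizer G α) = Nat.card Ω - 1) :
    IsPrimePow (Nat.card Ω) := by
  classical
  have := Fintype.ofFinite G
  have : Nonempty Ω := (Nat.card_pos_iff.mp (by omega)).1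
  obtain ⟨α⟩ := ‹Nonempty Ω›
  have hG : Nat.card Ω * (Nat.card Ω - 1) = Nat.card G := by
    rw [← hstab α]; exact card_group α
  have hp : (Nat.card Ω).minFac.Prime := Nat.minFac_prime (by omega)
  have hpn : (Nat.card Ω).minFac ∣ Nat.card Ω := Nat.minFac_dvd _
  have : Fact (Nat.card Ω).minFac.Prime := ⟨hp⟩
  obtain ⟨x, hx⟩ := exists_prime_orderOf_dvd_card' (G := G) (Nat.card Ω).minFac
    (by rw [← hG]; exact dvd_mul_of_dvd_left hpn _)
  have hxp : x ^ (Nat.card Ω).minFac = 1 := by rw [← hx]; exact pow_orderOf_eq_one x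
  have hxder : ∀ ω : Ω, x • ω ≠ ω := by
    intro ω hω
    have h1 : orderOf x ∣ Nat.card (stabilizer G ω) := by
      have := orderOf_dvd_natCard (⟨x, hω⟩ : stabilizer G ω)
      rwa [← Subgroup.orderOf_coe] at this
    rw [hx, hstab ω] at h1
    have h2 : (Nat.card Ω).minFac ∣ Nat.card Ω - (Nat.card Ω - 1) := Nat.dvd_sub hpn h1
    have h3 : Nat.card Ω - (Nat.card Ω - 1) = 1 := by omega
    rw [h3] at h2
    exact hp.one_lt.ne' (Nat.dvd_one.mp h2)
  have hCfree : ∀ c ∈ Subgroup.centralizer ({x} : Set G), ∀ ω : Ω, c • ω = ω → c = 1 := by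
    intro c hc ω hω
    have hcx : x * c = c * x := hc x (Set.mem_singleton x)
    apply hsharp ω (x • ω) (hxder ω) c hω
    rw [← mul_smul, ← hcx, mul_smul, hω]
  have hCle : Nat.card (Subgroup.centralizer ({x} : Set G)) ≤ Nat.card Ω := by
    apply Nat.card_le_card_of_injective
      (fun c : Subgroup.centralizer ({x} : Set G) => (c : G) • α)
    intro c c' h
    have h' : (c : G) • α = (c' : G) • α := h
    have h1 : (c : G)⁻¹ * c' = 1 :=
      hCfree _ (Subgroup.mul_mem _ (Subgroup.inv_mem _ c.2) c'.2) α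
        (by rw [mul_smul, ← h', inv_smul_smul])
    rw [inv_mul_eq_one] at h1
    exact Subtype.ext h1
  have hclass : Nat.card (orbit (ConjAct G) x) *
      Nat.card (Subgroup.centralizer ({x} : Set G)) = Nat.card G := by
    rw [Subgroup.nat_card_centralizer_nat_card_stabilizer]
    have h1 := Subgroup.card_mul_index (stabilizer (ConjAct G) x)
    rw [index_stabilizer, ← Nat.card_coe_set_eq, mul_comm] at h1
    exact h1
  have hDer := card_derangements (G := G) (Ω := Ω) hsharp
  have hsub : orbit (ConjAct G) x ⊆ {g : G | ∀ ω : Ω, g • ω ≠ ω} := by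
    intro y hy
    rw [ConjAct.mem_orbit_conjAct] at hy
    obtain ⟨c, hc⟩ := isConj_iff.mp hy
    intro ω hω
    apply hxder (c • ω)
    rw [← hc, mul_smul, mul_smul, inv_smul_smul, hω]
  have hDer' : ({g : G | ∀ ω : Ω, g • ω ≠ ω} : Set G).ncard = Nat.card Ω - 1 := by
    rw [← hDer, Set.ncard_eq_toFinset_card', Set.toFinset_ofPred]
  have hle : Nat.card (orbit (ConjAct G) x) ≤ Nat.card Ω - 1 := by
    rw [← hDer', Nat.card_coe_set_eq]
    exact Set.ncard_le_ncard hsub
  have hCn : Nat.card (Subgroup.centralizer ({x} : Set G)) = Nat.card Ω := by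
    by_contra hne
    have hlt : Nat.card (Subgroup.centralizer ({x} : Set G)) < Nat.card Ω :=
      lt_of_le_of_ne hCle hne
    have h1 : Nat.card (orbit (ConjAct G) x) *
        Nat.card (Subgroup.centralizer ({x} : Set G)) <
        Nat.card Ω * (Nat.card Ω - 1) := by
      have h2 : 0 < Nat.card Ω - 1 := by omega
      calc Nat.card (orbit (ConjAct G) x) * Nat.card (Subgroup.centralizer ({x} : Set G))
          ≤ (Nat.card Ω - 1) * Nat.card (Subgroup.centralizer ({x} : Set G)) :=
            Nat.mul_le_mul_right _ hle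
        _ < (Nat.card Ω - 1) * Nat.card Ω := Nat.mul_lt_mul_of_pos_left hlt h2
        _ = Nat.card Ω * (Nat.card Ω - 1) := mul_comm _ _
    rw [hclass, hG] at h1
    exact lt_irrefl _ h1
  have hclassn : Nat.card (orbit (ConjAct G) x) = Nat.card Ω - 1 := by
    rw [hCn, ← hG, mul_comm] at hclass
    exact Nat.eq_of_mul_eq_mul_left (by omega) hclass
  have heq : orbit (ConjAct G) x = {g : G | ∀ ω : Ω, g • ω ≠ ω} := by
    apply Set.eq_of_subset_of_ncard_le hsub
    rw [hDer', ← Nat.card_coe_set_eq, hclassn]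
  have hCp : IsPGroup (Nat.card Ω).minFac (Subgroup.centralizer ({x} : Set G)) := by
    intro c
    refine ⟨1, ?_⟩
    rw [pow_one]
    by_cases hc1 : c = 1
    · rw [hc1, one_pow]
    · have hder : (c : G) ∈ {g : G | ∀ ω : Ω, g • ω ≠ ω} := by
        intro ω hω
        exact hc1 (Subtype.ext (hCfree c c.2 ω hω))
      rw [← heq, ConjAct.mem_orbit_conjAct] at hder
      obtain ⟨d, hd⟩ := isConj_iff.mp hder
      apply Subtype.ext
      rw [Subgroup.coe_pow, Subgroup.coe_one]
      have h1 : (d * (c : G) * d⁻¹) ^ (Nat.card Ω).minFac = 1 := by rw [hd, hxp]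
      rw [conj_pow] at h1
      have h2 : (c : G) ^ (Nat.card Ω).minFac = d⁻¹ * 1 * d := by
        rw [← h1]; group
      rw [h2]; group
  obtain ⟨k, hk⟩ := IsPGroup.iff_card.mp hCp
  rw [hCn] at hk
  refine ⟨(Nat.card Ω).minFac, k, hp.prime, ?_, hk.symm⟩
  by_contra h
  have h0 : k = 0 := by omega
  rw [h0, pow_zero] at hk
  omega

theorem final {G Ω : Type*} [Group G] [MulAction G Ω] [FaithfulSMul G Ω] [Finite G] [Finite Ω]
    [IsPretransitive G Ω] (D : Subgroup G) [D.Normal]
    (hDt : IsPretransitive D Ω) (hD : ∀ g : G, Nat.card (fixedBy Ω g) ≠ 1 → g ∈ D)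
    (hΩ : 2 ≤ Nat.card Ω) :
    D.index ∣ Nat.card Ω - 1 ∧ (D.index = Nat.card Ω - 1 → IsPrimePow (Nat.card Ω)) := by
  classical
  have : Nonempty Ω := (Nat.card_pos_iff.mp (by omega)).1
  refine ⟨index_dvd D hDt hD (Classical.arbitrary Ω), ?_⟩
  intro hidx
  have hipos : 0 < D.index := by omega
  have key : ∀ α x : Ω, x ≠ α →
      stabilizer (stabilizer G α) x = D.subgroupOf (stabilizer G α) := by
    intro α x hx
    apply Subgroup.eq_of_le_of_card_ge (stab_le D hD α x hx)
    have h1 : (stabilizer (stabilizer G α) x).index = (D.subgroupOf (stabilizer G α)).index := by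
      apply Nat.le_antisymm
      · rw [index_stabilizer, index_subgroupOf D hDt α, hidx]
        have hsub : orbit (stabilizer G α) x ⊆ ({α} : Set Ω)ᶜ := by
          rintro _ ⟨h, rfl⟩
          exact stab_invariant α h x hx
        calc (orbit (stabilizer G α) x).ncard ≤ (({α} : Set Ω)ᶜ).ncard := Set.ncard_le_ncard hsub
          _ = Nat.card Ω - 1 := by rw [Set.ncard_compl, Set.ncard_singleton]
      · apply Nat.le_of_dvd
        · exact Nat.pos_of_ne_zero Subgroup.index_ne_zero_of_finite
        · exact Subgroup.index_dvd_of_le (stab_le D hD α x hx)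
    have h2 := Subgroup.card_mul_index (stabilizer (stabilizer G α) x)
    have h3 := Subgroup.card_mul_index (D.subgroupOf (stabilizer G α))
    rw [h1] at h2
    have hpos : 0 < (D.subgroupOf (stabilizer G α)).index :=
      Nat.pos_of_ne_zero Subgroup.index_ne_zero_of_finite
    exact (Nat.eq_of_mul_eq_mul_right hpos (h3.trans h2.symm)).le
  have hK : ∀ α : Ω, D.subgroupOf (stabilizer G α) = ⊥ := by
    intro α
    rw [Subgroup.eq_bot_iff_forall]
    intro k hk
    have h1 : (k : G) = 1 := by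
      apply FaithfulSMul.eq_of_smul_eq_smul (α := Ω)
      intro ω
      rw [one_smul]
      by_cases hω : ω = α
      · rw [hω]; exact k.2
      · have h2 : k ∈ stabilizer (stabilizer G α) ω := by rw [key α ω hω]; exact hk
        exact h2
    exact Subtype.ext h1
  have hsharp : ∀ α x : Ω, x ≠ α → ∀ g : G, g • α = α → g • x = x → g = 1 := by
    intro α x hx g hgα hgx
    have h1 : (⟨g, hgα⟩ : stabilizer G α) ∈ stabilizer (stabilizer G α) x := hgx
    rw [key α x hx, hK α, Subgroup.mem_bot] at h1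
    exact congrArg Subtype.val h1
  have hstab : ∀ α : Ω, Nat.card (stabilizer G α) = Nat.card Ω - 1 := by
    intro α
    have h3 := Subgroup.card_mul_index (D.subgroupOf (stabilizer G α))
    rw [index_subgroupOf D hDt α, hidx, hK α, Subgroup.card_bot, one_mul] at h3
    exact h3.symm
  exact primePow hΩ hsharp hstab

/-- Let G act faithfully and transitively on a finite set with n ≥ 2 points and let D be the subgroup generated by the derangements. Then the index of D in G divides n − 1, and if it equals n − 1 then n is a prime power. -/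
theorem result {G Ω : Type*} [Group G] [Finite G] [MulAction G Ω] [FaithfulSMul G Ω] [Finite Ω]
    (htrans : MulAction.IsPretransitive G Ω) (hΩ : 2 ≤ Nat.card Ω) :
    (Subgroup.closure {g : G | ∀ ω : Ω, g • ω ≠ ω}).index ∣ Nat.card Ω - 1 ∧
    ((Subgroup.closure {g : G | ∀ ω : Ω, g • ω ≠ ω}).index = Nat.card Ω - 1 → IsPrimePow (Nat.card Ω)) := by
  obtain ⟨hDt, hD⟩ := Cfsg.Agent.S3546.result htrans
  exact final _ hDt hD hΩ

end Cfsg.Agent.S3548
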