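import Cfsg.Statements.S3501
import Mathlib
import Cfsg.Agent.Lib.Helper64.Socle
import Cfsg.Agent.S3548

set_option autoImplicit false
open Cfsg

namespace Cfsg.Agent.S3501

open MulAction Cfsg.Agent.Lib.Helper64

/-- In a sharply 2-transitive group all derangements are conjugate. -/
theorem all_conj {G Ω : Type*} [Group G] [MulAction G Ω] [Finite G] [Finite Ω]
    [IsPretransitive G Ω] (hn : 2 ≤ Nat.card Ω)
    (hsharp : ∀ α x : Ω, x ≠ α → ∀ g : G, g • α = α → g • x = x → g = 1)
    (hstab : ∀ α : Ω, Nat.card (stabilizer G α) = Nat.card Ω - 1)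
    {x y : G} (hxder : ∀ ω : Ω, x • ω ≠ ω) (hyder : ∀ ω : Ω, y • ω ≠ ω) : IsConj x y := by
  classical
  have := Fintype.ofFinite G
  have : Nonempty Ω := (Nat.card_pos_iff.mp (by omega)).1
  obtain ⟨α⟩ := ‹Nonempty Ω›
  have hG : Nat.card Ω * (Nat.card Ω - 1) = Nat.card G := by
    rw [← hstab α]; exact Cfsg.Agent.S3548.card_group α
  have hCfree : ∀ c ∈ Subgroup.centralizer ({x} : Set G), ∀ ω : Ω, c • ω = ω → c = 1 := by
    intro c hc ω hω
    have hcx : x * c = c * x := hc x (Set.mem_singleton x)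
    apply hsharp ω (x • ω) (hxder ω) c hω
    rw [← mul_smul, ← hcx, mul_smul, hω]
  have hCle : Nat.card (Subgroup.centralizer ({x} : Set G)) ≤ Nat.card Ω := by
    apply Nat.card_le_card_of_injective
      (fun c : Subgroup.centralizer ({x} : Set G) => (c : G) • α)
    intro c c' h
    have h' : (c : G) • α = (c' : G) • α := h
    have h1 : (c : G)⁻¹ * c' = 1 :=
      hCfree _ (Subgroup.mul_mem _ (Subgroup.inv_mem _ c.2) c'.2) α
        (by rw [mul_smul, ← h', inv_smul_smul])
    rw [inv_mul_eq_one] at h1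
    exact Subtype.ext h1
  have hclass : Nat.card (orbit (ConjAct G) x) *
      Nat.card (Subgroup.centralizer ({x} : Set G)) = Nat.card G := by
    rw [Subgroup.nat_card_centralizer_nat_card_stabilizer]
    have h1 := Subgroup.card_mul_index (stabilizer (ConjAct G) x)
    rw [index_stabilizer, ← Nat.card_coe_set_eq, mul_comm] at h1
    exact h1
  have hDer := Cfsg.Agent.S3548.card_derangements (G := G) (Ω := Ω) hsharp
  have hsub : orbit (ConjAct G) x ⊆ {g : G | ∀ ω : Ω, g • ω ≠ ω} := by
    intro y hy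
    rw [ConjAct.mem_orbit_conjAct] at hy
    obtain ⟨c, hc⟩ := isConj_iff.mp hy
    intro ω hω
    apply hxder (c • ω)
    rw [← hc, mul_smul, mul_smul, inv_smul_smul, hω]
  have hDer' : ({g : G | ∀ ω : Ω, g • ω ≠ ω} : Set G).ncard = Nat.card Ω - 1 := by
    rw [← hDer, Set.ncard_eq_toFinset_card', Set.toFinset_ofPred]
  have hle : Nat.card (orbit (ConjAct G) x) ≤ Nat.card Ω - 1 := by
    rw [← hDer', Nat.card_coe_set_eq]
    exact Set.ncard_le_ncard hsub
  have hclassn : Nat.card Ω - 1 ≤ Nat.card (orbit (ConjAct G) x) := by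
    by_contra hlt
    push Not at hlt
    have h1 : Nat.card (orbit (ConjAct G) x) *
        Nat.card (Subgroup.centralizer ({x} : Set G)) < Nat.card Ω * (Nat.card Ω - 1) := by
      calc Nat.card (orbit (ConjAct G) x) * Nat.card (Subgroup.centralizer ({x} : Set G))
          ≤ Nat.card (orbit (ConjAct G) x) * Nat.card Ω := Nat.mul_le_mul_left _ hCle
        _ < (Nat.card Ω - 1) * Nat.card Ω := Nat.mul_lt_mul_of_pos_right hlt (by omega)
        _ = Nat.card Ω * (Nat.card Ω - 1) := mul_comm _ _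
    rw [hclass, hG] at h1
    exact lt_irrefl _ h1
  have heq : orbit (ConjAct G) x = {g : G | ∀ ω : Ω, g • ω ≠ ω} := by
    apply Set.eq_of_subset_of_ncard_le hsub
    rw [hDer', ← Nat.card_coe_set_eq]
    exact hclassn
  have hy : y ∈ orbit (ConjAct G) x := by rw [heq]; exact hyder
  rw [ConjAct.mem_orbit_conjAct] at hy
  exact hy.symm

theorem result {G : Type*} [Group G] [Finite G] {Ω : Type*} [Fintype Ω] [MulAction G Ω] [FaithfulSMul G Ω] (hΩ : 2 ≤ Fintype.card Ω) (hprim : MulAction.IsPreprimitive G Ω) (hnas : ¬ ∃ T : Subgroup G, T.Normal ∧ IsSimpleGroup T ∧ ¬ IsMulCommutative T ∧ Subgroup.centralizer (T : Set G) = ⊥) :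
    Nat.card {c : ConjClasses G // ∃ g : G, ConjClasses.mk g = c ∧ ∀ ω : Ω, g • ω ≠ ω} = 1 ↔ (MulAction.IsMultiplyPretransitive G Ω 2 ∧ ∀ g : G, g ≠ 1 → ∀ a b : Ω, a ≠ b → g • a = a → g • b ≠ b) := by
  have hnt : Nontrivial Ω := Fintype.one_lt_card_iff_nontrivial.mp (by omega)
  have hcardΩ : 2 ≤ Nat.card Ω := by rw [Nat.card_eq_fintype_card]; exact hΩ
  have htr : IsPretransitive G Ω := hprim.toIsPretransitive
  constructor
  · intro hone
    -- a minimal normal subgroup
    obtain ⟨a0, b0, hab0⟩ := exists_pair_ne Ω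
    have htop : (⊤ : Subgroup G) ≠ ⊥ := by
      intro h
      obtain ⟨g, hg⟩ := htr.exists_smul_eq a0 b0
      have : g ∈ (⊤ : Subgroup G) := trivial
      rw [h, Subgroup.mem_bot] at this
      rw [this, one_smul] at hg
      exact hab0 hg
    obtain ⟨N, -, hN⟩ := exists_minIn (⊤ : Subgroup G) _ ⊤ rfl le_rfl
      (fun n _ t _ => trivial) htop
    have hNn : N.Normal := ⟨fun n hn g => hN.2.1 g trivial n hn⟩
    have hNt := trans_of_normal (Ω := Ω) N hN.2.2.1
    by_cases hab : ∀ a ∈ N, ∀ b ∈ N, a * b = b * a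
    · have hNs := semiregular_of_comm hab hNt
      have hder : ∀ n ∈ N, n ≠ 1 → ∀ ω : Ω, n • ω ≠ ω := fun n hn hn1 ω hω =>
        hn1 (hNs n hn ω hω)
      refine ⟨two_trans_of_conj hab hNt (fun x hx y hy hx1 hy1 =>
        isConj_of_card_one hone (hder x hx hx1) (hder y hy hy1)), ?_⟩
      intro g hg1 a b hab' hga hgb
      obtain ⟨u, hu, hub⟩ := hNt a b
      have hu1 : u ≠ 1 := by
        intro h; rw [h, one_smul] at hub; exact hab' hub
      have hgu : g * u * g⁻¹ = u := by
        rw [← fix_iff hNs hga hu, hub, hgb]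
      obtain ⟨m, hm, hmder⟩ := exists_der_coset hNt hNs hga ⟨u, hu, hu1, hgu⟩
      have hconj := isConj_of_card_one hone (hder u hu hu1) hmder
      obtain ⟨c, hc⟩ := isConj_iff.mp hconj
      have hmg : m * g ∈ N := by rw [← hc]; exact hNn.conj_mem u hu c
      have hgN : g ∈ N := by
        have : g = m⁻¹ * (m * g) := by group
        rw [this]; exact N.mul_mem (N.inv_mem hm) hmg
      exact hg1 (hNs g hgN a hga)
    · exfalso
      have hnas' : ¬ (IsSimpleGroup N ∧ Subgroup.centralizer (N : Set G) = ⊥) := by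
        rintro ⟨h1, h2⟩
        exact hnas ⟨N, hNn, h1, fun hc => hab (isMulCommutative_iff_of_setLike.mp hc), h2⟩
      obtain ⟨x, y, z, hx, hy, hz, hxy, -, -⟩ := three_derangements (Ω := Ω) N hN hab hnas'
      exact hxy (isConj_of_card_one hone hx hy)
  · rintro ⟨h2, hsh⟩
    have hsharp : ∀ α x : Ω, x ≠ α → ∀ g : G, g • α = α → g • x = x → g = 1 := by
      intro α x hx g hgα hgx
      by_contra hg1
      exact hsh g hg1 α x (Ne.symm hx) hgα hgx
    have hstab : ∀ α : Ω, Nat.card (stabilizer G α) = Nat.card Ω - 1 := by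
      intro α
      obtain ⟨β, hβ⟩ : ∃ β : Ω, β ≠ α := exists_ne α
      have hcompl : Nat.card {x : Ω // x ≠ α} = Nat.card Ω - 1 := by
        have h1 : Nat.card {x : Ω // x ≠ α} = ({α}ᶜ : Set Ω).ncard := by
          rw [← Nat.card_coe_set_eq]; rfl
        rw [h1, Set.ncard_compl, Set.ncard_singleton]
      rw [← hcompl]
      apply Nat.card_eq_of_bijective
        (fun h : stabilizer G α => (⟨(h : G) • β, by
          intro hh
          have h1 : (h : G) • α = α := h.2
          exact hβ (smul_left_cancel (h : G) (hh.trans h1.symm))⟩ : {x : Ω // x ≠ α}))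
      constructor
      · intro h h' hhh
        have h1 : (h : G) • β = (h' : G) • β := congrArg Subtype.val hhh
        have h2 : (h' : G)⁻¹ * (h : G) = 1 := by
          apply hsharp α β hβ
          · rw [mul_smul, (show (h : G) • α = α from h.2), inv_smul_eq_iff,
              (show (h' : G) • α = α from h'.2)]
          · rw [mul_smul, h1, inv_smul_smul]
        exact Subtype.ext (inv_mul_eq_one.mp h2).symm
      · rintro ⟨x, hx⟩
        obtain ⟨g, hg1, hg2⟩ := (is_two_pretransitive_iff.mp h2) (Ne.symm hβ) (Ne.symm hx)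
        exact ⟨⟨g, hg1⟩, Subtype.ext hg2⟩
    classical
    have := Fintype.ofFinite G
    have hDer := Cfsg.Agent.S3548.card_derangements (G := G) (Ω := Ω) hsharp
    have hpos : 0 < (Finset.univ.filter (fun g : G => ∀ ω : Ω, g • ω ≠ ω)).card := by
      rw [hDer]; omega
    obtain ⟨x, hx⟩ := Finset.card_pos.mp hpos
    have hxder : ∀ ω : Ω, x • ω ≠ ω := (Finset.mem_filter.mp hx).2
    exact card_one_of_conj x hxder (fun y hy => all_conj hcardΩ hsharp hstab hxder hy)

end Cfsg.Agent.S3501
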