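import Cfsg.Statements.S3514
import Cfsg.Agent.S3548
import Mathlib

set_option autoImplicit false
open Cfsg

namespace Cfsg.Agent.S3514

open MulAction

theorem orb_eq {L V : Type*} [Group L] [MulAction L V] (X : Subgroup L) (v : V) :
    {u : V | ∃ x ∈ X, x • v = u} = orbit X v := by
  ext u
  constructor
  · rintro ⟨x, hx, rfl⟩
    exact ⟨⟨x, hx⟩, rfl⟩
  · rintro ⟨⟨x, hx⟩, rfl⟩
    exact ⟨x, hx, rfl⟩

theorem orb_card {L V : Type*} [Group L] [MulAction L V] (X : Subgroup L) (v : V) :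
    Nat.card {u : V | ∃ x ∈ X, x • v = u} = (stabilizer L v).relIndex X := by
  rw [orb_eq, Nat.card_coe_set_eq, ← index_stabilizer]
  have : stabilizer X v = (stabilizer L v).subgroupOf X := by
    ext x
    simp only [Subgroup.mem_subgroupOf, mem_stabilizer_iff]
    rfl
  rw [this]
  rfl

/-- orbits of a normal subgroup divide orbits of the group -/
theorem part1 {L V : Type*} [Group L] [MulAction L V] [Finite V] (H K : Subgroup L)
    (hKH : K ≤ H) (hn : H ≤ Subgroup.normalizer (K : Set L)) (v : V) :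
    Nat.card {u : V | ∃ k ∈ K, k • v = u} ∣ Nat.card {u : V | ∃ h ∈ H, h • v = u} := by
  rw [Subgroup.le_normalizer_iff] at hn
  rw [Nat.card_coe_set_eq, Nat.card_coe_set_eq, orb_eq K v]
  apply Cfsg.Agent.S3548.dvd_ncard_of_dvd_orbits (H := K)
  · rintro k x ⟨h, hh, rfl⟩
    refine ⟨(k : L) * h, H.mul_mem (hKH k.2) hh, ?_⟩
    rw [mul_smul]
    rfl
  · rintro x ⟨h, hh, rfl⟩
    have himg : orbit K (h • v) = (fun u => h • u) '' orbit K v := by
      ext u
      constructor
      · rintro ⟨⟨k, hk⟩, rfl⟩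
        refine ⟨(h⁻¹ * k * h) • v, ⟨⟨h⁻¹ * k * h, ?_⟩, rfl⟩, ?_⟩
        · have := hn h⁻¹ (H.inv_mem hh) k hk
          simpa using this
        · show h • (h⁻¹ * k * h) • v = k • h • v
          simp [mul_smul]
      · rintro ⟨_, ⟨⟨k, hk⟩, rfl⟩, rfl⟩
        refine ⟨⟨h * k * h⁻¹, hn h hh k hk⟩, ?_⟩
        show (h * k * h⁻¹) • h • v = h • k • v
        simp [mul_smul]
    rw [himg, Set.ncard_image_of_injective _ (MulAction.injective h)]

/-- the index of `H` in `N ⊔ H` divides the order of `N` when `H` normalizes `N` -/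
theorem relIndex_dvd_card {L : Type*} [Group L] [Finite L] (H N : Subgroup L)
    (hn : H ≤ Subgroup.normalizer (N : Set L)) : H.relIndex (N ⊔ H) ∣ Nat.card N := by
  have hNle : N ≤ N ⊔ H := le_sup_left
  have hHle : H ≤ N ⊔ H := le_sup_right
  have hnorm : (N.subgroupOf (N ⊔ H)).Normal := by
    rw [Subgroup.normal_subgroupOf_iff_le_normalizer hNle]
    exact sup_le Subgroup.le_normalizer hn
  have htop : N.subgroupOf (N ⊔ H) ⊔ H.subgroupOf (N ⊔ H) = ⊤ := by
    rw [← Subgroup.subgroupOf_sup hNle hHle, Subgroup.subgroupOf_self]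
  have h1 : (N.subgroupOf (N ⊔ H)).relIndex (N.subgroupOf (N ⊔ H) ⊔ H.subgroupOf (N ⊔ H)) =
      (N.subgroupOf (N ⊔ H)).relIndex (H.subgroupOf (N ⊔ H)) :=
    Subgroup.relIndex_sup_left _ _
  rw [htop, Subgroup.relIndex_top_right] at h1
  have e1 := Subgroup.card_mul_index (N.subgroupOf (N ⊔ H))
  have e2 := Subgroup.card_mul_index (H.subgroupOf (N ⊔ H))
  have e3 := Subgroup.card_mul_index
    ((N.subgroupOf (N ⊔ H)).subgroupOf (H.subgroupOf (N ⊔ H)))
  have hr : 0 < (N.subgroupOf (N ⊔ H)).relIndex (H.subgroupOf (N ⊔ H)) :=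
    Nat.pos_of_ne_zero Subgroup.index_ne_zero_of_finite
  rw [h1] at e1
  have hcN : Nat.card (N.subgroupOf (N ⊔ H)) = Nat.card N :=
    Nat.card_congr (Subgroup.subgroupOfEquivOfLe hNle).toEquiv
  rw [hcN] at e1
  have e4 : Nat.card N * (N.subgroupOf (N ⊔ H)).relIndex (H.subgroupOf (N ⊔ H)) =
      (Nat.card ((N.subgroupOf (N ⊔ H)).subgroupOf (H.subgroupOf (N ⊔ H))) *
        (H.subgroupOf (N ⊔ H)).index) *
        (N.subgroupOf (N ⊔ H)).relIndex (H.subgroupOf (N ⊔ H)) := by
    rw [e1, ← e2, ← e3]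
    unfold Subgroup.relIndex
    ring
  have e5 := Nat.eq_of_mul_eq_mul_right hr e4
  exact ⟨_, by rw [e5]; unfold Subgroup.relIndex; ring⟩

theorem part2 {L V : Type*} [Group L] [Finite L] [MulAction L V] (p : ℕ) (hp : p.Prime)
    (H N : Subgroup L)
    (hN : ¬ p ∣ Nat.card N) (hn : H ≤ Subgroup.normalizer (N : Set L)) (v : V)
    (hH : ¬ p ∣ Nat.card {u : V | ∃ h ∈ H, h • v = u}) :
    ¬ p ∣ Nat.card {u : V | ∃ x ∈ N ⊔ H, x • v = u} := by
  rw [orb_card] at hH ⊢
  have hHle : H ≤ N ⊔ H := le_sup_right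
  have h1 : (stabilizer L v).relIndex (N ⊔ H) ∣ (stabilizer L v ⊓ H).relIndex (N ⊔ H) :=
    Subgroup.relIndex_dvd_of_le_left _ inf_le_left
  have h2 : (stabilizer L v ⊓ H).relIndex H * H.relIndex (N ⊔ H) =
      (stabilizer L v ⊓ H).relIndex (N ⊔ H) :=
    Subgroup.relIndex_mul_relIndex _ _ _ inf_le_right hHle
  rw [Subgroup.inf_relIndex_right] at h2
  intro hdvd
  have h3 : p ∣ (stabilizer L v).relIndex H * H.relIndex (N ⊔ H) := by
    rw [h2]; exact hdvd.trans h1
  rcases (Nat.Prime.dvd_mul hp).mp h3 with h4 | h4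
  · exact hH h4
  · exact hN (h4.trans (relIndex_dvd_card H N hn))

/-- Let p be a prime, V a finite vector space over the field with p elements, and H a group of linear transformations of V all of whose orbits on V have size coprime to p. (i) Every normal subgroup K of H has all its orbits on V of size coprime to p. (ii) If N is a group of linear transformations of V of order coprime to p that is normalized by H, then the group generated by N and H has all its orbits on V of size coprime to p. -/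
theorem result (p : ℕ) [Fact p.Prime] {V : Type*} [AddCommGroup V] [Module (ZMod p) V] [Finite V]
    (H : Subgroup (V ≃ₗ[ZMod p] V)) (hH : ∀ v : V, ¬ p ∣ Nat.card {u : V | ∃ h ∈ H, h v = u}) :
    (∀ K : Subgroup (V ≃ₗ[ZMod p] V), K ≤ H → H ≤ Subgroup.normalizer (K : Set (V ≃ₗ[ZMod p] V)) →
        ∀ v : V, ¬ p ∣ Nat.card {u : V | ∃ k ∈ K, k v = u}) ∧
    (∀ N : Subgroup (V ≃ₗ[ZMod p] V), ¬ p ∣ Nat.card N → H ≤ Subgroup.normalizer (N : Set (V ≃ₗ[ZMod p] V)) →
        ∀ v : V, ¬ p ∣ Nat.card {u : V | ∃ x ∈ N ⊔ H, x v = u}) := by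
  have : Finite (V ≃ₗ[ZMod p] V) :=
    Finite.of_injective (fun f : V ≃ₗ[ZMod p] V => (f : V → V)) DFunLike.coe_injective
  have hp : p.Prime := Fact.out
  refine ⟨?_, ?_⟩
  · intro K hKH hn v hdvd
    exact hH v (hdvd.trans (part1 H K hKH hn v))
  · intro N hN hn v
    exact part2 p hp H N hN hn v (hH v)

end Cfsg.Agent.S3514
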