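import Cfsg.Statements.S3520
import Mathlib
import Cfsg.Agent.Lib.Helper64.Socle

set_option autoImplicit false
open Cfsg

namespace Cfsg.Agent.S3520

open MulAction Cfsg.Agent.Lib.Helper64

theorem card_compl {Ω : Type*} [Finite Ω] (α : Ω) :
    Nat.card {x : Ω // x ≠ α} = Nat.card Ω - 1 := by
  have h1 : Nat.card {x : Ω // x ≠ α} = ({α}ᶜ : Set Ω).ncard := by
    rw [← Nat.card_coe_set_eq]; rfl
  rw [h1, Set.ncard_compl, Set.ncard_singleton]

theorem result {G : Type*} [Group G] [Finite G] {Ω : Type*} [Fintype Ω] [MulAction G Ω] [FaithfulSMul G Ω] (hΩ : 2 ≤ Fintype.card Ω) (hprim : MulAction.IsPreprimitive G Ω) (hnas : ¬ ∃ T : Subgroup G, T.Normal ∧ IsSimpleGroup T ∧ ¬ IsMulCommutative T ∧ Subgroup.centralizer (T : Set G) = ⊥)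
    (hκ : Nat.card {c : ConjClasses G // ∃ g : G, ConjClasses.mk g = c ∧ ∀ ω : Ω, g • ω ≠ ω} = 2) (α : Ω) :
    (Fintype.card Ω = 3 ∧ Nat.card G = 3) ∨
    ((∃ N : Subgroup G, N.Normal ∧ N ≠ ⊥ ∧ IsMulCommutative N ∧ ∀ ω : Ω, MulAction.stabilizer N ω = ⊥) ∧ (∀ g : G, g ≠ 1 → Nat.card (MulAction.fixedBy Ω g) ≤ 1) ∧ ¬ 2 ∣ Fintype.card Ω ∧
        2 * Nat.card (MulAction.stabilizer G α) = Fintype.card Ω - 1) ∨
    ((∃ N : Subgroup G, N.Normal ∧ N ≠ ⊥ ∧ IsMulCommutative N ∧ ∀ ω : Ω, MulAction.stabilizer N ω = ⊥) ∧ MulAction.IsMultiplyPretransitive G Ω 2 ∧ ∃ g : G, g ≠ 1 ∧ 2 ≤ Nat.card (MulAction.fixedBy Ω g)) := by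
  have hnt : Nontrivial Ω := Fintype.one_lt_card_iff_nontrivial.mp (by omega)
  have htr : IsPretransitive G Ω := hprim.toIsPretransitive
  obtain ⟨a0, b0, hab0⟩ := exists_pair_ne Ω
  have htop : (⊤ : Subgroup G) ≠ ⊥ := by
    intro h
    obtain ⟨g, hg⟩ := htr.exists_smul_eq a0 b0
    have : g ∈ (⊤ : Subgroup G) := trivial
    rw [h, Subgroup.mem_bot] at this
    rw [this, one_smul] at hg
    exact hab0 hg
  obtain ⟨N, -, hN⟩ := exists_minIn (⊤ : Subgroup G) _ ⊤ rfl le_rfl
    (fun n _ t _ => trivial) htop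
  have hNn : N.Normal := ⟨fun n hn g => hN.2.1 g trivial n hn⟩
  have hNt := trans_of_normal (Ω := Ω) N hN.2.2.1
  by_cases hab : ∀ a ∈ N, ∀ b ∈ N, a * b = b * a
  swap
  · exfalso
    have hnas' : ¬ (IsSimpleGroup N ∧ Subgroup.centralizer (N : Set G) = ⊥) := by
      rintro ⟨h1, h2⟩
      exact hnas ⟨N, hNn, h1, fun hc => hab (isMulCommutative_iff_of_setLike.mp hc), h2⟩
    obtain ⟨x, y, z, hx, hy, hz, hxy, hxz, hyz⟩ :=
      three_derangements (Ω := Ω) N hN hab hnas'
    rcases isConj_of_card_two hκ hx hy hz with h | h | h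
    · exact hxy h
    · exact hxz h
    · exact hyz h
  have hNs := semiregular_of_comm hab hNt
  have hder : ∀ n ∈ N, n ≠ 1 → ∀ ω : Ω, n • ω ≠ ω := fun n hn hn1 ω hω =>
    hn1 (hNs n hn ω hω)
  have hAff : ∃ N : Subgroup G, N.Normal ∧ N ≠ ⊥ ∧ IsMulCommutative N ∧
      ∀ ω : Ω, MulAction.stabilizer N ω = ⊥ := by
    refine ⟨N, hNn, hN.2.2.1, isMulCommutative_iff_of_setLike.mpr hab, ?_⟩
    intro ω
    rw [Subgroup.eq_bot_iff_forall]
    intro x hx
    have h1 : (x : G) • ω = ω := hx
    exact Subtype.ext (hNs x x.2 ω h1)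
  right
  by_cases hall : ∀ x ∈ N, ∀ y ∈ N, x ≠ 1 → y ≠ 1 → IsConj x y
  · right
    refine ⟨hAff, two_trans_of_conj hab hNt hall, ?_⟩
    obtain ⟨x, y, hx, hy, hxy⟩ := exists_two_of_card_two hκ
    have hx1 : x ≠ 1 := by
      intro h; exact hx α (by rw [h, one_smul])
    have hy1 : y ≠ 1 := by
      intro h; exact hy α (by rw [h, one_smul])
    have hw : ∃ w : G, w ∉ N ∧ ∀ ω : Ω, w • ω ≠ ω := by
      by_cases hxN : x ∈ N
      · by_cases hyN : y ∈ N
        · exact absurd (hall x hxN y hyN hx1 hy1) hxy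
        · exact ⟨y, hyN, hy⟩
      · exact ⟨x, hxN, hx⟩
    obtain ⟨w, hwN, hwd⟩ := hw
    obtain ⟨m, hm, hmα⟩ := hNt α (w • α)
    have hgα : (m⁻¹ * w) • α = α := by rw [mul_smul, inv_smul_eq_iff, hmα]
    have hmw : m * (m⁻¹ * w) = w := by group
    obtain ⟨u, hu, hu1, hgu⟩ := exists_fixed_of_der_coset hNs hgα
      ⟨m, hm, by rw [hmw]; exact hwd⟩
    refine ⟨m⁻¹ * w, ?_, ?_⟩
    · intro h
      apply hwN
      rw [← hmw, h, mul_one]; exact hm
    · have hfu : (m⁻¹ * w) • (u • α) = u • α := (fix_iff hNs hgα hu).mpr hgu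
      have hne : u • α ≠ α := hder u hu hu1 α
      have hntf : Nontrivial (fixedBy Ω (m⁻¹ * w)) :=
        ⟨⟨⟨α, hgα⟩, ⟨u • α, hfu⟩, fun h => hne (congrArg Subtype.val h).symm⟩⟩
      exact Finite.one_lt_card_iff_nontrivial.mpr hntf
  · left
    push Not at hall
    obtain ⟨x, hxN, y, hyN, hx1, hy1, hxy⟩ := hall
    have hxd := hder x hxN hx1
    have hyd := hder y hyN hy1
    have hinN : ∀ w : G, (∀ ω : Ω, w • ω ≠ ω) → w ∈ N := by
      intro w hw
      rcases isConj_of_card_two hκ hxd hyd hw with h | h | h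
      · exact absurd h hxy
      · obtain ⟨c, hc⟩ := isConj_iff.mp h
        rw [← hc]; exact hNn.conj_mem x hxN c
      · obtain ⟨c, hc⟩ := isConj_iff.mp h
        rw [← hc]; exact hNn.conj_mem y hyN c
    have hfree : ∀ g : G, g ≠ 1 → ∀ β : Ω, g • β = β → ∀ u ∈ N, g * u * g⁻¹ = u → u = 1 := by
      intro g hg1 β hgβ u hu hgu
      by_contra hu1
      obtain ⟨m, hm, hmd⟩ := exists_der_coset hNt hNs hgβ ⟨u, hu, hu1, hgu⟩
      have hmg := hinN _ hmd
      have hgN : g ∈ N := by
        have : g = m⁻¹ * (m * g) := by group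
        rw [this]; exact N.mul_mem (N.inv_mem hm) hmg
      exact hg1 (hNs g hgN β hgβ)
    have hfix2 : ∀ g : G, g ≠ 1 → ∀ a b : Ω, g • a = a → g • b = b → a = b := by
      intro g hg1 a b hga hgb
      obtain ⟨u, hu, hub⟩ := hNt a b
      have hgu : g * u * g⁻¹ = u := by
        rw [← fix_iff hNs hga hu, hub, hgb]
      have := hfree g hg1 a hga u hu hgu
      rw [this, one_smul] at hub
      exact hub
    refine ⟨hAff, ?_, ?_⟩
    · intro g hg1
      have : Subsingleton (fixedBy Ω g) :=
        ⟨fun a b => Subtype.ext (hfix2 g hg1 a.1 b.1 a.2 b.2)⟩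
      exact Finite.card_le_one_iff_subsingleton.mpr this
    · have hcard : 2 * Nat.card (MulAction.stabilizer G α) = Fintype.card Ω - 1 := by
        rw [← Nat.card_eq_fintype_card, ← card_compl α]
        have h2 : Nat.card (Fin 2 × stabilizer G α) = 2 * Nat.card (stabilizer G α) := by
          rw [Nat.card_prod, Nat.card_fin]
        rw [← h2]
        have hmove : ∀ (h : stabilizer G α) (n : G), n ∈ N → n ≠ 1 → (h : G) • n • α ≠ α := by
          intro h n hn hn1 hh
          have h1 : (h : G) • α = α := h.2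
          exact hder n hn hn1 α (smul_left_cancel (h : G) (hh.trans h1.symm))
        apply Nat.card_eq_of_bijective
          (fun p : Fin 2 × stabilizer G α =>
            (⟨(p.2 : G) • (if p.1 = 0 then x else y) • α, by
              split_ifs
              · exact hmove p.2 x hxN hx1
              · exact hmove p.2 y hyN hy1⟩ : {ω : Ω // ω ≠ α}))
        constructor
        · rintro ⟨i, h⟩ ⟨j, h'⟩ heq
          have heq' : (h : G) • (if i = 0 then x else y) • α =
              (h' : G) • (if j = 0 then x else y) • α := congrArg Subtype.val heq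
          have hhα : (h : G) • α = α := h.2
          have hh'α : (h' : G) • α = α := h'.2
          have key : ∀ (u v : G), u ∈ N → v ∈ N → (h : G) • u • α = (h' : G) • v • α →
              (h : G) * u * (h : G)⁻¹ = (h' : G) * v * (h' : G)⁻¹ := by
            intro u v hu hv huv
            apply eq_of_smul_eq hNs (hNn.conj_mem u hu _) (hNn.conj_mem v hv _) (ω := α)
            have e1 : ((h : G) * u * (h : G)⁻¹) • α = (h : G) • u • α := by
              rw [mul_smul, mul_smul, inv_smul_eq_iff.mpr hhα.symm]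
            have e2 : ((h' : G) * v * (h' : G)⁻¹) • α = (h' : G) • v • α := by
              rw [mul_smul, mul_smul, inv_smul_eq_iff.mpr hh'α.symm]
            rw [e1, e2, huv]
          have same : ∀ u : G, u ∈ N → u ≠ 1 → (h : G) • u • α = (h' : G) • u • α → h = h' := by
            intro u hu hu1 huu
            have hk := key u u hu hu huu
            have hg : ((h' : G)⁻¹ * (h : G)) * u * ((h' : G)⁻¹ * (h : G))⁻¹ = u := by
              have : ((h' : G)⁻¹ * (h : G)) * u * ((h' : G)⁻¹ * (h : G))⁻¹ =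
                  (h' : G)⁻¹ * ((h : G) * u * (h : G)⁻¹) * (h' : G) := by group
              rw [this, hk]; group
            have hgα : ((h' : G)⁻¹ * (h : G)) • α = α := by
              rw [mul_smul, hhα, inv_smul_eq_iff, hh'α]
            by_contra hne
            have hne' : (h' : G)⁻¹ * (h : G) ≠ 1 := by
              intro h1
              exact hne (Subtype.ext (inv_mul_eq_one.mp h1).symm)
            exact hu1 (hfree _ hne' α hgα u hu hg)
          fin_cases i <;> fin_cases j
          · simp only [Fin.zero_eta, if_true] at heq'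
            rw [same x hxN hx1 heq']
          · exfalso
            simp at heq'
            have hk := key x y hxN hyN heq'
            apply hxy
            rw [isConj_iff]
            refine ⟨(h' : G)⁻¹ * (h : G), ?_⟩
            have : (h' : G)⁻¹ * (h : G) * x * ((h' : G)⁻¹ * (h : G))⁻¹ =
                (h' : G)⁻¹ * ((h : G) * x * (h : G)⁻¹) * (h' : G) := by group
            rw [this, hk]; group
          · exfalso
            simp at heq'
            have hk := key y x hyN hxN heq'
            apply hxy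
            rw [isConj_iff]
            refine ⟨(h : G)⁻¹ * (h' : G), ?_⟩
            have : (h : G)⁻¹ * (h' : G) * x * ((h : G)⁻¹ * (h' : G))⁻¹ =
                (h : G)⁻¹ * ((h' : G) * x * (h' : G)⁻¹) * (h : G) := by group
            rw [this, ← hk]; group
          · simp at heq'
            rw [same y hyN hy1 heq']
        · rintro ⟨β, hβ⟩
          obtain ⟨w, hw, hwβ⟩ := hNt α β
          have hw1 : w ≠ 1 := by
            intro h; rw [h, one_smul] at hwβ; exact hβ hwβ.symm
          have hwd := hder w hw hw1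
          have conjcase : ∀ v : G, v ∈ N → IsConj v w →
              ∃ h : stabilizer G α, (h : G) • v • α = β := by
            intro v hv hc
            obtain ⟨c, hc⟩ := isConj_iff.mp hc
            obtain ⟨n, hn, hnα⟩ := hNt α (c • α)
            have hh : (n⁻¹ * c) • α = α := by rw [mul_smul, inv_smul_eq_iff, hnα]
            refine ⟨⟨n⁻¹ * c, hh⟩, ?_⟩
            show (n⁻¹ * c) • v • α = β
            have hcv : (n⁻¹ * c) * v * (n⁻¹ * c)⁻¹ = w := by
              have h1 : (n⁻¹ * c) * v * (n⁻¹ * c)⁻¹ = n⁻¹ * (c * v * c⁻¹) * n := by group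
              rw [h1, hc]
              have h2 := hab n⁻¹ (N.inv_mem hn) w hw
              rw [h2]; group
            have : (n⁻¹ * c) • v • α = ((n⁻¹ * c) * v * (n⁻¹ * c)⁻¹) • α := by
              conv_rhs => rw [mul_smul, mul_smul, inv_smul_eq_iff.mpr hh.symm]
            rw [this, hcv, hwβ]
          rcases isConj_of_card_two hκ hxd hyd hwd with h | h | h
          · exact absurd h hxy
          · obtain ⟨h', hh'⟩ := conjcase x hxN h
            exact ⟨⟨0, h'⟩, Subtype.ext (by simpa using hh')⟩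
          · obtain ⟨h', hh'⟩ := conjcase y hyN h
            exact ⟨⟨1, h'⟩, Subtype.ext (by simpa using hh')⟩
      refine ⟨?_, hcard⟩
      intro h2
      obtain ⟨k, hk⟩ := h2
      omega

end Cfsg.Agent.S3520
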