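import Mathlib
import Cfsg.Statements.S3532
import Cfsg.Agent.S2475
import Cfsg.Agent.Lib.Helper64.AltSpec

set_option autoImplicit false
open Cfsg

namespace Cfsg.Agent.S3532

/-- the affine group of a field: pairs `(c, v)` acting as `x ↦ c x + v`. -/
structure Aff (K : Type) [Field K] where
  c : Kˣ
  v : K

namespace Aff

variable {K : Type} [Field K]

theorem ext' {x y : Aff K} (hc : x.c = y.c) (hv : x.v = y.v) : x = y := by
  cases x
  cases y
  simp only at hc hv
  subst hc
  subst hv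
  rfl

instance instGroupAff : Group (Aff K) where
  mul x y := ⟨x.c * y.c, x.v + x.c * y.v⟩
  one := ⟨1, 0⟩
  inv x := ⟨x.c⁻¹, -((x.c⁻¹ : Kˣ) * x.v)⟩
  mul_assoc x y z := by
    apply ext'
    · exact mul_assoc _ _ _
    · show x.v + x.c * y.v + ((x.c * y.c : Kˣ) : K) * z.v = x.v + x.c * (y.v + y.c * z.v)
      rw [Units.val_mul]
      ring
  one_mul x := by
    apply ext'
    · exact one_mul _
    · show (0 : K) + ((1 : Kˣ) : K) * x.v = x.v
      rw [Units.val_one]
      ring
  mul_one x := by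
    apply ext'
    · exact mul_one _
    · show x.v + (x.c : K) * 0 = x.v
      ring
  inv_mul_cancel x := by
    apply ext'
    · exact inv_mul_cancel _
    · show -((x.c⁻¹ : Kˣ) * x.v) + ((x.c⁻¹ : Kˣ) : K) * x.v = 0
      ring

theorem mul_c (x y : Aff K) : (x * y).c = x.c * y.c := rfl
theorem mul_v (x y : Aff K) : (x * y).v = x.v + x.c * y.v := rfl
theorem one_c : (1 : Aff K).c = 1 := rfl
theorem one_v : (1 : Aff K).v = 0 := rfl

theorem pow_c (x : Aff K) (k : ℕ) : (x ^ k).c = x.c ^ k := by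
  induction k with
  | zero => rw [pow_zero, pow_zero, one_c]
  | succ k ih => rw [pow_succ, pow_succ, mul_c, ih]

theorem pow_v (x : Aff K) (k : ℕ) :
    (x ^ k).v = x.v * ∑ i ∈ Finset.range k, (x.c : K) ^ i := by
  induction k with
  | zero => rw [pow_zero, one_v, Finset.range_zero, Finset.sum_empty, mul_zero]
  | succ k ih =>
    rw [pow_succ, mul_v, ih, pow_c, Finset.sum_range_succ, Units.val_pow_eq_pow_val]
    ring

theorem eq_one_iff (x : Aff K) : x = 1 ↔ x.c = 1 ∧ x.v = 0 := by
  constructor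
  · rintro rfl
    exact ⟨rfl, rfl⟩
  · rintro ⟨h1, h2⟩
    exact ext' h1 h2

/-- order of an element with non-trivial linear part -/
theorem orderOf_of_ne (x : Aff K) (hx : x.c ≠ 1) : orderOf x = orderOf x.c := by
  rw [orderOf_eq_orderOf_iff]
  intro n
  rw [eq_one_iff, pow_c, pow_v]
  constructor
  · intro h
    exact h.1
  · intro h
    refine ⟨h, ?_⟩
    have h1 : (∑ i ∈ Finset.range n, (x.c : K) ^ i) * ((x.c : K) - 1) = 0 := by
      rw [geom_sum_mul, ← Units.val_pow_eq_pow_val, h, Units.val_one, sub_self]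
    have h2 : (x.c : K) - 1 ≠ 0 := by
      intro h3
      apply hx
      apply Units.ext
      rw [Units.val_one]
      exact sub_eq_zero.mp h3
    rcases mul_eq_zero.mp h1 with h3 | h3
    · rw [h3, mul_zero]
    · exact absurd h3 h2

/-- order of a translation -/
theorem pow_eq_one_of_eq (p : ℕ) [CharP K p] (x : Aff K) (hx : x.c = 1) (n : ℕ) :
    x ^ n = 1 ↔ (x.v = 0 ∨ p ∣ n) := by
  rw [eq_one_iff, pow_c, pow_v, hx, one_pow, Units.val_one]
  simp only [one_pow, Finset.sum_const, Finset.card_range, nsmul_eq_mul, mul_one, true_and]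
  rw [mul_eq_zero, CharP.cast_eq_zero_iff K p]

instance instFiniteAff [Finite K] : Finite (Aff K) :=
  Finite.of_injective (fun x : Aff K => (x.c, x.v)) (fun x y h => by
    have h1 := congrArg Prod.fst h
    have h2 := congrArg Prod.snd h
    exact ext' h1 h2)

/-- the linear part as a homomorphism -/
def lin : Aff K →* Kˣ where
  toFun x := x.c
  map_one' := rfl
  map_mul' _ _ := rfl

/-- translations -/
def tr : Multiplicative K →* Aff K where
  toFun v := ⟨1, Multiplicative.toAdd v⟩
  map_one' := rfl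
  map_mul' a b := by
    apply ext'
    · show (1 : Kˣ) = 1 * 1
      rw [one_mul]
    · show Multiplicative.toAdd (a * b) = Multiplicative.toAdd a + ((1 : Kˣ) : K) * Multiplicative.toAdd b
      rw [Units.val_one, one_mul]
      rfl

instance instSolvableAff : Group.IsSolvable (Aff K) := by
  apply Group.isSolvable_of_ker_le_range (tr (K := K)) (lin (K := K))
  intro x hx
  rw [MonoidHom.mem_ker] at hx
  refine ⟨Multiplicative.ofAdd x.v, ?_⟩
  apply ext'
  · exact hx.symm
  · rfl

/-- the subgroup with linear part of order dividing `m` -/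
def sub (K : Type) [Field K] (m : ℕ) : Subgroup (Aff K) where
  carrier := {x | x.c ^ m = 1}
  one_mem' := by
    show (1 : Kˣ) ^ m = 1
    exact one_pow m
  mul_mem' := by
    intro x y hx hy
    show (x.c * y.c) ^ m = 1
    rw [mul_pow, hx, hy, one_mul]
  inv_mem' := by
    intro x hx
    show (x.c⁻¹) ^ m = 1
    rw [inv_pow, hx, inv_one]

theorem mem_sub (m : ℕ) (x : Aff K) : x ∈ sub K m ↔ x.c ^ m = 1 := Iff.rfl

/-- the spectrum of `sub K m` -/
theorem spec_sub [Finite K] (p : ℕ) [Fact p.Prime] [CharP K p] (m : ℕ)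
    (hm : m ∣ Nat.card K - 1) :
    Set.range (orderOf : sub K m → ℕ) = {e : ℕ | e ∣ p ∨ e ∣ m} := by
  have hp : p.Prime := Fact.out
  ext e
  constructor
  · rintro ⟨x, rfl⟩
    rw [← Subgroup.orderOf_coe]
    by_cases hc : (x : Aff K).c = 1
    · left
      apply orderOf_dvd_of_pow_eq_one
      rw [pow_eq_one_of_eq p _ hc]
      right
      exact dvd_rfl
    · right
      rw [orderOf_of_ne _ hc]
      exact orderOf_dvd_of_pow_eq_one x.2
  · rintro (he | he)
    · rcases (Nat.dvd_prime hp).mp he with rfl | rfl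
      · exact ⟨1, orderOf_one⟩
      · have hmem : (⟨1, 1⟩ : Aff K) ∈ sub K m := by
          rw [mem_sub]
          exact one_pow m
        refine ⟨⟨⟨1, 1⟩, hmem⟩, ?_⟩
        rw [← Subgroup.orderOf_coe]
        apply Cfsg.Agent.S2475.orderOf_eq_of_forall
        intro k
        rw [pow_eq_one_of_eq e _ rfl]
        constructor
        · rintro (h | h)
          · exact absurd h one_ne_zero
          · exact h
        · intro h
          exact Or.inr h
    · have hcard : Nat.card Kˣ = Nat.card K - 1 := Nat.card_units K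
      have hdvd : e ∣ Nat.card Kˣ := by
        rw [hcard]
        exact he.trans hm
      obtain ⟨g, hg⟩ := IsCyclic.exists_generator (α := Kˣ)
      have hgo : orderOf g = Nat.card Kˣ := orderOf_eq_card_of_forall_mem_zpowers hg
      obtain ⟨t, ht⟩ := hdvd
      have hpos : 0 < Nat.card Kˣ := Nat.card_pos
      have ht0 : t ≠ 0 := by
        rintro rfl
        rw [mul_zero] at ht
        omega
      have hco : orderOf (g ^ t) = e := by
        rw [orderOf_pow' g ht0, hgo, ht, Nat.gcd_mul_left_left, Nat.mul_div_cancel _ (Nat.pos_of_ne_zero ht0)]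
      have hmem : (⟨g ^ t, 0⟩ : Aff K) ∈ sub K m := by
        rw [mem_sub]
        show (g ^ t) ^ m = 1
        apply orderOf_dvd_iff_pow_eq_one.mp
        rw [hco]
        exact he
      refine ⟨⟨⟨g ^ t, 0⟩, hmem⟩, ?_⟩
      rw [← Subgroup.orderOf_coe]
      by_cases hc : g ^ t = 1
      · have h1 : (⟨g ^ t, 0⟩ : Aff K) = 1 := by
          rw [eq_one_iff]
          exact ⟨hc, rfl⟩
        show orderOf (⟨g ^ t, 0⟩ : Aff K) = e
        rw [h1, orderOf_one, ← hco, hc, orderOf_one]
      · show orderOf (⟨g ^ t, 0⟩ : Aff K) = e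
        rw [orderOf_of_ne _ hc]
        exact hco

end Aff

/-- Let q ≥ 4 be a prime power and L = PSL(2,q). There is a finite solvable group with the same set of element orders as L × L (so L × L is not determined by its spectrum). -/
theorem result {F : Type*} [Field F] [Fintype F] (hF : 4 ≤ Fintype.card F) :
    ∃ (H : Type) (_ : Group H) (_ : Finite H), Group.IsSolvable H ∧
      Set.range (orderOf : H → ℕ) = Set.range (orderOf : Matrix.ProjectiveSpecialLinearGroup (Fin 2) F × Matrix.ProjectiveSpecialLinearGroup (Fin 2) F → ℕ) := by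
  obtain ⟨p, hchar⟩ := CharP.exists F
  have hpp : p.Prime := CharP.char_is_prime F p
  have hpf : Fact p.Prime := ⟨hpp⟩
  obtain ⟨n, -, hn⟩ := FiniteField.card F p
  have hn0 : (n : ℕ) ≠ 0 := n.ne_zero
  obtain ⟨q, hq⟩ : ∃ q, q = Fintype.card F := ⟨_, rfl⟩
  rw [← hq] at hF hn
  obtain ⟨d, hd⟩ : ∃ d, d = Nat.gcd 2 (q - 1) := ⟨_, rfl⟩
  have hd2 : d ∣ 2 := by rw [hd]; exact Nat.gcd_dvd_left _ _
  have hdq : d ∣ q - 1 := by rw [hd]; exact Nat.gcd_dvd_right _ _
  have hdq' : d ∣ q + 1 := by
    have h1 : q + 1 = (q - 1) + 2 := by omega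
    rw [h1]
    exact dvd_add hdq hd2
  have hc1 : Nat.card (GaloisField p n) = q := by
    rw [GaloisField.card p n hn0, hn]
  have hc2 : Nat.card (GaloisField p (2 * n)) = q * q := by
    rw [GaloisField.card p (2 * n) (by omega), hn, two_mul, pow_add]
  have h1 : (q - 1) / d ∣ Nat.card (GaloisField p n) - 1 := by
    rw [hc1]
    exact Nat.div_dvd_of_dvd hdq
  have h2 : (q + 1) / d ∣ Nat.card (GaloisField p (2 * n)) - 1 := by
    rw [hc2]
    have h3 : q * q - 1 = (q + 1) * (q - 1) := by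
      have h4 : 1 ≤ q := by omega
      obtain ⟨r, rfl⟩ : ∃ r, q = r + 1 := ⟨q - 1, by omega⟩
      simp only [Nat.add_sub_cancel]
      ring_nf
      omega
    rw [h3]
    exact (Nat.div_dvd_of_dvd hdq').trans (dvd_mul_right _ _)
  refine ⟨Aff.sub (GaloisField p n) ((q - 1) / d) × Aff.sub (GaloisField p (2 * n)) ((q + 1) / d),
    inferInstance, inferInstance, inferInstance, ?_⟩
  rw [Cfsg.Agent.Lib.Helper64.spec_prod, Cfsg.Agent.Lib.Helper64.spec_prod,
    Cfsg.Agent.S2475.result p (by rw [← hq]; exact hF), Aff.spec_sub p _ h1, Aff.spec_sub p _ h2,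
    ← hq, ← hd]
  ext k
  constructor
  · rintro ⟨a, ha, b, hb, rfl⟩
    refine ⟨a, ?_, b, ?_, rfl⟩
    · rcases ha with ha | ha
      · exact Or.inl ha
      · exact Or.inr (Or.inl ha)
    · rcases hb with hb | hb
      · exact Or.inl hb
      · exact Or.inr (Or.inr hb)
  · rintro ⟨a, ha, b, hb, rfl⟩
    rcases ha with ha | ha | ha <;> rcases hb with hb | hb | hb
    · exact ⟨Nat.lcm a b, Or.inl (Nat.lcm_dvd ha hb), 1, Or.inl (one_dvd _), by simp⟩
    · exact ⟨b, Or.inr hb, a, Or.inl ha, Nat.lcm_comm _ _⟩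
    · exact ⟨a, Or.inl ha, b, Or.inr hb, rfl⟩
    · exact ⟨a, Or.inr ha, b, Or.inl hb, rfl⟩
    · exact ⟨Nat.lcm a b, Or.inr (Nat.lcm_dvd ha hb), 1, Or.inl (one_dvd _), by simp⟩
    · exact ⟨a, Or.inr ha, b, Or.inr hb, rfl⟩
    · exact ⟨b, Or.inl hb, a, Or.inr ha, Nat.lcm_comm _ _⟩
    · exact ⟨b, Or.inr hb, a, Or.inr ha, Nat.lcm_comm _ _⟩
    · exact ⟨1, Or.inl (one_dvd _), Nat.lcm a b, Or.inr (Nat.lcm_dvd ha hb), by simp⟩

end Cfsg.Agent.S3532
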