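import Cfsg.Statements.S3554
import Mathlib

set_option autoImplicit false
open Cfsg

namespace Cfsg.Agent.S3554

/-- Let G act faithfully and transitively on a finite set and suppose G has a non-trivial cyclic normal subgroup. Then some element of G of prime order fixes no point. -/
theorem result {G Ω : Type*} [Group G] [Finite G] [MulAction G Ω] [FaithfulSMul G Ω] [Finite Ω]
    (htrans : MulAction.IsPretransitive G Ω) (C : Subgroup G) (hC : C.Normal) (hC1 : C ≠ ⊥) (hcyc : IsCyclic ↥C) :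
    ∃ g : G, (orderOf g).Prime ∧ ∀ ω : Ω, g • ω ≠ ω := by
  obtain ⟨γ, hγ⟩ := hcyc.exists_generator
  -- conjugation acts on C by power maps
  have key : ∀ c : G, c ∈ C → ∀ h : G, ∃ m : ℤ, h⁻¹ * c * h = c ^ m := by
    intro c hc h
    have h1 : h⁻¹ * (γ : G) * h ∈ C := by
      have := hC.conj_mem (γ : G) γ.2 h⁻¹
      simpa using this
    obtain ⟨m, hm⟩ := Subgroup.mem_zpowers_iff.mp (hγ ⟨_, h1⟩)
    obtain ⟨a, ha⟩ := Subgroup.mem_zpowers_iff.mp (hγ ⟨c, hc⟩)
    have hm' : (γ : G) ^ m = h⁻¹ * (γ : G) * h := by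
      have := congrArg (Subtype.val) hm
      simpa using this
    have ha' : (γ : G) ^ a = c := by
      have := congrArg (Subtype.val) ha
      simpa using this
    refine ⟨m, ?_⟩
    have h2 : h⁻¹ * c * h = (h⁻¹ * (γ : G) * h) ^ a := by
      rw [← ha']
      have := conj_zpow (a := h⁻¹) (b := (γ : G)) (i := a)
      simpa using this.symm
    rw [h2, ← hm', ← ha', ← zpow_mul, ← zpow_mul, mul_comm]
  -- a nontrivial element of C has no fixed point
  have nofix : ∀ c : G, c ∈ C → c ≠ 1 → ∀ ω : Ω, c • ω ≠ ω := by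
    intro c hc hc1 ω hω
    apply hc1
    apply FaithfulSMul.eq_of_smul_eq_smul (α := Ω)
    intro ω'
    obtain ⟨h, rfl⟩ := MulAction.exists_smul_eq G ω ω'
    obtain ⟨m, hm⟩ := key c hc h
    have h3 : c ^ m • ω = ω := by
      have : c ∈ MulAction.stabilizer G ω := hω
      exact (MulAction.stabilizer G ω).zpow_mem this m
    rw [one_smul]
    calc c • h • ω = h • (h⁻¹ * c * h) • ω := by simp [mul_smul]
      _ = h • ω := by rw [hm, h3]
  have hcard : Nat.card C ≠ 1 := by
    intro h
    exact hC1 (Subgroup.card_eq_one.mp h)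
  obtain ⟨p, hp, hpd⟩ := Nat.exists_prime_and_dvd hcard
  haveI : Fact p.Prime := ⟨hp⟩
  obtain ⟨x, hx⟩ := exists_prime_orderOf_dvd_card' p hpd
  refine ⟨(x : G), ?_, ?_⟩
  · rw [Subgroup.orderOf_coe, hx]; exact hp
  · apply nofix _ x.2
    intro h1
    have : orderOf (x : G) = 1 := by rw [h1, orderOf_one]
    rw [Subgroup.orderOf_coe, hx] at this
    exact hp.one_lt.ne' this

end Cfsg.Agent.S3554
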