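import Cfsg.Statements.S3555
import Mathlib

set_option autoImplicit false
open Cfsg

namespace Cfsg.Agent.S3555

open scoped Pointwise

theorem mem_conj_stabilizer {G Ω : Type*} [Group G] [MulAction G Ω] (g x : G) (α : Ω) :
    x ∈ MulAut.conj g • MulAction.stabilizer G α ↔ x • g • α = g • α := by
  rw [Subgroup.mem_pointwise_smul_iff_inv_smul_mem, MulAction.mem_stabilizer_iff]
  simp only [MulAut.smul_def, MulAut.conj_inv_apply, mul_smul]
  rw [inv_smul_eq_iff]

theorem comm_of_sq {G : Type*} [Group G] {a b : G} (ha : a ^ 2 = 1) (hb : b ^ 2 = 1)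
    (hab : (a * b) ^ 2 = 1) : a * b = b * a := by
  have ha' : a⁻¹ = a := inv_eq_of_mul_eq_one_left (by rw [← pow_two]; exact ha)
  have hb' : b⁻¹ = b := inv_eq_of_mul_eq_one_left (by rw [← pow_two]; exact hb)
  have hab' : (a * b)⁻¹ = a * b := inv_eq_of_mul_eq_one_left (by rw [← pow_two]; exact hab)
  rw [← hab', mul_inv_rev, ha', hb']

theorem fix_le_one {G Ω : Type*} [Group G] [Finite G] [MulAction G Ω] [FaithfulSMul G Ω]
    [Finite Ω] (htrans : MulAction.IsPretransitive G Ω)
    (hinv : ∀ g : G, (∀ ω : Ω, g • ω ≠ ω) → orderOf g = 2) :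
    ∀ g : G, g ≠ 1 → ∀ ω ω' : Ω, g • ω = ω → g • ω' = ω' → ω = ω' := by
  classical
  haveI : Fintype G := Fintype.ofFinite G
  haveI : Fintype Ω := Fintype.ofFinite Ω
  intro g₀ hg₀ ω₀ ω₀' h₀ h₀'
  by_contra hne₀
  haveI : Nonempty Ω := ⟨ω₀⟩
  set fx : G → Finset Ω := fun g => Finset.univ.filter (fun ω => g • ω = ω) with hfx
  set D : Finset G := Finset.univ.filter (fun g => ∀ ω : Ω, g • ω ≠ ω) with hD
  have hmemD : ∀ g, g ∈ D ↔ ∀ ω : Ω, g • ω ≠ ω := by
    intro g; simp [hD]
  have hmemfx : ∀ g ω, ω ∈ fx g ↔ g • ω = ω := by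
    intro g ω; simp [hfx]
  have hDsq : ∀ g ∈ D, g * g = 1 := by
    intro g hg
    have := hinv g ((hmemD g).mp hg)
    rw [← pow_two, ← this]; exact pow_orderOf_eq_one g
  have hDinv : ∀ g ∈ D, g⁻¹ = g := fun g hg => inv_eq_of_mul_eq_one_left (hDsq g hg)
  -- Burnside
  have hA : ∑ g : G, (fx g).card = Fintype.card G := by
    have h1 := MulAction.sum_card_fixedBy_eq_card_orbits_mul_card_group G Ω
    have h2 : Fintype.card (Quotient (MulAction.orbitRel G Ω)) = 1 := by
      haveI : Subsingleton (Quotient (MulAction.orbitRel G Ω)) :=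
        (MulAction.pretransitive_iff_subsingleton_quotient G Ω).mp htrans
      haveI : Nonempty (Quotient (MulAction.orbitRel G Ω)) := ⟨Quotient.mk'' ω₀⟩
      exact Fintype.card_eq_one_iff.mpr ⟨Quotient.mk'' ω₀, fun y => Subsingleton.elim _ _⟩
    rw [h2, one_mul] at h1
    rw [← h1]
    apply Finset.sum_congr rfl
    intro g _
    rw [Fintype.card_subtype]
    congr 1
  -- counting derangements
  have hc : ∀ ω ω' : Ω, ∃ x : G, (∃ g ∈ D, g • ω = ω') → (x ∈ D ∧ x • ω = ω') := by
    intro ω ω'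
    by_cases h : ∃ g ∈ D, g • ω = ω'
    · obtain ⟨g, hg, hgω⟩ := h
      exact ⟨g, fun _ => ⟨hg, hgω⟩⟩
    · exact ⟨1, fun h' => absurd h' h⟩
  choose c hc using hc
  have hB : (D ×ˢ (Finset.univ : Finset Ω)).card ≤
      ((Finset.univ : Finset G).sigma (fun g => (fx g).offDiag)).card := by
    apply Finset.card_le_card_of_injOn
      (fun t => (⟨(c t.2 (t.1 • t.2))⁻¹ * t.1, (t.2, t.1 • t.2)⟩ : Σ _ : G, Ω × Ω))
    · rintro ⟨g, ω⟩ ht
      have hgD : g ∈ D := (Finset.mem_product.mp ht).1
      obtain ⟨hxD, hxω⟩ := hc ω (g • ω) ⟨g, hgD, rfl⟩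
      rw [Finset.mem_coe, Finset.mem_sigma]
      refine ⟨Finset.mem_univ _, ?_⟩
      rw [Finset.mem_offDiag]
      refine ⟨?_, ?_, ?_⟩
      · rw [hmemfx]
        change ((c ω (g • ω))⁻¹ * g) • ω = ω
        rw [mul_smul, inv_smul_eq_iff, hxω]
      · rw [hmemfx]
        change ((c ω (g • ω))⁻¹ * g) • (g • ω) = g • ω
        rw [mul_smul, ← mul_smul g g, hDsq g hgD, one_smul, hDinv _ hxD, hxω]
      · exact fun h => (hmemD g).mp hgD ω h.symm
    · rintro ⟨g₁, ω₁⟩ h1 ⟨g₂, ω₂⟩ h2 heq
      simp only [Sigma.mk.injEq, heq_eq_eq, Prod.mk.injEq] at heq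
      obtain ⟨he1, he2, he3⟩ := heq
      subst he2
      rw [he3] at he1
      have := mul_left_cancel he1
      rw [this]
  rw [Finset.card_product, Finset.card_univ, Finset.card_sigma] at hB
  simp only [Finset.offDiag_card] at hB
  -- the inequality forces equality
  set n : ℤ := (Fintype.card Ω : ℤ) with hn
  have h1 : ∀ g, g ∉ D → 1 ≤ ((fx g).card : ℤ) ∧ ((fx g).card : ℤ) ≤ n := by
    intro g hg
    rw [hmemD] at hg
    push Not at hg
    obtain ⟨ω, hω⟩ := hg
    constructor
    · have : 0 < (fx g).card := Finset.card_pos.mpr ⟨ω, (hmemfx g ω).mpr hω⟩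
      exact_mod_cast this
    · have : (fx g).card ≤ Fintype.card Ω := Finset.card_le_univ _
      rw [hn]
      exact_mod_cast this
  have h2 : ∀ g ∈ D, ((fx g).card : ℤ) = 0 := by
    intro g hg
    have : fx g = ∅ := by
      apply Finset.eq_empty_of_forall_notMem
      intro ω hω
      exact (hmemD g).mp hg ω ((hmemfx g ω).mp hω)
    rw [this]; simp
  have hAz : ∑ g : G, ((fx g).card : ℤ) = (Fintype.card G : ℤ) := by exact_mod_cast hA
  have hBz : (D.card : ℤ) * n ≤ ∑ g : G, (((fx g).card : ℤ) * ((fx g).card : ℤ) - ((fx g).card : ℤ)) := by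
    have h3 : ∀ g : G, (((fx g).card * (fx g).card - (fx g).card : ℕ) : ℤ)
        = ((fx g).card : ℤ) * ((fx g).card : ℤ) - ((fx g).card : ℤ) := by
      intro g
      rw [Nat.cast_sub (Nat.le_mul_self _), Nat.cast_mul]
    have h4 : ((D.card * Fintype.card Ω : ℕ) : ℤ)
        ≤ ((∑ g : G, ((fx g).card * (fx g).card - (fx g).card) : ℕ) : ℤ) := by exact_mod_cast hB
    rw [Nat.cast_sum] at h4
    simp only [h3] at h4
    rw [Nat.cast_mul] at h4
    exact h4
  set u : G → ℤ := fun g => if g ∈ D then 0 else (((fx g).card : ℤ) - 1) * (n - ((fx g).card : ℤ))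
    with hu
  have hu0 : ∀ g, 0 ≤ u g := by
    intro g
    simp only [hu]
    split_ifs with hg
    · exact le_refl 0
    · obtain ⟨a, b⟩ := h1 g hg
      exact mul_nonneg (by linarith) (by linarith)
  have hsum : ∑ g : G, u g = (D.card : ℤ) * n
      - ∑ g : G, (((fx g).card : ℤ) * ((fx g).card : ℤ) - ((fx g).card : ℤ)) := by
    have h5 : ∀ g : G, u g = (if g ∈ D then n else 0)
        - (((fx g).card : ℤ) * ((fx g).card : ℤ) - ((fx g).card : ℤ))
        + (n + 1) * ((fx g).card : ℤ) - n - ((fx g).card : ℤ) := by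
      intro g
      simp only [hu]
      split_ifs with hg
      · rw [h2 g hg]; ring
      · ring
    simp only [h5]
    rw [Finset.sum_sub_distrib, Finset.sum_sub_distrib, Finset.sum_add_distrib,
      Finset.sum_sub_distrib, ← Finset.mul_sum, hAz]
    have h6 : ∑ g : G, (if g ∈ D then n else 0) = (D.card : ℤ) * n := by
      rw [← Finset.sum_filter]
      simp [hD]
    rw [h6]
    simp only [Finset.sum_const, Finset.card_univ, nsmul_eq_mul]
    ring
  have hle : ∑ g : G, u g ≤ 0 := by rw [hsum]; linarith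
  have hg₀D : g₀ ∉ D := fun h => (hmemD g₀).mp h ω₀ h₀
  have hu₀ : u g₀ = 0 := by
    have h7 : u g₀ ≤ ∑ g : G, u g :=
      Finset.single_le_sum (fun g _ => hu0 g) (Finset.mem_univ g₀)
    exact le_antisymm (le_trans h7 hle) (hu0 g₀)
  simp only [hu, hg₀D, if_false] at hu₀
  have h8 : 2 ≤ (fx g₀).card := by
    have : ({ω₀, ω₀'} : Finset Ω) ⊆ fx g₀ := by
      intro x hx
      rw [Finset.mem_insert, Finset.mem_singleton] at hx
      rcases hx with rfl | rfl
      · exact (hmemfx g₀ _).mpr h₀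
      · exact (hmemfx g₀ _).mpr h₀'
    have h9 := Finset.card_le_card this
    rw [Finset.card_pair hne₀] at h9
    exact h9
  have h10 : ((fx g₀).card : ℤ) - 1 ≠ 0 := by
    have : (2 : ℤ) ≤ ((fx g₀).card : ℤ) := by exact_mod_cast h8
    linarith
  have h11 : n - ((fx g₀).card : ℤ) = 0 := (mul_eq_zero.mp hu₀).resolve_left h10
  have h12 : (fx g₀).card = Fintype.card Ω := by
    have : ((fx g₀).card : ℤ) = (Fintype.card Ω : ℤ) := by linarith
    exact_mod_cast this
  have h13 : fx g₀ = Finset.univ := Finset.eq_univ_of_card _ h12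
  apply hg₀
  apply FaithfulSMul.eq_of_smul_eq_smul (α := Ω)
  intro ω
  rw [one_smul]
  exact (hmemfx g₀ ω).mp (h13 ▸ Finset.mem_univ ω)

/-- Let G act faithfully and transitively on a finite set and suppose every element of G fixing no point is an involution. Then either G is an elementary abelian 2-group, or G is a Frobenius group whose Frobenius kernel is an elementary abelian 2-group: G has a Frobenius complement H, and the elements lying in no conjugate of H, together with the identity, pairwise commute and square to the identity. -/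
theorem result {G Ω : Type*} [Group G] [Finite G] [MulAction G Ω] [FaithfulSMul G Ω] [Finite Ω]
    (htrans : MulAction.IsPretransitive G Ω) (hinv : ∀ g : G, (∀ ω : Ω, g • ω ≠ ω) → orderOf g = 2) :
    (IsMulCommutative G ∧ ∀ g : G, g ^ 2 = 1) ∨
    (∃ H : Subgroup G, Cfsg.IsFrobeniusComplement H ∧
      (∀ x ∈ Cfsg.frobeniusKernel H, x ^ 2 = 1) ∧
      ∀ x ∈ Cfsg.frobeniusKernel H, ∀ y ∈ Cfsg.frobeniusKernel H, x * y = y * x) := by
  classical
  have hF := fix_le_one htrans hinv
  have hsqD : ∀ g : G, (∀ ω : Ω, g • ω ≠ ω) → g ^ 2 = 1 := by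
    intro g hg
    rw [← hinv g hg]; exact pow_orderOf_eq_one g
  by_cases hreg : ∀ g : G, g ≠ 1 → ∀ ω : Ω, g • ω ≠ ω
  · left
    have hsq : ∀ g : G, g ^ 2 = 1 := by
      intro g
      by_cases hg : g = 1
      · simp [hg]
      · exact hsqD g (hreg g hg)
    exact ⟨isMulCommutative_iff.mpr (fun a b => comm_of_sq (hsq a) (hsq b) (hsq (a * b))), hsq⟩
  · right
    push Not at hreg
    obtain ⟨g₁, hg₁, α, hα⟩ := hreg
    have hker : ∀ x ∈ Cfsg.frobeniusKernel (MulAction.stabilizer G α), x ≠ 1 →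
        ∀ ω : Ω, x • ω ≠ ω := by
      intro x hx hx1 ω hω
      rcases hx with h | h
      · exact hx1 h
      · obtain ⟨g, rfl⟩ := MulAction.exists_smul_eq G α ω
        exact h g ((mem_conj_stabilizer g x α).mpr hω)
    have hkersq : ∀ x ∈ Cfsg.frobeniusKernel (MulAction.stabilizer G α), x ^ 2 = 1 := by
      intro x hx
      by_cases hx1 : x = 1
      · simp [hx1]
      · exact hsqD x (hker x hx hx1)
    refine ⟨MulAction.stabilizer G α, ⟨?_, ?_, ?_⟩, hkersq, ?_⟩
    · intro h
      have : g₁ ∈ MulAction.stabilizer G α := hα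
      rw [h] at this
      exact hg₁ (Subgroup.mem_bot.mp this)
    · intro h
      apply hg₁
      apply FaithfulSMul.eq_of_smul_eq_smul (α := Ω)
      intro ω
      obtain ⟨g, rfl⟩ := MulAction.exists_smul_eq G α ω
      have hg : g ∈ MulAction.stabilizer G α := by rw [h]; exact Subgroup.mem_top g
      rw [MulAction.mem_stabilizer_iff] at hg
      rw [hg, hα, one_smul]
    · intro g hg
      rw [Subgroup.eq_bot_iff_forall]
      intro x hx
      rw [Subgroup.mem_inf] at hx
      obtain ⟨hx1, hx2⟩ := hx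
      rw [mem_conj_stabilizer] at hx2
      by_contra hx1'
      have := hF x hx1' α (g • α) hx1 hx2
      exact hg this.symm
    · intro x hx y hy
      by_cases hx1 : x = 1
      · simp [hx1]
      by_cases hy1 : y = 1
      · simp [hy1]
      by_cases hxy : x = y
      · rw [hxy]
      have hxd := hker x hx hx1
      have hyd := hker y hy hy1
      have hx2 := hkersq x hx
      have hy2 := hkersq y hy
      have hxinv : x⁻¹ = x := inv_eq_of_mul_eq_one_left (by rw [← pow_two]; exact hx2)
      have hyy : y * y = 1 := by rw [← pow_two]; exact hy2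
      apply comm_of_sq hx2 hy2
      apply hsqD
      intro ω hω
      rw [mul_smul] at hω
      have h1 : y • ω = x • ω := by
        rw [← hxinv, eq_inv_smul_iff]; exact hω
      have h2 : (x⁻¹ * y) • ω = ω := by
        rw [mul_smul, h1, inv_smul_smul]
      have h3 : (x⁻¹ * y) • (x • ω) = x • ω := by
        rw [mul_smul, ← h1, ← mul_smul y y, hyy, one_smul, hxinv]
        exact h1.symm
      have h4 : x⁻¹ * y = 1 := by
        by_contra h5
        exact hxd ω (hF _ h5 ω (x • ω) h2 h3).symm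
      exact hxy (inv_mul_eq_one.mp h4)

end Cfsg.Agent.S3555
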