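import Cfsg.Statements.S3806
import Cfsg.Agent.S0662
import Cfsg.Agent.Lib.Helper69.RegClass

set_option autoImplicit false
set_option maxHeartbeats 400000
open Cfsg

namespace Cfsg.Agent.S3806
open scoped commutatorElement

universe u

/-- transport of `PRankLE` along an isomorphism -/
theorem pRankLE_of_equiv {G G' : Type*} [Group G] [Group G'] {p k : ℕ} (e : G ≃* G')
    (h : PRankLE p k G) : PRankLE p k G' := by
  intro A hA hexp
  have hcomm : IsMulCommutative ↥(A.map e.symm.toMonoidHom) := by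
    refine ⟨⟨fun a b => Subtype.ext ?_⟩⟩
    obtain ⟨x, hx, hxa⟩ := a.2
    obtain ⟨y, hy, hyb⟩ := b.2
    have hxy : x * y = y * x := congrArg Subtype.val (hA.is_comm.comm ⟨x, hx⟩ ⟨y, hy⟩)
    show (a : G) * (b : G) = (b : G) * (a : G)
    rw [← hxa, ← hyb, ← map_mul, ← map_mul, hxy]
  have h1 := h (A.map e.symm.toMonoidHom) hcomm (by
    rintro _ ⟨x, hx, rfl⟩
    rw [← map_pow, hexp x hx, map_one])
  rwa [Subgroup.card_map_of_injective e.symm.injective] at h1

/-- sectional rank bounds the rank of every quotient -/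
theorem pRankLE_quot {S : Type*} [Group S] {p k : ℕ} (h : SectionalPRankLE p k S)
    (N : Subgroup S) [N.Normal] : PRankLE p k (S ⧸ N) := by
  have h1 := h ⊤ (N.subgroupOf ⊤)
  refine pRankLE_of_equiv (QuotientGroup.congr (N.subgroupOf ⊤) N Subgroup.topEquiv ?_) h1
  ext x
  constructor
  · rintro ⟨y, hy, rfl⟩
    exact hy
  · intro hx
    exact ⟨⟨x, Subgroup.mem_top x⟩, hx, rfl⟩

section
variable {G : Type u} [Group G]

/-- images of the lower central series in a quotient -/
theorem lcs_quot (N : Subgroup G) [N.Normal] (i : ℕ) :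
    (⊤ : Subgroup (G ⧸ N)).lowerCentralSeries i =
      ((⊤ : Subgroup G).lowerCentralSeries i).map (QuotientGroup.mk' N) := by
  rw [Subgroup.map_lowerCentralSeries,
    Subgroup.map_top_of_surjective _ (QuotientGroup.mk'_surjective N)]

theorem pow_mem_of_quot {p : ℕ} (i j : ℕ) (hij : i ≤ j)
    (h : ∀ y : G ⧸ (⊤ : Subgroup G).lowerCentralSeries j,
      y ^ p ∈ (⊤ : Subgroup (G ⧸ (⊤ : Subgroup G).lowerCentralSeries j)).lowerCentralSeries i)
    (x : G) : x ^ p ∈ (⊤ : Subgroup G).lowerCentralSeries i := by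
  have h1 := h (QuotientGroup.mk x)
  rw [lcs_quot] at h1
  obtain ⟨y, hy, hyx⟩ := h1
  have h2 : y⁻¹ * x ^ p ∈ (⊤ : Subgroup G).lowerCentralSeries j := by
    rw [← QuotientGroup.eq]
    exact hyx
  have h3 := Subgroup.lowerCentralSeries_antitone _ hij h2
  have := Subgroup.mul_mem _ hy h3
  rwa [mul_inv_cancel_left] at this

variable [Finite G] {p : ℕ} [hp : Fact p.Prime]

theorem quot_maxclass {n : ℕ} (hG : Nat.card G = p ^ n) (hcl : Group.nilpotencyClass G = n - 1)
    (hn : 3 ≤ n) (j : ℕ) (hj1 : 1 ≤ j) (hjn : j ≤ n - 1) :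
    Nat.card (G ⧸ (⊤ : Subgroup G).lowerCentralSeries j) = p ^ (j + 1) ∧
    Group.nilpotencyClass (G ⧸ (⊤ : Subgroup G).lowerCentralSeries j) = j := by
  have hLj := S0662.lcs_card_eq hG hcl hn j hj1 hjn
  have hcard : Nat.card (G ⧸ (⊤ : Subgroup G).lowerCentralSeries j) = p ^ (j + 1) := by
    have h1 := ((⊤ : Subgroup G).lowerCentralSeries j).card_mul_index
    rw [hLj, hG, Subgroup.index_eq_card] at h1
    have h2 : p ^ n = p ^ (n - 1 - j) * p ^ (j + 1) := by
      rw [← pow_add]; congr 1; omega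
    rw [h2] at h1
    exact Nat.eq_of_mul_eq_mul_left (pow_pos hp.out.pos _) h1
  refine ⟨hcard, ?_⟩
  have hQ : IsPGroup p (G ⧸ (⊤ : Subgroup G).lowerCentralSeries j) := IsPGroup.of_card hcard
  haveI := hQ.isNilpotent
  apply le_antisymm
  · rw [← Subgroup.lowerCentralSeries_eq_bot_iff_nilpotencyClass_le, lcs_quot,
      QuotientGroup.map_mk'_self]
  · by_contra hlt
    push Not at hlt
    have h1 : (⊤ : Subgroup (G ⧸ (⊤ : Subgroup G).lowerCentralSeries j)).lowerCentralSeries
        (j - 1) = ⊥ :=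
      Subgroup.lowerCentralSeries_eq_bot_iff_nilpotencyClass_le.mpr (by omega)
    rw [lcs_quot, Subgroup.map_eq_bot_iff, QuotientGroup.ker_mk'] at h1
    have h2 := Subgroup.card_le_of_le h1
    rw [hLj] at h2
    rcases Nat.eq_or_lt_of_le hj1 with rfl | hj2
    · rw [Nat.sub_self, Subgroup.lowerCentralSeries_zero, Subgroup.card_top, hG] at h2
      have := (Nat.pow_le_pow_iff_right hp.out.one_lt).mp h2
      omega
    · rw [S0662.lcs_card_eq hG hcl hn (j - 1) (by omega) (by omega)] at h2
      have := (Nat.pow_le_pow_iff_right hp.out.one_lt).mp h2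
      omega

end

/-- Blackburn: a `p`-group of maximal class of order `p ^ m`, `3 ≤ m ≤ p + 1`, has exponent `p`
modulo the last nontrivial term of its lower central series. -/
theorem pow_mem_last {p : ℕ} [hp : Fact p.Prime] : ∀ (m : ℕ), 3 ≤ m →
    ∀ (G : Type u) [Group G] [Finite G], m ≤ p + 1 → Nat.card G = p ^ m →
    Group.nilpotencyClass G = m - 1 →
    ∀ x : G, x ^ p ∈ (⊤ : Subgroup G).lowerCentralSeries (m - 2) := by
  intro m hm
  induction m, hm using Nat.le_induction with
  | base =>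
    intro G _ _ hmp hG hcl x
    haveI := (IsPGroup.of_card hG).isNilpotent
    show x ^ p ∈ (⊤ : Subgroup G).lowerCentralSeries 1
    have hbot : (⊤ : Subgroup G).lowerCentralSeries 2 = ⊥ := by
      have := Subgroup.lowerCentralSeries_nilpotencyClass (G := G)
      rwa [hcl] at this
    have hL1 := S0662.lcs_card_eq hG hcl le_rfl 1 le_rfl (by norm_num)
    rw [show 3 - 1 - 1 = 1 from rfl, pow_one] at hL1
    have hQ := (quot_maxclass hG hcl le_rfl 1 le_rfl (by norm_num)).1
    by_contra hx
    have hy : (QuotientGroup.mk x : G ⧸ (⊤ : Subgroup G).lowerCentralSeries 1) ^ p ≠ 1 := by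
      rw [← QuotientGroup.mk_pow, Ne, QuotientGroup.eq_one_iff]
      exact hx
    have hdvd := orderOf_dvd_natCard (QuotientGroup.mk x : G ⧸ (⊤ : Subgroup G).lowerCentralSeries 1)
    rw [hQ] at hdvd
    obtain ⟨i, hi, hord⟩ := (Nat.dvd_prime_pow hp.out).mp hdvd
    have hi2 : i = 2 := by
      by_contra hne
      have hi1 : i ≤ 1 := by omega
      apply hy
      apply orderOf_dvd_iff_pow_eq_one.mp
      rw [hord]
      exact pow_dvd_pow p hi1 |>.trans (by rw [pow_one])
    rw [hi2] at hord
    have htop : Subgroup.zpowers (QuotientGroup.mk x : G ⧸ (⊤ : Subgroup G).lowerCentralSeries 1) = ⊤ := by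
      apply Subgroup.eq_top_of_card_eq
      rw [Nat.card_zpowers, hord, hQ]
    haveI : IsCyclic (G ⧸ (⊤ : Subgroup G).lowerCentralSeries 1) :=
      isCyclic_iff_exists_zpowers_eq_top.mpr ⟨_, htop⟩
    have hker : (QuotientGroup.mk' ((⊤ : Subgroup G).lowerCentralSeries 1)).ker ≤ Subgroup.center G := by
      rw [QuotientGroup.ker_mk']
      intro z hz
      rw [Subgroup.mem_center_iff]
      intro g
      have h1 : ⁅z, g⁆ ∈ (⊤ : Subgroup G).lowerCentralSeries 2 :=
        Subgroup.commutator_mem_commutator hz (Subgroup.mem_top g)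
      rw [hbot, Subgroup.mem_bot, commutatorElement_eq_one_iff_mul_comm] at h1
      exact h1.symm
    have hcomm := commutative_of_cyclic_center_quotient
      (QuotientGroup.mk' ((⊤ : Subgroup G).lowerCentralSeries 1)) hker
    have hL1bot : (⊤ : Subgroup G).lowerCentralSeries 1 = ⊥ := by
      rw [eq_bot_iff]
      show ⁅(⊤ : Subgroup G).lowerCentralSeries 0, ⊤⁆ ≤ ⊥
      rw [Subgroup.commutator_le]
      intro a _ b _
      rw [Subgroup.mem_bot, commutatorElement_eq_one_iff_mul_comm]
      exact hcomm a b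
    rw [hL1bot, Subgroup.card_bot] at hL1
    exact hp.out.one_lt.ne hL1
  | succ m hm ih =>
    intro G _ _ hmp hG hcl x
    haveI := (IsPGroup.of_card hG).isNilpotent
    have e0 : m + 1 - 2 = m - 1 := by omega
    rw [e0]
    have hq := quot_maxclass hG hcl (by omega) (m - 1) (by omega) (by omega)
    have e1 : m - 1 + 1 = m := by omega
    rw [e1] at hq
    have hQp : IsPGroup p (G ⧸ (⊤ : Subgroup G).lowerCentralSeries (m - 1)) := IsPGroup.of_card hq.1
    haveI := hQp.isNilpotent
    have h1 : ∀ x : G, x ^ p ∈ (⊤ : Subgroup G).lowerCentralSeries (m - 2) :=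
      pow_mem_of_quot (m - 2) (m - 1) (by omega) (ih _ (by omega) hq.1 hq.2)
    have hreg : IsRegularPGroup p (G ⧸ (⊤ : Subgroup G).lowerCentralSeries (m - 1)) :=
      Lib.Helper69.RegClass.isRegular_of_class_lt hQp
        (Subgroup.lowerCentralSeries_eq_bot_iff_nilpotencyClass_le.mpr (by rw [hq.2]; omega))
    have hLm1 := S0662.lcs_card_eq hG hcl (by omega) (m - 1) (by omega) (by omega)
    have e2 : m + 1 - 1 - (m - 1) = 1 := by omega
    rw [e2, pow_one] at hLm1
    have hLm2 := S0662.lcs_card_eq hG hcl (by omega) (m - 2) (by omega) (by omega)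
    have e3 : m + 1 - 1 - (m - 2) = 2 := by omega
    rw [e3] at hLm2
    have hLbot : (⊤ : Subgroup G).lowerCentralSeries m = ⊥ := by
      have := Subgroup.lowerCentralSeries_nilpotencyClass (G := G)
      rwa [hcl] at this
    have hLle : (⊤ : Subgroup G).lowerCentralSeries (m - 1) ≤ (⊤ : Subgroup G).lowerCentralSeries (m - 2) :=
      Subgroup.lowerCentralSeries_antitone _ (by omega)
    have hZcent : ∀ z ∈ (⊤ : Subgroup G).lowerCentralSeries (m - 1), ∀ g : G, z * g = g * z := by
      intro z hz g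
      have h2 : ⁅z, g⁆ ∈ (⊤ : Subgroup G).lowerCentralSeries (m - 1 + 1) :=
        Subgroup.commutator_mem_commutator hz (Subgroup.mem_top g)
      rw [e1, hLbot, Subgroup.mem_bot, commutatorElement_eq_one_iff_mul_comm] at h2
      exact h2
    obtain ⟨T, hT⟩ : ∃ T : Subgroup G, T = Subgroup.centralizer
        (((⊤ : Subgroup G).lowerCentralSeries (m - 2) : Subgroup G) : Set G) := ⟨_, rfl⟩
    have hex : ∃ t, t ∉ T := by
      by_contra hall
      push Not at hall
      have h3 : (⊤ : Subgroup G).lowerCentralSeries (m - 1) = ⊥ := by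
        have e4 : m - 1 = m - 2 + 1 := by omega
        rw [e4, eq_bot_iff]
        show ⁅(⊤ : Subgroup G).lowerCentralSeries (m - 2), ⊤⁆ ≤ ⊥
        rw [Subgroup.commutator_le]
        intro a ha b _
        rw [Subgroup.mem_bot, commutatorElement_eq_one_iff_mul_comm]
        have hb := hall b
        rw [hT, Subgroup.mem_centralizer_iff] at hb
        exact hb a ha
      rw [h3, Subgroup.card_bot] at hLm1
      exact hp.out.one_lt.ne hLm1
    have hii : ∀ g, g ∉ T → g ^ p ∈ (⊤ : Subgroup G).lowerCentralSeries (m - 1) := by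
      intro g hg
      obtain ⟨D, hD⟩ : ∃ D : Subgroup G, D = (⊤ : Subgroup G).lowerCentralSeries (m - 2) ⊓
          Subgroup.centralizer {g} := ⟨_, rfl⟩
      have hgD : g ^ p ∈ D := by
        rw [hD]
        refine ⟨h1 g, ?_⟩
        show g ^ p ∈ Subgroup.centralizer {g}
        rw [Subgroup.mem_centralizer_iff]
        intro h hh
        rw [Set.mem_singleton_iff.mp hh]
        exact (pow_mul_comm' g p).symm
      have hZD : (⊤ : Subgroup G).lowerCentralSeries (m - 1) ≤ D := by
        rw [hD]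
        refine le_inf hLle ?_
        intro z hz
        rw [Subgroup.mem_centralizer_iff]
        intro h hh
        rw [Set.mem_singleton_iff.mp hh]
        exact (hZcent z hz g).symm
      have hDle : D ≤ (⊤ : Subgroup G).lowerCentralSeries (m - 2) := by rw [hD]; exact inf_le_left
      have hDne : D ≠ (⊤ : Subgroup G).lowerCentralSeries (m - 2) := by
        intro hDeq
        apply hg
        rw [hT, Subgroup.mem_centralizer_iff]
        intro h hh
        rw [← hDeq, hD] at hh
        have := Subgroup.mem_centralizer_iff.mp hh.2 g (Set.mem_singleton g)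
        exact this.symm
      have hdvd := Subgroup.card_dvd_of_le hDle
      rw [hLm2] at hdvd
      obtain ⟨i, hi, hcardD⟩ := (Nat.dvd_prime_pow hp.out).mp hdvd
      have hi2 : i ≠ 2 := by
        intro hi2
        apply hDne
        apply Subgroup.eq_of_le_of_card_ge hDle
        rw [hLm2, hcardD, hi2]
      have hi0 : i ≠ 0 := by
        intro hi0
        have := Subgroup.card_le_of_le hZD
        rw [hLm1, hcardD, hi0, pow_zero] at this
        exact absurd this (not_le.mpr hp.out.one_lt)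
      have hi1 : i = 1 := by omega
      have hDZ : (⊤ : Subgroup G).lowerCentralSeries (m - 1) = D := by
        apply Subgroup.eq_of_le_of_card_ge hZD
        rw [hLm1, hcardD, hi1, pow_one]
      rw [hDZ]
      exact hgD
    obtain ⟨t, ht⟩ := hex
    have hΩ : ∀ g, g ∉ T → (QuotientGroup.mk g : G ⧸ (⊤ : Subgroup G).lowerCentralSeries (m - 1)) ∈
        Lib.Helper75.Reg.OmegaSub hreg 1 := by
      intro g hg
      show (QuotientGroup.mk g : G ⧸ (⊤ : Subgroup G).lowerCentralSeries (m - 1)) ^ p ^ 1 = 1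
      rw [pow_one, ← QuotientGroup.mk_pow, QuotientGroup.eq_one_iff]
      exact hii g hg
    by_cases hx : x ∈ T
    · have hxt : x * t ∉ T := fun h => ht (by
        have := T.mul_mem (T.inv_mem hx) h
        rwa [inv_mul_cancel_left] at this)
      have h2 := (Lib.Helper75.Reg.OmegaSub hreg 1).mul_mem (hΩ _ hxt)
        ((Lib.Helper75.Reg.OmegaSub hreg 1).inv_mem (hΩ t ht))
      rw [QuotientGroup.mk_mul, mul_inv_cancel_right] at h2
      have h3 : (QuotientGroup.mk x : G ⧸ (⊤ : Subgroup G).lowerCentralSeries (m - 1)) ^ p ^ 1 = 1 := h2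
      rw [pow_one, ← QuotientGroup.mk_pow, QuotientGroup.eq_one_iff] at h3
      exact h3
    · exact hii x hx

/-- a `p`-group of maximal class of order `p ^ (2k+1)` with `2 ≤ k ≤ p - 2` has an elementary
abelian subgroup of order `p ^ (k+1)` (namely `γ_k`). -/
theorem core {p : ℕ} [hp : Fact p.Prime] {G : Type u} [Group G] [Finite G] (k : ℕ) (hk : 2 ≤ k)
    (hkp : k + 2 ≤ p) (hG : Nat.card G = p ^ (2 * k + 1))
    (hcl : Group.nilpotencyClass G = 2 * k) :
    ∃ A : Subgroup G, IsMulCommutative A ∧ (∀ a ∈ A, a ^ p = 1) ∧ Nat.card A = p ^ (k + 1) := by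
  obtain ⟨k', rfl⟩ : ∃ k', k = k' + 2 := ⟨k - 2, by omega⟩
  haveI := (IsPGroup.of_card hG).isNilpotent
  have hcl' : Group.nilpotencyClass G = (2 * (k' + 2) + 1) - 1 := by rw [hcl]; omega
  have hn3 : 3 ≤ 2 * (k' + 2) + 1 := by omega
  have hbot : (⊤ : Subgroup G).lowerCentralSeries (2 * (k' + 2)) = ⊥ := by
    have := Subgroup.lowerCentralSeries_nilpotencyClass (G := G)
    rwa [hcl] at this
  have hAcard : Nat.card ↥((⊤ : Subgroup G).lowerCentralSeries (k' + 1)) = p ^ (k' + 2 + 1) := by
    have := S0662.lcs_card_eq hG hcl' hn3 (k' + 1) (by omega) (by omega)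
    rw [this]; congr 1; omega
  have hLkcard : Nat.card ↥((⊤ : Subgroup G).lowerCentralSeries (k' + 2)) = p ^ (k' + 2) := by
    have := S0662.lcs_card_eq hG hcl' hn3 (k' + 2) (by omega) (by omega)
    rw [this]; congr 1; omega
  have hcen : ∀ a ∈ (⊤ : Subgroup G).lowerCentralSeries (k' + 1),
      ∀ z ∈ (⊤ : Subgroup G).lowerCentralSeries (k' + 2), a * z = z * a := by
    intro a ha z hz
    have h1 := Lib.Helper69.RegClass.lcs_comm_le (G := G) (k' + 1) (k' + 2)
      (Subgroup.commutator_mem_commutator ha hz)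
    rw [show k' + 1 + (k' + 2) + 1 = 2 * (k' + 2) by omega, hbot, Subgroup.mem_bot,
      commutatorElement_eq_one_iff_mul_comm] at h1
    exact h1
  have hcomm : ∀ a ∈ (⊤ : Subgroup G).lowerCentralSeries (k' + 1),
      ∀ b ∈ (⊤ : Subgroup G).lowerCentralSeries (k' + 1), a * b = b * a := by
    obtain ⟨A, hA⟩ : ∃ A : Subgroup G, A = (⊤ : Subgroup G).lowerCentralSeries (k' + 1) := ⟨_, rfl⟩
    rw [← hA] at hAcard hcen ⊢
    have hle : (⊤ : Subgroup G).lowerCentralSeries (k' + 2) ≤ A := by
      rw [hA]; exact Subgroup.lowerCentralSeries_antitone _ (by omega)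
    obtain ⟨N, hN⟩ : ∃ N : Subgroup ↥A,
        N = ((⊤ : Subgroup G).lowerCentralSeries (k' + 2)).subgroupOf A := ⟨_, rfl⟩
    haveI : N.Normal := by rw [hN]; infer_instance
    have hNcard : Nat.card N = p ^ (k' + 2) := by
      rw [hN, Nat.card_congr (Subgroup.subgroupOfEquivOfLe hle).toEquiv, hLkcard]
    have hQcard : Nat.card (↥A ⧸ N) = p := by
      have h1 := Subgroup.card_eq_card_quotient_mul_card_subgroup N
      rw [hAcard, hNcard, pow_succ, mul_comm] at h1
      exact (Nat.eq_of_mul_eq_mul_right (pow_pos hp.out.pos _) h1).symm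
    haveI : IsCyclic (↥A ⧸ N) := isCyclic_of_prime_card hQcard
    have hker : (QuotientGroup.mk' N).ker ≤ Subgroup.center ↥A := by
      rw [QuotientGroup.ker_mk']
      intro z hz
      rw [Subgroup.mem_center_iff]
      intro a
      apply Subtype.ext
      have hz' : (z : G) ∈ (⊤ : Subgroup G).lowerCentralSeries (k' + 2) := by
        rw [hN] at hz
        exact Subgroup.mem_subgroupOf.mp hz
      exact hcen a a.2 z hz'
    intro a ha b hb
    have := commutative_of_cyclic_center_quotient (QuotientGroup.mk' N) hker ⟨a, ha⟩ ⟨b, hb⟩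
    exact congrArg Subtype.val this
  have hpow : ∀ g : G, g ^ p ∈ (⊤ : Subgroup G).lowerCentralSeries (k' + 3) := by
    have hq := quot_maxclass hG hcl' hn3 (k' + 4) (by omega) (by omega)
    have h1 := pow_mem_last (p := p) (k' + 5) (by omega)
      (G ⧸ (⊤ : Subgroup G).lowerCentralSeries (k' + 4)) (by omega) hq.1 (by rw [hq.2]; omega)
    exact pow_mem_of_quot (k' + 3) (k' + 4) (by omega) h1
  have hgen : ∀ h ∈ (⊤ : Subgroup G).lowerCentralSeries k', ∀ g : G, ⁅h, g⁆ ^ p = 1 := by
    intro h hh g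
    obtain ⟨π, hπ⟩ : ∃ π : G →* G ⧸ (⊤ : Subgroup G).lowerCentralSeries (k' + 2),
        π = QuotientGroup.mk' _ := ⟨_, rfl⟩
    obtain ⟨CC, hCC⟩ : ∃ CC : Subgroup (G ⧸ (⊤ : Subgroup G).lowerCentralSeries (k' + 2)),
        CC = Subgroup.centralizer
          ((Subgroup.centralizer ({π g} : Set (G ⧸ (⊤ : Subgroup G).lowerCentralSeries (k' + 2))) :
            Subgroup (G ⧸ (⊤ : Subgroup G).lowerCentralSeries (k' + 2))) :
            Set (G ⧸ (⊤ : Subgroup G).lowerCentralSeries (k' + 2))) := ⟨_, rfl⟩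
    obtain ⟨B, hB⟩ : ∃ B : Subgroup G, B = CC.comap π := ⟨_, rfl⟩
    have hg' : π g ∈ Subgroup.centralizer
        ({π g} : Set (G ⧸ (⊤ : Subgroup G).lowerCentralSeries (k' + 2))) := by
      rw [Subgroup.mem_centralizer_iff]
      intro y hy
      rw [Set.mem_singleton_iff.mp hy]
    have hgCC : π g ∈ CC := by
      rw [hCC, Subgroup.mem_centralizer_iff]
      intro y hy
      exact (Subgroup.mem_centralizer_iff.mp hy (π g) (Set.mem_singleton _)).symm
    have hCCcomm : ∀ u ∈ CC, ∀ v ∈ CC, u * v = v * u := by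
      intro u hu v hv
      have hv' : v ∈ Subgroup.centralizer
          ({π g} : Set (G ⧸ (⊤ : Subgroup G).lowerCentralSeries (k' + 2))) := by
        rw [Subgroup.mem_centralizer_iff]
        intro y hy
        rw [Set.mem_singleton_iff.mp hy]
        rw [hCC] at hv
        exact Subgroup.mem_centralizer_iff.mp hv (π g) hg'
      rw [hCC] at hu
      exact (Subgroup.mem_centralizer_iff.mp hu v hv').symm
    have hcenQ : ∀ a ∈ (⊤ : Subgroup G).lowerCentralSeries (k' + 1), π a ∈ CC := by
      intro a ha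
      rw [hCC, Subgroup.mem_centralizer_iff]
      intro y _
      obtain ⟨s, rfl⟩ := QuotientGroup.mk'_surjective _ y
      have h1 : ⁅a, s⁆ ∈ (⊤ : Subgroup G).lowerCentralSeries (k' + 2) :=
        Subgroup.commutator_mem_commutator ha (Subgroup.mem_top s)
      have h2 : π ⁅a, s⁆ = 1 := by
        rw [hπ]; exact (QuotientGroup.eq_one_iff _).mpr h1
      rw [map_commutatorElement, commutatorElement_eq_one_iff_mul_comm] at h2
      rw [hπ] at h2 ⊢
      exact h2.symm
    have hgB : g ∈ B := by rw [hB]; exact hgCC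
    have hcB : h * g * h⁻¹ ∈ B := by
      rw [hB]
      show π (h * g * h⁻¹) ∈ CC
      have e : h * g * h⁻¹ = ⁅h, g⁆ * g := by rw [commutatorElement_def]; group
      rw [e, map_mul]
      exact CC.mul_mem (hcenQ _ (Subgroup.commutator_mem_commutator hh (Subgroup.mem_top g))) hgCC
    have hBB : ∀ b ∈ B, ∀ b' ∈ B, ⁅b, b'⁆ ∈ (⊤ : Subgroup G).lowerCentralSeries (k' + 2) := by
      intro b hb b' hb'
      rw [hB] at hb hb'
      have h2 : π ⁅b, b'⁆ = 1 := by
        rw [map_commutatorElement, commutatorElement_eq_one_iff_mul_comm]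
        exact hCCcomm _ hb _ hb'
      rw [hπ] at h2
      exact (QuotientGroup.eq_one_iff _).mp h2
    have hBlcs : ∀ i, B.lowerCentralSeries (i + 1) ≤
        (⊤ : Subgroup G).lowerCentralSeries (k' + 2 + i) := by
      intro i
      induction i with
      | zero =>
        show ⁅B, B⁆ ≤ _
        rw [Subgroup.commutator_le]
        exact hBB
      | succ i ih =>
        show ⁅B.lowerCentralSeries (i + 1), B⁆ ≤
          ⁅(⊤ : Subgroup G).lowerCentralSeries (k' + 2 + i), ⊤⁆
        exact Subgroup.commutator_mono ih le_top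
    have hBbot : (⊤ : Subgroup ↥B).lowerCentralSeries (p - 1) = ⊥ := by
      have h1 : B.lowerCentralSeries (k' + 3) = ⊥ := by
        rw [eq_bot_iff, ← hbot]
        have := hBlcs (k' + 2)
        rwa [show k' + 2 + (k' + 2) = 2 * (k' + 2) by omega] at this
      have h2 : ((⊤ : Subgroup ↥B).lowerCentralSeries (p - 1)).map B.subtype = ⊥ := by
        rw [Subgroup.top_subtype_lowerCentralSeries, eq_bot_iff, ← h1]
        exact Subgroup.lowerCentralSeries_antitone _ (by omega)
      exact (Subgroup.map_eq_bot_iff_of_injective _ B.subtype_injective).mp h2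
    have hreg : IsRegularPGroup p ↥B :=
      Lib.Helper69.RegClass.isRegular_of_class_lt ((IsPGroup.of_card hG).to_subgroup B) hBbot
    have hpe : (⟨g, hgB⟩ : ↥B) ^ p ^ 1 = (⟨h * g * h⁻¹, hcB⟩ : ↥B) ^ p ^ 1 := by
      apply Subtype.ext
      rw [pow_one]
      show g ^ p = (h * g * h⁻¹) ^ p
      rw [conj_pow]
      have h1 := Lib.Helper69.RegClass.lcs_comm_le (G := G) k' (k' + 3)
        (Subgroup.commutator_mem_commutator hh (hpow g))
      rw [show k' + (k' + 3) + 1 = 2 * (k' + 2) by omega, hbot, Subgroup.mem_bot,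
        commutatorElement_eq_one_iff_mul_comm] at h1
      rw [h1, mul_inv_cancel_right]
    have h3 := Lib.Helper75.Reg.inv_mul_pow_eq_one hreg 1 _ _ hpe
    have h4 : (g⁻¹ * (h * g * h⁻¹)) ^ p = 1 := by
      have := congrArg Subtype.val h3
      rw [pow_one] at this
      exact this
    have e : ⁅h, g⁆ = g * (g⁻¹ * (h * g * h⁻¹)) * g⁻¹ := by rw [commutatorElement_def]; group
    rw [e, conj_pow, h4, mul_one, mul_inv_cancel]
  refine ⟨(⊤ : Subgroup G).lowerCentralSeries (k' + 1),
    ⟨⟨fun a b => Subtype.ext (hcomm a a.2 b b.2)⟩⟩, ?_, hAcard⟩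
  have key : ∀ a ∈ Subgroup.closure {x | ∃ g₁ ∈ (⊤ : Subgroup G).lowerCentralSeries k',
      ∃ g₂ ∈ (⊤ : Subgroup G), ⁅g₁, g₂⁆ = x}, a ^ p = 1 := by
    intro a ha
    refine Subgroup.closure_induction (p := fun x _ => x ^ p = 1) ?_ ?_ ?_ ?_ ha
    · rintro x ⟨h, hh, g, _, rfl⟩
      exact hgen h hh g
    · exact one_pow _
    · intro x y hx hy ihx ihy
      have hx' : x ∈ (⊤ : Subgroup G).lowerCentralSeries (k' + 1) := hx
      have hy' : y ∈ (⊤ : Subgroup G).lowerCentralSeries (k' + 1) := hy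
      rw [(show Commute x y from hcomm x hx' y hy').mul_pow, ihx, ihy, one_mul]
    · intro x _ ihx
      rw [inv_pow, ihx, inv_one]
  intro a ha
  exact key a ha

/-- Let p be a prime and S a finite p-group of order pⁿ (n ≥ 2) of maximal nilpotency class n − 1 whose sectional p-rank is exactly k (every section has p-rank at most k, and some section has p-rank k). If p ≥ k + 2 then the order of S is at most p^(2k). -/
theorem result {S : Type*} [Group S] [Finite S] (p : ℕ) [Fact p.Prime] (hS : IsPGroup p S) [Group.IsNilpotent S]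
    (n : ℕ) (hn : 2 ≤ n) (hcard : Nat.card S = p ^ n) (hmax : Group.nilpotencyClass S = n - 1)
    (k : ℕ) (hk : 1 ≤ k) (hsr : Cfsg.SectionalPRankLE p k S ∧ ¬ Cfsg.SectionalPRankLE p (k - 1) S)
    (hpk : k + 2 ≤ p) : Nat.card S ≤ p ^ (2 * k) := by
  have hp : Fact p.Prime := inferInstance
  rw [hcard]
  by_contra hlt
  have hnk : 2 * k + 1 ≤ n := by
    by_contra h
    exact hlt (Nat.pow_le_pow_right hp.out.pos (by omega))
  have hn3 : 3 ≤ n := by omega
  rcases Nat.eq_or_lt_of_le hk with rfl | hk2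
  · have hq := quot_maxclass hcard hmax hn3 1 le_rfl (by omega)
    have hr := pRankLE_quot hsr.1 ((⊤ : Subgroup S).lowerCentralSeries 1)
    have hq2 := quot_maxclass hcard hmax hn3 2 (by norm_num) (by omega)
    have h1 := pow_mem_last (p := p) 3 le_rfl (S ⧸ (⊤ : Subgroup S).lowerCentralSeries 2)
      (by omega) hq2.1 hq2.2
    have h2 : ∀ x : S, x ^ p ∈ (⊤ : Subgroup S).lowerCentralSeries 1 :=
      pow_mem_of_quot 1 2 (by norm_num) h1
    have hcomm' : ∀ a b : S ⧸ (⊤ : Subgroup S).lowerCentralSeries 1, a * b = b * a := by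
      intro a b
      induction a using QuotientGroup.induction_on with
      | H x =>
        induction b using QuotientGroup.induction_on with
        | H y =>
          rw [← QuotientGroup.mk_mul, ← QuotientGroup.mk_mul, QuotientGroup.eq]
          have e : (x * y)⁻¹ * (y * x) = ⁅y⁻¹, x⁻¹⁆ := by rw [commutatorElement_def]; group
          rw [e]
          show ⁅y⁻¹, x⁻¹⁆ ∈ ⁅(⊤ : Subgroup S).lowerCentralSeries 0, ⊤⁆
          exact Subgroup.commutator_mem_commutator (Subgroup.mem_top _) (Subgroup.mem_top _)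
    have hcomm : IsMulCommutative (⊤ : Subgroup (S ⧸ (⊤ : Subgroup S).lowerCentralSeries 1)) :=
      ⟨⟨fun a b => Subtype.ext (hcomm' a b)⟩⟩
    have h3 := hr ⊤ hcomm (fun a _ => by
      induction a using QuotientGroup.induction_on with
      | H x =>
        rw [← QuotientGroup.mk_pow]
        exact (QuotientGroup.eq_one_iff _).mpr (h2 x))
    rw [Subgroup.card_top, hq.1] at h3
    have := (Nat.pow_le_pow_iff_right hp.out.one_lt).mp h3
    omega
  · have hq := quot_maxclass hcard hmax hn3 (2 * k) (by omega) (by omega)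
    obtain ⟨A, hA, hexp, hAc⟩ := core (p := p) k hk2 hpk hq.1 hq.2
    have hr := pRankLE_quot hsr.1 ((⊤ : Subgroup S).lowerCentralSeries (2 * k))
    have h3 := hr A hA hexp
    rw [hAc] at h3
    have := (Nat.pow_le_pow_iff_right hp.out.one_lt).mp h3
    omega

end Cfsg.Agent.S3806
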