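import Cfsg.Statements.S3866
import Mathlib

set_option autoImplicit false
open Cfsg

namespace Cfsg.Agent.S3866

theorem gen_comm {G Q : Type*} [Group G] [Group Q] (π : G →* Q) (hπ : Function.Surjective π)
    (A : Subgroup G) (x : G) (hgen : A ⊔ Subgroup.zpowers x = ⊤)
    (hA : ∀ a ∈ A, ∀ b ∈ A, π a * π b = π b * π a)
    (hx : ∀ a ∈ A, π x * π a = π a * π x) : ∀ q₁ q₂ : Q, q₁ * q₂ = q₂ * q₁ := by
  have key : ∀ u : G, (∀ a ∈ A, π a * π u = π u * π a) → (π x * π u = π u * π x) →
      ∀ g, π g * π u = π u * π g := by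
    intro u h1 h2 g
    have htop : (Subgroup.centralizer {π u}).comap π = ⊤ := by
      rw [eq_top_iff, ← hgen, sup_le_iff, Subgroup.zpowers_le]
      refine ⟨fun a ha => ?_, ?_⟩
      · rw [Subgroup.mem_comap, Subgroup.mem_centralizer_singleton_iff]
        exact h1 a ha
      · rw [Subgroup.mem_comap, Subgroup.mem_centralizer_singleton_iff]
        exact h2
    have hg : g ∈ (Subgroup.centralizer {π u}).comap π := htop ▸ Subgroup.mem_top g
    rw [Subgroup.mem_comap, Subgroup.mem_centralizer_singleton_iff] at hg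
    exact hg
  have hAall : ∀ a ∈ A, ∀ g, π g * π a = π a * π g :=
    fun a ha => key a (fun b hb => hA b hb a ha) (hx a ha)
  have hxall : ∀ g, π g * π x = π x * π g :=
    key x (fun a ha => (hx a ha).symm) rfl
  intro q₁ q₂
  obtain ⟨g₁, rfl⟩ := hπ q₁
  obtain ⟨g₂, rfl⟩ := hπ q₂
  exact key g₂ (fun a ha => (hAall a ha g₂).symm) (hxall g₂).symm g₁

/-- Let A be a commutative normal subgroup of the finite group G with G generated by A and an element x. Then a ↦ x a x⁻¹ a⁻¹ is a surjective homomorphism from A onto the commutator subgroup of G whose kernel is the centralizer of x in A; in particular the commutator subgroup has order equal to the index in A of that centralizer. -/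
theorem result {G : Type*} [Group G] [Finite G] (A : Subgroup G) [A.Normal] (hA : IsMulCommutative A) (x : G) (hgen : A ⊔ Subgroup.zpowers x = ⊤) : (∀ a ∈ A, x * a * x⁻¹ * a⁻¹ ∈ commutator G) ∧ (∀ c ∈ commutator G, ∃ a ∈ A, x * a * x⁻¹ * a⁻¹ = c) ∧ (∀ a ∈ A, ∀ b ∈ A, x * (a * b) * x⁻¹ * (a * b)⁻¹ = (x * a * x⁻¹ * a⁻¹) * (x * b * x⁻¹ * b⁻¹)) ∧ Nat.card (commutator G) * Nat.card ↥(A ⊓ Subgroup.centralizer ({x} : Set G)) = Nat.card A := by
  have hAn : A.Normal := inferInstance
  have hcomm : ∀ a ∈ A, ∀ b ∈ A, a * b = b * a := by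
    intro a ha b hb
    have := (isMulCommutative_iff.mp hA) ⟨a, ha⟩ ⟨b, hb⟩
    exact congrArg Subtype.val this
  have hmem : ∀ a ∈ A, x * a * x⁻¹ * a⁻¹ ∈ A :=
    fun a ha => A.mul_mem (hAn.conj_mem a ha x) (A.inv_mem ha)
  have hmul : ∀ a ∈ A, ∀ b ∈ A, x * (a * b) * x⁻¹ * (a * b)⁻¹ =
      (x * a * x⁻¹ * a⁻¹) * (x * b * x⁻¹ * b⁻¹) := by
    intro a ha b hb
    have h1 : x * (a * b) * x⁻¹ * (a * b)⁻¹ = (x * a * x⁻¹) * ((x * b * x⁻¹ * b⁻¹) * a⁻¹) := by
      group
    rw [h1, hcomm _ (hmem b hb) _ (A.inv_mem ha)]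
    group
  let θ : A →* A :=
    { toFun := fun a => ⟨x * a * x⁻¹ * a⁻¹, hmem a a.2⟩
      map_one' := by ext; simp
      map_mul' := by
        intro a b
        ext
        simpa using hmul a a.2 b b.2 }
  have hθ : ∀ a : A, ((θ a : A) : G) = x * a * x⁻¹ * (a : G)⁻¹ := fun a => rfl
  set I : Subgroup G := θ.range.map A.subtype with hI
  have hI_mem : ∀ c, c ∈ I ↔ ∃ a ∈ A, x * a * x⁻¹ * a⁻¹ = c := by
    intro c
    constructor
    · rintro ⟨_, ⟨a, rfl⟩, rfl⟩
      exact ⟨a, a.2, rfl⟩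
    · rintro ⟨a, ha, rfl⟩
      exact ⟨θ ⟨a, ha⟩, ⟨⟨a, ha⟩, rfl⟩, rfl⟩
  have hIA : I ≤ A := Subgroup.map_subtype_le _
  have hIn : I.Normal := by
    rw [← Subgroup.normalizer_eq_top_iff, eq_top_iff, ← hgen, sup_le_iff, Subgroup.zpowers_le]
    constructor
    · rw [Subgroup.le_normalizer_iff]
      intro a ha c hc
      have : a * c * a⁻¹ = c := by
        rw [hcomm a ha c (hIA hc)]; group
      rw [this]; exact hc
    · rw [Subgroup.mem_normalizer_iff]
      intro c
      rw [hI_mem, hI_mem]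
      constructor
      · rintro ⟨a, ha, rfl⟩
        refine ⟨x * a * x⁻¹, hAn.conj_mem a ha x, ?_⟩
        group
      · rintro ⟨a, ha, hac⟩
        refine ⟨x⁻¹ * a * x, ?_, ?_⟩
        · have := hAn.conj_mem a ha x⁻¹
          simpa using this
        · have : c = x⁻¹ * (x * c * x⁻¹) * x := by group
          rw [this, ← hac]
          group
  have hq : IsMulCommutative (G ⧸ I) := by
    rw [isMulCommutative_iff]
    apply gen_comm (QuotientGroup.mk' I) (QuotientGroup.mk'_surjective I) A x hgen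
    · intro a ha b hb
      rw [← map_mul, ← map_mul, hcomm a ha b hb]
    · intro a ha
      rw [← commutatorElement_eq_one_iff_mul_comm, ← map_commutatorElement,
        QuotientGroup.mk'_apply, QuotientGroup.eq_one_iff, commutatorElement_def]
      exact (hI_mem _).mpr ⟨a, ha, rfl⟩
  have hle : commutator G ≤ I := Subgroup.Normal.quotient_commutative_iff_commutator_le.mp hq
  have hge : I ≤ commutator G := by
    intro c hc
    obtain ⟨a, ha, rfl⟩ := (hI_mem c).mp hc
    rw [commutator_def, ← commutatorElement_def]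
    exact Subgroup.commutator_mem_commutator (Subgroup.mem_top x) (Subgroup.mem_top a)
  have hIeq : commutator G = I := le_antisymm hle hge
  refine ⟨fun a ha => hge ((hI_mem _).mpr ⟨a, ha, rfl⟩), fun c hc => (hI_mem c).mp (hle hc), hmul, ?_⟩
  rw [hIeq]
  have hcardI : Nat.card I = Nat.card θ.range :=
    (Nat.card_congr (Subgroup.equivMapOfInjective θ.range A.subtype A.subtype_injective).toEquiv).symm
  have hker : θ.ker = (A ⊓ Subgroup.centralizer ({x} : Set G)).subgroupOf A := by
    ext a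
    rw [MonoidHom.mem_ker, Subgroup.mem_subgroupOf, Subgroup.mem_inf,
      Subgroup.mem_centralizer_singleton_iff]
    constructor
    · intro h
      have h1 : x * a * x⁻¹ * (a : G)⁻¹ = 1 := by
        rw [← hθ, h]; rfl
      refine ⟨a.2, ?_⟩
      have h2 : x * a = (x * a * x⁻¹ * (a : G)⁻¹) * (a * x) := by group
      rw [h2, h1, one_mul]
    · rintro ⟨_, h⟩
      ext
      rw [hθ, ← h]
      simp
  have hcardK : Nat.card θ.ker = Nat.card ↥(A ⊓ Subgroup.centralizer ({x} : Set G)) := by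
    rw [hker]
    exact Nat.card_congr (Subgroup.subgroupOfEquivOfLe inf_le_left).toEquiv
  rw [hcardI, ← hcardK, ← Subgroup.index_ker, mul_comm]
  exact Subgroup.card_mul_index θ.ker

end Cfsg.Agent.S3866
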