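import Cfsg.Statements.S3807
import Cfsg.Agent.S3866
import Mathlib

set_option autoImplicit false
open Cfsg

namespace Cfsg.Agent.S3807

theorem sup_eq_top_of_index_prime {G : Type*} [Group G] {p : ℕ} (hp : p.Prime) (B K : Subgroup G)
    (hB : B.index = p) (h : ¬ K ≤ B) : B ⊔ K = ⊤ := by
  have h1 := Subgroup.relIndex_mul_index (le_sup_left : B ≤ B ⊔ K)
  rw [hB] at h1
  have h2 : B.relIndex (B ⊔ K) ≠ 1 := by
    intro h'
    rw [Subgroup.relIndex_eq_one] at h'
    exact h (le_sup_right.trans h')
  have h3 : B.relIndex (B ⊔ K) ∣ p := Dvd.intro _ h1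
  rcases (Nat.dvd_prime hp).mp h3 with h4 | h4
  · exact absurd h4 h2
  · rw [h4] at h1
    have h5 : (B ⊔ K).index = 1 := by
      have : p * (B ⊔ K).index = p * 1 := by rw [h1, mul_one]
      exact Nat.eq_of_mul_eq_mul_left hp.pos this
    exact Subgroup.index_eq_one.mp h5

theorem card_mul_relIndex_of_le {X : Type*} [Group X] {H K : Subgroup X} (h : H ≤ K) :
    Nat.card H * H.relIndex K = Nat.card K := by
  rw [Subgroup.relIndex, ← Subgroup.card_mul_index (H.subgroupOf K),
    Nat.card_congr (Subgroup.subgroupOfEquivOfLe h).toEquiv]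

theorem relIndex_pos {X : Type*} [Group X] [Finite X] (H K : Subgroup X) : 0 < H.relIndex K := by
  have h := card_mul_relIndex_of_le (inf_le_right : H ⊓ K ≤ K)
  rw [Subgroup.inf_relIndex_right] at h
  rcases Nat.eq_zero_or_pos (H.relIndex K) with h0 | h0
  · rw [h0, mul_zero] at h
    exact absurd h.symm (Nat.card_pos).ne'
  · exact h0

theorem card_mul_card_le {X : Type*} [Group X] [Finite X] (A B : Subgroup X) :
    Nat.card A * Nat.card B ≤ Nat.card (A ⊔ B : Subgroup X) * Nat.card (A ⊓ B : Subgroup X) := by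
  have h1 : Nat.card (A ⊓ B : Subgroup X) * B.relIndex A = Nat.card A := by
    have := card_mul_relIndex_of_le (inf_le_left : A ⊓ B ≤ A)
    rwa [Subgroup.inf_relIndex_left] at this
  have h2 : Nat.card B * B.relIndex (A ⊔ B) = Nat.card (A ⊔ B : Subgroup X) :=
    card_mul_relIndex_of_le le_sup_right
  have h3 : B.relIndex A ≤ B.relIndex (A ⊔ B) :=
    Subgroup.relIndex_le_of_le_right le_sup_left (relIndex_pos B (A ⊔ B)).ne'
  calc Nat.card A * Nat.card B
      = Nat.card (A ⊓ B : Subgroup X) * B.relIndex A * Nat.card B := by rw [h1]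
    _ ≤ Nat.card (A ⊓ B : Subgroup X) * B.relIndex (A ⊔ B) * Nat.card B := by gcongr
    _ = Nat.card (A ⊔ B : Subgroup X) * Nat.card (A ⊓ B : Subgroup X) := by rw [← h2]; ring

theorem comm_of_mem {S : Type*} [Group S] (B : Subgroup S) (hB : IsMulCommutative ↥B) :
    ∀ a ∈ B, ∀ b ∈ B, a * b = b * a := by
  intro a ha b hb
  have := (isMulCommutative_iff.mp hB) ⟨a, ha⟩ ⟨b, hb⟩
  exact congrArg Subtype.val this

theorem center_le_of_abelian_index {S : Type*} [Group S] {p : ℕ} (hp : p.Prime)
    (hna : ¬ IsMulCommutative S) (B : Subgroup S) (hB : IsMulCommutative ↥B) (hBi : B.index = p) :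
    Subgroup.center S ≤ B := by
  by_contra hle
  have htop : B ⊔ Subgroup.center S = ⊤ := sup_eq_top_of_index_prime hp B _ hBi hle
  have hBcomm := comm_of_mem B hB
  have hBZ : B ≤ Subgroup.center S := by
    intro a ha
    have hc : Subgroup.centralizer ({a} : Set S) = ⊤ := by
      rw [eq_top_iff, ← htop, sup_le_iff]
      refine ⟨fun b hb => ?_, fun z hz => ?_⟩
      · rw [Subgroup.mem_centralizer_singleton_iff]
        exact hBcomm b hb a ha
      · rw [Subgroup.mem_centralizer_singleton_iff]
        exact ((Subgroup.mem_center_iff.mp hz) a).symm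
    rw [Subgroup.mem_center_iff]
    intro g
    have hg : g ∈ Subgroup.centralizer ({a} : Set S) := hc ▸ Subgroup.mem_top g
    rw [Subgroup.mem_centralizer_singleton_iff] at hg
    exact hg
  have hZtop : Subgroup.center S = ⊤ := by
    rw [eq_top_iff, ← htop]
    exact sup_le hBZ le_rfl
  apply hna
  rw [isMulCommutative_iff]
  intro a b
  have : a ∈ Subgroup.center S := hZtop ▸ Subgroup.mem_top a
  exact ((Subgroup.mem_center_iff.mp this) b).symm

theorem center_sup_zpowers_comm {S : Type*} [Group S] (a : S) :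
    IsMulCommutative ↥(Subgroup.center S ⊔ Subgroup.zpowers a) := by
  rw [isMulCommutative_iff]
  rintro ⟨x, hx⟩ ⟨y, hy⟩
  apply Subtype.ext
  change x * y = y * x
  obtain ⟨z, hz, u, hu, rfl⟩ := Subgroup.mem_sup_of_normal_left.mp hx
  obtain ⟨z', hz', u', hu', rfl⟩ := Subgroup.mem_sup_of_normal_left.mp hy
  obtain ⟨i, rfl⟩ := Subgroup.mem_zpowers_iff.mp hu
  obtain ⟨i', rfl⟩ := Subgroup.mem_zpowers_iff.mp hu'
  have c1 := Subgroup.mem_center_iff.mp hz
  have c2 := Subgroup.mem_center_iff.mp hz'
  have c3 : a ^ i * a ^ i' = a ^ i' * a ^ i := by rw [← zpow_add, ← zpow_add, add_comm]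
  calc z * a ^ i * (z' * a ^ i') = z * (a ^ i * z') * a ^ i' := by group
    _ = z * (z' * a ^ i) * a ^ i' := by rw [c2 (a ^ i)]
    _ = (z * z') * (a ^ i * a ^ i') := by group
    _ = (z' * z) * (a ^ i' * a ^ i) := by rw [c1 z', c3]
    _ = z' * (z * a ^ i') * a ^ i := by group
    _ = z' * (a ^ i' * z) * a ^ i := by rw [c1 (a ^ i')]
    _ = z' * a ^ i' * (z * a ^ i) := by group

theorem arith (p z F t : ℕ) (hp : 2 ≤ p) (hz : 0 < z) (h1 : F + z = p * z)
    (h2 : t * F + z = p * p * z) : t = p + 1 := by
  obtain ⟨k, rfl⟩ : ∃ k, p = k + 1 := ⟨p - 1, by omega⟩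
  have hk : 0 < k := by omega
  have hF : F = k * z := by
    have : F + z = k * z + z := by rw [h1]; ring
    exact Nat.add_right_cancel this
  subst hF
  have h3 : t * (k * z) = (k + 2) * (k * z) := by
    have : t * (k * z) + z = (k + 2) * (k * z) + z := by rw [h2]; ring
    exact Nat.add_right_cancel this
  have := Nat.eq_of_mul_eq_mul_right (Nat.mul_pos hk hz) h3
  omega

/-- Counting the abelian subgroups of index `p` when the centre has index `p ^ 2`. -/
theorem count_abelian {S : Type*} [Group S] [Finite S] {p : ℕ} [Fact p.Prime]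
    (hna : ¬ IsMulCommutative S) (hidx : (Subgroup.center S).index = p * p) :
    Nat.card {B : Subgroup S // IsMulCommutative ↥B ∧ B.index = p} = p + 1 := by
  have hpp : p.Prime := Fact.out
  set Z := Subgroup.center S with hZ
  set z := Nat.card Z with hz
  have hzpos : 0 < z := Nat.card_pos
  have hcardS : Nat.card S = p * p * z := by
    rw [← Subgroup.card_mul_index Z, hidx]; ring
  have hZtop : Z ≠ ⊤ := by
    intro h
    apply hna
    rw [isMulCommutative_iff]
    intro a b
    have : a ∈ Z := h ▸ Subgroup.mem_top a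
    exact ((Subgroup.mem_center_iff.mp this) b).symm
  have hcardB : ∀ B : Subgroup S, B.index = p → Nat.card B = p * z := by
    intro B hB
    have h1 := Subgroup.card_mul_index B
    rw [hB, hcardS] at h1
    have h2 : p * p * z = p * z * p := by ring
    rw [h2] at h1
    exact Nat.eq_of_mul_eq_mul_right hpp.pos h1
  -- the subgroup generated by the centre and a non-central element
  have hBg : ∀ g : S, g ∉ Z → (Z ⊔ Subgroup.zpowers g).index = p := by
    intro g hg
    have hdvd : (Z ⊔ Subgroup.zpowers g).index ∣ p ^ 2 := by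
      rw [pow_two, ← hidx]
      exact Subgroup.index_dvd_of_le le_sup_left
    obtain ⟨k, hk, hk'⟩ := (Nat.dvd_prime_pow hpp).mp hdvd
    have hk012 : k = 0 ∨ k = 1 ∨ k = 2 := by omega
    rcases hk012 with rfl | rfl | rfl
    · exfalso
      rw [pow_zero] at hk'
      have htop := Subgroup.index_eq_one.mp hk'
      apply hna
      rw [isMulCommutative_iff]
      intro a b
      have ha : a ∈ Z ⊔ Subgroup.zpowers g := htop ▸ Subgroup.mem_top a
      have hb : b ∈ Z ⊔ Subgroup.zpowers g := htop ▸ Subgroup.mem_top b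
      exact comm_of_mem _ (center_sup_zpowers_comm g) a ha b hb
    · rw [hk', pow_one]
    · exfalso
      have h1 := Subgroup.card_mul_index (Z ⊔ Subgroup.zpowers g)
      rw [hk', hcardS] at h1
      have h2 : p * p * z = z * p ^ 2 := by ring
      rw [h2] at h1
      have h3 : Nat.card ↥(Z ⊔ Subgroup.zpowers g) = z :=
        Nat.eq_of_mul_eq_mul_right (pow_pos hpp.pos 2) h1
      have h4 := Subgroup.eq_of_le_of_card_ge (le_sup_left : Z ≤ Z ⊔ Subgroup.zpowers g) h3.le
      apply hg
      rw [h4]
      exact Subgroup.mem_sup_right (Subgroup.mem_zpowers g)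
  let T := {B : Subgroup S // IsMulCommutative ↥B ∧ B.index = p}
  let f : {g : S // g ∉ Z} → T := fun g =>
    ⟨Z ⊔ Subgroup.zpowers (g : S), center_sup_zpowers_comm (g : S), hBg g g.2⟩
  have hfiber : ∀ B : T, Nat.card {g : {g : S // g ∉ Z} // f g = B} + z = p * z := by
    intro B
    have hZB : Z ≤ B.1 := center_le_of_abelian_index hpp hna B.1 B.2.1 B.2.2
    have hiff : ∀ g : {g : S // g ∉ Z}, f g = B ↔ (g : S) ∈ B.1 := by
      intro g
      constructor
      · intro h
        have h1 : Z ⊔ Subgroup.zpowers (g : S) = B.1 := congrArg Subtype.val h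
        rw [← h1]
        exact Subgroup.mem_sup_right (Subgroup.mem_zpowers _)
      · intro h
        apply Subtype.ext
        have hle : Z ⊔ Subgroup.zpowers (g : S) ≤ B.1 :=
          sup_le hZB ((Subgroup.zpowers_le).mpr h)
        apply Subgroup.eq_of_le_of_card_ge hle
        rw [hcardB _ B.2.2, hcardB _ (hBg g g.2)]
    let e : {g : {g : S // g ∉ Z} // f g = B} ≃ ↥((B.1 : Set S) \ (Z : Set S)) :=
      { toFun := fun g => ⟨(g.1 : S), (hiff g.1).mp g.2, g.1.2⟩
        invFun := fun g => ⟨⟨(g : S), g.2.2⟩, (hiff _).mpr g.2.1⟩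
        left_inv := fun g => rfl
        right_inv := fun g => rfl }
    rw [Nat.card_congr e, Nat.card_coe_set_eq]
    have h1 := Set.ncard_sdiff_add_ncard_of_subset (s := (Z : Set S)) (t := (B.1 : Set S)) hZB
    have h2 : (Z : Set S).ncard = z := (Nat.card_coe_set_eq (Z : Set S)).symm
    have h3 : (B.1 : Set S).ncard = p * z := by
      rw [← hcardB _ B.2.2]
      exact (Nat.card_coe_set_eq (B.1 : Set S)).symm
    rw [h2, h3] at h1
    exact h1
  have htotal : Nat.card {g : S // g ∉ Z} + z = p * p * z := by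
    let e : {g : S // g ∉ Z} ≃ ↥((Set.univ : Set S) \ (Z : Set S)) :=
      { toFun := fun g => ⟨(g : S), Set.mem_univ _, g.2⟩
        invFun := fun g => ⟨(g : S), g.2.2⟩
        left_inv := fun g => rfl
        right_inv := fun g => rfl }
    rw [Nat.card_congr e, Nat.card_coe_set_eq]
    have h1 := Set.ncard_sdiff_add_ncard_of_subset (s := (Z : Set S)) (t := (Set.univ : Set S))
      (Set.subset_univ _)
    have h2 : (Z : Set S).ncard = z := (Nat.card_coe_set_eq (Z : Set S)).symm
    rw [h2, Set.ncard_univ, hcardS] at h1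
    exact h1
  haveI : Fintype T := Fintype.ofFinite T
  set F := p * z - z with hF
  have hFz : F + z = p * z := by
    have : z ≤ p * z := Nat.le_mul_of_pos_left z hpp.pos
    omega
  have hfiber' : ∀ B : T, Nat.card {g : {g : S // g ∉ Z} // f g = B} = F := by
    intro B
    have := hfiber B
    omega
  have hsum : Nat.card {g : S // g ∉ Z} = Nat.card T * F := by
    rw [← Nat.card_congr (Equiv.sigmaFiberEquiv f), Nat.card_sigma]
    simp only [hfiber']
    rw [Finset.sum_const, Finset.card_univ, smul_eq_mul, Nat.card_eq_fintype_card]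
  rw [hsum] at htotal
  exact arith p z F (Nat.card T) hpp.two_le hzpos hFz htotal

/-- Let S be a non-abelian finite p-group with an abelian subgroup A of index p. Then [S : Z(S)] = p·#[S,S], and either [S,S] has order p, S/Z(S) is elementary abelian of order p², and S has exactly p + 1 abelian subgroups of index p; or [S,S] has order at least p² and A is the only abelian subgroup of index p in S. -/
theorem result {S : Type*} [Group S] [Finite S] (p : ℕ) [Fact p.Prime] (hS : IsPGroup p S) (hna : ¬ IsMulCommutative S)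
    (A : Subgroup S) (hA : IsMulCommutative ↥A) (hAi : A.index = p) :
    (Subgroup.center S).index = p * Nat.card (commutator S) ∧
      ((Nat.card (commutator S) = p ∧ Cfsg.IsElementaryAbelian p (⊤ : Subgroup (S ⧸ Subgroup.center S)) ∧
          Nat.card (S ⧸ Subgroup.center S) = p ^ 2 ∧
          Nat.card {B : Subgroup S // IsMulCommutative ↥B ∧ B.index = p} = p + 1) ∨
        (p ^ 2 ≤ Nat.card (commutator S) ∧ ∀ B : Subgroup S, IsMulCommutative ↥B → B.index = p → B = A)) := by
  have hpp : p.Prime := Fact.out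
  obtain ⟨n, hn⟩ := IsPGroup.iff_card.mp hS
  have hn0 : n ≠ 0 := by
    rintro rfl
    have h1 : A.index ∣ Nat.card S := Subgroup.index_dvd_card A
    rw [hAi, hn, pow_zero] at h1
    exact hpp.one_lt.ne' (Nat.dvd_one.mp h1)
  haveI hAn : A.Normal := by
    apply Subgroup.normal_of_index_eq_minFac_card
    rw [hAi, hn, hpp.pow_minFac hn0]
  have hAtop : A ≠ ⊤ := by
    intro h
    rw [h, Subgroup.index_top] at hAi
    exact hpp.one_lt.ne hAi
  obtain ⟨x, -, hx⟩ := SetLike.exists_of_lt (lt_top_iff_ne_top.mpr hAtop)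
  have hgen : A ⊔ Subgroup.zpowers x = ⊤ :=
    sup_eq_top_of_index_prime hpp A _ hAi (fun h => hx (h (Subgroup.mem_zpowers x)))
  have hres := (Cfsg.Agent.S3866.result A hA x hgen).2.2.2
  have hAcomm := comm_of_mem A hA
  have hZA : Subgroup.center S ≤ A := center_le_of_abelian_index hpp hna A hA hAi
  have hle : A ⊓ Subgroup.centralizer ({x} : Set S) ≤ Subgroup.center S := by
    rintro w ⟨hwA, hwx'⟩
    have hwx : w ∈ Subgroup.centralizer ({x} : Set S) := hwx'
    rw [Subgroup.mem_centralizer_singleton_iff] at hwx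
    have htop : Subgroup.centralizer ({w} : Set S) = ⊤ := by
      rw [eq_top_iff, ← hgen, sup_le_iff, Subgroup.zpowers_le]
      refine ⟨fun b hb => ?_, ?_⟩
      · rw [Subgroup.mem_centralizer_singleton_iff]
        exact hAcomm b hb w hwA
      · rw [Subgroup.mem_centralizer_singleton_iff]
        exact hwx.symm
    rw [Subgroup.mem_center_iff]
    intro g
    have hg : g ∈ Subgroup.centralizer ({w} : Set S) := htop ▸ Subgroup.mem_top g
    rw [Subgroup.mem_centralizer_singleton_iff] at hg
    exact hg
  have hinf : A ⊓ Subgroup.centralizer ({x} : Set S) = Subgroup.center S :=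
    le_antisymm hle (le_inf hZA (Subgroup.center_le_centralizer _))
  rw [hinf] at hres
  have hzpos : 0 < Nat.card (Subgroup.center S) := Nat.card_pos
  have hcardS : Nat.card S = Nat.card (commutator S) * Nat.card (Subgroup.center S) * p := by
    rw [hres, ← hAi]
    exact (Subgroup.card_mul_index A).symm
  have hidx : (Subgroup.center S).index = p * Nat.card (commutator S) := by
    have h1 := Subgroup.card_mul_index (Subgroup.center S)
    rw [hcardS] at h1
    apply Nat.eq_of_mul_eq_mul_left hzpos
    rw [h1]; ring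
  refine ⟨hidx, ?_⟩
  obtain ⟨j, hj⟩ := IsPGroup.iff_card.mp (hS.to_subgroup (commutator S))
  have hj0 : j ≠ 0 := by
    rintro rfl
    rw [pow_zero] at hj
    have h1 : commutator S = ⊥ := Subgroup.card_eq_one.mp hj
    exact hna ((commutator_eq_bot_iff S).mp h1)
  by_cases hj1 : j = 1
  · left
    subst hj1
    rw [pow_one] at hj
    rw [hj] at hidx
    have hcardQ : Nat.card (S ⧸ Subgroup.center S) = p ^ 2 := by
      rw [← Subgroup.index_eq_card, hidx, pow_two]
    have hQcomm : IsMulCommutative (S ⧸ Subgroup.center S) :=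
      IsPGroup.isMulCommutative_of_card_eq_prime_sq hcardQ
    refine ⟨hj, ⟨?_, ?_⟩, hcardQ, count_abelian hna hidx⟩
    · rw [isMulCommutative_iff]
      intro a b
      apply Subtype.ext
      exact (isMulCommutative_iff.mp hQcomm) (a : S ⧸ Subgroup.center S) b
    · intro q _
      have hdvd : orderOf q ∣ p ^ 2 := hcardQ ▸ orderOf_dvd_natCard q
      obtain ⟨k, hk, hk'⟩ := (Nat.dvd_prime_pow hpp).mp hdvd
      have hk012 : k = 0 ∨ k = 1 ∨ k = 2 := by omega
      rcases hk012 with rfl | rfl | rfl
      · rw [pow_zero, orderOf_eq_one_iff] at hk'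
        rw [hk', one_pow]
      · rw [pow_one] at hk'
        rw [← hk', pow_orderOf_eq_one]
      · exfalso
        haveI : IsCyclic (S ⧸ Subgroup.center S) :=
          isCyclic_of_orderOf_eq_card q (by rw [hk', hcardQ])
        apply hna
        exact MonoidHom.isMulCommutative_of_isCyclic_of_ker_le_center
          (QuotientGroup.mk' (Subgroup.center S)) (by rw [QuotientGroup.ker_mk'])
  · right
    have hj2 : 2 ≤ j := by omega
    have hc2 : p ^ 2 ≤ Nat.card (commutator S) := by
      rw [hj]
      exact Nat.pow_le_pow_right hpp.pos hj2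
    refine ⟨hc2, ?_⟩
    intro B hB hBi
    by_contra hne
    have hBA : ¬ B ≤ A := by
      intro hle'
      apply hne
      apply Subgroup.eq_of_le_of_card_ge hle'
      have h1 := Subgroup.card_mul_index A
      have h2 := Subgroup.card_mul_index B
      rw [hAi] at h1
      rw [hBi, ← h1] at h2
      exact (Nat.eq_of_mul_eq_mul_right hpp.pos h2).ge
    have htop : A ⊔ B = ⊤ := sup_eq_top_of_index_prime hpp A B hAi hBA
    have hBcomm := comm_of_mem B hB
    have hABZ : A ⊓ B ≤ Subgroup.center S := by
      rintro w ⟨hwA, hwB⟩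
      have hc : Subgroup.centralizer ({w} : Set S) = ⊤ := by
        rw [eq_top_iff, ← htop, sup_le_iff]
        refine ⟨fun a ha => ?_, fun b hb => ?_⟩
        · rw [Subgroup.mem_centralizer_singleton_iff]
          exact hAcomm a ha w hwA
        · rw [Subgroup.mem_centralizer_singleton_iff]
          exact hBcomm b hb w hwB
      rw [Subgroup.mem_center_iff]
      intro g
      have hg : g ∈ Subgroup.centralizer ({w} : Set S) := hc ▸ Subgroup.mem_top g
      rw [Subgroup.mem_centralizer_singleton_iff] at hg
      exact hg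
    have h1 := card_mul_card_le A B
    rw [htop, Subgroup.card_top] at h1
    have h2 : Nat.card (A ⊓ B : Subgroup S) ≤ Nat.card (Subgroup.center S) :=
      Subgroup.card_le_of_le hABZ
    have hcA : Nat.card A * p = Nat.card S := by
      rw [← hAi]; exact Subgroup.card_mul_index A
    have hcB : Nat.card B * p = Nat.card S := by
      rw [← hBi]; exact Subgroup.card_mul_index B
    have hAB : Nat.card B = Nat.card A := by
      rw [← hcA] at hcB
      exact Nat.eq_of_mul_eq_mul_right hpp.pos hcB
    -- m * m ≤ m * p * z  where m = c * z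
    have h3 : Nat.card A * Nat.card A ≤ Nat.card A * p * Nat.card (Subgroup.center S) := by
      calc Nat.card A * Nat.card A = Nat.card A * Nat.card B := by rw [hAB]
        _ ≤ Nat.card S * Nat.card (A ⊓ B : Subgroup S) := h1
        _ ≤ Nat.card S * Nat.card (Subgroup.center S) := Nat.mul_le_mul_left _ h2
        _ = Nat.card A * p * Nat.card (Subgroup.center S) := by rw [hcA]
    have hApos : 0 < Nat.card A := Nat.card_pos
    have h4 : Nat.card A ≤ p * Nat.card (Subgroup.center S) := by
      have : Nat.card A * Nat.card A ≤ Nat.card A * (p * Nat.card (Subgroup.center S)) := by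
        rw [← mul_assoc]; exact h3
      exact Nat.le_of_mul_le_mul_left this hApos
    rw [← hres] at h4
    have h5 : Nat.card (commutator S) ≤ p := Nat.le_of_mul_le_mul_right h4 hzpos
    have h6 : p < p ^ 2 := by
      calc p = p ^ 1 := (pow_one p).symm
        _ < p ^ 2 := Nat.pow_lt_pow_right hpp.one_lt (by norm_num)
    omega

end Cfsg.Agent.S3807
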