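import Cfsg.Statements.S3808
import Mathlib

set_option autoImplicit false
open Cfsg

namespace Cfsg.Agent.S3808

theorem card_mul_relIndex_of_le {G : Type*} [Group G] {H K : Subgroup G} (h : H ≤ K) :
    Nat.card H * H.relIndex K = Nat.card K := by
  rw [Subgroup.relIndex, ← Subgroup.card_mul_index (H.subgroupOf K),
    Nat.card_congr (Subgroup.subgroupOfEquivOfLe h).toEquiv]

theorem relIndex_of_normal_eq {G : Type*} [Group G] [Finite G] (R T : Subgroup G) [T.Normal] :
    R.relIndex T = R.relIndex (R ⊔ T) := by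
  have hA := card_mul_relIndex_of_le (le_sup_left : R ≤ R ⊔ T)
  have hB := card_mul_relIndex_of_le (le_sup_right : T ≤ R ⊔ T)
  have hB' : T.relIndex (R ⊔ T) = T.relIndex R := Subgroup.relIndex_sup_right R T
  have hC := card_mul_relIndex_of_le (inf_le_left : R ⊓ T ≤ R)
  have hD := card_mul_relIndex_of_le (inf_le_right : R ⊓ T ≤ T)
  rw [Subgroup.inf_relIndex_right] at hD
  rw [inf_comm, Subgroup.inf_relIndex_right, inf_comm] at hC
  rw [hB'] at hB
  have hpos : 0 < Nat.card (R ⊓ T : Subgroup G) := Nat.card_pos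
  have hposR : 0 < Nat.card R := Nat.card_pos
  have key : Nat.card (R ⊓ T : Subgroup G) * Nat.card R * R.relIndex T =
      Nat.card (R ⊓ T : Subgroup G) * Nat.card R * R.relIndex (R ⊔ T) := by
    calc Nat.card (R ⊓ T : Subgroup G) * Nat.card R * R.relIndex T
        = Nat.card R * (Nat.card (R ⊓ T : Subgroup G) * R.relIndex T) := by ring
      _ = Nat.card R * Nat.card T := by rw [hD]
      _ = Nat.card T * (Nat.card (R ⊓ T : Subgroup G) * T.relIndex R) := by rw [hC]; ring
      _ = Nat.card (R ⊓ T : Subgroup G) * (Nat.card T * T.relIndex R) := by ring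
      _ = Nat.card (R ⊓ T : Subgroup G) * (Nat.card R * R.relIndex (R ⊔ T)) := by rw [hB, hA]
      _ = Nat.card (R ⊓ T : Subgroup G) * Nat.card R * R.relIndex (R ⊔ T) := by ring
  exact Nat.eq_of_mul_eq_mul_left (Nat.mul_pos hpos hposR) key

theorem normal_card_prime_le_center {S : Type*} [Group S] [Finite S] (p : ℕ) [Fact p.Prime]
    (hS : IsPGroup p S) (Z : Subgroup S) [Z.Normal] (hZ : Nat.card Z = p) :
    Z ≤ Subgroup.center S := by
  have hS' : IsPGroup p (ConjAct S) := hS.of_equiv ConjAct.toConjAct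
  have h1 : (1 : Z) ∈ MulAction.fixedPoints (ConjAct S) Z := by
    intro g
    exact smul_one g
  obtain ⟨b, hb, hb1⟩ := hS'.exists_fixed_point_of_prime_dvd_card_of_fixed_point (α := Z)
    (by rw [hZ]) h1
  have hbc : (b : S) ∈ Subgroup.center S := by
    rw [Subgroup.mem_center_iff]
    intro g
    have h2 := congrArg Subtype.val (hb (ConjAct.toConjAct g))
    rw [ConjAct.Subgroup.val_conj_smul, ConjAct.toConjAct_smul] at h2
    calc g * (b : S) = g * b * g⁻¹ * g := by group
      _ = b * g := by rw [h2]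
  intro z hz
  have hmem : (⟨z, hz⟩ : Z) ∈ Subgroup.zpowers b := by
    rw [zpowers_eq_top_of_prime_card hZ (Ne.symm hb1)]
    trivial
  obtain ⟨k, hk⟩ := Subgroup.mem_zpowers_iff.mp hmem
  have hz' : z = (b : S) ^ k := by
    have := congrArg Subtype.val hk
    simpa using this.symm
  rw [hz']
  exact Subgroup.zpow_mem _ hbc k

/-- Let S be a finite p-group with an extraspecial subgroup Q of index p. Then either Z(S) = Z(Q), or S = Q·Z(S) and Z(S) has order p². -/
theorem result {S : Type*} [Group S] [Finite S] (p : ℕ) [Fact p.Prime] (hS : IsPGroup p S) (Q : Subgroup S) (hQ : Cfsg.IsExtraspecial p ↥Q) (hQi : Q.index = p) :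
    Subgroup.center S = (Subgroup.center ↥Q).map Q.subtype ∨
      (Q ⊔ Subgroup.center S = ⊤ ∧ Nat.card (Subgroup.center S) = p ^ 2) := by
  have hpp : p.Prime := Fact.out
  have hZcard : Nat.card (Subgroup.center ↥Q) = p := hQ.2
  obtain ⟨n, hn⟩ := IsPGroup.iff_card.mp hS
  have hn0 : n ≠ 0 := by
    rintro rfl
    have h1 : Q.index ∣ Nat.card S := Subgroup.index_dvd_card Q
    rw [hQi, hn, pow_zero] at h1
    exact hpp.one_lt.ne' (Nat.dvd_one.mp h1)
  haveI hQn : Q.Normal := by
    apply Subgroup.normal_of_index_eq_minFac_card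
    rw [hQi, hn, hpp.pow_minFac hn0]
  set Z := (Subgroup.center ↥Q).map Q.subtype with hZ
  have hZn : Z.Normal := ConjAct.normal_of_characteristic_of_normal
  have hZc : Nat.card Z = p := by
    rw [← hZcard]
    exact (Nat.card_congr (Subgroup.equivMapOfInjective _ Q.subtype Q.subtype_injective).toEquiv).symm
  have hZle : Z ≤ Subgroup.center S := normal_card_prime_le_center p hS Z hZc
  have hZQ : Z ≤ Q := Subgroup.map_subtype_le _
  have hinf : Q ⊓ Subgroup.center S = Z := by
    apply le_antisymm
    · rintro z ⟨hzQ, hzc⟩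
      have hzc' : z ∈ Subgroup.center S := hzc
      have hmem : (⟨z, hzQ⟩ : Q) ∈ Subgroup.center ↥Q := by
        rw [Subgroup.mem_center_iff]
        intro g
        apply Subtype.ext
        exact (Subgroup.mem_center_iff.mp hzc') g
      exact ⟨⟨z, hzQ⟩, hmem, rfl⟩
    · exact le_inf hZQ hZle
  by_cases hle : Subgroup.center S ≤ Q
  · left
    rw [← hinf, inf_of_le_right hle]
  · right
    have htop : Q ⊔ Subgroup.center S = ⊤ := by
      have h1 := Subgroup.relIndex_mul_index (le_sup_left : Q ≤ Q ⊔ Subgroup.center S)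
      rw [hQi] at h1
      have h2 : Q.relIndex (Q ⊔ Subgroup.center S) ≠ 1 := by
        intro h
        rw [Subgroup.relIndex_eq_one] at h
        exact hle (le_sup_right.trans h)
      have h3 : Q.relIndex (Q ⊔ Subgroup.center S) ∣ p := Dvd.intro _ h1
      rcases (Nat.dvd_prime hpp).mp h3 with h4 | h4
      · exact absurd h4 h2
      · rw [h4] at h1
        have h5 : (Q ⊔ Subgroup.center S).index = 1 := by
          have : p * (Q ⊔ Subgroup.center S).index = p * 1 := by rw [h1, mul_one]
          exact Nat.eq_of_mul_eq_mul_left hpp.pos this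
        exact Subgroup.index_eq_one.mp h5
    refine ⟨htop, ?_⟩
    have h1 := card_mul_relIndex_of_le (inf_le_right : Q ⊓ Subgroup.center S ≤ Subgroup.center S)
    rw [Subgroup.inf_relIndex_right, relIndex_of_normal_eq, htop, Subgroup.relIndex_top_right, hQi,
      hinf, hZc] at h1
    rw [← h1, pow_two]

end Cfsg.Agent.S3808
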