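import Cfsg.Statements.S3809
import Cfsg.Agent.S0095
import Mathlib

set_option autoImplicit false
open Cfsg

namespace Cfsg.Agent.S3809

open scoped commutatorElement

theorem pow_mem_coatom {P : Type*} [Group P] [Finite P] {p : ℕ} [Fact p.Prime] (hP : IsPGroup p P)
    {M : Subgroup P} (hM : IsCoatom M) (u : P) : u ^ p ∈ M := by
  have hnil : Group.IsNilpotent P := hP.isNilpotent
  have hMn : M.Normal :=
    Subgroup.NormalizerCondition.normal_of_coatom M Group.normalizerCondition_of_isNilpotent hM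
  by_contra hu
  have hlt : M < M ⊔ Subgroup.zpowers (u ^ p) := by
    refine lt_of_le_of_ne le_sup_left ?_
    intro h
    apply hu
    have h0 : Subgroup.zpowers (u ^ p) ≤ M := by rw [h]; exact le_sup_right
    exact h0 (Subgroup.mem_zpowers _)
  have htop : M ⊔ Subgroup.zpowers (u ^ p) = ⊤ := hM.2 _ hlt
  have hmem : u ∈ M ⊔ Subgroup.zpowers (u ^ p) := by rw [htop]; exact Subgroup.mem_top _
  obtain ⟨m, hm, w, hw, hmw⟩ := Subgroup.mem_sup_of_normal_left.mp hmem
  obtain ⟨k, rfl⟩ := Subgroup.mem_zpowers_iff.mp hw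
  have h1 : u ^ (1 - (p : ℤ) * k) = m := by
    have h0 : (u ^ p) ^ k = u ^ ((p : ℤ) * k) := by rw [← zpow_natCast, ← zpow_mul]
    rw [h0] at hmw
    rw [zpow_sub, zpow_one]
    nth_rewrite 1 [← hmw]
    rw [mul_inv_cancel_right]
  obtain ⟨j, hj⟩ := hP u
  have hcop : IsCoprime (1 - (p : ℤ) * k) ((p : ℤ) ^ j) := by
    apply IsCoprime.pow_right
    exact ⟨1, k, by ring⟩
  obtain ⟨a, b, hab⟩ := hcop
  have h2 : u = (u ^ (1 - (p : ℤ) * k)) ^ a := by
    have h3 : u ^ (a * (1 - (p : ℤ) * k) + b * (p : ℤ) ^ j) = u := by rw [hab, zpow_one]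
    rw [zpow_add, zpow_mul' u b, ← Nat.cast_pow, zpow_natCast, hj, one_zpow,
      mul_one, mul_comm, zpow_mul] at h3
    exact h3.symm
  have hum : u ∈ M := by
    rw [h2, h1]; exact Subgroup.zpow_mem _ hm _
  exact hu (Subgroup.pow_mem _ hum p)

theorem pow_mem_frattini {P : Type*} [Group P] [Finite P] {p : ℕ} [Fact p.Prime]
    (hP : IsPGroup p P) (u : P) : u ^ p ∈ frattini P := by
  unfold frattini Order.radical
  simp only [Subgroup.mem_iInf]
  intro M hM
  exact pow_mem_coatom hP hM u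

/-- Let S be a finite p-group with an extraspecial subgroup of index p. Then S has order p^(2+2n) for some n ≥ 1, derived length at most 3, and exponent dividing p³. -/
theorem result {S : Type*} [Group S] [Finite S] (p : ℕ) [Fact p.Prime] (hS : IsPGroup p S) (Q : Subgroup S) (hQ : Cfsg.IsExtraspecial p ↥Q) (hQi : Q.index = p) :
    (∃ n : ℕ, 1 ≤ n ∧ Nat.card S = p ^ (2 + 2 * n)) ∧ derivedSeries S 3 = ⊥ ∧ ∀ x : S, x ^ (p ^ 3) = 1 := by
  have hp : p.Prime := Fact.out
  obtain ⟨n, hn, hcard⟩ := Cfsg.Agent.S0095.result (P := Q) (p := p) hQ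
  obtain ⟨⟨hQp, hfr, hcomm⟩, hZ⟩ := hQ
  haveI hQn : Q.Normal := by
    apply Subgroup.normal_of_index_eq_minFac_card
    obtain ⟨k, hk⟩ := hS.exists_card_eq
    have hk0 : k ≠ 0 := by
      rintro rfl
      have h0 := Subgroup.index_dvd_card Q
      rw [hQi, hk, pow_zero] at h0
      exact hp.one_lt.ne' (Nat.dvd_one.mp h0)
    rw [hQi, hk, Nat.pow_minFac hk0, hp.minFac_eq]
  have hpowQ : ∀ x : S, x ^ p ∈ Q := by
    intro x
    have h0 := Subgroup.pow_index_mem Q x
    rwa [hQi] at h0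
  have hcommQ : ∀ x y : S, ⁅x, y⁆ ∈ Q := by
    intro x y
    haveI : Fact (Nat.card (S ⧸ Q)).Prime := ⟨by rw [← Subgroup.index_eq_card, hQi]; exact hp⟩
    haveI : IsCyclic (S ⧸ Q) := isCyclic_of_prime_card (p := Nat.card (S ⧸ Q)) rfl
    obtain ⟨g, hg⟩ := IsCyclic.exists_generator (α := S ⧸ Q)
    obtain ⟨a, ha⟩ := Subgroup.mem_zpowers_iff.mp (hg (x : S ⧸ Q))
    obtain ⟨b, hb⟩ := Subgroup.mem_zpowers_iff.mp (hg (y : S ⧸ Q))
    have hc : Commute (x : S ⧸ Q) (y : S ⧸ Q) := by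
      rw [← ha, ← hb]; exact Commute.zpow_zpow_self g a b
    rw [← QuotientGroup.eq_one_iff]
    have h0 : ((⁅x, y⁆ : S) : S ⧸ Q) = ⁅(x : S ⧸ Q), (y : S ⧸ Q)⁆ := by
      simp [commutatorElement_def]
    rw [h0]
    exact commutatorElement_eq_one_iff_commute.mpr hc
  refine ⟨⟨n, hn, ?_⟩, ?_, ?_⟩
  · rw [← Subgroup.card_mul_index Q, hQi, hcard]; ring
  · have hD1 : derivedSeries S 1 ≤ Q := by
      rw [derivedSeries_succ, Subgroup.commutator_le]
      intro x _ y _
      exact hcommQ x y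
    have hD2 : derivedSeries S 2 ≤ (Subgroup.center Q).map Q.subtype := by
      rw [derivedSeries_succ, Subgroup.commutator_le]
      intro x hx y hy
      refine ⟨⁅(⟨x, hD1 hx⟩ : Q), ⟨y, hD1 hy⟩⁆, ?_, ?_⟩
      · rw [← hcomm, commutator_def]
        exact Subgroup.commutator_mem_commutator (Subgroup.mem_top _) (Subgroup.mem_top _)
      · simp [commutatorElement_def]
    rw [derivedSeries_succ, eq_bot_iff, Subgroup.commutator_le]
    intro x hx y hy
    obtain ⟨z₁, hz₁, rfl⟩ := hD2 hx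
    obtain ⟨z₂, hz₂, rfl⟩ := hD2 hy
    rw [Subgroup.mem_bot, commutatorElement_eq_one_iff_commute]
    have h0 : z₂ * z₁ = z₁ * z₂ := Subgroup.mem_center_iff.mp hz₁ z₂
    have h1 : (z₁ : S) * (z₂ : S) = (z₂ : S) * (z₁ : S) := by
      have h2 := congrArg Subtype.val h0
      simpa using h2.symm
    exact h1
  · intro x
    have h1 : x ^ p ∈ Q := hpowQ x
    have h2 : (⟨x ^ p, h1⟩ : Q) ^ p ∈ Subgroup.center Q := by
      rw [← hfr]; exact pow_mem_frattini hQp _
    have h3 : ((⟨_, h2⟩ : Subgroup.center Q)) ^ p = 1 := by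
      have h4 := pow_card_eq_one' (G := Subgroup.center Q) (x := ⟨_, h2⟩)
      rwa [hZ] at h4
    have h4 : (((⟨_, h2⟩ : Subgroup.center Q) ^ p : Subgroup.center Q) : S) = 1 := by
      rw [h3]; rfl
    have h5 : x ^ p ^ 3 = ((x ^ p) ^ p) ^ p := by
      rw [← pow_mul, ← pow_mul]; congr 1; ring
    rw [h5]
    simpa using h4

end Cfsg.Agent.S3809
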