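import Cfsg.Statements.S3810
import Cfsg.Agent.S3866
import Mathlib

set_option autoImplicit false
open Cfsg

namespace Cfsg.Agent.S3810

theorem sup_eq_top_of_index_prime {G : Type*} [Group G] {p : ℕ} (hp : p.Prime) (B K : Subgroup G)
    (hB : B.index = p) (h : ¬ K ≤ B) : B ⊔ K = ⊤ := by
  have h1 := Subgroup.relIndex_mul_index (le_sup_left : B ≤ B ⊔ K)
  rw [hB] at h1
  have h2 : B.relIndex (B ⊔ K) ≠ 1 := by
    intro h'
    rw [Subgroup.relIndex_eq_one] at h'
    exact h (le_sup_right.trans h')
  have h3 : B.relIndex (B ⊔ K) ∣ p := Dvd.intro _ h1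
  rcases (Nat.dvd_prime hp).mp h3 with h4 | h4
  · exact absurd h4 h2
  · rw [h4] at h1
    have h5 : (B ⊔ K).index = 1 := by
      have : p * (B ⊔ K).index = p * 1 := by rw [h1, mul_one]
      exact Nat.eq_of_mul_eq_mul_left hp.pos this
    exact Subgroup.index_eq_one.mp h5

theorem pow_dvd_prime_pow {p : ℕ} (hp : p.Prime) {a b : ℕ} (h : p ^ a ∣ p ^ b) : a ≤ b :=
  (Nat.pow_dvd_pow_iff_le_right hp.one_lt).mp h

/-- In a nonabelian `p`-group with derived subgroup and centre of order `p`, an abelian subgroup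
of index `p` forces order `p ^ 3`. -/
theorem card_eq_p3 {Q : Type*} [Group Q] [Finite Q] {p : ℕ} [Fact p.Prime] (hQ : IsPGroup p Q)
    (hc : Nat.card (commutator Q) = p) (hz : Nat.card (Subgroup.center Q) = p)
    (B : Subgroup Q) (hB : IsMulCommutative B) (hBi : B.index = p) : Nat.card Q = p ^ 3 := by
  have hpp : p.Prime := Fact.out
  obtain ⟨n, hn⟩ := IsPGroup.iff_card.mp hQ
  have hn0 : n ≠ 0 := by
    rintro rfl
    have h1 : B.index ∣ Nat.card Q := Subgroup.index_dvd_card B
    rw [hBi, hn, pow_zero] at h1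
    exact hpp.one_lt.ne' (Nat.dvd_one.mp h1)
  haveI hBn : B.Normal := by
    apply Subgroup.normal_of_index_eq_minFac_card
    rw [hBi, hn, hpp.pow_minFac hn0]
  have hBtop : B ≠ ⊤ := by
    intro h
    rw [h, Subgroup.index_top] at hBi
    exact hpp.one_lt.ne hBi
  obtain ⟨x, -, hx⟩ := SetLike.exists_of_lt (lt_top_iff_ne_top.mpr hBtop)
  have hgen : B ⊔ Subgroup.zpowers x = ⊤ :=
    sup_eq_top_of_index_prime hpp B _ hBi (fun h => hx (h (Subgroup.mem_zpowers x)))
  have hres := (Cfsg.Agent.S3866.result B hB x hgen).2.2.2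
  have hBcomm : ∀ a ∈ B, ∀ b ∈ B, a * b = b * a := by
    intro a ha b hb
    have := (isMulCommutative_iff.mp hB) ⟨a, ha⟩ ⟨b, hb⟩
    exact congrArg Subtype.val this
  have hle : B ⊓ Subgroup.centralizer ({x} : Set Q) ≤ Subgroup.center Q := by
    rintro z ⟨hzB, hzx'⟩
    have hzx : z ∈ Subgroup.centralizer ({x} : Set Q) := hzx'
    rw [Subgroup.mem_centralizer_singleton_iff] at hzx
    have htop : Subgroup.centralizer ({z} : Set Q) = ⊤ := by
      rw [eq_top_iff, ← hgen, sup_le_iff, Subgroup.zpowers_le]
      refine ⟨fun b hb => ?_, ?_⟩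
      · rw [Subgroup.mem_centralizer_singleton_iff]
        exact hBcomm b hb z hzB
      · rw [Subgroup.mem_centralizer_singleton_iff]
        exact hzx.symm
    rw [Subgroup.mem_center_iff]
    intro g
    have hg : g ∈ Subgroup.centralizer ({z} : Set Q) := htop ▸ Subgroup.mem_top g
    rw [Subgroup.mem_centralizer_singleton_iff] at hg
    exact hg
  have hdvd : Nat.card ↥(B ⊓ Subgroup.centralizer ({x} : Set Q)) ∣ p := by
    rw [← hz]
    exact Subgroup.card_dvd_of_le hle
  have hcardB : Nat.card B = p ∨ Nat.card B = p ^ 2 := by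
    rcases (Nat.dvd_prime hpp).mp hdvd with h | h
    · left; rw [← hres, hc, h, mul_one]
    · right; rw [← hres, hc, h, pow_two]
  have hcardQ : Nat.card Q = Nat.card B * p := by
    rw [← hBi]; exact (Subgroup.card_mul_index B).symm
  rcases hcardB with h | h
  · exfalso
    rw [h, ← pow_two] at hcardQ
    have hcomm := IsPGroup.isMulCommutative_of_card_eq_prime_sq hcardQ
    have h1 : commutator Q = ⊥ := (commutator_eq_bot_iff Q).mpr hcomm
    rw [h1, Subgroup.card_bot] at hc
    exact hpp.one_lt.ne hc
  · rw [hcardQ, h]; ring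

theorem exists_abelian_index_p {S : Type*} [Group S] [Finite S] {p : ℕ} [Fact p.Prime]
    (hS4 : Nat.card S = p ^ 4) (hna : ¬ IsMulCommutative S) :
    ∃ A : Subgroup S, IsMulCommutative ↥A ∧ A.index = p := by
  have hpp : p.Prime := Fact.out
  have hS : IsPGroup p S := IsPGroup.of_card hS4
  obtain ⟨k, hk0, hk⟩ := IsPGroup.card_center_eq_prime_pow hS4 (by norm_num)
  have hctop : Subgroup.center S ≠ ⊤ := by
    intro h
    apply hna
    rw [isMulCommutative_iff]
    intro a b
    have : a ∈ Subgroup.center S := h ▸ Subgroup.mem_top a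
    exact ((Subgroup.mem_center_iff.mp this) b).symm
  have hk4 : k ≤ 4 := by
    have h1 : Nat.card (Subgroup.center S) ∣ Nat.card S := Subgroup.card_subgroup_dvd_card _
    rw [hk, hS4] at h1
    exact pow_dvd_prime_pow hpp h1
  have hidx : (Subgroup.center S).index = p ^ (4 - k) := by
    have h1 := Subgroup.card_mul_index (Subgroup.center S)
    rw [hk, hS4] at h1
    have h2 : p ^ 4 = p ^ k * p ^ (4 - k) := by rw [← pow_add]; congr 1; omega
    rw [h2] at h1
    exact Nat.eq_of_mul_eq_mul_left (pow_pos hpp.pos k) h1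
  have hkne4 : k ≠ 4 := by
    rintro rfl
    rw [Nat.sub_self, pow_zero] at hidx
    exact hctop (Subgroup.index_eq_one.mp hidx)
  have hkne3 : k ≠ 3 := by
    rintro rfl
    have h1 : Nat.card (S ⧸ Subgroup.center S) = p := by
      rw [← Subgroup.index_eq_card, hidx]; norm_num
    haveI : IsCyclic (S ⧸ Subgroup.center S) := isCyclic_of_prime_card h1
    apply hna
    exact MonoidHom.isMulCommutative_of_isCyclic_of_ker_le_center
      (QuotientGroup.mk' (Subgroup.center S)) (by rw [QuotientGroup.ker_mk'])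
  have hk12 : k = 1 ∨ k = 2 := by omega
  rcases hk12 with rfl | rfl
  · -- centre of order p
    rw [pow_one] at hk
    haveI : Nontrivial (S ⧸ Subgroup.center S) := by
      rw [← Finite.one_lt_card_iff_nontrivial, ← Subgroup.index_eq_card, hidx]
      exact Nat.one_lt_pow (by norm_num) hpp.one_lt
    have hq : IsPGroup p (S ⧸ Subgroup.center S) := hS.to_quotient _
    haveI : Nontrivial (Subgroup.center (S ⧸ Subgroup.center S)) := hq.center_nontrivial
    obtain ⟨⟨q, hqc⟩, hq1⟩ := exists_ne (1 : Subgroup.center (S ⧸ Subgroup.center S))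
    obtain ⟨n, rfl⟩ := QuotientGroup.mk_surjective q
    have hn : n ∉ Subgroup.center S := by
      intro h
      apply hq1
      apply Subtype.ext
      exact (QuotientGroup.eq_one_iff n).mpr h
    have hcomm : ∀ s : S, s * n * s⁻¹ * n⁻¹ ∈ Subgroup.center S := by
      intro s
      rw [← QuotientGroup.eq_one_iff]
      have h1 := (Subgroup.mem_center_iff.mp hqc) (s : S ⧸ Subgroup.center S)
      rw [QuotientGroup.mk_mul, QuotientGroup.mk_mul, QuotientGroup.mk_mul, h1]
      simp
    let f : S →* Subgroup.center S :=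
      { toFun := fun s => ⟨s * n * s⁻¹ * n⁻¹, hcomm s⟩
        map_one' := by
          apply Subtype.ext
          simp
        map_mul' := by
          intro s t
          apply Subtype.ext
          change (s * t) * n * (s * t)⁻¹ * n⁻¹ = (s * n * s⁻¹ * n⁻¹) * (t * n * t⁻¹ * n⁻¹)
          have h1 := (Subgroup.mem_center_iff.mp (hcomm t)) (s * n * s⁻¹ * n⁻¹)
          rw [h1]
          have h2 := (Subgroup.mem_center_iff.mp (hcomm t)) s
          calc (s * t) * n * (s * t)⁻¹ * n⁻¹ = s * (t * n * t⁻¹ * n⁻¹) * n * s⁻¹ * n⁻¹ := by group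
            _ = (t * n * t⁻¹ * n⁻¹) * s * n * s⁻¹ * n⁻¹ := by rw [h2]
            _ = (t * n * t⁻¹ * n⁻¹) * (s * n * s⁻¹ * n⁻¹) := by group }
    have hker : f.ker = Subgroup.centralizer ({n} : Set S) := by
      ext s
      rw [MonoidHom.mem_ker, Subgroup.mem_centralizer_singleton_iff]
      constructor
      · intro h
        have h1 : s * n * s⁻¹ * n⁻¹ = 1 := congrArg Subtype.val h
        calc s * n = (s * n * s⁻¹ * n⁻¹) * (n * s) := by group
          _ = n * s := by rw [h1, one_mul]
      · intro h
        apply Subtype.ext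
        change s * n * s⁻¹ * n⁻¹ = 1
        rw [h]; group
    set C := Subgroup.centralizer ({n} : Set S) with hC
    have hCidx : C.index = p := by
      have h1 : C.index ∣ p := by
        rw [← hker, Subgroup.index_ker, ← hk]
        exact Subgroup.card_subgroup_dvd_card _
      rcases (Nat.dvd_prime hpp).mp h1 with h | h
      · exfalso
        apply hn
        rw [Subgroup.mem_center_iff]
        intro g
        have hg : g ∈ C := (Subgroup.index_eq_one.mp h) ▸ Subgroup.mem_top g
        rw [hC, Subgroup.mem_centralizer_singleton_iff] at hg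
        exact hg
      · exact h
    refine ⟨C, ?_, hCidx⟩
    have hcardC : Nat.card C = p ^ 3 := by
      have h1 := Subgroup.card_mul_index C
      rw [hCidx, hS4] at h1
      have h2 : p ^ 4 = p ^ 3 * p := by ring
      rw [h2] at h1
      exact Nat.eq_of_mul_eq_mul_right hpp.pos h1
    have hCp : IsPGroup p C := hS.to_subgroup C
    have hcenterC : Subgroup.center S ≤ C := by
      intro z hz
      rw [hC, Subgroup.mem_centralizer_singleton_iff]
      exact ((Subgroup.mem_center_iff.mp hz) n).symm
    have hnC : n ∈ C := by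
      rw [hC, Subgroup.mem_centralizer_singleton_iff]
    -- centre of C
    have hZ1 : (Subgroup.center S).subgroupOf C ≤ Subgroup.center ↥C := by
      intro z hz
      rw [Subgroup.mem_center_iff]
      intro g
      apply Subtype.ext
      exact (Subgroup.mem_center_iff.mp (Subgroup.mem_subgroupOf.mp hz)) g
    have hnZ : (⟨n, hnC⟩ : C) ∈ Subgroup.center ↥C := by
      rw [Subgroup.mem_center_iff]
      intro g
      apply Subtype.ext
      have hg2 : (g : S) ∈ Subgroup.centralizer ({n} : Set S) := g.2
      rw [Subgroup.mem_centralizer_singleton_iff] at hg2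
      exact hg2
    have hcardZ1 : Nat.card ((Subgroup.center S).subgroupOf C) = p := by
      rw [← hk]
      exact Nat.card_congr (Subgroup.subgroupOfEquivOfLe hcenterC).toEquiv
    obtain ⟨j, hj⟩ := IsPGroup.iff_card.mp (hCp.to_subgroup (Subgroup.center ↥C))
    have hj2 : 2 ≤ j := by
      by_contra hlt
      have hle : Nat.card (Subgroup.center ↥C) ≤ Nat.card ((Subgroup.center S).subgroupOf C) := by
        rw [hj, hcardZ1]
        have hj1 : j ≤ 1 := by omega
        calc p ^ j ≤ p ^ 1 := Nat.pow_le_pow_right hpp.pos hj1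
          _ = p := pow_one p
      have heq := Subgroup.eq_of_le_of_card_ge hZ1 hle
      rw [← heq] at hnZ
      exact hn (Subgroup.mem_subgroupOf.mp hnZ)
    have hj3 : j ≤ 3 := by
      have h1 : Nat.card (Subgroup.center ↥C) ∣ Nat.card C := Subgroup.card_subgroup_dvd_card _
      rw [hj, hcardC] at h1
      exact pow_dvd_prime_pow hpp h1
    have hidxZ : (Subgroup.center ↥C).index = p ^ (3 - j) := by
      have h1 := Subgroup.card_mul_index (Subgroup.center ↥C)
      rw [hj, hcardC] at h1
      have h2 : p ^ 3 = p ^ j * p ^ (3 - j) := by rw [← pow_add]; congr 1; omega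
      rw [h2] at h1
      exact Nat.eq_of_mul_eq_mul_left (pow_pos hpp.pos j) h1
    haveI : IsCyclic (↥C ⧸ Subgroup.center ↥C) := by
      have hj' : j = 2 ∨ j = 3 := by omega
      rcases hj' with rfl | rfl
      · apply isCyclic_of_prime_card (p := p)
        rw [← Subgroup.index_eq_card, hidxZ]; norm_num
      · have h1 : Nat.card (↥C ⧸ Subgroup.center ↥C) = 1 := by
          rw [← Subgroup.index_eq_card, hidxZ]; norm_num
        haveI : Subsingleton (↥C ⧸ Subgroup.center ↥C) := (Nat.card_eq_one_iff_unique.mp h1).1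
        exact isCyclic_of_subsingleton
    exact MonoidHom.isMulCommutative_of_isCyclic_of_ker_le_center
      (QuotientGroup.mk' (Subgroup.center ↥C)) (by rw [QuotientGroup.ker_mk'])
  · -- centre of order p^2
    obtain ⟨a, -, ha⟩ := SetLike.exists_of_lt (lt_top_iff_ne_top.mpr hctop)
    set A := Subgroup.center S ⊔ Subgroup.zpowers a with hA
    have hAcomm : IsMulCommutative ↥A := by
      rw [isMulCommutative_iff]
      rintro ⟨x, hx⟩ ⟨y, hy⟩
      apply Subtype.ext
      change x * y = y * x
      obtain ⟨z, hz, u, hu, rfl⟩ := Subgroup.mem_sup_of_normal_left.mp hx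
      obtain ⟨z', hz', u', hu', rfl⟩ := Subgroup.mem_sup_of_normal_left.mp hy
      obtain ⟨i, rfl⟩ := Subgroup.mem_zpowers_iff.mp hu
      obtain ⟨i', rfl⟩ := Subgroup.mem_zpowers_iff.mp hu'
      have c1 := Subgroup.mem_center_iff.mp hz
      have c2 := Subgroup.mem_center_iff.mp hz'
      have c3 : a ^ i * a ^ i' = a ^ i' * a ^ i := by rw [← zpow_add, ← zpow_add, add_comm]
      calc z * a ^ i * (z' * a ^ i') = z * (a ^ i * z') * a ^ i' := by group
        _ = z * (z' * a ^ i) * a ^ i' := by rw [c2 (a ^ i)]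
        _ = (z * z') * (a ^ i * a ^ i') := by group
        _ = (z' * z) * (a ^ i' * a ^ i) := by rw [c1 z', c3]
        _ = z' * (z * a ^ i') * a ^ i := by group
        _ = z' * (a ^ i' * z) * a ^ i := by rw [c1 (a ^ i')]
        _ = z' * a ^ i' * (z * a ^ i) := by group
    refine ⟨A, hAcomm, ?_⟩
    obtain ⟨j, hj⟩ := IsPGroup.iff_card.mp (hS.to_subgroup A)
    have hj3 : 3 ≤ j := by
      by_contra hlt
      have hle : Nat.card A ≤ Nat.card (Subgroup.center S) := by
        rw [hj, hk]
        exact Nat.pow_le_pow_right hpp.pos (by omega)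
      have heq := Subgroup.eq_of_le_of_card_ge (le_sup_left : Subgroup.center S ≤ A) hle
      apply ha
      rw [heq]
      exact Subgroup.mem_sup_right (Subgroup.mem_zpowers a)
    have hj4 : j ≤ 4 := by
      have h1 : Nat.card A ∣ Nat.card S := Subgroup.card_subgroup_dvd_card _
      rw [hj, hS4] at h1
      exact pow_dvd_prime_pow hpp h1
    have hjne4 : j ≠ 4 := by
      rintro rfl
      have hAtop : A = ⊤ := Subgroup.eq_top_of_card_eq A (by rw [hj, hS4])
      apply hna
      rw [isMulCommutative_iff]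
      intro x y
      have hx : x ∈ A := hAtop ▸ Subgroup.mem_top x
      have hy : y ∈ A := hAtop ▸ Subgroup.mem_top y
      have := (isMulCommutative_iff.mp hAcomm) ⟨x, hx⟩ ⟨y, hy⟩
      exact congrArg Subtype.val this
    have hj' : j = 3 := by omega
    subst hj'
    have h1 := Subgroup.card_mul_index A
    rw [hj, hS4] at h1
    have h2 : p ^ 4 = p ^ 3 * p := by ring
    rw [h2] at h1
    exact Nat.eq_of_mul_eq_mul_left (pow_pos hpp.pos 3) h1

/-- Let S be a finite p-group with an extraspecial subgroup of index p. Then S has an abelian subgroup of index p if and only if S has order p⁴. -/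
theorem result {S : Type*} [Group S] [Finite S] (p : ℕ) [Fact p.Prime] (hS : IsPGroup p S) (Q : Subgroup S) (hQ : Cfsg.IsExtraspecial p ↥Q) (hQi : Q.index = p) :
    (∃ A : Subgroup S, IsMulCommutative ↥A ∧ A.index = p) ↔ Nat.card S = p ^ 4 := by
  have hpp : p.Prime := Fact.out
  obtain ⟨⟨hQp, hfr, hcz⟩, hzc⟩ := hQ
  have hcc : Nat.card (commutator ↥Q) = p := by rw [hcz, hzc]
  have hQna : ¬ IsMulCommutative ↥Q := by
    intro h
    have h1 : commutator ↥Q = ⊥ := (commutator_eq_bot_iff _).mpr h
    rw [h1, Subgroup.card_bot] at hcc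
    exact hpp.one_lt.ne hcc
  have hSna : ¬ IsMulCommutative S := by
    intro h
    apply hQna
    rw [isMulCommutative_iff]
    intro a b
    apply Subtype.ext
    exact (isMulCommutative_iff.mp h) (a : S) (b : S)
  constructor
  · rintro ⟨A, hA, hAi⟩
    obtain ⟨n, hn⟩ := IsPGroup.iff_card.mp hS
    have hn0 : n ≠ 0 := by
      rintro rfl
      have h1 : Q.index ∣ Nat.card S := Subgroup.index_dvd_card Q
      rw [hQi, hn, pow_zero] at h1
      exact hpp.one_lt.ne' (Nat.dvd_one.mp h1)
    haveI hAn : A.Normal := by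
      apply Subgroup.normal_of_index_eq_minFac_card
      rw [hAi, hn, hpp.pow_minFac hn0]
    have hdvd : A.relIndex Q ∣ p := hAi ▸ Subgroup.relIndex_dvd_index_of_normal A Q
    have hBcomm : IsMulCommutative ↥(A.subgroupOf Q) := by
      rw [isMulCommutative_iff]
      rintro ⟨x, hx⟩ ⟨y, hy⟩
      apply Subtype.ext
      apply Subtype.ext
      have := (isMulCommutative_iff.mp hA) ⟨(x : S), Subgroup.mem_subgroupOf.mp hx⟩
        ⟨(y : S), Subgroup.mem_subgroupOf.mp hy⟩
      have h' : (x : S) * (y : S) = (y : S) * (x : S) := congrArg Subtype.val this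
      exact h'
    rcases (Nat.dvd_prime hpp).mp hdvd with h | h
    · exfalso
      rw [Subgroup.relIndex_eq_one] at h
      apply hQna
      rw [isMulCommutative_iff]
      intro a b
      apply Subtype.ext
      have := (isMulCommutative_iff.mp hA) ⟨(a : S), h a.2⟩ ⟨(b : S), h b.2⟩
      have h' : (a : S) * (b : S) = (b : S) * (a : S) := congrArg Subtype.val this
      exact h'
    · have hQ3 := card_eq_p3 hQp hcc hzc (A.subgroupOf Q) hBcomm h
      rw [← Subgroup.card_mul_index Q, hQ3, hQi]
      ring
  · intro h4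
    exact exists_abelian_index_p h4 hSna

end Cfsg.Agent.S3810
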