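import Cfsg.Statements.S3811
import Mathlib

set_option autoImplicit false
open Cfsg

namespace Cfsg.Agent.S3811

open Subgroup
open scoped commutatorElement

universe u

section basics

variable {G : Type*} [Group G]

theorem relIndex_mul_card' {H K : Subgroup G} (h : H ≤ K) :
    H.relIndex K * Nat.card H = Nat.card K := by
  rw [Subgroup.relIndex, ← Nat.card_congr (Subgroup.subgroupOfEquivOfLe h).toEquiv]
  exact Subgroup.index_mul_card _

/-- prime-index sandwich -/
theorem le_of_relIndex_prime {p : ℕ} (hp : p.Prime) {H L K : Subgroup G} (hHL : H ≤ L)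
    (hidx : H.relIndex L = p) (hHK : H ≤ K) {x : G} (hxL : x ∈ L) (hxK : x ∈ K) (hxH : x ∉ H) :
    L ≤ K := by
  have h1 : H ≤ L ⊓ K := le_inf hHL hHK
  have h2 := Subgroup.relIndex_mul_relIndex H (L ⊓ K) L h1 inf_le_left
  rw [hidx] at h2
  have h3 : H.relIndex (L ⊓ K) ≠ 1 := by
    rw [Ne, Subgroup.relIndex_eq_one]
    intro h
    exact hxH (h ⟨hxL, hxK⟩)
  have h4 : H.relIndex (L ⊓ K) ∣ p := Dvd.intro _ h2
  have h5 : H.relIndex (L ⊓ K) = p := ((Nat.dvd_prime hp).mp h4).resolve_left h3
  rw [h5] at h2
  have h6 : (L ⊓ K).relIndex L = 1 := by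
    have := hp.pos
    nlinarith
  exact (Subgroup.relIndex_eq_one.mp h6).trans inf_le_right

theorem exists_normalizing {p : ℕ} [Fact p.Prime] [Finite G] (hP : IsPGroup p G)
    {H K : Subgroup G} (hlt : H < K) :
    ∃ x ∈ K, x ∉ H ∧ x ∈ normalizer (H : Set G) := by
  have hK : IsPGroup p K := hP.to_subgroup K
  haveI : Group.IsNilpotent K := hK.isNilpotent
  have hnc : NormalizerCondition K := normalizerCondition_of_isNilpotent
  have h1 : H.subgroupOf K < ⊤ := by
    rw [lt_top_iff_ne_top, Ne, Subgroup.subgroupOf_eq_top]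
    exact not_le_of_gt hlt
  have h2 := hnc _ h1
  rw [← Subgroup.subgroupOf_normalizer_eq hlt.le] at h2
  obtain ⟨y, hy1, hy2⟩ := SetLike.exists_of_lt h2
  exact ⟨y.1, y.2, fun h => hy2 (Subgroup.mem_subgroupOf.mpr h), Subgroup.mem_subgroupOf.mp hy1⟩

/-- the normalizer tower -/
def tw (E : Subgroup G) : ℕ → Subgroup G
  | 0 => E
  | (i + 1) => normalizer ((tw E i : Subgroup G) : Set G)

theorem tw_zero (E : Subgroup G) : tw E 0 = E := rfl

theorem tw_succ (E : Subgroup G) (i : ℕ) :
    tw E (i + 1) = normalizer ((tw E i : Subgroup G) : Set G) := rfl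

theorem tw_le_succ (E : Subgroup G) (i : ℕ) : tw E i ≤ tw E (i + 1) := Subgroup.le_normalizer

theorem tw_mono (E : Subgroup G) : Monotone (tw E) := monotone_nat_of_le_succ (tw_le_succ E)

/-- the hypotheses on `E` -/
structure Soft (p : ℕ) (E : Subgroup G) : Prop where
  comm : ∀ a ∈ E, ∀ b ∈ E, a * b = b * a
  cent : centralizer (E : Set G) ≤ E
  idx : E.relIndex (normalizer (E : Set G)) = p

variable {p : ℕ} [Fact p.Prime] [Finite G]

theorem normalizer_le_of_lt (hP : IsPGroup p G) {E : Subgroup G} (hE : Soft p E) {K : Subgroup G}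
    (hlt : E < K) : normalizer (E : Set G) ≤ K := by
  obtain ⟨x, hxK, hxE, hxN⟩ := exists_normalizing hP hlt
  exact le_of_relIndex_prime (Fact.out : p.Prime) Subgroup.le_normalizer hE.idx hlt.le hxN hxK hxE

theorem centralizer_singleton_eq (hP : IsPGroup p G) {E : Subgroup G} (hE : Soft p E) {e : G}
    (he : e ∈ E) (hz : e ∉ centralizer ((normalizer (E : Set G) : Subgroup G) : Set G)) :
    centralizer ({e} : Set G) = E := by
  have h1 : E ≤ centralizer ({e} : Set G) := by
    intro u hu
    rw [Subgroup.mem_centralizer_iff]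
    intro h hh
    rw [Set.mem_singleton_iff] at hh
    subst hh
    exact hE.comm _ he _ hu
  by_contra hne
  have hlt : E < centralizer ({e} : Set G) := lt_of_le_of_ne h1 (Ne.symm hne)
  have h2 := normalizer_le_of_lt hP hE hlt
  apply hz
  rw [Subgroup.mem_centralizer_iff]
  intro y hy
  have h3 := h2 hy
  rw [Subgroup.mem_centralizer_iff] at h3
  exact (h3 e rfl).symm

theorem card_tw {E : Subgroup G} {k : ℕ}
    (hT : ∀ i < k, (tw E i).relIndex (tw E (i + 1)) = p) :
    ∀ i ≤ k, Nat.card (tw E i) = p ^ i * Nat.card E := by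
  intro i
  induction i with
  | zero => intro _; simp [tw_zero]
  | succ i ih =>
    intro hi
    rw [← relIndex_mul_card' (tw_le_succ E i), hT i (by omega), ih (by omega)]
    ring

theorem center_lt {E : Subgroup G} (hE : Soft p E) :
    2 * Nat.card (E ⊓ centralizer ((normalizer (E : Set G) : Subgroup G) : Set G) : Subgroup G) ≤
      Nat.card E := by
  have hpp : p.Prime := Fact.out
  set Z₁ : Subgroup G := E ⊓ centralizer ((normalizer (E : Set G) : Subgroup G) : Set G) with hZ₁
  have hle : Z₁ ≤ E := inf_le_left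
  have hne : Z₁.relIndex E ≠ 1 := by
    rw [Ne, Subgroup.relIndex_eq_one]
    intro h
    have h1 : E ≤ centralizer ((normalizer (E : Set G) : Subgroup G) : Set G) := h.trans inf_le_right
    have h2 : normalizer (E : Set G) ≤ E := (Subgroup.le_centralizer_iff.mp h1).trans hE.cent
    have h3 : E.relIndex (normalizer (E : Set G)) = 1 := Subgroup.relIndex_eq_one.mpr h2
    rw [hE.idx] at h3
    exact hpp.one_lt.ne' h3
  have hpos : 0 < Z₁.relIndex E := by
    have : Z₁.relIndex E * Nat.card Z₁ = Nat.card E := relIndex_mul_card' hle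
    have hE0 : 0 < Nat.card E := Nat.card_pos
    by_contra h0
    have h00 : Z₁.relIndex E = 0 := by omega
    rw [h00, zero_mul] at this
    omega
  have h2 : 2 ≤ Z₁.relIndex E := by omega
  calc 2 * Nat.card Z₁ ≤ Z₁.relIndex E * Nat.card Z₁ := Nat.mul_le_mul_right _ h2
    _ = Nat.card E := relIndex_mul_card' hle

theorem step (hP : IsPGroup p G) {E : Subgroup G} (hE : Soft p E) (k : ℕ) (hk : 1 ≤ k)
    (hT : ∀ i < k, (tw E i).relIndex (tw E (i + 1)) = p) (htop : tw E k ≠ ⊤) :
    (tw E k).relIndex (tw E (k + 1)) = p := by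
  classical
  have hpp : p.Prime := Fact.out
  have hlt : tw E k < tw E (k + 1) := by
    obtain ⟨x, -, hx1, hx2⟩ := exists_normalizing hP (lt_top_iff_ne_top.mpr htop)
    refine lt_of_le_of_ne (tw_le_succ E k) (fun h => hx1 ?_)
    rw [h]
    exact hx2
  obtain ⟨a, ha⟩ : ∃ a, (tw E k).relIndex (tw E (k + 1)) = p ^ a := by
    obtain ⟨m, hm⟩ := IsPGroup.iff_card.mp (hP.to_subgroup (tw E (k + 1)))
    have := Subgroup.relIndex_dvd_card (tw E k) (tw E (k + 1))
    rw [hm] at this
    obtain ⟨a, -, ha⟩ := (Nat.dvd_prime_pow hpp).mp this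
    exact ⟨a, ha⟩
  have ha1 : a ≠ 0 := by
    rintro rfl
    rw [pow_zero, Subgroup.relIndex_eq_one] at ha
    exact absurd ha (not_le_of_gt hlt)
  by_contra hne
  have ha2 : 2 ≤ a := by
    rcases Nat.lt_or_ge a 2 with h | h
    · interval_cases a
      · exact absurd rfl ha1
      · rw [pow_one] at ha
        exact absurd ha hne
    · exact h
  have hcardk : Nat.card (tw E k) = p ^ k * Nat.card E := card_tw hT k le_rfl
  have hcard1 : Nat.card (tw E 1) = p * Nat.card E := by
    have := card_tw hT 1 hk
    rwa [pow_one] at this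
  have hcardk1 : Nat.card (tw E (k + 1)) = p ^ a * (p ^ k * Nat.card E) := by
    rw [← relIndex_mul_card' (tw_le_succ E k), ha, hcardk]
  set Z₁ : Subgroup G := E ⊓ centralizer ((normalizer (E : Set G) : Subgroup G) : Set G) with hZ₁
  have hZ2 : 2 * Nat.card Z₁ ≤ Nat.card E := center_lt hE
  have h1k : tw E 1 ≤ tw E (k + 1) := tw_mono E (by omega)
  have hEk : E ≤ tw E k := tw_mono E (Nat.zero_le k)
  -- the injection
  have hψ : ∀ (q : (tw E (k + 1)) ⧸ (tw E 1).subgroupOf (tw E (k + 1)))
      (e : ((E : Set G) \ (Z₁ : Set G) : Set G)),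
      ((q.out : G) * (e : G) * (q.out : G)⁻¹) ∈ (((tw E k : Subgroup G) : Set G) \ {1} : Set G) := by
    intro q e
    constructor
    · have h1 : (q.out : G) ∈ normalizer ((tw E k : Subgroup G) : Set G) := q.out.2
      exact (Subgroup.mem_normalizer_iff.mp h1 _).mp (hEk e.2.1)
    · rw [Set.mem_singleton_iff]
      intro h
      have h2 : (e : G) = 1 := by
        have := congrArg (fun v => (q.out : G)⁻¹ * v * (q.out : G)) h
        simpa [mul_assoc] using this
      apply e.2.2
      rw [h2]
      exact Subgroup.one_mem _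
  have hinj : Function.Injective (fun x : ((tw E (k + 1)) ⧸ (tw E 1).subgroupOf (tw E (k + 1))) ×
      ((E : Set G) \ (Z₁ : Set G) : Set G) =>
      (⟨_, hψ x.1 x.2⟩ : (((tw E k : Subgroup G) : Set G) \ {1} : Set G))) := by
    rintro ⟨q, e⟩ ⟨q', e'⟩ h
    have h0 : (q.out : G) * (e : G) * (q.out : G)⁻¹ = (q'.out : G) * (e' : G) * (q'.out : G)⁻¹ :=
      congrArg Subtype.val h
    have hce : centralizer ({(e : G)} : Set G) = E :=
      centralizer_singleton_eq hP hE e.2.1 (fun hh => e.2.2 ⟨e.2.1, hh⟩)
    have hce' : centralizer ({(e' : G)} : Set G) = E :=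
      centralizer_singleton_eq hP hE e'.2.1 (fun hh => e'.2.2 ⟨e'.2.1, hh⟩)
    set g : G := (q'.out : G)⁻¹ * (q.out : G) with hg
    have hge : g * (e : G) * g⁻¹ = (e' : G) := by
      have := congrArg (fun v => (q'.out : G)⁻¹ * v * (q'.out : G)) h0
      simp only [hg, mul_inv_rev, inv_inv]
      simpa [mul_assoc] using this
    have hge' : g⁻¹ * (e' : G) * g = (e : G) := by
      rw [← hge]; group
    have hgN : g ∈ normalizer (E : Set G) := by
      rw [Subgroup.mem_normalizer_iff]
      intro h
      constructor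
      · intro hh
        rw [← hce', Subgroup.mem_centralizer_iff]
        intro v hv
        rw [Set.mem_singleton_iff] at hv
        subst hv
        rw [← hge]
        have hc := hE.comm _ e.2.1 _ hh
        calc g * (e : G) * g⁻¹ * (g * h * g⁻¹) = g * ((e : G) * h) * g⁻¹ := by group
          _ = g * (h * (e : G)) * g⁻¹ := by rw [hc]
          _ = g * h * g⁻¹ * (g * (e : G) * g⁻¹) := by group
      · intro hh
        rw [← hce, Subgroup.mem_centralizer_iff]
        intro v hv
        rw [Set.mem_singleton_iff] at hv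
        subst hv
        rw [← hge']
        have hc := hE.comm _ e'.2.1 _ hh
        calc g⁻¹ * (e' : G) * g * h = g⁻¹ * ((e' : G) * (g * h * g⁻¹)) * g := by group
          _ = g⁻¹ * ((g * h * g⁻¹) * (e' : G)) * g := by rw [hc]
          _ = h * (g⁻¹ * (e' : G) * g) := by group
    have hqq : q' = q := by
      rw [← QuotientGroup.out_eq' q, ← QuotientGroup.out_eq' q', QuotientGroup.eq]
      rw [Subgroup.mem_subgroupOf]
      exact hgN
    subst hqq
    have hee : (e : G) = (e' : G) := by
      have := congrArg (fun v => (q'.out : G)⁻¹ * v * (q'.out : G)) h0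
      simpa [mul_assoc] using this
    exact Prod.ext rfl (Subtype.ext hee)
  have hcard := Nat.card_le_card_of_injective _ hinj
  rw [Nat.card_prod, ← Subgroup.index_eq_card] at hcard
  have hR : ((tw E 1).subgroupOf (tw E (k + 1))).index * Nat.card (tw E 1) = Nat.card (tw E (k + 1)) :=
    relIndex_mul_card' h1k
  have hS : Nat.card ((E : Set G) \ (Z₁ : Set G) : Set G) = Nat.card E - Nat.card Z₁ := by
    rw [Nat.card_coe_set_eq, Set.ncard_sdiff (by exact (inf_le_left : Z₁ ≤ E)) (Set.toFinite _)]
    rw [← Nat.card_coe_set_eq, ← Nat.card_coe_set_eq]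
    rfl
  have hTc : Nat.card ((((tw E k : Subgroup G) : Set G) \ {1} : Set G)) = Nat.card (tw E k) - 1 := by
    rw [Nat.card_coe_set_eq, Set.ncard_sdiff (by simp) (Set.toFinite _)]
    rw [Set.ncard_singleton, ← Nat.card_coe_set_eq]
    rfl
  rw [hS, hTc, hcardk] at hcard
  rw [hcard1, hcardk1] at hR
  -- arithmetic
  set R := ((tw E 1).subgroupOf (tw E (k + 1))).index with hRdef
  set e := Nat.card E with he
  set z := Nat.card Z₁ with hz
  set A := p ^ k with hA
  have he0 : 0 < e := Nat.card_pos
  have hA0 : 0 < A := pow_pos hpp.pos k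
  have hp2 : 2 ≤ p := hpp.two_le
  have hRge : A * p ≤ R := by
    have h1 : p ^ a = p ^ (a - 2) * p * p := by
      rw [mul_assoc, ← pow_two, ← pow_add]
      congr 1
      omega
    have h2 : R * (p * e) = (p ^ (a - 2) * p * A) * (p * e) := by
      rw [hR, h1]; ring
    have h3 : R = p ^ (a - 2) * p * A := Nat.eq_of_mul_eq_mul_right (by positivity) h2
    rw [h3]
    have h4 : 1 ≤ p ^ (a - 2) := Nat.one_le_pow _ _ hpp.pos
    nlinarith
  have hd : e ≤ 2 * (e - z) := by omega
  have h5 : A * p * (e - z) ≤ A * e - 1 := (Nat.mul_le_mul_right _ hRge).trans hcard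
  have h6 : A * e ≤ A * p * (e - z) := by
    calc A * e ≤ A * (2 * (e - z)) := Nat.mul_le_mul_left _ hd
      _ ≤ A * (p * (e - z)) := Nat.mul_le_mul_left _ (Nat.mul_le_mul_right _ hp2)
      _ = A * p * (e - z) := by ring
  have h7 : 0 < A * e := Nat.mul_pos hA0 he0
  omega

theorem tower_index (hP : IsPGroup p G) {E : Subgroup G} (hE : Soft p E) :
    ∀ k, (∀ j ≤ k, tw E j ≠ ⊤) → ∀ i ≤ k, (tw E i).relIndex (tw E (i + 1)) = p := by
  intro k
  induction k with
  | zero =>
    intro _ i hi
    have : i = 0 := by omega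
    subst this
    exact hE.idx
  | succ k ih =>
    intro htop i hi
    have ih' := ih (fun j hj => htop j (by omega))
    rcases Nat.lt_or_ge i (k + 1) with h | h
    · exact ih' i (by omega)
    · have : i = k + 1 := by omega
      subst this
      exact step hP hE (k + 1) (by omega) (fun i hi => ih' i (by omega)) (htop (k + 1) le_rfl)

theorem exists_top (hP : IsPGroup p G) {E : Subgroup G} (hE : Soft p E) :
    ∃ n, tw E n = ⊤ ∧ ∀ i < n, (tw E i).relIndex (tw E (i + 1)) = p := by
  classical
  have hpp : p.Prime := Fact.out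
  have hex : ∃ n, tw E n = ⊤ := by
    by_contra hcon
    push_neg at hcon
    have hT := tower_index hP hE (Nat.card G) (fun j _ => hcon j)
    have hc := card_tw (E := E) (k := Nat.card G) (fun i hi => hT i hi.le) (Nat.card G) le_rfl
    have h1 : Nat.card (tw E (Nat.card G)) ≤ Nat.card G := Subgroup.card_le_card_group _
    have h2 : Nat.card G < p ^ Nat.card G := Nat.lt_pow_self hpp.one_lt
    have h3 : 0 < Nat.card E := Nat.card_pos
    have h4 : p ^ Nat.card G ≤ p ^ Nat.card G * Nat.card E := Nat.le_mul_of_pos_right _ h3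
    omega
  refine ⟨Nat.find hex, Nat.find_spec hex, ?_⟩
  intro i hi
  rcases Nat.eq_zero_or_pos (Nat.find hex) with h0 | h0
  · omega
  · exact tower_index hP hE (Nat.find hex - 1)
      (fun j hj => Nat.find_min hex (by omega)) i (by omega)

/-- every overgroup of `E` is a member of the tower -/
theorem overgroup (hP : IsPGroup p G) {E : Subgroup G} {n : ℕ} (hn : tw E n = ⊤)
    (hT : ∀ i < n, (tw E i).relIndex (tw E (i + 1)) = p) {K : Subgroup G} (hEK : E ≤ K) {j : ℕ}
    (hj : E.relIndex K = p ^ j) : j ≤ n ∧ K = tw E j := by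
  have hpp : p.Prime := Fact.out
  have hcK : Nat.card K = p ^ j * Nat.card E := by rw [← relIndex_mul_card' hEK, hj]
  have hcn : Nat.card (tw E n) = p ^ n * Nat.card E := card_tw hT n le_rfl
  have hjn : j ≤ n := by
    have h1 : Nat.card K ≤ Nat.card (tw E n) := by
      rw [hn, Subgroup.card_top]
      exact Subgroup.card_le_card_group _
    rw [hcK, hcn] at h1
    have h2 : p ^ j ≤ p ^ n := Nat.le_of_mul_le_mul_right h1 Nat.card_pos
    exact (Nat.pow_le_pow_iff_right hpp.one_lt).mp h2
  refine ⟨hjn, ?_⟩
  have hle : ∀ i ≤ j, tw E i ≤ K := by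
    intro i
    induction i with
    | zero => intro _; exact hEK
    | succ i ih =>
      intro hi
      have h1 : tw E i ≤ K := ih (by omega)
      have hci : Nat.card (tw E i) = p ^ i * Nat.card E :=
        card_tw (E := E) (k := n) hT i (by omega)
      have hne : tw E i ≠ K := by
        intro h
        rw [h, hcK] at hci
        have h2 : p ^ j = p ^ i := Nat.eq_of_mul_eq_mul_right Nat.card_pos hci
        have h3 : j = i := Nat.pow_right_injective hpp.two_le h2
        omega
      obtain ⟨x, hxK, hxn, hxN⟩ := exists_normalizing hP (lt_of_le_of_ne h1 hne)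
      exact le_of_relIndex_prime hpp (tw_le_succ E i) (hT i (by omega)) h1 hxN hxK hxn
  have hcj : Nat.card (tw E j) = p ^ j * Nat.card E := card_tw (E := E) (k := n) hT j hjn
  exact (Subgroup.eq_of_le_of_card_ge (hle j le_rfl) (by rw [hcK, hcj])).symm

theorem relIndex_pow (hP : IsPGroup p G) (H K : Subgroup G) : ∃ j, H.relIndex K = p ^ j := by
  have hpp : p.Prime := Fact.out
  obtain ⟨m, hm⟩ := IsPGroup.iff_card.mp (hP.to_subgroup K)
  have := Subgroup.relIndex_dvd_card H K
  rw [hm] at this
  obtain ⟨a, -, ha⟩ := (Nat.dvd_prime_pow hpp).mp this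
  exact ⟨a, ha⟩

theorem overgroup' (hP : IsPGroup p G) {E : Subgroup G} {n : ℕ} (hn : tw E n = ⊤)
    (hT : ∀ i < n, (tw E i).relIndex (tw E (i + 1)) = p) {K : Subgroup G} (hEK : E ≤ K) :
    ∃ j ≤ n, K = tw E j := by
  obtain ⟨j, hj⟩ := relIndex_pow hP E K
  exact ⟨j, overgroup hP hn hT hEK hj⟩

/-- lower bound: the upper central series of a tower member -/
theorem ucs_le {E : Subgroup G} (hE : Soft p E) (k : ℕ) :
    ∀ j ≤ k, (Subgroup.upperCentralSeries (tw E k) (j + 1)).map (tw E k).subtype ≤ tw E j := by
  intro j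
  induction j with
  | zero =>
    intro _
    rintro _ ⟨x, hx, rfl⟩
    rw [zero_add, Subgroup.upperCentralSeries_one, SetLike.mem_coe, Subgroup.mem_center_iff] at hx
    apply hE.cent
    rw [Subgroup.mem_centralizer_iff]
    intro h hh
    have hhk : h ∈ tw E k := tw_mono E (Nat.zero_le k) hh
    exact congrArg Subtype.val (hx ⟨h, hhk⟩)
  | succ j ih =>
    intro hj
    rintro _ ⟨x, hx, rfl⟩
    have ih' := ih (by omega)
    have key : ∀ x : tw E k, x ∈ Subgroup.upperCentralSeries (tw E k) (j + 1 + 1) →
        ∀ h ∈ tw E j, (x : G) * h * (x : G)⁻¹ ∈ tw E j := by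
      intro x hx h hh
      have hhk : h ∈ tw E k := tw_mono E (by omega) hh
      have h1 := Subgroup.mem_upperCentralSeries_succ_iff.mp hx ⟨h, hhk⟩
      have h2 : ((⁅x, ⟨h, hhk⟩⁆ : tw E k) : G) ∈ tw E j := ih' ⟨_, h1, rfl⟩
      have h3 : ((⁅x, ⟨h, hhk⟩⁆ : tw E k) : G) = (x : G) * h * (x : G)⁻¹ * h⁻¹ := by
        rw [commutatorElement_def]
        rfl
      rw [h3] at h2
      have := (tw E j).mul_mem h2 hh
      simpa using this
    show (x : G) ∈ normalizer ((tw E j : Subgroup G) : Set G)
    rw [Subgroup.mem_normalizer_iff]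
    intro h
    constructor
    · exact key x hx h
    · intro hh
      have := key x⁻¹ (Subgroup.inv_mem _ hx) _ hh
      simpa [mul_assoc] using this

end basics

section upper

variable {p : ℕ} [Fact p.Prime]

theorem upper_bound : ∀ (i : ℕ) (P : Type u) [Group P] [Finite P], IsPGroup p P →
    ∀ (E K : Subgroup P), Soft p E → E ≤ K → K ≠ ⊤ → E.relIndex K = p ^ i →
    Subgroup.upperCentralSeries K (i + 1) = ⊤ := by
  intro i
  induction i with
  | zero =>
    intro P _ _ hP E K hE hEK hK hi
    have hKE : K ≤ E := by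
      rw [pow_zero] at hi
      exact Subgroup.relIndex_eq_one.mp hi
    rw [zero_add, Subgroup.upperCentralSeries_one, eq_top_iff]
    intro x _
    rw [Subgroup.mem_center_iff]
    intro y
    exact Subtype.ext (hE.comm _ (hKE y.2) _ (hKE x.2))
  | succ i ih =>
    intro P _ _ hP E K hE hEK hK hi
    have hpp : p.Prime := Fact.out
    have hEK' : E < K := by
      refine lt_of_le_of_ne hEK ?_
      rintro rfl
      rw [Subgroup.relIndex_self] at hi
      exact absurd hi (Nat.one_lt_pow (Nat.succ_ne_zero i) hpp.one_lt).ne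
    set N₁ : Subgroup P := normalizer (E : Set P) with hN₁
    have hEN : E ≤ N₁ := Subgroup.le_normalizer
    have hN₁K : N₁ ≤ K := normalizer_le_of_lt hP hE hEK'
    have hN₁top : N₁ ≠ ⊤ := fun h => hK (top_le_iff.mp (h ▸ hN₁K))
    obtain ⟨n, hn, hT⟩ := exists_top hP hE
    have hn2 : 2 ≤ n := by
      by_contra hcon
      have : n = 0 ∨ n = 1 := by omega
      rcases this with rfl | rfl
      · rw [tw_zero] at hn
        exact hK (top_le_iff.mp (hn ▸ hEK))
      · exact hN₁top hn
    have hN₂ : N₁.relIndex (normalizer (N₁ : Set P)) = p := hT 1 (by omega)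
    -- the core
    set C : Subgroup P := E.normalCore with hCdef
    have hCn : C.Normal := Subgroup.normalCore_normal E
    have hCE : C ≤ E := Subgroup.normalCore_le E
    let π : P →* P ⧸ C := QuotientGroup.mk' C
    have hπs : Function.Surjective π := QuotientGroup.mk'_surjective C
    have hker : π.ker = C := QuotientGroup.ker_mk' C
    have hπ1 : ∀ y : P, π y = 1 ↔ y ∈ C := fun y => QuotientGroup.eq_one_iff y
    obtain ⟨jK, hjK, hKtw⟩ := overgroup' hP hn hT hEK
    -- `C` is central in `K`
    have hCK : ∀ c ∈ C, ∀ y ∈ K, y * c = c * y := by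
      have hEcent : E ≤ centralizer (C : Set P) := by
        intro e he
        rw [Subgroup.mem_centralizer_iff]
        intro c hc
        exact hE.comm _ (hCE hc) _ he
      obtain ⟨j, hj, hcent⟩ := overgroup' hP hn hT hEcent
      have hKle : K ≤ centralizer (C : Set P) := by
        rcases Nat.lt_or_ge j jK with h | h
        · exfalso
          have hnorm : (centralizer (C : Set P)).Normal := inferInstance
          have h1 : tw E (j + 1) = ⊤ := by
            rw [tw_succ, ← hcent]
            exact Subgroup.normalizer_eq_top_iff.mpr hnorm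
          apply hK
          rw [hKtw, eq_top_iff, ← h1]
          exact tw_mono E h
        · rw [hKtw, hcent]
          exact tw_mono E h
      intro c hc y hy
      have := hKle hy
      rw [Subgroup.mem_centralizer_iff] at this
      exact (this c hc).symm
    -- elements centralizing `E` modulo `C` normalize `E`
    have hstar : ∀ y : P, π y ∈ centralizer ((E.map π : Subgroup (P ⧸ C)) : Set (P ⧸ C)) →
        y ∈ N₁ := by
      have key : ∀ y : P, π y ∈ centralizer ((E.map π : Subgroup (P ⧸ C)) : Set (P ⧸ C)) →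
          ∀ e ∈ E, y * e * y⁻¹ ∈ E := by
        intro y hy e he
        rw [Subgroup.mem_centralizer_iff] at hy
        have h1 := hy (π e) (Subgroup.mem_map_of_mem π he)
        have h2 : π (y * e * y⁻¹ * e⁻¹) = 1 := by
          rw [map_mul, map_mul, map_mul, map_inv, map_inv, ← h1]
          group
        have h3 := hCE ((hπ1 _).mp h2)
        have := E.mul_mem h3 he
        simpa using this
      intro y hy
      rw [hN₁, Subgroup.mem_normalizer_iff]
      intro h
      constructor
      · exact key y hy h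
      · intro hh
        have hy' : π y⁻¹ ∈ centralizer ((E.map π : Subgroup (P ⧸ C)) : Set (P ⧸ C)) := by
          rw [map_inv]
          exact Subgroup.inv_mem _ hy
        have := key y⁻¹ hy' _ hh
        simpa [mul_assoc] using this
    -- the key claim: `N₁` centralizes `E` modulo `C`
    have hcl : ∀ y ∈ N₁, π y ∈ centralizer ((E.map π : Subgroup (P ⧸ C)) : Set (P ⧸ C)) := by
      by_contra hcon
      set B : Subgroup P :=
        N₁ ⊓ (centralizer ((E.map π : Subgroup (P ⧸ C)) : Set (P ⧸ C))).comap π with hB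
      have hEB : E ≤ B := by
        refine le_inf hEN ?_
        intro e he
        rw [Subgroup.mem_comap, Subgroup.mem_centralizer_iff]
        rintro _ ⟨e₂, he₂, rfl⟩
        rw [← map_mul, ← map_mul, hE.comm _ he₂ _ he]
      have hBN : B ≤ N₁ := inf_le_left
      have hBE : B ≤ E := by
        have h2 := Subgroup.relIndex_mul_relIndex E B N₁ hEB hBN
        rw [hE.idx] at h2
        have h4 : E.relIndex B ∣ p := Dvd.intro _ h2
        rcases (Nat.dvd_prime hpp).mp h4 with h5 | h5
        · exact Subgroup.relIndex_eq_one.mp h5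
        · exfalso
          rw [h5] at h2
          have h6 : B.relIndex N₁ = 1 := by
            have := hpp.pos
            nlinarith
          apply hcon
          intro y hy
          exact (Subgroup.mem_inf.mp (Subgroup.relIndex_eq_one.mp h6 hy)).2
      obtain ⟨m, rfl⟩ : ∃ m, n = m + 1 := ⟨n - 1, by omega⟩
      set M : Subgroup P := tw E m with hM
      have hMn : M.Normal := by
        rw [← Subgroup.normalizer_eq_top_iff]
        exact hn
      have hEM : E ≤ M := tw_mono E (Nat.zero_le m)
      have hMC : ¬ M ≤ C := by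
        intro h
        have h1 : E = M := le_antisymm hEM (h.trans hCE)
        have h2 : E.Normal := h1 ▸ hMn
        exact hN₁top (Subgroup.normalizer_eq_top_iff.mpr h2)
      obtain ⟨u, huM, huC⟩ := SetLike.not_le_iff_exists.mp hMC
      haveI : Nontrivial ↥(M.map π) := by
        refine ⟨⟨⟨π u, Subgroup.mem_map_of_mem π huM⟩, 1, ?_⟩⟩
        intro h
        have := congrArg Subtype.val h
        exact huC ((hπ1 u).mp this)
      have hPM : IsPGroup p ↥(M.map π) := (hP.to_quotient C).to_subgroup _
      haveI := hPM.center_nontrivial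
      obtain ⟨z, hz⟩ := exists_ne (1 : center ↥(M.map π))
      obtain ⟨w, hwM, hw⟩ := Subgroup.mem_map.mp z.1.2
      have hwC : w ∉ C := by
        intro h
        apply hz
        apply Subtype.ext
        apply Subtype.ext
        rw [← hw]
        exact (hπ1 w).mpr h
      apply hwC
      show ∀ b : P, b * w * b⁻¹ ∈ E
      intro b
      have hcz : π (b * w * b⁻¹) ∈ centralizer ((E.map π : Subgroup (P ⧸ C)) : Set (P ⧸ C)) := by
        rw [Subgroup.mem_centralizer_iff]
        rintro _ ⟨e, he, rfl⟩
        have he' : b⁻¹ * e * b ∈ M := by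
          have := hMn.conj_mem e (hEM he) b⁻¹
          simpa using this
        have hzc := Subgroup.mem_center_iff.mp z.2
          ⟨π (b⁻¹ * e * b), Subgroup.mem_map_of_mem π he'⟩
        have hzc' : π (b⁻¹ * e * b) * π w = π w * π (b⁻¹ * e * b) := by
          have := congrArg Subtype.val hzc
          rw [Subgroup.coe_mul, Subgroup.coe_mul, ← hw] at this
          exact this
        calc π e * π (b * w * b⁻¹) = π b * (π (b⁻¹ * e * b) * π w) * (π b)⁻¹ := by
              simp only [map_mul, map_inv]; group
          _ = π b * (π w * π (b⁻¹ * e * b)) * (π b)⁻¹ := by rw [hzc']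
          _ = π (b * w * b⁻¹) * π e := by simp only [map_mul, map_inv]; group
      exact hBE (Subgroup.mem_inf.mpr ⟨hstar _ hcz, Subgroup.mem_comap.mpr hcz⟩)
    -- `N₁ / C` is soft in `P / C`
    have hxex : ∃ x ∈ N₁, x ∉ E := by
      by_contra hcon
      push_neg at hcon
      have : E.relIndex N₁ = 1 := Subgroup.relIndex_eq_one.mpr hcon
      rw [hE.idx] at this
      exact hpp.one_lt.ne' this
    obtain ⟨x, hxN, hxE⟩ := hxex
    have hN₁sup : N₁ = E ⊔ zpowers x := by
      apply le_antisymm
      · exact le_of_relIndex_prime hpp hEN hE.idx le_sup_left hxN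
          ((le_sup_right : zpowers x ≤ E ⊔ zpowers x) (Subgroup.mem_zpowers x)) hxE
      · exact sup_le hEN ((Subgroup.zpowers_le).mpr hxN)
    have hmapsup : N₁.map π = E.map π ⊔ zpowers (π x) := by
      rw [hN₁sup, Subgroup.map_sup, MonoidHom.map_zpowers]
    have hcommE : E.map π ≤ centralizer ((E.map π : Subgroup (P ⧸ C)) : Set (P ⧸ C)) := by
      rintro _ ⟨e, he, rfl⟩
      rw [Subgroup.mem_centralizer_iff]
      rintro _ ⟨e₂, he₂, rfl⟩
      rw [← map_mul, ← map_mul, hE.comm _ he₂ _ he]
    have hxc : zpowers (π x) ≤ centralizer ((E.map π : Subgroup (P ⧸ C)) : Set (P ⧸ C)) :=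
      Subgroup.zpowers_le.mpr (hcl x hxN)
    have hxx : zpowers (π x) ≤ centralizer ((zpowers (π x) : Subgroup (P ⧸ C)) : Set (P ⧸ C)) := by
      rw [Subgroup.zpowers_le, Subgroup.mem_centralizer_iff]
      rintro _ ⟨k, rfl⟩
      exact (Commute.zpow_self (π x) k).eq
    have hcomm : N₁.map π ≤ centralizer ((N₁.map π : Subgroup (P ⧸ C)) : Set (P ⧸ C)) := by
      rw [hmapsup]
      apply sup_le
      · rw [Subgroup.le_centralizer_iff]
        exact sup_le hcommE hxc
      · rw [Subgroup.le_centralizer_iff]
        exact sup_le (Subgroup.le_centralizer_iff.mp hxc) hxx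
    have h1 : (N₁.map π).comap π = N₁ := by
      rw [Subgroup.comap_map_eq, hker]
      exact sup_eq_left.mpr (hCE.trans hEN)
    have hsoft : Soft p (N₁.map π) := by
      refine ⟨?_, ?_, ?_⟩
      · intro a ha b hb
        have := hcomm hb
        rw [Subgroup.mem_centralizer_iff] at this
        exact this a ha
      · intro q hq
        obtain ⟨y, rfl⟩ := hπs q
        have h1 : π y ∈ centralizer ((E.map π : Subgroup (P ⧸ C)) : Set (P ⧸ C)) := by
          rw [Subgroup.mem_centralizer_iff] at hq ⊢
          intro h hh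
          exact hq h (Subgroup.map_mono hEN hh)
        exact Subgroup.mem_map_of_mem π (hstar y h1)
      · have h2 : (normalizer ((N₁.map π : Subgroup (P ⧸ C)) : Set (P ⧸ C))).comap π =
            normalizer (N₁ : Set P) := by
          rw [Subgroup.comap_normalizer_eq_of_surjective _ hπs, h1]
        have h4 : (normalizer (N₁ : Set P)).map π =
            normalizer ((N₁.map π : Subgroup (P ⧸ C)) : Set (P ⧸ C)) := by
          rw [← h2, Subgroup.map_comap_eq_self_of_surjective hπs]
        have h3 := Subgroup.relIndex_comap (N₁.map π) π (normalizer (N₁ : Set P))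
        rw [h1, h4] at h3
        rw [← h3]
        exact hN₂
    have hK1 : N₁.map π ≤ K.map π := Subgroup.map_mono hN₁K
    have hK2 : K.map π ≠ ⊤ := by
      intro h
      have h5 : (K.map π).comap π = ⊤ := by rw [h]; exact Subgroup.comap_top π
      rw [Subgroup.comap_map_eq, hker, sup_eq_left.mpr (hCE.trans hEK)] at h5
      exact hK h5
    have hK3 : (N₁.map π).relIndex (K.map π) = p ^ i := by
      have h3 := Subgroup.relIndex_comap (N₁.map π) π K
      rw [h1] at h3
      rw [← h3]
      have h6 := Subgroup.relIndex_mul_relIndex E N₁ K hEN hN₁K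
      rw [hE.idx, hi, pow_succ] at h6
      exact Nat.eq_of_mul_eq_mul_left hpp.pos (by rw [h6]; ring)
    have hih := ih (P ⧸ C) (hP.to_quotient C) (N₁.map π) (K.map π) hsoft hK1 hK2 hK3
    -- lift along the central quotient
    let f : ↥K →* ↥(K.map π) := π.subgroupMap K
    have hfker : f.ker ≤ center ↥K := by
      intro y hy
      rw [MonoidHom.mem_ker] at hy
      have h7 : π (y : P) = 1 := congrArg Subtype.val hy
      have h8 := (hπ1 _).mp h7
      rw [Subgroup.mem_center_iff]
      intro g
      exact Subtype.ext (hCK _ h8 _ g.2)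
    haveI hnil : Group.IsNilpotent ↥(K.map π) := ⟨⟨i + 1, hih⟩⟩
    have h9 : Group.nilpotencyClass ↥(K.map π) ≤ i + 1 :=
      Subgroup.upperCentralSeries_eq_top_iff_nilpotencyClass_le.mp hih
    haveI : Group.IsNilpotent ↥K := Subgroup.isNilpotent_of_ker_le_center f hfker
    have h10 := Group.nilpotencyClass_le_of_ker_le_center f hfker
    exact Subgroup.upperCentralSeries_eq_top_iff_nilpotencyClass_le.mpr (by omega)

end upper

/-- Let P be a finite p-group and E an abelian subgroup of P that contains its centralizer, has index p in its normalizer, and has index at least p² in P. Then the subgroups of P containing E are totally ordered by inclusion, each proper one has index p in its normalizer (so they form the normalizer tower of E, with all steps of index p), and the i-th member of the tower above E has nilpotency class i + 1 whenever it is a proper subgroup of P. -/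
theorem result {P : Type*} [Group P] [Finite P] (p : ℕ) [Fact p.Prime] (hP : IsPGroup p P)
    (E : Subgroup P) (hEab : IsMulCommutative ↥E) (hC : Subgroup.centralizer (E : Set P) ≤ E)
    (hN : (E.subgroupOf (Subgroup.normalizer (E : Set P))).index = p) (hidx : p ^ 2 ≤ E.index) :
    (∀ K L : Subgroup P, E ≤ K → E ≤ L → K ≤ L ∨ L ≤ K) ∧
      (∀ K : Subgroup P, E ≤ K → K ≠ ⊤ → (K.subgroupOf (Subgroup.normalizer (K : Set P))).index = p) ∧
      ∀ (i : ℕ) (K : Subgroup P) [Group.IsNilpotent ↥K], E ≤ K → K ≠ ⊤ → K.index * p ^ i = E.index →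
        Group.nilpotencyClass ↥K = i + 1 := by
  have hpp : p.Prime := Fact.out
  have hE : Soft p E :=
    ⟨fun a ha b hb => congrArg Subtype.val (hEab.is_comm.comm ⟨a, ha⟩ ⟨b, hb⟩), hC, hN⟩
  obtain ⟨n, hn, hT⟩ := exists_top hP hE
  refine ⟨?_, ?_, ?_⟩
  · intro K L hK hL
    obtain ⟨a, -, rfl⟩ := overgroup' hP hn hT hK
    obtain ⟨b, -, rfl⟩ := overgroup' hP hn hT hL
    rcases le_total a b with h | h
    · exact Or.inl (tw_mono E h)
    · exact Or.inr (tw_mono E h)
  · intro K hK hKtop
    obtain ⟨a, ha, rfl⟩ := overgroup' hP hn hT hK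
    have : a < n := lt_of_le_of_ne ha (by rintro rfl; exact hKtop hn)
    exact hT a this
  · intro i K _ hK hKtop hi
    have hrel : E.relIndex K = p ^ i := by
      have h1 := Subgroup.relIndex_mul_index hK
      rw [← hi] at h1
      have h2 : K.index ≠ 0 := Subgroup.index_ne_zero_of_finite
      exact Nat.eq_of_mul_eq_mul_right (Nat.pos_of_ne_zero h2) (by rw [h1]; ring)
    have hup := upper_bound i P hP E K hE hK hKtop hrel
    have hle : Group.nilpotencyClass ↥K ≤ i + 1 :=
      Subgroup.upperCentralSeries_eq_top_iff_nilpotencyClass_le.mp hup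
    have hlow : ¬ Group.nilpotencyClass ↥K ≤ i := by
      intro h
      have h1 : Subgroup.upperCentralSeries ↥K i = ⊤ :=
        Subgroup.upperCentralSeries_eq_top_iff_nilpotencyClass_le.mpr h
      obtain ⟨hin, rfl⟩ := overgroup hP hn hT hK hrel
      rcases Nat.eq_zero_or_pos i with h0 | h0
      · subst h0
        rw [Subgroup.upperCentralSeries_zero] at h1
        apply hKtop
        rw [eq_top_iff]
        intro g _
        apply hC
        rw [Subgroup.mem_centralizer_iff]
        intro h hh
        have h2' : (⟨h, hh⟩ : tw E 0) ∈ (⊥ : Subgroup ↥(tw E 0)) := h1 ▸ Subgroup.mem_top _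
        have h2 : (⟨h, hh⟩ : tw E 0) = 1 := Subgroup.mem_bot.mp h2'
        have h3 : h = 1 := congrArg Subtype.val h2
        rw [h3, one_mul, mul_one]
      · obtain ⟨j, rfl⟩ : ∃ j, i = j + 1 := ⟨i - 1, by omega⟩
        have h2 := ucs_le hE (j + 1) j (by omega)
        rw [h1] at h2
        have h3 : tw E (j + 1) ≤ tw E j := by
          intro x hx
          exact h2 ⟨⟨x, hx⟩, Subgroup.mem_top _, rfl⟩
        have h4 := hT j (by omega)
        rw [Subgroup.relIndex_eq_one.mpr h3] at h4
        exact hpp.one_lt.ne h4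
    omega

end Cfsg.Agent.S3811
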