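import Cfsg.Statements.S3824
import Cfsg.Agent.Lib.Helper4.Burnside
import Mathlib

set_option autoImplicit false
open Cfsg

namespace Cfsg.Agent.S3824

universe u

theorem card_mul_relIndex_of_le {G : Type*} [Group G] {H K : Subgroup G} (h : H ≤ K) :
    Nat.card H * H.relIndex K = Nat.card K := by
  rw [Subgroup.relIndex, ← Subgroup.card_mul_index (H.subgroupOf K),
    Nat.card_congr (Subgroup.subgroupOfEquivOfLe h).toEquiv]

theorem card_sup_mul_card_inf {G : Type*} [Group G] (A B : Subgroup G) [B.Normal] :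
    Nat.card (A ⊔ B : Subgroup G) * Nat.card (A ⊓ B : Subgroup G) = Nat.card A * Nat.card B := by
  have h1 : Nat.card (A ⊓ B : Subgroup G) * B.relIndex A = Nat.card A := by
    have := card_mul_relIndex_of_le (inf_le_left : A ⊓ B ≤ A)
    rwa [Subgroup.inf_relIndex_left] at this
  have h2 : Nat.card B * B.relIndex (A ⊔ B) = Nat.card (A ⊔ B : Subgroup G) :=
    card_mul_relIndex_of_le le_sup_right
  rw [Subgroup.relIndex_sup_right] at h2
  rw [← h2, ← h1]
  ring

theorem relIndex_dvd_index_of_normal' {G : Type*} [Group G] [Finite G] (A N : Subgroup G)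
    [N.Normal] : A.relIndex N ∣ A.index := by
  have e1 := card_sup_mul_card_inf A N
  have e2 : Nat.card (A ⊓ N : Subgroup G) * A.relIndex N = Nat.card N := by
    have := card_mul_relIndex_of_le (inf_le_right : A ⊓ N ≤ N)
    rwa [Subgroup.inf_relIndex_right] at this
  have e3 : Nat.card A * A.relIndex (A ⊔ N) = Nat.card (A ⊔ N : Subgroup G) :=
    card_mul_relIndex_of_le le_sup_left
  have e4 : A.relIndex N = A.relIndex (A ⊔ N) := by
    have hpos : 0 < Nat.card A * Nat.card (A ⊓ N : Subgroup G) :=
      Nat.mul_pos Nat.card_pos Nat.card_pos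
    apply Nat.eq_of_mul_eq_mul_left hpos
    calc Nat.card A * Nat.card (A ⊓ N : Subgroup G) * A.relIndex N
        = Nat.card A * (Nat.card (A ⊓ N : Subgroup G) * A.relIndex N) := by ring
      _ = Nat.card A * Nat.card N := by rw [e2]
      _ = Nat.card (A ⊔ N : Subgroup G) * Nat.card (A ⊓ N : Subgroup G) := e1.symm
      _ = Nat.card A * A.relIndex (A ⊔ N) * Nat.card (A ⊓ N : Subgroup G) := by rw [e3]
      _ = Nat.card A * Nat.card (A ⊓ N : Subgroup G) * A.relIndex (A ⊔ N) := by ring
  rw [e4]
  exact Subgroup.relIndex_dvd_index_of_le le_sup_left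

theorem main : ∀ n : ℕ, ∀ (G : Type u) [Group G] [Finite G], Nat.card G = n →
    ∀ A : Subgroup G, (∀ a ∈ A, ∀ b ∈ A, a * b = b * a) → (∃ k : ℕ, A.index = 2 ^ k) →
      Group.IsSolvable G := by
  intro n
  induction n using Nat.strong_induction_on with
  | _ n ih =>
  intro G _ _ hn A hA ⟨k, hk⟩
  by_cases hbot : A = ⊥
  · have h1 : Nat.card G = 2 ^ k := by
      rw [← hk, hbot, Subgroup.index_bot]
    exact Cfsg.Agent.Lib.Helper4.isSolvable_of_card_prime_pow 2 k Nat.prime_two h1
  obtain ⟨a, haA, ha1⟩ : ∃ a ∈ A, a ≠ 1 := by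
    by_contra hcon
    push_neg at hcon
    apply hbot
    rw [Subgroup.eq_bot_iff_forall]
    exact hcon
  by_cases hsimple : IsSimpleGroup G
  · have hle : A ≤ Subgroup.centralizer ({a} : Set G) := by
      intro b hb
      rw [Subgroup.mem_centralizer_singleton_iff]
      exact hA b hb a haA
    have hdvd : (Subgroup.centralizer ({a} : Set G)).index ∣ 2 ^ k := by
      rw [← hk]; exact Subgroup.index_dvd_of_le hle
    obtain ⟨j, -, hj⟩ := (Nat.dvd_prime_pow Nat.prime_two).mp hdvd
    have hprime := Cfsg.Agent.Lib.Helper4.prime_card_of_simple_of_index 2 j Nat.prime_two a ha1 hj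
    haveI : Fact (Nat.card G).Prime := ⟨hprime⟩
    haveI : IsCyclic G := isCyclic_of_prime_card (p := Nat.card G) rfl
    exact isSolvable_of_comm (fun x y => (IsCyclic.commGroup.mul_comm x y))
  · have hnt : Nontrivial G := ⟨⟨a, 1, ha1⟩⟩
    obtain ⟨N, hN, hNbot, hNtop⟩ : ∃ N : Subgroup G, N.Normal ∧ N ≠ ⊥ ∧ N ≠ ⊤ := by
      by_contra hcon
      push_neg at hcon
      apply hsimple
      exact ⟨fun H hH => by
        by_cases h : H = ⊥
        · exact Or.inl h
        · exact Or.inr (hcon H hH h)⟩
    haveI := hN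
    have hcardN : Nat.card N < n := by
      rw [← hn]
      apply lt_of_le_of_ne (Subgroup.card_le_card_group N)
      intro h
      exact hNtop ((Subgroup.card_eq_iff_eq_top N).mp h)
    have hcardQ : Nat.card (G ⧸ N) < n := by
      rw [← hn, ← Subgroup.index_eq_card, ← Subgroup.card_mul_index N]
      have h1 : 1 < Nat.card N := (Subgroup.one_lt_card_iff_ne_bot (H := N)).mpr hNbot
      have h2 : 0 < N.index := Nat.pos_of_ne_zero Subgroup.index_ne_zero_of_finite
      nlinarith
    have hsolN : Group.IsSolvable N := by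
      apply ih _ hcardN N rfl (A.subgroupOf N)
      · intro x hx y hy
        rw [Subgroup.mem_subgroupOf] at hx hy
        exact Subtype.ext (hA _ hx _ hy)
      · have h1 : (A.subgroupOf N).index ∣ 2 ^ k := by
          rw [← hk]
          exact relIndex_dvd_index_of_normal' A N
        obtain ⟨j, -, hj⟩ := (Nat.dvd_prime_pow Nat.prime_two).mp h1
        exact ⟨j, hj⟩
    have hsolQ : Group.IsSolvable (G ⧸ N) := by
      apply ih _ hcardQ (G ⧸ N) rfl (A.map (QuotientGroup.mk' N))
      · rintro _ ⟨x, hx, rfl⟩ _ ⟨y, hy, rfl⟩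
        rw [← map_mul, ← map_mul, hA x hx y hy]
      · have h1 : (A.map (QuotientGroup.mk' N)).index ∣ 2 ^ k := by
          rw [← hk]
          exact Subgroup.index_map_dvd A (QuotientGroup.mk'_surjective N)
        obtain ⟨j, -, hj⟩ := (Nat.dvd_prime_pow Nat.prime_two).mp h1
        exact ⟨j, hj⟩
    exact solvable_of_ker_le_range N.subtype (QuotientGroup.mk' N) (by
      rw [QuotientGroup.ker_mk', Subgroup.range_subtype])

/-- Every finite group having an abelian subgroup whose index is a power of 2 is solvable. -/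
theorem result {G : Type*} [Group G] [Finite G]
    (A : Subgroup G) (hA : IsMulCommutative A) (hidx : ∃ k : ℕ, A.index = 2 ^ k) : Group.IsSolvable G := by
  apply main (Nat.card G) G rfl A _ hidx
  intro a ha b hb
  have h1 := hA.is_comm.comm (⟨a, ha⟩ : A) ⟨b, hb⟩
  exact congrArg Subtype.val h1

end Cfsg.Agent.S3824
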