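import Cfsg.Statements.S3869
import Cfsg.Agent.Lib.Helper69.IrrAction
-- import your own Cfsg.Agent.* helpers here

set_option autoImplicit false
open Cfsg

namespace Cfsg.Agent.S3869

open Cfsg.Agent.Lib.Helper69

/-- Let p and q be distinct primes and G a finite non-abelian group with a normal elementary abelian q-subgroup A that is a minimal normal subgroup of G and has index p. Then A has order q^e with e the multiplicative order of q modulo p, and G is minimal non-p-closed: its Sylow p-subgroups are not normal, while in every proper subgroup and in every proper quotient of G the Sylow p-subgroups are normal. -/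
theorem result {G : Type*} [Group G] [Finite G] {p q : ℕ} [Fact p.Prime] (hq : q.Prime) (hpq : q ≠ p)
    (hna : ¬ IsMulCommutative G) (A : Subgroup G) [A.Normal] (hA : Cfsg.IsElementaryAbelian q A) (hidx : A.index = p)
    (hmin : ∀ B : Subgroup G, B.Normal → B ≤ A → B = ⊥ ∨ B = A) :
    Nat.card ↥A = q ^ orderOf (q : ZMod p) ∧ ¬ Cfsg.IsPClosed p G ∧ (∀ H : Subgroup G, H ≠ ⊤ → Cfsg.IsPClosed p ↥H) ∧
      ∀ (N : Subgroup G) [N.Normal], N ≠ ⊥ → Cfsg.IsPClosed p (G ⧸ N) := by
  have hp : p.Prime := Fact.out
  haveI : Fact q.Prime := ⟨hq⟩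
  obtain ⟨hAcomm, hAq⟩ := hA
  have hAc : ∀ a ∈ A, ∀ b ∈ A, a * b = b * a := by
    intro a ha b hb
    have := mul_comm' (⟨a, ha⟩ : ↥A) ⟨b, hb⟩
    exact congrArg Subtype.val this
  have hAp : IsPGroup q ↥A := by
    rw [IsPGroup]
    intro a
    refine ⟨1, ?_⟩
    apply Subtype.ext
    simpa using hAq a a.2
  refine ⟨card_of_min_normal hq hpq hna A hAc hAq hidx hmin, ?_, ?_, ?_⟩
  · intro hc
    let P : Sylow p G := default
    haveI : (P : Subgroup G).Normal := hc P
    have hdisj : Disjoint (P : Subgroup G) A :=
      IsPGroup.disjoint_of_ne p q hpq.symm _ _ P.isPGroup' hAp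
    have hPne : (P : Subgroup G) ≠ ⊥ := by
      apply Sylow.ne_bot_of_dvd_card
      rw [← hidx]
      exact Subgroup.index_dvd_card A
    obtain ⟨x, hxP⟩ := (Subgroup.ne_bot_iff_exists_ne_one.mp hPne)
    have hxP' : (x : G) ∈ (P : Subgroup G) := x.2
    have hxne : (x : G) ≠ 1 := fun h => hxP (Subtype.ext h)
    have hxA : (x : G) ∉ A := by
      intro hxA
      have : (x : G) ∈ (P : Subgroup G) ⊓ A := ⟨hxP', hxA⟩
      rw [hdisj.eq_bot, Subgroup.mem_bot] at this
      exact hxne this
    apply hna
    apply comm_of_centralizing A hAc hidx (x : G) hxA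
    intro a ha
    have h1 : a * (x : G) * a⁻¹ * (x : G)⁻¹ ∈ (P : Subgroup G) :=
      (P : Subgroup G).mul_mem ((hc P).conj_mem _ hxP' a) ((P : Subgroup G).inv_mem hxP')
    have h2 : a * (x : G) * a⁻¹ * (x : G)⁻¹ ∈ A := by
      have h3 : (x : G) * a⁻¹ * (x : G)⁻¹ ∈ A :=
        (inferInstance : A.Normal).conj_mem _ (A.inv_mem ha) _
      have h4 := A.mul_mem ha h3
      simpa [mul_assoc] using h4
    have h5 : a * (x : G) * a⁻¹ * (x : G)⁻¹ ∈ (P : Subgroup G) ⊓ A := ⟨h1, h2⟩
    rw [hdisj.eq_bot, Subgroup.mem_bot] at h5
    calc a * (x : G) = a * (x : G) * a⁻¹ * (x : G)⁻¹ * ((x : G) * a) := by group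
      _ = (x : G) * a := by rw [h5, one_mul]
  · intro H hH
    have hHc : ∀ a ∈ H, ∀ b ∈ H, a * b = b * a := by
      by_cases hHA : H ≤ A
      · intro a ha b hb
        exact hAc a (hHA ha) b (hHA hb)
      · obtain ⟨h, hhH, hhA⟩ := SetLike.not_le_iff_exists.mp hHA
        have hnorm : (H ⊓ A).Normal := by
          rw [← Subgroup.normalizer_eq_top_iff]
          apply eq_top_of_index_prime hp hidx (K := Subgroup.normalizer ((H ⊓ A : Subgroup G) : Set G)) _ h _ hhA
          · intro a ha
            rw [Subgroup.mem_normalizer_iff]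
            intro b
            constructor
            · intro hb
              have : a * b * a⁻¹ = b := by rw [hAc a ha b hb.2, mul_inv_cancel_right]
              rw [this]
              exact hb
            · intro hb
              have hbA : b ∈ A := by
                have := (inferInstance : A.Normal).conj_mem _ hb.2 a⁻¹
                simpa [mul_assoc] using this
              have : a * b * a⁻¹ = b := by rw [hAc a ha b hbA, mul_inv_cancel_right]
              rw [this] at hb
              exact hb
          · rw [Subgroup.mem_normalizer_iff]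
            intro b
            constructor
            · intro hb
              exact ⟨H.mul_mem (H.mul_mem hhH hb.1) (H.inv_mem hhH),
                (inferInstance : A.Normal).conj_mem _ hb.2 h⟩
            · intro hb
              have h1 : h⁻¹ * (h * b * h⁻¹) * h ∈ H :=
                H.mul_mem (H.mul_mem (H.inv_mem hhH) hb.1) hhH
              have h2 : h⁻¹ * (h * b * h⁻¹) * h⁻¹⁻¹ ∈ A :=
                (inferInstance : A.Normal).conj_mem _ hb.2 h⁻¹
              have e1 : h⁻¹ * (h * b * h⁻¹) * h = b := by group
              have e2 : h⁻¹ * (h * b * h⁻¹) * h⁻¹⁻¹ = b := by group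
              rw [e1] at h1
              rw [e2] at h2
              exact ⟨h1, h2⟩
        rcases hmin _ hnorm inf_le_right with h1 | h1
        · intro a ha b hb
          have h2 : a * b * a⁻¹ * b⁻¹ ∈ H ⊓ A :=
            ⟨H.mul_mem (H.mul_mem (H.mul_mem ha hb) (H.inv_mem ha)) (H.inv_mem hb),
              commutator_mem_of_index_prime A hidx a b⟩
          rw [h1, Subgroup.mem_bot] at h2
          calc a * b = a * b * a⁻¹ * b⁻¹ * (b * a) := by group
            _ = b * a := by rw [h2, one_mul]
        · exfalso
          apply hH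
          have hAH : A ≤ H := by rw [← h1]; exact inf_le_left
          exact eq_top_of_index_prime hp hidx hAH h hhH hhA
    intro S
    constructor
    intro n hn g
    have : g * n * g⁻¹ = n := by
      apply Subtype.ext
      have := hHc g g.2 n n.2
      simp only [Subgroup.coe_mul, Subgroup.coe_inv]
      rw [this, mul_inv_cancel_right]
    rw [this]
    exact hn
  · intro N _ hN
    have hQc : ∀ u v : G ⧸ N, u * v = v * u := by
      have hnorm : (N ⊓ A).Normal := inferInstance
      rcases hmin _ hnorm inf_le_right with h1 | h1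
      · exfalso
        obtain ⟨n, hnN⟩ := (Subgroup.ne_bot_iff_exists_ne_one.mp hN)
        have hnN' : (n : G) ∈ N := n.2
        have hnne : (n : G) ≠ 1 := fun h => hnN (Subtype.ext h)
        have hnA : (n : G) ∉ A := by
          intro hnA
          have : (n : G) ∈ N ⊓ A := ⟨hnN', hnA⟩
          rw [h1, Subgroup.mem_bot] at this
          exact hnne this
        apply hna
        apply comm_of_centralizing A hAc hidx (n : G) hnA
        intro a ha
        have h2 : a * (n : G) * a⁻¹ * (n : G)⁻¹ ∈ N :=
          N.mul_mem ((inferInstance : N.Normal).conj_mem _ hnN' a) (N.inv_mem hnN')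
        have h3 : a * (n : G) * a⁻¹ * (n : G)⁻¹ ∈ A := by
          have h4 : (n : G) * a⁻¹ * (n : G)⁻¹ ∈ A :=
            (inferInstance : A.Normal).conj_mem _ (A.inv_mem ha) _
          have h5 := A.mul_mem ha h4
          simpa [mul_assoc] using h5
        have h6 : a * (n : G) * a⁻¹ * (n : G)⁻¹ ∈ N ⊓ A := ⟨h2, h3⟩
        rw [h1, Subgroup.mem_bot] at h6
        calc a * (n : G) = a * (n : G) * a⁻¹ * (n : G)⁻¹ * ((n : G) * a) := by group
          _ = (n : G) * a := by rw [h6, one_mul]
      · have hAN : A ≤ N := by rw [← h1]; exact inf_le_left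
        intro u v
        induction u using QuotientGroup.induction_on with
        | _ a =>
        induction v using QuotientGroup.induction_on with
        | _ b =>
        have h2 : a * b * a⁻¹ * b⁻¹ ∈ N := hAN (commutator_mem_of_index_prime A hidx a b)
        rw [← QuotientGroup.eq_one_iff, QuotientGroup.mk_mul, QuotientGroup.mk_mul,
          QuotientGroup.mk_mul, QuotientGroup.mk_inv, QuotientGroup.mk_inv] at h2
        calc (a : G ⧸ N) * (b : G ⧸ N)
            = (a : G ⧸ N) * (b : G ⧸ N) * (a : G ⧸ N)⁻¹ * (b : G ⧸ N)⁻¹ * ((b : G ⧸ N) * (a : G ⧸ N)) := by group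
          _ = (b : G ⧸ N) * (a : G ⧸ N) := by rw [h2, one_mul]
    intro S
    constructor
    intro n hn g
    have : g * n * g⁻¹ = n := by rw [hQc g n, mul_inv_cancel_right]
    rw [this]
    exact hn

end Cfsg.Agent.S3869
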