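import Cfsg.Statements.S3870
import Mathlib
-- import your own Cfsg.Agent.* helpers here

set_option autoImplicit false
open Cfsg

namespace Cfsg.Agent.S3870

theorem exists_normalizing_not_mem {G : Type*} [Group G] [Finite G] {p : ℕ} [Fact p.Prime]
    (P D : Subgroup G) (hP : IsPGroup p ↥P) (hDP : D ≤ P) (hne : D ≠ P) :
    ∃ x ∈ P, x ∈ Subgroup.normalizer (D : Set G) ∧ x ∉ D := by
  haveI : Group.IsNilpotent ↥P := hP.isNilpotent
  have hnc : NormalizerCondition ↥P := Group.normalizerCondition_of_isNilpotent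
  have hlt : D.subgroupOf P < ⊤ := by
    rw [lt_top_iff_ne_top, Ne, Subgroup.subgroupOf_eq_top]
    intro h
    exact hne (le_antisymm hDP h)
  obtain ⟨x, hxn, hxD⟩ := SetLike.exists_of_lt (hnc _ hlt)
  refine ⟨x, x.2, ?_, ?_⟩
  · rw [Subgroup.mem_normalizer_iff] at hxn ⊢
    intro h
    constructor
    · intro hh
      have h1 := (hxn ⟨h, hDP hh⟩).mp (by rw [Subgroup.mem_subgroupOf]; exact hh)
      rw [Subgroup.mem_subgroupOf] at h1
      simpa using h1
    · intro hh
      have hhP : h ∈ P := by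
        have h1 : (x : G)⁻¹ * ((x : G) * h * (x : G)⁻¹) * (x : G) ∈ P :=
          P.mul_mem (P.mul_mem (P.inv_mem x.2) (hDP hh)) x.2
        have e : (x : G)⁻¹ * ((x : G) * h * (x : G)⁻¹) * (x : G) = h := by group
        rwa [e] at h1
      have h2 := (hxn ⟨h, hhP⟩).mpr (by rw [Subgroup.mem_subgroupOf]; simpa using hh)
      rw [Subgroup.mem_subgroupOf] at h2
      exact h2
  · intro h
    apply hxD
    rw [Subgroup.mem_subgroupOf]
    exact h

theorem ti_aux {G : Type*} [Group G] [Finite G] [IsSimpleGroup G] {p : ℕ} [Fact p.Prime]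
    (hsub : ∀ H : Subgroup G, H ≠ ⊤ → Cfsg.IsPClosed p ↥H) :
    ∀ (n : ℕ) (P Q : Sylow p G), P ≠ Q →
      Nat.card G - Nat.card ↥((P : Subgroup G) ⊓ (Q : Subgroup G)) = n →
      (P : Subgroup G) ⊓ (Q : Subgroup G) = ⊥ := by
  intro n
  induction n using Nat.strong_induction_on with
  | _ n ih =>
  intro P Q hPQ hn
  by_contra hD
  have hDP : (P : Subgroup G) ⊓ (Q : Subgroup G) ≠ (P : Subgroup G) := by
    intro h
    have hle : (P : Subgroup G) ≤ (Q : Subgroup G) := by rw [← h]; exact inf_le_right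
    exact hPQ (Sylow.ext (P.is_maximal' Q.isPGroup' hle).symm)
  have hDQ : (P : Subgroup G) ⊓ (Q : Subgroup G) ≠ (Q : Subgroup G) := by
    intro h
    have hle : (Q : Subgroup G) ≤ (P : Subgroup G) := by rw [← h]; exact inf_le_left
    exact hPQ (Sylow.ext (Q.is_maximal' P.isPGroup' hle))
  obtain ⟨x, hxP, hxN, hxD⟩ := exists_normalizing_not_mem (P : Subgroup G) _ P.isPGroup' inf_le_left hDP
  obtain ⟨y, hyQ, hyN, hyD⟩ := exists_normalizing_not_mem (Q : Subgroup G) _ Q.isPGroup' inf_le_right hDQ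
  have hNtop : Subgroup.normalizer (((P : Subgroup G) ⊓ (Q : Subgroup G) : Subgroup G) : Set G) ≠ ⊤ := by
    intro h
    rw [Subgroup.normalizer_eq_top_iff] at h
    rcases h.eq_bot_or_eq_top with h1 | h1
    · exact hD h1
    · apply hDP
      apply le_antisymm inf_le_left
      rw [h1]
      exact le_top
  have hcl := hsub _ hNtop
  -- the unique Sylow p-subgroup of the normalizer
  let S₀ : Sylow p ↥(Subgroup.normalizer (((P : Subgroup G) ⊓ (Q : Subgroup G) : Subgroup G) : Set G)) := default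
  have hS₀ := hcl S₀
  haveI := Sylow.unique_of_normal S₀ hS₀
  have hmemS : ∀ (R : Subgroup G), IsPGroup p ↥R → ∀ z ∈ R,
      ∀ hz : z ∈ Subgroup.normalizer (((P : Subgroup G) ⊓ (Q : Subgroup G) : Subgroup G) : Set G),
      (⟨z, hz⟩ : ↥(Subgroup.normalizer (((P : Subgroup G) ⊓ (Q : Subgroup G) : Subgroup G) : Set G))) ∈
        (S₀ : Subgroup _) := by
    intro R hR z hzR hz
    have hzp : IsPGroup p ↥(Subgroup.zpowers (⟨z, hz⟩ :
        ↥(Subgroup.normalizer (((P : Subgroup G) ⊓ (Q : Subgroup G) : Subgroup G) : Set G)))) := by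
      obtain ⟨k, hk⟩ := hR ⟨z, hzR⟩
      have hk' : z ^ p ^ k = 1 := by
        have := congrArg Subtype.val hk
        simpa using this
      rintro ⟨w, hw⟩
      obtain ⟨m, rfl⟩ := Subgroup.mem_zpowers_iff.mp hw
      refine ⟨k, ?_⟩
      apply Subtype.ext
      apply Subtype.ext
      simp only [Subgroup.coe_pow, Subgroup.coe_zpow, Subgroup.coe_one]
      rw [← zpow_natCast, ← zpow_mul, mul_comm, zpow_mul, zpow_natCast, hk', one_zpow]
    obtain ⟨T', hT'⟩ := hzp.exists_le_sylow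
    have hTS : T' = S₀ := Subsingleton.elim T' S₀
    rw [← hTS]
    exact hT' (Subgroup.mem_zpowers _)
  have hSp : IsPGroup p ↥((S₀ : Subgroup _).map
      (Subgroup.normalizer (((P : Subgroup G) ⊓ (Q : Subgroup G) : Subgroup G) : Set G)).subtype) :=
    S₀.isPGroup'.map _
  obtain ⟨T, hT⟩ := hSp.exists_le_sylow
  have hxT : x ∈ (T : Subgroup G) := hT ⟨⟨x, hxN⟩, hmemS _ P.isPGroup' x hxP hxN, rfl⟩
  have hyT : y ∈ (T : Subgroup G) := hT ⟨⟨y, hyN⟩, hmemS _ Q.isPGroup' y hyQ hyN, rfl⟩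
  have hDT : (P : Subgroup G) ⊓ (Q : Subgroup G) ≤ (T : Subgroup G) := by
    intro d hd
    exact hT ⟨⟨d, Subgroup.le_normalizer hd⟩,
      hmemS _ P.isPGroup' d hd.1 (Subgroup.le_normalizer hd), rfl⟩
  have hPT : P ≠ T := by
    rintro rfl
    exact hyD ⟨hyT, hyQ⟩
  have hlt : Nat.card ↥((P : Subgroup G) ⊓ (Q : Subgroup G)) <
      Nat.card ↥((P : Subgroup G) ⊓ (T : Subgroup G)) := by
    by_contra hle
    push Not at hle
    have hle' : (P : Subgroup G) ⊓ (Q : Subgroup G) ≤ (P : Subgroup G) ⊓ (T : Subgroup G) :=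
      le_inf inf_le_left hDT
    have heq := Subgroup.eq_of_le_of_card_ge hle' hle
    apply hxD
    rw [heq]
    exact ⟨hxP, hxT⟩
  have hbound : Nat.card ↥((P : Subgroup G) ⊓ (T : Subgroup G)) ≤ Nat.card G :=
    Subgroup.card_le_card_group _
  have h0 := ih (Nat.card G - Nat.card ↥((P : Subgroup G) ⊓ (T : Subgroup G))) (by omega) P T hPT rfl
  apply hD
  rw [eq_bot_iff, ← h0]
  exact le_inf inf_le_left hDT

/-- Let G be a finite simple group whose Sylow p-subgroups are not normal but such that every proper subgroup of G has a normal Sylow p-subgroup. Then any two distinct Sylow p-subgroups of G intersect trivially, and for every Sylow p-subgroup P the normalizer of every non-identity subgroup of P lies in the normalizer of P. -/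
theorem result {G : Type*} [Group G] [Finite G] [IsSimpleGroup G] {p : ℕ} [Fact p.Prime]
    (hnc : ¬ Cfsg.IsPClosed p G) (hsub : ∀ H : Subgroup G, H ≠ ⊤ → Cfsg.IsPClosed p ↥H) :
    (∀ P Q : Sylow p G, P ≠ Q → (P : Subgroup G) ⊓ (Q : Subgroup G) = ⊥) ∧
      ∀ (P : Sylow p G) (R : Subgroup G), R ≤ P → R ≠ ⊥ →
        Subgroup.normalizer (R : Set G) ≤ Subgroup.normalizer ((P : Subgroup G) : Set G) := by
  have hTI : ∀ P Q : Sylow p G, P ≠ Q → (P : Subgroup G) ⊓ (Q : Subgroup G) = ⊥ :=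
    fun P Q hPQ => ti_aux hsub _ P Q hPQ rfl
  refine ⟨hTI, ?_⟩
  intro P R hRP hR g hg
  apply Sylow.smul_eq_iff_mem_normalizer.mp
  by_contra hne
  have h1 := hTI (g • P) P hne
  apply hR
  rw [eq_bot_iff, ← h1]
  intro r hr
  have hrgP : r ∈ ((g • P : Sylow p G) : Subgroup G) := by
    rw [Sylow.coe_subgroup_smul, Subgroup.mem_pointwise_smul_iff_inv_smul_mem, MulAut.smul_def,
      MulAut.conj_inv_apply]
    apply hRP
    have hg' : g⁻¹ ∈ Subgroup.normalizer (R : Set G) := Subgroup.inv_mem _ hg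
    have h2 := (Subgroup.mem_normalizer_iff.mp hg' r).mp hr
    simpa using h2
  exact ⟨hrgP, hRP hr⟩

end Cfsg.Agent.S3870
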