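import Cfsg.Statements.S3872
import Cfsg.Agent.Lib.Helper69.RegClass
import Cfsg.Agent.Lib.Helper75.Regular
import Cfsg.Agent.S0662
import Cfsg.Agent.S0016

set_option autoImplicit false
open Cfsg

namespace Cfsg.Agent.S3872

/-- a generalized quaternion group `QuaternionGroup m` with `2 ≤ m` is not commutative -/
theorem quat_not_comm {m : ℕ} (hm : 2 ≤ m) :
    ¬ ∀ u v : QuaternionGroup m, u * v = v * u := by
  intro h
  have h1 := h (QuaternionGroup.a 1) (QuaternionGroup.xa 0)
  rw [QuaternionGroup.a_mul_xa, QuaternionGroup.xa_mul_a] at h1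
  have h2 : (0 : ZMod (2 * m)) - 1 = 0 + 1 := by
    injection h1
  have h3 : ((2 : ℕ) : ZMod (2 * m)) = 0 := by
    have : (2 : ZMod (2 * m)) = 0 := by
      have e : (2 : ZMod (2 * m)) = (0 + 1) - (0 - 1) := by ring
      rw [e, h2]
      ring
    exact_mod_cast this
  rw [ZMod.natCast_eq_zero_iff] at h3
  have := Nat.le_of_dvd (by norm_num) h3
  omega

/-- Say that a finite group is p-exponent closed when its elements of order dividing p form a subgroup. Let G be a finite p-group that is not p-exponent closed, but all of whose proper subgroups and proper quotients are. Then G is generated by two elements, has nilpotency class at least p, has exponent p², has cyclic center, and has order at least p^(p+1). -/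
theorem result {G : Type*} [Group G] [Finite G] {p : ℕ} [Fact p.Prime] (hG : IsPGroup p G)
    (hnc : ¬ (∃ H : Subgroup G, (H : Set G) = {g : G | g ^ p = 1})) (hsub : ∀ K : Subgroup G, K ≠ ⊤ → (∃ H : Subgroup ↥K, (H : Set ↥K) = {g : ↥K | g ^ p = 1}))
    (hquo : ∀ (N : Subgroup G) [N.Normal], N ≠ ⊥ → (∃ H : Subgroup (G ⧸ N), (H : Set (G ⧸ N)) = {g : (G ⧸ N) | g ^ p = 1})) :
    (∃ x y : G, Subgroup.closure ({x, y} : Set G) = ⊤) ∧ (⊤ : Subgroup G).lowerCentralSeries (p - 1) ≠ ⊥ ∧
      Monoid.exponent G = p ^ 2 ∧ IsCyclic ↥(Subgroup.center G) ∧ p ^ (p + 1) ≤ Nat.card G := by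
  have hp : p.Prime := Fact.out
  have hp2 := hp.two_le
  -- two elements of order dividing `p` whose product is not
  have h0 : ∃ x y : G, x ^ p = 1 ∧ y ^ p = 1 ∧ (x * y) ^ p ≠ 1 := by
    by_contra hcon
    push Not at hcon
    apply hnc
    exact ⟨{ carrier := {g | g ^ p = 1}
             one_mem' := one_pow p
             mul_mem' := fun {a b} ha hb => hcon a b ha hb
             inv_mem' := fun {a} ha => by
               show a⁻¹ ^ p = 1
               rw [inv_pow, show a ^ p = 1 from ha, inv_one] }, rfl⟩
  obtain ⟨x, y, hx, hy, hxy⟩ := h0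
  -- they generate `G`
  have hgen : Subgroup.closure ({x, y} : Set G) = ⊤ := by
    by_contra hne
    obtain ⟨H, hH⟩ := hsub _ hne
    have hxK : x ∈ Subgroup.closure ({x, y} : Set G) := Subgroup.subset_closure (by simp)
    have hyK : y ∈ Subgroup.closure ({x, y} : Set G) := Subgroup.subset_closure (by simp)
    have hmem : ∀ g : Subgroup.closure ({x, y} : Set G), g ∈ H ↔ g ^ p = 1 := by
      intro g
      have : g ∈ (H : Set _) ↔ g ∈ {g : Subgroup.closure ({x, y} : Set G) | g ^ p = 1} := by
        rw [hH]
      exact this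
    have h1 : (⟨x, hxK⟩ : Subgroup.closure ({x, y} : Set G)) ∈ H :=
      (hmem _).mpr (Subtype.ext (by simpa using hx))
    have h2 : (⟨y, hyK⟩ : Subgroup.closure ({x, y} : Set G)) ∈ H :=
      (hmem _).mpr (Subtype.ext (by simpa using hy))
    have h3 := (hmem _).mp (H.mul_mem h1 h2)
    exact hxy (by simpa using congrArg Subtype.val h3)
  -- the `p`-th powers lie in every nontrivial normal subgroup
  have hQ : ∀ (N : Subgroup G) [N.Normal], N ≠ ⊥ → ∀ g : G, g ^ p ∈ N := by
    intro N _ hN g
    obtain ⟨H, hH⟩ := hquo N hN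
    have hmem : ∀ q : G ⧸ N, q ∈ H ↔ q ^ p = 1 := by
      intro q
      have : q ∈ (H : Set _) ↔ q ∈ {q : G ⧸ N | q ^ p = 1} := by
        rw [hH]
      exact this
    have hmem' : ∀ g : G, g ^ p = 1 → (g : G ⧸ N) ∈ H := by
      intro g hg
      rw [hmem, ← QuotientGroup.mk_pow, hg]
      rfl
    have htop : H.comap (QuotientGroup.mk' N) = ⊤ := by
      rw [eq_top_iff, ← hgen, Subgroup.closure_le]
      intro z hz
      rcases hz with rfl | rfl
      · exact hmem' _ hx
      · exact hmem' _ hy
    have h1 : g ∈ H.comap (QuotientGroup.mk' N) := htop ▸ Subgroup.mem_top g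
    have h2 : (g : G ⧸ N) ^ p = 1 := (hmem _).mp h1
    rw [← QuotientGroup.mk_pow] at h2
    exact (QuotientGroup.eq_one_iff _).mp h2
  -- version for subgroups of the centre
  have hQ' : ∀ H : Subgroup (Subgroup.center G), H ≠ ⊥ → ∀ g : G, ∃ h ∈ H, (h : G) = g ^ p := by
    intro H hH g
    have hn : (H.map (Subgroup.center G).subtype).Normal := by
      constructor
      rintro n ⟨h, hh, rfl⟩ g
      have : g * (Subgroup.center G).subtype h * g⁻¹ = (Subgroup.center G).subtype h := by
        have := Subgroup.mem_center_iff.mp h.2 g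
        simp only [Subgroup.coe_subtype]
        rw [this, mul_inv_cancel_right]
      rw [this]
      exact ⟨h, hh, rfl⟩
    have hne : H.map (Subgroup.center G).subtype ≠ ⊥ := by
      intro h0
      exact hH ((Subgroup.map_eq_bot_iff_of_injective _ (Subgroup.center G).subtype_injective).mp h0)
    obtain ⟨h, hh, e⟩ := hQ _ hne g
    exact ⟨h, hh, e⟩
  haveI : Nontrivial G := ⟨⟨(x * y) ^ p, 1, hxy⟩⟩
  haveI := hG.center_nontrivial
  have hZ : IsPGroup p (Subgroup.center G) := hG.to_subgroup _
  -- the class is at least `p`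
  have hcl : (⊤ : Subgroup G).lowerCentralSeries (p - 1) ≠ ⊥ := by
    intro hcl
    have hreg := Cfsg.Agent.Lib.Helper69.RegClass.isRegular_of_class_lt hG hcl
    apply hnc
    refine ⟨Cfsg.Agent.Lib.Helper75.Reg.OmegaSub hreg 1, ?_⟩
    ext g
    show g ^ p ^ 1 = 1 ↔ g ^ p = 1
    rw [pow_one]
  -- exponent
  have hexp : Monoid.exponent G = p ^ 2 := by
    obtain ⟨k, hk⟩ := IsPGroup.iff_card.mp hZ
    have hk0 : k ≠ 0 := by
      rintro rfl
      rw [pow_zero] at hk
      exact (Finite.one_lt_card (α := Subgroup.center G)).ne' hk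
    have hdvd : p ∣ Nat.card (Subgroup.center G) := by
      rw [hk]
      exact dvd_pow_self p hk0
    obtain ⟨z, hz⟩ := exists_prime_orderOf_dvd_card' p hdvd
    have hzne : Subgroup.zpowers z ≠ ⊥ := by
      intro h0
      have : z = 1 := by
        have := Subgroup.mem_zpowers z
        rw [h0] at this
        exact Subgroup.mem_bot.mp this
      rw [this, orderOf_one] at hz
      omega
    have hpp : ∀ g : G, g ^ (p ^ 2) = 1 := by
      intro g
      obtain ⟨h, hh, e⟩ := hQ' _ hzne g
      obtain ⟨i, rfl⟩ := Subgroup.mem_zpowers_iff.mp hh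
      rw [pow_two, pow_mul, ← e]
      have : (z ^ i) ^ p = 1 := by
        rw [← zpow_natCast, ← zpow_mul, mul_comm, zpow_mul, zpow_natCast, ← hz, pow_orderOf_eq_one,
          one_zpow]
      have := congrArg Subtype.val this
      simpa using this
    have hd : Monoid.exponent G ∣ p ^ 2 := Monoid.exponent_dvd_of_forall_pow_eq_one hpp
    obtain ⟨j, hj, e⟩ := (Nat.dvd_prime_pow hp).mp hd
    have hne : ¬ (j ≤ 1) := by
      intro hj1
      apply hxy
      have h1 : (x * y) ^ Monoid.exponent G = 1 := Monoid.pow_exponent_eq_one _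
      rw [e] at h1
      interval_cases j
      · rw [pow_zero, pow_one] at h1
        rw [h1, one_pow]
      · rwa [pow_one] at h1
    have : j = 2 := by omega
    rw [e, this]
  refine ⟨⟨x, y, hgen⟩, hcl, hexp, ?_, ?_⟩
  · -- the centre is cyclic
    by_cases huniq : ∀ H K : Subgroup (Subgroup.center G), Nat.card H = p → Nat.card K = p → H = K
    · rcases Cfsg.Agent.S0016.result p hZ huniq with h | ⟨_, n, ⟨e⟩⟩
      · exact h
      · have hcomm : ∀ u v : QuaternionGroup (2 ^ n), u * v = v * u := by
          intro u v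
          apply e.symm.injective
          rw [map_mul, map_mul]
          exact Subtype.ext (Subgroup.mem_center_iff.mp (e.symm v).2 (e.symm u))
        rcases Nat.eq_zero_or_pos n with rfl | hn
        · haveI : IsCyclic (QuaternionGroup (2 ^ 0)) := QuaternionGroup.quaternionGroup_one_isCyclic
          exact isCyclic_of_surjective e.symm e.symm.surjective
        · exfalso
          refine quat_not_comm ?_ hcomm
          calc 2 = 2 ^ 1 := by norm_num
            _ ≤ 2 ^ n := Nat.pow_le_pow_right (by norm_num) hn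
    · exfalso
      push Not at huniq
      obtain ⟨H, K, hH, hK, hHK⟩ := huniq
      have hHne : H ≠ ⊥ := by
        intro h0
        rw [h0, Subgroup.card_bot] at hH
        omega
      have hKne : K ≠ ⊥ := by
        intro h0
        rw [h0, Subgroup.card_bot] at hK
        omega
      have hinf : H ⊓ K = ⊥ := by
        have hd : Nat.card (H ⊓ K : Subgroup (Subgroup.center G)) ∣ p :=
          hH ▸ Subgroup.card_dvd_of_le inf_le_left
        rcases (Nat.dvd_prime hp).mp hd with h1 | h1
        · exact Subgroup.card_eq_one.mp h1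
        · exfalso
          have e1 : H ⊓ K = H := Subgroup.eq_of_le_of_card_ge inf_le_left (by rw [h1, hH])
          have e2 : H ⊓ K = K := Subgroup.eq_of_le_of_card_ge inf_le_right (by rw [h1, hK])
          exact hHK (e1.symm.trans e2)
      obtain ⟨h, hh, e1⟩ := hQ' H hHne (x * y)
      obtain ⟨k, hk, e2⟩ := hQ' K hKne (x * y)
      have hhk : h = k := Subtype.ext (e1.trans e2.symm)
      have : h ∈ H ⊓ K := ⟨hh, hhk ▸ hk⟩
      rw [hinf, Subgroup.mem_bot] at this
      apply hxy
      rw [← e1, this]
      rfl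
  · -- order
    obtain ⟨n, hn⟩ := IsPGroup.iff_card.mp hG
    rcases Cfsg.Agent.S0662.lcs_card_le hn (p - 1) (by omega) with h | ⟨a, ha, hle⟩
    · exact absurd h hcl
    · have ha0 : a ≠ 0 := by
        rintro rfl
        rw [pow_zero] at ha
        exact hcl (Subgroup.card_eq_one.mp ha)
      rw [hn]
      exact Nat.pow_le_pow_right hp.pos (by omega)

end Cfsg.Agent.S3872
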