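import Cfsg.Statements.S3873
import Cfsg.Agent.S3868
-- import your own Cfsg.Agent.* helpers here

set_option autoImplicit false
open Cfsg

namespace Cfsg.Agent.S3873

/-- Say that a finite group is p-exponent closed when its elements of order dividing p form a subgroup. Let G be a finite group that is not p-exponent closed, but all of whose proper subgroups and proper quotients are, and suppose G is neither simple nor a p-group. Then there is a prime q ≠ p such that G has order p · q^e, where e is the multiplicative order of q modulo p, and G has a normal elementary abelian subgroup of order q^e that is a minimal normal subgroup of G. -/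
theorem result {G : Type*} [Group G] [Finite G] {p : ℕ} [Fact p.Prime]
    (hnc : ¬ (∃ H : Subgroup G, (H : Set G) = {g : G | g ^ p = 1})) (hsub : ∀ K : Subgroup G, K ≠ ⊤ → (∃ H : Subgroup ↥K, (H : Set ↥K) = {g : ↥K | g ^ p = 1}))
    (hquo : ∀ (N : Subgroup G) [N.Normal], N ≠ ⊥ → (∃ H : Subgroup (G ⧸ N), (H : Set (G ⧸ N)) = {g : (G ⧸ N) | g ^ p = 1}))
    (hns : ¬ IsSimpleGroup G) (hnp : ¬ IsPGroup p G) :
    ∃ q : ℕ, q.Prime ∧ q ≠ p ∧ Nat.card G = p * q ^ orderOf (q : ZMod p) ∧
      ∃ A : Subgroup G, A.Normal ∧ Nat.card ↥A = q ^ orderOf (q : ZMod p) ∧ Cfsg.IsElementaryAbelian q A ∧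
        ∀ B : Subgroup G, B.Normal → B ≤ A → B = ⊥ ∨ B = A := by
  have hpp : p.Prime := Fact.out
  -- Step 1: x, y
  obtain ⟨x, y, hx, hy, hxy⟩ : ∃ x y : G, x ^ p = 1 ∧ y ^ p = 1 ∧ (x * y) ^ p ≠ 1 := by
    by_contra hcon
    push Not at hcon
    apply hnc
    exact ⟨{ carrier := {g : G | g ^ p = 1}
             one_mem' := one_pow p
             mul_mem' := fun {a b} ha hb => hcon a b ha hb
             inv_mem' := fun {a} ha => by
               show a⁻¹ ^ p = 1
               rw [inv_pow, show a ^ p = 1 from ha, inv_one] }, rfl⟩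
  -- Step 2: generation
  have hgen : Subgroup.closure ({x, y} : Set G) = ⊤ := by
    by_contra hne
    obtain ⟨H, hH⟩ := hsub _ hne
    have hxK : x ∈ Subgroup.closure ({x, y} : Set G) := Subgroup.subset_closure (by simp)
    have hyK : y ∈ Subgroup.closure ({x, y} : Set G) := Subgroup.subset_closure (by simp)
    have hxH : (⟨x, hxK⟩ : ↥(Subgroup.closure ({x, y} : Set G))) ∈ H := by
      rw [← SetLike.mem_coe, hH]
      exact Subtype.ext (by simpa using hx)
    have hyH : (⟨y, hyK⟩ : ↥(Subgroup.closure ({x, y} : Set G))) ∈ H := by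
      rw [← SetLike.mem_coe, hH]
      exact Subtype.ext (by simpa using hy)
    have h1 := H.mul_mem hxH hyH
    rw [← SetLike.mem_coe, hH] at h1
    have h2 : ((⟨x, hxK⟩ : ↥(Subgroup.closure ({x, y} : Set G))) * ⟨y, hyK⟩) ^ p = 1 := h1
    apply hxy
    have h3 := congrArg Subtype.val h2
    simpa using h3
  -- Step 3: p-th powers lie in every nontrivial normal subgroup
  have hQ : ∀ (N : Subgroup G) [N.Normal], N ≠ ⊥ → ∀ g : G, g ^ p ∈ N := by
    intro N _ hN g
    obtain ⟨H, hH⟩ := hquo N hN
    have hxH : (x : G ⧸ N) ∈ H := by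
      rw [← SetLike.mem_coe, hH]
      show (x : G ⧸ N) ^ p = 1
      rw [← QuotientGroup.mk_pow, hx]
      rfl
    have hyH : (y : G ⧸ N) ∈ H := by
      rw [← SetLike.mem_coe, hH]
      show (y : G ⧸ N) ^ p = 1
      rw [← QuotientGroup.mk_pow, hy]
      rfl
    have hle : Subgroup.closure ({x, y} : Set G) ≤ H.comap (QuotientGroup.mk' N) := by
      rw [Subgroup.closure_le]
      intro z hz
      rcases hz with rfl | rfl
      · exact hxH
      · exact hyH
    rw [hgen] at hle
    have hg : (g : G ⧸ N) ∈ H := hle (Subgroup.mem_top g)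
    rw [← SetLike.mem_coe, hH] at hg
    have hg' : (g : G ⧸ N) ^ p = 1 := hg
    rw [← QuotientGroup.mk_pow, QuotientGroup.eq_one_iff] at hg'
    exact hg'
  -- Step 4: a proper nontrivial normal subgroup
  obtain ⟨N, hNn, hN, hN'⟩ : ∃ N : Subgroup G, N.Normal ∧ N ≠ ⊥ ∧ N ≠ ⊤ := by
    by_contra h
    push Not at h
    apply hns
    have hnt : Nontrivial G := by
      by_contra hnt
      rw [not_nontrivial_iff_subsingleton] at hnt
      apply hnp
      intro g
      exact ⟨0, Subsingleton.elim _ _⟩
    exact @IsSimpleGroup.mk G _ hnt (fun H hH => by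
      by_cases hb : H = ⊥
      · exact Or.inl hb
      · exact Or.inr (h H hH hb))
  haveI := hNn
  -- N has no element of order p
  have hΩN : ∀ n ∈ N, n ^ p = 1 → n = 1 := by
    obtain ⟨H, hH⟩ := hsub N hN'
    have hHn : (H.map N.subtype).Normal := by
      constructor
      rintro _ ⟨n, hn, rfl⟩ g
      refine ⟨⟨g * n * g⁻¹, hNn.conj_mem _ n.2 g⟩, ?_, rfl⟩
      rw [SetLike.mem_coe, ← SetLike.mem_coe, hH]
      have hn' : n ^ p = 1 := by
        have : n ∈ (H : Set ↥N) := hn
        rw [hH] at this
        exact this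
      apply Subtype.ext
      have h1 : ((n : G)) ^ p = 1 := by
        have := congrArg Subtype.val hn'
        simpa using this
      simp only [Subgroup.coe_pow, Subgroup.coe_one]
      rw [conj_pow, h1, mul_one, mul_inv_cancel]
    have hHb : H.map N.subtype = ⊥ := by
      by_contra hHb
      haveI := hHn
      apply hnp
      intro g
      refine ⟨2, ?_⟩
      have h1 := hQ _ hHb g
      obtain ⟨n, hn, hng⟩ := h1
      have hn' : n ^ p = 1 := by
        have : n ∈ (H : Set ↥N) := hn
        rw [hH] at this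
        exact this
      have h2 : ((n : G)) ^ p = 1 := by
        have := congrArg Subtype.val hn'
        simpa using this
      rw [pow_two, pow_mul]
      have h3 : (n : G) = g ^ p := hng
      rw [← h3, h2]
    intro n hn hnp'
    have h1 : (n : G) ∈ H.map N.subtype := by
      refine ⟨⟨n, hn⟩, ?_, rfl⟩
      rw [SetLike.mem_coe, ← SetLike.mem_coe, hH]
      exact Subtype.ext (by simpa using hnp')
    rw [hHb, Subgroup.mem_bot] at h1
    exact h1
  -- (E): p-elements have order dividing p
  have hE : ∀ s : G, (∃ k : ℕ, s ^ p ^ k = 1) → s ^ p = 1 := by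
    rintro s ⟨k, hk⟩
    have ht : s ^ p ∈ N := hQ N hN s
    have hord : orderOf (s ^ p) ∣ p ^ k := by
      apply orderOf_dvd_of_pow_eq_one
      rw [← pow_mul, mul_comm, pow_mul, hk, one_pow]
    obtain ⟨j, -, hj⟩ := (Nat.dvd_prime_pow hpp).mp hord
    rcases Nat.eq_zero_or_pos j with hj0 | hjpos
    · rw [hj0, pow_zero, orderOf_eq_one_iff] at hj
      exact hj
    · exfalso
      have h1 : ((s ^ p) ^ p ^ (j - 1)) ^ p = 1 := by
        rw [← pow_mul, ← pow_succ, Nat.sub_add_cancel hjpos, ← hj, pow_orderOf_eq_one]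
      have h2 := hΩN _ (N.pow_mem ht _) h1
      have h3 : orderOf (s ^ p) ∣ p ^ (j - 1) := orderOf_dvd_of_pow_eq_one h2
      rw [hj] at h3
      have h4 := Nat.pow_dvd_pow_iff_le_right hpp.one_lt |>.mp h3
      omega
  -- p-closed for proper subgroups
  have hsub' : ∀ H : Subgroup G, H ≠ ⊤ → Cfsg.IsPClosed p ↥H := by
    intro M hM S
    obtain ⟨H, hH⟩ := hsub M hM
    have hHmem : ∀ g : ↥M, g ∈ H ↔ g ^ p = 1 := by
      intro g
      rw [← SetLike.mem_coe, hH]
      rfl
    have hHp : IsPGroup p ↥H := by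
      intro h
      refine ⟨1, ?_⟩
      rw [pow_one]
      apply Subtype.ext
      exact (hHmem h).mp h.2
    have hSH : (S : Subgroup ↥M) ≤ H := by
      intro s hs
      rw [hHmem]
      obtain ⟨k, hk⟩ := S.isPGroup' ⟨s, hs⟩
      have hk' : s ^ p ^ k = 1 := by
        have := congrArg Subtype.val hk
        simpa using this
      have hk'' : (s : G) ^ p ^ k = 1 := by
        have := congrArg Subtype.val hk'
        simpa using this
      apply Subtype.ext
      simpa using hE (s : G) ⟨k, hk''⟩
    have hHS : H = (S : Subgroup ↥M) := S.is_maximal' hHp hSH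
    rw [← hHS]
    constructor
    intro n hn g
    rw [hHmem] at hn ⊢
    rw [conj_pow, hn, mul_one, mul_inv_cancel]
  -- p-closed for proper quotients
  have hquo' : ∀ (N : Subgroup G) [N.Normal], N ≠ ⊥ → Cfsg.IsPClosed p (G ⧸ N) := by
    intro N' _ hN'b S
    have hp' : IsPGroup p ↥(⊤ : Subgroup (G ⧸ N')) := by
      intro u
      refine ⟨1, ?_⟩
      rw [pow_one]
      apply Subtype.ext
      obtain ⟨u, -⟩ := u
      induction u using QuotientGroup.induction_on with
      | _ g =>
        show (g : G ⧸ N') ^ p = 1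
        rw [← QuotientGroup.mk_pow, QuotientGroup.eq_one_iff]
        exact hQ N' hN'b g
    have h1 : (⊤ : Subgroup (G ⧸ N')) = (S : Subgroup (G ⧸ N')) := S.is_maximal' hp' le_top
    rw [← h1]
    infer_instance
  -- not p-closed
  have hnc' : ¬ Cfsg.IsPClosed p G := by
    intro hc
    let S : Sylow p G := default
    have hS : (S : Subgroup G).Normal := hc S
    haveI := Sylow.unique_of_normal S hS
    have hmem : ∀ z : G, z ^ p = 1 → z ∈ (S : Subgroup G) := by
      intro z hz
      have hzp : IsPGroup p ↥(Subgroup.zpowers z) := by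
        have h1 : orderOf z ∣ p := orderOf_dvd_of_pow_eq_one hz
        rcases (Nat.dvd_prime hpp).mp h1 with h2 | h2
        · exact IsPGroup.of_card (n := 0) (by rw [Nat.card_zpowers, h2, pow_zero])
        · exact IsPGroup.of_card (n := 1) (by rw [Nat.card_zpowers, h2, pow_one])
      obtain ⟨Q, hQ'⟩ := hzp.exists_le_sylow
      have hQS : Q = S := Subsingleton.elim Q S
      rw [← hQS]
      exact hQ' (Subgroup.mem_zpowers z)
    have hxyS : x * y ∈ (S : Subgroup G) := (S : Subgroup G).mul_mem (hmem x hx) (hmem y hy)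
    obtain ⟨k, hk⟩ := S.isPGroup' ⟨x * y, hxyS⟩
    have hk' : (x * y) ^ p ^ k = 1 := by
      have := congrArg Subtype.val hk
      simpa using this
    exact hxy (hE _ ⟨k, hk'⟩)
  exact Cfsg.Agent.S3868.result hnc' hsub' hquo' hns

end Cfsg.Agent.S3873
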