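import Cfsg.Statements.S3889
import Mathlib
-- import your own Cfsg.Agent.* helpers here

set_option autoImplicit false
open Cfsg

namespace Cfsg.Agent.S3889

theorem key {G : Type*} [CommGroup G] [Finite G] (𝓑 : Set (Subgroup G))
    (hcov : ∀ g : G, ∃ B ∈ 𝓑, g ∈ B) (hdisj : ∀ B ∈ 𝓑, ∀ C ∈ 𝓑, B ≠ C → B ⊓ C = ⊥)
    (B : Subgroup G) (hB : B ∈ 𝓑) (x y : G) (hx : x ∈ B) (hx1 : x ≠ 1) (hy : y ∉ B) :
    orderOf y ∣ orderOf x := by
  obtain ⟨C, hC, hxyC⟩ := hcov (x * y)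
  obtain ⟨D, hD, hyD⟩ := hcov y
  apply orderOf_dvd_of_pow_eq_one
  by_contra hne
  have h1 : (x * y) ^ orderOf x = y ^ orderOf x := by
    rw [mul_pow, pow_orderOf_eq_one, one_mul]
  have h2 : y ^ orderOf x ∈ C ⊓ D := by
    refine ⟨?_, D.pow_mem hyD _⟩
    rw [← h1]
    exact C.pow_mem hxyC _
  have hCD : C = D := by
    by_contra hCD
    rw [hdisj C hC D hD hCD, Subgroup.mem_bot] at h2
    exact hne h2
  subst hCD
  have hxC : x ∈ C := by
    have := C.mul_mem hxyC (C.inv_mem hyD)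
    simpa using this
  have hBC : B ≠ C := by
    rintro rfl
    exact hy hyD
  have : x ∈ B ⊓ C := ⟨hx, hxC⟩
  rw [hdisj B hB C hC hBC, Subgroup.mem_bot] at this
  exact hx1 this

theorem key2 {G : Type*} [CommGroup G] [Finite G] (𝓑 : Set (Subgroup G))
    (hcov : ∀ g : G, ∃ B ∈ 𝓑, g ∈ B) (hdisj : ∀ B ∈ 𝓑, ∀ C ∈ 𝓑, B ≠ C → B ⊓ C = ⊥)
    (B : Subgroup G) (hB : B ∈ 𝓑) (x y : G) (hx : x ∈ B) (hx1 : x ≠ 1) (hy : y ∉ B) :
    orderOf y = orderOf x := by
  apply Nat.dvd_antisymm (key 𝓑 hcov hdisj B hB x y hx hx1 hy)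
  obtain ⟨D, hD, hyD⟩ := hcov y
  have hBD : B ≠ D := by
    rintro rfl
    exact hy hyD
  have hy1 : y ≠ 1 := by
    rintro rfl
    exact hy B.one_mem
  have hxD : x ∉ D := by
    intro hxD
    have : x ∈ B ⊓ D := ⟨hx, hxD⟩
    rw [hdisj B hB D hD hBD, Subgroup.mem_bot] at this
    exact hx1 this
  exact key 𝓑 hcov hdisj D hD y x hyD hy1 hxD

/-- A finite abelian group that is the union of a family of proper subgroups any two of which intersect trivially is elementary abelian: its exponent is a prime. -/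
theorem result {G : Type*} [CommGroup G] [Finite G] (𝓑 : Set (Subgroup G)) (hprop : ∀ B ∈ 𝓑, B ≠ ⊤)
    (hcov : ∀ g : G, ∃ B ∈ 𝓑, g ∈ B) (hdisj : ∀ B ∈ 𝓑, ∀ C ∈ 𝓑, B ≠ C → B ⊓ C = ⊥) :
    (Monoid.exponent G).Prime := by
  have hout : ∀ B ∈ 𝓑, ∃ w : G, w ∉ B := by
    intro B hB
    by_contra h
    push Not at h
    exact hprop B hB (by rw [Subgroup.eq_top_iff']; exact h)
  have hsame : ∀ u v : G, u ≠ 1 → v ≠ 1 → orderOf u = orderOf v := by
    intro u v hu hv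
    obtain ⟨B, hB, huB⟩ := hcov u
    by_cases hvB : v ∈ B
    · obtain ⟨w, hw⟩ := hout B hB
      rw [← key2 𝓑 hcov hdisj B hB u w huB hu hw, ← key2 𝓑 hcov hdisj B hB v w hvB hv hw]
    · exact (key2 𝓑 hcov hdisj B hB u v huB hu hvB).symm
  obtain ⟨B0, hB0, -⟩ := hcov 1
  obtain ⟨w, hw⟩ := hout B0 hB0
  have hw1 : w ≠ 1 := by
    rintro rfl
    exact hw B0.one_mem
  have he1 : orderOf w ≠ 1 := by
    rw [Ne, orderOf_eq_one_iff]
    exact hw1
  have hepos : 0 < orderOf w := orderOf_pos w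
  have hexp : Monoid.exponent G = orderOf w := by
    apply Nat.dvd_antisymm
    · apply Monoid.exponent_dvd_of_forall_pow_eq_one
      intro g
      by_cases hg : g = 1
      · rw [hg, one_pow]
      · rw [← hsame g w hg hw1, pow_orderOf_eq_one]
    · exact Monoid.order_dvd_exponent w
  rw [hexp]
  obtain ⟨p, hp, hpd⟩ := Nat.exists_prime_and_dvd he1
  obtain ⟨k, hk⟩ := hpd
  have hkpos : 0 < k := by
    rcases Nat.eq_zero_or_pos k with h | h
    · rw [h, mul_zero] at hk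
      omega
    · exact h
  have hord : orderOf (w ^ k) = p := by
    rw [orderOf_pow' w hkpos.ne', hk, Nat.gcd_eq_right (Dvd.intro_left p rfl), Nat.mul_div_cancel _ hkpos]
  have hwk1 : w ^ k ≠ 1 := by
    intro h
    rw [← orderOf_eq_one_iff, hord] at h
    exact hp.one_lt.ne' h
  rw [← hsame (w ^ k) w hwk1 hw1, hord]
  exact hp

end Cfsg.Agent.S3889
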