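import Cfsg.Statements.S3894
import Cfsg.Agent.Lib.Helper69.PGLCoverC
import Cfsg.Agent.Lib.Helper69.PGLCoverH

set_option autoImplicit false
open Cfsg

namespace Cfsg.Agent.S3894

/-- A cover of a group is a finite set of proper subgroups whose union is the whole group; it is minimal when no cover has fewer members, and nilpotent when all its members are nilpotent. Let F be a finite field with q elements and n ≥ 3, or n = 2 and q ≥ 4. Then no subgroup of PGL_n(F) = GL_n(F)/Z(GL_n(F)) containing the image of SL_n(F) has a nilpotent minimal cover. -/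
theorem result {F : Type*} [Field F] [Fintype F] (n : ℕ) (hn : 3 ≤ n ∨ (n = 2 ∧ 4 ≤ Fintype.card F))
    (G : Subgroup (GL (Fin n) F ⧸ Subgroup.center (GL (Fin n) F)))
    (hG : ((Matrix.SpecialLinearGroup.toGL : Matrix.SpecialLinearGroup (Fin n) F →* GL (Fin n) F).range).map
      (QuotientGroup.mk' (Subgroup.center (GL (Fin n) F))) ≤ G) :
    ¬ ∃ 𝓐 : Finset (Subgroup ↥G), ((∀ A ∈ 𝓐, A ≠ ⊤) ∧ (∀ g : ↥G, ∃ A ∈ 𝓐, g ∈ A)) ∧ (∀ 𝓑 : Finset (Subgroup ↥G), (∀ A ∈ 𝓑, A ≠ ⊤) ∧ (∀ g : ↥G, ∃ A ∈ 𝓑, g ∈ A) → 𝓐.card ≤ 𝓑.card) ∧ (∀ A ∈ 𝓐, Group.IsNilpotent ↥A) := by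
  rintro ⟨𝓐, h𝓐⟩
  have h𝓐' : Cfsg.Agent.Lib.Helper69.IsNilMinCover 𝓐 := h𝓐
  rcases hn with hn | ⟨rfl, hF⟩
  · exact Cfsg.Agent.Lib.Helper69.PGLC.partI n hn G hG 𝓐 h𝓐'
  · by_cases hle : G ≤ ((Matrix.SpecialLinearGroup.toGL :
        Matrix.SpecialLinearGroup (Fin 2) F →* GL (Fin 2) F).range).map
        (QuotientGroup.mk' (Subgroup.center (GL (Fin 2) F)))
    · have hmem : ∀ s : Matrix.SpecialLinearGroup (Fin 2) F,
          ((QuotientGroup.mk' (Subgroup.center (GL (Fin 2) F))).comp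
            (Matrix.SpecialLinearGroup.toGL :
              Matrix.SpecialLinearGroup (Fin 2) F →* GL (Fin 2) F)) s ∈ G :=
        fun s => hG (Subgroup.mem_map_of_mem _ ⟨s, rfl⟩)
      refine Cfsg.Agent.Lib.Helper69.PGLC.partIII hF
        (((QuotientGroup.mk' (Subgroup.center (GL (Fin 2) F))).comp
          (Matrix.SpecialLinearGroup.toGL :
            Matrix.SpecialLinearGroup (Fin 2) F →* GL (Fin 2) F)).codRestrict G hmem)
        ?_ ?_ 𝓐 h𝓐'
      · intro y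
        obtain ⟨g, ⟨s, rfl⟩, hg⟩ := hle y.2
        exact ⟨s, Subtype.ext hg⟩
      · intro s hs
        have h1 : ((Matrix.SpecialLinearGroup.toGL s : GL (Fin 2) F) :
            GL (Fin 2) F ⧸ Subgroup.center (GL (Fin 2) F)) = 1 := congrArg Subtype.val hs
        have h2 : (Matrix.SpecialLinearGroup.toGL s : GL (Fin 2) F) ∈
            Subgroup.center (GL (Fin 2) F) := (QuotientGroup.eq_one_iff _).mp h1
        exact Cfsg.Agent.Lib.Helper69.PGLC.center_scalar h2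
    · exact Cfsg.Agent.Lib.Helper69.PGLC.partII G hG hle 𝓐 h𝓐'

end Cfsg.Agent.S3894
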