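import Cfsg.Statements.S3904
-- import your own Cfsg.Agent.* helpers here
import Cfsg.Agent.Lib.Helper69.MaxCentD

set_option autoImplicit false
open Cfsg

namespace Cfsg.Agent.S3904

open Cfsg.Agent.Lib.Helper69.MaxCent

/-- Let G be a non-abelian finite group in which the centralizer of every non-central element is a maximal subgroup. Then G/Z(G) is either an elementary abelian p-group for some prime p, or a minimal non-abelian group (non-abelian with all proper subgroups abelian) of order p^a · q for distinct primes p, q with a normal Sylow p-subgroup. -/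
theorem result {G : Type*} [Group G] [Finite G] (hna : ¬ IsMulCommutative G)
    (h : ∀ x : G, x ∉ Subgroup.center G → IsCoatom (Subgroup.centralizer ({x} : Set G))) :
    (∃ p : ℕ, p.Prime ∧ Cfsg.IsElementaryAbelian p (⊤ : Subgroup (G ⧸ Subgroup.center G))) ∨
    (¬ IsMulCommutative (G ⧸ Subgroup.center G) ∧ (∀ H : Subgroup (G ⧸ Subgroup.center G), H ≠ ⊤ → IsMulCommutative ↥H) ∧
      ∃ p q a : ℕ, p.Prime ∧ q.Prime ∧ p ≠ q ∧ Nat.card (G ⧸ Subgroup.center G) = p ^ a * q ∧
        ∀ P : Subgroup (G ⧸ Subgroup.center G), Nat.card ↥P = p ^ a → P.Normal) := by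
  have hMC : MC G := h
  have hex : ∃ x : G, x ∉ Subgroup.center G := by
    by_contra hcon
    push Not at hcon
    apply hna
    refine ⟨⟨fun a b => ?_⟩⟩
    exact (Subgroup.mem_center_iff.mp (hcon b) a)
  by_cases hA : ∀ x : G, x ∉ Subgroup.center G → (Cn x).Normal
  · exact Or.inl (caseA hMC hex hA)
  · by_cases hab : ∃ u : G, u ∉ Subgroup.center G ∧ ¬ (Cn u).Normal ∧
        ∀ a ∈ Cn u, ∀ b ∈ Cn u, a * b = b * a
    · obtain ⟨u, hu, hn, hab⟩ := hab
      exact Or.inr (caseB1 hMC hu hn hab)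
    · exfalso
      push Not at hA
      obtain ⟨x₀, hx₀, hn₀⟩ := hA
      have hnab₀ : ¬ ∀ a ∈ Cn x₀, ∀ b ∈ Cn x₀, a * b = b * a :=
        fun hc => hab ⟨x₀, hx₀, hn₀, hc⟩
      have hbad : Bad G := by
        intro u hu
        have hnu : ¬ (Cn u).Normal := fun hN => no_normal hMC hx₀ hn₀ hnab₀ hu hN
        exact ⟨hnu, fun hc => hab ⟨u, hu, hnu, hc⟩⟩
      exact bad_false hMC hbad hex

end Cfsg.Agent.S3904
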