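import Cfsg.Statements.S3919
import Cfsg.Agent.Lib.Helper3.MaxClass
import Cfsg.Agent.Lib.Helper61.QuatQuot
import Cfsg.Agent.S3224
import Cfsg.Agent.Lib.Helper31.Basic

set_option autoImplicit false
open Cfsg

namespace Cfsg.Agent.S3919

open Subgroup
open scoped commutatorElement
open Cfsg.Agent.Lib.Helper3 Cfsg.Agent.Lib.Helper61

universe u

theorem zp_comm {G : Type*} [Group G] (h : G) :
    ∀ a ∈ zpowers h, ∀ b ∈ zpowers h, a * b = b * a := by
  intro a ha b hb
  obtain ⟨i, rfl⟩ := mem_zpowers_iff.mp ha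
  obtain ⟨j, rfl⟩ := mem_zpowers_iff.mp hb
  rw [← zpow_add, ← zpow_add, add_comm]

/-- a cyclic group has at most one involution -/
theorem cyc_inv_unique {C : Type*} [Group C] [Finite C] [IsCyclic C] (x y : C)
    (hx : orderOf x = 2) (hy : orderOf y = 2) : x = y := by
  classical
  have := Fintype.ofFinite C
  by_contra hne
  have h := IsCyclic.card_pow_eq_one_le (α := C) (n := 2) (by norm_num)
  have hx1 : x ≠ 1 := by
    rintro rfl
    rw [orderOf_one] at hx; omega
  have hy1 : y ≠ 1 := by
    rintro rfl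
    rw [orderOf_one] at hy; omega
  have hsub : ({1, x, y} : Finset C) ⊆ Finset.univ.filter (fun a : C => a ^ 2 = 1) := by
    intro a ha
    simp only [Finset.mem_insert, Finset.mem_singleton] at ha
    simp only [Finset.mem_filter, Finset.mem_univ, true_and]
    rcases ha with rfl | rfl | rfl
    · simp
    · rw [← hx]; exact pow_orderOf_eq_one _
    · rw [← hy]; exact pow_orderOf_eq_one _
  have hc : ({1, x, y} : Finset C).card = 3 := by
    rw [Finset.card_insert_of_notMem, Finset.card_insert_of_notMem, Finset.card_singleton]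
    · simpa using hne
    · simp only [Finset.mem_insert, Finset.mem_singleton, not_or]
      exact ⟨fun h1 => hx1 h1.symm, fun h1 => hy1 h1.symm⟩
  have := Finset.card_le_card hsub
  omega

/-- index of the commutator subgroup from a cyclic maximal subgroup and a centre of order two -/
theorem idx4 {G : Type*} [Group G] [Finite G] (n : ℕ) (hG : Nat.card G = 2 ^ (n + 3))
    (hnc : ¬ ∀ a b : G, a * b = b * a) (h : G) (hH2 : (zpowers h).index = 2)
    (hZ : Nat.card (center G) = 2) : (commutator G).index = 4 := by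
  have hHc := zp_comm h
  have hHn : (zpowers h).Normal := normal_of_index_eq_two hH2
  obtain ⟨t, ht⟩ : ∃ t : G, t ∉ zpowers h := by
    by_contra hall
    push Not at hall
    have : zpowers h = ⊤ := eq_top_iff.mpr (fun x _ => hall x)
    rw [this, index_top] at hH2
    omega
  have hZH := center_le_of_index2 (zpowers h) hHc hH2 hnc
  have hReq : (phi (zpowers h) hHc hHn t).range = commutator G :=
    le_antisymm (phi_range_le_commutator _ hHc hHn t)
      (commutator_le_phi_range _ hHc hHn hH2 t ht)
  have hcH : Nat.card (zpowers h) = 2 ^ (n + 2) := by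
    have h1 := (zpowers h).card_mul_index
    rw [hH2, hG, pow_succ] at h1
    exact Nat.eq_of_mul_eq_mul_right (by norm_num) h1
  have hZeq : (phi (zpowers h) hHc hHn t).ker.map (zpowers h).subtype = center G := by
    apply le_antisymm
    · rintro _ ⟨u, hu, rfl⟩
      have h1 : ⁅(u : G), t⁆ = 1 := MonoidHom.mem_ker.mp hu
      exact mem_center_of_index2 _ hHc hH2 t ht u u.2
        (commutatorElement_eq_one_iff_commute.mp h1).eq
    · intro c hc
      refine ⟨⟨c, hZH hc⟩, ?_, rfl⟩
      rw [SetLike.mem_coe, MonoidHom.mem_ker, phi_apply]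
      exact commutatorElement_eq_one_iff_commute.mpr (Subgroup.mem_center_iff.mp hc t).symm
  have hker : Nat.card (phi (zpowers h) hHc hHn t).ker = 2 := by
    rw [← hZ, ← hZeq, card_map_of_injective (subtype_injective _)]
  have h1 := (phi (zpowers h) hHc hHn t).ker.card_mul_index
  rw [index_ker, hReq, hker, hcH] at h1
  have h3 : Nat.card (commutator G) = 2 ^ (n + 1) := by
    rw [pow_succ, mul_comm] at h1
    exact Nat.eq_of_mul_eq_mul_right (by norm_num) h1
  have h2 := (commutator G).card_mul_index
  rw [hG, h3] at h2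
  have h4 : 2 ^ (n + 3) = 2 ^ (n + 1) * 4 := by ring
  rw [h4] at h2
  exact Nat.eq_of_mul_eq_mul_left (by positivity) h2

/-- the structural data: a cyclic subgroup of index two and a centre of order two -/
theorem struct_of_hyp {G : Type u} [Group G] [Finite G] (hna : ¬ IsMulCommutative G) (n : ℕ)
    (hG : Nat.card G = 2 ^ (n + 3))
    (hyp : ∀ H : Subgroup G, ¬ IsCyclic ↥H → Subgroup.centralizer (H : Set G) ≤ H) :
    ∃ a : G, (zpowers a).index = 2 ∧ Nat.card (center G) = 2 := by
  have : Fact (Nat.Prime 2) := ⟨Nat.prime_two⟩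
  have hP : IsPGroup 2 G := IsPGroup.of_card hG
  have hnc : ¬ ∀ a b : G, a * b = b * a := fun h => hna ⟨⟨h⟩⟩
  have hidx : ∀ a : G, 2 * orderOf a = Nat.card G → (zpowers a).index = 2 := by
    intro a ha
    have h1 := (zpowers a).card_mul_index
    rw [Nat.card_zpowers, ← ha, mul_comm] at h1
    exact Nat.eq_of_mul_eq_mul_right (orderOf_pos a) h1
  have htop : (⊤ : Subgroup G) ≠ ⊥ := by
    intro h
    apply hnc
    intro a b
    have ha : a ∈ (⊥ : Subgroup G) := h ▸ mem_top a
    have hb : b ∈ (⊥ : Subgroup G) := h ▸ mem_top b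
    rw [mem_bot] at ha hb
    rw [ha, hb]
  obtain ⟨z, -, hzc, hzo⟩ := exists_central_order_p hP (⊤ : Subgroup G) htop
  by_cases huniq : ∃! x : G, orderOf x = 2
  · -- generalized quaternion
    obtain ⟨k, hk, ⟨e⟩⟩ := quat_of_unique_involution hP hna huniq
    have hk0 : NeZero (2 ^ k) := ⟨by positivity⟩
    have hcardQ : Nat.card G = 4 * 2 ^ k := by
      rw [Nat.card_congr e.toEquiv, Nat.card_eq_fintype_card, QuaternionGroup.card]
    obtain ⟨a, ha⟩ : ∃ a : G, a = e.symm (QuaternionGroup.a 1) := ⟨_, rfl⟩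
    obtain ⟨t, ht⟩ : ∃ t : G, t = e.symm (QuaternionGroup.xa 0) := ⟨_, rfl⟩
    have hoa : orderOf a = 2 * 2 ^ k := by
      rw [ha, MulEquiv.orderOf_eq, QuaternionGroup.orderOf_a_one]
    have hA2 : (zpowers a).index = 2 := hidx a (by rw [hoa, hcardQ]; ring)
    refine ⟨a, hA2, ?_⟩
    have hrel : t * a * t⁻¹ = a⁻¹ := by
      have h1 : t * a * t⁻¹ * a = 1 := by
        rw [ha, ht, ← map_inv, ← map_mul, ← map_mul, ← map_mul, quat_rel, map_one]
      exact eq_inv_of_mul_eq_one_left h1
    have hZA := center_le_of_index2 (zpowers a) (zp_comm a) hA2 hnc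
    obtain ⟨u, hu2, huu⟩ := huniq
    have hu2' : orderOf u = 2 := hu2
    have huu' : ∀ y : G, orderOf y = 2 → y = u := huu
    have hzu : z = u := huu' z hzo
    have hle : center G ≤ zpowers u := by
      intro c hc
      obtain ⟨i, rfl⟩ := mem_zpowers_iff.mp (hZA hc)
      have h1 : t * a ^ i * t⁻¹ = (a ^ i)⁻¹ := by
        rw [← conj_zpow, hrel, inv_zpow]
      have h2 : t * a ^ i * t⁻¹ = a ^ i := by
        rw [mem_center_iff.mp hc t, mul_inv_cancel_right]
      have h3 : a ^ i * a ^ i = 1 := by
        nth_rewrite 1 [← h2]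
        rw [h1, inv_mul_cancel]
      by_cases h4 : a ^ i = 1
      · rw [h4]; exact one_mem _
      · have h5 : orderOf (a ^ i) = 2 := orderOf_eq_prime (by rw [pow_two]; exact h3) h4
        rw [huu' _ h5]
        exact mem_zpowers u
    apply le_antisymm
    · have := Subgroup.card_le_of_le hle
      rwa [Nat.card_zpowers, hu2'] at this
    · have := Subgroup.card_le_of_le (zpowers_le.mpr hzc)
      rwa [Nat.card_zpowers, hzo] at this
  · -- an involution with centralizer of order four
    obtain ⟨u, hu2, huz⟩ : ∃ u : G, orderOf u = 2 ∧ u ≠ z := by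
      by_contra hno
      push Not at hno
      exact huniq ⟨z, hzo, fun y hy => hno y hy⟩
    have hzn : (zpowers z).Normal := by
      constructor
      intro a ha g
      have hac : a ∈ center G := (zpowers_le.mpr hzc) ha
      rw [mem_center_iff.mp hac g, mul_inv_cancel_right]
      exact ha
    have hHnc : ¬ IsCyclic ↥(zpowers u ⊔ zpowers z) := by
      intro hcyc
      have hu' : u ∈ zpowers u ⊔ zpowers z := le_sup_left (a := zpowers u) (mem_zpowers u)
      have hz' : z ∈ zpowers u ⊔ zpowers z := le_sup_right (a := zpowers u) (mem_zpowers z)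
      have h1 := cyc_inv_unique (⟨u, hu'⟩ : ↥(zpowers u ⊔ zpowers z)) ⟨z, hz'⟩
        (by rw [Subgroup.orderOf_mk]; exact hu2) (by rw [Subgroup.orderOf_mk]; exact hzo)
      exact huz (congrArg Subtype.val h1)
    have hCH : centralizer ({u} : Set G) ≤ zpowers u ⊔ zpowers z := by
      refine le_trans ?_ (hyp _ hHnc)
      rw [le_centralizer_iff]
      apply sup_le
      · rw [zpowers_le, mem_centralizer_iff]
        intro c hc
        rw [SetLike.mem_coe, mem_centralizer_iff] at hc
        exact (hc u rfl).symm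
      · rw [zpowers_le]
        exact center_le_centralizer _ hzc
    have hcardH : Nat.card ↥(zpowers u ⊔ zpowers z) ∣ 4 := by
      have := Cfsg.Agent.Lib.Helper31.card_sup_dvd (zpowers u) (zpowers z)
      rwa [Nat.card_zpowers, Nat.card_zpowers, hu2, hzo] at this
    have hC4 : Nat.card (centralizer ({u} : Set G)) = 4 := by
      have h1 : Nat.card (centralizer ({u} : Set G)) ≤ 4 :=
        le_trans (Subgroup.card_le_of_le hCH) (Nat.le_of_dvd (by norm_num) hcardH)
      have huC : u ∈ centralizer ({u} : Set G) := by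
        rw [mem_centralizer_iff]
        intro c hc
        rw [Set.mem_singleton_iff] at hc
        rw [hc]
      have hzC : z ∈ centralizer ({u} : Set G) := center_le_centralizer _ hzc
      obtain ⟨j, hj⟩ := (IsPGroup.iff_card (p := 2)).mp (hP.to_subgroup (centralizer ({u} : Set G)))
      have hj2 : j ≤ 2 := by
        by_contra hj3
        have : 2 ^ 3 ≤ 2 ^ j := Nat.pow_le_pow_right (by norm_num) (by omega)
        omega
      have hj1 : ¬ j ≤ 1 := by
        intro hj1
        have hle2 : Nat.card (centralizer ({u} : Set G)) ≤ 2 := by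
          rw [hj]
          calc 2 ^ j ≤ 2 ^ 1 := Nat.pow_le_pow_right (by norm_num) hj1
            _ = 2 := by norm_num
        have e1 : zpowers u = centralizer ({u} : Set G) :=
          Subgroup.eq_of_le_of_card_ge (zpowers_le.mpr huC)
            (by rw [Nat.card_zpowers, hu2]; exact hle2)
        have hz' : z ∈ zpowers u := e1 ▸ hzC
        have h1 := cyc_inv_unique (⟨u, mem_zpowers u⟩ : ↥(zpowers u)) ⟨z, hz'⟩
          (by rw [Subgroup.orderOf_mk]; exact hu2) (by rw [Subgroup.orderOf_mk]; exact hzo)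
        exact huz (congrArg Subtype.val h1)
      have : j = 2 := by omega
      rw [hj, this]; norm_num
    obtain ⟨a, ha⟩ := Cfsg.Agent.S3224.exists_cyclic_index_two (Nat.card G) G rfl hP u hu2 hC4
    have h4 : Nat.card G ≠ 4 := by
      rw [hG]
      have : 2 ^ 3 ≤ 2 ^ (n + 3) := Nat.pow_le_pow_right (by norm_num) (by omega)
      omega
    exact ⟨a, hidx a ha, (Cfsg.Agent.S3224.center_facts hP u hC4 h4).2⟩

theorem forward {G : Type u} [Group G] [Finite G] (hna : ¬ IsMulCommutative G) (n : ℕ)
    (hG : Nat.card G = 2 ^ (n + 3))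
    (hyp : ∀ H : Subgroup G, ¬ IsCyclic ↥H → Subgroup.centralizer (H : Set G) ≤ H) :
    (⊤ : Subgroup G).lowerCentralSeries (n + 1) ≠ ⊥ := by
  have hP : IsPGroup 2 G := IsPGroup.of_card hG
  have hnil : Group.IsNilpotent G := hP.isNilpotent
  have hnc : ¬ ∀ a b : G, a * b = b * a := fun h => hna ⟨⟨h⟩⟩
  obtain ⟨a, hA2, hZ⟩ := struct_of_hyp hna n hG hyp
  have hidx := idx4 n hG hnc a hA2 hZ
  have hcl := class_eq (n + 3) (by omega) G hG hidx
  intro hbot
  have := Subgroup.lowerCentralSeries_eq_bot_iff_nilpotencyClass_le.mp hbot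
  omega

theorem backward {G : Type u} [Group G] [Finite G] (hna : ¬ IsMulCommutative G) (n : ℕ)
    (hG : Nat.card G = 2 ^ (n + 3))
    (hyp : (⊤ : Subgroup G).lowerCentralSeries (n + 1) ≠ ⊥) :
    ∀ H : Subgroup G, ¬ IsCyclic ↥H → Subgroup.centralizer (H : Set G) ≤ H := by
  have : Fact (Nat.Prime 2) := ⟨Nat.prime_two⟩
  have hP : IsPGroup 2 G := IsPGroup.of_card hG
  have hnil : Group.IsNilpotent G := hP.isNilpotent
  have hnc : ¬ ∀ a b : G, a * b = b * a := fun h => hna ⟨⟨h⟩⟩
  -- the class is `n + 2`
  have hc1 : n + 2 ≤ Group.nilpotencyClass G := by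
    by_contra hlt
    exact hyp (Subgroup.lowerCentralSeries_eq_bot_iff_nilpotencyClass_le.mpr (by omega))
  have hc2 : Group.nilpotencyClass G ≤ n + 2 := by
    obtain ⟨c, hc⟩ : ∃ c, Group.nilpotencyClass G = c + 1 := ⟨Group.nilpotencyClass G - 1, by omega⟩
    have h1 := card_lcs_ge (X := G) c (by omega)
    have h2 : Group.nilpotencyClass G - c = 1 := by omega
    rw [h2] at h1
    have h3 : Subgroup.lowerCentralSeries (⊤ : Subgroup G) 1 = commutator G := rfl
    rw [h3] at h1
    have h4 := (commutator G).card_mul_index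
    rw [hG] at h4
    have hdvd : (commutator G).index ∣ 2 ^ (n + 3) := Dvd.intro_left _ h4
    obtain ⟨i, hin, hi⟩ := (Nat.dvd_prime_pow Nat.prime_two).mp hdvd
    have hcardQ : Nat.card (G ⧸ commutator G) = 2 ^ i := by
      rw [← Subgroup.index_eq_card, hi]
    have hi2 : 2 ≤ i := by
      by_contra hi1
      apply hnc
      have hi' : i = 0 ∨ i = 1 := by omega
      rcases hi' with rfl | rfl
      · have : Subsingleton (G ⧸ commutator G) := by
          rw [← Finite.card_le_one_iff_subsingleton, hcardQ]; norm_num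
        exact comm_of_cyclic_abelianization hP isCyclic_of_subsingleton
      · exact comm_of_cyclic_abelianization hP
          (isCyclic_of_prime_card (p := 2) (by rw [hcardQ]; norm_num))
    have h5 : 2 ^ c * 2 ^ 2 ≤ 2 ^ (n + 3) := by
      rw [← h4, hi]
      exact Nat.mul_le_mul h1 (Nat.pow_le_pow_right (by norm_num) hi2)
    rw [← pow_add] at h5
    have := (Nat.pow_le_pow_iff_right (by norm_num : 1 < 2)).mp h5
    omega
  have hidx : (commutator G).index = 4 :=
    index_commutator_of_class (n + 3) (by omega) hG (by omega)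
  obtain ⟨h, hH2⟩ := theoremT (n + 3) (by omega) G hG hidx
  obtain ⟨hZcard, hZA, -⟩ := center_data n hG hidx h hH2
  have hHc := zp_comm h
  have hHn : (zpowers h).Normal := normal_of_index_eq_two hH2
  intro H hH
  -- an element of `H` outside the cyclic maximal subgroup
  obtain ⟨x, hxH, hxA⟩ : ∃ x ∈ H, x ∉ zpowers h := by
    by_contra hno
    push Not at hno
    have hle : H ≤ zpowers h := fun y hy => hno y hy
    exact hH (isCyclic_of_injective (Subgroup.inclusion hle) (Subgroup.inclusion_injective hle))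
  -- a nontrivial element of `H` inside it
  obtain ⟨y, hyH, hyA, hy1⟩ : ∃ y ∈ H, y ∈ zpowers h ∧ y ≠ 1 := by
    by_contra hno
    push Not at hno
    have hle : H ≤ zpowers x := by
      intro y hy
      rcases cases_index2 (zpowers h) hH2 x hxA y with hyA | hyA
      · rw [hno y hy hyA]; exact one_mem _
      · have := hno (y * x⁻¹) (H.mul_mem hy (H.inv_mem hxH)) hyA
        rw [mul_inv_eq_one] at this
        rw [this]; exact mem_zpowers x
    exact hH (isCyclic_of_injective (Subgroup.inclusion hle) (Subgroup.inclusion_injective hle))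
  have hyn : (zpowers y).Normal := by
    constructor
    intro b hb g
    obtain ⟨j, rfl⟩ := mem_zpowers_iff.mp hb
    obtain ⟨i, rfl⟩ := mem_zpowers_iff.mp hyA
    obtain ⟨k, hk⟩ := mem_zpowers_iff.mp (hHn.conj_mem h (mem_zpowers h) g)
    have e : ((h ^ k) ^ i) ^ j = ((h ^ i) ^ k) ^ j := by
      rw [← zpow_mul h k i, ← zpow_mul h i k, mul_comm]
    rw [← conj_zpow, ← conj_zpow, ← hk, e]
    exact zpow_mem (zpow_mem (mem_zpowers _) _) _
  have hyne : zpowers y ≠ ⊥ := by
    intro hb
    exact hy1 (zpowers_eq_bot.mp hb)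
  obtain ⟨z, hzy, hzc, hzo⟩ := exists_central_order_p hP (zpowers y) hyne
  have hZeq : zpowers z = center G :=
    Subgroup.eq_of_le_of_card_ge (zpowers_le.mpr hzc)
      (by rw [hZcard, Nat.card_zpowers, hzo])
  have hZH : center G ≤ H := by
    rw [← hZeq, zpowers_le]
    exact (zpowers_le.mpr hyH) hzy
  intro c hc
  rw [mem_centralizer_iff] at hc
  have hcx : c * x = x * c := (hc x hxH).symm
  rcases cases_index2 (zpowers h) hH2 x hxA c with hcA | hcA
  · exact hZH (mem_center_of_index2 _ hHc hH2 x hxA c hcA hcx)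
  · have h1 : c * x⁻¹ * x = x * (c * x⁻¹) := by
      rw [inv_mul_cancel_right, ← mul_assoc, ← hcx, mul_inv_cancel_right]
    have h2 := hZH (mem_center_of_index2 _ hHc hH2 x hxA _ hcA h1)
    have h3 := H.mul_mem h2 hxH
    rwa [inv_mul_cancel_right] at h3

/-- Say that a group has self-centralizing non-cyclic subgroups when every non-cyclic subgroup H satisfies C_G(H) ≤ H. A finite non-abelian 2-group G of order 2^n has self-centralizing non-cyclic subgroups if and only if G has nilpotency class n − 1 (that is, G is dihedral, semidihedral or generalized quaternion). -/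
theorem result {G : Type*} [Group G] [Finite G] (hna : ¬ IsMulCommutative G) (n : ℕ) (hG : Nat.card G = 2 ^ n) :
    (∀ H : Subgroup G, ¬ IsCyclic ↥H → Subgroup.centralizer (H : Set G) ≤ H) ↔ (⊤ : Subgroup G).lowerCentralSeries (n - 2) ≠ ⊥ := by
  have : Fact (Nat.Prime 2) := ⟨Nat.prime_two⟩
  have hn3 : 3 ≤ n := by
    by_contra hlt
    apply hna
    have hn : n = 0 ∨ n = 1 ∨ n = 2 := by omega
    rcases hn with rfl | rfl | rfl
    · have : Subsingleton G := (Nat.card_eq_one_iff_unique.mp (by simpa using hG)).1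
      exact ⟨⟨fun a b => Subsingleton.elim _ _⟩⟩
    · have : IsCyclic G := isCyclic_of_prime_card (p := 2) (by simpa using hG)
      exact IsCyclic.isMulCommutative
    · exact IsPGroup.isMulCommutative_of_card_eq_prime_sq (p := 2) hG
  obtain ⟨m, rfl⟩ : ∃ m, n = m + 3 := ⟨n - 3, by omega⟩
  have e : m + 3 - 2 = m + 1 := by omega
  rw [e]
  exact ⟨forward hna m hG, backward hna m hG⟩

end Cfsg.Agent.S3919
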