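import Cfsg.Statements.S3946
import Cfsg.Agent.S0033
import Cfsg.Agent.Lib.Helper26.Kegel

set_option autoImplicit false
open Cfsg
open Cfsg.Agent.Lib.Helper26
open scoped Pointwise

namespace Cfsg.Agent.S3946

universe u

section twists

variable {G : Type u} [Group G] [Finite G]

/-- every Sylow subgroup is invariant under a suitable inner twist -/
theorem exists_twist_sylow (φ : G ≃* G) {s : ℕ} [Fact s.Prime] (P : Sylow s G) :
    ∃ g : G, (P : Subgroup G).map (twist g φ : G →* G) = P := by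
  let φ' : MulAut G := φ
  obtain ⟨g, hg⟩ := MulAction.exists_smul_eq G (φ' • P) P
  refine ⟨g, map_eq_of_forall_mem _ _ ?_⟩
  intro x hx
  have h1 : φ' • x ∈ φ' • (P : Subgroup G) := Subgroup.smul_mem_pointwise_smul x φ' _ hx
  have h2 : MulAut.conj g • (φ' • x) ∈ MulAut.conj g • (φ' • (P : Subgroup G)) :=
    Subgroup.smul_mem_pointwise_smul _ _ _ h1
  have h3 : MulAut.conj g • (φ' • (P : Subgroup G)) = (P : Subgroup G) := by
    have h4 := congrArg (fun Q : Sylow s G => (Q : Subgroup G)) hg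
    simpa [Sylow.smul_def, Sylow.pointwise_smul_def] using h4
  rw [h3] at h2
  exact h2

theorem map_of_twist_normal (φ : G ≃* G) (g : G) {N : Subgroup G} (hN : N.Normal)
    (h : N.map (twist g φ : G →* G) = N) : N.map (φ : G →* G) = N := by
  apply map_eq_of_forall_mem
  intro x hx
  have h1 : g * φ x * g⁻¹ ∈ N := mem_of_map_eq h hx
  have h2 := hN.conj_mem _ h1 g⁻¹
  have e : g⁻¹ * (g * φ x * g⁻¹) * g⁻¹⁻¹ = φ x := by group
  rwa [e] at h2

theorem map_twist_of_normal (φ : G ≃* G) (g : G) {N : Subgroup G} (hN : N.Normal)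
    (h : N.map (φ : G →* G) = N) : N.map (twist g φ : G →* G) = N := by
  apply map_eq_of_forall_mem
  intro x hx
  exact hN.conj_mem _ (mem_of_map_eq h hx) g

theorem map_twist_one (φ : G ≃* G) {S : Subgroup G} (h : S.map (φ : G →* G) = S) :
    S.map (twist 1 φ : G →* G) = S := by
  apply map_eq_of_forall_mem
  intro x hx
  show 1 * φ x * 1⁻¹ ∈ S
  rw [one_mul, inv_one, mul_one]
  exact mem_of_map_eq h hx

/-- in a minimal situation there is a nontrivial normal invariant subgroup of prime power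
order. -/
theorem exists_normal_pgroup (φ : G ≃* G)
    (hsub : ∀ (S : Subgroup G) (g : G), S ≠ ⊤ → S.map (twist g φ : G →* G) = S →
      Group.IsNilpotent S)
    (hnp : ∀ q : ℕ, q.Prime → ¬ IsPGroup q G) :
    ∃ (q : ℕ) (_ : Fact q.Prime) (W : Subgroup G),
      W.Normal ∧ W.map (φ : G →* G) = W ∧ IsPGroup q W ∧ W ≠ ⊥ := by
  have hex : ∃ p : ℕ, p.Prime ∧ p ≠ 2 ∧ p ∣ Nat.card G := by
    by_contra hcon
    apply hnp 2 Nat.prime_two
    have h1 : ∀ {d : ℕ}, d.Prime → d ∣ Nat.card G → d = 2 := by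
      intro d hd hdvd
      by_contra hne
      exact hcon ⟨d, hd, hne, hdvd⟩
    exact IsPGroup.of_card (Nat.eq_prime_pow_of_unique_prime_dvd Nat.card_pos.ne' h1)
  obtain ⟨p, hp, hp2, hpdvd⟩ := hex
  have hpf : Fact p.Prime := ⟨hp⟩
  obtain ⟨P, -⟩ : ∃ P : Sylow p G, P = P := ⟨default, rfl⟩
  obtain ⟨g, hP⟩ := exists_twist_sylow φ P
  have hPne : (P : Subgroup G) ≠ ⊥ := P.ne_bot_of_dvd_card hpdvd
  have hJφ : (thompsonSubgroupOf p (P : Subgroup G)).map (twist g φ : G →* G) =
      thompsonSubgroupOf p (P : Subgroup G) := by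
    have h1 := thompsonOf_map (p := p) (twist g φ : G →* G) (P : Subgroup G)
      (fun u _ hu => by simpa using hu)
    rw [hP] at h1
    exact h1.symm
  have hZφ := Cfsg.Agent.S0033.zc_map (twist g φ) hP
  have hJne : thompsonSubgroupOf p (P : Subgroup G) ≠ ⊥ := thompsonOf_ne_bot P.isPGroup' hPne
  have hZne : (P : Subgroup G) ⊓ Subgroup.centralizer ((P : Subgroup G) : Set G) ≠ ⊥ :=
    zc_ne_bot P.isPGroup' hPne
  have hJP : thompsonSubgroupOf p (P : Subgroup G) ≤ P := by
    unfold thompsonSubgroupOf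
    exact Subgroup.map_subtype_le _
  by_cases hN1 : Subgroup.normalizer (thompsonSubgroupOf p (P : Subgroup G) : Set G) = ⊤
  · have hn := Subgroup.normalizer_eq_top_iff.mp hN1
    exact ⟨p, hpf, _, hn, map_of_twist_normal φ g hn hJφ, P.isPGroup'.to_le hJP, hJne⟩
  by_cases hN2 : Subgroup.centralizer (((P : Subgroup G) ⊓
      Subgroup.centralizer ((P : Subgroup G) : Set G) : Subgroup G) : Set G) = ⊤
  · have hn : ((P : Subgroup G) ⊓ Subgroup.centralizer ((P : Subgroup G) : Set G)).Normal := by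
      constructor
      intro z hz x
      have hx : x ∈ Subgroup.centralizer (((P : Subgroup G) ⊓
          Subgroup.centralizer ((P : Subgroup G) : Set G) : Subgroup G) : Set G) := by
        rw [hN2]; trivial
      have h1 := Subgroup.mem_centralizer_iff.mp hx z hz
      have h2 : x * z * x⁻¹ = z := by rw [← h1]; group
      rw [h2]; exact hz
    exact ⟨p, hpf, _, hn, map_of_twist_normal φ g hn hZφ, P.isPGroup'.to_le inf_le_left, hZne⟩
  have hnil1 := hsub _ g hN1 (Cfsg.Agent.S0033.normalizer_map (twist g φ) hJφ)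
  have hnil2 := hsub _ g hN2 (Cfsg.Agent.S0033.centralizer_map (twist g φ) hZφ)
  have hnpc : Npc p G := Cfsg.Agent.S0108.thompson_npc hp2 (Nat.card G) G rfl P
    (npc_of_isNilpotent hnil1 p) (npc_of_isNilpotent hnil2 p)
  obtain ⟨K, hKn, hKcop, k, hk⟩ := hnpc
  have hKmem := npc_mem_iff hKn hKcop hk
  have hKφ : K.map (φ : G →* G) = K := by
    apply map_eq_of_forall_mem
    intro x hx
    rw [hKmem] at hx ⊢
    rwa [MulEquiv.orderOf_eq]
  have hKtop : K ≠ ⊤ := by
    intro h
    rw [h, Subgroup.card_top] at hKcop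
    exact (Nat.Prime.coprime_iff_not_dvd hp).mp hKcop.symm hpdvd
  have hKbot : K ≠ ⊥ := by
    intro h
    rw [h, Subgroup.index_bot] at hk
    exact hnp p hp (IsPGroup.of_card hk)
  have hKnil := hsub K 1 hKtop (map_twist_one φ hKφ)
  have hK1 : Nat.card K ≠ 1 := fun h => hKbot (Subgroup.card_eq_one.mp h)
  obtain ⟨q, hq, hqdvd⟩ := Nat.exists_prime_and_dvd hK1
  have hqf : Fact q.Prime := ⟨hq⟩
  obtain ⟨W, hW⟩ := exists_tPart K hKnil q
  obtain ⟨x, hx⟩ := exists_prime_orderOf_dvd_card' q hqdvd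
  have hKn' : K.Normal := hKn
  refine ⟨q, hqf, W, tPart_normal hW, tPart_map φ hKφ hW, tPart_isPGroup hW, ?_⟩
  intro hbot
  have hxW : (x : G) ∈ W := by
    refine (hW _).mpr ⟨x.2, 1, ?_⟩
    rw [pow_one, ← hx, ← Subgroup.orderOf_coe]
    exact pow_orderOf_eq_one _
  rw [hbot, Subgroup.mem_bot] at hxW
  have h1 : orderOf x = 1 := by
    rw [orderOf_eq_one_iff]; exact Subtype.ext hxW
  rw [hx] at h1
  exact hq.one_lt.ne' h1

/-- the inductive step -/
theorem core (p : ℕ) (hp : p.Prime) (φ : G ≃* G) (hsplit : Split p φ)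
    (hsub : ∀ (S : Subgroup G) (g : G), S ≠ ⊤ → S.map (twist g φ : G →* G) = S →
      Group.IsNilpotent S)
    (hquot : ∀ (N : Subgroup G) [N.Normal], N ≠ ⊥ → N.map (φ : G →* G) = N →
      Group.IsNilpotent (G ⧸ N)) :
    Group.IsNilpotent G := by
  by_cases hnp : ∃ q : ℕ, q.Prime ∧ IsPGroup q G
  · obtain ⟨q, hq, hG⟩ := hnp
    have : Fact q.Prime := ⟨hq⟩
    exact hG.isNilpotent
  have hnp' : ∀ q : ℕ, q.Prime → ¬ IsPGroup q G := fun q hq h => hnp ⟨q, hq, h⟩
  obtain ⟨q, hqf, W, hWn, hWφ, hWq, hWne⟩ := exists_normal_pgroup φ hsub hnp'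
  obtain ⟨A, hAn, hAφ, hAq, hAne, hAab⟩ :=
    Cfsg.Agent.S0033.exists_abelian φ W hWn hWφ hWq hWne
  have hq : q.Prime := hqf.out
  have hcent : ∀ (t : ℕ) (_ : Fact t.Prime), t ≠ q → ∃ T : Sylow t G,
      (T : Subgroup G) ≤ Subgroup.centralizer (A : Set G) := by
    intro t htf htq
    have ht : t.Prime := htf.out
    obtain ⟨T, -⟩ : ∃ T : Sylow t G, T = T := ⟨default, rfl⟩
    obtain ⟨g, hT⟩ := exists_twist_sylow φ T
    refine ⟨T, ?_⟩
    apply kegel_centralizes (twist g φ) p hp (split_twist g φ hsplit) A T hAab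
      (fun a ha => mem_of_map_eq (map_twist_of_normal φ g hAn hAφ) ha)
      (fun w hw => mem_of_map_eq hT hw)
    obtain ⟨a, ha⟩ := IsPGroup.iff_card.mp T.isPGroup'
    obtain ⟨b, hb⟩ := IsPGroup.iff_card.mp hAq
    have ha' : Nat.card (T : Subgroup G) = t ^ a := ha
    rw [ha', hb]
    exact Nat.Coprime.pow _ _ ((Nat.coprime_primes ht hq).mpr htq)
  have hCφ := Cfsg.Agent.S0033.centralizer_map φ hAφ
  have hAquot : Group.IsNilpotent (G ⧸ A) := hquot A hAne hAφ
  by_cases hC : Subgroup.centralizer (A : Set G) = ⊤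
  · apply Subgroup.isNilpotent_of_ker_le_center (QuotientGroup.mk' A)
    rw [QuotientGroup.ker_mk']
    intro a ha
    rw [Subgroup.mem_center_iff]
    intro g
    have hg : g ∈ Subgroup.centralizer (A : Set G) := by rw [hC]; trivial
    exact (Subgroup.mem_centralizer_iff.mp hg a ha).symm
  have hCnil := hsub _ 1 hC (map_twist_one φ hCφ)
  have hex : ∃ t : ℕ, t.Prime ∧ t ≠ q ∧ t ∣ Nat.card G := by
    by_contra hcon
    apply hnp' q hq
    have h1 : ∀ {d : ℕ}, d.Prime → d ∣ Nat.card G → d = q := by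
      intro d hd hdvd
      by_contra hne
      exact hcon ⟨d, hd, hne, hdvd⟩
    exact IsPGroup.of_card (Nat.eq_prime_pow_of_unique_prime_dvd Nat.card_pos.ne' h1)
  obtain ⟨t, ht, htq, htdvd⟩ := hex
  have htf : Fact t.Prime := ⟨ht⟩
  obtain ⟨T, hTC⟩ := hcent t htf htq
  have hTne : (T : Subgroup G) ≠ ⊥ := T.ne_bot_of_dvd_card htdvd
  obtain ⟨Wt, hWt⟩ := exists_tPart (Subgroup.centralizer (A : Set G)) hCnil t
  have hCn : (Subgroup.centralizer (A : Set G)).Normal := Subgroup.normal_centralizer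
  have hWtn : Wt.Normal := tPart_normal hWt
  have hWtφ := tPart_map φ hCφ hWt
  have hWtt : IsPGroup t Wt := tPart_isPGroup hWt
  have hWtne : Wt ≠ ⊥ := by
    intro hbot
    apply hTne
    rw [Subgroup.eq_bot_iff_forall]
    intro x hx
    obtain ⟨n, hn⟩ := T.isPGroup' ⟨x, hx⟩
    have hn' : x ^ t ^ n = 1 := by
      have := congrArg Subtype.val hn
      simpa using this
    have hxW : x ∈ Wt := (hWt x).mpr ⟨hTC hx, n, hn'⟩
    rw [hbot, Subgroup.mem_bot] at hxW
    exact hxW
  have hWtquot : Group.IsNilpotent (G ⧸ Wt) := hquot Wt hWtne hWtφ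
  have hdisj : A ⊓ Wt = ⊥ :=
    (IsPGroup.disjoint_of_ne q t (Ne.symm htq) A Wt hAq hWtt).eq_bot
  apply Subgroup.isNilpotent_of_ker_le_center
    ((QuotientGroup.mk' A).prod (QuotientGroup.mk' Wt))
  rw [MonoidHom.ker_prod, QuotientGroup.ker_mk', QuotientGroup.ker_mk', hdisj]
  exact bot_le

end twists

/-- **Kegel's theorem**: a finite group with a `p`-splitting automorphism (`p` prime) is
nilpotent. -/
theorem kegel_nilpotent (p : ℕ) (hp : p.Prime) :
    ∀ (n : ℕ) (G : Type u) [Group G] [Finite G], Nat.card G = n →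
      ∀ φ : G ≃* G, Split p φ → Group.IsNilpotent G := by
  intro n
  induction n using Nat.strong_induction_on with
  | _ n ih =>
    intro G _ _ hn φ hsplit
    apply core p hp φ hsplit
    · intro S g hS hSφ
      have hlt : Nat.card S < n := by
        rw [← hn]
        exact lt_of_le_of_ne (Subgroup.card_le_card_group S)
          (fun h => hS ((Subgroup.card_eq_iff_eq_top S).mp h))
      exact ih _ hlt S rfl (resAut (twist g φ) S hSφ)
        (split_resAut (twist g φ) S hSφ (split_twist g φ hsplit))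
    · intro N _ hN hNφ
      have hlt : Nat.card (G ⧸ N) < n := by
        rw [← hn, ← Subgroup.index_eq_card, ← Subgroup.card_mul_index N]
        have h1 : 1 < Nat.card N := (Subgroup.one_lt_card_iff_ne_bot N).mpr hN
        have h2 : 0 < N.index := Nat.pos_of_ne_zero Subgroup.index_ne_zero_of_finite
        nlinarith
      exact ih _ hlt (G ⧸ N) rfl (quotAut φ N hNφ) (split_quotAut φ N hNφ hsplit)

/-- Call an automorphism α of order n of a group G splitting when x · α(x) · α²(x) ⋯ α^(n−1)(x) = 1 for every x ∈ G. A finite group admitting a splitting automorphism of prime order is nilpotent (this contains the case of a fixed-point-free automorphism of prime order). -/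
theorem result {G : Type*} [Group G] [Finite G] (α : MulAut G) (hp : (orderOf α).Prime)
    (hsplit : ∀ x : G, (((List.range (orderOf α)).map (fun i : ℕ => (α ^ i) x)).prod = 1)) : Group.IsNilpotent G := by
  have hit : ∀ (n : ℕ) (x : G), (α ^ n) x = (⇑α)^[n] x := by
    intro n
    induction n with
    | zero => intro x; rfl
    | succ n ih =>
      intro x
      rw [pow_succ, Function.iterate_succ_apply, ← ih]
      rfl
  apply kegel_nilpotent (orderOf α) hp (Nat.card G) G rfl α
  intro x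
  have h1 := hsplit x
  unfold pprod
  rw [← h1]
  congr 1
  apply List.map_congr_left
  intro i _
  exact (hit i x).symm

end Cfsg.Agent.S3946
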