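import Cfsg.Statements.S4018
import Cfsg.Agent.Lib.Helper76.Friendship
import Cfsg.Agent.Lib.Helper76.SylPrime
import Cfsg.Agent.Lib.Helper76.N22Count
import Cfsg.Agent.S4304
import Cfsg.Agent.Lib.Helper23.Syl
import Cfsg.Agent.Lib.Helper23.Syl2
import Cfsg.Agent.Lib.Helper23.SimpleGen

set_option autoImplicit false
set_option linter.unusedSectionVars false
set_option linter.style.haveILetI false
open Cfsg

/-! S4018: an abelian Sylow `3`-subgroup `P` with `|N(P)| = 4|P|`, `|C(P)| = 2|P|`, `C(P)` a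
TI-subgroup and all proper even-order subgroups of order dividing `4|P|` cannot occur in a simple
group.  Proof: `C(P)` has a unique involution `t`, `C(t) = N(P)`, Sylow `2`-subgroups are Klein
four groups whose involutions are fused (Burnside transfer), and then any two distinct conjugates
of `t` commute with exactly one common conjugate of `t`.  By the friendship theorem some conjugate
of `t` commutes with all conjugates, so it is central in its normal closure `G`. -/

namespace Cfsg.Agent.S4018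

open Subgroup
open Cfsg.Agent.Lib.Helper76
open Cfsg.Agent.Lib.Helper23

section basic
variable {G : Type*} [Group G]

theorem inv_of_sq {u : G} (h : u ^ 2 = 1) : u⁻¹ = u := by
  rw [inv_eq_iff_mul_eq_one, ← sq, h]

theorem conj_sq {t u : G} (ht2 : t ^ 2 = 1) (h : IsConj t u) : u ^ 2 = 1 := by
  obtain ⟨g, rfl⟩ := isConj_iff.mp h
  rw [conj_pow, ht2, mul_one, mul_inv_cancel]

theorem conj_ne_one {t u : G} (ht1 : t ≠ 1) (h : IsConj t u) : u ≠ 1 := by
  rintro rfl
  exact ht1 (isConj_one_left.mp h)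

theorem conj_comm_iff (h a b : G) :
    (h * a * h⁻¹) * (h * b * h⁻¹) = (h * b * h⁻¹) * (h * a * h⁻¹) ↔ a * b = b * a := by
  constructor
  · intro e
    have h1 : h * (a * b) * h⁻¹ = h * (b * a) * h⁻¹ := by
      calc h * (a * b) * h⁻¹ = (h * a * h⁻¹) * (h * b * h⁻¹) := by group
        _ = (h * b * h⁻¹) * (h * a * h⁻¹) := e
        _ = h * (b * a) * h⁻¹ := by group
    simpa using h1
  · intro e
    calc (h * a * h⁻¹) * (h * b * h⁻¹) = h * (a * b) * h⁻¹ := by group
      _ = h * (b * a) * h⁻¹ := by rw [e]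
      _ = _ := by group

theorem conj_eq_iff (h a b : G) : h * a * h⁻¹ = h * b * h⁻¹ ↔ a = b := by
  simp

theorem isConj_conj_iff (t h a : G) : IsConj t (h * a * h⁻¹) ↔ IsConj t a := by
  constructor
  · intro e
    exact e.trans (isConj_iff.mpr ⟨h⁻¹, by group⟩)
  · intro e
    exact e.trans (isConj_iff.mpr ⟨h, rfl⟩)

/-- `w` is a common neighbour of `u` and `v` in the commuting graph on the class of `t` -/
def Nb (t u v w : G) : Prop :=
  IsConj t w ∧ w ≠ u ∧ w ≠ v ∧ w * u = u * w ∧ w * v = v * w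

theorem nb_conj_iff (t h u v w : G) :
    Nb t (h * u * h⁻¹) (h * v * h⁻¹) (h * w * h⁻¹) ↔ Nb t u v w := by
  unfold Nb
  rw [isConj_conj_iff, conj_comm_iff, conj_comm_iff, Ne, Ne, conj_eq_iff, conj_eq_iff]

/-- transport of the key lemma from `t` to any pair of conjugates -/
theorem key_pair (t : G)
    (key : ∀ v, IsConj t v → v ≠ t → ∃ w, Nb t t v w ∧ ∀ w', Nb t t v w' → w' = w)
    (u v : G) (hu : IsConj t u) (hv : IsConj t v) (huv : u ≠ v) :
    ∃ w, Nb t u v w ∧ ∀ w', Nb t u v w' → w' = w := by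
  obtain ⟨h, rfl⟩ := isConj_iff.mp hu
  obtain ⟨v, rfl⟩ : ∃ v', v = h * v' * h⁻¹ := ⟨h⁻¹ * v * h, by group⟩
  rw [isConj_conj_iff] at hv
  have hvt : v ≠ t := fun e => huv (by rw [e])
  obtain ⟨w, hw, huniq⟩ := key v hv hvt
  refine ⟨h * w * h⁻¹, (nb_conj_iff t h t v w).mpr hw, ?_⟩
  intro w' hw'
  obtain ⟨w', rfl⟩ : ∃ w'', w' = h * w'' * h⁻¹ := ⟨h⁻¹ * w' * h, by group⟩
  rw [nb_conj_iff] at hw'
  rw [huniq w' hw']

/-- the friendship theorem applied to the commuting graph on the class of `t` -/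
theorem graph_false [Finite G] [IsSimpleGroup G] (hG : ¬ IsMulCommutative G) (t : G)
    (ht1 : t ≠ 1)
    (key : ∀ u v : G, IsConj t u → IsConj t v → u ≠ v →
      ∃ w, Nb t u v w ∧ ∀ w', Nb t u v w' → w' = w) : False := by
  classical
  haveI : Fintype {u : G // IsConj t u} := Fintype.ofFinite _
  haveI : Nonempty {u : G // IsConj t u} := ⟨⟨t, IsConj.refl t⟩⟩
  obtain ⟨Γ, hΓ⟩ : ∃ Γ : SimpleGraph {u : G // IsConj t u},
      Γ = SimpleGraph.fromRel (fun u v : {u : G // IsConj t u} => (u : G) * v = v * u) :=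
    ⟨_, rfl⟩
  have hadj : ∀ u v : {u : G // IsConj t u}, Γ.Adj u v ↔ u ≠ v ∧ (u : G) * v = v * u := by
    intro u v
    rw [hΓ, SimpleGraph.fromRel_adj]
    constructor
    · rintro ⟨h1, h2 | h2⟩
      · exact ⟨h1, h2⟩
      · exact ⟨h1, h2.symm⟩
    · rintro ⟨h1, h2⟩
      exact ⟨h1, Or.inl h2⟩
  have hF : Fr.Friendship Γ := by
    intro u v huv
    rw [Fintype.card_eq_one_iff]
    obtain ⟨w, hw, huniq⟩ := key u v u.2 v.2 (fun e => huv (Subtype.ext e))
    refine ⟨⟨⟨w, hw.1⟩, ?_⟩, ?_⟩
    · rw [SimpleGraph.mem_commonNeighbors, hadj, hadj]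
      exact ⟨⟨fun e => hw.2.1 (congrArg Subtype.val e).symm, hw.2.2.2.1.symm⟩,
        ⟨fun e => hw.2.2.1 (congrArg Subtype.val e).symm, hw.2.2.2.2.symm⟩⟩
    · rintro ⟨⟨z, hz⟩, hmem⟩
      rw [SimpleGraph.mem_commonNeighbors, hadj, hadj] at hmem
      have h1 := huniq z ⟨hz, fun e => hmem.1.1 (Subtype.ext e.symm),
        fun e => hmem.2.1 (Subtype.ext e.symm), hmem.1.2.symm, hmem.2.2.symm⟩
      exact Subtype.ext (Subtype.ext h1)
  obtain ⟨⟨z, hz⟩, hpol⟩ := Fr.friendship_theorem hF
  have hz1 : z ≠ 1 := by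
    rintro rfl
    exact ht1 (isConj_one_left.mp hz)
  have hcomm : ∀ w : G, IsConj z w → w * z = z * w := by
    intro w hw
    by_cases hwz : w = z
    · rw [hwz]
    · have h1 := (hadj _ _).mp (hpol ⟨w, hz.trans hw⟩ (fun e => hwz (congrArg Subtype.val e).symm))
      exact h1.2.symm
  have hle : normalClosure ({z} : Set G) ≤ centralizer ({z} : Set G) := by
    unfold normalClosure
    rw [Subgroup.closure_le]
    intro x hx
    obtain ⟨a, ha, hax⟩ := Group.mem_conjugatesOfSet_iff.mp hx
    rw [Set.mem_singleton_iff] at ha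
    subst ha
    exact Subgroup.mem_centralizer_singleton_iff.mpr (hcomm x hax)
  have hn : (normalClosure ({z} : Set G)).Normal := normalClosure_normal
  rcases hn.eq_bot_or_eq_top with hb | htop
  · have : z ∈ normalClosure ({z} : Set G) := subset_normalClosure (Set.mem_singleton z)
    rw [hb, Subgroup.mem_bot] at this
    exact hz1 this
  · rw [htop, top_le_iff] at hle
    exact simple_centralizer_ne_top hG hz1 hle

end basic

section cfg
variable {G : Type*} [Group G] [Finite G] (C : Subgroup G) (t : G) (m : ℕ)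

/-- case A of the key lemma: `v` commutes with `t` -/
theorem key_comm (ht1 : t ≠ 1) (ht2 : t ^ 2 = 1)
    (uniq : ∀ c ∈ C, c ^ 2 = 1 → c = 1 ∨ c = t)
    (idx2 : ∀ a b : G, a * t = t * a → b * t = t * b → a ∉ C → b ∉ C → a * b ∈ C)
    (fusion : ∀ v : G, v ^ 2 = 1 → v ≠ 1 → v ≠ t → v * t = t * v → IsConj t v)
    (v : G) (hv : IsConj t v) (hvt : v ≠ t) (hc : v * t = t * v) :
    ∃ w, Nb t t v w ∧ ∀ w', Nb t t v w' → w' = w := by
  have hv2 : v ^ 2 = 1 := conj_sq ht2 hv
  have hv1 : v ≠ 1 := conj_ne_one ht1 hv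
  have hvi : v⁻¹ = v := inv_of_sq hv2
  have hti : t⁻¹ = t := inv_of_sq ht2
  have hw2 : (t * v) ^ 2 = 1 := by
    have h1 : Commute t v := hc.symm
    rw [h1.mul_pow, ht2, hv2, mul_one]
  have hw1 : t * v ≠ 1 := by
    intro e
    apply hvt
    have h1 : v = t⁻¹ := eq_inv_of_mul_eq_one_right e
    rw [h1, hti]
  have hwt : t * v ≠ t := by
    intro e
    exact hv1 (by simpa using e)
  have hwc : t * v * t = t * (t * v) := by rw [mul_assoc, hc]
  have hwv : t * v ≠ v := by
    intro e
    exact ht1 (by simpa using e)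
  refine ⟨t * v, ⟨fusion _ hw2 hw1 hwt hwc, hwt, hwv, hwc, ?_⟩, ?_⟩
  · rw [← mul_assoc, hc]
  · rintro w' ⟨hw'conj, hw't, hw'v, hw'c, hw'vc⟩
    have hw'2 := conj_sq ht2 hw'conj
    have hw'1 := conj_ne_one ht1 hw'conj
    have hvC : v ∉ C := fun h => by
      rcases uniq v h hv2 with h1 | h1
      · exact hv1 h1
      · exact hvt h1
    have hw'C : w' ∉ C := fun h => by
      rcases uniq w' h hw'2 with h1 | h1
      · exact hw'1 h1
      · exact hw't h1
    have hprod := idx2 v w' hc hw'c hvC hw'C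
    have hprod2 : (v * w') ^ 2 = 1 := by
      have h1 : Commute v w' := hw'vc.symm
      rw [h1.mul_pow, hv2, hw'2, mul_one]
    rcases uniq _ hprod hprod2 with h1 | h1
    · exfalso
      apply hw'v
      have h2 : w' = v⁻¹ := eq_inv_of_mul_eq_one_right h1
      rw [h2, hvi]
    · have h2 : w' = v⁻¹ * t := by rw [← h1]; group
      rw [h2, hvi, hc]

/-- case B of the key lemma: `v` does not commute with `t` -/
theorem key_noncomm [IsSimpleGroup G] (ht1 : t ≠ 1) (ht2 : t ^ 2 = 1)
    (uniq : ∀ c ∈ C, c ^ 2 = 1 → c = 1 ∨ c = t)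
    (cent : ∀ c ∈ C, c * t = t * c)
    (idx2 : ∀ a b : G, a * t = t * a → b * t = t * b → a ∉ C → b ∉ C → a * b ∈ C)
    (ti : ∀ c ∈ C, c ≠ 1 → ∀ g : G, g * c * g⁻¹ ∈ C → g * t = t * g)
    (h3 : ∀ y : G, y ^ m = 1 → ∃ g : G, g⁻¹ * y * g ∈ C)
    (heven : ∀ H : Subgroup G, H ≠ ⊤ → 2 ∣ Nat.card H → Nat.card H ∣ 4 * m)
    (fusion : ∀ v : G, v ^ 2 = 1 → v ≠ 1 → v ≠ t → v * t = t * v → IsConj t v)
    (v : G) (hv : IsConj t v) (hvt : v ≠ t) (hc : ¬ v * t = t * v) :
    ∃ w, Nb t t v w ∧ ∀ w', Nb t t v w' → w' = w := by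
  have hv2 : v ^ 2 = 1 := conj_sq ht2 hv
  have hv1 : v ≠ 1 := conj_ne_one ht1 hv
  have hvi : v⁻¹ = v := inv_of_sq hv2
  have hti : t⁻¹ = t := inv_of_sq ht2
  have hex : ∃ w, IsConj t w ∧ w ≠ t ∧ w * t = t * w ∧ w * v = v * w := by
    obtain ⟨y, hy⟩ : ∃ y, y = t * v := ⟨_, rfl⟩
    have hy1 : y ≠ 1 := by
      rw [hy]
      intro e
      apply hvt
      have h1 : v = t⁻¹ := eq_inv_of_mul_eq_one_right e
      rw [h1, hti]
    have hty : t * y * t⁻¹ = y⁻¹ := by
      rw [hy, mul_inv_rev, hvi, hti, ← mul_assoc, ← sq, ht2, one_mul]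
    have hvy : v * y * v⁻¹ = y⁻¹ := by
      rw [hy, mul_inv_rev, hvi, hti, mul_assoc, mul_assoc, ← sq, hv2, mul_one]
    have htyk : ∀ k : ℕ, t * y ^ k * t⁻¹ = (y ^ k)⁻¹ := by
      intro k
      rw [← conj_pow, hty, inv_pow]
    have hvyk : ∀ k : ℕ, v * y ^ k * v⁻¹ = (y ^ k)⁻¹ := by
      intro k
      rw [← conj_pow, hvy, inv_pow]
    rcases Nat.even_or_odd (orderOf y) with he | ho
    · obtain ⟨k, hk⟩ := he
      have hpos : 0 < orderOf y := orderOf_pos y
      have hw2 : (y ^ k) ^ 2 = 1 := by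
        rw [← pow_mul, mul_two, ← hk, pow_orderOf_eq_one]
      have hw1 : y ^ k ≠ 1 := pow_ne_one_of_lt_orderOf (by omega) (by omega)
      have hwi := inv_of_sq hw2
      have hwt : y ^ k * t = t * y ^ k := by
        have h1 := htyk k
        rw [hwi, mul_inv_eq_iff_eq_mul] at h1
        exact h1.symm
      have hwv : y ^ k * v = v * y ^ k := by
        have h1 := hvyk k
        rw [hwi, mul_inv_eq_iff_eq_mul] at h1
        exact h1.symm
      have hwne : y ^ k ≠ t := by
        intro e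
        rw [e] at hwv
        exact hc hwv.symm
      exact ⟨y ^ k, fusion _ hw2 hw1 hwne hwt, hwne, hwt, hwv⟩
    · have hD1 : zpowers y ≠ ⊥ := by rwa [Ne, zpowers_eq_bot]
      have htD : t ∈ normalizer ((zpowers y : Subgroup G) : Set G) := by
        have hfwd : ∀ h, h ∈ zpowers y → t * h * t⁻¹ ∈ zpowers y := by
          intro h hh
          obtain ⟨j, rfl⟩ := Subgroup.mem_zpowers_iff.mp hh
          rw [← conj_zpow, hty]
          exact Subgroup.zpow_mem _ (inv_mem (mem_zpowers y)) j
        rw [Subgroup.mem_normalizer_iff]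
        intro h
        constructor
        · exact hfwd h
        · intro hh
          have h1 := hfwd _ hh
          have e : t * (t * h * t⁻¹) * t⁻¹ = h := by
            rw [hti]
            calc t * (t * h * t) * t = (t * t) * h * (t * t) := by group
              _ = h := by rw [← sq, ht2, one_mul, mul_one]
          rwa [e] at h1
      have hD2 : zpowers y ≠ ⊤ := by
        intro e
        have htm : t ∈ zpowers y := by rw [e]; trivial
        obtain ⟨j, hj⟩ := Subgroup.mem_zpowers_iff.mp htm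
        have hcomm : t * y = y * t := by
          rw [← hj]
          exact (Commute.zpow_self y j)
        apply hc
        have hvy' : v = t * y := by rw [hy, ← mul_assoc, ← sq, ht2, one_mul]
        rw [hvy', mul_assoc, ← hcomm]
      have hM := simple_normalizer_ne_top (zpowers y) hD1 hD2
      have h2M : 2 ∣ Nat.card (normalizer ((zpowers y : Subgroup G) : Set G)) :=
        haveI : Fact (Nat.Prime 2) := ⟨Nat.prime_two⟩
        SylPrime.dvd_card_of_mem _ 2 t htD ht1 ht2
      have hdvd := heven _ hM h2M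
      have ho_dvd : orderOf y ∣ 4 * m := by
        rw [← Nat.card_zpowers]
        exact (Subgroup.card_dvd_of_le Subgroup.le_normalizer).trans hdvd
      have hom : orderOf y ∣ m := by
        have hcop2 : Nat.Coprime (orderOf y) 2 := Nat.coprime_two_right.mpr ho
        have hcop : Nat.Coprime (orderOf y) 4 := by
          have h1 : Nat.Coprime (orderOf y) (2 ^ 2) := Nat.Coprime.pow_right 2 hcop2
          norm_num at h1
          exact h1
        exact hcop.dvd_of_dvd_mul_left ho_dvd
      have hym : y ^ m = 1 := orderOf_dvd_iff_pow_eq_one.mp hom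
      obtain ⟨g, hg⟩ := h3 y hym
      have hy'1 : g⁻¹ * y * g ≠ 1 := by
        intro e
        apply hy1
        have h1 : y = g * (g⁻¹ * y * g) * g⁻¹ := by group
        rw [h1, e]
        group
      have hinvC : (g⁻¹ * y * g)⁻¹ ∈ C := inv_mem hg
      have ht' : (g⁻¹ * t * g) * t = t * (g⁻¹ * t * g) := by
        apply ti _ hg hy'1
        have h1 : (g⁻¹ * t * g) * (g⁻¹ * y * g) * (g⁻¹ * t * g)⁻¹ = (g⁻¹ * y * g)⁻¹ := by
          calc (g⁻¹ * t * g) * (g⁻¹ * y * g) * (g⁻¹ * t * g)⁻¹
              = g⁻¹ * (t * y * t⁻¹) * g := by group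
            _ = g⁻¹ * y⁻¹ * g := by rw [hty]
            _ = _ := by group
        rw [h1]
        exact hinvC
      have hv' : (g⁻¹ * v * g) * t = t * (g⁻¹ * v * g) := by
        apply ti _ hg hy'1
        have h1 : (g⁻¹ * v * g) * (g⁻¹ * y * g) * (g⁻¹ * v * g)⁻¹ = (g⁻¹ * y * g)⁻¹ := by
          calc (g⁻¹ * v * g) * (g⁻¹ * y * g) * (g⁻¹ * v * g)⁻¹
              = g⁻¹ * (v * y * v⁻¹) * g := by group
            _ = g⁻¹ * y⁻¹ * g := by rw [hvy]
            _ = _ := by group
        rw [h1]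
        exact hinvC
      have hwt : (g * t * g⁻¹) * t = t * (g * t * g⁻¹) := by
        calc (g * t * g⁻¹) * t = g * (t * (g⁻¹ * t * g)) * g⁻¹ := by group
          _ = g * ((g⁻¹ * t * g) * t) * g⁻¹ := by rw [← ht']
          _ = _ := by group
      have hwv : (g * t * g⁻¹) * v = v * (g * t * g⁻¹) := by
        calc (g * t * g⁻¹) * v = g * (t * (g⁻¹ * v * g)) * g⁻¹ := by group
          _ = g * ((g⁻¹ * v * g) * t) * g⁻¹ := by rw [← hv']
          _ = _ := by group
      have hwne : g * t * g⁻¹ ≠ t := by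
        intro e
        have e' : g⁻¹ * t * g = t := by
          calc g⁻¹ * t * g = g⁻¹ * (g * t * g⁻¹) * g := by rw [e]
            _ = t := by group
        have h1 : t * (g⁻¹ * y * g) * t⁻¹ = (g⁻¹ * y * g)⁻¹ := by
          calc t * (g⁻¹ * y * g) * t⁻¹
              = (g⁻¹ * t * g) * (g⁻¹ * y * g) * (g⁻¹ * t * g)⁻¹ := by rw [e']
            _ = g⁻¹ * (t * y * t⁻¹) * g := by group
            _ = g⁻¹ * y⁻¹ * g := by rw [hty]
            _ = _ := by group
        have h2 : t * (g⁻¹ * y * g) * t⁻¹ = g⁻¹ * y * g := by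
          rw [← cent _ hg, mul_inv_cancel_right]
        have h4 : (g⁻¹ * y * g) ^ 2 = 1 := by
          rw [sq]
          exact inv_eq_iff_mul_eq_one.mp (h1.symm.trans h2)
        have h5 : (g⁻¹ * y * g) ^ orderOf y = 1 := by
          have h6 := conj_pow (a := g⁻¹) (b := y) (i := orderOf y)
          rw [inv_inv] at h6
          rw [h6, pow_orderOf_eq_one]
          group
        obtain ⟨k, hk⟩ := ho
        rw [hk, pow_succ, pow_mul, h4, one_pow, one_mul] at h5
        exact hy'1 h5
      exact ⟨g * t * g⁻¹, isConj_iff.mpr ⟨g, rfl⟩, hwne, hwt, hwv⟩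
  obtain ⟨w, hw1, hw2, hw3, hw4⟩ := hex
  refine ⟨w, ⟨hw1, hw2, ?_, hw3, hw4⟩, ?_⟩
  · rintro rfl
    exact hc hw3
  · rintro w' ⟨hw'conj, hw't, -, hw'c, hw'vc⟩
    have hwsq := conj_sq ht2 hw1
    have hw'sq := conj_sq ht2 hw'conj
    have hwC : w ∉ C := fun h => by
      rcases uniq w h hwsq with h1 | h1
      · exact conj_ne_one ht1 hw1 h1
      · exact hw2 h1
    have hw'C : w' ∉ C := fun h => by
      rcases uniq w' h hw'sq with h1 | h1
      · exact conj_ne_one ht1 hw'conj h1
      · exact hw't h1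
    have hprod := idx2 w' w hw'c hw3 hw'C hwC
    by_contra hne
    have hne1 : w' * w ≠ 1 := by
      intro e
      apply hne
      have h1 : w' = w⁻¹ := eq_inv_of_mul_eq_one_left e
      rw [h1, inv_of_sq hwsq]
    have hconj : v * (w' * w) * v⁻¹ = w' * w := by
      rw [← mul_assoc, ← hw'vc, mul_assoc w' v w, ← hw4, ← mul_assoc, mul_inv_cancel_right]
    have h7 := ti (w' * w) hprod hne1 v (by rw [hconj]; exact hprod)
    exact hc h7

end cfg

section setup
variable {G : Type*} [Group G] [Finite G]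

/-- a Sylow subgroup of a nonabelian simple group is proper -/
theorem sylow_ne_top [IsSimpleGroup G] (hG : ¬ IsMulCommutative G) {p : ℕ} [hp : Fact p.Prime]
    (S : Sylow p G) : (S : Subgroup G) ≠ ⊤ := by
  intro hK
  have hpg : IsPGroup p G := by
    have h1 := S.isPGroup'
    rw [hK] at h1
    exact h1.of_equiv Subgroup.topEquiv
  have hc : Nontrivial (center G) := hpg.center_nontrivial
  have hcn : (center G).Normal := inferInstance
  rcases hcn.eq_bot_or_eq_top with h1 | h1
  · rw [Subgroup.nontrivial_iff_ne_bot] at hc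
    exact hc h1
  · apply hG
    refine ⟨⟨fun a b => ?_⟩⟩
    have hb : b ∈ center G := by rw [h1]; trivial
    exact Subgroup.mem_center_iff.mp hb a

/-- involutions of `C` times elements of an odd-order central subgroup `P` are distinct -/
theorem card_invol_mul_le (P C : Subgroup G) (hPC : ∀ c ∈ C, ∀ x ∈ P, c * x = x * c)
    (hP : P ≤ C) (hodd : Odd (Nat.card P)) (T : Set G) (hT : ∀ s ∈ T, s ∈ C ∧ s ^ 2 = 1) :
    T.ncard * Nat.card P ≤ Nat.card C := by
  obtain ⟨k, hk⟩ := hodd
  have hpow : ∀ s ∈ T, s ^ Nat.card P = s := by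
    intro s hs
    rw [hk, pow_succ, pow_mul, (hT s hs).2, one_pow, one_mul]
  have hPpow : ∀ x ∈ P, x ^ Nat.card P = 1 := by
    intro x hx
    have h1 : (⟨x, hx⟩ : P) ^ Nat.card P = 1 := pow_card_eq_one'
    exact congrArg Subtype.val h1
  have hmem : ∀ q : T × P, (q.1 : G) * (q.2 : G) ∈ C := fun q =>
    mul_mem (hT _ q.1.2).1 (hP q.2.2)
  have hpw : ∀ q : T × P, ((q.1 : G) * (q.2 : G)) ^ Nat.card P = (q.1 : G) := by
    intro q
    have hcomm : Commute (q.1 : G) (q.2 : G) := hPC _ (hT _ q.1.2).1 _ q.2.2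
    rw [hcomm.mul_pow, hpow _ q.1.2, hPpow _ q.2.2, mul_one]
  have hinj : Function.Injective (fun q : T × P => (⟨(q.1 : G) * (q.2 : G), hmem q⟩ : C)) := by
    intro q q' h
    have h1 : (q.1 : G) * (q.2 : G) = (q'.1 : G) * (q'.2 : G) := congrArg Subtype.val h
    have h2 : (q.1 : G) = (q'.1 : G) := by rw [← hpw q, ← hpw q', h1]
    have h3 : (q.2 : G) = (q'.2 : G) := by
      rw [h2] at h1
      exact mul_left_cancel h1
    exact Prod.ext (Subtype.ext h2) (Subtype.ext h3)
  have h := Nat.card_le_card_of_injective _ hinj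
  rwa [Nat.card_prod, Nat.card_coe_set_eq] at h

/-- every Sylow `2`-subgroup has order `4` -/
theorem sylow_two_card [IsSimpleGroup G] (hG : ¬ IsMulCommutative G) (m : ℕ) (modd : Odd m)
    (h4 : 4 ∣ Nat.card G)
    (heven : ∀ H : Subgroup G, H ≠ ⊤ → 2 ∣ Nat.card H → Nat.card H ∣ 4 * m)
    (S : Sylow 2 G) : Nat.card (S : Subgroup G) = 4 := by
  haveI : Fact (Nat.Prime 2) := ⟨Nat.prime_two⟩
  have hcard := Sylow.card_eq_multiplicity S
  have hk : 2 ≤ (Nat.card G).factorization 2 := by
    have h1 : 2 ^ 2 ∣ Nat.card G := by norm_num; exact h4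
    exact (Nat.Prime.pow_dvd_iff_le_factorization Nat.prime_two Nat.card_pos.ne').mp h1
  obtain ⟨k, hk'⟩ : ∃ k, (Nat.card G).factorization 2 = k := ⟨_, rfl⟩
  rw [hk'] at hcard hk
  have h2 : 2 ∣ Nat.card (S : Subgroup G) := by
    rw [hcard]
    exact dvd_pow_self 2 (by omega)
  have hdvd := heven _ (sylow_ne_top hG S) h2
  rw [hcard] at hdvd
  have hcop : Nat.Coprime (2 ^ k) m :=
    Nat.Coprime.pow_left k (Nat.coprime_two_left.mpr modd)
  have h3 : 2 ^ k ∣ 2 ^ 2 := by
    have h5 := hcop.dvd_of_dvd_mul_right hdvd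
    norm_num
    exact h5
  have h6 : k ≤ 2 := (Nat.pow_dvd_pow_iff_le_right (by norm_num)).mp h3
  have h7 : k = 2 := le_antisymm h6 hk
  rw [hcard, h7]
  norm_num

/-- fusion of involutions in a Klein four Sylow `2`-subgroup -/
theorem fusion_klein [IsSimpleGroup G] (hG : ¬ IsMulCommutative G) (m : ℕ) (modd : Odd m)
    (heven : ∀ H : Subgroup G, H ≠ ⊤ → 2 ∣ Nat.card H → Nat.card H ∣ 4 * m)
    (hS4 : ∀ S : Sylow 2 G, Nat.card (S : Subgroup G) = 4)
    (t v : G) (ht1 : t ≠ 1) (ht2 : t ^ 2 = 1) (hv2 : v ^ 2 = 1) (hv1 : v ≠ 1) (hvt : v ≠ t)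
    (hc : v * t = t * v) : IsConj t v := by
  classical
  haveI : Fact (Nat.Prime 2) := ⟨Nat.prime_two⟩
  have hti : t⁻¹ = t := inv_of_sq ht2
  have hvi : v⁻¹ = v := inv_of_sq hv2
  have hpt : IsPGroup 2 (zpowers t) := N22.isPGroup_zpowers 2 t 1 (by simpa using ht2)
  have hpv : IsPGroup 2 (zpowers v) := N22.isPGroup_zpowers 2 v 1 (by simpa using hv2)
  have hnorm : zpowers t ≤ normalizer ((zpowers v : Subgroup G) : Set G) := by
    rw [Subgroup.zpowers_le]
    apply Subgroup.centralizer_le_normalizer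
    rw [mem_centralizer_iff]
    intro h hh
    obtain ⟨j, rfl⟩ := mem_zpowers_iff.mp hh
    exact (Commute.zpow_left (show Commute v t from hc) j)
  obtain ⟨S, hS⟩ := (IsPGroup.to_sup_of_normal_right' hpt hpv hnorm).exists_le_sylow
  have htS : t ∈ (S : Subgroup G) := hS (mem_sup_left (mem_zpowers t))
  have hvS : v ∈ (S : Subgroup G) := hS (mem_sup_right (mem_zpowers v))
  have hcard := hS4 S
  have htv1 : t * v ≠ 1 := by
    intro e
    apply hvt
    have h1 : v = t⁻¹ := eq_inv_of_mul_eq_one_right e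
    rw [h1, hti]
  have helem : ∀ s ∈ (S : Subgroup G), s = 1 ∨ s = t ∨ s = v ∨ s = t * v := by
    intro s hs
    by_contra hcon
    push Not at hcon
    obtain ⟨h1, h2, h3, h4⟩ := hcon
    have hsub : ((({1, t, v, t * v, s} : Finset G)) : Set G) ⊆ ((S : Subgroup G) : Set G) := by
      intro x hx
      simp only [Finset.coe_insert, Finset.coe_singleton, Set.mem_insert_iff,
        Set.mem_singleton_iff] at hx
      rcases hx with rfl | rfl | rfl | rfl | rfl
      · exact one_mem _
      · exact htS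
      · exact hvS
      · exact mul_mem htS hvS
      · exact hs
    have hle := Set.ncard_le_ncard hsub (Set.toFinite _)
    rw [Set.ncard_coe_finset] at hle
    have hc5 : ({1, t, v, t * v, s} : Finset G).card = 5 := by
      rw [Finset.card_insert_of_notMem, Finset.card_insert_of_notMem,
        Finset.card_insert_of_notMem, Finset.card_insert_of_notMem, Finset.card_singleton]
      · simp only [Finset.mem_singleton]
        exact Ne.symm h4
      · simp only [Finset.mem_insert, Finset.mem_singleton, not_or]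
        refine ⟨fun e => ht1 ?_, Ne.symm h3⟩
        have e' : 1 * v = t * v := by rw [one_mul]; exact e
        exact (mul_right_cancel e').symm
      · simp only [Finset.mem_insert, Finset.mem_singleton, not_or]
        refine ⟨Ne.symm hvt, fun e => hv1 ?_, Ne.symm h2⟩
        have e' : t * 1 = t * v := by rw [mul_one]; exact e
        exact (mul_left_cancel e').symm
      · simp only [Finset.mem_insert, Finset.mem_singleton, not_or]
        exact ⟨Ne.symm ht1, Ne.symm hv1, Ne.symm htv1, Ne.symm h1⟩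
    have hS' : ((S : Subgroup G) : Set G).ncard = 4 := by
      rw [← hcard]
      exact (Nat.card_coe_set_eq _).symm
    omega
  haveI : IsMulCommutative (S : Subgroup G) :=
    IsPGroup.isMulCommutative_of_card_eq_prime_sq (p := 2) (by rw [hcard]; norm_num)
  have hSC : (S : Subgroup G) ≤ centralizer ((S : Subgroup G) : Set G) :=
    Subgroup.le_centralizer (S : Subgroup G)
  have hSbot : (S : Subgroup G) ≠ ⊥ := by
    intro e
    rw [e, Subgroup.mem_bot] at htS
    exact ht1 htS
  have hNC := simple_not_normalizer_le_centralizer hG S hSbot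
  obtain ⟨g, hgN, hgC⟩ := SetLike.not_le_iff_exists.mp hNC
  have hNtop := simple_normalizer_ne_top (S : Subgroup G) hSbot (sylow_ne_top hG S)
  have h2N : 2 ∣ Nat.card (normalizer ((S : Subgroup G) : Set G)) :=
    SylPrime.dvd_card_of_mem _ 2 t (Subgroup.le_normalizer htS) ht1 ht2
  have hNdvd := heven _ hNtop h2N
  have hmul := S4304.card_mul_relIndex_of_le
    (Subgroup.centralizer_le_normalizer ((S : Subgroup G) : Set G))
  have hodd : Odd ((centralizer ((S : Subgroup G) : Set G)).relIndex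
      (normalizer ((S : Subgroup G) : Set G))) := by
    obtain ⟨a, ha⟩ : 4 ∣ Nat.card (centralizer ((S : Subgroup G) : Set G)) := by
      rw [← hcard]
      exact Subgroup.card_dvd_of_le hSC
    obtain ⟨b, hb⟩ := hNdvd
    rw [ha] at hmul
    rw [← hmul] at hb
    have h1 : m = ((centralizer ((S : Subgroup G) : Set G)).relIndex
        (normalizer ((S : Subgroup G) : Set G))) * (a * b) := by
      have h2 : 4 * m = 4 * (((centralizer ((S : Subgroup G) : Set G)).relIndex
        (normalizer ((S : Subgroup G) : Set G))) * (a * b)) := by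
        rw [hb]; ring
      exact Nat.eq_of_mul_eq_mul_left (by norm_num) h2
    exact Odd.of_dvd_nat modd ⟨_, h1⟩
  have hpow : ∀ x ∈ normalizer ((S : Subgroup G) : Set G),
      x ^ 2 ∈ centralizer ((S : Subgroup G) : Set G) →
      x ∈ centralizer ((S : Subgroup G) : Set G) := by
    intro x hx hx2
    haveI := S4304.centralizer_subgroupOf_normalizer_normal (S : Subgroup G)
    have h1 := Subgroup.pow_index_mem ((centralizer ((S : Subgroup G) : Set G)).subgroupOf
      (normalizer ((S : Subgroup G) : Set G))) ⟨x, hx⟩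
    rw [Subgroup.mem_subgroupOf] at h1
    have h2 : x ^ ((centralizer ((S : Subgroup G) : Set G)).relIndex
        (normalizer ((S : Subgroup G) : Set G))) ∈ centralizer ((S : Subgroup G) : Set G) := h1
    obtain ⟨k, hk⟩ := hodd
    rw [hk, pow_succ, pow_mul] at h2
    exact (Subgroup.mul_mem_cancel_left _ (pow_mem hx2 k)).mp h2
  have hcent_of : ∀ x : G, x * t = t * x → x * v = v * x →
      x ∈ centralizer ((S : Subgroup G) : Set G) := by
    intro x hxt hxv
    rw [mem_centralizer_iff]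
    intro s hs
    rcases helem s hs with rfl | rfl | rfl | rfl
    · simp
    · exact hxt.symm
    · exact hxv.symm
    · calc t * v * x = t * (v * x) := mul_assoc _ _ _
        _ = t * (x * v) := by rw [hxv]
        _ = (t * x) * v := (mul_assoc _ _ _).symm
        _ = (x * t) * v := by rw [hxt]
        _ = x * (t * v) := mul_assoc _ _ _
  have hconjS : ∀ s ∈ (S : Subgroup G), g * s * g⁻¹ ∈ (S : Subgroup G) := fun s hs =>
    (Subgroup.mem_normalizer_iff.mp hgN s).mp hs
  have hmulc : ∀ a b : G, g * (a * b) * g⁻¹ = (g * a * g⁻¹) * (g * b * g⁻¹) := by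
    intro a b; group
  have hsq : ∀ a : G, g ^ 2 * a * (g ^ 2)⁻¹ = g * (g * a * g⁻¹) * g⁻¹ := by
    intro a
    rw [sq, mul_inv_rev]
    simp only [mul_assoc]
  have hcomm_of : ∀ x a : G, x * a * x⁻¹ = a → x * a = a * x := by
    intro x a h
    rwa [mul_inv_eq_iff_eq_mul] at h
  have hg2N : g ^ 2 ∈ normalizer ((S : Subgroup G) : Set G) := pow_mem hgN 2
  have hne1 : ∀ a : G, a ≠ 1 → g * a * g⁻¹ ≠ 1 := by
    intro a ha e
    apply ha
    have h1 : a = g⁻¹ * (g * a * g⁻¹) * g := by group
    rw [h1, e]; group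
  have hinj : ∀ a b : G, g * a * g⁻¹ = g * b * g⁻¹ → a = b := by
    intro a b e
    simpa using e
  rcases helem _ (hconjS t htS) with e1 | e1 | e1 | e1
  · exact absurd e1 (hne1 t ht1)
  · -- g fixes t
    rcases helem _ (hconjS v hvS) with e2 | e2 | e2 | e2
    · exact absurd e2 (hne1 v hv1)
    · exact absurd (hinj _ _ (e2.trans e1.symm)) hvt
    · exact absurd (hcent_of g (hcomm_of g t e1) (hcomm_of g v e2)) hgC
    · exfalso
      apply hgC
      apply hpow g hgN
      apply hcent_of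
      · apply hcomm_of
        rw [hsq, e1, e1]
      · apply hcomm_of
        rw [hsq, e2, hmulc, e1, e2, ← mul_assoc, ← sq, ht2, one_mul]
  · exact isConj_iff.mpr ⟨g, e1⟩
  · rcases helem _ (hconjS v hvS) with e2 | e2 | e2 | e2
    · exact absurd e2 (hne1 v hv1)
    · -- g² conjugates t to v
      refine isConj_iff.mpr ⟨g ^ 2, ?_⟩
      rw [hsq, e1, hmulc, e1, e2, mul_assoc, hc, ← mul_assoc, ← sq, ht2, one_mul]
    · exfalso
      apply hgC
      apply hpow g hgN
      apply hcent_of
      · apply hcomm_of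
        rw [hsq, e1, hmulc, e1, e2, mul_assoc, ← sq, hv2, mul_one]
      · apply hcomm_of
        rw [hsq, e2, e2]
    · exact absurd (hinj _ _ (e2.trans e1.symm)) hvt


end setup

/-- Let G be a finite group with an abelian Sylow 3-subgroup P such that the normalizer of P has order 4·#P, the centralizer C of P has order 2·#P, C meets each of its conjugates by elements outside its normalizer trivially, and every proper subgroup of G of even order has order dividing 4·#P. Then G is not simple. -/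
theorem result {G : Type*} [Group G] [Finite G]
    (P : Sylow 3 G) (hab : IsMulCommutative P)
    (hN : Nat.card (Subgroup.normalizer ((P : Subgroup G) : Set G)) = 4 * Nat.card P)
    (hC : Nat.card (Subgroup.centralizer (P : Set G)) = 2 * Nat.card P)
    (hTI : Cfsg.IsTISubset (Subgroup.centralizer (P : Set G) : Set G))
    (heven : ∀ H : Subgroup G, H ≠ ⊤ → 2 ∣ Nat.card H → Nat.card H ∣ 4 * Nat.card P) :
    ¬ IsSimpleGroup G := by
  intro hS
  haveI : Fact (Nat.Prime 2) := ⟨Nat.prime_two⟩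
  haveI : Fact (Nat.Prime 3) := ⟨Nat.prime_three⟩
  obtain ⟨m, hm⟩ : ∃ m, m = Nat.card P := ⟨_, rfl⟩
  obtain ⟨C, hCdef⟩ : ∃ C : Subgroup G, C = centralizer ((P : Subgroup G) : Set G) := ⟨_, rfl⟩
  have hcardP : Nat.card (P : Subgroup G) = m := by rw [hm]
  have hN' : Nat.card (normalizer ((P : Subgroup G) : Set G)) = 4 * m := by rw [hm]; exact hN
  have hC' : Nat.card C = 2 * m := by rw [hCdef, hm]; exact hC
  have hTI' : Cfsg.IsTISubset (C : Set G) := by rw [hCdef]; exact hTI
  have heven' : ∀ H : Subgroup G, H ≠ ⊤ → 2 ∣ Nat.card H → Nat.card H ∣ 4 * m := by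
    rw [hm]; exact heven
  have hmpos : 0 < m := by rw [← hcardP]; exact Nat.card_pos
  obtain ⟨k, hk⟩ := IsPGroup.iff_card.mp P.isPGroup'
  rw [hcardP] at hk
  have modd : Odd m := by rw [hk]; exact Odd.pow (by decide)
  have hG : ¬ IsMulCommutative G := by
    intro hcomm
    have h1 : centralizer ((P : Subgroup G) : Set G) = ⊤ := by
      rw [eq_top_iff]
      intro g _
      rw [mem_centralizer_iff]
      intro h _
      exact hcomm.is_comm.comm h g
    have h2 : normalizer ((P : Subgroup G) : Set G) = ⊤ := by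
      rw [eq_top_iff, ← h1]
      exact centralizer_le_normalizer _
    rw [hCdef, h1] at hC'
    rw [h2] at hN'
    omega
  have hPC : (P : Subgroup G) ≤ C := by
    rw [hCdef]
    haveI : IsMulCommutative (P : Subgroup G) := hab
    exact Subgroup.le_centralizer (P : Subgroup G)
  have hcentP : ∀ c ∈ C, ∀ x ∈ (P : Subgroup G), c * x = x * c := by
    intro c hc x hx
    rw [hCdef, mem_centralizer_iff] at hc
    exact (hc x hx).symm
  obtain ⟨t, htC, ht1, ht2⟩ := SylPrime.exists_mem_pow_eq_one C 2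
    (by rw [hC']; exact dvd_mul_right 2 m)
  have uniq : ∀ c ∈ C, c ^ 2 = 1 → c = 1 ∨ c = t := by
    intro c hc hc2
    by_contra hcon
    push Not at hcon
    have hT : ∀ s ∈ ({1, t, c} : Set G), s ∈ C ∧ s ^ 2 = 1 := by
      intro s hs
      rcases hs with rfl | rfl | rfl
      · exact ⟨one_mem _, one_pow _⟩
      · exact ⟨htC, ht2⟩
      · exact ⟨hc, hc2⟩
    have h1 := card_invol_mul_le (P : Subgroup G) C hcentP hPC (by rw [hcardP]; exact modd) _ hT
    have h2 : ({1, t, c} : Set G).ncard = 3 :=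
      Set.ncard_eq_three.mpr ⟨1, t, c, Ne.symm ht1, Ne.symm hcon.1, Ne.symm hcon.2, rfl⟩
    rw [h2, hcardP, hC'] at h1
    omega
  have hconj_t : ∀ g : G, g * t * g⁻¹ ∈ C → g * t = t * g := by
    intro g hconjC
    have h2 : (g * t * g⁻¹) ^ 2 = 1 := by rw [conj_pow, ht2, mul_one, mul_inv_cancel]
    rcases uniq _ hconjC h2 with h3 | h3
    · exfalso
      apply ht1
      have h4 : t = g⁻¹ * (g * t * g⁻¹) * g := by group
      rw [h4, h3]
      group
    · exact mul_inv_eq_iff_eq_mul.mp h3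
  have hNt : normalizer ((P : Subgroup G) : Set G) ≤ centralizer ({t} : Set G) := by
    intro g hg
    rw [mem_centralizer_singleton_iff]
    apply hconj_t
    rw [hCdef, mem_centralizer_iff]
    intro x hx
    have hx' : g⁻¹ * x * g ∈ (P : Subgroup G) := by
      rw [Subgroup.mem_normalizer_iff] at hg
      rw [hg (g⁻¹ * x * g)]
      have h5 : g * (g⁻¹ * x * g) * g⁻¹ = x := by group
      rw [h5]
      exact hx
    have h1 := hcentP t htC _ hx'
    calc x * (g * t * g⁻¹) = g * ((g⁻¹ * x * g) * t) * g⁻¹ := by group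
      _ = g * (t * (g⁻¹ * x * g)) * g⁻¹ := by rw [h1]
      _ = g * t * g⁻¹ * x := by group
  have htop : centralizer ({t} : Set G) ≠ ⊤ := simple_centralizer_ne_top hG ht1
  have h2t : 2 ∣ Nat.card (centralizer ({t} : Set G)) :=
    SylPrime.dvd_card_of_mem _ 2 t (by rw [mem_centralizer_singleton_iff]) ht1 ht2
  have hdvd := heven' _ htop h2t
  have hNeq : normalizer ((P : Subgroup G) : Set G) = centralizer ({t} : Set G) := by
    apply Subgroup.eq_of_le_of_card_ge hNt
    rw [hN']
    exact Nat.le_of_dvd (by omega) hdvd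
  have hcardt : Nat.card (centralizer ({t} : Set G)) = 4 * m := by rw [← hNeq, hN']
  have hCt : C ≤ centralizer ({t} : Set G) := by
    rw [← hNeq, hCdef]
    exact centralizer_le_normalizer _
  have cent : ∀ c ∈ C, c * t = t * c := fun c hc => mem_centralizer_singleton_iff.mp (hCt hc)
  have hidx : C.relIndex (centralizer ({t} : Set G)) = 2 := by
    have h1 := S4304.card_mul_relIndex_of_le hCt
    rw [hC', hcardt] at h1
    have h2 : 2 * m * C.relIndex (centralizer ({t} : Set G)) = 2 * m * 2 := by rw [h1]; ring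
    exact Nat.eq_of_mul_eq_mul_left (by omega) h2
  have idx2 : ∀ a b : G, a * t = t * a → b * t = t * b → a ∉ C → b ∉ C → a * b ∈ C := by
    intro a b ha hb haC hbC
    have ha' : a ∈ centralizer ({t} : Set G) := mem_centralizer_singleton_iff.mpr ha
    have hb' : b ∈ centralizer ({t} : Set G) := mem_centralizer_singleton_iff.mpr hb
    have h1 := Subgroup.mul_mem_iff_of_index_two
      (H := C.subgroupOf (centralizer ({t} : Set G))) hidx (a := ⟨a, ha'⟩) (b := ⟨b, hb'⟩)
    rw [Subgroup.mem_subgroupOf, Subgroup.mem_subgroupOf, Subgroup.mem_subgroupOf] at h1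
    exact h1.mpr ⟨fun h => absurd h haC, fun h => absurd h hbC⟩
  have ti : ∀ c ∈ C, c ≠ 1 → ∀ g : G, g * c * g⁻¹ ∈ C → g * t = t * g := by
    intro c hc hc1 g hg
    have hgN : g ∈ normalizer (C : Set G) := by
      by_contra hcon
      exact hc1 (hTI' g hcon c hc hg)
    exact hconj_t g ((Subgroup.mem_normalizer_iff.mp hgN t).mp htC)
  have h3 : ∀ y : G, y ^ m = 1 → ∃ g : G, g⁻¹ * y * g ∈ C := by
    intro y hy
    rw [hk] at hy
    obtain ⟨Q, hQ⟩ := (N22.isPGroup_zpowers 3 y k hy).exists_le_sylow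
    obtain ⟨g, hg⟩ := MulAction.exists_smul_eq G P Q
    refine ⟨g, hPC ?_⟩
    rw [← S4304.mem_smul_sylow, hg]
    exact hQ (mem_zpowers y)
  have h4G : 4 ∣ Nat.card G := by
    have h1 := Subgroup.card_subgroup_dvd_card (normalizer ((P : Subgroup G) : Set G))
    rw [hN'] at h1
    exact (dvd_mul_right 4 m).trans h1
  have hS4 := sylow_two_card hG m modd h4G heven'
  have fusion : ∀ v : G, v ^ 2 = 1 → v ≠ 1 → v ≠ t → v * t = t * v → IsConj t v :=
    fun v hv2 hv1 hvt hc => fusion_klein hG m modd heven' hS4 t v ht1 ht2 hv2 hv1 hvt hc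
  have key : ∀ v, IsConj t v → v ≠ t → ∃ w, Nb t t v w ∧ ∀ w', Nb t t v w' → w' = w := by
    intro v hv hvt
    by_cases hc : v * t = t * v
    · exact key_comm C t ht1 ht2 uniq idx2 fusion v hv hvt hc
    · exact key_noncomm C t m ht1 ht2 uniq cent idx2 ti h3 heven' fusion v hv hvt hc
  exact graph_false hG t ht1 (key_pair t key)

end Cfsg.Agent.S4018
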