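import Cfsg.Statements.S4016
import Cfsg.Agent.S4018
import Cfsg.Agent.Lib.Helper76.CycSylA
import Cfsg.Agent.Lib.Helper76.CycSylB

set_option autoImplicit false
open Cfsg

/-! S4016: a cyclic Sylow `p`-subgroup `P` with all `p'`-subgroups abelian: `G` has a normal
`p`-complement or `P` is normal.  Proof: a minimal counterexample `G` is simple, with
`N(P) ≠ C(P)` (Burnside); every Sylow `q`-subgroup (`q ≠ p`) has order `≡ 1 (mod p)` (transfer
into the abelian Sylow `q`-subgroup), which forces `p = 3`, `|N(P)| = 4|P|`, `|C(P)| = 2|P|`;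
this configuration is excluded by S4018. -/

namespace Cfsg.Agent.S4016

open Subgroup
open Cfsg.Agent.Lib.Helper76.CS

universe u

theorem main (p : ℕ) [hp : Fact p.Prime] : ∀ n : ℕ, ∀ (G : Type u) [Group G] [Finite G],
    Nat.card G = n → (∀ S : Sylow p G, IsCyclic (S : Subgroup G)) →
    (∀ H : Subgroup G, ¬ p ∣ Nat.card H → IsMulCommutative H) →
    ∀ P : Sylow p G, Cfsg.HasNormalPComplement p G ∨ (P : Subgroup G).Normal := by
  intro n
  induction n using Nat.strong_induction_on with
  | _ n ih =>
    intro G _ _ hn hcyc hab P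
    by_contra hcon
    push Not at hcon
    obtain ⟨hnc, hnn⟩ := hcon
    have hNC : ¬ normalizer ((P : Subgroup G) : Set G) ≤
        centralizer ((P : Subgroup G) : Set G) := by
      intro h
      apply hnc
      exact ⟨P, _, MonoidHom.normal_ker _, MonoidHom.ker_transferSylow_isComplement' P h⟩
    obtain ⟨n₀, hn₀N, hn₀C⟩ := SetLike.not_le_iff_exists.mp hNC
    obtain ⟨a, b, ha, hb, hnab, ⟨j, hj⟩, hbo⟩ := exists_parts p n₀
    have hzN : zpowers n₀ ≤ normalizer ((P : Subgroup G) : Set G) := by
      rw [zpowers_le]; exact hn₀N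
    have haP : a ∈ P := mem_sylow_of_normalizer P (hzN ha) hj
    have hcP := hcyc P
    have hbC : b ∉ centralizer ((P : Subgroup G) : Set G) := by
      intro hbC
      apply hn₀C
      rw [hnab]
      refine mul_mem ?_ hbC
      rw [mem_centralizer_iff]
      intro z hz
      exact cyc_comm (P : Subgroup G) hz haP
    have hkne : ∃ h ∈ P, b * h * b⁻¹ ≠ h := by
      by_contra hcon
      push Not at hcon
      apply hbC
      rw [mem_centralizer_iff]
      intro z hz
      have h1 := hcon z hz
      calc z * b = b * z * b⁻¹ * b := by rw [h1]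
        _ = b * z := by group
    have hdich : ∀ H : Subgroup G, H ≠ ⊤ → Dich p H := by
      intro H hH
      apply dich_of_subtype
      have hlt : Nat.card H < n := by
        rw [← hn]
        exact lt_of_le_of_ne (Subgroup.card_le_card_group H)
          (fun h => hH (Subgroup.eq_top_of_card_eq H h))
      obtain ⟨S₀⟩ := (Sylow.nonempty : Nonempty (Sylow p H))
      rcases ih (Nat.card H) hlt H rfl (isCyclic_sylow_subtype hcyc H) (hab_subtype hab H) S₀
        with h | h
      · left; exact h
      · right; exact ⟨S₀, h⟩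
    have mc : MC p P b := ⟨hcyc P, hab, hnn, hzN hb, hbo, hkne, hdich⟩
    obtain ⟨hp3, hN, hC, hTI, heven⟩ := mc.final
    subst hp3
    have hPc : IsMulCommutative (P : Subgroup G) :=
      ⟨⟨fun x y => Subtype.ext (cyc_comm (P : Subgroup G) x.2 y.2)⟩⟩
    exact S4018.result P hPc hN hC hTI heven mc.simple

/-- Let G be a finite group and p a prime such that a Sylow p-subgroup P of G is cyclic and every subgroup of G of order prime to p is abelian. Then G has a normal p-complement or P is normal in G. -/
theorem result {G : Type*} [Group G] [Finite G] {p : ℕ}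
    [Fact p.Prime] (P : Sylow p G) (hcyc : IsCyclic P)
    (hab : ∀ H : Subgroup G, ¬ p ∣ Nat.card H → IsMulCommutative H) :
    Cfsg.HasNormalPComplement p G ∨ (P : Subgroup G).Normal := by
  exact main p (Nat.card G) G rfl (fun S => (MulEquiv.isCyclic (Sylow.equiv P S)).mp hcyc) hab P

end Cfsg.Agent.S4016
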