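import Cfsg.Statements.S4113
import Mathlib
import Cfsg.Agent.Lib.Helper73.Count

set_option autoImplicit false
open Cfsg

namespace Cfsg.Agent.S4113

open Cfsg.Agent.Lib.Helper73
open scoped Pointwise

lemma mem_map_conj {G : Type*} [Group G] (H : Subgroup G) (g a : G) :
    a ∈ H.map (MulAut.conj g).toMonoidHom ↔ ∃ b ∈ H, a = g * b * g⁻¹ := by
  rw [Subgroup.mem_map]
  constructor
  · rintro ⟨b, hb, rfl⟩
    exact ⟨b, hb, by simp⟩
  · rintro ⟨b, hb, rfl⟩
    exact ⟨b, hb, by simp⟩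

lemma forward {G : Type*} [Group G] [Finite G] (N M : Subgroup G) [N.Normal] [M.Normal] (hMN : M ≤ N) (hM1 : M ≠ ⊥) (hN2 : N ≠ ⊤)
    (H : Subgroup G) (hHM : H ⊔ M = ⊤) (hHM' : H ⊓ M = ⊥)
    (h : ∀ x ∈ M, x ≠ 1 → Subgroup.centralizer ({x} : Set G) ≤ N) :
    (H ≠ ⊥ ∧ H ≠ ⊤ ∧ H ⊓ N < H ∧ ∀ g : G, g ∉ H → H ⊓ H.map (MulAut.conj g).toMonoidHom ≤ N) := by
  refine ⟨?_, ?_, ?_, ?_⟩
  · intro hb
    rw [hb, bot_sup_eq] at hHM
    rw [hHM] at hMN
    exact hN2 (top_le_iff.mp hMN)
  · intro ht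
    rw [ht, top_inf_eq] at hHM'
    exact hM1 hHM'
  · refine lt_of_le_of_ne inf_le_left ?_
    intro he
    have hHN : H ≤ N := by rw [← he]; exact inf_le_right
    apply hN2
    apply top_le_iff.mp
    rw [← hHM]
    exact sup_le hHN hMN
  · intro g hg a ha
    obtain ⟨haH, haconj⟩ := ha
    obtain ⟨b, hbH, hab⟩ := (mem_map_conj H g a).mp haconj
    have hgmem : g ∈ (M : Set G) * (H : Set G) := by
      rw [← Subgroup.normal_mul M H, sup_comm, hHM]; trivial
    obtain ⟨m, hm, k, hk, hgmk⟩ := Set.mem_mul.mp hgmem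
    have hm1 : m ≠ 1 := by
      intro hm1
      apply hg
      rw [← hgmk, hm1, one_mul]; exact hk
    set b' : G := k * b * k⁻¹ with hb'
    have hb'H : b' ∈ H := H.mul_mem (H.mul_mem hk hbH) (H.inv_mem hk)
    have habG : a = m * b' * m⁻¹ := by
      rw [hab, ← hgmk, hb']; group
    have h1 : a * b'⁻¹ = 1 := by
      have hmem : a * b'⁻¹ ∈ H ⊓ M := by
        refine ⟨H.mul_mem haH (H.inv_mem hb'H), ?_⟩
        have : a * b'⁻¹ = m * (b' * m⁻¹ * b'⁻¹) := by rw [habG]; group
        rw [this]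
        exact M.mul_mem hm (Subgroup.Normal.conj_mem inferInstance m⁻¹ (M.inv_mem hm) b')
      rw [hHM'] at hmem
      exact Subgroup.mem_bot.mp hmem
    have hab' : a = b' := mul_inv_eq_one.mp h1
    have hacent : a ∈ Subgroup.centralizer ({m} : Set G) := by
      rw [Subgroup.mem_centralizer_iff]
      intro y hy
      rw [Set.mem_singleton_iff] at hy
      subst hy
      have : a = y * a * y⁻¹ := by
        conv_lhs => rw [habG, ← hab']
      calc y * a = (y * a * y⁻¹) * y := by group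
        _ = a * y := by rw [← this]
    exact h m hm hm1 hacent

lemma backward {G : Type*} [Group G] [Finite G] (N M : Subgroup G) [N.Normal] [M.Normal] (hMN : M ≤ N)
    (H : Subgroup G) (hHM : H ⊔ M = ⊤) (hHM' : H ⊓ M = ⊥)
    (hti : ∀ g : G, g ∉ H → H ⊓ H.map (MulAut.conj g).toMonoidHom ≤ N) :
    ∀ x ∈ M, x ≠ 1 → Subgroup.centralizer ({x} : Set G) ≤ N := by
  classical
  intro x hxM hx1 c hc
  by_contra hcN
  let S : Set G := {s | s ∈ H ∧ s ∉ N}
  have hinv : ∀ h ∈ H, ∀ s ∈ S, h * s * h⁻¹ ∈ S := by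
    rintro h hh s ⟨hsH, hsN⟩
    refine ⟨H.mul_mem (H.mul_mem hh hsH) (H.inv_mem hh), ?_⟩
    intro hc
    apply hsN
    have := Subgroup.Normal.conj_mem (inferInstance : N.Normal) _ hc h⁻¹
    have h2 : h⁻¹ * (h * s * h⁻¹) * h⁻¹⁻¹ = s := by group
    rw [h2] at this
    exact this
  have hti' : ∀ g : G, g ∉ H → ∀ s ∈ S, g * s * g⁻¹ ∉ S := by
    rintro g hg s ⟨hsH, hsN⟩ ⟨hgsH, hgsN⟩
    apply hgsN
    apply hti g hg
    exact ⟨hgsH, (mem_map_conj H g _).mpr ⟨s, hsH, rfl⟩⟩
  have hcount := ti_count H S hinv hti'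
  -- cardinalities
  have hcomp : Subgroup.IsComplement' H M := by
    apply Subgroup.isComplement'_of_disjoint_and_mul_eq_univ (disjoint_iff.mpr hHM')
    rw [← Subgroup.mul_normal H M, hHM]; rfl
  have hG : Nat.card H * Nat.card M = Nat.card G := hcomp.card_mul_card
  -- card S + card (H ⊓ N) = card H
  have hS : Nat.card S + Nat.card (H ⊓ N : Subgroup G) = Nat.card H := by
    have e1 : S ≃ {h : H // (h : G) ∉ N} :=
      { toFun := fun s => ⟨⟨s.1, s.2.1⟩, s.2.2⟩
        invFun := fun h => ⟨h.1.1, h.1.2, h.2⟩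
        left_inv := fun s => rfl
        right_inv := fun h => rfl }
    have e2 : (H ⊓ N : Subgroup G) ≃ {h : H // (h : G) ∈ N} :=
      { toFun := fun s => ⟨⟨s.1, s.2.1⟩, s.2.2⟩
        invFun := fun h => ⟨h.1.1, h.1.2, h.2⟩
        left_inv := fun s => rfl
        right_inv := fun h => rfl }
    rw [Nat.card_congr e1, Nat.card_congr e2, add_comm, ← Nat.card_sum]
    exact Nat.card_congr (Equiv.sumCompl (fun h : H => (h : G) ∈ N))
  -- card N = card M * card (H ⊓ N)
  have hN : Nat.card H * Nat.card N = Nat.card G * Nat.card (H ⊓ N : Subgroup G) := by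
    have h1 : N.relIndex (H ⊔ N) = N.relIndex H := Subgroup.relIndex_sup_right H N
    have htop : H ⊔ N = ⊤ := by
      apply top_le_iff.mp
      rw [← hHM]
      exact sup_le le_sup_left (le_trans hMN le_sup_right)
    rw [htop, Subgroup.relIndex_top_right] at h1
    have h2 : Nat.card (H ⊓ N : Subgroup G) * N.relIndex H = Nat.card H := by
      have := Subgroup.card_mul_index (N.subgroupOf H)
      rw [← this]
      congr 1
      have e : (H ⊓ N : Subgroup G) ≃ N.subgroupOf H :=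
        { toFun := fun s => ⟨⟨s.1, s.2.1⟩, Subgroup.mem_subgroupOf.mpr s.2.2⟩
          invFun := fun h => ⟨h.1.1, h.1.2, Subgroup.mem_subgroupOf.mp h.2⟩
          left_inv := fun s => rfl
          right_inv := fun h => rfl }
      exact Nat.card_congr e
    have h3 : Nat.card N * N.index = Nat.card G := Subgroup.card_mul_index N
    rw [← h2, ← h3, ← h1]; ring
  -- card of the complement of N
  have hV : Nat.card {y : G // y ∉ N} + Nat.card N = Nat.card G := by
    rw [add_comm, ← Nat.card_sum]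
    exact Nat.card_congr (Equiv.sumCompl (fun y : G => y ∈ N))
  let U := {y : G // ∃ g : G, ∃ s ∈ S, y = g * s * g⁻¹}
  have hUV : ∀ y : U, (y : G) ∉ N := by
    rintro ⟨y, g, s, ⟨hsH, hsN⟩, rfl⟩ hc
    apply hsN
    have := Subgroup.Normal.conj_mem (inferInstance : N.Normal) _ hc g⁻¹
    have h2 : g⁻¹ * (g * s * g⁻¹) * g⁻¹⁻¹ = s := by group
    rw [h2] at this
    exact this
  let ι : U → {y : G // y ∉ N} := fun y => ⟨y.1, hUV y⟩
  have hι : Function.Injective ι := by
    intro y y' h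
    exact Subtype.ext (congrArg (fun z : {y : G // y ∉ N} => (z : G)) h)
  have hHpos : 0 < Nat.card H := Nat.card_pos
  have hcardle : Nat.card {y : G // y ∉ N} ≤ Nat.card U := by
    have hcount' : Nat.card U * Nat.card H = Nat.card G * Nat.card S := hcount
    have key : Nat.card {y : G // y ∉ N} * Nat.card H = Nat.card U * Nat.card H := by
      rw [hcount']
      have : (Nat.card {y : G // y ∉ N} + Nat.card N) * Nat.card H =
          Nat.card G * (Nat.card S + Nat.card (H ⊓ N : Subgroup G)) := by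
        rw [hV, hS]
      have hN' : Nat.card N * Nat.card H = Nat.card G * Nat.card (H ⊓ N : Subgroup G) := by
        rw [mul_comm]; exact hN
      rw [add_mul, mul_add, hN'] at this
      exact Nat.add_right_cancel this
    exact (Nat.eq_of_mul_eq_mul_right hHpos key).le
  have hbij := hι.bijective_of_nat_card_le hcardle
  obtain ⟨⟨y, g, s, ⟨hsH, hsN⟩, hy⟩, hyc⟩ := hbij.2 ⟨c, hcN⟩
  have hcy : c = g * s * g⁻¹ := by
    have := congrArg (fun z : {y : G // y ∉ N} => (z : G)) hyc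
    simp only [ι] at this
    rw [← this, hy]
  -- x' = g⁻¹ x g commutes with s
  set x' : G := g⁻¹ * x * g with hx'
  have hx'M : x' ∈ M := by
    have := Subgroup.Normal.conj_mem (inferInstance : M.Normal) _ hxM g⁻¹
    simpa [hx'] using this
  have hx'1 : x' ≠ 1 := by
    intro h1
    apply hx1
    have : x = g * x' * g⁻¹ := by rw [hx']; group
    rw [this, h1]; group
  have hcomm : x * c = c * x := by
    rw [Subgroup.mem_centralizer_iff] at hc
    exact hc x rfl
  have hcomm' : x' * s * x'⁻¹ = s := by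
    have h1 : x' * s = s * x' := by
      calc x' * s = g⁻¹ * (x * (g * s * g⁻¹)) * g := by rw [hx']; group
        _ = g⁻¹ * (x * c) * g := by rw [hcy]
        _ = g⁻¹ * (c * x) * g := by rw [hcomm]
        _ = g⁻¹ * ((g * s * g⁻¹) * x) * g := by rw [hcy]
        _ = s * x' := by rw [hx']; group
    rw [h1]; group
  have hx'H : x' ∈ H := by
    by_contra hnot
    apply hsN
    apply hti x' hnot
    exact ⟨hsH, (mem_map_conj H x' s).mpr ⟨s, hsH, hcomm'.symm⟩⟩
  have : x' ∈ H ⊓ M := ⟨hx'H, hx'M⟩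
  rw [hHM'] at this
  exact hx'1 (Subgroup.mem_bot.mp this)

/-- Let G be a finite group, M ≤ N non-trivial proper normal subgroups, and H a subgroup with HM = G and H ∩ M = 1. Then every element of G outside N acts fixed-point-freely on M (C_G(x) ≤ N for every x ∈ M, x ≠ 1) if and only if H ∩ gHg⁻¹ ≤ H ∩ N for every g outside H, with H proper and non-trivial and H ∩ N proper in H. -/
theorem result {G : Type*} [Group G] [Finite G] (N M : Subgroup G) [N.Normal] [M.Normal] (hMN : M ≤ N) (hM1 : M ≠ ⊥) (hN2 : N ≠ ⊤)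
    (H : Subgroup G) (hHM : H ⊔ M = ⊤) (hHM' : H ⊓ M = ⊥) :
    (∀ x ∈ M, x ≠ 1 → Subgroup.centralizer ({x} : Set G) ≤ N) ↔
      (H ≠ ⊥ ∧ H ≠ ⊤ ∧ H ⊓ N < H ∧ ∀ g : G, g ∉ H → H ⊓ H.map (MulAut.conj g).toMonoidHom ≤ N) := by
  constructor
  · exact forward N M hMN hM1 hN2 H hHM hHM'
  · rintro ⟨-, -, -, hti⟩
    exact backward N M hMN H hHM hHM' hti

end Cfsg.Agent.S4113
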