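import Cfsg.Statements.S4126
import Mathlib
import Cfsg.Agent.Lib.Helper73.Count
import Cfsg.Agent.S1946

set_option autoImplicit false
open Cfsg

namespace Cfsg.Agent.S4126

open Cfsg.Agent.Lib.Helper73

/-- if the class of `x` has `p`-power size then every conjugate of `x` is a conjugate by an
element of any given Sylow `p`-subgroup -/
theorem exists_conj_sylow {G : Type*} [Group G] [Finite G] (p : ℕ) [hp : Fact p.Prime]
    (P : Sylow p G) (x : G) (a : ℕ) (hxa : (Subgroup.centralizer ({x} : Set G)).index = p ^ a)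
    (g : G) : ∃ u ∈ (P : Subgroup G), g * x * g⁻¹ = u * x * u⁻¹ := by
  have hmemC : ∀ g : G, g ∈ Subgroup.centralizer ({x} : Set G) ↔ x * g = g * x := by
    intro g
    rw [Subgroup.mem_centralizer_iff]
    simp only [Set.mem_singleton_iff, forall_eq]
  have hrel : (Subgroup.centralizer ({x} : Set G)).index ∣
      (Subgroup.centralizer ({x} : Set G)).relIndex (P : Subgroup G) := by
    have h1 := Subgroup.relIndex_mul_index (inf_le_right :
      Subgroup.centralizer ({x} : Set G) ⊓ (P : Subgroup G) ≤ (P : Subgroup G))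
    rw [Subgroup.inf_relIndex_right] at h1
    have h2 : (Subgroup.centralizer ({x} : Set G)).index ∣
        (Subgroup.centralizer ({x} : Set G) ⊓ (P : Subgroup G)).index :=
      Subgroup.index_dvd_of_le inf_le_left
    rw [← h1] at h2
    have hcop : ((Subgroup.centralizer ({x} : Set G)).index).Coprime ((P : Subgroup G).index) := by
      rw [hxa]
      exact Nat.Coprime.pow_left _ ((Nat.Prime.coprime_iff_not_dvd hp.1).mpr P.not_dvd_index)
    exact hcop.dvd_of_dvd_mul_right h2
  have hψ := card_range_mul_card_fiber (fun u : (P : Subgroup G) => (u : G) * x * (u : G)⁻¹)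
    ((Subgroup.centralizer ({x} : Set G)).subgroupOf (P : Subgroup G)) (by
      intro u v
      rw [Subgroup.mem_subgroupOf, hmemC]
      simp only [Subgroup.coe_mul, Subgroup.coe_inv]
      constructor
      · intro h
        calc x * ((u : G)⁻¹ * v) = (u : G)⁻¹ * ((u : G) * x * (u : G)⁻¹) * v := by group
          _ = (u : G)⁻¹ * ((v : G) * x * (v : G)⁻¹) * v := by rw [h]
          _ = (u : G)⁻¹ * v * x := by group
      · intro h
        calc (u : G) * x * (u : G)⁻¹ = (u : G) * (x * ((u : G)⁻¹ * v)) * (v : G)⁻¹ := by group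
          _ = (u : G) * ((u : G)⁻¹ * v * x) * (v : G)⁻¹ := by rw [h]
          _ = (v : G) * x * (v : G)⁻¹ := by group)
  have h3 := Subgroup.card_mul_index
    ((Subgroup.centralizer ({x} : Set G)).subgroupOf (P : Subgroup G))
  have h4 : Nat.card (Set.range (fun u : (P : Subgroup G) => (u : G) * x * (u : G)⁻¹)) =
      (Subgroup.centralizer ({x} : Set G)).relIndex (P : Subgroup G) := by
    have hpos : 0 < Nat.card ((Subgroup.centralizer ({x} : Set G)).subgroupOf (P : Subgroup G)) :=
      Nat.card_pos
    apply Nat.eq_of_mul_eq_mul_right hpos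
    rw [hψ, ← h3, mul_comm]
    rfl
  have h5 := card_conj_mul_card_centralizer x
  have h6 := Subgroup.card_mul_index (Subgroup.centralizer ({x} : Set G))
  have h7 : Nat.card {y : G // ∃ g : G, g * x * g⁻¹ = y} =
      (Subgroup.centralizer ({x} : Set G)).index := by
    have hpos : 0 < Nat.card (Subgroup.centralizer ({x} : Set G)) := Nat.card_pos
    apply Nat.eq_of_mul_eq_mul_right hpos
    rw [h5, mul_comm, h6]
  have hsub : Set.range (fun u : (P : Subgroup G) => (u : G) * x * (u : G)⁻¹) ⊆
      {y : G | ∃ g : G, g * x * g⁻¹ = y} := by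
    rintro _ ⟨u, rfl⟩; exact ⟨u, rfl⟩
  have heq := Set.eq_of_subset_of_ncard_le hsub (by
    rw [← Nat.card_coe_set_eq, ← Nat.card_coe_set_eq]
    show Nat.card {y : G // ∃ g : G, g * x * g⁻¹ = y} ≤ _
    rw [h7, h4]
    exact Nat.le_of_dvd (Nat.pos_of_ne_zero Subgroup.index_ne_zero_of_finite) hrel)
    (Set.toFinite _)
  have hg : g * x * g⁻¹ ∈ {y : G | ∃ g : G, g * x * g⁻¹ = y} := ⟨g, rfl⟩
  rw [← heq] at hg
  obtain ⟨u, hu⟩ := hg
  exact ⟨u, u.2, hu.symm⟩

/-- Let G be a finite group and p a prime. Suppose every element of order p, and when p = 2 also every element of order 4, has a conjugacy class of p-power size. Then G has a normal p-complement. -/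
theorem result {G : Type*} [Group G] [Finite G] (p : ℕ) [Fact p.Prime]
    (h : ∀ x : G, (orderOf x = p ∨ (p = 2 ∧ orderOf x = 4)) → ∃ a : ℕ, (Subgroup.centralizer ({x} : Set G)).index = p ^ a) :
    Cfsg.HasNormalPComplement p G := by
  have hp : p.Prime := Fact.out
  obtain ⟨P⟩ : Nonempty (Sylow p G) := inferInstance
  rw [Cfsg.Agent.S1946.result P]
  intro a _ ha g _
  by_cases ha1 : a = 1
  · exact ⟨1, Subgroup.one_mem _, by rw [ha1]; group⟩
  have hord : orderOf a = p ∨ (p = 2 ∧ orderOf a = 4) := by
    rcases ha with ha | ⟨hp2, ha⟩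
    · left
      exact orderOf_eq_prime ha ha1
    · have hd : orderOf a ∣ 2 ^ 2 := orderOf_dvd_of_pow_eq_one (by norm_num; exact ha)
      obtain ⟨j, hj, hjeq⟩ := (Nat.dvd_prime_pow Nat.prime_two).mp hd
      interval_cases j
      · exfalso; exact ha1 (orderOf_eq_one_iff.mp (by simpa using hjeq))
      · left; rw [hp2]; simpa using hjeq
      · right; exact ⟨hp2, by simpa using hjeq⟩
  obtain ⟨k, hk⟩ := h a hord
  exact exists_conj_sylow p P a k hk g

end Cfsg.Agent.S4126
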