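import Cfsg.Statements.S4145
import Mathlib

set_option autoImplicit false
open Cfsg

namespace Cfsg.Agent.S4145

open scoped Pointwise

theorem orderOf_conj' {G : Type*} [Group G] (c x : G) : orderOf (c * x * c⁻¹) = orderOf x :=
  MulEquiv.orderOf_eq (MulAut.conj c) x

/-- p-part / p'-part decomposition -/
theorem exists_decomp {G : Type*} [Group G] [Finite G] (p : ℕ) (hp : p.Prime) (x : G) :
    ∃ (i j : ℤ) (a : ℕ), x = x ^ i * x ^ j ∧ (x ^ i) ^ (p ^ a) = 1 ∧ ¬ p ∣ orderOf (x ^ j) := by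
  have hn : orderOf x ≠ 0 := (orderOf_pos x).ne'
  obtain ⟨a, n', hpn', hn'⟩ := Nat.exists_eq_pow_mul_and_not_dvd hn p hp.ne_one
  have hcop : Nat.Coprime (p ^ a) n' :=
    Nat.Coprime.pow_left _ ((Nat.Prime.coprime_iff_not_dvd hp).mpr hpn')
  have hb := Nat.gcd_eq_gcd_ab (p ^ a) n'
  rw [hcop.gcd_eq_one] at hb
  refine ⟨(n' : ℤ) * Nat.gcdB (p ^ a) n', ((p ^ a : ℕ) : ℤ) * Nat.gcdA (p ^ a) n', a, ?_, ?_, ?_⟩
  · rw [← zpow_add]
    have : (n' : ℤ) * Nat.gcdB (p ^ a) n' + ((p ^ a : ℕ) : ℤ) * Nat.gcdA (p ^ a) n' = 1 := by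
      rw [add_comm]; exact_mod_cast hb.symm
    rw [this, zpow_one]
  · rw [← zpow_natCast, ← zpow_mul]
    have : (n' : ℤ) * Nat.gcdB (p ^ a) n' * ((p ^ a : ℕ) : ℤ) =
        ((orderOf x : ℕ) : ℤ) * Nat.gcdB (p ^ a) n' := by
      rw [hn']; push_cast; ring
    rw [this, zpow_mul, zpow_natCast, pow_orderOf_eq_one, one_zpow]
  · intro hpd
    have h1 : (x ^ (((p ^ a : ℕ) : ℤ) * Nat.gcdA (p ^ a) n')) ^ n' = 1 := by
      rw [← zpow_natCast, ← zpow_mul]
      have : ((p ^ a : ℕ) : ℤ) * Nat.gcdA (p ^ a) n' * (n' : ℤ) =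
          ((orderOf x : ℕ) : ℤ) * Nat.gcdA (p ^ a) n' := by
        rw [hn']; push_cast; ring
      rw [this, zpow_mul, zpow_natCast, pow_orderOf_eq_one, one_zpow]
    exact hpn' (hpd.trans (orderOf_dvd_of_pow_eq_one h1))

theorem isPGroup_zpowers {G : Type*} [Group G] (p : ℕ) (u : G) (a : ℕ) (hu : u ^ (p ^ a) = 1) :
    IsPGroup p (Subgroup.zpowers u) := by
  rintro ⟨y, hy⟩
  obtain ⟨k, rfl⟩ := Subgroup.mem_zpowers_iff.mp hy
  refine ⟨a, ?_⟩
  apply Subtype.ext
  show (u ^ k) ^ (p ^ a) = 1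
  rw [← zpow_natCast, ← zpow_mul, mul_comm, zpow_mul, zpow_natCast, hu, one_zpow]

theorem exists_conj_mem_sylow {G : Type*} [Group G] [Finite G] (p : ℕ) [Fact p.Prime]
    (P : Sylow p G) (u : G) (a : ℕ) (hu : u ^ (p ^ a) = 1) : ∃ g : G, g * u * g⁻¹ ∈ P := by
  have hQ : IsPGroup p (Subgroup.zpowers u) := isPGroup_zpowers p u a hu
  obtain ⟨Q, hQ'⟩ := hQ.exists_le_sylow
  obtain ⟨g, hg⟩ := MulAction.exists_smul_eq G Q P
  refine ⟨g, ?_⟩
  rw [← hg]
  have hu' : u ∈ (Q : Subgroup G) := hQ' (Subgroup.mem_zpowers u)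
  have := Subgroup.smul_mem_pointwise_smul u (MulAut.conj g) (Q : Subgroup G) hu'
  exact this

/-- a `p'`-element normalizing an abelian `p`-group and centralizing its elements of order `p`
centralizes it -/
theorem coprime_centralizes {G : Type*} [Group G] (p : ℕ) (P : Subgroup G)
    (hcomm : ∀ a ∈ P, ∀ b ∈ P, a * b = b * a) (hP : IsPGroup p P) (x : G)
    (hx : ∀ y ∈ P, x * y * x⁻¹ ∈ P) (m : ℕ) (hm : x ^ m = 1) (hmp : m.Coprime p)
    (hΩ : ∀ y ∈ P, y ^ p = 1 → x * y * x⁻¹ = y) : ∀ y ∈ P, x * y * x⁻¹ = y := by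
  have key : ∀ k : ℕ, ∀ y ∈ P, y ^ (p ^ k) = 1 → x * y * x⁻¹ = y := by
    intro k
    induction k with
    | zero => intro y hy h; rw [pow_zero, pow_one] at h; rw [h]; group
    | succ k ih =>
      intro y hy h
      have h1 : (y ^ p) ^ (p ^ k) = 1 := by rw [← pow_mul, ← pow_succ']; exact h
      have h2 := ih (y ^ p) (P.pow_mem hy p) h1
      have hcP : x * y * x⁻¹ * y⁻¹ ∈ P := P.mul_mem (hx y hy) (P.inv_mem hy)
      generalize hc : x * y * x⁻¹ * y⁻¹ = c at hcP
      have hxy : x * y * x⁻¹ = c * y := by rw [← hc]; group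
      have h3 : (c * y) ^ p = c ^ p * y ^ p := (show Commute c y from hcomm c hcP y hy).mul_pow p
      have h4 : (x * y * x⁻¹) ^ p = x * y ^ p * x⁻¹ := conj_pow
      have h5 : c ^ p = 1 := by
        have : c ^ p * y ^ p = y ^ p := by rw [← h3, ← hxy, h4, h2]
        exact mul_eq_right.mp this
      have h6 : x * c * x⁻¹ = c := hΩ c hcP h5
      have h7 : ∀ j : ℕ, x ^ j * y * (x ^ j)⁻¹ = c ^ j * y := by
        intro j
        induction j with
        | zero => simp
        | succ j ihj =>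
          have e1 : x ^ (j + 1) * y * (x ^ (j + 1))⁻¹ = x * (x ^ j * y * (x ^ j)⁻¹) * x⁻¹ := by
            rw [pow_succ']; group
          rw [e1, ihj]
          have h8 : x * c ^ j * x⁻¹ = c ^ j := by rw [← conj_pow, h6]
          calc x * (c ^ j * y) * x⁻¹ = (x * c ^ j * x⁻¹) * (x * y * x⁻¹) := by group
            _ = c ^ j * (c * y) := by rw [h8, hxy]
            _ = c ^ (j + 1) * y := by rw [pow_succ, mul_assoc]
      have h9 := h7 m
      rw [hm] at h9
      have h10 : c ^ m = 1 := by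
        have : c ^ m * y = y := by rw [← h9]; group
        exact mul_eq_right.mp this
      have h11 : c = 1 := by
        have hd1 : orderOf c ∣ p := orderOf_dvd_of_pow_eq_one h5
        have hd2 : orderOf c ∣ m := orderOf_dvd_of_pow_eq_one h10
        have : orderOf c ∣ Nat.gcd m p := Nat.dvd_gcd hd2 hd1
        rw [hmp.gcd_eq_one, Nat.dvd_one] at this
        exact orderOf_eq_one_iff.mp this
      rw [hxy, h11, one_mul]
  intro y hy
  obtain ⟨k, hk⟩ := hP ⟨y, hy⟩
  have hk' : y ^ (p ^ k) = 1 := by simpa using congrArg Subtype.val hk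
  exact key k y hy hk'

theorem normalizer_le_centralizer {G : Type*} [Group G] [Finite G] (p : ℕ) [hp : Fact p.Prime]
    (P : Sylow p G)
    (hcomm : ∀ a ∈ (P : Subgroup G), ∀ b ∈ (P : Subgroup G), a * b = b * a)
    (hΩ : ∀ x ∈ Subgroup.normalizer ((P : Subgroup G) : Set G), (orderOf x).Coprime p →
      ∀ y ∈ (P : Subgroup G), y ^ p = 1 → x * y * x⁻¹ = y) :
    Subgroup.normalizer ((P : Subgroup G) : Set G) ≤
      Subgroup.centralizer ((P : Subgroup G) : Set G) := by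
  intro x hx
  obtain ⟨i, j, a, hxdec, hu, hy⟩ := exists_decomp p hp.1 x
  have hxi : x ^ i ∈ Subgroup.normalizer ((P : Subgroup G) : Set G) := Subgroup.zpow_mem _ hx i
  have hxj : x ^ j ∈ Subgroup.normalizer ((P : Subgroup G) : Set G) := Subgroup.zpow_mem _ hx j
  have hxiP : x ^ i ∈ (P : Subgroup G) := by
    have hQ : IsPGroup p (Subgroup.zpowers (x ^ i)) := isPGroup_zpowers p _ a hu
    have h0 := hQ.inf_normalizer_sylow P
    have h1 : x ^ i ∈ Subgroup.zpowers (x ^ i) ⊓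
        Subgroup.normalizer ((P : Subgroup G) : Set G) :=
      Subgroup.mem_inf.mpr ⟨Subgroup.mem_zpowers _, hxi⟩
    exact (Subgroup.mem_inf.mp (h0.le h1)).2
  have hcopj : (orderOf (x ^ j)).Coprime p := ((Nat.Prime.coprime_iff_not_dvd hp.1).mpr hy).symm
  have hcj : ∀ y ∈ (P : Subgroup G), x ^ j * y * (x ^ j)⁻¹ = y := by
    apply coprime_centralizes p (P : Subgroup G) hcomm P.isPGroup' (x ^ j) ?_ (orderOf (x ^ j))
      (pow_orderOf_eq_one _) hcopj (hΩ (x ^ j) hxj hcopj)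
    intro y hy'
    exact (Subgroup.mem_normalizer_iff.mp hxj y).mp hy'
  rw [Subgroup.mem_centralizer_iff]
  intro y hy'
  have h1 : x ^ i * y = y * x ^ i := hcomm _ hxiP y hy'
  have h2 : x ^ j * y = y * x ^ j := by
    have := hcj y hy'
    calc x ^ j * y = x ^ j * y * (x ^ j)⁻¹ * x ^ j := by group
      _ = y * x ^ j := by rw [this]
  calc y * x = y * (x ^ i * x ^ j) := congrArg (fun t => y * t) hxdec
    _ = (y * x ^ i) * x ^ j := by group
    _ = x ^ i * (y * x ^ j) := by rw [← h1]; group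
    _ = x ^ i * x ^ j * y := by rw [← h2]; group
    _ = x * y := congrArg (fun t => t * y) hxdec.symm

theorem exists_normal_complement {G : Type*} [Group G] [Finite G] (p : ℕ) [hp : Fact p.Prime]
    (P : Sylow p G)
    (hcomm : ∀ a ∈ (P : Subgroup G), ∀ b ∈ (P : Subgroup G), a * b = b * a)
    (hΩ : ∀ x ∈ Subgroup.normalizer ((P : Subgroup G) : Set G), (orderOf x).Coprime p →
      ∀ y ∈ (P : Subgroup G), y ^ p = 1 → x * y * x⁻¹ = y) :
    ∃ K : Subgroup G, K.Normal ∧ K.IsComplement' (P : Subgroup G) ∧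
      ∀ a b : G, a * b * a⁻¹ * b⁻¹ ∈ K := by
  have hN := normalizer_le_centralizer p P hcomm hΩ
  refine ⟨(MonoidHom.transferSylow P hN).ker, inferInstance,
    MonoidHom.ker_transferSylow_isComplement' P hN, ?_⟩
  intro a b
  rw [MonoidHom.mem_ker]
  simp only [map_mul, map_inv]
  have : ∀ u v : (P : Subgroup G), u * v * u⁻¹ * v⁻¹ = 1 := by
    intro u v
    have h := hcomm u.1 u.2 v.1 v.2
    apply Subtype.ext
    simp only [Subgroup.coe_mul, Subgroup.coe_inv, Subgroup.coe_one]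
    rw [h]; group
  exact this _ _

theorem mem_complement_iff {G : Type*} [Group G] [Finite G] (p : ℕ) [hp : Fact p.Prime]
    (P : Sylow p G) (K : Subgroup G) [K.Normal] (hK : K.IsComplement' (P : Subgroup G)) (g : G) :
    g ∈ K ↔ (orderOf g).Coprime p := by
  have hcard := hK.card_mul_card
  have hidx := Subgroup.card_mul_index (P : Subgroup G)
  have hKidx : Nat.card K = (P : Subgroup G).index := by
    have hpos : 0 < Nat.card (P : Subgroup G) := Nat.card_pos
    have : Nat.card (P : Subgroup G) * Nat.card K =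
        Nat.card (P : Subgroup G) * (P : Subgroup G).index := by
      rw [hidx, mul_comm, hcard]
    exact Nat.eq_of_mul_eq_mul_left hpos this
  have hKcop : (Nat.card K).Coprime p := by
    rw [hKidx]
    exact ((Nat.Prime.coprime_iff_not_dvd hp.1).mpr P.not_dvd_index).symm
  constructor
  · intro hg
    have : orderOf g ∣ Nat.card K := by
      have := orderOf_dvd_natCard (⟨g, hg⟩ : K)
      rwa [Subgroup.orderOf_mk] at this
    exact Nat.Coprime.coprime_dvd_left this hKcop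
  · intro hcop
    rw [← QuotientGroup.eq_one_iff]
    obtain ⟨k, hk⟩ := IsPGroup.iff_card.mp P.isPGroup'
    have hQ : Nat.card (G ⧸ K) = p ^ k := by
      have h1 := Subgroup.card_eq_card_quotient_mul_card_subgroup K
      have hpos : 0 < Nat.card K := Nat.card_pos
      have : Nat.card (G ⧸ K) * Nat.card K = Nat.card (P : Subgroup G) * Nat.card K := by
        rw [← h1, mul_comm, hcard]
      rw [← hk]; exact Nat.eq_of_mul_eq_mul_right hpos this
    have h2 : (g : G ⧸ K) ^ (p ^ k) = 1 := by rw [← hQ]; exact pow_card_eq_one'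
    have h3 : (g : G ⧸ K) ^ (orderOf g) = 1 := by
      rw [← QuotientGroup.mk_pow, pow_orderOf_eq_one]; rfl
    have hd1 := orderOf_dvd_of_pow_eq_one h2
    have hd2 := orderOf_dvd_of_pow_eq_one h3
    have : orderOf (g : G ⧸ K) ∣ Nat.gcd (orderOf g) (p ^ k) := Nat.dvd_gcd hd2 hd1
    rw [(Nat.Coprime.pow_right k hcop).gcd_eq_one, Nat.dvd_one] at this
    exact orderOf_eq_one_iff.mp this

/-- H normal, g = h * u, u p-element, g p'-element → g ∈ H -/
theorem mem_of_coprime {G : Type*} [Group G] (p : ℕ) (H : Subgroup G) [H.Normal]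
    (h u : G) (hh : h ∈ H) (k : ℕ) (hu : u ^ (p ^ k) = 1) (hcop : (orderOf (h * u)).Coprime p) :
    h * u ∈ H := by
  rw [← QuotientGroup.eq_one_iff]
  have h1 : ((h * u : G) : G ⧸ H) = (u : G ⧸ H) := by
    rw [QuotientGroup.mk_mul, (QuotientGroup.eq_one_iff h).mpr hh, one_mul]
  have h2 : ((h * u : G) : G ⧸ H) ^ (p ^ k) = 1 := by
    rw [h1, ← QuotientGroup.mk_pow, hu]; rfl
  have h3 : ((h * u : G) : G ⧸ H) ^ (orderOf (h * u)) = 1 := by
    rw [← QuotientGroup.mk_pow, pow_orderOf_eq_one]; rfl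
  have hd1 := orderOf_dvd_of_pow_eq_one h2
  have hd2 := orderOf_dvd_of_pow_eq_one h3
  have : orderOf ((h * u : G) : G ⧸ H) ∣ Nat.gcd (orderOf (h * u)) (p ^ k) := Nat.dvd_gcd hd2 hd1
  rw [(Nat.Coprime.pow_right k hcop).gcd_eq_one, Nat.dvd_one] at this
  exact orderOf_eq_one_iff.mp this

theorem exists_fixed {G : Type*} [Group G] (P : Subgroup G) [Finite P] (H : Subgroup G)
    [H.Normal] (x : G) (hxH : x ∈ H) (hxP : ∀ u ∈ P, x * u * x⁻¹ ∈ P) (hnle : ¬ P ≤ H) :
    ∃ w ∈ P, w ≠ 1 ∧ x * w * x⁻¹ = w := by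
  let φ : P → P := fun u => ⟨x * u * x⁻¹ * (u : G)⁻¹, P.mul_mem (hxP u u.2) (P.inv_mem u.2)⟩
  have hninj : ¬ Function.Injective φ := by
    intro hinj
    have hsurj : Function.Surjective φ := Finite.injective_iff_surjective.mp hinj
    apply hnle
    intro v hv
    obtain ⟨u, hu⟩ := hsurj ⟨v, hv⟩
    have h0 : x * (u : G) * x⁻¹ * (u : G)⁻¹ = v := congrArg Subtype.val hu
    rw [← h0]
    have h1 : (u : G) * x⁻¹ * (u : G)⁻¹ ∈ H :=
      Subgroup.Normal.conj_mem inferInstance x⁻¹ (H.inv_mem hxH) u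
    have : x * (u : G) * x⁻¹ * (u : G)⁻¹ = x * ((u : G) * x⁻¹ * (u : G)⁻¹) := by group
    rw [this]; exact H.mul_mem hxH h1
  rw [Function.Injective] at hninj
  push Not at hninj
  obtain ⟨u, u', heq, hne⟩ := hninj
  have h1 : x * (u : G) * x⁻¹ * (u : G)⁻¹ = x * (u' : G) * x⁻¹ * (u' : G)⁻¹ :=
    congrArg Subtype.val heq
  refine ⟨(u' : G)⁻¹ * (u : G), P.mul_mem (P.inv_mem u'.2) u.2, ?_, ?_⟩
  · intro h
    apply hne
    apply Subtype.ext
    exact (inv_mul_eq_one.mp h).symm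
  · calc x * ((u' : G)⁻¹ * (u : G)) * x⁻¹
        = (x * (u' : G) * x⁻¹)⁻¹ * (x * (u : G) * x⁻¹ * (u : G)⁻¹) * (u : G) := by group
      _ = (x * (u' : G) * x⁻¹)⁻¹ * (x * (u' : G) * x⁻¹ * (u' : G)⁻¹) * (u : G) := by rw [h1]
      _ = (u' : G)⁻¹ * (u : G) := by group

theorem mem_zpowers_of_pow_p {G : Type*} [Group G] (p : ℕ) [hp : Fact p.Prime] (P : Subgroup G)
    [Finite P] (hcyc : IsCyclic P) (hP : IsPGroup p P) (w : G) (hw : w ∈ P) (hw1 : w ≠ 1)
    (y : G) (hy : y ∈ P) (hyp : y ^ p = 1) : y ∈ Subgroup.zpowers w := by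
  classical
  obtain ⟨k, hk⟩ := hP ⟨w, hw⟩
  have hk' : w ^ (p ^ k) = 1 := by simpa using congrArg Subtype.val hk
  have hdvd : orderOf w ∣ p ^ k := orderOf_dvd_of_pow_eq_one hk'
  obtain ⟨j, hj, hjeq⟩ := (Nat.dvd_prime_pow hp.1).mp hdvd
  have hj0 : j ≠ 0 := by
    intro h0; subst h0; rw [pow_zero] at hjeq; exact hw1 (orderOf_eq_one_iff.mp hjeq)
  have hpd : p ∣ orderOf w := by rw [hjeq]; exact dvd_pow_self p hj0
  have ho0 : orderOf w ≠ 0 := by rw [hjeq]; exact pow_ne_zero _ hp.1.ne_zero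
  obtain ⟨w', hw'P, how', hw'z⟩ : ∃ w' ∈ P, orderOf w' = p ∧ w' ∈ Subgroup.zpowers w :=
    ⟨w ^ (orderOf w / p), P.pow_mem hw _, orderOf_pow_orderOf_div ho0 hpd,
      Subgroup.pow_mem _ (Subgroup.mem_zpowers w) _⟩
  haveI : Fintype P := Fintype.ofFinite P
  have how'' : orderOf (⟨w', hw'P⟩ : P) = p := by
    rw [Subgroup.orderOf_mk]; exact how'
  have e : (⟨w', hw'P⟩ : P) ^ p = 1 := orderOf_dvd_iff_pow_eq_one.mp how''.dvd
  have hTS : (Finset.range p).image (fun i => (⟨w', hw'P⟩ : P) ^ i) ⊆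
      Finset.univ.filter (fun a : P => a ^ p = 1) := by
    intro a ha
    obtain ⟨i, _, rfl⟩ := Finset.mem_image.mp ha
    rw [Finset.mem_filter]
    refine ⟨Finset.mem_univ _, ?_⟩
    rw [← pow_mul, mul_comm, pow_mul, e, one_pow]
  have hTcard : ((Finset.range p).image (fun i => (⟨w', hw'P⟩ : P) ^ i)).card = p := by
    rw [Finset.card_image_of_injOn, Finset.card_range]
    intro i hi j hj hij
    have hi' : i < orderOf (⟨w', hw'P⟩ : P) := by
      rw [how'']; exact Finset.mem_range.mp hi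
    have hj' : j < orderOf (⟨w', hw'P⟩ : P) := by
      rw [how'']; exact Finset.mem_range.mp hj
    exact pow_injOn_Iio_orderOf hi' hj' hij
  have hScard : (Finset.univ.filter (fun a : P => a ^ p = 1)).card ≤ p := by
    have := IsCyclic.card_pow_eq_one_le (α := P) hp.1.pos
    convert this
  have hST := Finset.eq_of_subset_of_card_le hTS (by rw [hTcard]; exact hScard)
  have hyS : (⟨y, hy⟩ : P) ∈ Finset.univ.filter (fun a : P => a ^ p = 1) := by
    rw [Finset.mem_filter]; exact ⟨Finset.mem_univ _, Subtype.ext (by simpa using hyp)⟩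
  rw [← hST] at hyS
  obtain ⟨i, _, hi⟩ := Finset.mem_image.mp hyS
  have hyi : y = w' ^ i := by
    have := congrArg Subtype.val hi
    simpa using this.symm
  rw [hyi]
  exact Subgroup.pow_mem _ hw'z _

theorem hasNormalPComplement_of {H₁ : Type*} [Group H₁] [Finite H₁] (p : ℕ) [hp : Fact p.Prime]
    (N : Subgroup H₁) [N.Normal] (hNcop : (Nat.card N).Coprime p)
    (hN : ∀ h : H₁, (orderOf h).Coprime p → h ∈ N) : Cfsg.HasNormalPComplement p H₁ := by
  obtain ⟨Q⟩ : Nonempty (Sylow p H₁) := inferInstance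
  refine ⟨Q, N, inferInstance, ?_⟩
  have hQp : IsPGroup p (H₁ ⧸ N) := by
    intro hb
    obtain ⟨h, rfl⟩ := QuotientGroup.mk_surjective hb
    obtain ⟨i, j, a, hdec, hu, hy⟩ := exists_decomp p hp.1 h
    have hjN : h ^ j ∈ N := hN _ ((Nat.Prime.coprime_iff_not_dvd hp.1).mpr hy).symm
    refine ⟨a, ?_⟩
    have h1 : (h : H₁ ⧸ N) = ((h ^ i : H₁) : H₁ ⧸ N) := by
      conv_lhs => rw [hdec]
      rw [QuotientGroup.mk_mul, (QuotientGroup.eq_one_iff _).mpr hjN, mul_one]
    rw [h1, ← QuotientGroup.mk_pow, hu]; rfl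
  obtain ⟨i, hi⟩ := IsPGroup.iff_card.mp hQp
  obtain ⟨j, hj⟩ := IsPGroup.iff_card.mp Q.isPGroup'
  have h1 := Subgroup.card_eq_card_quotient_mul_card_subgroup N
  rw [hi] at h1
  have h2 : p ^ i ∣ Nat.card (Q : Subgroup H₁) :=
    Q.pow_dvd_card_of_pow_dvd_card (by rw [h1]; exact dvd_mul_right _ _)
  have h3 : Nat.card (Q : Subgroup H₁) ∣ p ^ i := by
    have hd : Nat.card (Q : Subgroup H₁) ∣ p ^ i * Nat.card N := by
      rw [← h1]; exact Subgroup.card_subgroup_dvd_card _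
    have hc : (Nat.card (Q : Subgroup H₁)).Coprime (Nat.card N) := by
      rw [hj]; exact Nat.Coprime.pow_left _ hNcop.symm
    exact hc.dvd_of_dvd_mul_right hd
  have h4 : Nat.card (Q : Subgroup H₁) = p ^ i := Nat.dvd_antisymm h3 h2
  apply Subgroup.isComplement'_of_coprime
  · rw [h4, h1, mul_comm]
  · rw [h4]; exact Nat.Coprime.pow_right _ hNcop

theorem comm_mem_of_mem_comap {X : Type*} [Group X] (Z : Subgroup X) [Z.Normal] (S : Subgroup X)
    (x : X)
    (hx : x ∈ (Subgroup.centralizer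
      ((S.map (QuotientGroup.mk' Z) : Subgroup (X ⧸ Z)) : Set (X ⧸ Z))).comap
        (QuotientGroup.mk' Z)) (s : X) (hs : s ∈ S) :
    x * s * x⁻¹ * s⁻¹ ∈ Z := by
  have h1 : QuotientGroup.mk' Z x ∈ Subgroup.centralizer
      ((S.map (QuotientGroup.mk' Z) : Subgroup (X ⧸ Z)) : Set (X ⧸ Z)) := hx
  rw [Subgroup.mem_centralizer_iff] at h1
  have h2 := h1 (QuotientGroup.mk' Z s) (Subgroup.mem_map_of_mem _ hs)
  rw [← QuotientGroup.eq_one_iff]
  have h3 : ((x * s * x⁻¹ * s⁻¹ : X) : X ⧸ Z) = QuotientGroup.mk' Z x * QuotientGroup.mk' Z s *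
      (QuotientGroup.mk' Z x)⁻¹ * (QuotientGroup.mk' Z s)⁻¹ := rfl
  rw [h3, ← h2]
  group

theorem card_coprime_of_forall {G : Type*} [Group G] [Finite G] (p : ℕ) [hp : Fact p.Prime]
    (K : Subgroup G) (h : ∀ g ∈ K, (orderOf g).Coprime p) : (Nat.card K).Coprime p := by
  by_contra hnc
  have hpd : p ∣ Nat.card K := by
    by_contra hnd
    exact hnc ((Nat.Prime.coprime_iff_not_dvd hp.1).mpr hnd).symm
  obtain ⟨k, hk⟩ := exists_prime_orderOf_dvd_card' (G := K) p hpd
  have := h k k.2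
  rw [Subgroup.orderOf_coe, hk] at this
  exact hp.1.one_lt.ne' ((Nat.coprime_self p).mp this)

/-- Let G be a finite group with a cyclic Sylow p-subgroup and H a normal subgroup such that p divides both the order of H and the index of H. Then H has a normal p-complement and G is p-solvable. -/
theorem result {G : Type*} [Group G] [Finite G] (p : ℕ) [Fact p.Prime]
    (P : Sylow p G) (hP : IsCyclic (P : Subgroup G)) (H : Subgroup G) [H.Normal] (h1 : p ∣ Nat.card H) (h2 : p ∣ H.index) :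
    Cfsg.HasNormalPComplement p H ∧ Cfsg.IsPSolvable p G := by
  have hp : p.Prime := Fact.out
  have hPcomm : ∀ a ∈ (P : Subgroup G), ∀ b ∈ (P : Subgroup G), a * b = b * a := by
    intro a ha b hb
    have := mul_comm' (⟨a, ha⟩ : (P : Subgroup G)) ⟨b, hb⟩
    exact congrArg Subtype.val this
  obtain ⟨w, hwP, hwH, hw1⟩ : ∃ w ∈ (P : Subgroup G), w ∈ H ∧ w ≠ 1 := by
    obtain ⟨h, hh⟩ := exists_prime_orderOf_dvd_card' (G := H) p h1
    have hh' : orderOf (h : G) = p := by rw [Subgroup.orderOf_coe]; exact hh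
    obtain ⟨g, hg⟩ := exists_conj_mem_sylow p P (h : G) 1
      (by rw [pow_one, ← hh', pow_orderOf_eq_one])
    refine ⟨g * h * g⁻¹, hg, Subgroup.Normal.conj_mem inferInstance _ h.2 g, ?_⟩
    intro h0
    have : (h : G) = 1 := by
      have e : (h : G) = g⁻¹ * (g * h * g⁻¹) * g := by group
      rw [e, h0]; group
    rw [this, orderOf_one] at hh'
    exact hp.one_lt.ne hh'
  have hPH : ¬ (P : Subgroup G) ≤ H := by
    intro hle
    exact P.not_dvd_index (h2.trans (Subgroup.index_dvd_of_le hle))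
  have hΩ : ∀ y ∈ (P : Subgroup G), y ^ p = 1 → y ∈ Subgroup.zpowers w := fun y hy hyp =>
    mem_zpowers_of_pow_p p (P : Subgroup G) hP P.isPGroup' w hwP hw1 y hy hyp
  have hHJ : H ≤ H ⊔ (P : Subgroup G) := le_sup_left
  have hPJ : (P : Subgroup G) ≤ H ⊔ (P : Subgroup G) := le_sup_right
  have hmemPJ : ∀ a : (H ⊔ (P : Subgroup G) : Subgroup G),
      a ∈ ((P.subtype hPJ : Sylow p (H ⊔ (P : Subgroup G) : Subgroup G)) :
        Subgroup (H ⊔ (P : Subgroup G) : Subgroup G)) ↔ (a : G) ∈ (P : Subgroup G) :=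
    fun a => Subgroup.mem_subgroupOf
  have hJdec : ∀ a ∈ H ⊔ (P : Subgroup G), ∃ h ∈ H, ∃ u ∈ (P : Subgroup G), a = h * u := by
    intro a ha
    have : a ∈ ((H ⊔ (P : Subgroup G) : Subgroup G) : Set G) := ha
    rw [Subgroup.normal_mul] at this
    obtain ⟨h, hh, u, hu, rfl⟩ := Set.mem_mul.mp this
    exact ⟨h, hh, u, hu, rfl⟩
  have hJp' : ∀ a ∈ H ⊔ (P : Subgroup G), (orderOf a).Coprime p → a ∈ H := by
    intro a ha hcop
    obtain ⟨h, hh, u, hu, rfl⟩ := hJdec a ha
    obtain ⟨k, hk⟩ := P.isPGroup' ⟨u, hu⟩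
    have hk' : u ^ (p ^ k) = 1 := by simpa using congrArg Subtype.val hk
    exact mem_of_coprime p H h u hh k hk' hcop
  obtain ⟨KJ, hKJn, hKJc, hKJcomm⟩ := exists_normal_complement p (P.subtype hPJ)
    (by
      intro a ha b hb
      rw [hmemPJ] at ha hb
      exact Subtype.ext (hPcomm _ ha _ hb))
    (by
      intro x hx hcop y hy hyp
      rw [hmemPJ] at hy
      have hxH : (x : G) ∈ H := hJp' x x.2 (by rwa [Subgroup.orderOf_coe])
      have hxP : ∀ u ∈ (P : Subgroup G), (x : G) * u * (x : G)⁻¹ ∈ (P : Subgroup G) := by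
        intro u hu
        have := (Subgroup.mem_normalizer_iff.mp hx ⟨u, hPJ hu⟩).mp ((hmemPJ _).mpr hu)
        exact (hmemPJ _).mp this
      obtain ⟨w', hw'P, hw'1, hw'fix⟩ := exists_fixed (P : Subgroup G) H (x : G) hxH hxP hPH
      have hyz : (y : G) ∈ Subgroup.zpowers w' :=
        mem_zpowers_of_pow_p p (P : Subgroup G) hP P.isPGroup' w' hw'P hw'1 y hy
          (by simpa using congrArg Subtype.val hyp)
      obtain ⟨t, ht⟩ := Subgroup.mem_zpowers_iff.mp hyz
      apply Subtype.ext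
      show (x : G) * (y : G) * (x : G)⁻¹ = (y : G)
      rw [← ht]
      have hc : Commute (x : G) w' := by
        show (x : G) * w' = w' * (x : G)
        calc (x : G) * w' = (x : G) * w' * (x : G)⁻¹ * (x : G) := by group
          _ = w' * (x : G) := by rw [hw'fix]
      rw [(hc.zpow_right t).eq, mul_inv_cancel_right])
  haveI := hKJn
  have hKmem : ∀ g : G, g ∈ KJ.map (H ⊔ (P : Subgroup G) : Subgroup G).subtype ↔
      g ∈ H ∧ (orderOf g).Coprime p := by
    intro g
    constructor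
    · rintro ⟨k, hk, rfl⟩
      have hcop := (mem_complement_iff p (P.subtype hPJ) KJ hKJc k).mp hk
      have hcop' : (orderOf (k : G)).Coprime p := by rwa [Subgroup.orderOf_coe]
      exact ⟨hJp' _ k.2 hcop', hcop'⟩
    · rintro ⟨hgH, hcop⟩
      refine ⟨⟨g, hHJ hgH⟩, ?_, rfl⟩
      apply (mem_complement_iff p (P.subtype hPJ) KJ hKJc _).mpr
      rwa [Subgroup.orderOf_mk]
  have hKcomm : ∀ a ∈ H ⊔ (P : Subgroup G), ∀ b ∈ H ⊔ (P : Subgroup G),
      a * b * a⁻¹ * b⁻¹ ∈ KJ.map (H ⊔ (P : Subgroup G) : Subgroup G).subtype := by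
    intro a ha b hb
    exact ⟨_, hKJcomm ⟨a, ha⟩ ⟨b, hb⟩, rfl⟩
  generalize KJ.map (H ⊔ (P : Subgroup G) : Subgroup G).subtype = K at hKmem hKcomm
  have hKn : K.Normal := by
    constructor
    intro n hn g
    rw [hKmem] at hn ⊢
    exact ⟨Subgroup.Normal.conj_mem inferInstance n hn.1 g, by rw [orderOf_conj']; exact hn.2⟩
  haveI := hKn
  have hKH : K ≤ H := fun g hg => ((hKmem g).mp hg).1
  have hKcop : (Nat.card K).Coprime p :=
    card_coprime_of_forall p K (fun g hg => ((hKmem g).mp hg).2)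
  have hpart1 : Cfsg.HasNormalPComplement p H := by
    apply hasNormalPComplement_of p (K.subgroupOf H)
    · have : Nat.card (K.subgroupOf H) = Nat.card K :=
        Nat.card_congr (Subgroup.subgroupOfEquivOfLe hKH).toEquiv
      rw [this]; exact hKcop
    · intro h hcop
      rw [Subgroup.mem_subgroupOf, hKmem]
      exact ⟨h.2, by rwa [Subgroup.orderOf_coe]⟩
  refine ⟨hpart1, ?_⟩
  haveI hHmapn : (H.map (QuotientGroup.mk' K)).Normal :=
    Subgroup.Normal.map inferInstance _ (QuotientGroup.mk'_surjective K)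
  have hCn : ((Subgroup.centralizer ((H.map (QuotientGroup.mk' K) : Subgroup (G ⧸ K)) :
      Set (G ⧸ K))).comap (QuotientGroup.mk' K)).Normal := Subgroup.Normal.comap inferInstance _
  have hCmem : ∀ x ∈ (Subgroup.centralizer ((H.map (QuotientGroup.mk' K) : Subgroup (G ⧸ K)) :
      Set (G ⧸ K))).comap (QuotientGroup.mk' K), ∀ h ∈ H, x * h * x⁻¹ * h⁻¹ ∈ K :=
    fun x hx h hh => comm_mem_of_mem_comap K H x hx h hh
  have hPC : (P : Subgroup G) ≤ (Subgroup.centralizer
      ((H.map (QuotientGroup.mk' K) : Subgroup (G ⧸ K)) : Set (G ⧸ K))).comap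
        (QuotientGroup.mk' K) := by
    intro u hu
    show QuotientGroup.mk' K u ∈ Subgroup.centralizer _
    rw [Subgroup.mem_centralizer_iff]
    rintro _ ⟨h, hh, rfl⟩
    show ((h : G) : G ⧸ K) * (u : G ⧸ K) = (u : G ⧸ K) * (h : G ⧸ K)
    rw [← QuotientGroup.mk_mul, ← QuotientGroup.mk_mul, QuotientGroup.eq]
    have := hKcomm u⁻¹ (Subgroup.inv_mem _ (hPJ hu)) h⁻¹ (Subgroup.inv_mem _ (hHJ hh))
    have e : (h * u)⁻¹ * (u * h) = u⁻¹ * h⁻¹ * u⁻¹⁻¹ * h⁻¹⁻¹ := by group
    rw [e]; exact this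
  generalize (Subgroup.centralizer ((H.map (QuotientGroup.mk' K) : Subgroup (G ⧸ K)) :
      Set (G ⧸ K))).comap (QuotientGroup.mk' K) = C at hCn hCmem hPC
  haveI := hCn
  have hmemPC : ∀ a : C, a ∈ ((P.subtype hPC : Sylow p C) : Subgroup C) ↔
      (a : G) ∈ (P : Subgroup G) := fun a => Subgroup.mem_subgroupOf
  obtain ⟨K1, hK1n, hK1c, -⟩ := exists_normal_complement p (P.subtype hPC)
    (by
      intro a ha b hb
      rw [hmemPC] at ha hb
      exact Subtype.ext (hPcomm _ ha _ hb))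
    (by
      intro x hx hcop y hy hyp
      rw [hmemPC] at hy
      have hyp' : (y : G) ^ p = 1 := by simpa using congrArg Subtype.val hyp
      have hyH : (y : G) ∈ H := by
        obtain ⟨t, ht⟩ := Subgroup.mem_zpowers_iff.mp (hΩ y hy hyp')
        rw [← ht]; exact H.zpow_mem hwH t
      have hc := hCmem x x.2 y hyH
      have hxy : (x : G) * y * (x : G)⁻¹ ∈ (P : Subgroup G) := by
        have := (Subgroup.mem_normalizer_iff.mp hx y).mp ((hmemPC y).mpr hy)
        exact (hmemPC _).mp this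
      have hcP : (x : G) * y * (x : G)⁻¹ * (y : G)⁻¹ ∈ (P : Subgroup G) :=
        (P : Subgroup G).mul_mem hxy ((P : Subgroup G).inv_mem hy)
      have hc1 : (x : G) * y * (x : G)⁻¹ * (y : G)⁻¹ = 1 := by
        have hcop' := ((hKmem _).mp hc).2
        obtain ⟨k, hk⟩ := P.isPGroup' ⟨_, hcP⟩
        have hk' : ((x : G) * y * (x : G)⁻¹ * (y : G)⁻¹) ^ (p ^ k) = 1 := by
          simpa using congrArg Subtype.val hk
        have hd := orderOf_dvd_of_pow_eq_one hk'
        have : orderOf ((x : G) * y * (x : G)⁻¹ * (y : G)⁻¹) ∣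
            Nat.gcd (orderOf ((x : G) * y * (x : G)⁻¹ * (y : G)⁻¹)) (p ^ k) :=
          Nat.dvd_gcd dvd_rfl hd
        rw [(Nat.Coprime.pow_right k hcop').gcd_eq_one, Nat.dvd_one] at this
        exact orderOf_eq_one_iff.mp this
      apply Subtype.ext
      show (x : G) * y * (x : G)⁻¹ = y
      exact mul_inv_eq_one.mp hc1)
  haveI := hK1n
  have hK₁mem : ∀ g : G, g ∈ K1.map C.subtype ↔ g ∈ C ∧ (orderOf g).Coprime p := by
    intro g
    constructor
    · rintro ⟨k, hk, rfl⟩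
      have hcop := (mem_complement_iff p (P.subtype hPC) K1 hK1c k).mp hk
      have hcop' : (orderOf (k : G)).Coprime p := by rwa [Subgroup.orderOf_coe]
      exact ⟨k.2, hcop'⟩
    · rintro ⟨hgC, hcop⟩
      refine ⟨⟨g, hgC⟩, ?_, rfl⟩
      apply (mem_complement_iff p (P.subtype hPC) K1 hK1c _).mpr
      rwa [Subgroup.orderOf_mk]
  have hK₁n : (K1.map C.subtype).Normal := by
    constructor
    intro n hn g
    rw [hK₁mem] at hn ⊢
    exact ⟨Subgroup.Normal.conj_mem inferInstance n hn.1 g, by rw [orderOf_conj']; exact hn.2⟩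
  have hK₁C : K1.map C.subtype ≤ C := fun g hg => ((hK₁mem g).mp hg).1
  have hK₁cop : (Nat.card (K1.map C.subtype)).Coprime p :=
    card_coprime_of_forall p _ (fun g hg => ((hK₁mem g).mp hg).2)
  have hrel : ∃ m : ℕ, (K1.map C.subtype).relIndex C = p ^ m := by
    obtain ⟨m, hm⟩ := IsPGroup.iff_card.mp (P.subtype hPC).isPGroup'
    refine ⟨m, ?_⟩
    have e1 : (K1.map C.subtype).subgroupOf C = K1 :=
      Subgroup.comap_map_eq_self_of_injective C.subtype_injective K1
    show ((K1.map C.subtype).subgroupOf C).index = p ^ m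
    rw [e1, ← hm]
    have e2 := hK1c.card_mul_card
    have e3 := Subgroup.card_mul_index K1
    have hpos : 0 < Nat.card K1 := Nat.card_pos
    exact Nat.eq_of_mul_eq_mul_left hpos (e3.trans e2.symm)
  have hCidx : (C.index).Coprime p := by
    have hd : C.index ∣ (P : Subgroup G).index := Subgroup.index_dvd_of_le hPC
    have : ((P : Subgroup G).index).Coprime p :=
      ((Nat.Prime.coprime_iff_not_dvd hp).mpr P.not_dvd_index).symm
    exact Nat.Coprime.coprime_dvd_left hd this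
  refine ⟨3, ![⊥, K1.map C.subtype, C, ⊤], rfl, rfl, ?_, ?_, ?_⟩
  · rw [Fin.monotone_iff_le_succ]
    intro i
    fin_cases i
    · exact bot_le
    · exact hK₁C
    · exact le_top
  · intro i
    fin_cases i
    · exact Subgroup.normal_bot
    · exact hK₁n
    · exact hCn
    · exact Subgroup.normal_top
  · intro i
    fin_cases i
    · right
      show ((⊥ : Subgroup G).relIndex (K1.map C.subtype)).Coprime p
      rw [Subgroup.relIndex_bot_left]; exact hK₁cop
    · left; exact hrel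
    · right
      show (C.relIndex ⊤).Coprime p
      rw [Subgroup.relIndex_top_right]; exact hCidx

end Cfsg.Agent.S4145
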