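import Cfsg.Statements.S4146
import Cfsg.Agent.Lib.Helper4.FCCore
import Cfsg.Agent.Lib.Helper42.FCL1
import Cfsg.Agent.Lib.Helper5.FCL3
import Cfsg.Agent.Lib.Helper34.FCSPLIT
import Cfsg.Agent.Lib.Helper38.FCQREG
import Cfsg.Agent.Lib.Helper64.FCPRIM
import Cfsg.Agent.Lib.Helper64.FCMAXCEN
import Cfsg.Agent.Lib.Helper31.FCZSYL
import Cfsg.Agent.Lib.Helper31.FCMSUB
import Cfsg.Agent.Lib.Helper5.FCE3
import Cfsg.Agent.Lib.Helper66.FCAPC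
import Cfsg.Agent.Lib.Helper12.FCAP
import Cfsg.Agent.Lib.Helper58.FCS33B
import Cfsg.Agent.Lib.Helper66.FCS33APP
import Cfsg.Agent.Lib.Helper68.FCHALF
import Cfsg.Agent.Lib.Helper10.FCCLAIMX
import Cfsg.Agent.Lib.Helper16.FCBCB1
import Cfsg.Agent.Lib.Helper45.FCBCB
import Cfsg.Agent.Lib.Helper76.FCBCC
import Cfsg.Agent.Lib.Helper69.FCSTEP1
import Cfsg.Agent.Lib.Helper73.FCCONJH
import Cfsg.Agent.Lib.Helper33.FCLFDEC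
import Cfsg.Agent.Lib.Helper21.FCLF1
import Cfsg.Agent.Lib.Helper23.FCLF2
import Cfsg.Agent.Lib.Helper40.FCLFK1
import Cfsg.Agent.Lib.Helper5.FCLFK2
import Cfsg.Agent.Lib.Helper77.FCLFK3
import Cfsg.Agent.Lib.Helper31.FCLFZ
import Cfsg.Agent.Lib.Helper64.FCLFX
import Cfsg.Agent.Lib.Helper64.FCLFKZ
import Cfsg.Agent.Lib.Helper31.FCLFEND
import Cfsg.Agent.Lib.Helper14.FCLEMF
import Cfsg.Agent.Lib.Helper22.FCHALLA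
import Cfsg.Agent.Lib.Helper45.FCAIDX
import Cfsg.Agent.Lib.Helper86.FCS2I
import Cfsg.Agent.Lib.Helper31.FCS2M
import Cfsg.Agent.Lib.Helper77.FCSTEP3
import Cfsg.Agent.Lib.Helper88.FCSYLIDX
import Cfsg.Agent.Lib.Helper54.FCV1A
import Cfsg.Agent.Lib.Helper5.FCV1B2
import Cfsg.Agent.Lib.Helper26.FCV1B3
import Cfsg.Agent.Lib.Helper4.FCV1B
import Cfsg.Agent.Lib.Lead.FCFIXPT
import Cfsg.Agent.Lib.Helper4.FCSTEP4
import Cfsg.Agent.Lib.Helper4.FCCASEB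
import Cfsg.Agent.Lib.Helper31.FCNPC
import Cfsg.Agent.Lib.Helper73.FCKQ
import Cfsg.Agent.Lib.Lead.FCW1
import Cfsg.Agent.Lib.Helper68.FCW2
import Cfsg.Agent.Lib.Helper45.FCW3
import Cfsg.Agent.Lib.Helper64.FCW4
import Cfsg.Agent.Lib.Helper31.FCW
import Cfsg.Agent.Lib.Helper73.FCITONIL
import Cfsg.Agent.Lib.Helper73.FCNILPROD
import Cfsg.Agent.Lib.Helper22.FCA1A
import Cfsg.Agent.Lib.Helper4.FCA1
import Cfsg.Agent.Lib.Helper64.FCA2H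
import Cfsg.Agent.Lib.Helper25.FCA2K1
import Cfsg.Agent.Lib.Helper22.FCA2K2
import Cfsg.Agent.Lib.Helper41.FCA2K3
import Cfsg.Agent.Lib.Lead.FCZ2D
import Cfsg.Agent.Lib.Helper54.FCZ2A
import Cfsg.Agent.Lib.Helper54.FCZ2B
import Cfsg.Agent.Lib.Helper15.FCZ2E
import Cfsg.Agent.Lib.Helper15.FCZ2F
import Cfsg.Agent.Lib.Helper4.FCZ2ABSA
import Cfsg.Agent.Lib.Helper25.FCZ2ABS
import Cfsg.Agent.Lib.Helper4.FCA2
import Cfsg.Agent.Lib.Helper4.FCTHMA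
import Cfsg.Agent.Lib.Helper4.FCFINAL

set_option autoImplicit false
open Cfsg

namespace Cfsg.Agent.S4146

/-- Let G be a finite group whose conjugacy class sizes are exactly 1, n, m and nm for coprime integers n, m > 1. Then G is nilpotent and n and m are prime powers. -/
theorem result {G : Type*} [Group G] [Finite G] (n m : ℕ) (hn : 1 < n) (hm : 1 < m) (hcop : n.Coprime m)
    (h : Set.range (fun x : G => (Subgroup.centralizer ({x} : Set G)).index) = ({1, n, m, n * m} : Set ℕ)) :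
    Group.IsNilpotent G ∧ IsPrimePow n ∧ IsPrimePow m := by
  have hF := Cfsg.Agent.Lib.Helper4.FC.fc_four_of_range n m hn hm hcop h
  exact Cfsg.Agent.Lib.Helper4.FC.fc_core
      Cfsg.Agent.Lib.Helper4.FC.fc_l1 Cfsg.Agent.Lib.Helper4.FC.fc_l3
      Cfsg.Agent.Lib.Helper4.FC.fc_split Cfsg.Agent.Lib.Helper4.FC.fc_qreg
      Cfsg.Agent.Lib.Helper4.FC.fc_prim Cfsg.Agent.Lib.Helper4.FC.fc_maxcen
      Cfsg.Agent.Lib.Helper4.FC.fc_zsyl Cfsg.Agent.Lib.Helper4.FC.fc_msub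
      Cfsg.Agent.Lib.Helper4.FC.fc_e3 Cfsg.Agent.Lib.Helper4.FC.fc_apc
      Cfsg.Agent.Lib.Helper4.FC.fc_ap Cfsg.Agent.Lib.Helper4.FC.fc_s33b
      Cfsg.Agent.Lib.Helper4.FC.fc_s33app Cfsg.Agent.Lib.Helper4.FC.fc_half
      Cfsg.Agent.Lib.Helper4.FC.fc_claimx Cfsg.Agent.Lib.Helper4.FC.fc_bcb1
      Cfsg.Agent.Lib.Helper4.FC.fc_bcb Cfsg.Agent.Lib.Helper4.FC.fc_bcc
      Cfsg.Agent.Lib.Helper4.FC.fc_step1 Cfsg.Agent.Lib.Helper4.FC.fc_conjh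
      Cfsg.Agent.Lib.Helper4.FC.fc_lfdec Cfsg.Agent.Lib.Helper4.FC.fc_lf1
      Cfsg.Agent.Lib.Helper4.FC.fc_lf2 Cfsg.Agent.Lib.Helper4.FC.fc_lfk1
      Cfsg.Agent.Lib.Helper4.FC.fc_lfk2 Cfsg.Agent.Lib.Helper4.FC.fc_lfk3
      Cfsg.Agent.Lib.Helper4.FC.fc_lfz Cfsg.Agent.Lib.Helper4.FC.fc_lfx
      Cfsg.Agent.Lib.Helper4.FC.fc_lfkz Cfsg.Agent.Lib.Helper4.FC.fc_lfend
      Cfsg.Agent.Lib.Helper4.FC.fc_lemf Cfsg.Agent.Lib.Helper4.FC.fc_halla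
      Cfsg.Agent.Lib.Helper4.FC.fc_aidx Cfsg.Agent.Lib.Helper4.FC.fc_s2i
      Cfsg.Agent.Lib.Helper4.FC.fc_s2m Cfsg.Agent.Lib.Helper4.FC.fc_step3
      Cfsg.Agent.Lib.Helper4.FC.fc_sylidx Cfsg.Agent.Lib.Helper4.FC.fc_v1a
      Cfsg.Agent.Lib.Helper4.FC.fc_v1b2 Cfsg.Agent.Lib.Helper4.FC.fc_v1b3
      Cfsg.Agent.Lib.Helper4.FC.fc_v1b Cfsg.Agent.Lib.Helper4.FC.fc_fixpt
      Cfsg.Agent.Lib.Helper4.FC.fc_step4 Cfsg.Agent.Lib.Helper4.FC.fc_caseb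
      Cfsg.Agent.Lib.Helper4.FC.fc_npc Cfsg.Agent.Lib.Helper4.FC.fc_kq
      Cfsg.Agent.Lib.Helper4.FC.fc_w1 Cfsg.Agent.Lib.Helper4.FC.fc_w2
      Cfsg.Agent.Lib.Helper4.FC.fc_w3 Cfsg.Agent.Lib.Helper4.FC.fc_w4 Cfsg.Agent.Lib.Helper4.FC.fc_w
      Cfsg.Agent.Lib.Helper4.FC.fc_itonil Cfsg.Agent.Lib.Helper4.FC.fc_nilprod
      Cfsg.Agent.Lib.Helper4.FC.fc_a1a Cfsg.Agent.Lib.Helper4.FC.fc_a1
      Cfsg.Agent.Lib.Helper4.FC.fc_a2h Cfsg.Agent.Lib.Helper4.FC.fc_a2k1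
      Cfsg.Agent.Lib.Helper4.FC.fc_a2k2 Cfsg.Agent.Lib.Helper4.FC.fc_a2k3
      Cfsg.Agent.Lib.Helper4.FC.fc_z2d Cfsg.Agent.Lib.Helper4.FC.fc_z2a
      Cfsg.Agent.Lib.Helper4.FC.fc_z2b Cfsg.Agent.Lib.Helper4.FC.fc_z2e
      Cfsg.Agent.Lib.Helper4.FC.fc_z2f Cfsg.Agent.Lib.Helper4.FC.fc_z2absa
      Cfsg.Agent.Lib.Helper4.FC.fc_z2abs Cfsg.Agent.Lib.Helper4.FC.fc_a2
      Cfsg.Agent.Lib.Helper4.FC.fc_thma Cfsg.Agent.Lib.Helper4.FC.fc_final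
      G n m hF

end Cfsg.Agent.S4146
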