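import Cfsg.Statements.S4194
import Cfsg.Agent.Lib.Helper77.CaminaHerzog

set_option autoImplicit false
open Cfsg

namespace Cfsg.Agent.S4194

open Cfsg.Agent.Lib.Helper77 Cfsg.Agent.S4354 in
/-- A finite group G has commutative Sylow 2-subgroups if and only if every 2-element of G (element of order a power of 2) is 2-central, that is, its centralizer contains a Sylow 2-subgroup of G. -/
theorem result {G : Type*} [Group G] [Finite G] (P : Sylow 2 G) :
    IsMulCommutative (P : Subgroup G) ↔ ∀ x : G, (∃ k : ℕ, orderOf x = 2 ^ k) → (∃ Q : Sylow 2 G, (Q : Subgroup G) ≤ Subgroup.centralizer ({x} : Set G)) := by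
  have : Fact (Nat.Prime 2) := ⟨Nat.prime_two⟩
  constructor
  · intro hcomm x hx
    have hzp : IsPGroup 2 (Subgroup.zpowers x) := by
      obtain ⟨k, hk⟩ := hx
      exact IsPGroup.of_card (n := k) (by rw [Nat.card_zpowers]; exact hk)
    obtain ⟨Q, hQ⟩ := hzp.exists_le_sylow
    have hxQ : x ∈ Q := hQ (Subgroup.mem_zpowers x)
    obtain ⟨g, rfl⟩ := MulAction.exists_smul_eq G P Q
    refine ⟨g • P, ?_⟩
    intro q hq
    have hq' : q ∈ (g • P : Sylow 2 G) := hq
    rw [mem_smul_sylow] at hq' hxQ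
    rw [ch_mem_cent]
    have h1 := hcomm.is_comm.comm (⟨g⁻¹ * q * g, hq'⟩ : (P : Subgroup G)) ⟨g⁻¹ * x * g, hxQ⟩
    have h2 : (g⁻¹ * q * g) * (g⁻¹ * x * g) = (g⁻¹ * x * g) * (g⁻¹ * q * g) :=
      congrArg Subtype.val h1
    calc q * x = g * ((g⁻¹ * q * g) * (g⁻¹ * x * g)) * g⁻¹ := by group
      _ = g * ((g⁻¹ * x * g) * (g⁻¹ * q * g)) * g⁻¹ := by rw [h2]
      _ = x * q := by group
  · intro h
    have hP : ChHyp G := by
      intro x hx
      obtain ⟨Q, hQ⟩ := h x hx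
      exact ⟨Q, fun q hq => (ch_mem_cent x q).mp (hQ hq)⟩
    exact ⟨⟨fun a b => Subtype.ext (ch_sylow_comm hP P a.1 a.2 b.1 b.2)⟩⟩

end Cfsg.Agent.S4194
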