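import Cfsg.Statements.S4236
import Cfsg.Agent.S4304
import Cfsg.Agent.Lib.Helper23.Syl
import Mathlib

set_option autoImplicit false
open Cfsg

namespace Cfsg.Agent.S4236

open Subgroup
open Cfsg.Agent.S4304 (card_mul_relIndex_of_le card_sylow_quotient_dvd card_sylow_of_forall_le
  mem_smul_sylow sylow_eq_of_le sylow_card_eq)

universe u

/-! The first part is helper76's argument for `n_7 ≠ 15` (S4304), transcribed to `n_17 ≠ 35`. -/

section main
variable {G : Type u} [Group G] [Finite G]

theorem sup_eq_top_of_normal [Fact (Nat.Prime 17)] (h35 : Nat.card (Sylow 17 G) = 35)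
    (hmin : ∀ (K : Type u) [Group K] [Finite K], Nat.card K < Nat.card G →
      Nat.card (Sylow 17 K) ≠ 35)
    (M : Subgroup G) [M.Normal] (hM : M ≠ ⊥) (P : Sylow 17 G) : (P : Subgroup G) ⊔ M = ⊤ := by
  have hf : Function.Surjective (QuotientGroup.mk' M) := QuotientGroup.mk'_surjective M
  have hdvd := card_sylow_quotient_dvd 17 M
  rw [h35] at hdvd
  have hmod : Nat.card (Sylow 17 (G ⧸ M)) % 17 = 1 := card_sylow_modEq_one 17 (G ⧸ M)
  have hlt : Nat.card (G ⧸ M) < Nat.card G := by
    rw [Subgroup.card_eq_card_quotient_mul_card_subgroup M]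
    have h1 : 1 < Nat.card M := by
      rw [Subgroup.one_lt_card_iff_ne_bot]; exact hM
    have h2 : 0 < Nat.card (G ⧸ M) := Nat.card_pos
    nlinarith
  have hne := hmin (G ⧸ M) hlt
  have h1 : Nat.card (Sylow 17 (G ⧸ M)) = 1 := by
    have hle : Nat.card (Sylow 17 (G ⧸ M)) ≤ 35 := Nat.le_of_dvd (by norm_num) hdvd
    generalize Nat.card (Sylow 17 (G ⧸ M)) = k at *
    interval_cases k <;> omega
  have hsub : Subsingleton (Sylow 17 (G ⧸ M)) := (Nat.card_eq_one_iff_unique.mp h1).1
  have hall : ∀ Q : Sylow 17 G, (Q : Subgroup G) ≤ (P : Subgroup G) ⊔ M := by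
    intro Q
    have h2 : Sylow.mapSurjective hf Q = Sylow.mapSurjective hf P := Subsingleton.elim _ _
    have h3 : (Q : Subgroup G).map (QuotientGroup.mk' M) =
        (P : Subgroup G).map (QuotientGroup.mk' M) := by
      have := congrArg (fun S : Sylow 17 (G ⧸ M) => (S : Subgroup (G ⧸ M))) h2
      simpa [Sylow.coe_mapSurjective] using this
    calc (Q : Subgroup G)
        ≤ ((Q : Subgroup G).map (QuotientGroup.mk' M)).comap (QuotientGroup.mk' M) :=
          Subgroup.le_comap_map _ _
      _ = ((P : Subgroup G).map (QuotientGroup.mk' M)).comap (QuotientGroup.mk' M) := by rw [h3]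
      _ = (P : Subgroup G) ⊔ M := by rw [Subgroup.comap_map_eq, QuotientGroup.ker_mk']
  have hL := card_sylow_of_forall_le 17 _ hall
  rw [h35] at hL
  by_contra hne'
  have hlt2 : Nat.card ((P : Subgroup G) ⊔ M : Subgroup G) < Nat.card G := by
    refine lt_of_le_of_ne (Subgroup.card_le_card_group _) ?_
    intro h
    exact hne' ((Subgroup.card_eq_iff_eq_top _).mp h)
  exact hmin _ hlt2 hL

theorem orbit_and_relIndex [Fact (Nat.Prime 17)] (h35 : Nat.card (Sylow 17 G) = 35)
    (P Q : Sylow 17 G) (hPQ : P ≠ Q) :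
    P ∉ MulAction.orbit (P : Subgroup G) Q ∧
    (MulAction.orbit (P : Subgroup G) Q).ncard = 17 ∧
      ((P : Subgroup G) ⊓ Q).relIndex P = 17 := by
  have hstab : MulAction.stabilizer (P : Subgroup G) Q =
      ((P : Subgroup G) ⊓ Q).subgroupOf P := by
    ext x
    rw [MulAction.mem_stabilizer_iff, Subgroup.mem_subgroupOf, Subgroup.smul_def,
      Sylow.smul_eq_iff_mem_normalizer, ← IsPGroup.inf_normalizer_sylow P.2 Q]
    constructor
    · intro h; exact ⟨x.2, h⟩
    · intro h; exact h.2
  have hidx : ((P : Subgroup G) ⊓ Q).relIndex P = (MulAction.orbit (P : Subgroup G) Q).ncard := by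
    rw [Subgroup.relIndex, ← hstab, MulAction.index_stabilizer]
  have hnotmem : P ∉ MulAction.orbit (P : Subgroup G) Q := by
    rintro ⟨x, hx⟩
    apply hPQ
    have h1 : (x : G)⁻¹ • P = P := by
      rw [Sylow.smul_eq_iff_mem_normalizer]
      exact Subgroup.le_normalizer (inv_mem x.2)
    have h2 : (x : G) • Q = P := hx
    calc P = (x : G)⁻¹ • P := h1.symm
      _ = (x : G)⁻¹ • ((x : G) • Q) := by rw [h2]
      _ = Q := inv_smul_smul _ _
  obtain ⟨n, hn⟩ := IsPGroup.card_orbit P.2 Q
  rw [Nat.card_coe_set_eq] at hn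
  have hle : (MulAction.orbit (P : Subgroup G) Q).ncard + 1 ≤ 35 := by
    rw [← Set.ncard_insert_of_notMem hnotmem (Set.toFinite _), ← h35]
    exact Set.ncard_le_card _
  have hne1 : (MulAction.orbit (P : Subgroup G) Q).ncard ≠ 1 := by
    intro h1
    rw [← hidx, Subgroup.relIndex_eq_one] at h1
    exact hPQ (sylow_eq_of_le (h1.trans inf_le_right))
  have h17 : (MulAction.orbit (P : Subgroup G) Q).ncard = 17 := by
    rw [hn] at hle hne1 ⊢
    rcases n with _ | _ | n
    · simp at hne1
    · simp
    · have : 17 ^ 2 ≤ 17 ^ (n + 1 + 1) := Nat.pow_le_pow_right (by norm_num) (by omega)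
      omega
  exact ⟨hnotmem, h17, hidx.trans h17⟩

theorem card_inf_mul [Fact (Nat.Prime 17)] (h35 : Nat.card (Sylow 17 G) = 35)
    (P Q : Sylow 17 G) (hPQ : P ≠ Q) :
    Nat.card ((P : Subgroup G) ⊓ Q : Subgroup G) * 17 = Nat.card (P : Subgroup G) := by
  have h := card_mul_relIndex_of_le (inf_le_left : (P : Subgroup G) ⊓ Q ≤ P)
  rwa [(orbit_and_relIndex h35 P Q hPQ).2.2] at h

theorem conj_mem_inf [Fact (Nat.Prime 17)] (h35 : Nat.card (Sylow 17 G) = 35)
    (P Q : Sylow 17 G) (hPQ : P ≠ Q) (x d : G) (hx : x ∈ (P : Subgroup G))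
    (hd : d ∈ (P : Subgroup G) ⊓ Q) : x⁻¹ * d * x ∈ (P : Subgroup G) ⊓ Q := by
  have hidx := (orbit_and_relIndex h35 P Q hPQ).2.2
  have hcard := card_inf_mul h35 P Q hPQ
  have hnorm : (((P : Subgroup G) ⊓ Q).subgroupOf P).Normal := by
    apply Subgroup.normal_of_index_eq_minFac_card
    have h1 : ((P : Subgroup G) ⊓ Q).relIndex P = (((P : Subgroup G) ⊓ Q).subgroupOf P).index := rfl
    rw [← h1, hidx]
    obtain ⟨n, hn⟩ := (IsPGroup.iff_card.mp P.2)
    rw [hn]
    have hn0 : n ≠ 0 := by
      rintro rfl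
      rw [hn] at hcard
      omega
    rw [Nat.Prime.pow_minFac (by norm_num) hn0]
  have := hnorm.conj_mem ⟨d, hd.1⟩ (Subgroup.mem_subgroupOf.mpr hd) ⟨x⁻¹, inv_mem hx⟩
  rw [Subgroup.mem_subgroupOf] at this
  simpa using this

theorem inf_le_of_ne [Fact (Nat.Prime 17)] (h35 : Nat.card (Sylow 17 G) = 35)
    (P Q R : Sylow 17 G) (hQ : Q ≠ P) (hR : R ≠ P) : (P : Subgroup G) ⊓ R ≤ Q := by
  by_contra hcon
  obtain ⟨x, hx, hxQ⟩ := SetLike.not_le_iff_exists.mp hcon
  have hQR : Q ≠ R := by
    rintro rfl
    exact hxQ hx.2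
  have hQ' : x • Q ≠ Q := by
    intro h
    rw [Sylow.smul_eq_iff_mem_normalizer] at h
    have h2 : x ∈ (P : Subgroup G) ⊓ normalizer (Q : Set G) := ⟨hx.1, h⟩
    rw [IsPGroup.inf_normalizer_sylow P.2 Q] at h2
    exact hxQ h2.2
  have c1 := card_inf_mul h35 P Q hQ.symm
  have c2 := card_inf_mul h35 Q (x • Q) hQ'.symm
  have c3 := card_inf_mul h35 R Q hQR.symm
  have c4 := card_inf_mul h35 P R hR.symm
  have e1 := sylow_card_eq P Q
  have e2 := sylow_card_eq P R
  have hD1 : (P : Subgroup G) ⊓ Q = (Q : Subgroup G) ⊓ (x • Q : Sylow 17 G) := by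
    apply Subgroup.eq_of_le_of_card_ge
    · intro d hd
      refine Subgroup.mem_inf.mpr ⟨hd.2, ?_⟩
      rw [mem_smul_sylow]
      exact (conj_mem_inf h35 P Q hQ.symm x d hx.1 hd).2
    · omega
  have hE : (R : Subgroup G) ⊓ Q = (Q : Subgroup G) ⊓ (x • Q : Sylow 17 G) := by
    apply Subgroup.eq_of_le_of_card_ge
    · intro d hd
      refine Subgroup.mem_inf.mpr ⟨hd.2, ?_⟩
      rw [mem_smul_sylow]
      exact (conj_mem_inf h35 R Q hQR.symm x d hx.2 hd).2
    · omega
  have hD2 : (P : Subgroup G) ⊓ Q = (P : Subgroup G) ⊓ R := by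
    apply Subgroup.eq_of_le_of_card_ge
    · intro d hd
      refine Subgroup.mem_inf.mpr ⟨hd.1, ?_⟩
      have : d ∈ (R : Subgroup G) ⊓ Q := by rw [hE, ← hD1]; exact hd
      exact this.1
    · omega
  rw [← hD2] at hx
  exact hxQ hx.2

theorem inf_eq_bot [Fact (Nat.Prime 17)] (h35 : Nat.card (Sylow 17 G) = 35)
    (hmin : ∀ (K : Type u) [Group K] [Finite K], Nat.card K < Nat.card G →
      Nat.card (Sylow 17 K) ≠ 35)
    (P Q : Sylow 17 G) (hPQ : P ≠ Q) : (P : Subgroup G) ⊓ Q = ⊥ := by
  have hle : (P : Subgroup G) ⊓ Q ≤ (P : Subgroup G).normalCore := by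
    intro x hx b
    have hxR : x ∈ ((b⁻¹ • P : Sylow 17 G) : Subgroup G) := by
      by_cases hR : b⁻¹ • P = P
      · rw [hR]; exact hx.1
      · exact inf_le_of_ne h35 P (b⁻¹ • P) Q hR hPQ.symm hx
    rw [mem_smul_sylow, inv_inv] at hxR
    exact hxR
  have hO : (P : Subgroup G).normalCore = ⊥ := by
    by_contra hne
    have h1 := sup_eq_top_of_normal h35 hmin (P : Subgroup G).normalCore hne P
    rw [sup_eq_left.mpr (Subgroup.normalCore_le _)] at h1
    apply hPQ
    symm
    apply sylow_eq_of_le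
    rw [h1]
    exact le_top
  rw [hO] at hle
  exact le_bot_iff.mp hle

theorem card_sylow_seventeen [Fact (Nat.Prime 17)] (h35 : Nat.card (Sylow 17 G) = 35)
    (hmin : ∀ (K : Type u) [Group K] [Finite K], Nat.card K < Nat.card G →
      Nat.card (Sylow 17 K) ≠ 35)
    (P : Sylow 17 G) : Nat.card (P : Subgroup G) = 17 := by
  have hnt : Nontrivial (Sylow 17 G) := by
    rw [← Finite.one_lt_card_iff_nontrivial, h35]
    norm_num
  obtain ⟨Q, hQ⟩ := exists_ne P
  have h := card_inf_mul h35 P Q hQ.symm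
  rw [inf_eq_bot h35 hmin P Q hQ.symm] at h
  simpa using h.symm

theorem eq_one_of_forall_smul [Fact (Nat.Prime 17)] (h35 : Nat.card (Sylow 17 G) = 35)
    (hmin : ∀ (K : Type u) [Group K] [Finite K], Nat.card K < Nat.card G →
      Nat.card (Sylow 17 K) ≠ 35)
    (g : G) (hg : ∀ Q : Sylow 17 G, g • Q = Q) : g = 1 := by
  have hmem : ∀ k : G, k ∈ (MulAction.toPermHom G (Sylow 17 G)).ker ↔
      ∀ Q : Sylow 17 G, k • Q = Q := by
    intro k
    rw [MonoidHom.mem_ker, Equiv.Perm.ext_iff]
    rfl
  by_contra hg1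
  have hK : (MulAction.toPermHom G (Sylow 17 G)).ker ≠ ⊥ := by
    intro hbot
    have : g ∈ (MulAction.toPermHom G (Sylow 17 G)).ker := (hmem g).mpr hg
    rw [hbot, Subgroup.mem_bot] at this
    exact hg1 this
  obtain ⟨P⟩ : Nonempty (Sylow 17 G) := inferInstance
  have htop := sup_eq_top_of_normal h35 hmin _ hK P
  have hle : (P : Subgroup G) ⊔ (MulAction.toPermHom G (Sylow 17 G)).ker ≤ normalizer (P : Set G) := by
    refine sup_le Subgroup.le_normalizer ?_
    intro k hk
    exact Sylow.smul_eq_iff_mem_normalizer.mp ((hmem k).mp hk P)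
  rw [htop] at hle
  have hidx := Sylow.card_eq_index_normalizer P
  rw [top_le_iff.mp hle, Subgroup.index_top, h35] at hidx
  omega

theorem pow_smul_eq_self {α : Type*} [MulAction G α] (g : G) (a : α) (h : g • a = a) (k : ℕ) :
    g ^ k • a = a := by
  induction k with
  | zero => simp
  | succ k ih => rw [pow_succ, mul_smul, h, ih]

theorem eq_of_centralizer_fix [Fact (Nat.Prime 17)] (h35 : Nat.card (Sylow 17 G) = 35)
    (hmin : ∀ (K : Type u) [Group K] [Finite K], Nat.card K < Nat.card G →
      Nat.card (Sylow 17 K) ≠ 35)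
    (P Q : Sylow 17 G) (y : G) (hy : y ∈ centralizer ((P : Subgroup G) : Set G)) (hy1 : y ≠ 1)
    (hyQ : y • Q = Q) : Q = P := by
  by_contra hQP
  have hcomm : ∀ k : ℕ, ∀ x ∈ (P : Subgroup G), x * y ^ k = y ^ k * x := by
    intro k x hx
    have h1 : x * y = y * x := Subgroup.mem_centralizer_iff.mp hy x hx
    exact (Commute.pow_right h1 k)
  have hyP : ∀ k : ℕ, y ^ k • P = P := by
    intro k
    apply pow_smul_eq_self
    rw [Sylow.smul_eq_iff_mem_normalizer]
    exact Subgroup.centralizer_le_normalizer _ hy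
  obtain ⟨hP1, h171, -⟩ := orbit_and_relIndex h35 P Q (Ne.symm hQP)
  have hne : insert P (MulAction.orbit (P : Subgroup G) Q) ≠ Set.univ := by
    intro h
    have := congrArg Set.ncard h
    rw [Set.ncard_insert_of_notMem hP1 (Set.toFinite _), Set.ncard_univ, h35, h171] at this
    omega
  obtain ⟨R, hR⟩ := (Set.ne_univ_iff_exists_notMem _).mp hne
  have hRP : R ≠ P := fun h => hR (h ▸ Set.mem_insert _ _)
  have hRO : R ∉ MulAction.orbit (P : Subgroup G) Q := fun h => hR (Set.mem_insert_of_mem _ h)
  obtain ⟨hP2, h172, -⟩ := orbit_and_relIndex h35 P R (Ne.symm hRP)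
  have hdisj : Disjoint (insert P (MulAction.orbit (P : Subgroup G) Q))
      (MulAction.orbit (P : Subgroup G) R) := by
    rw [Set.disjoint_left]
    intro z hz1 hz2
    rcases hz1 with rfl | hz1
    · exact hP2 hz2
    · apply hRO
      rw [← MulAction.orbit_eq_iff, ← MulAction.orbit_eq_iff.mpr hz1, MulAction.orbit_eq_iff.mpr hz2]
  have hall : ∀ R' : Sylow 17 G, R' = P ∨ R' ∈ MulAction.orbit (P : Subgroup G) Q ∨
      R' ∈ MulAction.orbit (P : Subgroup G) R := by
    have huniv : insert P (MulAction.orbit (P : Subgroup G) Q) ∪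
        MulAction.orbit (P : Subgroup G) R = Set.univ := by
      rw [Set.eq_univ_iff_ncard, Set.ncard_union_eq hdisj (Set.toFinite _) (Set.toFinite _),
        Set.ncard_insert_of_notMem hP1 (Set.toFinite _), h171, h172, h35]
    intro R'
    have : R' ∈ insert P (MulAction.orbit (P : Subgroup G) Q) ∪
        MulAction.orbit (P : Subgroup G) R := by rw [huniv]; exact Set.mem_univ _
    rcases this with (rfl | h) | h
    · exact Or.inl rfl
    · exact Or.inr (Or.inl h)
    · exact Or.inr (Or.inr h)
  -- y • R lies in the orbit of R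
  have hyR : y • R ∈ MulAction.orbit (P : Subgroup G) R := by
    rcases hall (y • R) with h | h | h
    · exfalso
      apply hRP
      have h2 := hyP 1
      rw [pow_one] at h2
      exact smul_left_cancel y (h.trans h2.symm)
    · exfalso
      obtain ⟨x, hx⟩ := h
      have hx' : (x : G) • Q = y • R := hx
      have h2 : y • (y • R) = y • R := by
        rw [← hx', ← mul_smul, ← pow_one y, ← hcomm 1 x x.2, mul_smul, pow_one, hyQ]
      have h3 : y • R = R := smul_left_cancel y h2
      apply hRO
      rw [← h3]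
      exact ⟨x, hx⟩
    · exact h
  obtain ⟨x₀, hx₀⟩ := hyR
  have hx₀' : (x₀ : G) • R = y • R := hx₀
  have hpow : ∀ k : ℕ, y ^ k • R = (x₀ : G) ^ k • R := by
    intro k
    induction k with
    | zero => simp
    | succ k ih =>
      rw [pow_succ, mul_smul, ← hx₀', ← mul_smul, ← hcomm k x₀ x₀.2, mul_smul, ih, ← mul_smul,
        ← pow_succ']
  have hx17 : (x₀ : G) ^ 17 = 1 := by
    have h1 : x₀ ^ Nat.card (P : Subgroup G) = 1 := pow_card_eq_one'
    rw [card_sylow_seventeen h35 hmin P] at h1
    have := congrArg Subtype.val h1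
    simpa using this
  have hy17R : y ^ 17 • R = R := by rw [hpow, hx17, one_smul]
  have hy17Q : y ^ 17 • Q = Q := pow_smul_eq_self y Q hyQ 17
  have hy17 : y ^ 17 = 1 := by
    apply eq_one_of_forall_smul h35 hmin
    intro R'
    rcases hall R' with rfl | ⟨x, rfl⟩ | ⟨x, rfl⟩
    · exact hyP 17
    · show y ^ 17 • ((x : G) • Q) = (x : G) • Q
      rw [← mul_smul, ← hcomm 17 x x.2, mul_smul, hy17Q]
    · show y ^ 17 • ((x : G) • R) = (x : G) • R
      rw [← mul_smul, ← hcomm 17 x x.2, mul_smul, hy17R]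
  have hp : IsPGroup 17 (zpowers y) := by
    rintro ⟨g, hg⟩
    obtain ⟨j, rfl⟩ := Subgroup.mem_zpowers_iff.mp hg
    refine ⟨1, Subtype.ext ?_⟩
    show (y ^ j) ^ 17 ^ 1 = 1
    rw [pow_one, ← zpow_natCast, ← zpow_mul, mul_comm, zpow_mul, zpow_natCast, hy17, one_zpow]
  have hyP' : y ∈ (P : Subgroup G) := by
    have h1 : y ∈ zpowers y ⊓ normalizer (P : Set G) :=
      ⟨Subgroup.mem_zpowers y, Subgroup.centralizer_le_normalizer _ hy⟩
    rw [IsPGroup.inf_normalizer_sylow hp P] at h1
    exact h1.2
  have hyQ' : y ∈ (Q : Subgroup G) := by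
    have h1 : y ∈ zpowers y ⊓ normalizer (Q : Set G) :=
      ⟨Subgroup.mem_zpowers y, Sylow.smul_eq_iff_mem_normalizer.mp hyQ⟩
    rw [IsPGroup.inf_normalizer_sylow hp Q] at h1
    exact h1.2
  have hbot : y ∈ (P : Subgroup G) ⊓ Q := ⟨hyP', hyQ'⟩
  rw [inf_eq_bot h35 hmin P Q (Ne.symm hQP), Subgroup.mem_bot] at hbot
  exact hy1 hbot

theorem card_dvd_of_free [Fact (Nat.Prime 17)] (h35 : Nat.card (Sylow 17 G) = 35)
    (P : Sylow 17 G) (A : Subgroup G) (hA : A ≤ normalizer (P : Set G))
    (hfree : ∀ a ∈ A, a ≠ 1 → ∀ Q : Sylow 17 G, a • Q = Q → Q = P) : Nat.card A ∣ 34 := by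
  classical
  haveI : Fintype A := Fintype.ofFinite _
  haveI : Fintype (Quotient (MulAction.orbitRel A (Sylow 17 G))) := Fintype.ofFinite _
  haveI : ∀ a : A, Fintype (MulAction.fixedBy (Sylow 17 G) a) := fun a => Fintype.ofFinite _
  have hb := MulAction.sum_card_fixedBy_eq_card_orbits_mul_card_group A (Sylow 17 G)
  have hfix : ∀ a : A, Fintype.card (MulAction.fixedBy (Sylow 17 G) a) =
      1 + if a = 1 then 34 else 0 := by
    intro a
    rw [← Nat.card_eq_fintype_card, Nat.card_coe_set_eq]
    split_ifs with h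
    · subst h
      have : MulAction.fixedBy (Sylow 17 G) (1 : A) = Set.univ := by
        ext Q
        simp
      rw [this, Set.ncard_univ, h35]
    · have : MulAction.fixedBy (Sylow 17 G) a = {P} := by
        ext Q
        simp only [MulAction.mem_fixedBy, Set.mem_singleton_iff]
        constructor
        · intro hQ
          refine hfree a a.2 ?_ Q hQ
          intro h1
          exact h (Subtype.ext h1)
        · rintro rfl
          exact Sylow.smul_eq_iff_mem_normalizer.mpr (hA a.2)
      rw [this, Set.ncard_singleton]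
  simp_rw [hfix] at hb
  rw [Finset.sum_add_distrib, Finset.sum_ite_eq' Finset.univ (1 : A)] at hb
  simp only [Finset.sum_const, Finset.card_univ, smul_eq_mul, mul_one, Finset.mem_univ,
    if_true] at hb
  rw [Nat.card_eq_fintype_card]
  exact (Nat.dvd_add_right (dvd_refl _)).mp ⟨_, by rw [hb, mul_comm]⟩

theorem card_centralizer_dvd [Fact (Nat.Prime 17)] (h35 : Nat.card (Sylow 17 G) = 35)
    (hmin : ∀ (K : Type u) [Group K] [Finite K], Nat.card K < Nat.card G →
      Nat.card (Sylow 17 K) ≠ 35) (P : Sylow 17 G) :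
    Nat.card (centralizer ((P : Subgroup G) : Set G)) ∣ 34 :=
  card_dvd_of_free h35 P _ (Subgroup.centralizer_le_normalizer _)
    (fun a ha ha1 Q hQ => eq_of_centralizer_fix h35 hmin P Q a ha ha1 hQ)

theorem card_dvd [Fact (Nat.Prime 17)] (h35 : Nat.card (Sylow 17 G) = 35)
    (hmin : ∀ (K : Type u) [Group K] [Finite K], Nat.card K < Nat.card G →
      Nat.card (Sylow 17 K) ≠ 35) : Nat.card G ∣ 19040 := by
  obtain ⟨P⟩ : Nonempty (Sylow 17 G) := inferInstance
  have hN := Cfsg.Agent.Lib.Helper23.card_normalizer_sylow_mul P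
  have hC := card_centralizer_dvd h35 hmin P
  have hrel := Cfsg.Agent.Lib.Helper23.relIndex_centralizer_normalizer_dvd_pred (p := 17)
    (P : Subgroup G) (card_sylow_seventeen h35 hmin P)
  have hmul := card_mul_relIndex_of_le
    (Subgroup.centralizer_le_normalizer ((P : Subgroup G) : Set G))
  rw [← hN, ← hmul, h35]
  exact Nat.mul_dvd_mul (Nat.mul_dvd_mul hC hrel) (dvd_refl 35)

/-- in a minimal counterexample no proper subgroup contains all Sylow `17`-subgroups -/
theorem eq_top_of_forall_le [Fact (Nat.Prime 17)] (h35 : Nat.card (Sylow 17 G) = 35)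
    (hmin : ∀ (K : Type u) [Group K] [Finite K], Nat.card K < Nat.card G →
      Nat.card (Sylow 17 K) ≠ 35)
    (L : Subgroup G) (h : ∀ Q : Sylow 17 G, (Q : Subgroup G) ≤ L) : L = ⊤ := by
  have hL := card_sylow_of_forall_le 17 L h
  rw [h35] at hL
  by_contra hne
  have hlt : Nat.card L < Nat.card G := by
    refine lt_of_le_of_ne (Subgroup.card_le_card_group _) ?_
    intro h'
    exact hne ((Subgroup.card_eq_iff_eq_top _).mp h')
  exact hmin _ hlt hL

/-- a homomorphism to a group of order prime to `17` is trivial on Sylow `17`-subgroups -/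
theorem sylow_le_ker [Fact (Nat.Prime 17)] {A : Type*} [Group A] [Finite A] (φ : G →* A)
    (hA : (Nat.card A).Coprime 17) (Q : Sylow 17 G) : (Q : Subgroup G) ≤ φ.ker := by
  intro x hx
  rw [MonoidHom.mem_ker]
  obtain ⟨k, hk⟩ := (IsPGroup.iff_orderOf.mp Q.2) ⟨x, hx⟩
  rw [Subgroup.orderOf_mk] at hk
  have h1 : orderOf (φ x) ∣ 17 ^ k := hk ▸ orderOf_map_dvd φ x
  have h2 : orderOf (φ x) ∣ Nat.card A := orderOf_dvd_natCard (φ x)
  have h3 : (Nat.card A).Coprime (17 ^ k) := Nat.Coprime.pow_right k hA
  exact orderOf_eq_one_iff.mp (Nat.eq_one_of_dvd_coprimes h3 h2 h1)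

theorem false_of_involution_centralizer [Fact (Nat.Prime 17)] (h35 : Nat.card (Sylow 17 G) = 35)
    (hmin : ∀ (K : Type u) [Group K] [Finite K], Nat.card K < Nat.card G →
      Nat.card (Sylow 17 K) ≠ 35)
    (P : Sylow 17 G) (t : G) (ht : t ∈ centralizer ((P : Subgroup G) : Set G)) (ht1 : t ≠ 1)
    (ht2 : t ^ 2 = 1) : False := by
  classical
  haveI : Fintype (Sylow 17 G) := Fintype.ofFinite _
  have hσ : ∀ Q, MulAction.toPermHom G (Sylow 17 G) t Q = t • Q := fun Q => rfl
  have hσ1 : MulAction.toPermHom G (Sylow 17 G) t ≠ 1 := by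
    intro h
    apply ht1
    apply eq_one_of_forall_smul h35 hmin
    intro Q
    rw [← hσ, h]
    rfl
  have hσ2 : (MulAction.toPermHom G (Sylow 17 G) t) ^ 2 = 1 := by
    rw [← map_pow, ht2, map_one]
  have hord : orderOf (MulAction.toPermHom G (Sylow 17 G) t) = 2 := orderOf_eq_prime hσ2 hσ1
  have hsupp : (MulAction.toPermHom G (Sylow 17 G) t).support.card = 34 := by
    have : (MulAction.toPermHom G (Sylow 17 G) t).support = Finset.univ.erase P := by
      ext Q
      rw [Equiv.Perm.mem_support, Finset.mem_erase, hσ]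
      simp only [Finset.mem_univ, and_true]
      constructor
      · intro h hQP
        apply h
        rw [hQP, Sylow.smul_eq_iff_mem_normalizer]
        exact Subgroup.centralizer_le_normalizer _ ht
      · intro hQP h
        exact hQP (eq_of_centralizer_fix h35 hmin P Q t ht ht1 h)
    rw [this, Finset.card_erase_of_mem (Finset.mem_univ _), Finset.card_univ,
      ← Nat.card_eq_fintype_card, h35]
  obtain ⟨n, hn⟩ := Equiv.Perm.cycleType_prime_order
    (σ := MulAction.toPermHom G (Sylow 17 G) t) (by rw [hord]; norm_num)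
  have hsum := Equiv.Perm.sum_cycleType (MulAction.toPermHom G (Sylow 17 G) t)
  rw [hn, hord, Multiset.sum_replicate, hsupp] at hsum
  have hn16 : n = 16 := by
    simp only [smul_eq_mul] at hsum
    omega
  have hsign : Equiv.Perm.sign (MulAction.toPermHom G (Sylow 17 G) t) = -1 := by
    rw [Equiv.Perm.sign_of_cycleType, hn, hord, hn16]
    simp only [Multiset.sum_replicate, Multiset.card_replicate, smul_eq_mul]
    exact Odd.neg_one_pow (by decide)
  have htop : (Equiv.Perm.sign.comp (MulAction.toPermHom G (Sylow 17 G))).ker = ⊤ := by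
    apply eq_top_of_forall_le h35 hmin
    intro Q
    apply sylow_le_ker
    rw [Nat.card_eq_fintype_card, Fintype.card_units_int]
    norm_num
  have : t ∈ (Equiv.Perm.sign.comp (MulAction.toPermHom G (Sylow 17 G))).ker := by
    rw [htop]; trivial
  rw [MonoidHom.mem_ker, MonoidHom.comp_apply, hsign] at this
  exact absurd this (by decide)

theorem card_centralizer [Fact (Nat.Prime 17)] (h35 : Nat.card (Sylow 17 G) = 35)
    (hmin : ∀ (K : Type u) [Group K] [Finite K], Nat.card K < Nat.card G →
      Nat.card (Sylow 17 K) ≠ 35) (P : Sylow 17 G) :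
    Nat.card (centralizer ((P : Subgroup G) : Set G)) = 17 := by
  have hC := card_centralizer_dvd h35 hmin P
  have hP := card_sylow_seventeen h35 hmin P
  have h2 : ¬ 2 ∣ Nat.card (centralizer ((P : Subgroup G) : Set G)) := by
    intro h2
    obtain ⟨x, hx⟩ := exists_prime_orderOf_dvd_card' 2 h2
    refine false_of_involution_centralizer h35 hmin P (x : G) x.2 ?_ ?_
    · intro h
      have : x = 1 := Subtype.ext h
      rw [this, orderOf_one] at hx
      omega
    · have := pow_orderOf_eq_one x
      rw [hx] at this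
      exact_mod_cast congrArg Subtype.val this
  have hcomm : IsMulCommutative (P : Subgroup G) := by
    have := isCyclic_of_prime_card hP
    exact IsCyclic.isMulCommutative
  have hle : (P : Subgroup G) ≤ centralizer ((P : Subgroup G) : Set G) := by
    intro x hx
    rw [Subgroup.mem_centralizer_iff]
    intro y hy
    have := hcomm.is_comm.comm (⟨y, hy⟩ : (P : Subgroup G)) ⟨x, hx⟩
    exact congrArg Subtype.val this
  have h17 : 17 ∣ Nat.card (centralizer ((P : Subgroup G) : Set G)) := by
    have := Subgroup.card_dvd_of_le hle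
    rwa [hP] at this
  have hle34 := Nat.le_of_dvd (by norm_num) hC
  generalize Nat.card (centralizer ((P : Subgroup G) : Set G)) = c at *
  interval_cases c <;> omega

theorem main_false [Fact (Nat.Prime 17)] (h35 : Nat.card (Sylow 17 G) = 35)
    (hmin : ∀ (K : Type u) [Group K] [Finite K], Nat.card K < Nat.card G →
      Nat.card (Sylow 17 K) ≠ 35) : False := by
  obtain ⟨P⟩ : Nonempty (Sylow 17 G) := inferInstance
  have hP := card_sylow_seventeen h35 hmin P
  have hN := Cfsg.Agent.Lib.Helper23.card_normalizer_sylow_mul P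
  have hC := card_centralizer h35 hmin P
  have hrel := Cfsg.Agent.Lib.Helper23.relIndex_centralizer_normalizer_dvd_pred (p := 17)
    (P : Subgroup G) hP
  have hmul := card_mul_relIndex_of_le
    (Subgroup.centralizer_le_normalizer ((P : Subgroup G) : Set G))
  rw [h35, ← hmul, hC] at hN
  set b := (centralizer ((P : Subgroup G) : Set G)).relIndex (normalizer ((P : Subgroup G) : Set G))
    with hb
  have hb16 : b ∣ 16 := hrel
  by_cases hb1 : b = 1
  · -- the group has order 595: the Sylow 5-subgroup is normal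
    rw [hb1] at hN
    have hG : Nat.card G = 595 := by omega
    have : Fact (Nat.Prime 5) := ⟨by norm_num⟩
    obtain ⟨F⟩ : Nonempty (Sylow 5 G) := inferInstance
    have hF : Nat.card (F : Subgroup G) = 5 := by
      have := Cfsg.Agent.Lib.Helper23.sylow_card_of_eq (p := 5) (k := 1) (m := 119)
        (by rw [hG]; norm_num) (by norm_num) F
      simpa using this
    have hn5 : Nat.card (Sylow 5 G) = 1 := by
      have h1 : Nat.card (Sylow 5 G) ∣ 119 := by
        have := Sylow.card_dvd_index F
        have hidx : (F : Subgroup G).index = 119 := by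
          have := (F : Subgroup G).card_mul_index
          rw [hF, hG] at this
          omega
        rwa [hidx] at this
      have h2 : Nat.card (Sylow 5 G) % 5 = 1 := card_sylow_modEq_one 5 G
      have hle := Nat.le_of_dvd (by norm_num) h1
      generalize Nat.card (Sylow 5 G) = k at *
      interval_cases k <;> omega
    have hFn : (F : Subgroup G).Normal := by
      have hsub : Subsingleton (Sylow 5 G) := (Nat.card_eq_one_iff_unique.mp hn5).1
      exact Sylow.normal_of_subsingleton F
    have hFbot : (F : Subgroup G) ≠ ⊥ := by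
      intro h
      rw [h] at hF
      simp at hF
    have hsup := sup_eq_top_of_normal h35 hmin (F : Subgroup G) hFbot P
    have h3 : Nat.card ((P : Subgroup G) ⊔ F : Subgroup G) ≤ 85 := by
      have h4 := card_mul_relIndex_of_le (le_sup_right : (F : Subgroup G) ≤ (P : Subgroup G) ⊔ F)
      rw [Subgroup.relIndex_sup_right, hF] at h4
      have h5 : (F : Subgroup G).relIndex (P : Subgroup G) ≤ 17 := by
        have := Nat.le_of_dvd Nat.card_pos (Subgroup.relIndex_dvd_card (F : Subgroup G) (P : Subgroup G))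
        rwa [hP] at this
      rw [← h4]
      nlinarith
    rw [hsup, Subgroup.card_top, hG] at h3
    omega
  · -- the Sylow 2-subgroup is cyclic and non-trivial
    have hb2 : 2 ∣ b := by
      have hle := Nat.le_of_dvd (by norm_num) hb16
      interval_cases b <;> omega
    have h2G : 2 ∣ Nat.card G := by
      rw [← hN]
      exact Dvd.dvd.mul_right (Dvd.dvd.mul_left hb2 _) _
    set N := normalizer ((P : Subgroup G) : Set G) with hNdef
    obtain ⟨TN⟩ : Nonempty (Sylow 2 N) := inferInstance
    -- the action on `P` is faithful on `TN`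
    have hinj : Function.Injective
        (((P : Subgroup G).normalizerMonoidHom).comp (TN : Subgroup N).subtype) := by
      rw [← MonoidHom.ker_eq_bot_iff, eq_bot_iff]
      intro x hx
      rw [MonoidHom.mem_ker, MonoidHom.comp_apply] at hx
      have hx2 : (x : N) ∈ ((P : Subgroup G).normalizerMonoidHom).ker := hx
      rw [Subgroup.normalizerMonoidHom_ker, Subgroup.mem_subgroupOf] at hx2
      -- the order of x divides 17 and is a power of 2
      have ho1 : orderOf (((x : N) : G)) ∣ 17 := by
        have := orderOf_dvd_natCard (⟨((x : N) : G), hx2⟩ : centralizer ((P : Subgroup G) : Set G))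
        rwa [hC, Subgroup.orderOf_mk] at this
      obtain ⟨k, hk⟩ := (IsPGroup.iff_orderOf.mp TN.2) x
      rw [← Subgroup.orderOf_coe, ← Subgroup.orderOf_coe] at hk
      rw [hk] at ho1
      have hk0 : k = 0 := by
        by_contra hk0
        have : 2 ∣ 17 := (dvd_pow_self 2 hk0).trans ho1
        omega
      rw [hk0, pow_zero, orderOf_eq_one_iff] at hk
      rw [Subgroup.mem_bot]
      exact Subtype.ext (Subtype.ext hk)
    have hPcyc : IsCyclic (P : Subgroup G) := isCyclic_of_prime_card hP
    have hAutCyc : IsCyclic (MulAut (P : Subgroup G)) := by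
      have e := IsCyclic.mulAutMulEquiv (P : Subgroup G)
      rw [hP] at e
      exact isCyclic_of_surjective e.symm e.symm.surjective
    have hTNcyc : IsCyclic (TN : Subgroup N) := isCyclic_of_injective _ hinj
    -- transport to a Sylow 2-subgroup of G
    have hT'p : IsPGroup 2 ((TN : Subgroup N).map N.subtype) := TN.2.map _
    have hT'idx : ¬ 2 ∣ ((TN : Subgroup N).map N.subtype).index := by
      rw [Subgroup.index_map_subtype]
      have h1 : N.index = 35 := by
        rw [← h35]; exact (Sylow.card_eq_index_normalizer P).symm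
      rw [h1]
      intro h
      rcases (Nat.Prime.dvd_mul Nat.prime_two).mp h with h | h
      · exact TN.not_dvd_index h
      · omega
    let T : Sylow 2 G := hT'p.toSylow hT'idx
    have hTcoe : (T : Subgroup G) = (TN : Subgroup N).map N.subtype := IsPGroup.toSylow_coe _ _
    have hTcyc : IsCyclic (T : Subgroup G) := by
      rw [hTcoe]
      exact isCyclic_of_surjective ((N.subtype).subgroupMap (TN : Subgroup N))
        ((N.subtype).subgroupMap_surjective _)
    have hminFac : (Nat.card G).minFac = 2 := (Nat.minFac_eq_two_iff _).mpr h2G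
    have hcompl := IsCyclic.isComplement' hminFac hTcyc
    have hT2 : ∃ j, Nat.card (T : Subgroup G) = 2 ^ j := IsPGroup.iff_card.mp T.2
    obtain ⟨j, hj⟩ := hT2
    have htop : (MonoidHom.transferSylow T (hTcyc.normalizer_le_centralizer hminFac)).ker = ⊤ := by
      apply eq_top_of_forall_le h35 hmin
      intro Q
      apply sylow_le_ker
      rw [hj]
      exact Nat.Coprime.pow_left j (by norm_num)
    rw [htop] at hcompl
    have hcard := hcompl.card_mul_card
    rw [Subgroup.card_top] at hcard
    have hT1 : Nat.card (T : Subgroup G) = 1 := by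
      have hpos : 0 < Nat.card G := Nat.card_pos
      nlinarith
    have hidx := (T : Subgroup G).card_mul_index
    rw [hT1, one_mul] at hidx
    exact T.not_dvd_index (hidx ▸ h2G)

end main

theorem fact_prime_seventeen : Fact (Nat.Prime 17) := ⟨by norm_num⟩

/-- No finite group has exactly 35 Sylow 17-subgroups. -/
theorem result {G : Type*} [Group G] [Finite G] : Nat.card (Sylow 17 G) ≠ 35 := by
  have := fact_prime_seventeen
  suffices h : ∀ n : ℕ, ∀ (H : Type _) [Group H] [Finite H], Nat.card H = n →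
      Nat.card (Sylow 17 H) ≠ 35 from h _ G rfl
  intro n
  induction n using Nat.strong_induction_on with
  | _ n ih =>
    intro H _ _ hn h35
    exact main_false h35 (fun K _ _ hK => ih _ (hn ▸ hK) K rfl)

end Cfsg.Agent.S4236
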