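import Cfsg.Statements.S4334
import Cfsg.Agent.Lib.Helper2.Frob

set_option autoImplicit false
open Cfsg

namespace Cfsg.Agent.S4334

open Cfsg.Agent.Lib.Helper2

universe u

section aux

variable {G : Type u} [Group G]

theorem mem_normalizer_of_conj_mem [Finite G] {Q : Subgroup G} {y : G}
    (h : ∀ u ∈ Q, y * u * y⁻¹ ∈ Q) : y ∈ Subgroup.normalizer (Q : Set G) := by
  have hmap : Q.map (MulAut.conj y).toMonoidHom = Q := by
    apply Subgroup.eq_of_le_of_card_ge
    · rintro _ ⟨u, hu, rfl⟩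
      exact h u hu
    · rw [Subgroup.card_map_of_injective (MulAut.conj y).injective]
  rw [Subgroup.mem_normalizer_iff]
  intro u
  constructor
  · exact h u
  · intro hu
    rw [← hmap] at hu
    obtain ⟨v, hv, hvu⟩ := hu
    have h2 : y * v * y⁻¹ = y * u * y⁻¹ := hvu
    have h3 : v = u := mul_left_cancel (mul_right_cancel h2)
    rw [← h3]; exact hv

theorem isPGroup_zpowers {p : ℕ} [hp : Fact p.Prime] {x : G} {k : ℕ} (hx : x ^ p ^ k = 1) :
    IsPGroup p (Subgroup.zpowers x) := by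
  have h1 : orderOf x ∣ p ^ k := orderOf_dvd_of_pow_eq_one hx
  obtain ⟨j, -, hj⟩ := (Nat.dvd_prime_pow hp.out).mp h1
  apply IsPGroup.of_card (n := j)
  rw [Nat.card_zpowers, hj]

theorem exists_pow_of_mem_sylow {p : ℕ} (S : Sylow p G) {x : G} (hx : x ∈ (S : Subgroup G)) :
    ∃ k : ℕ, x ^ p ^ k = 1 := by
  obtain ⟨k, hk⟩ := S.isPGroup' ⟨x, hx⟩
  exact ⟨k, by simpa using congrArg Subtype.val hk⟩

/-- an element all of whose powers of prime power order lie in `C` lies in `C`. -/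
theorem mem_of_primePow_mem {M : Type*} [Group M] [Finite M] (C : Subgroup M) :
    ∀ (n : ℕ) (z : M), orderOf z = n →
      (∀ y ∈ Subgroup.zpowers z, IsPrimePow (orderOf y) → y ∈ C) → z ∈ C := by
  intro n
  induction n using Nat.strong_induction_on with
  | _ n ih =>
    intro z hz hC
    by_cases h1 : n = 1
    · have : z = 1 := orderOf_eq_one_iff.mp (hz.trans h1)
      rw [this]; exact C.one_mem
    by_cases hpp : IsPrimePow n
    · exact hC z (Subgroup.mem_zpowers z) (hz ▸ hpp)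
    have hn0 : n ≠ 0 := by rw [← hz]; exact (orderOf_pos z).ne'
    obtain ⟨p, hp, hpn⟩ := Nat.exists_prime_and_dvd h1
    obtain ⟨a, ha⟩ : ∃ a, a = p ^ n.factorization p := ⟨_, rfl⟩
    obtain ⟨b, hb⟩ : ∃ b, b = n / p ^ n.factorization p := ⟨_, rfl⟩
    have hab : a * b = n := by rw [ha, hb]; exact Nat.ordProj_mul_ordCompl_eq_self n p
    have hk : 0 < n.factorization p := Nat.Prime.factorization_pos_of_dvd hp hn0 hpn
    have hcop : Nat.Coprime a b := by
      rw [ha, hb]; exact (Nat.coprime_ordCompl hp hn0).pow_left _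
    have ha1 : 1 < a := by rw [ha]; exact Nat.one_lt_pow hk.ne' hp.one_lt
    have hb0 : b ≠ 0 := by rintro rfl; rw [mul_zero] at hab; exact hn0 hab.symm
    have hb1 : b ≠ 1 := by
      rintro rfl
      rw [mul_one] at hab
      apply hpp
      rw [isPrimePow_nat_iff]
      exact ⟨p, n.factorization p, hp, hk, by rw [← ha, hab]⟩
    have hb2 : 1 < b := by omega
    have hblt : b < n := by nlinarith
    have halt : a < n := by nlinarith
    have hza : orderOf (z ^ a) = b := by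
      rw [orderOf_pow_of_dvd (by omega) (by rw [hz]; exact ⟨b, hab.symm⟩), hz, ← hab]
      exact Nat.mul_div_cancel_left b (by omega)
    have hzb : orderOf (z ^ b) = a := by
      rw [orderOf_pow_of_dvd hb0 (by rw [hz]; exact ⟨a, by rw [mul_comm]; exact hab.symm⟩), hz,
        ← hab]
      exact Nat.mul_div_cancel a (by omega)
    have h_a : z ^ a ∈ C := ih b hblt (z ^ a) hza (fun y hy hyp =>
      hC y ((Subgroup.zpowers_le.mpr (Subgroup.npow_mem_zpowers z a)) hy) hyp)
    have h_b : z ^ b ∈ C := ih a halt (z ^ b) hzb (fun y hy hyp =>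
      hC y ((Subgroup.zpowers_le.mpr (Subgroup.npow_mem_zpowers z b)) hy) hyp)
    have hbez : (1 : ℤ) = (a : ℤ) * Nat.gcdA a b + (b : ℤ) * Nat.gcdB a b := by
      have := Nat.gcd_eq_gcd_ab a b
      rw [Nat.Coprime.gcd_eq_one hcop] at this
      exact_mod_cast this
    have hzz : z = (z ^ a) ^ (Nat.gcdA a b) * (z ^ b) ^ (Nat.gcdB a b) := by
      rw [← zpow_natCast z a, ← zpow_natCast z b, ← zpow_mul, ← zpow_mul, ← zpow_add, ← hbez,
        zpow_one]
    rw [hzz]
    exact C.mul_mem (C.zpow_mem h_a _) (C.zpow_mem h_b _)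

theorem commute_of_nilpotent {M : Type*} [Group M] [Finite M] (hM : Group.IsNilpotent M)
    {p q : ℕ} [hp : Fact p.Prime] [hq : Fact q.Prime] (hpq : p ≠ q) {x y : M} {k l : ℕ}
    (hx : x ^ p ^ k = 1) (hy : y ^ q ^ l = 1) : x * y = y * x := by
  have hall : ∀ (s : ℕ) (_ : Fact s.Prime) (T : Sylow s M), (T : Subgroup M).Normal :=
    ((Group.isNilpotent_of_finite_tfae (G := M)).out 0 3).mp hM
  obtain ⟨P, hP⟩ := (isPGroup_zpowers hx).exists_le_sylow
  obtain ⟨Q, hQ⟩ := (isPGroup_zpowers hy).exists_le_sylow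
  have hdisj := IsPGroup.disjoint_of_ne p q hpq _ _ P.isPGroup' Q.isPGroup'
  exact (Subgroup.commute_of_normal_of_disjoint _ _ (hall p hp P) (hall q hq Q) hdisj x y
    (hP (Subgroup.mem_zpowers x)) (hQ (Subgroup.mem_zpowers y))).eq

theorem exists_sylow_le' [Finite G] {p : ℕ} [hp : Fact p.Prime] {H : Subgroup G}
    (hH : ¬ p ∣ H.index) : ∃ S : Sylow p G, (S : Subgroup G) ≤ H := by
  let P : Sylow p H := default
  have h1 : ¬ p ∣ ((P : Subgroup H).map H.subtype).index := by
    rw [Subgroup.index_map_subtype]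
    intro hdvd
    rcases (Nat.Prime.dvd_mul hp.out).mp hdvd with h | h
    · exact P.not_dvd_index h
    · exact hH h
  have h2 : IsPGroup p ((P : Subgroup H).map H.subtype) := P.isPGroup'.map _
  refine ⟨h2.toSylow h1, ?_⟩
  rw [IsPGroup.toSylow_coe]
  exact Subgroup.map_subtype_le _

theorem sylow_conj_into [Finite G] {p : ℕ} [Fact p.Prime] (S : Sylow p G) (M B : Subgroup G)
    (hS : (S : Subgroup G) ≤ M) (hB : B ≤ M) (hBp : IsPGroup p B) :
    ∃ c ∈ M, ∀ b ∈ B, c * b * c⁻¹ ∈ (S : Subgroup G) := by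
  have hB' : IsPGroup p (B.subgroupOf M) := hBp.comap_subtype
  obtain ⟨R, hR⟩ := hB'.exists_le_sylow
  obtain ⟨c, hc⟩ := MulAction.exists_smul_eq M R (S.subtype hS)
  refine ⟨(c : G), c.2, ?_⟩
  intro b hb
  have h1 : (⟨b, hB hb⟩ : M) ∈ (R : Subgroup M) := hR (Subgroup.mem_subgroupOf.mpr hb)
  have h2 : c * ⟨b, hB hb⟩ * c⁻¹ ∈ ((c • R : Sylow p M) : Subgroup M) := by
    rw [mem_smul_sylow]
    have : c⁻¹ * (c * ⟨b, hB hb⟩ * c⁻¹) * c = ⟨b, hB hb⟩ := by group
    rw [this]; exact h1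
  rw [hc, Sylow.coe_subtype, Subgroup.mem_subgroupOf] at h2
  exact h2

/-- if every Sylow `p`-subgroup is centralized by a Sylow `q`-subgroup, a `q`-element
normalizing a `p`-subgroup centralizes it. -/
theorem centralize_of_sylows [Finite G] {p q : ℕ} [Fact p.Prime] [Fact q.Prime]
    (hcomm : ∀ R : Sylow p G, ∃ T : Sylow q G,
      ∀ u ∈ (R : Subgroup G), ∀ t ∈ (T : Subgroup G), t * u = u * t)
    (Q : Subgroup G) (hQ : IsPGroup p Q) (y : G) (hy : ∀ u ∈ Q, y * u * y⁻¹ ∈ Q) {l : ℕ}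
    (hyq : y ^ q ^ l = 1) : ∀ u ∈ Q, y * u = u * y := by
  obtain ⟨R, hR⟩ := hQ.exists_le_sylow
  obtain ⟨T, hT⟩ := hcomm R
  have hyM : y ∈ Subgroup.normalizer (Q : Set G) := mem_normalizer_of_conj_mem hy
  have hTM : (T : Subgroup G) ≤ Subgroup.normalizer (Q : Set G) := by
    intro t ht
    apply mem_normalizer_of_conj_mem
    intro u hu
    have h1 := hT u (hR hu) t ht
    have e : t * u * t⁻¹ = u := by rw [h1]; group
    rw [e]; exact hu
  have hB : Subgroup.zpowers y ≤ Subgroup.normalizer (Q : Set G) := Subgroup.zpowers_le.mpr hyM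
  obtain ⟨c, hcM, hc⟩ := sylow_conj_into T _ (Subgroup.zpowers y) hTM hB (isPGroup_zpowers hyq)
  have h1 : c * y * c⁻¹ ∈ (T : Subgroup G) := hc y (Subgroup.mem_zpowers y)
  intro u hu
  have h2 : c * u * c⁻¹ ∈ Q := (Subgroup.mem_normalizer_iff.mp hcM u).mp hu
  have h3 := hT (c * u * c⁻¹) (hR h2) (c * y * c⁻¹) h1
  have h4 : c * (y * u) * c⁻¹ = c * (u * y) * c⁻¹ := by
    calc c * (y * u) * c⁻¹ = (c * y * c⁻¹) * (c * u * c⁻¹) := by group
      _ = (c * u * c⁻¹) * (c * y * c⁻¹) := h3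
      _ = c * (u * y) * c⁻¹ := by group
  exact mul_left_cancel (mul_right_cancel h4)

theorem exists_mul_of_mem_sup {A B : Subgroup G} (hcomm : ∀ a ∈ A, ∀ b ∈ B, a * b = b * a)
    {x : G} (hx : x ∈ A ⊔ B) : ∃ a ∈ A, ∃ b ∈ B, x = a * b := by
  rw [Subgroup.sup_eq_closure] at hx
  induction hx using Subgroup.closure_induction with
  | mem z hz =>
    rcases hz with hz | hz
    · exact ⟨z, hz, 1, B.one_mem, (mul_one z).symm⟩
    · exact ⟨1, A.one_mem, z, hz, (one_mul z).symm⟩
  | one => exact ⟨1, A.one_mem, 1, B.one_mem, (mul_one 1).symm⟩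
  | mul x y _ _ ihx ihy =>
    obtain ⟨a, ha, b, hb, rfl⟩ := ihx
    obtain ⟨a', ha', b', hb', rfl⟩ := ihy
    refine ⟨a * a', A.mul_mem ha ha', b * b', B.mul_mem hb hb', ?_⟩
    have h1 := hcomm a' ha' b hb
    calc a * b * (a' * b') = a * (b * a') * b' := by group
      _ = a * (a' * b) * b' := by rw [h1]
      _ = a * a' * (b * b') := by group
  | inv x _ ih =>
    obtain ⟨a, ha, b, hb, rfl⟩ := ih
    refine ⟨a⁻¹, A.inv_mem ha, b⁻¹, B.inv_mem hb, ?_⟩
    rw [hcomm a ha b hb, mul_inv_rev]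

theorem mem_left_of_pow [Finite G] {A B : Subgroup G}
    (hcomm : ∀ a ∈ A, ∀ b ∈ B, a * b = b * a) {p : ℕ} (hp : p.Prime)
    (hpB : ¬ p ∣ Nat.card B) (hAB : ∀ z, z ∈ A → z ∈ B → z = 1) {x : G} (hx : x ∈ A ⊔ B)
    {k : ℕ} (hxk : x ^ p ^ k = 1) : x ∈ A := by
  obtain ⟨a, ha, b, hb, rfl⟩ := exists_mul_of_mem_sup hcomm hx
  have hc : Commute a b := hcomm a ha b hb
  rw [hc.mul_pow] at hxk
  have h1 : b ^ p ^ k = 1 := by
    have h2 : b ^ p ^ k = (a ^ p ^ k)⁻¹ := eq_inv_of_mul_eq_one_right hxk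
    apply hAB
    · rw [h2]; exact A.inv_mem (A.pow_mem ha _)
    · exact B.pow_mem hb _
  have h3 : orderOf b ∣ p ^ k := orderOf_dvd_of_pow_eq_one h1
  have h4 : orderOf b ∣ Nat.card B := Subgroup.orderOf_dvd_natCard B hb
  obtain ⟨j, -, hj⟩ := (Nat.dvd_prime_pow hp).mp h3
  have hj0 : j = 0 := by
    by_contra hne
    apply hpB
    have h5 : p ∣ orderOf b := by rw [hj]; exact dvd_pow_self p hne
    exact h5.trans h4
  rw [hj0, pow_zero] at hj
  have hb1 : b = 1 := orderOf_eq_one_iff.mp hj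
  rw [hb1, mul_one]; exact ha

end aux

section main

variable {G : Type u} [Group G] [Finite G]

/-- every `π`-subgroup is conjugate into `H`. -/
theorem conj_into (σ τ π : Set ℕ) (hπ : π = σ ∪ τ) (hd : Disjoint σ τ) (H Hs Ht : Subgroup G)
    (hH : Cfsg.IsPiHall π H) (hs : Cfsg.IsPiSubgroup σ Hs) (ht : Cfsg.IsPiSubgroup τ Ht)
    (hsn : Group.IsNilpotent Hs) (hjoin : Hs ⊔ Ht = H)
    (hcomm : ∀ a ∈ Hs, ∀ b ∈ Ht, a * b = b * a) (hD : Cfsg.IsDPiGroup τ G) :
    ∀ (n : ℕ) (L : Subgroup G), Nat.card L = n → Cfsg.IsPiSubgroup π L →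
      ∃ g : G, ∀ x ∈ L, g * x * g⁻¹ ∈ H := by
  have hdisj : ∀ r : ℕ, r ∈ σ → r ∈ τ → False := fun r h1 h2 => Set.disjoint_left.mp hd h1 h2
  have hHsH : Hs ≤ H := hjoin ▸ le_sup_left
  have hHtH : Ht ≤ H := hjoin ▸ le_sup_right
  have hAB : ∀ z, z ∈ Hs → z ∈ Ht → z = 1 := by
    intro z h1 h2
    by_contra hz
    have ho : orderOf z ≠ 1 := fun h => hz (orderOf_eq_one_iff.mp h)
    obtain ⟨r, hr, hrz⟩ := Nat.exists_prime_and_dvd ho
    exact hdisj r (hs r hr (hrz.trans (Subgroup.orderOf_dvd_natCard Hs h1)))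
      (ht r hr (hrz.trans (Subgroup.orderOf_dvd_natCard Ht h2)))
  have hcomm' : ∀ b ∈ Ht, ∀ a ∈ Hs, b * a = a * b := fun b hb a ha => (hcomm a ha b hb).symm
  have factA : ∀ p : ℕ, p.Prime → p ∈ σ → ∀ x ∈ H, ∀ k : ℕ, x ^ p ^ k = 1 → x ∈ Hs := by
    intro p hp hpσ x hx k hxk
    refine mem_left_of_pow hcomm hp (fun h => hdisj p hpσ (ht p hp h)) hAB ?_ hxk
    rw [hjoin]; exact hx
  have factB : ∀ q : ℕ, q.Prime → q ∈ τ → ∀ y ∈ H, ∀ l : ℕ, y ^ q ^ l = 1 → y ∈ Ht := by
    intro q hq hqτ y hy l hyl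
    refine mem_left_of_pow hcomm' hq (fun h => hdisj q (hs q hq h) hqτ)
      (fun z h1 h2 => hAB z h2 h1) ?_ hyl
    rw [sup_comm, hjoin]; exact hy
  have factD : ∀ p q : ℕ, p.Prime → q.Prime → p ∈ σ → q ∈ π → q ≠ p → ∀ x ∈ H, ∀ y ∈ H,
      ∀ k l : ℕ, x ^ p ^ k = 1 → y ^ q ^ l = 1 → y * x = x * y := by
    intro p q hp hq hpσ hqπ hqp x hx y hy k l hxk hyl
    have hxs : x ∈ Hs := factA p hp hpσ x hx k hxk
    rw [hπ] at hqπ
    rcases hqπ with hqσ | hqτ
    · have hys : y ∈ Hs := factA q hq hqσ y hy l hyl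
      haveI : Fact p.Prime := ⟨hp⟩
      haveI : Fact q.Prime := ⟨hq⟩
      have h1 : (⟨x, hxs⟩ : Hs) ^ p ^ k = 1 := Subtype.ext (by simpa using hxk)
      have h2 : (⟨y, hys⟩ : Hs) ^ q ^ l = 1 := Subtype.ext (by simpa using hyl)
      have h3 := commute_of_nilpotent hsn (Ne.symm hqp) h1 h2
      exact (congrArg Subtype.val h3).symm
    · have hyt : y ∈ Ht := factB q hq hqτ y hy l hyl
      exact (hcomm x hxs y hyt).symm
  have hSyl : ∀ (p : ℕ) [Fact p.Prime], p ∈ π → ∃ S : Sylow p G, (S : Subgroup G) ≤ H := by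
    intro p hpf hpπ
    exact exists_sylow_le' (hH.2 p hpf.out hpπ)
  have hSylComm : ∀ (p q : ℕ) [Fact p.Prime] [Fact q.Prime], p ∈ σ → q ∈ π → q ≠ p →
      ∀ R : Sylow p G, ∃ T : Sylow q G,
        ∀ u ∈ (R : Subgroup G), ∀ t ∈ (T : Subgroup G), t * u = u * t := by
    intro p q hpf hqf hpσ hqπ hqp R
    have hpπ : p ∈ π := by rw [hπ]; exact Or.inl hpσ
    obtain ⟨Sp, hSp⟩ := hSyl p hpπ
    obtain ⟨Sq, hSq⟩ := hSyl q hqπ
    obtain ⟨g, hg⟩ := MulAction.exists_smul_eq G Sp R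
    refine ⟨g • Sq, ?_⟩
    intro u hu t ht
    rw [← hg, mem_smul_sylow] at hu
    rw [mem_smul_sylow] at ht
    obtain ⟨k, hk⟩ := exists_pow_of_mem_sylow Sp hu
    obtain ⟨l, hl⟩ := exists_pow_of_mem_sylow Sq ht
    have h1 := factD p q hpf.out hqf.out hpσ hqπ hqp _ (hSp hu) _ (hSq ht) k l hk hl
    have h2 : g⁻¹ * (t * u) * g = g⁻¹ * (u * t) * g := by
      calc g⁻¹ * (t * u) * g = (g⁻¹ * t * g) * (g⁻¹ * u * g) := by group
        _ = (g⁻¹ * u * g) * (g⁻¹ * t * g) := h1
        _ = g⁻¹ * (u * t) * g := by group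
    exact mul_left_cancel (mul_right_cancel h2)
  have hHtmax : Maximal (Cfsg.IsPiSubgroup τ) Ht := by
    refine ⟨ht, ?_⟩
    intro K hK hle
    rw [← Subgroup.relIndex_eq_one]
    by_contra hne
    obtain ⟨q, hq, hqdvd⟩ := Nat.exists_prime_and_dvd hne
    have hqτ : q ∈ τ := hK q hq (hqdvd.trans (Subgroup.relIndex_dvd_card Ht K))
    haveI : Fact q.Prime := ⟨hq⟩
    have hqπ : q ∈ π := by rw [hπ]; exact Or.inr hqτ
    obtain ⟨Sq, hSq⟩ := hSyl q hqπ
    have hSqt : (Sq : Subgroup G) ≤ Ht := by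
      intro x hx
      obtain ⟨l, hl⟩ := exists_pow_of_mem_sylow Sq hx
      exact factB q hq hqτ x (hSq hx) l hl
    have h1 : Ht.index ∣ (Sq : Subgroup G).index := Subgroup.index_dvd_of_le hSqt
    have h2 : Ht.relIndex K ∣ Ht.index := ⟨K.index, (Subgroup.relIndex_mul_index hle).symm⟩
    exact Sq.not_dvd_index (hqdvd.trans (h2.trans h1))
  intro n
  induction n using Nat.strong_induction_on with
  | _ n ih =>
    intro L hLn hLπ
    by_cases hex : ∃ p : ℕ, p.Prime ∧ p ∈ σ ∧ p ∣ Nat.card L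
    · obtain ⟨p, hp, hpσ, hpL⟩ := hex
      haveI hpf : Fact p.Prime := ⟨hp⟩
      have hpπ : p ∈ π := by rw [hπ]; exact Or.inl hpσ
      let P : Sylow p L := default
      have hF : FrobCond P := by
        intro Q hQP g hgN hgcop
        apply mem_of_primePow_mem (Subgroup.centralizer (Q : Set L)) (orderOf g) g rfl
        intro y hy hypp
        obtain ⟨q, l, hq, hl, hql⟩ := (isPrimePow_nat_iff _).mp hypp
        haveI hqf : Fact q.Prime := ⟨hq⟩
        have hyg : orderOf y ∣ orderOf g := orderOf_dvd_of_mem_zpowers hy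
        have hqy : q ∣ orderOf y := by rw [← hql]; exact dvd_pow_self q hl.ne'
        have hqp : q ≠ p := by
          rintro rfl
          exact (Nat.Prime.coprime_iff_not_dvd hp).mp hgcop.symm (hqy.trans hyg)
        have hqπ : q ∈ π := hLπ q hq (hqy.trans (orderOf_dvd_natCard y))
        have hyN : y ∈ Subgroup.normalizer (Q : Set L) := (Subgroup.zpowers_le.mpr hgN) hy
        have hQp : IsPGroup p Q := P.isPGroup'.to_le hQP
        have hyl : (y : G) ^ q ^ l = 1 := by
          have h1 : y ^ q ^ l = 1 := by rw [hql]; exact pow_orderOf_eq_one y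
          simpa using congrArg Subtype.val h1
        have key := centralize_of_sylows (hSylComm p q hpσ hqπ hqp) (Q.map L.subtype)
          (hQp.map _) (y : G) (by
            rintro _ ⟨u, hu, rfl⟩
            exact ⟨y * u * y⁻¹, (Subgroup.mem_normalizer_iff.mp hyN u).mp hu, rfl⟩) hyl
        rw [Subgroup.mem_centralizer_iff]
        intro u hu
        have h1 := key (u : G) ⟨u, hu, rfl⟩
        exact Subtype.ext h1.symm
      have hcompl := isComplement'_pResidual_of_frobCond P hF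
      obtain ⟨N, hNdef⟩ : ∃ N : Subgroup L, N = Cfsg.pResidual p L := ⟨_, rfl⟩
      rw [← hNdef] at hcompl
      have hNn : N.Normal := by rw [hNdef]; exact pResidual_normal p
      have hcard : Nat.card N * Nat.card (P : Subgroup L) = Nat.card L := hcompl.card_mul_card
      have hPdvd : p ∣ Nat.card (P : Subgroup L) := by
        have h1 : Nat.card (P : Subgroup L) = p ^ (Nat.card L).factorization p :=
          P.card_eq_multiplicity
        rw [h1]
        exact dvd_pow_self p (Nat.Prime.factorization_pos_of_dvd hp Nat.card_pos.ne' hpL).ne'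
      have hP1 : 1 < Nat.card (P : Subgroup L) :=
        lt_of_lt_of_le hp.one_lt (Nat.le_of_dvd Nat.card_pos hPdvd)
      have hpN : ¬ p ∣ Nat.card N := by
        have h1 : Nat.card (P : Subgroup L) * (P : Subgroup L).index = Nat.card L :=
          Subgroup.card_mul_index _
        have h2 : Nat.card N = (P : Subgroup L).index := by
          have h3 : Nat.card (P : Subgroup L) * Nat.card N =
              Nat.card (P : Subgroup L) * (P : Subgroup L).index := by
            rw [h1, mul_comm]; exact hcard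
          exact Nat.eq_of_mul_eq_mul_left Nat.card_pos h3
        rw [h2]
        exact P.not_dvd_index
      have hNGcard : Nat.card (N.map L.subtype) = Nat.card N :=
        Subgroup.card_map_of_injective L.subtype_injective
      have hlt : Nat.card (N.map L.subtype) < n := by
        rw [hNGcard, ← hLn, ← hcard]
        have : 0 < Nat.card N := Nat.card_pos
        nlinarith
      have hNGπ : Cfsg.IsPiSubgroup π (N.map L.subtype) := by
        intro r hr hdvd
        rw [hNGcard] at hdvd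
        exact hLπ r hr (hdvd.trans ⟨_, hcard.symm⟩)
      obtain ⟨g, hg⟩ := ih _ hlt (N.map L.subtype) rfl hNGπ
      obtain ⟨N1, hN1def⟩ : ∃ N1 : Subgroup G,
          N1 = (N.map L.subtype).map (MulAut.conj g).toMonoidHom := ⟨_, rfl⟩
      have hN1mem : ∀ x : L, x ∈ N → g * (x : G) * g⁻¹ ∈ N1 := by
        intro x hx
        rw [hN1def]
        exact ⟨(x : G), ⟨x, hx, rfl⟩, rfl⟩
      have hN1H : N1 ≤ H := by
        rw [hN1def]
        rintro _ ⟨x, hx, rfl⟩
        exact hg x hx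
      have hN1card : Nat.card N1 = Nat.card N := by
        rw [hN1def, Subgroup.card_map_of_injective (MulAut.conj g).injective, hNGcard]
      obtain ⟨S, hS⟩ := hSyl p hpπ
      have hSN1 : ∀ s ∈ (S : Subgroup G), ∀ x ∈ N1, s * x = x * s := by
        intro s hs' x hx
        have hmem : x ∈ Subgroup.centralizer ({s} : Set G) := by
          apply mem_of_primePow_mem _ (orderOf x) x rfl
          intro y hy hypp
          obtain ⟨q, l, hq, hl, hql⟩ := (isPrimePow_nat_iff _).mp hypp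
          have hyN1 : y ∈ N1 := (Subgroup.zpowers_le.mpr hx) hy
          have hqy : q ∣ orderOf y := by rw [← hql]; exact dvd_pow_self q hl.ne'
          have hqN : q ∣ Nat.card N := by
            rw [← hN1card]; exact hqy.trans (Subgroup.orderOf_dvd_natCard N1 hyN1)
          have hqp : q ≠ p := by rintro rfl; exact hpN hqN
          have hqπ : q ∈ π := hLπ q hq (hqN.trans ⟨_, hcard.symm⟩)
          obtain ⟨k, hk⟩ := exists_pow_of_mem_sylow S hs'
          have hyl : y ^ q ^ l = 1 := by rw [hql]; exact pow_orderOf_eq_one y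
          have h1 := factD p q hp hq hpσ hqπ hqp s (hS hs') y (hN1H hyN1) k l hk hyl
          rw [Subgroup.mem_centralizer_iff]
          intro z hz
          rw [Set.mem_singleton_iff] at hz
          rw [hz]; exact h1.symm
        exact (Subgroup.mem_centralizer_iff.mp hmem s rfl)
      have hSM : (S : Subgroup G) ≤ Subgroup.normalizer (N1 : Set G) := by
        intro s hs'
        apply mem_normalizer_of_conj_mem
        intro x hx
        have e : s * x * s⁻¹ = x := by rw [hSN1 s hs' x hx]; group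
        rw [e]; exact hx
      obtain ⟨P1, hP1def⟩ : ∃ P1 : Subgroup G,
          P1 = ((P : Subgroup L).map L.subtype).map (MulAut.conj g).toMonoidHom := ⟨_, rfl⟩
      have hP1mem : ∀ u : L, u ∈ (P : Subgroup L) → g * (u : G) * g⁻¹ ∈ P1 := by
        intro u hu
        rw [hP1def]
        exact ⟨(u : G), ⟨u, hu, rfl⟩, rfl⟩
      have hP1p : IsPGroup p P1 := by
        rw [hP1def]
        exact (P.isPGroup'.map _).map _
      have hP1M : P1 ≤ Subgroup.normalizer (N1 : Set G) := by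
        rw [hP1def]
        rintro _ ⟨_, ⟨u, hu, rfl⟩, rfl⟩
        apply mem_normalizer_of_conj_mem
        intro x hx
        rw [hN1def] at hx
        obtain ⟨_, ⟨m, hm, rfl⟩, rfl⟩ := hx
        have h1 : u * m * u⁻¹ ∈ N := hNn.conj_mem m hm u
        have h2 := hN1mem _ h1
        have e : (MulAut.conj g).toMonoidHom (L.subtype u) *
            (MulAut.conj g).toMonoidHom (L.subtype m) *
            ((MulAut.conj g).toMonoidHom (L.subtype u))⁻¹ =
            g * ((u * m * u⁻¹ : L) : G) * g⁻¹ := by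
          simp only [MulEquiv.coe_toMonoidHom, MulAut.conj_apply, Subgroup.coe_subtype,
            Subgroup.coe_mul, Subgroup.coe_inv]
          group
        rw [e]; exact h2
      obtain ⟨c, hcM, hc⟩ := sylow_conj_into S _ P1 hSM hP1M hP1p
      refine ⟨c * g, ?_⟩
      intro x hx
      obtain ⟨⟨⟨m, hm⟩, ⟨u, hu⟩⟩, hmu⟩ := hcompl.2 ⟨x, hx⟩
      have hmu' : (m : G) * (u : G) = x := congrArg Subtype.val hmu
      have h1 : c * (g * (m : G) * g⁻¹) * c⁻¹ ∈ H :=
        hN1H ((Subgroup.mem_normalizer_iff.mp hcM _).mp (hN1mem m hm))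
      have h2 : c * (g * (u : G) * g⁻¹) * c⁻¹ ∈ H := hS (hc _ (hP1mem u hu))
      have e : c * g * x * (c * g)⁻¹ =
          (c * (g * (m : G) * g⁻¹) * c⁻¹) * (c * (g * (u : G) * g⁻¹) * c⁻¹) := by
        rw [← hmu']; group
      rw [e]
      exact H.mul_mem h1 h2
    · have hLτ : Cfsg.IsPiSubgroup τ L := by
        intro q hq hqL
        have hqπ := hLπ q hq hqL
        rw [hπ] at hqπ
        rcases hqπ with h | h
        · exact absurd ⟨q, hq, h, hqL⟩ hex
        · exact h
      obtain ⟨K, hLK, hK⟩ := Set.Finite.exists_le_maximal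
        (Set.toFinite {K : Subgroup G | Cfsg.IsPiSubgroup τ K}) hLτ
      obtain ⟨g, hg⟩ := hD Ht K hHtmax hK
      refine ⟨g⁻¹, ?_⟩
      intro x hx
      have hxK : x ∈ K := hLK hx
      rw [hg] at hxK
      obtain ⟨t, ht', rfl⟩ := hxK
      have e : g⁻¹ * (MulAut.conj g).toMonoidHom t * g⁻¹⁻¹ = t := by
        simp only [MulEquiv.coe_toMonoidHom, MulAut.conj_apply]
        group
      rw [e]
      exact hHtH ht'

end main

/-- Let σ and τ be disjoint sets of primes with union π. Suppose a finite group G has a Hall π-subgroup H which is the direct product of a nilpotent σ-subgroup and a τ-subgroup (two elementwise-commuting subgroups generating H), and that the maximal τ-subgroups of G are pairwise conjugate. Then the maximal π-subgroups of G are pairwise conjugate. -/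
theorem result {G : Type*} [Group G] [Finite G]
    (σ τ π : Set ℕ) (hπ : π = σ ∪ τ) (hd : Disjoint σ τ) (H Hs Ht : Subgroup G) (hH : Cfsg.IsPiHall π H)
    (hs : Cfsg.IsPiSubgroup σ Hs) (ht : Cfsg.IsPiSubgroup τ Ht) (hsn : Group.IsNilpotent Hs)
    (hjoin : Hs ⊔ Ht = H) (hcomm : ∀ a ∈ Hs, ∀ b ∈ Ht, a * b = b * a) (hD : Cfsg.IsDPiGroup τ G) :
    Cfsg.IsDPiGroup π G := by
  have key := conj_into σ τ π hπ hd H Hs Ht hH hs ht hsn hjoin hcomm hD
  have hmax : ∀ K : Subgroup G, Maximal (Cfsg.IsPiSubgroup π) K →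
      ∃ a : G, K = H.map (MulAut.conj a).toMonoidHom := by
    intro K hK
    obtain ⟨g, hg⟩ := key (Nat.card K) K rfl hK.1
    refine ⟨g⁻¹, ?_⟩
    have hle : K ≤ H.map (MulAut.conj g⁻¹).toMonoidHom := by
      intro x hx
      refine ⟨g * x * g⁻¹, hg x hx, ?_⟩
      simp only [MulEquiv.coe_toMonoidHom, MulAut.conj_apply]
      group
    have hπ' : Cfsg.IsPiSubgroup π (H.map (MulAut.conj g⁻¹).toMonoidHom) := by
      intro r hr hdvd
      rw [Subgroup.card_map_of_injective (MulAut.conj g⁻¹).injective] at hdvd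
      exact hH.1 r hr hdvd
    exact le_antisymm hle (hK.2 hπ' hle)
  intro K₁ K₂ hK₁ hK₂
  obtain ⟨a₁, h₁⟩ := hmax K₁ hK₁
  obtain ⟨a₂, h₂⟩ := hmax K₂ hK₂
  refine ⟨a₂ * a₁⁻¹, ?_⟩
  rw [h₁, h₂, Subgroup.map_map]
  congr 1
  ext x
  simp only [MulEquiv.coe_toMonoidHom, MonoidHom.coe_comp, Function.comp_apply, MulAut.conj_apply]
  group

end Cfsg.Agent.S4334
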