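import Cfsg.Statements.S4242
import Cfsg.Agent.S4334
import Cfsg.Agent.Lib.Helper1.Coprime2

set_option autoImplicit false
open Cfsg

namespace Cfsg.Agent.S4242

open Cfsg.Agent.Lib.Helper2 Cfsg.Agent.Lib.Helper1

universe u

/-- in a finite nilpotent group a `p`-element commutes with a `p'`-element. -/
theorem commute_of_nilpotent_coprime {M : Type*} [Group M] [Finite M] (hM : Group.IsNilpotent M)
    {p : ℕ} [hp : Fact p.Prime] {x y : M} {k : ℕ} (hx : x ^ p ^ k = 1)
    (hy : (orderOf y).Coprime p) : x * y = y * x := by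
  have key : y ∈ Subgroup.centralizer ({x} : Set M) := by
    apply Cfsg.Agent.S4334.mem_of_primePow_mem _ (orderOf y) y rfl
    intro y' hy' hpp
    rw [isPrimePow_nat_iff] at hpp
    obtain ⟨q, l, hq, hl, hql⟩ := hpp
    have : Fact q.Prime := ⟨hq⟩
    have hdvd : orderOf y' ∣ orderOf y := orderOf_dvd_of_mem_zpowers hy'
    have hqp : p ≠ q := by
      rintro rfl
      have h1 : p ∣ orderOf y := by
        rw [← hql] at hdvd
        exact (dvd_pow_self p hl.ne').trans hdvd
      have h2 : p ∣ Nat.gcd (orderOf y) p := Nat.dvd_gcd h1 dvd_rfl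
      rw [hy] at h2
      exact hp.out.one_lt.ne' (Nat.dvd_one.mp h2)
    have hy'q : y' ^ q ^ l = 1 := by rw [hql]; exact pow_orderOf_eq_one y'
    rw [Subgroup.mem_centralizer_iff]
    intro z hz
    rw [Set.mem_singleton_iff] at hz
    subst hz
    exact Cfsg.Agent.S4334.commute_of_nilpotent hM hqp hx hy'q
  exact Subgroup.mem_centralizer_iff.mp key x rfl

variable {G : Type u} [Group G] [Finite G]

omit [Finite G] in
theorem nilpotent_of_le {X M : Subgroup G} (hXM : X ≤ M) (hM : Group.IsNilpotent M) :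
    Group.IsNilpotent X := by
  have h1 : Group.IsNilpotent (X.subgroupOf M) := inferInstance
  exact (Group.isNilpotent_congr (Subgroup.subgroupOfEquivOfLe hXM)).mp h1

theorem nilpotent_of_proper (p : ℕ)
    (h : ∀ M : Subgroup G, IsCoatom M → p ∣ Nat.card M → Group.IsNilpotent M)
    {X : Subgroup G} (hX : X ≠ ⊤) (hpX : p ∣ Nat.card X) : Group.IsNilpotent X := by
  obtain ⟨M, hM, hXM⟩ := (eq_top_or_exists_le_coatom X).resolve_left hX
  have hpM : p ∣ Nat.card M := hpX.trans (Subgroup.card_dvd_of_le hXM)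
  exact nilpotent_of_le hXM (h M hM hpM)

/-- elements of a `p`-subgroup and a `p'`-subgroup commute when their join is nilpotent. -/
theorem commute_of_sup_nilpotent {p : ℕ} [hp : Fact p.Prime] {A B : Subgroup G}
    (hA : IsPGroup p A) (hB : ¬ p ∣ Nat.card B) (hX : Group.IsNilpotent (A ⊔ B : Subgroup G)) :
    ∀ u ∈ A, ∀ k ∈ B, u * k = k * u := by
  intro u hu k hk
  obtain ⟨n, hn⟩ := hA ⟨u, hu⟩
  have hun : u ^ p ^ n = 1 := by simpa using congrArg Subtype.val hn
  have huX : u ∈ A ⊔ B := (le_sup_left : A ≤ A ⊔ B) hu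
  have hkX : k ∈ A ⊔ B := (le_sup_right : B ≤ A ⊔ B) hk
  have hx : (⟨u, huX⟩ : (A ⊔ B : Subgroup G)) ^ p ^ n = 1 := by
    apply Subtype.ext
    simpa using hun
  have hy : (orderOf (⟨k, hkX⟩ : (A ⊔ B : Subgroup G))).Coprime p := by
    rw [Subgroup.orderOf_mk]
    have h1 : orderOf k ∣ Nat.card B := Subgroup.orderOf_dvd_natCard B hk
    have h2 : Nat.Coprime (Nat.card B) p :=
      ((Nat.Prime.coprime_iff_not_dvd hp.out).mpr hB).symm
    exact Nat.Coprime.coprime_dvd_left h1 h2
  have h3 := commute_of_nilpotent_coprime hX hx hy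
  exact congrArg Subtype.val h3

theorem backward3 (p : ℕ) (hp : p.Prime) (Z K : Subgroup G) (hZ : Z.Normal) (hK : K.Normal)
    (hZK : Z ⊓ K = ⊥) (hsup : Z ⊔ K = ⊤) (hcard : Nat.card Z = p)
    (hKm : Cfsg.IsMinimalNonNilpotent K) (hpK : ¬ p ∣ Nat.card K) (M : Subgroup G)
    (hM : IsCoatom M) (hpM : p ∣ Nat.card M) : Group.IsNilpotent M := by
  have : Fact p.Prime := ⟨hp⟩
  have hcomm : ∀ a ∈ Z, ∀ b ∈ K, a * b = b * a := fun a ha b hb =>
    (Subgroup.commute_of_normal_of_disjoint Z K hZ hK (disjoint_iff.mpr hZK) a b ha hb).eq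
  have hAB : ∀ z, z ∈ Z → z ∈ K → z = 1 := by
    intro z hz hzK
    have : z ∈ Z ⊓ K := ⟨hz, hzK⟩
    rw [hZK] at this
    exact Subgroup.mem_bot.mp this
  obtain ⟨x, hx⟩ := exists_prime_orderOf_dvd_card' (G := M) p hpM
  have hx' : orderOf (x : G) = p := by rw [Subgroup.orderOf_coe]; exact hx
  have hxZ : (x : G) ∈ Z := by
    apply Cfsg.Agent.S4334.mem_left_of_pow hcomm hp hpK hAB (by rw [hsup]; trivial) (k := 1)
    rw [pow_one, ← hx']
    exact pow_orderOf_eq_one _
  have hx1 : (⟨(x : G), hxZ⟩ : Z) ≠ 1 := by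
    intro h
    have h1 : (x : G) = 1 := congrArg Subtype.val h
    rw [h1, orderOf_one] at hx'
    exact hp.one_lt.ne' hx'.symm
  have hZM : Z ≤ M := by
    intro z hz
    have h1 : (⟨z, hz⟩ : Z) ∈ Subgroup.zpowers (⟨(x : G), hxZ⟩ : Z) :=
      mem_zpowers_of_prime_card hcard hx1
    obtain ⟨n, hn⟩ := Subgroup.mem_zpowers_iff.mp h1
    have h2 : (x : G) ^ n = z := by simpa using congrArg Subtype.val hn
    rw [← h2]
    exact M.zpow_mem x.2 n
  have hZnil : Group.IsNilpotent Z :=
    IsPGroup.isNilpotent (IsPGroup.of_card (n := 1) (by rw [hcard, pow_one]))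
  have hMKnil : Group.IsNilpotent (M ⊓ K : Subgroup G) := by
    have hne : (M ⊓ K).subgroupOf K ≠ ⊤ := by
      intro h
      rw [Subgroup.subgroupOf_eq_top] at h
      have h1 : K ≤ M := h.trans inf_le_left
      have h2 : Z ⊔ K ≤ M := sup_le hZM h1
      rw [hsup] at h2
      exact hM.1 (top_le_iff.mp h2)
    have h1 := hKm.2 _ hne
    exact (Group.isNilpotent_congr (Subgroup.subgroupOfEquivOfLe (inf_le_right : M ⊓ K ≤ K))).mp h1
  let f1 : Z →* M := Subgroup.inclusion hZM
  let f2 : (M ⊓ K : Subgroup G) →* M := Subgroup.inclusion inf_le_left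
  have hc : ∀ (a : Z) (b : (M ⊓ K : Subgroup G)), Commute (f1 a) (f2 b) := by
    intro a b
    show f1 a * f2 b = f2 b * f1 a
    apply Subtype.ext
    exact hcomm a.1 a.2 b.1 b.2.2
  let φ : Z × (M ⊓ K : Subgroup G) →* M := MonoidHom.noncommCoprod f1 f2 hc
  have hsurj : Function.Surjective φ := by
    rintro ⟨m, hm⟩
    have hm' : m ∈ Z ⊔ K := by rw [hsup]; trivial
    obtain ⟨a, ha, b, hb, rfl⟩ := Cfsg.Agent.S4334.exists_mul_of_mem_sup hcomm hm'
    have hbM : b ∈ M := by
      have : b = a⁻¹ * (a * b) := by group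
      rw [this]; exact M.mul_mem (M.inv_mem (hZM ha)) hm
    refine ⟨(⟨a, ha⟩, ⟨b, hbM, hb⟩), ?_⟩
    apply Subtype.ext
    rfl
  exact Group.nilpotent_of_surjective φ hsurj

omit [Finite G] in
/-- a subgroup of order divisible by `p` joins a `p'`-coatom to the whole group. -/
theorem sup_coatom_eq_top {p : ℕ} {K₀ : Subgroup G} (hK₀ : IsCoatom K₀)
    (hpK : ¬ p ∣ Nat.card K₀) {U : Subgroup G} (hU : p ∣ Nat.card U) : U ⊔ K₀ = ⊤ := by
  by_contra hne
  have h1 : K₀ ≤ U ⊔ K₀ := le_sup_right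
  have h2 : U ⊔ K₀ = K₀ := by
    rcases (hK₀.le_iff).mp h1 with h | h
    · exact absurd h hne
    · exact h
  have h3 : U ≤ K₀ := by rw [← h2]; exact le_sup_left
  exact hpK (hU.trans (Subgroup.card_dvd_of_le h3))

theorem pgroup_inf_eq_bot {p : ℕ} [hp : Fact p.Prime] {U K₀ : Subgroup G} (hU : IsPGroup p U)
    (hpK : ¬ p ∣ Nat.card K₀) : U ⊓ K₀ = ⊥ := by
  obtain ⟨n, hn⟩ := IsPGroup.iff_card.mp hU
  apply Disjoint.eq_bot
  apply Subgroup.disjoint_of_coprime_natCard
  rw [hn]
  exact Nat.Coprime.pow_left n ((Nat.Prime.coprime_iff_not_dvd hp.out).mpr hpK)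

theorem pgroup_card_dvd {p : ℕ} [hp : Fact p.Prime] {Q : Subgroup G} (hQ : IsPGroup p Q)
    (hne : Q ≠ ⊥) : p ∣ Nat.card Q := by
  obtain ⟨n, hn⟩ := IsPGroup.iff_card.mp hQ
  rw [hn]
  apply dvd_pow_self
  rintro rfl
  rw [pow_zero] at hn
  exact hne (Subgroup.card_eq_one.mp hn)

/-- Case of a normal Sylow `p`-subgroup. -/
theorem forwardA (p : ℕ) [hp : Fact p.Prime]
    (h : ∀ M : Subgroup G, IsCoatom M → p ∣ Nat.card M → Group.IsNilpotent M)
    (K₀ : Subgroup G) (hK₀ : IsCoatom K₀) (hKnil : ¬ Group.IsNilpotent K₀)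
    (hpK : ¬ p ∣ Nat.card K₀) (P : Sylow p G) (hpP : p ∣ Nat.card P)
    (hPn : (P : Subgroup G).Normal) :
    ∃ Z K : Subgroup G, Z.Normal ∧ K.Normal ∧ Z ⊓ K = ⊥ ∧ Z ⊔ K = ⊤ ∧ Nat.card Z = p ∧
          Cfsg.IsMinimalNonNilpotent K ∧ ¬ p ∣ Nat.card K := by
  have hPK : (P : Subgroup G) ⊓ K₀ = ⊥ := pgroup_inf_eq_bot P.isPGroup' hpK
  -- proper subgroups of `K₀`
  have hA2 : ∀ K₁ : Subgroup G, K₁ ≤ K₀ → K₁ ≠ K₀ →
      Group.IsNilpotent ((P : Subgroup G) ⊔ K₁ : Subgroup G) := by
    intro K₁ hle hne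
    apply nilpotent_of_proper p h
    · intro htop
      apply hne
      apply le_antisymm hle
      intro k hk
      have hk' : k ∈ ((P : Subgroup G) ⊔ K₁ : Subgroup G) := by rw [htop]; trivial
      rw [← SetLike.mem_coe, Subgroup.normal_mul] at hk'
      obtain ⟨u, hu, k₁, hk₁, rfl⟩ := Set.mem_mul.mp hk'
      have hu' : u ∈ (P : Subgroup G) ⊓ K₀ := by
        refine ⟨hu, ?_⟩
        have : u = u * k₁ * k₁⁻¹ := by group
        rw [this]
        exact K₀.mul_mem hk (K₀.inv_mem (hle hk₁))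
      rw [hPK] at hu'
      rw [Subgroup.mem_bot.mp hu', one_mul]
      exact hk₁
    · exact hpP.trans (Subgroup.card_dvd_of_le le_sup_left)
  have hA2c : ∀ K₁ : Subgroup G, K₁ ≤ K₀ → K₁ ≠ K₀ →
      ∀ u ∈ (P : Subgroup G), ∀ k ∈ K₁, u * k = k * u := by
    intro K₁ hle hne
    apply commute_of_sup_nilpotent P.isPGroup' _ (hA2 K₁ hle hne)
    intro hd
    exact hpK (hd.trans (Subgroup.card_dvd_of_le hle))
  -- `K₀` is minimal non-nilpotent
  have hA3 : Cfsg.IsMinimalNonNilpotent K₀ := by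
    refine ⟨hKnil, ?_⟩
    intro H hH
    have hle : H.map K₀.subtype ≤ K₀ := Subgroup.map_subtype_le H
    have hne : H.map K₀.subtype ≠ K₀ := by
      intro heq
      apply hH
      rw [eq_top_iff]
      intro k _
      have hk : (k : G) ∈ H.map K₀.subtype := by rw [heq]; exact k.2
      obtain ⟨y, hy, hyk⟩ := hk
      have : y = k := Subtype.ext hyk
      rw [← this]; exact hy
    have h1 := nilpotent_of_le (le_sup_right : H.map K₀.subtype ≤ (P : Subgroup G) ⊔ _)
      (hA2 _ hle hne)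
    exact (Group.isNilpotent_congr
      (Subgroup.equivMapOfInjective H K₀.subtype K₀.subtype_injective)).mpr h1
  -- `K₀` centralizes `P`
  have hA4 : ∀ u ∈ (P : Subgroup G), ∀ k ∈ K₀, u * k = k * u := by
    intro u hu k hk
    have hle : Subgroup.zpowers k ≤ K₀ := Subgroup.zpowers_le.mpr hk
    by_cases hzk : Subgroup.zpowers k = K₀
    · exfalso
      apply hKnil
      have h1 : Group.IsNilpotent (Subgroup.zpowers k) := by
        let _ : CommGroup (Subgroup.zpowers k) := IsCyclic.commGroup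
        exact CommGroup.isNilpotent
      rw [hzk] at h1
      exact h1
    · exact hA2c _ hle hzk u hu k (Subgroup.mem_zpowers k)
  obtain ⟨z, hz⟩ := exists_prime_orderOf_dvd_card' (G := (P : Subgroup G)) p hpP
  have hz' : orderOf (z : G) = p := by rw [Subgroup.orderOf_coe]; exact hz
  have hcardZ : Nat.card (Subgroup.zpowers (z : G)) = p := by rw [Nat.card_zpowers, hz']
  have hsup : Subgroup.zpowers (z : G) ⊔ K₀ = ⊤ :=
    sup_coatom_eq_top hK₀ hpK (by rw [hcardZ])
  have hcent : ∀ g : G, g * (z : G) = (z : G) * g := by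
    intro g
    have hg : g ∈ Subgroup.zpowers (z : G) ⊔ K₀ := by rw [hsup]; trivial
    have hle : Subgroup.zpowers (z : G) ⊔ K₀ ≤ Subgroup.centralizer ({(z : G)} : Set G) := by
      apply sup_le
      · rw [Subgroup.zpowers_le, Subgroup.mem_centralizer_iff]
        intro y hy
        rw [Set.mem_singleton_iff] at hy
        rw [hy]
      · intro k hk
        rw [Subgroup.mem_centralizer_iff]
        intro y hy
        rw [Set.mem_singleton_iff] at hy
        rw [hy]
        exact hA4 _ z.2 k hk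
    exact (Subgroup.mem_centralizer_iff.mp (hle hg) _ rfl).symm
  have hcentZ : ∀ a ∈ Subgroup.zpowers (z : G), ∀ g : G, g * a = a * g := by
    intro a ha g
    obtain ⟨n, rfl⟩ := Subgroup.mem_zpowers_iff.mp ha
    have hc : Commute g (z : G) := hcent g
    exact (hc.zpow_right n).eq
  have hZn : (Subgroup.zpowers (z : G)).Normal := by
    constructor
    intro a ha g
    rw [hcentZ a ha g, mul_inv_cancel_right]
    exact ha
  have hKn : K₀.Normal := by
    constructor
    intro n hn g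
    have hg : g ∈ Subgroup.zpowers (z : G) ⊔ K₀ := by rw [hsup]; trivial
    obtain ⟨a, ha, b, hb, rfl⟩ := Cfsg.Agent.S4334.exists_mul_of_mem_sup
      (fun a ha b _ => (hcentZ a ha b).symm) hg
    have e : a * b * n * (a * b)⁻¹ = b * n * b⁻¹ := by
      have h1 := hcentZ a ha (b * n * b⁻¹)
      calc a * b * n * (a * b)⁻¹ = a * (b * n * b⁻¹) * a⁻¹ := by group
        _ = (b * n * b⁻¹) * a * a⁻¹ := by rw [h1]
        _ = b * n * b⁻¹ := by group
    rw [e]
    exact K₀.mul_mem (K₀.mul_mem hb hn) (K₀.inv_mem hb)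
  refine ⟨Subgroup.zpowers (z : G), K₀, hZn, hKn, ?_, hsup, hcardZ, hA3, hpK⟩
  apply Disjoint.eq_bot
  apply Subgroup.disjoint_of_coprime_natCard
  rw [hcardZ]
  exact (Nat.Prime.coprime_iff_not_dvd hp.out).mpr hpK

/-- Case of a non-normal Sylow `p`-subgroup: impossible. -/
theorem forwardB (p : ℕ) [hp : Fact p.Prime]
    (h : ∀ M : Subgroup G, IsCoatom M → p ∣ Nat.card M → Group.IsNilpotent M)
    (K₀ : Subgroup G) (hK₀ : IsCoatom K₀) (hKnil : ¬ Group.IsNilpotent K₀)
    (hpK : ¬ p ∣ Nat.card K₀) (P : Sylow p G) (hpP : p ∣ Nat.card P)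
    (hPn : ¬ (P : Subgroup G).Normal) : False := by
  have hPK : (P : Subgroup G) ⊓ K₀ = ⊥ := pgroup_inf_eq_bot P.isPGroup' hpK
  have hcopK : ∀ k ∈ K₀, (orderOf k).Coprime p := by
    intro k hk
    have h1 : orderOf k ∣ Nat.card K₀ := Subgroup.orderOf_dvd_natCard K₀ hk
    have h2 : Nat.Coprime (Nat.card K₀) p :=
      ((Nat.Prime.coprime_iff_not_dvd hp.out).mpr hpK).symm
    exact Nat.Coprime.coprime_dvd_left h1 h2
  -- no nontrivial normal `p`-subgroup inside `P`
  have hB1 : ∀ Q : Subgroup G, Q ≤ (P : Subgroup G) → Q ≠ ⊥ →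
      Subgroup.normalizer (Q : Set G) ≠ ⊤ := by
    intro Q hQP hQne htop
    have hQn : Q.Normal := Subgroup.normalizer_eq_top_iff.mp htop
    have hQp : IsPGroup p Q := P.isPGroup'.to_le hQP
    have hsup : Q ⊔ K₀ = ⊤ := sup_coatom_eq_top hK₀ hpK (pgroup_card_dvd hQp hQne)
    apply hPn
    have hPQ : (P : Subgroup G) = Q := by
      apply le_antisymm _ hQP
      intro u hu
      have hu' : u ∈ (Q ⊔ K₀ : Subgroup G) := by rw [hsup]; trivial
      rw [← SetLike.mem_coe, Subgroup.normal_mul] at hu'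
      obtain ⟨a, ha, b, hb, rfl⟩ := Set.mem_mul.mp hu'
      have hb' : b ∈ (P : Subgroup G) ⊓ K₀ := by
        refine ⟨?_, hb⟩
        have : b = a⁻¹ * (a * b) := by group
        rw [this]
        exact Subgroup.mul_mem _ (Subgroup.inv_mem _ (hQP ha)) hu
      rw [hPK] at hb'
      rw [Subgroup.mem_bot.mp hb', mul_one]
      exact ha
    rw [hPQ]; exact hQn
  -- Frobenius' condition
  have hF : FrobCond P := by
    intro Q hQP g hg hcop
    rw [Subgroup.mem_centralizer_iff]
    intro u hu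
    by_cases hQne : Q = ⊥
    · rw [hQne] at hu
      have : u = 1 := Subgroup.mem_bot.mp hu
      rw [this, one_mul, mul_one]
    · have hQp : IsPGroup p Q := P.isPGroup'.to_le hQP
      have hNnil : Group.IsNilpotent (Subgroup.normalizer (Q : Set G)) := by
        apply nilpotent_of_proper p h (hB1 Q hQP hQne)
        exact (pgroup_card_dvd hQp hQne).trans (Subgroup.card_dvd_of_le Subgroup.le_normalizer)
      obtain ⟨n, hn⟩ := hQp ⟨u, hu⟩
      have hun : u ^ p ^ n = 1 := by simpa using congrArg Subtype.val hn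
      have huN : u ∈ Subgroup.normalizer (Q : Set G) := Subgroup.le_normalizer hu
      have hx : (⟨u, huN⟩ : Subgroup.normalizer (Q : Set G)) ^ p ^ n = 1 := by
        apply Subtype.ext
        simpa using hun
      have hy : (orderOf (⟨g, hg⟩ : Subgroup.normalizer (Q : Set G))).Coprime p := by
        rw [Subgroup.orderOf_mk]; exact hcop
      have h3 := commute_of_nilpotent_coprime hNnil hx hy
      exact congrArg Subtype.val h3
  have hcompl := isComplement'_pResidual_of_frobCond P hF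
  have hNn : (Cfsg.pResidual p G).Normal := pResidual_normal p
  have hKN : K₀ ≤ Cfsg.pResidual p G := by
    intro k hk
    exact Subgroup.subset_closure (hcopK k hk)
  have hNtop : Cfsg.pResidual p G ≠ ⊤ := by
    intro htop
    have h1 := hcompl.card_mul_card
    rw [htop, Subgroup.card_top] at h1
    have hpos : 0 < Nat.card G := Nat.card_pos
    have h2 : Nat.card (P : Subgroup G) = 1 := by
      have : Nat.card G * Nat.card (P : Subgroup G) = Nat.card G * 1 := by rw [h1, mul_one]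
      exact Nat.eq_of_mul_eq_mul_left hpos this
    rw [h2] at hpP
    exact hp.out.one_lt.ne' (Nat.dvd_one.mp hpP)
  have hKeq : K₀ = Cfsg.pResidual p G :=
    eq_of_le_of_not_lt hKN (fun hlt => hNtop (hK₀.2 _ hlt))
  have hK₀n : K₀.Normal := by rw [hKeq]; exact hNn
  have hPnK : (P : Subgroup G) ≤ Subgroup.normalizer (K₀ : Set G) := by
    rw [Subgroup.normalizer_eq_top_iff.mpr hK₀n]; exact le_top
  have hcop : (Nat.card (P : Subgroup G)).Coprime (Nat.card K₀) := by
    obtain ⟨n, hn⟩ := IsPGroup.iff_card.mp P.isPGroup'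
    rw [hn]
    exact Nat.Coprime.pow_left n ((Nat.Prime.coprime_iff_not_dvd hp.out).mpr hpK)
  have hPsolv : Group.IsSolvable (P : Subgroup G) := by
    have : Group.IsNilpotent (P : Subgroup G) := IsPGroup.isNilpotent P.isPGroup'
    infer_instance
  -- every prime: a Sylow subgroup of `K₀` centralizing `P`
  have hB4 : ∀ (q : ℕ) [Fact q.Prime], ∃ Q : Sylow q K₀,
      (Q : Subgroup K₀) ≤ (Subgroup.centralizer ((P : Subgroup G) : Set G)).subgroupOf K₀ := by
    intro q hq
    obtain ⟨Q, hQ⟩ := exists_invariant_sylow hPnK hcop (Or.inl hPsolv) q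
    refine ⟨Q, ?_⟩
    have hQ'K : (Q : Subgroup K₀).map K₀.subtype ≤ K₀ := Subgroup.map_subtype_le _
    have hQ'p : ¬ p ∣ Nat.card ((Q : Subgroup K₀).map K₀.subtype) := fun hd =>
      hpK (hd.trans (Subgroup.card_dvd_of_le hQ'K))
    have hXne : (P : Subgroup G) ⊔ (Q : Subgroup K₀).map K₀.subtype ≠ ⊤ := by
      intro htop
      have hnorm : Subgroup.normalizer (((Q : Subgroup K₀).map K₀.subtype : Subgroup G) : Set G)
          = ⊤ := by
        rw [eq_top_iff, ← htop]
        exact sup_le hQ Subgroup.le_normalizer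
      have hQn : ((Q : Subgroup K₀).map K₀.subtype).Normal :=
        Subgroup.normalizer_eq_top_iff.mp hnorm
      apply hKnil
      have hall : ∀ k : K₀, k ∈ (Q : Subgroup K₀) := by
        intro k
        have hk' : (k : G) ∈ ((P : Subgroup G) ⊔ (Q : Subgroup K₀).map K₀.subtype : Subgroup G) := by
          rw [htop]; trivial
        rw [← SetLike.mem_coe, Subgroup.mul_normal] at hk'
        obtain ⟨b, hb, a, ha, hab⟩ := Set.mem_mul.mp hk'
        have hb' : b ∈ (P : Subgroup G) ⊓ K₀ := by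
          refine ⟨hb, ?_⟩
          have : b = (b * a) * a⁻¹ := by group
          rw [this, hab]
          exact K₀.mul_mem k.2 (K₀.inv_mem (hQ'K ha))
        rw [hPK] at hb'
        rw [Subgroup.mem_bot.mp hb', one_mul] at hab
        obtain ⟨y, hy, hya⟩ := ha
        have : y = k := Subtype.ext (hya.trans hab)
        rw [← this]; exact hy
      have hKp : IsPGroup q K₀ := by
        intro k
        obtain ⟨n, hn⟩ := Q.isPGroup' ⟨k, hall k⟩
        exact ⟨n, by simpa using congrArg Subtype.val hn⟩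
      exact IsPGroup.isNilpotent hKp
    have hXnil : Group.IsNilpotent ((P : Subgroup G) ⊔ (Q : Subgroup K₀).map K₀.subtype :
        Subgroup G) := by
      apply nilpotent_of_proper p h hXne
      exact hpP.trans (Subgroup.card_dvd_of_le le_sup_left)
    have hcomm := commute_of_sup_nilpotent P.isPGroup' hQ'p hXnil
    intro k hk
    rw [Subgroup.mem_subgroupOf, Subgroup.mem_centralizer_iff]
    intro u hu
    exact hcomm u hu (k : G) ⟨k, hk, rfl⟩
  -- hence `K₀` centralizes `P`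
  have hB5 : K₀ ≤ Subgroup.centralizer ((P : Subgroup G) : Set G) := by
    rw [← Subgroup.subgroupOf_eq_top, ← Subgroup.index_eq_one]
    by_contra hne
    obtain ⟨q, hq, hqd⟩ := Nat.exists_prime_and_dvd hne
    have : Fact q.Prime := ⟨hq⟩
    obtain ⟨Q, hQ⟩ := hB4 q
    exact Q.not_dvd_index (hqd.trans (Subgroup.index_dvd_of_le hQ))
  apply hPn
  rw [← Subgroup.normalizer_eq_top_iff, eq_top_iff,
    ← sup_coatom_eq_top hK₀ hpK (U := (P : Subgroup G)) hpP]
  exact sup_le Subgroup.le_normalizer (hB5.trans (Subgroup.centralizer_le_normalizer _))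

theorem forward (p : ℕ) (hp : p.Prime) (hpG : p ∣ Nat.card G)
    (h : ∀ M : Subgroup G, IsCoatom M → p ∣ Nat.card M → Group.IsNilpotent M)
    (hG : ¬ Group.IsNilpotent G) (hmin : ¬ Cfsg.IsMinimalNonNilpotent G) :
    ∃ Z K : Subgroup G, Z.Normal ∧ K.Normal ∧ Z ⊓ K = ⊥ ∧ Z ⊔ K = ⊤ ∧ Nat.card Z = p ∧
          Cfsg.IsMinimalNonNilpotent K ∧ ¬ p ∣ Nat.card K := by
  have : Fact p.Prime := ⟨hp⟩
  have h1 : ∃ H₀ : Subgroup G, H₀ ≠ ⊤ ∧ ¬ Group.IsNilpotent H₀ := by
    by_contra hcon
    apply hmin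
    refine ⟨hG, ?_⟩
    intro H hH
    by_contra hHn
    exact hcon ⟨H, hH, hHn⟩
  obtain ⟨H₀, hH₀, hH₀n⟩ := h1
  obtain ⟨K₀, hK₀, hHK⟩ := (eq_top_or_exists_le_coatom H₀).resolve_left hH₀
  have hKnil : ¬ Group.IsNilpotent K₀ := fun hn => hH₀n (nilpotent_of_le hHK hn)
  have hpK : ¬ p ∣ Nat.card K₀ := fun hd => hKnil (h K₀ hK₀ hd)
  let P : Sylow p G := default
  have hpP : p ∣ Nat.card P := P.dvd_card_of_dvd_card hpG
  by_cases hPn : (P : Subgroup G).Normal
  · exact forwardA p h K₀ hK₀ hKnil hpK P hpP hPn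
  · exact (forwardB p h K₀ hK₀ hKnil hpK P hpP hPn).elim

/-- Let G be a finite group and p a prime dividing its order. Every maximal subgroup of G of order divisible by p is nilpotent if and only if G is nilpotent, or G is a minimal non-nilpotent group, or G is the internal direct product of a normal subgroup of order p and a normal minimal non-nilpotent subgroup of order prime to p. -/
theorem result {G : Type*} [Group G] [Finite G] (p : ℕ) (hp : p.Prime) (hpG : p ∣ Nat.card G) :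
    (∀ M : Subgroup G, IsCoatom M → p ∣ Nat.card M → Group.IsNilpotent M) ↔
      (Group.IsNilpotent G ∨ Cfsg.IsMinimalNonNilpotent G ∨
        ∃ Z K : Subgroup G, Z.Normal ∧ K.Normal ∧ Z ⊓ K = ⊥ ∧ Z ⊔ K = ⊤ ∧ Nat.card Z = p ∧
          Cfsg.IsMinimalNonNilpotent K ∧ ¬ p ∣ Nat.card K) := by
  constructor
  · intro h
    by_cases hG : Group.IsNilpotent G
    · exact Or.inl hG
    by_cases hmin : Cfsg.IsMinimalNonNilpotent G
    · exact Or.inr (Or.inl hmin)
    exact Or.inr (Or.inr (forward p hp hpG h hG hmin))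
  · rintro (hG | hmin | ⟨Z, K, hZ, hK, hZK, hsup, hcard, hKm, hpK⟩)
    · intro M _ _
      infer_instance
    · intro M hM _
      exact hmin.2 M hM.1
    · intro M hM hpM
      exact backward3 p hp Z K hZ hK hZK hsup hcard hKm hpK M hM hpM

end Cfsg.Agent.S4242
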