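import Cfsg.Statements.S4249
import Cfsg.Agent.S3946
import Cfsg.Agent.Lib.Helper26.HughesLib

set_option autoImplicit false
open Cfsg
open Cfsg.Agent.Lib.Helper26

namespace Cfsg.Agent.S4249

universe u

section hughesThompson

variable {G : Type u} [Group G]

theorem hughes_normal (p : ℕ) : (Subgroup.closure {g : G | g ^ p ≠ 1}).Normal := by
  constructor
  intro n hn g
  induction hn using Subgroup.closure_induction with
  | mem z hz =>
    apply Subgroup.subset_closure
    show (g * z * g⁻¹) ^ p ≠ 1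
    intro h
    apply hz
    rw [conj_pow] at h
    have e : z ^ p = g⁻¹ * (g * z ^ p * g⁻¹) * g := by group
    rw [e, h]; group
  | one => simp
  | mul x y _ _ hx hy =>
    have : g * (x * y) * g⁻¹ = (g * x * g⁻¹) * (g * y * g⁻¹) := by group
    rw [this]; exact Subgroup.mul_mem _ hx hy
  | inv x _ hx =>
    have : g * x⁻¹ * g⁻¹ = (g * x * g⁻¹)⁻¹ := by group
    rw [this]; exact Subgroup.inv_mem _ hx

theorem main [Finite G] (p : ℕ) (hp : p.Prime) (hG : ¬ IsPGroup p G)
    (H : Subgroup G) (hHdef : H = Subgroup.closure {g : G | g ^ p ≠ 1}) (hH : H ≠ ⊤) :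
    Group.IsNilpotent H ∧ H.index = p := by
  have hpf : Fact p.Prime := ⟨hp⟩
  have hHn : H.Normal := by rw [hHdef]; exact hughes_normal p
  have hout : ∀ g, g ∉ H → g ^ p = 1 := by
    intro g hg
    by_contra h
    apply hg
    rw [hHdef]
    exact Subgroup.subset_closure h
  have hout' : ∀ g, g ∉ H → ∀ h ∈ H, (h * g) ^ p = 1 := by
    intro g hg h hh
    apply hout
    intro hmem
    apply hg
    have e : g = h⁻¹ * (h * g) := by group
    rw [e]
    exact H.mul_mem (H.inv_mem hh) hmem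
  have hc1 : ∀ g : G, ∀ x ∈ H, g * x * g⁻¹ ∈ H := fun g x hx => hHn.conj_mem x hx g
  have hc2 : ∀ g : G, ∀ x ∈ H, g⁻¹ * x * g ∈ H := fun g x hx => by
    have h := hHn.conj_mem x hx g⁻¹
    rwa [inv_inv] at h
  have hsplit : ∀ g, g ∉ H → Split p (conjAutOf H g (hc1 g) (hc2 g)) := by
    intro g hg h
    have h1 : ∀ k : ℕ, ((pprod (conjAutOf H g (hc1 g) (hc2 g)) k h : H) : G) =
        ((h : G) * g) ^ k * (g ^ k)⁻¹ := by
      intro k
      induction k with
      | zero => simp [pprod_zero]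
      | succ k ih =>
        rw [pprod_succ, Subgroup.coe_mul, ih, conjAutOf_iterate, pow_succ ((h : G) * g) k,
          pow_succ g k]
        group
    apply Subtype.ext
    rw [h1, hout' g hg h h.2, hout g hg]
    simp
  obtain ⟨x0, hx0⟩ : ∃ x0 : G, x0 ∉ H := by
    by_contra hcon
    apply hH
    rw [eq_top_iff]
    intro g _
    by_contra hg
    exact hcon ⟨g, hg⟩
  have hHnil : Group.IsNilpotent H :=
    Cfsg.Agent.S3946.kegel_nilpotent p hp (Nat.card H) H rfl
      (conjAutOf H x0 (hc1 x0) (hc2 x0)) (hsplit x0 hx0)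
  refine ⟨hHnil, ?_⟩
  have hQexp : ∀ a : G ⧸ H, a ^ p = 1 := by
    intro a
    induction a using QuotientGroup.induction_on with
    | H g =>
      by_cases hg : g ∈ H
      · rw [(QuotientGroup.eq_one_iff g).mpr hg, one_pow]
      · rw [← QuotientGroup.mk_pow, hout g hg]; rfl
  have hQp : IsPGroup p (G ⧸ H) := fun a => ⟨1, by rw [pow_one]; exact hQexp a⟩
  have hQnt : Nontrivial (G ⧸ H) :=
    ⟨⟨QuotientGroup.mk x0, 1, fun h => hx0 ((QuotientGroup.eq_one_iff x0).mp h)⟩⟩
  have hcnt := hQp.center_nontrivial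
  obtain ⟨⟨z, hzc⟩, hz1⟩ := exists_ne (1 : Subgroup.center (G ⧸ H))
  have hz1' : z ≠ 1 := fun h => hz1 (Subtype.ext h)
  have hzord : orderOf z = p := orderOf_eq_prime (hQexp z) hz1'
  by_cases hz : Subgroup.zpowers z = ⊤
  · rw [Subgroup.index_eq_card, ← Subgroup.card_top (G := G ⧸ H), ← hz, Nat.card_zpowers, hzord]
  exfalso
  obtain ⟨w, hw⟩ : ∃ w : G ⧸ H, w ∉ Subgroup.zpowers z := by
    by_contra hcon
    apply hz
    rw [eq_top_iff]
    intro g _
    by_contra hg
    exact hcon ⟨g, hg⟩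
  obtain ⟨x, rfl⟩ := QuotientGroup.mk_surjective z
  obtain ⟨y, rfl⟩ := QuotientGroup.mk_surjective w
  have hx : x ∉ H := fun h => hz1' ((QuotientGroup.eq_one_iff x).mpr h)
  have hxy : ∀ i : ℕ, x ^ i * y ∉ H := by
    intro i h
    apply hw
    have h1 : (QuotientGroup.mk (x ^ i * y) : G ⧸ H) = 1 := (QuotientGroup.eq_one_iff _).mpr h
    rw [QuotientGroup.mk_mul, QuotientGroup.mk_pow] at h1
    have h2 : (QuotientGroup.mk y : G ⧸ H) = ((QuotientGroup.mk x : G ⧸ H) ^ i)⁻¹ :=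
      eq_inv_of_mul_eq_one_right h1
    rw [h2]
    exact Subgroup.inv_mem _ (Subgroup.pow_mem _ (Subgroup.mem_zpowers _) i)
  have hcomm : x⁻¹ * y⁻¹ * x * y ∈ H := by
    rw [← QuotientGroup.eq_one_iff]
    have h1 := Subgroup.mem_center_iff.mp hzc (QuotientGroup.mk y)
    rw [QuotientGroup.mk_mul, QuotientGroup.mk_mul, QuotientGroup.mk_mul, QuotientGroup.mk_inv,
      QuotientGroup.mk_inv, mul_assoc, ← h1]
    group
  obtain ⟨A, hAdef⟩ : ∃ A : Subgroup G, A = H ⊓ Subgroup.centralizer (H : Set G) := ⟨_, rfl⟩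
  have hAn : A.Normal := by
    rw [hAdef, ← Subgroup.normalizer_eq_top_iff]
    apply top_le_iff.mp
    calc ⊤ = Subgroup.normalizer (H : Set G) := (Subgroup.normalizer_eq_top_iff.mpr hHn).symm
      _ ≤ _ := normalizer_le_normalizer_zc H
  have hAH : A ≤ H := by rw [hAdef]; exact inf_le_left
  have hAab : ∀ a ∈ A, ∀ b ∈ A, a * b = b * a := by
    intro a ha b hb
    rw [hAdef] at ha hb
    exact (Subgroup.mem_centralizer_iff.mp hb.2) a ha.1
  have hAcent : ∀ h ∈ H, ∀ a ∈ A, h * a = a * h := by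
    intro h hh a ha
    rw [hAdef] at ha
    exact (Subgroup.mem_centralizer_iff.mp ha.2) h hh
  have ha1 : ∀ g : G, ∀ v ∈ A, g * v * g⁻¹ ∈ A := fun g v hv => hAn.conj_mem v hv g
  have ha2 : ∀ g : G, ∀ v ∈ A, g⁻¹ * v * g ∈ A := fun g v hv => by
    have h := hAn.conj_mem v hv g⁻¹
    rwa [inv_inv] at h
  have hnorm : ∀ g, g ∉ H → ∀ u : A,
      @Finset.prod ℕ A (@CommGroup.toCommMonoid A (commGroupOfComm A hAab)) (Finset.range p)
        (fun j => (conjAutOf A g (ha1 g) (ha2 g))^[j] u) = 1 :=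
    fun g hg u => prod_conjAutOf_iterate A hAab g (ha1 g) (ha2 g) p (hout g hg) u
      (hout' g hg u (hAH u.2))
  have hexp : ∀ v : A, (v : G) ^ p = 1 := by
    intro v
    have h0 : v ^ p = 1 := by
      refine @pow_eq_one_of_two_gen A (commGroupOfComm A hAab) p hp
        (conjAutOf A x (ha1 x) (ha2 x)) (conjAutOf A y (ha1 y) (ha2 y)) ?_ ?_ ?_ ?_ v
      · intro u
        apply Subtype.ext
        show x * (y * (u : G) * y⁻¹) * x⁻¹ = y * (x * (u : G) * x⁻¹) * y⁻¹
        have h1 := hAcent _ hcomm u u.2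
        calc x * (y * (u : G) * y⁻¹) * x⁻¹
            = y * x * ((x⁻¹ * y⁻¹ * x * y) * (u : G)) * y⁻¹ * x⁻¹ := by group
          _ = y * x * ((u : G) * (x⁻¹ * y⁻¹ * x * y)) * y⁻¹ * x⁻¹ := by rw [h1]
          _ = y * (x * (u : G) * x⁻¹) * y⁻¹ := by group
      · funext u
        apply Subtype.ext
        rw [conjAutOf_iterate, hout x hx]
        simp
      · exact hnorm x hx
      · intro i _ u
        have hfun : (⇑(conjAutOf A x (ha1 x) (ha2 x)))^[i] ∘ ⇑(conjAutOf A y (ha1 y) (ha2 y)) =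
            ⇑(conjAutOf A (x ^ i * y) (ha1 _) (ha2 _)) := by
          funext u'
          apply Subtype.ext
          rw [Function.comp_apply, conjAutOf_iterate]
          show x ^ i * (y * (u' : G) * y⁻¹) * (x ^ i)⁻¹ = x ^ i * y * (u' : G) * (x ^ i * y)⁻¹
          group
        rw [hfun]
        exact hnorm (x ^ i * y) (hxy i) u
    have h1 := congrArg Subtype.val h0
    simpa using h1
  -- `H` is not a `p`-group
  have hpowmem : ∀ g : G, g ^ p ∈ H := by
    intro g
    by_cases hg : g ∈ H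
    · exact H.pow_mem hg p
    · rw [hout g hg]; exact H.one_mem
  have hHnp : ¬ IsPGroup p H := by
    intro hHp
    apply hG
    intro g
    obtain ⟨k, hk⟩ := hHp ⟨g ^ p, hpowmem g⟩
    refine ⟨k + 1, ?_⟩
    rw [pow_succ', pow_mul]
    have h1 := congrArg Subtype.val hk
    simpa using h1
  have hexq : ∃ q : ℕ, q.Prime ∧ q ≠ p ∧ q ∣ Nat.card H := by
    by_contra hcon
    apply hHnp
    have h1 : ∀ {d : ℕ}, d.Prime → d ∣ Nat.card H → d = p := by
      intro d hd hdvd
      by_contra hne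
      exact hcon ⟨d, hd, hne, hdvd⟩
    exact IsPGroup.of_card (Nat.eq_prime_pow_of_unique_prime_dvd Nat.card_pos.ne' h1)
  obtain ⟨q, hq, hqp, hqdvd⟩ := hexq
  have hqf : Fact q.Prime := ⟨hq⟩
  obtain ⟨P, -⟩ : ∃ P : Sylow q H, P = P := ⟨default, rfl⟩
  have hPne : (P : Subgroup H) ≠ ⊥ := P.ne_bot_of_dvd_card hqdvd
  have hZne := zc_ne_bot P.isPGroup' hPne
  have hZc := zc_sylow_le_center hHnil q P
  obtain ⟨⟨z', hz'⟩, hz'1⟩ := (Subgroup.ne_bot_iff_exists_ne_one).mp hZne
  have hz'c : z' ∈ Subgroup.center H := hZc hz'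
  have hz'A : (z' : G) ∈ A := by
    rw [hAdef]
    refine Subgroup.mem_inf.mpr ⟨z'.2, ?_⟩
    rw [Subgroup.mem_centralizer_iff]
    intro h hh
    have h1 := Subgroup.mem_center_iff.mp hz'c ⟨h, hh⟩
    exact congrArg Subtype.val h1
  have h1 : (z' : G) ^ p = 1 := hexp ⟨(z' : G), hz'A⟩
  obtain ⟨n, hn⟩ := P.isPGroup' ⟨z', hz'.1⟩
  have h2 : (z' : G) ^ q ^ n = 1 := by
    have h3 := congrArg (fun t : (P : Subgroup H) => ((t : H) : G)) hn
    simpa using h3
  have h4 : orderOf (z' : G) ∣ p := orderOf_dvd_of_pow_eq_one h1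
  have h5 : orderOf (z' : G) ∣ q ^ n := orderOf_dvd_of_pow_eq_one h2
  have hcop : Nat.Coprime p (q ^ n) :=
    Nat.Coprime.pow_right n ((Nat.coprime_primes hp hq).mpr (Ne.symm hqp))
  have h6 : orderOf (z' : G) ∣ 1 := by
    have h7 := Nat.dvd_gcd h4 h5
    rwa [Nat.Coprime.gcd_eq_one hcop] at h7
  have h8 : (z' : G) = 1 := orderOf_eq_one_iff.mp (Nat.dvd_one.mp h6)
  apply hz'1
  apply Subtype.ext
  apply Subtype.ext
  exact h8

end hughesThompson

/-- Let G be a finite group and p a prime such that G is not a p-group, and suppose the Hughes subgroup H_p(G), generated by all elements g with g^p ≠ 1, is a proper subgroup. Then H_p(G) is nilpotent and has index p in G. -/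
theorem result {G : Type*} [Group G] [Finite G] (p : ℕ) (hp : p.Prime) (hG : ¬ IsPGroup p G)
    (hH : Subgroup.closure {g : G | g ^ p ≠ 1} ≠ ⊤) :
    Group.IsNilpotent (Subgroup.closure {g : G | g ^ p ≠ 1}) ∧ (Subgroup.closure {g : G | g ^ p ≠ 1}).index = p := by
  exact main p hp hG _ rfl hH

end Cfsg.Agent.S4249
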