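import Cfsg.Statements.S4262
-- import your own Cfsg.Agent.* helpers here
import Cfsg.Agent.S3904

set_option autoImplicit false
open Cfsg

namespace Cfsg.Agent.S4262

/-- a group with a solvable normal subgroup and solvable quotient is solvable -/
theorem solvable_of_normal {H : Type*} [Group H] (K : Subgroup H) [K.Normal]
    (h1 : Group.IsSolvable K) (h2 : Group.IsSolvable (H ⧸ K)) : Group.IsSolvable H := by
  refine solvable_of_ker_le_range K.subtype (QuotientGroup.mk' K) ?_
  rw [QuotientGroup.ker_mk', Subgroup.range_subtype]

/-- Let G be a finite group in which the centralizer of every non-central element is a maximal subgroup of G. Then G is solvable. -/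
theorem result {G : Type*} [Group G] [Finite G]
    (h : ∀ g : G, g ∉ Subgroup.center G → IsCoatom (Subgroup.centralizer ({g} : Set G))) :
    Group.IsSolvable G := by
  by_cases hab : IsMulCommutative G
  · haveI := hab
    exact Group.isSolvable_of_comm (fun a b => mul_comm' a b)
  · apply solvable_of_normal (Subgroup.center G)
      (Group.isSolvable_of_comm (fun a b => mul_comm' a b))
    rcases Cfsg.Agent.S3904.result hab h with ⟨p, hp, hE⟩ | ⟨-, -, p, q, a, hp, hq, hpq, hcard, hN⟩
    · -- `G / Z` is abelian
      have hc : ∀ x y : G ⧸ Subgroup.center G, x * y = y * x := by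
        intro x y
        have := hE.1
        have h1 := mul_comm' (⟨x, Subgroup.mem_top x⟩ : (⊤ : Subgroup (G ⧸ Subgroup.center G)))
          ⟨y, Subgroup.mem_top y⟩
        exact congrArg Subtype.val h1
      exact Group.isSolvable_of_comm hc
    · haveI : Fact p.Prime := ⟨hp⟩
      obtain ⟨K, hK⟩ := Sylow.exists_subgroup_card_pow_prime p
        (show p ^ a ∣ Nat.card (G ⧸ Subgroup.center G) from hcard ▸ Dvd.intro _ rfl)
      haveI : K.Normal := hN K hK
      have hKp : IsPGroup p K := IsPGroup.of_card hK
      have h1 : Group.IsSolvable K := by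
        haveI := hKp.isNilpotent
        infer_instance
      have hq' : Nat.card ((G ⧸ Subgroup.center G) ⧸ K) = q := by
        have h2 := Subgroup.card_eq_card_quotient_mul_card_subgroup K
        rw [hcard, hK, mul_comm] at h2
        exact (Nat.eq_of_mul_eq_mul_right (pow_pos hp.pos a) h2).symm
      have h2 : Group.IsSolvable ((G ⧸ Subgroup.center G) ⧸ K) := by
        haveI : Fact q.Prime := ⟨hq⟩
        haveI := isCyclic_of_prime_card hq'
        letI : CommGroup ((G ⧸ Subgroup.center G) ⧸ K) := IsCyclic.commGroup
        exact Group.isSolvable_of_comm (fun a b => mul_comm a b)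
      exact solvable_of_normal K h1 h2

end Cfsg.Agent.S4262
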