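import Cfsg.Statements.S4274
import Mathlib
import Cfsg.Agent.Lib.Helper11.S4274R1
import Cfsg.Agent.Lib.Helper23.Syl
import Cfsg.Agent.Lib.Helper36.S4274A
import Cfsg.Agent.Lib.Helper36.S4274C
import Cfsg.Agent.Lib.Helper36.S4274B1
import Cfsg.Agent.Lib.Helper36.S4274B2
import Cfsg.Agent.Lib.Helper62.S4274D
import Cfsg.Agent.Lib.Helper62.S4274E
import Cfsg.Agent.Lib.Helper39.S4274R2A
import Cfsg.Agent.Lib.Helper77.S4274R2B

set_option autoImplicit false
open Cfsg

namespace Cfsg.Agent.S4274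

theorem ns15960 {G : Type*} [Group G] [Finite G] [IsSimpleGroup G] (h : Nat.card G = 15960)
    (hn : Nat.card (Sylow 19 G) = 210) : False := by
  have hG : ¬ IsMulCommutative G :=
    Cfsg.Agent.Lib.Helper23.not_comm_of_simple_of_not_prime (by rw [h]; norm_num)
  obtain ⟨t, ht, h8⟩ := Cfsg.Agent.S4274T.ns15960_aux h hn
  exact h8 (Cfsg.Agent.S4274T.eight_dvd_card_centralizer_involution hG 1995 (by rw [h])
    (by norm_num) t ht)

theorem no_simple {H : Type*} [Group H] [Finite H] [IsSimpleGroup H]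
    (hG : ¬ IsMulCommutative H) (hdvd : Nat.card H ∣ 175560) (h19 : 19 ∣ Nat.card H)
    (hne : Nat.card H ≠ 175560) : False :=
  Cfsg.Agent.S4274T.no_simple_of_cases hG hdvd h19 hne
    (fun h hn => Cfsg.Agent.S4274T.ns7980 h hn) (fun h hn => ns15960 h hn)
    (fun h hn => Cfsg.Agent.S4274T.ns87780a h hn) (fun h hn => Cfsg.Agent.S4274T.ns58520 h hn)
    (fun h hn => Cfsg.Agent.S4274T.ns87780b h hn)

/-- A finite group of order 175560 = 2³·3·5·7·11·19 is either simple or has a normal Sylow 19-subgroup. -/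
theorem result {G : Type*} [Group G] [Finite G] (hG : Nat.card G = 175560) : IsSimpleGroup G ∨ ∀ P : Sylow 19 G, (P : Subgroup G).Normal := by
  by_cases hs : IsSimpleGroup G
  · exact Or.inl hs
  · exact Or.inr (Cfsg.Agent.S4274T.normal_sylow_induction
      (fun K _ _ _ hK hd h19 hne => no_simple hK hd h19 hne)
      (fun K _ _ N _ hN hK P => Cfsg.Agent.S4274T.normal_of_coprime_split N hN hK P)
      175560 G hG dvd_rfl hs)

end Cfsg.Agent.S4274
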