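import Mathlib
import Cfsg.Statements.S4305
import Cfsg.Agent.Lib.Helper72.S3Defs
import Cfsg.Agent.Lib.Helper72.S3Core
import Cfsg.Agent.Lib.Helper12.S3Knz
import Cfsg.Agent.Lib.Helper12.S3Lift
import Cfsg.Agent.Lib.Helper17.S3Nma
import Cfsg.Agent.Lib.Helper19.S3Lemx
import Cfsg.Agent.Lib.Helper29.S3F1
import Cfsg.Agent.Lib.Helper29.S3Inv
import Cfsg.Agent.Lib.Helper34.S3Lemq
import Cfsg.Agent.Lib.Helper42.S3Cl2
import Cfsg.Agent.Lib.Helper42.S3Op
import Cfsg.Agent.Lib.Helper56.S3Kmod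
import Cfsg.Agent.Lib.Helper57.S3Reg6
import Cfsg.Agent.Lib.Helper60.S3Main
import Cfsg.Agent.Lib.Helper64.S3Es
import Cfsg.Agent.Lib.Helper64.S3Zf
import Cfsg.Agent.Lib.Helper66.S3Genstep
import Cfsg.Agent.Lib.Helper73.S3Lift1
import Cfsg.Agent.Lib.Helper74.S3Hp
import Cfsg.Agent.Lib.Helper75.S3Kind
import Cfsg.Agent.Lib.Helper77.S3Block
import Cfsg.Agent.Lib.Helper82.S3C1
import Cfsg.Agent.Lib.Helper85.S3Reg3
import Cfsg.Agent.Lib.Helper89.S3Nm

set_option autoImplicit false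
open Cfsg

namespace Cfsg.Agent.S4305

open Cfsg.Agent.Lib.Helper72.S3F in
/-- S4305 for groups in an arbitrary universe, assembled from the pieces. -/
theorem s3_main.{u} : MainStmt.{u} := by
  have hlift1 : Lift1Stmt.{u} := Cfsg.Agent.Lib.Helper73.S3F.lift1
  have hlift : LiftStmt.{u} := Cfsg.Agent.Lib.Helper12.S3F.lift hlift1
  have hinv : InvStmt.{u} := Cfsg.Agent.Lib.Helper29.S3F.inv
  have hreg6 : Reg6Stmt.{u} := Cfsg.Agent.Lib.Helper57.S3F.reg6
  have hreg6c : Reg6cStmt.{u} := Cfsg.Agent.Lib.Helper57.S3F.reg6c hreg6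
  have hreg3 : Reg3Stmt.{u} := Cfsg.Agent.Lib.Helper85.S3F.reg3
  have hlemx : LemXStmt.{u} := Cfsg.Agent.Lib.Helper19.S3F.lemX
  have hlemq : LemQStmt.{u} := Cfsg.Agent.Lib.Helper34.S3F.lemQ hlift
  have hblock : BlockStmt.{u} := Cfsg.Agent.Lib.Helper77.S3F.block
  have hgenstep : GenStepStmt.{u} := Cfsg.Agent.Lib.Helper66.S3F.genStep hreg6c hblock hlemq
  have hzf : ZfStmt.{u} := Cfsg.Agent.Lib.Helper64.S3F.zf hgenstep
  have hes : EsStmt.{u} := Cfsg.Agent.Lib.Helper64.S3F.es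
  have hnma : NMAStmt.{u} := Cfsg.Agent.Lib.Helper17.S3F.nma
  have hnm : NMStmt.{u} := Cfsg.Agent.Lib.Helper89.S3F.nm hnma hreg3 hes
  have hc1 : C1Stmt.{u} := Cfsg.Agent.Lib.Helper82.S3F.c1 hlift
  have hop : OpStmt.{u} := Cfsg.Agent.Lib.Helper42.S3F.op
  have hcl2 : Cl2Stmt.{u} := Cfsg.Agent.Lib.Helper42.S3F.cl2 hop
  have hhp : HpStmt.{u} := Cfsg.Agent.Lib.Helper74.S3F.hp hreg6c hlemx hinv
  have hf1 : F1Stmt.{u} := Cfsg.Agent.Lib.Helper29.S3F.f1 hlift1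
  have hkind : KindStmt.{u} := Cfsg.Agent.Lib.Helper75.S3F.kind hf1
  have hknz : KnzStmt.{u} := Cfsg.Agent.Lib.Helper12.S3F.knz hf1 hreg6
  have hkmod : KmodStmt.{u} := Cfsg.Agent.Lib.Helper56.S3F.kmod hreg6c hblock hlemq
  have hcore : CoreStmt.{u} :=
    core_of_pieces hc1 hinv hzf hnm hop hcl2 hreg3 hhp hkind hknz hkmod
  exact Cfsg.Agent.Lib.Helper60.S3F.main hcore hlift

/-- Let the symmetric group of degree 3 act by automorphisms on a finite solvable group `G` of order prime to 6, so that only the identity of `G` is fixed by all of it. Then the derived subgroup of `G` is nilpotent. -/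
theorem result {G : Type*} [Group G] [Finite G] [Group.IsSolvable G]
    [MulDistribMulAction (Equiv.Perm (Fin 3)) G] (hcop : (Nat.card G).Coprime 6)
    (hfpf : ∀ g : G, (∀ a : Equiv.Perm (Fin 3), a • g = g) → g = 1) :
    Group.IsNilpotent ↥(commutator G) := by
  exact s3_main G hcop hfpf

end Cfsg.Agent.S4305
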