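import Mathlib
import Cfsg.Statements.S4306
import Cfsg.Agent.Lib.Helper72.PQCore
import Cfsg.Agent.Lib.Helper1.PQIinon
import Cfsg.Agent.Lib.Helper16.PQFm
import Cfsg.Agent.Lib.Helper17.PQL2
import Cfsg.Agent.Lib.Helper20.PQIABX
import Cfsg.Agent.Lib.Helper34.PQFmq
import Cfsg.Agent.Lib.Helper37.PQFin
import Cfsg.Agent.Lib.Helper39.PQHhf
import Cfsg.Agent.Lib.Helper4.PQP6n
import Cfsg.Agent.Lib.Helper46.PQL3
import Cfsg.Agent.Lib.Helper46.PQLANGQ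
import Cfsg.Agent.Lib.Helper58.PQL1
import Cfsg.Agent.Lib.Helper58.PQWstab
import Cfsg.Agent.Lib.Helper63.PQIiab
import Cfsg.Agent.Lib.Helper65.PQRed
import Cfsg.Agent.Lib.Helper73.PQAfix
import Cfsg.Agent.Lib.Helper74.PQIiw
import Cfsg.Agent.Lib.Helper75.PQP6t
import Cfsg.Agent.Lib.Helper76.PQINON
import Cfsg.Agent.Lib.Helper77.PQWind
import Cfsg.Agent.Lib.Helper78.PQIir
import Cfsg.Agent.Lib.Helper81.PQIab
import Cfsg.Agent.Lib.Helper82.PQAstr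
import Cfsg.Agent.Lib.Helper87.PQWEX
import Cfsg.Agent.Lib.Helper94.PQIi0
import Cfsg.Agent.Lib.Helper94.PQP6X
import Cfsg.Agent.Lib.Helper97.PQP6A
import Cfsg.Agent.Lib.Helper97.PQP6S


set_option autoImplicit false
open Cfsg

namespace Cfsg.Agent.S4306

open Cfsg.Agent.Lib.Helper72.PQ in
/-- The tower configuration of a minimal counterexample is contradictory (assembly of the pieces). -/
theorem endAux.{u} : EndStmt.{u} :=
  have hAStr : AStrStmt.{u} := (Cfsg.Agent.Lib.Helper82.PQ.astr.{u})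
  have hAFix : AFixStmt.{u} := (Cfsg.Agent.Lib.Helper73.PQ.afix.{u} hAStr)
  have hFM : FMStmt.{u} := (Cfsg.Agent.Lib.Helper16.PQ.fm.{u})
  have hFMQ : FMQStmt.{u} := (Cfsg.Agent.Lib.Helper34.PQ.fmq.{u})
  have hWEx : WExStmt.{u} := (Cfsg.Agent.Lib.Helper87.PQ.wex.{u})
  have hWInd : WIndStmt.{u} := (Cfsg.Agent.Lib.Helper77.PQ.wind.{u})
  have hLangQ : LangQStmt.{u} := (Cfsg.Agent.Lib.Helper46.PQ.langq.{u})
  have hL1 : L1Stmt.{u} := (Cfsg.Agent.Lib.Helper58.PQ.l1.{u} hAFix hAStr)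
  have hL2 : L2Stmt.{u} := (Cfsg.Agent.Lib.Helper17.PQ.l2.{u})
  have hL3 : L3Stmt.{u} := (Cfsg.Agent.Lib.Helper46.PQ.l3.{u})
  have hWStab : WStabStmt.{u} := (Cfsg.Agent.Lib.Helper58.PQ.wstab.{u} hAStr hWInd hFMQ)
  have hII0 : II0Stmt.{u} := (Cfsg.Agent.Lib.Helper94.PQ.ii0.{u} hFMQ hL1 hL2)
  have hIIW : IIWStmt.{u} := (Cfsg.Agent.Lib.Helper74.PQ.iiw.{u})
  have hIIR : IIRStmt.{u} := (Cfsg.Agent.Lib.Helper78.PQ.iir.{u} hLangQ hL1)
  have hIIab : IIabStmt.{u} := (Cfsg.Agent.Lib.Helper63.PQ.iiab.{u} hII0 hIIW hIIR hWEx hL2)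
  have hHHF : HHFStmt.{u} := (Cfsg.Agent.Lib.Helper39.PQ.hhf.{u} hAStr hL3)
  have hIInon : IInonStmt.{u} := (Cfsg.Agent.Lib.Helper1.PQ.iinon.{u} hII0 hHHF hFM hL2 hL3)
  have hIabX : IabXStmt.{u} := (Cfsg.Agent.Lib.Helper20.PQ.iabx.{u} hL1)
  have hIab : IabStmt.{u} := (Cfsg.Agent.Lib.Helper81.PQ.iab.{u} hIabX hWEx hWStab hLangQ hL1 hL2 hAStr)
  have hP6A : P6AStmt.{u} := (Cfsg.Agent.Lib.Helper97.PQ.p6a.{u} hFM)
  have hP6S : P6SStmt.{u} := (Cfsg.Agent.Lib.Helper97.PQ.p6s.{u} hP6A)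
  have hP6X : P6XStmt.{u} := (Cfsg.Agent.Lib.Helper94.PQ.p6x.{u} hP6A)
  have hP6N : P6NStmt.{u} := (Cfsg.Agent.Lib.Helper4.PQ.p6n.{u} hP6A)
  have hP6C : P6CStmt.{u} := p6c_of_pieces hP6S hP6X hP6N
  have hP6 : P6Stmt.{u} := (Cfsg.Agent.Lib.Helper75.PQ.p6t.{u} hP6C)
  have hInon : InonStmt.{u} := (Cfsg.Agent.Lib.Helper76.PQ.inon.{u} hHHF hP6 hWEx hWStab hL1 hL2 hL3 hAStr)
  end_of_pieces hL1 hIIab hIInon hIab hInon

open Cfsg.Agent.Lib.Helper72.PQ in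
/-- Internal form of the theorem. -/
theorem redAux.{u} : RedStmt.{u} :=
  have hAStr : AStrStmt.{u} := (Cfsg.Agent.Lib.Helper82.PQ.astr.{u})
  have hAFix : AFixStmt.{u} := (Cfsg.Agent.Lib.Helper73.PQ.afix.{u} hAStr)
  (Cfsg.Agent.Lib.Helper65.PQ.red.{u} endAux.{u} hAFix hAStr)

/-- Let `A` be a non-abelian group of order `pq` with `p, q` distinct primes, acting by automorphisms on a finite solvable group `G` of order prime to `pq`, so that only the identity of `G` is fixed by all of `A`. Then `G` has Fitting height at most 2: there is a normal nilpotent subgroup `F` of `G` with `G/F` nilpotent. -/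
theorem result {G A : Type*} [Group G] [Finite G]
    [Group.IsSolvable G] [Group A] [Finite A] [MulDistribMulAction A G] (p q : ℕ) (hp : p.Prime) (hq : q.Prime) (hpq : p ≠ q)
    (hA : Nat.card A = p * q) (hAna : ¬ IsMulCommutative A) (hcop : (Nat.card G).Coprime (p * q))
    (hfpf : ∀ g : G, (∀ a : A, a • g = g) → g = 1) :
    ∃ F : Subgroup G, ∃ hF : F.Normal, Group.IsNilpotent ↥F ∧ Group.IsNilpotent (G ⧸ F) :=
  Cfsg.Agent.Lib.Helper37.PQ.fin redAux G A p q hp hq hpq hA hAna hcop hfpf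

end Cfsg.Agent.S4306
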