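import Cfsg.Statements.S4341
import Mathlib

set_option autoImplicit false
open Cfsg

namespace Cfsg.Agent.S4341

open Subgroup
open scoped Pointwise

theorem card_mul_relIndex_of_le {G : Type*} [Group G] {H K : Subgroup G} (h : H ≤ K) :
    Nat.card H * H.relIndex K = Nat.card K := by
  have := Subgroup.relIndex_mul_relIndex ⊥ H K bot_le h
  rwa [Subgroup.relIndex_bot_left, Subgroup.relIndex_bot_left] at this

/-- `[A ⊔ B : B] = [A : A ⊓ B]` if `A` normalizes `B`. -/
theorem relIndex_sup_of_le_normalizer {G : Type*} [Group G] (A B : Subgroup G)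
    (h : A ≤ normalizer (B : Set G)) : B.relIndex (A ⊔ B) = B.relIndex A := by
  have hAB : A ⊔ B ≤ normalizer (B : Set G) := sup_le h le_normalizer
  rw [← Subgroup.relIndex_subgroupOf hAB, Subgroup.subgroupOf_sup h le_normalizer]
  haveI : (B.subgroupOf (normalizer (B : Set G))).Normal := Subgroup.normal_in_normalizer
  rw [Subgroup.relIndex_sup_right, Subgroup.relIndex_subgroupOf h]

/-- `[A ⊔ B : A] = [B : A ⊓ B]` if `A` normalizes `B` (finite group). -/
theorem relIndex_sup_of_le_normalizer' {G : Type*} [Group G] [Finite G] (A B : Subgroup G)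
    (h : A ≤ normalizer (B : Set G)) : A.relIndex (A ⊔ B) = A.relIndex B := by
  have h1 := relIndex_sup_of_le_normalizer A B h
  have e1 := card_mul_relIndex_of_le (le_sup_right : B ≤ A ⊔ B)
  have e2 := card_mul_relIndex_of_le (le_sup_left : A ≤ A ⊔ B)
  have e3 := card_mul_relIndex_of_le (inf_le_left : A ⊓ B ≤ A)
  have e4 := card_mul_relIndex_of_le (inf_le_right : A ⊓ B ≤ B)
  rw [Subgroup.inf_relIndex_left] at e3
  rw [Subgroup.inf_relIndex_right] at e4
  rw [h1] at e1
  have hA : 0 < Nat.card A := Nat.card_pos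
  have hpos : 0 < Nat.card (A ⊓ B : Subgroup G) * B.relIndex A := by rw [e3]; exact hA
  apply Nat.eq_of_mul_eq_mul_left hpos
  calc Nat.card (A ⊓ B : Subgroup G) * B.relIndex A * A.relIndex (A ⊔ B)
      = Nat.card A * A.relIndex (A ⊔ B) := by rw [e3]
    _ = Nat.card B * B.relIndex A := by rw [e2, e1]
    _ = Nat.card (A ⊓ B : Subgroup G) * A.relIndex B * B.relIndex A := by rw [e4]
    _ = Nat.card (A ⊓ B : Subgroup G) * B.relIndex A * A.relIndex B := by ring

theorem mem_smul_sylow {G : Type*} [Group G] {p : ℕ} (g x : G) (Q : Sylow p G) :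
    x ∈ ((g • Q : Sylow p G) : Subgroup G) ↔ g⁻¹ * x * g ∈ (Q : Subgroup G) := by
  rw [Sylow.coe_subgroup_smul, Subgroup.mem_pointwise_smul_iff_inv_smul_mem, MulAut.smul_def,
    ← map_inv, MulAut.conj_apply, inv_inv]

theorem mem_normalizer_iff_conj_smul {G : Type*} [Group G] {H : Subgroup G} {g : G} :
    g ∈ normalizer (H : Set G) ↔ MulAut.conj g • H = H := by
  constructor
  · intro hg
    ext x
    rw [Subgroup.mem_pointwise_smul_iff_inv_smul_mem, MulAut.smul_def, ← map_inv,
      MulAut.conj_apply, inv_inv]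
    have := Subgroup.mem_normalizer_iff.mp (inv_mem hg) x
    rw [inv_inv] at this
    exact this.symm
  · intro h
    rw [Subgroup.mem_normalizer_iff]
    intro x
    conv_rhs => rw [← h]
    rw [Subgroup.mem_pointwise_smul_iff_inv_smul_mem, MulAut.smul_def, ← map_inv,
      MulAut.conj_apply, inv_inv]
    have : g⁻¹ * (g * x * g⁻¹) * g = x := by group
    rw [this]

/-- `n_p(G/K) = [G : N_G(PK)]`. -/
theorem card_sylow_quotient_eq_index {G : Type*} [Group G] [Finite G] (p : ℕ) [Fact p.Prime]
    (K : Subgroup G) [K.Normal] (P : Sylow p G) :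
    Nat.card (Sylow p (G ⧸ K)) =
      (normalizer (((P : Subgroup G) ⊔ K : Subgroup G) : Set G)).index := by
  have hf : Function.Surjective (QuotientGroup.mk' K) := QuotientGroup.mk'_surjective K
  rw [Sylow.card_eq_index_normalizer (Sylow.mapSurjective hf P)]
  have h1 : normalizer ((Sylow.mapSurjective hf P : Sylow p (G ⧸ K)) : Set (G ⧸ K)) =
      normalizer (((P : Subgroup G).map (QuotientGroup.mk' K) : Subgroup (G ⧸ K)) : Set (G ⧸ K)) := by
    rw [← Sylow.coe_mapSurjective hf P]
    rfl
  rw [h1, ← Subgroup.index_comap_of_surjective _ hf, Subgroup.comap_normalizer_eq_of_surjective _ hf,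
    Subgroup.comap_map_eq, QuotientGroup.ker_mk']

/-- `n_p(H) = [H : N_H(P)]` for a Sylow subgroup `P ≤ H`. -/
theorem card_sylow_subgroup_eq_relIndex {G : Type*} [Group G] [Finite G] (p : ℕ) [Fact p.Prime]
    (H : Subgroup G) (P : Sylow p G) (hP : (P : Subgroup G) ≤ H) :
    Nat.card (Sylow p H) = (normalizer ((P : Subgroup G) : Set G)).relIndex H := by
  rw [Sylow.card_eq_index_normalizer (P.subtype hP)]
  have h1 : normalizer ((P.subtype hP : Sylow p H) : Set H) =
      normalizer ((((P : Subgroup G).subgroupOf H) : Subgroup H) : Set H) := by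
    rw [← Sylow.coe_subtype]
    rfl
  rw [h1, ← Subgroup.subgroupOf_normalizer_eq hP]
  rfl

/-- Frattini argument, relative form. -/
theorem normalizer_le_sup {G : Type*} [Group G] [Finite G] (p : ℕ) [Fact p.Prime]
    (L : Subgroup G) (P : Sylow p G) (hP : (P : Subgroup G) ≤ L) :
    normalizer (L : Set G) ≤ normalizer ((P : Subgroup G) : Set G) ⊔ L := by
  intro g hg
  have hQ : ((g • P : Sylow p G) : Subgroup G) ≤ L := by
    intro x hx
    rw [mem_smul_sylow] at hx
    have h1 : g⁻¹ * x * g ∈ L := hP hx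
    have h2 := (Subgroup.mem_normalizer_iff.mp hg (g⁻¹ * x * g)).mp h1
    have h3 : g * (g⁻¹ * x * g) * g⁻¹ = x := by group
    rwa [h3] at h2
  obtain ⟨l, hl⟩ := MulAction.exists_smul_eq L (P.subtype hP) ((g • P).subtype hQ)
  rw [Sylow.smul_subtype] at hl
  have hl' : (l : G) • P = g • P := Sylow.subtype_injective hl
  have h3 : ((l : G)⁻¹ * g) • P = P := by rw [mul_smul, ← hl', inv_smul_smul]
  have h4 : (l : G)⁻¹ * g ∈ normalizer ((P : Subgroup G) : Set G) :=
    Sylow.smul_eq_iff_mem_normalizer.mp h3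
  have h5 : g = (l : G) * ((l : G)⁻¹ * g) := by group
  rw [h5]
  exact Subgroup.mul_mem _ (Subgroup.mem_sup_right l.2) (Subgroup.mem_sup_left h4)

/-- `n_p(K) = [K : N_K(P ∩ K)]` for `K` normal. -/
theorem card_sylow_normal_eq_relIndex {G : Type*} [Group G] [Finite G] (p : ℕ) [Fact p.Prime]
    (K : Subgroup G) [K.Normal] (P : Sylow p G) :
    Nat.card (Sylow p K) =
      (normalizer (((P : Subgroup G) ⊓ K : Subgroup G) : Set G)).relIndex K := by
  have hp1 : IsPGroup p (((P : Subgroup G) ⊓ K).subgroupOf K) :=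
    IsPGroup.comap_subtype (P.2.to_le inf_le_left)
  have hidx : ¬ p ∣ (((P : Subgroup G) ⊓ K).subgroupOf K).index := by
    have h1 : (((P : Subgroup G) ⊓ K).subgroupOf K).index = ((P : Subgroup G) ⊓ K).relIndex K := rfl
    rw [h1, Subgroup.inf_relIndex_right,
      ← relIndex_sup_of_le_normalizer' (P : Subgroup G) K Subgroup.le_normalizer_of_normal]
    intro h
    exact P.not_dvd_index (h.trans (Dvd.intro _ (Subgroup.relIndex_mul_index le_sup_left)))
  rw [Sylow.card_eq_index_normalizer (hp1.toSylow hidx)]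
  have h1 : normalizer ((hp1.toSylow hidx : Sylow p K) : Set K) =
      normalizer ((((P : Subgroup G) ⊓ K).subgroupOf K : Subgroup K) : Set K) := rfl
  rw [h1, ← Subgroup.subgroupOf_normalizer_eq inf_le_right]
  rfl

/-- Let K be a normal subgroup of a finite group G, p a prime and P a Sylow p-subgroup of G; let N be the normalizer of P ∩ K inside the subgroup PK. Then the number of Sylow p-subgroups of G equals the product of the numbers of Sylow p-subgroups of G/K, of K, and of N/(P ∩ K). (The normality of P ∩ K in N, which always holds, is assumed as a hypothesis so that the quotient can be formed.) -/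
theorem result {G : Type*} [Group G] [Finite G]
    (p : ℕ) [Fact p.Prime] (K : Subgroup G) [K.Normal] (P : Sylow p G) (N : Subgroup G)
    (hN : N = ((P : Subgroup G) ⊔ K) ⊓ Subgroup.normalizer (((P : Subgroup G) ⊓ K : Subgroup G) : Set G))
    [hn : (((P : Subgroup G) ⊓ K).subgroupOf N).Normal] :
    Nat.card (Sylow p G) =
      Nat.card (Sylow p (G ⧸ K)) * Nat.card (Sylow p K) * Nat.card (Sylow p (N ⧸ ((P : Subgroup G) ⊓ K).subgroupOf N)) := by
  have hPL : (P : Subgroup G) ≤ (P : Subgroup G) ⊔ K := le_sup_left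
  have hKL : K ≤ (P : Subgroup G) ⊔ K := le_sup_right
  have hNL : N ≤ (P : Subgroup G) ⊔ K := by rw [hN]; exact inf_le_left
  have hNP_ND : normalizer ((P : Subgroup G) : Set G) ≤
      normalizer (((P : Subgroup G) ⊓ K : Subgroup G) : Set G) := by
    intro g hg
    rw [mem_normalizer_iff_conj_smul] at hg ⊢
    rw [Subgroup.smul_inf, hg, Subgroup.Normal.conj_smul_eq_self]
  have hNP_NL : normalizer ((P : Subgroup G) : Set G) ≤
      normalizer (((P : Subgroup G) ⊔ K : Subgroup G) : Set G) := by
    intro g hg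
    rw [mem_normalizer_iff_conj_smul] at hg ⊢
    rw [Subgroup.smul_sup, hg, Subgroup.Normal.conj_smul_eq_self]
  have hPN : (P : Subgroup G) ≤ N := by
    rw [hN]
    exact le_inf hPL (Subgroup.le_normalizer.trans hNP_ND)
  have hFr : normalizer (((P : Subgroup G) ⊔ K : Subgroup G) : Set G) =
      normalizer ((P : Subgroup G) : Set G) ⊔ ((P : Subgroup G) ⊔ K) :=
    le_antisymm (normalizer_le_sup p _ P hPL) (sup_le hNP_NL le_normalizer)
  have s0 : (normalizer ((P : Subgroup G) : Set G)).relIndex
      (normalizer (((P : Subgroup G) ⊔ K : Subgroup G) : Set G)) =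
      (normalizer ((P : Subgroup G) : Set G)).relIndex ((P : Subgroup G) ⊔ K) := by
    rw [hFr]
    exact relIndex_sup_of_le_normalizer' _ _ hNP_NL
  have s1 : Nat.card (Sylow p G) = (normalizer ((P : Subgroup G) : Set G)).relIndex
      ((P : Subgroup G) ⊔ K) * Nat.card (Sylow p (G ⧸ K)) := by
    rw [Sylow.card_eq_index_normalizer P, card_sylow_quotient_eq_index p K P, ← s0]
    exact (Subgroup.relIndex_mul_index hNP_NL).symm
  have hle1 : normalizer ((P : Subgroup G) : Set G) ⊓ ((P : Subgroup G) ⊔ K) ≤ N := by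
    rw [hN]
    exact le_inf inf_le_right (inf_le_left.trans hNP_ND)
  have s2 : (normalizer ((P : Subgroup G) : Set G)).relIndex ((P : Subgroup G) ⊔ K) =
      (normalizer ((P : Subgroup G) : Set G)).relIndex N * N.relIndex ((P : Subgroup G) ⊔ K) := by
    have h1 := Subgroup.relIndex_mul_relIndex _ N _ hle1 hNL
    rw [Subgroup.inf_relIndex_right] at h1
    have h2 : (normalizer ((P : Subgroup G) : Set G) ⊓ ((P : Subgroup G) ⊔ K)).relIndex N =
        (normalizer ((P : Subgroup G) : Set G)).relIndex N := by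
      rw [← Subgroup.inf_relIndex_right (normalizer ((P : Subgroup G) : Set G) ⊓ ((P : Subgroup G) ⊔ K)) N,
        ← Subgroup.inf_relIndex_right (normalizer ((P : Subgroup G) : Set G)) N]
      congr 1
      rw [inf_assoc, inf_eq_right.mpr hNL]
    rw [h2] at h1
    exact h1.symm
  have s3 : Nat.card (Sylow p (N ⧸ ((P : Subgroup G) ⊓ K).subgroupOf N)) =
      (normalizer ((P : Subgroup G) : Set G)).relIndex N := by
    have hDP : ((P : Subgroup G) ⊓ K).subgroupOf N ≤ ((P.subtype hPN : Sylow p N) : Subgroup N) := by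
      rw [Sylow.coe_subtype]
      intro x hx
      exact (Subgroup.mem_subgroupOf.mp hx).1
    rw [card_sylow_quotient_eq_index p _ (P.subtype hPN), sup_eq_left.mpr hDP]
    have := Sylow.card_eq_index_normalizer (P.subtype hPN)
    rw [card_sylow_subgroup_eq_relIndex p N P hPN] at this
    exact this.symm
  have s4 : N.relIndex ((P : Subgroup G) ⊔ K) = Nat.card (Sylow p K) := by
    have h1 : N ⊔ K = (P : Subgroup G) ⊔ K :=
      le_antisymm (sup_le hNL hKL) (sup_le (hPN.trans le_sup_left) le_sup_right)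
    have h2 := relIndex_sup_of_le_normalizer' N K Subgroup.le_normalizer_of_normal
    rw [h1] at h2
    have h3 : N.relIndex K =
        (normalizer (((P : Subgroup G) ⊓ K : Subgroup G) : Set G)).relIndex K := by
      rw [← Subgroup.inf_relIndex_right N K,
        ← Subgroup.inf_relIndex_right (normalizer (((P : Subgroup G) ⊓ K : Subgroup G) : Set G)) K]
      congr 1
      rw [hN, inf_comm ((P : Subgroup G) ⊔ K), inf_assoc, inf_eq_right.mpr hKL]
    rw [h2, h3, card_sylow_normal_eq_relIndex p K P]
  rw [s1, s2, s3, s4]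
  ring

end Cfsg.Agent.S4341
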