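import Cfsg.Statements.S4337
import Cfsg.Agent.S0061
import Cfsg.Agent.S4341
import Mathlib

set_option autoImplicit false
open Cfsg

namespace Cfsg.Agent.S4337

open Equiv

/-- A subgroup generated by permutations supported in `T` has order dividing `|T|!`. -/
theorem card_closure_dvd_factorial {n : ℕ} (T : Finset (Fin n)) (S : Set (Perm (Fin n)))
    (hS : ∀ σ ∈ S, σ.support ⊆ T) : Nat.card (Subgroup.closure S) ∣ (T.card).factorial := by
  classical
  have hle : Subgroup.closure S ≤
      (Perm.ofSubtype : Perm {x // x ∈ T} →* Perm (Fin n)).range := by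
    rw [Subgroup.closure_le]
    intro σ hσ
    have h1 : ∀ x, σ x ∈ T ↔ x ∈ T := by
      intro x
      by_cases hx : x ∈ σ.support
      · have h2 : σ x ∈ σ.support := Perm.apply_mem_support.mpr hx
        exact ⟨fun _ => hS σ hσ hx, fun _ => hS σ hσ h2⟩
      · rw [Perm.notMem_support] at hx
        rw [hx]
    refine ⟨σ.subtypePerm h1, ?_⟩
    exact Perm.ofSubtype_subtypePerm h1 (fun x hx => hS σ hσ (Perm.mem_support.mpr hx))
  have hcard : Nat.card (Perm.ofSubtype : Perm {x // x ∈ T} →* Perm (Fin n)).range =
      (T.card).factorial := by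
    rw [← Nat.card_congr (MonoidHom.ofInjective
      (Perm.ofSubtype_injective (p := fun x => x ∈ T))).toEquiv,
      Nat.card_eq_fintype_card, Fintype.card_perm, Fintype.card_coe]
  rw [← hcard]
  exact Subgroup.card_dvd_of_le hle

theorem card_dvd_of_path {n : ℕ} (a b c : Perm (Fin n))
    (ha : a.IsSwap) (hb : b.IsSwap) (hc : c.IsSwap)
    (hab : ¬ Disjoint a.support b.support) (hbc : ¬ Disjoint b.support c.support) :
    Nat.card (Subgroup.closure ({a, b, c} : Set (Perm (Fin n)))) ∣ 48 := by
  have h1 := card_closure_dvd_factorial (a.support ∪ b.support ∪ c.support) {a, b, c} (by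
    intro σ hσ
    rcases hσ with rfl | rfl | rfl
    · exact Finset.subset_union_left.trans Finset.subset_union_left
    · exact Finset.subset_union_right.trans Finset.subset_union_left
    · exact Finset.subset_union_right)
  have ca := Perm.card_support_eq_two.mpr ha
  have cb := Perm.card_support_eq_two.mpr hb
  have cc := Perm.card_support_eq_two.mpr hc
  have e1 := Finset.card_union_add_card_inter a.support b.support
  have e2 := Finset.card_union_add_card_inter (a.support ∪ b.support) c.support
  have p1 : 0 < (a.support ∩ b.support).card :=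
    Finset.card_pos.mpr (Finset.not_disjoint_iff_nonempty_inter.mp hab)
  have p2 : 0 < ((a.support ∪ b.support) ∩ c.support).card := by
    apply Finset.card_pos.mpr
    obtain ⟨x, hx⟩ := Finset.not_disjoint_iff_nonempty_inter.mp hbc
    rw [Finset.mem_inter] at hx
    exact ⟨x, Finset.mem_inter.mpr ⟨Finset.mem_union_right _ hx.1, hx.2⟩⟩
  have hle : (a.support ∪ b.support ∪ c.support).card ≤ 4 := by omega
  exact h1.trans ((Nat.factorial_dvd_factorial hle).trans (by decide))

theorem card_dvd_of_isolated {n : ℕ} (a b c : Perm (Fin n))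
    (ha : a.IsSwap) (hb : b.IsSwap) (hc : c.IsSwap)
    (hca : Disjoint c.support a.support) (hcb : Disjoint c.support b.support) :
    Nat.card (Subgroup.closure ({a, b, c} : Set (Perm (Fin n)))) ∣ 48 := by
  have h1 := card_closure_dvd_factorial (a.support ∪ b.support) {a, b} (by
    intro σ hσ
    rcases hσ with rfl | rfl
    · exact Finset.subset_union_left
    · exact Finset.subset_union_right)
  have ca := Perm.card_support_eq_two.mpr ha
  have cb := Perm.card_support_eq_two.mpr hb
  have hle : (a.support ∪ b.support).card ≤ 4 := by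
    have := Finset.card_union_le a.support b.support
    omega
  have hD : Nat.card (Subgroup.closure ({a, b} : Set (Perm (Fin n)))) ∣ 24 :=
    h1.trans ((Nat.factorial_dvd_factorial hle).trans (by decide))
  have hZ : Nat.card (Subgroup.zpowers c) = 2 := by
    rw [Nat.card_zpowers, hc.orderOf]
  have hcomm_a : Commute c a := (Perm.disjoint_iff_disjoint_support.mpr hca).commute
  have hcomm_b : Commute c b := (Perm.disjoint_iff_disjoint_support.mpr hcb).commute
  have hnorm : Subgroup.closure ({a, b} : Set (Perm (Fin n))) ≤
      Subgroup.normalizer ((Subgroup.zpowers c : Subgroup (Perm (Fin n))) : Set (Perm (Fin n))) := by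
    refine le_trans ?_ (Subgroup.centralizer_le_normalizer _)
    rw [Subgroup.closure_le]
    intro σ hσ
    rw [SetLike.mem_coe, Subgroup.mem_centralizer_iff]
    intro h hh
    obtain ⟨k, rfl⟩ := Subgroup.mem_zpowers_iff.mp hh
    rcases hσ with rfl | rfl
    · exact (hcomm_a.zpow_left k).eq
    · exact (hcomm_b.zpow_left k).eq
  have hsup : Subgroup.closure ({a, b, c} : Set (Perm (Fin n))) ≤
      Subgroup.closure ({a, b} : Set (Perm (Fin n))) ⊔ Subgroup.zpowers c := by
    rw [Subgroup.closure_le]
    intro σ hσ
    rcases hσ with rfl | rfl | rfl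
    · exact Subgroup.mem_sup_left (Subgroup.subset_closure (by simp))
    · exact Subgroup.mem_sup_left (Subgroup.subset_closure (by simp))
    · exact Subgroup.mem_sup_right (Subgroup.mem_zpowers _)
  have h2 := Cfsg.Agent.S4341.relIndex_sup_of_le_normalizer _ _ hnorm
  have h3 := Cfsg.Agent.S4341.card_mul_relIndex_of_le
    (le_sup_right : Subgroup.zpowers c ≤
      Subgroup.closure ({a, b} : Set (Perm (Fin n))) ⊔ Subgroup.zpowers c)
  rw [h2, hZ] at h3
  have h4 : (Subgroup.zpowers c).relIndex (Subgroup.closure ({a, b} : Set (Perm (Fin n)))) ∣ 24 :=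
    (Subgroup.relIndex_dvd_card _ _).trans hD
  have h5 : Nat.card (Subgroup.closure ({a, b} : Set (Perm (Fin n))) ⊔ Subgroup.zpowers c :
      Subgroup (Perm (Fin n))) ∣ 48 := by
    rw [← h3]
    exact Nat.mul_dvd_mul (dvd_refl 2) h4
  exact (Subgroup.card_dvd_of_le hsup).trans h5

theorem card_dvd {n : ℕ} (a b c : Perm (Fin n))
    (ha : a.IsSwap) (hb : b.IsSwap) (hc : c.IsSwap) :
    Nat.card (Subgroup.closure ({a, b, c} : Set (Perm (Fin n)))) ∣ 48 := by
  have e1 : ({b, a, c} : Set (Perm (Fin n))) = {a, b, c} := Set.insert_comm _ _ _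
  have e2 : ({a, c, b} : Set (Perm (Fin n))) = {a, b, c} := by rw [Set.pair_comm c b]
  have e3 : ({b, c, a} : Set (Perm (Fin n))) = {a, b, c} := by
    rw [Set.pair_comm c a, Set.insert_comm]
  by_cases h1 : Disjoint a.support b.support
  · by_cases h2 : Disjoint b.support c.support
    · -- b isolated
      rw [← e2]
      exact card_dvd_of_isolated a c b ha hc hb h1.symm h2
    · by_cases h3 : Disjoint a.support c.support
      · -- a isolated
        rw [← e3]
        exact card_dvd_of_isolated b c a hb hc ha h1 h3
      · -- path a - c - b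
        rw [← e2]
        exact card_dvd_of_path a c b ha hc hb h3 (fun h => h2 h.symm)
  · by_cases h2 : Disjoint b.support c.support
    · by_cases h3 : Disjoint a.support c.support
      · -- c isolated
        exact card_dvd_of_isolated a b c ha hb hc h3.symm h2.symm
      · -- path b - a - c
        rw [← e1]
        exact card_dvd_of_path b a c hb ha hc (fun h => h1 h.symm) h3
    · exact card_dvd_of_path a b c ha hb hc h1 h2

/-- In a finite symmetric group, any three transpositions generate a solvable subgroup. -/
theorem result (n : ℕ) (a b c : Equiv.Perm (Fin n))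
    (ha : a.IsSwap) (hb : b.IsSwap) (hc : c.IsSwap) :
    Group.IsSolvable (Subgroup.closure ({a, b, c} : Set (Equiv.Perm (Fin n)))) := by
  have h := card_dvd a b c ha hb hc
  exact Cfsg.Agent.S0061.aux _ _ rfl ⟨2, 3, 4, Nat.prime_two, Nat.prime_three, by simpa using h⟩

end Cfsg.Agent.S4337
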