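import Cfsg.Statements.S4348

set_option autoImplicit false
open Cfsg

namespace Cfsg.Agent.S4348

theorem mem_smul_sylow {G : Type*} [Group G] {p : ℕ} (g x : G) (P : Sylow p G) :
    x ∈ (g • P : Sylow p G) ↔ g⁻¹ * x * g ∈ P := by
  rw [← SetLike.mem_coe, Sylow.coe_smul, Set.mem_smul_set_iff_inv_smul_mem]
  simp [MulAut.smul_def]

theorem pCore_le_sylow {G : Type*} [Group G] [Finite G] (p : ℕ) [Fact p.Prime]
    (Q : Sylow p G) : Cfsg.pCore p G ≤ (Q : Subgroup G) := by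
  unfold Cfsg.pCore
  apply sSup_le
  rintro N ⟨hN, hpN⟩
  obtain ⟨Q₀, hQ₀⟩ := hpN.exists_le_sylow
  obtain ⟨g, rfl⟩ := MulAction.exists_smul_eq G Q₀ Q
  intro x hx
  show x ∈ (g • Q₀ : Sylow p G)
  rw [mem_smul_sylow]
  apply hQ₀
  have := hN.conj_mem x hx g⁻¹
  simpa using this

/-- Let G be a finite group, p a prime and P a Sylow p-subgroup of G, and let O_p(G) be the largest normal p-subgroup of G. If P/O_p(G) is cyclic, then some element of p-power order of G lies in exactly one Sylow p-subgroup. -/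
theorem result {G : Type*} [Group G] [Finite G]
    (p : ℕ) [Fact p.Prime] (P : Sylow p G)
    [hn : ((Cfsg.pCore p G).subgroupOf (P : Subgroup G)).Normal]
    (hc : IsCyclic ((P : Subgroup G) ⧸ (Cfsg.pCore p G).subgroupOf (P : Subgroup G))) :
    ∃ x : G, (∃ k : ℕ, orderOf x = p ^ k) ∧ ∃! Q : Sylow p G, x ∈ Q := by
  classical
  obtain ⟨g₀, hg₀⟩ := hc.exists_generator
  obtain ⟨x₀, rfl⟩ := QuotientGroup.mk_surjective g₀
  refine ⟨(x₀ : G), ?_, P, x₀.2, ?_⟩
  · obtain ⟨k, hk⟩ := (IsPGroup.iff_orderOf.mp P.2) x₀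
    exact ⟨k, by rw [Subgroup.orderOf_coe, hk]⟩
  · intro Q hQ
    have hPQ : (P : Subgroup G) ≤ Q := by
      intro y hy
      obtain ⟨k, hk⟩ := Subgroup.mem_zpowers_iff.mp (hg₀ (QuotientGroup.mk ⟨y, hy⟩))
      rw [← QuotientGroup.mk_zpow, QuotientGroup.eq, Subgroup.mem_subgroupOf] at hk
      have h1 : ((x₀ ^ k)⁻¹ * (⟨y, hy⟩ : (P : Subgroup G)) : G) ∈ (Q : Subgroup G) :=
        pCore_le_sylow p Q hk
      have h2 : ((x₀ : G) ^ k) ∈ (Q : Subgroup G) := zpow_mem hQ k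
      have h3 := mul_mem h2 h1
      simpa using h3
    exact Sylow.ext (P.is_maximal' Q.2 hPQ)

end Cfsg.Agent.S4348
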