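import Cfsg.Statements.S4357
import Mathlib
import Cfsg.Agent.Lib.Helper54.SL2Red
import Cfsg.Agent.S0261

set_option autoImplicit false
open Cfsg
open Cfsg.Agent.Lib.Helper54

namespace Cfsg.Agent.S4357

/-- Let F be a finite field with q elements, p a prime and G = SL(2, F). Say a Sylow p-subgroup Q of G is redundant when every element of p-power order lies in some Sylow p-subgroup other than Q. Then G has a redundant Sylow p-subgroup if and only if p = 2 and q is not of any of the forms 2ᵏ - 1, 2ᵏ, 2ᵏ + 1. -/
theorem result {F : Type*} [Field F] [Fintype F] (p : ℕ) [Fact p.Prime] :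
    (∃ Q : Sylow p (Matrix.SpecialLinearGroup (Fin 2) F), ∀ x : Matrix.SpecialLinearGroup (Fin 2) F,
        (∃ k : ℕ, orderOf x = p ^ k) → ∃ P : Sylow p (Matrix.SpecialLinearGroup (Fin 2) F), P ≠ Q ∧ x ∈ P) ↔
      (p = 2 ∧ (¬ ∃ k : ℕ, Fintype.card F + 1 = 2 ^ k) ∧ (¬ ∃ k : ℕ, Fintype.card F = 2 ^ k) ∧
        ¬ ∃ k : ℕ, Fintype.card F = 2 ^ k + 1) := by
  classical
  have hq1 : 1 < Fintype.card F := Fintype.one_lt_card
  constructor
  · rintro ⟨Q, hQ⟩
    by_cases hp : p = 2
    · subst hp
      rcases Nat.even_or_odd (Fintype.card F) with heven | hodd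
      · exfalso
        have hchar : ringChar F = 2 :=
          FiniteField.even_card_iff_char_two.mpr (Nat.even_iff.mp heven)
        have h2 : (2 : F) = 0 := by
          have h0 := ringChar.Nat.cast_ringChar (R := F)
          rw [hchar] at h0
          exact_mod_cast h0
        exact no_redundant_of_nonscalar 2 (fun x hx1 _ => nonscalar_of_char_two h2 x hx1) Q hQ
      · have : Fact (ringChar F).Prime := ⟨CharP.prime_ringChar F⟩
        have hp2 : ringChar F ≠ 2 := by
          intro h2
          have h3 := FiniteField.even_card_of_char_two h2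
          obtain ⟨j, hj⟩ := hodd
          omega
        obtain ⟨k, hk, ⟨e⟩⟩ := Cfsg.Agent.S0261.result hodd Q
        obtain ⟨c, y, h⟩ :=
          exists_QSyl (Q : Subgroup (Matrix.SpecialLinearGroup (Fin 2) F)) k hk e
        have hcardQ : Nat.card (Q : Subgroup (Matrix.SpecialLinearGroup (Fin 2) F)) =
            4 * 2 ^ k := by
          rw [Nat.card_congr e.toEquiv, Nat.card_eq_fintype_card, QuaternionGroup.card]
        have hnp := h.centralizer_not_pow_two (ringChar F) hp2 hcardQ ⟨k, rfl⟩ hQ
        have h2F : (2 : F) ≠ 0 := two_ne_zero_of_char (ringChar F) hp2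
        have htr := trace_sq_ne_of_two_elt (ringChar F) hp2 c (k + 1)
          (by rw [h.ord, pow_succ']) h.cc_ne
        have hcard := card_centralizer_singleton h2F c htr
        have hdvd : 2 * 2 ^ k ∣ Nat.card (Subgroup.centralizer
            ({c} : Set (Matrix.SpecialLinearGroup (Fin 2) F))) := by
          have h0 := Subgroup.card_dvd_of_le (QSyl.zpowers_le_centralizer c)
          rwa [Nat.card_zpowers, h.ord] at h0
        have h4 : 4 ∣ Nat.card (Subgroup.centralizer
            ({c} : Set (Matrix.SpecialLinearGroup (Fin 2) F))) := by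
          refine dvd_trans ?_ hdvd
          obtain ⟨i, rfl⟩ : ∃ i, k = i + 1 := ⟨k - 1, by omega⟩
          exact ⟨2 ^ i, by ring⟩
        obtain ⟨m, hm⟩ := hodd
        refine ⟨rfl, ?_, ?_, ?_⟩
        · rintro ⟨j, hj⟩
          rcases hcard with h5 | h5
          · rw [h5] at h4
            rcases j with _ | _ | j
            · simp at hj
            · simp at hj; omega
            · have h6 : 4 ∣ Fintype.card F + 1 := ⟨2 ^ j, by rw [hj]; ring⟩
              omega
          · exact hnp j (h5.trans hj)
        · rintro ⟨j, hj⟩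
          rcases j with _ | j
          · simp at hj; omega
          · have h6 : 2 ∣ Fintype.card F := ⟨2 ^ j, by rw [hj]; ring⟩
            omega
        · rintro ⟨j, hj⟩
          rcases hcard with h5 | h5
          · exact hnp j (by rw [h5, hj]; simp)
          · rw [h5] at h4
            rcases j with _ | _ | j
            · simp at hj; omega
            · exact hnp 2 (by rw [h5, hj]; norm_num)
            · have h6 : 4 ∣ Fintype.card F - 1 := ⟨2 ^ j, by rw [hj]; simp; ring⟩
              omega
    · exfalso
      exact no_redundant_of_nonscalar p (fun x hx1 hxo => nonscalar_of_odd p hp x hx1 hxo) Q hQ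
  · rintro ⟨rfl, h1, h2, h3⟩
    have hodd : Odd (Fintype.card F) := by
      rcases Nat.even_or_odd (Fintype.card F) with heven | hodd
      · exfalso
        have hchar : ringChar F = 2 :=
          FiniteField.even_card_iff_char_two.mpr (Nat.even_iff.mp heven)
        obtain ⟨n, -, hn⟩ := FiniteField.card F (ringChar F)
        rw [hchar] at hn
        exact h2 ⟨n, hn⟩
      · exact hodd
    have : Fact (ringChar F).Prime := ⟨CharP.prime_ringChar F⟩
    have hp2 : ringChar F ≠ 2 := by
      intro h2
      have h3 := FiniteField.even_card_of_char_two h2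
      obtain ⟨j, hj⟩ := hodd
      omega
    obtain ⟨Q⟩ : Nonempty (Sylow 2 (Matrix.SpecialLinearGroup (Fin 2) F)) := inferInstance
    refine ⟨Q, ?_⟩
    obtain ⟨k, hk, ⟨e⟩⟩ := Cfsg.Agent.S0261.result hodd Q
    obtain ⟨c, y, h⟩ :=
      exists_QSyl (Q : Subgroup (Matrix.SpecialLinearGroup (Fin 2) F)) k hk e
    have hcardQ : Nat.card (Q : Subgroup (Matrix.SpecialLinearGroup (Fin 2) F)) =
        4 * 2 ^ k := by
      rw [Nat.card_congr e.toEquiv, Nat.card_eq_fintype_card, QuaternionGroup.card]
    intro x hxo
    exact h.redundant (ringChar F) hp2 hcardQ ⟨k, rfl⟩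
      (by rintro ⟨j, hj⟩; exact h3 ⟨j, by omega⟩) h1 x hxo

end Cfsg.Agent.S4357
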