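import Cfsg.Statements.S4358

/-!
# S4358: `GL_p(q)` has a redundant Sylow `p`-subgroup when `p ∥ q - 1`, `p` odd

`Q = μ_p ≀ C_p` (monomial matrices with entries `p`-th roots of unity and cyclic permutation
part) has order `p^(p+1) = |GL_p(q)|_p` (lifting the exponent).  Every `x ∈ Q` lies in a
conjugate `g Q g⁻¹ ≠ Q`:
* `x` diagonal with two equal entries: `g` a transvection centralising `x`;
* `x` diagonal with distinct entries: `g` the inverse of a Vandermonde matrix (it conjugates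
  `x` to the shift);
* `x` not diagonal, `x ^ p = 1`: `x` is conjugate to a diagonal matrix by a diagonal matrix
  times the Fourier matrix;
* `x` not diagonal, `x ^ p ≠ 1`: `g = 1 + x`.
-/

set_option autoImplicit false
set_option linter.unusedSectionVars false
open Cfsg

namespace Cfsg.Agent.S4358

open Matrix



/-- Abstract criterion for a redundant Sylow subgroup. -/
theorem red_of_sub {G : Type*} [Group G] [Finite G] (p : ℕ) [Fact p.Prime] (Q₀ : Subgroup G)
    (hcard : Nat.card Q₀ = p ^ (Nat.card G).factorization p)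
    (h : ∀ x ∈ Q₀, ∃ g : G, g⁻¹ * x * g ∈ Q₀ ∧ ∃ y ∈ Q₀, g * y * g⁻¹ ∉ Q₀) :
    ∃ Q : Sylow p G, ∀ x : G, (∃ k : ℕ, orderOf x = p ^ k) →
      ∃ P : Sylow p G, P ≠ Q ∧ x ∈ P := by
  refine ⟨Sylow.ofCard Q₀ hcard, ?_⟩
  intro x hx
  by_cases hxQ : x ∈ Q₀
  · obtain ⟨g, hg, y, hy, hny⟩ := h x hxQ
    refine ⟨g • Sylow.ofCard Q₀ hcard, ?_, ?_⟩
    · intro heq
      apply hny
      have h1 : g * y * g⁻¹ ∈ ((g • Sylow.ofCard Q₀ hcard : Sylow p G) : Subgroup G) := by
        rw [Sylow.coe_subgroup_smul, Subgroup.mem_pointwise_smul_iff_inv_smul_mem]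
        rw [Sylow.coe_ofCard]
        have : (MulAut.conj g)⁻¹ • (g * y * g⁻¹) = y := by
          rw [MulAut.smul_def, ← map_inv, MulAut.conj_apply]
          group
        rw [this]
        exact hy
      rw [heq, Sylow.coe_ofCard] at h1
      exact h1
    · show x ∈ ((g • Sylow.ofCard Q₀ hcard : Sylow p G) : Subgroup G)
      rw [Sylow.coe_subgroup_smul, Subgroup.mem_pointwise_smul_iff_inv_smul_mem, Sylow.coe_ofCard]
      have : (MulAut.conj g)⁻¹ • x = g⁻¹ * x * g := by
        rw [MulAut.smul_def, ← map_inv, MulAut.conj_apply, inv_inv]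
      rw [this]
      exact hg
  · obtain ⟨k, hk⟩ := hx
    have hpg : IsPGroup p (Subgroup.zpowers x) := by
      apply IsPGroup.of_card (n := k)
      rw [Nat.card_zpowers, hk]
    obtain ⟨P, hP⟩ := hpg.exists_le_sylow
    refine ⟨P, ?_, hP (Subgroup.mem_zpowers x)⟩
    intro heq
    apply hxQ
    have h1 : x ∈ (P : Subgroup G) := hP (Subgroup.mem_zpowers x)
    rw [heq, Sylow.coe_ofCard] at h1
    exact h1

/-- Transfer of the hypothesis of `red_of_sub` along an isomorphism. -/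
theorem red_of_sub_equiv {G H : Type*} [Group G] [Group H] [Finite H] (e : G ≃* H) (p : ℕ)
    [Fact p.Prime] (Q₀ : Subgroup G)
    (hcard : Nat.card Q₀ = p ^ (Nat.card H).factorization p)
    (h : ∀ x ∈ Q₀, ∃ g : G, g⁻¹ * x * g ∈ Q₀ ∧ ∃ y ∈ Q₀, g * y * g⁻¹ ∉ Q₀) :
    ∃ Q : Sylow p H, ∀ x : H, (∃ k : ℕ, orderOf x = p ^ k) →
      ∃ P : Sylow p H, P ≠ Q ∧ x ∈ P := by
  apply red_of_sub p (Q₀.map e.toMonoidHom)
  · rw [← hcard]
    exact Nat.card_congr (Q₀.equivMapOfInjective e.toMonoidHom e.injective).symm.toEquiv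
  · rintro _ ⟨x, hx, rfl⟩
    obtain ⟨g, hg, y, hy, hny⟩ := h x hx
    refine ⟨e g, ⟨g⁻¹ * x * g, hg, by simp⟩, e y, ⟨y, hy, rfl⟩, ?_⟩
    rintro ⟨z, hz, hze⟩
    apply hny
    have : z = g * y * g⁻¹ := by
      apply e.injective
      have h2 : e.toMonoidHom z = e z := rfl
      rw [← h2, hze]
      simp
    rw [← this]
    exact hz




section Val

variable {F : Type*} [Field F] [Fintype F] (p : ℕ) [Fact p.Prime]

theorem val_q_sub_one (h1 : p ∣ Fintype.card F - 1) (h2 : ¬ p ^ 2 ∣ Fintype.card F - 1) :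
    padicValNat p (Fintype.card F - 1) = 1 := by
  have hq : 1 < Fintype.card F := Fintype.one_lt_card
  have hne : Fintype.card F - 1 ≠ 0 := by omega
  have e1 := (padicValNat_dvd_iff 1 (Fintype.card F - 1)).mp (by simpa using h1)
  have e2 : ¬ (2 ≤ padicValNat p (Fintype.card F - 1)) := by
    intro h
    exact h2 ((padicValNat_dvd_iff 2 (Fintype.card F - 1)).mpr (Or.inr h))
  rcases e1 with e1 | e1
  · exact absurd e1 hne
  · omega

theorem not_dvd_q (h1 : p ∣ Fintype.card F - 1) : ¬ p ∣ Fintype.card F := by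
  have hp : p.Prime := Fact.out
  have hq : 1 < Fintype.card F := Fintype.one_lt_card
  intro h
  have : p ∣ 1 := by
    have h3 := Nat.dvd_sub h h1
    have h4 : Fintype.card F - (Fintype.card F - 1) = 1 := by omega
    rwa [h4] at h3
  exact hp.one_lt.ne' (Nat.dvd_one.mp this)

theorem fact_term (hp2 : p ≠ 2) (h1 : p ∣ Fintype.card F - 1)
    (h2 : ¬ p ^ 2 ∣ Fintype.card F - 1) (i : ℕ) (hi : i < p) :
    (Fintype.card F ^ p - Fintype.card F ^ i).factorization p = if i = 0 then 2 else 1 := by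
  have hp : p.Prime := Fact.out
  have hodd : Odd p := hp.odd_of_ne_two hp2
  have hq : 1 < Fintype.card F := Fintype.one_lt_card
  have hsplit : Fintype.card F ^ p - Fintype.card F ^ i
      = Fintype.card F ^ i * (Fintype.card F ^ (p - i) - 1) := by
    rw [Nat.mul_sub, mul_one, ← pow_add]
    congr 2
    omega
  have hpos : 1 < Fintype.card F ^ (p - i) := Nat.one_lt_pow (by omega) hq
  rw [hsplit, Nat.factorization_mul (by positivity) (by omega), Nat.factorization_pow]
  simp only [Finsupp.coe_add, Finsupp.coe_smul, Pi.add_apply, Pi.smul_apply, smul_eq_mul]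
  rw [Nat.factorization_eq_zero_of_not_dvd (not_dvd_q p h1), mul_zero, zero_add,
    Nat.factorization_def _ hp]
  have h3 := padicValNat.pow_sub_pow (p := p) (x := Fintype.card F) (y := 1) hodd hq
    (by simpa using h1) (not_dvd_q p h1) (n := p - i) (by omega)
  rw [one_pow, val_q_sub_one p h1 h2] at h3
  rw [h3]
  by_cases hi0 : i = 0
  · subst hi0
    rw [Nat.sub_zero, padicValNat_self, if_pos rfl]
  · rw [if_neg hi0, padicValNat.eq_zero_of_not_dvd]
    intro hd
    have := Nat.le_of_dvd (by omega) hd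
    omega

theorem fact_GL (hp2 : p ≠ 2) (h1 : p ∣ Fintype.card F - 1)
    (h2 : ¬ p ^ 2 ∣ Fintype.card F - 1) :
    (Nat.card (GL (Fin p) F)).factorization p = p + 1 := by
  have hp : p.Prime := Fact.out
  have hq : 1 < Fintype.card F := Fintype.one_lt_card
  rw [Matrix.card_GL_field,
    Fin.prod_univ_eq_prod_range (fun i => Fintype.card F ^ p - Fintype.card F ^ i) p,
    Nat.factorization_prod]
  · rw [Finsupp.finsetSum_apply]
    rw [Finset.sum_congr rfl (fun i hi => fact_term p hp2 h1 h2 i (Finset.mem_range.mp hi))]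
    rw [Finset.sum_ite, Finset.sum_const, Finset.sum_const]
    have hf1 : (Finset.range p).filter (fun i => i = 0) = {0} := by
      ext i
      simp only [Finset.mem_filter, Finset.mem_range, Finset.mem_singleton]
      constructor
      · exact fun h => h.2
      · rintro rfl
        exact ⟨hp.pos, rfl⟩
    have hf2 : ((Finset.range p).filter (fun i => ¬ i = 0)).card = p - 1 := by
      have := Finset.card_filter_add_card_filter_not (s := Finset.range p)
        (fun i => i = 0)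
      rw [hf1, Finset.card_singleton, Finset.card_range] at this
      omega
    rw [hf1, hf2, Finset.card_singleton]
    have := hp.one_lt
    simp only [smul_eq_mul]
    omega
  · intro i hi
    have hi' := Finset.mem_range.mp hi
    have : Fintype.card F ^ i < Fintype.card F ^ p := Nat.pow_lt_pow_right hq hi'
    omega

end Val




section Mono

variable {p : ℕ} [Fact p.Prime] {F : Type*} [Field F]

/-- The monomial matrix with entries `δ i` at the positions `(i, i - k)`. -/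
def mono (δ : ZMod p → F) (k : ZMod p) : Matrix (ZMod p) (ZMod p) F :=
  Matrix.of fun i j => if i = j + k then δ i else 0

theorem mono_apply (δ : ZMod p → F) (k i j : ZMod p) :
    mono δ k i j = if i = j + k then δ i else 0 := rfl

theorem mono_mul_apply (δ : ZMod p → F) (k : ZMod p) (M : Matrix (ZMod p) (ZMod p) F)
    (i j : ZMod p) : (mono δ k * M) i j = δ i * M (i - k) j := by
  rw [Matrix.mul_apply, Finset.sum_eq_single (i - k)]
  · rw [mono_apply, if_pos (by ring)]
  · intro l _ hl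
    rw [mono_apply, if_neg (fun h => hl (by rw [h]; ring)), zero_mul]
  · intro h
    exact absurd (Finset.mem_univ _) h

theorem mul_mono_apply (M : Matrix (ZMod p) (ZMod p) F) (δ : ZMod p → F) (k : ZMod p)
    (i j : ZMod p) : (M * mono δ k) i j = M i (j + k) * δ (j + k) := by
  rw [Matrix.mul_apply, Finset.sum_eq_single (j + k)]
  · rw [mono_apply, if_pos rfl]
  · intro l _ hl
    rw [mono_apply, if_neg hl, mul_zero]
  · intro h
    exact absurd (Finset.mem_univ _) h

theorem mono_mul (δ δ' : ZMod p → F) (k k' : ZMod p) :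
    mono δ k * mono δ' k' = mono (fun i => δ i * δ' (i - k)) (k + k') := by
  ext i l
  rw [mono_mul_apply, mono_apply, mono_apply]
  by_cases h : i - k = l + k'
  · rw [if_pos h, if_pos (by linear_combination h)]
  · rw [if_neg h, if_neg (fun h' => h (by linear_combination h')), mul_zero]

theorem mono_one : mono (fun _ => (1 : F)) (0 : ZMod p) = 1 := by
  ext i j
  rw [mono_apply, Matrix.one_apply, add_zero]

theorem mono_zero_smul (c : F) : mono (fun _ => c) (0 : ZMod p) = c • (1 : Matrix _ _ F) := by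
  ext i j
  rw [mono_apply, Matrix.smul_apply, Matrix.one_apply, add_zero]
  by_cases h : i = j
  · rw [if_pos h, if_pos h, smul_eq_mul, mul_one]
  · rw [if_neg h, if_neg h, smul_zero]

/-- The monomial matrix as an element of `GL`. -/
def monoU (δ : ZMod p → Fˣ) (k : ZMod p) : GL (ZMod p) F :=
  ⟨mono (fun i => (δ i : F)) k, mono (fun i => (((δ (i + k))⁻¹ : Fˣ) : F)) (-k), by
    rw [mono_mul, add_neg_cancel]
    have : (fun i => (δ i : F) * (((δ (i - k + k))⁻¹ : Fˣ) : F)) = fun _ => (1 : F) := by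
      funext i
      rw [sub_add_cancel, Units.mul_inv]
    rw [this, mono_one], by
    rw [mono_mul, neg_add_cancel]
    have : (fun i => (((δ (i + k))⁻¹ : Fˣ) : F) * (δ (i - -k) : F)) = fun _ => (1 : F) := by
      funext i
      rw [sub_neg_eq_add, Units.inv_mul]
    rw [this, mono_one]⟩

theorem coe_monoU (δ : ZMod p → Fˣ) (k : ZMod p) :
    ((monoU δ k : GL (ZMod p) F) : Matrix (ZMod p) (ZMod p) F) = mono (fun i => (δ i : F)) k :=
  rfl

theorem monoU_mul (δ δ' : ZMod p → Fˣ) (k k' : ZMod p) :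
    monoU δ k * monoU δ' k' = monoU (fun i => δ i * δ' (i - k)) (k + k') := by
  apply Units.ext
  rw [Units.val_mul, coe_monoU, coe_monoU, coe_monoU, mono_mul]
  rfl

theorem monoU_one : monoU (fun _ => (1 : Fˣ)) (0 : ZMod p) = 1 := by
  apply Units.ext
  rw [coe_monoU]
  simp only [Units.val_one]
  exact mono_one

theorem monoU_inv (δ : ZMod p → Fˣ) (k : ZMod p) :
    (monoU δ k)⁻¹ = monoU (fun i => (δ (i + k))⁻¹) (-k) := by
  apply inv_eq_of_mul_eq_one_right
  rw [monoU_mul, add_neg_cancel]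
  have : (fun i => δ i * (δ (i - k + k))⁻¹) = fun _ => (1 : Fˣ) := by
    funext i
    rw [sub_add_cancel, mul_inv_cancel]
  rw [this, monoU_one]

theorem monoU_inj {δ δ' : ZMod p → Fˣ} {k k' : ZMod p} (h : monoU δ k = monoU δ' k') :
    k = k' ∧ δ = δ' := by
  have h1 : ∀ i j, mono (fun i => (δ i : F)) k i j = mono (fun i => (δ' i : F)) k' i j := by
    intro i j
    rw [← coe_monoU, ← coe_monoU, h]
  have hk : k = k' := by
    by_contra hne
    have h2 := h1 (0 + k) 0
    rw [mono_apply, mono_apply, if_pos rfl, if_neg (fun h3 => hne (add_left_cancel h3))] at h2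
    exact (δ (0 + k)).ne_zero h2
  refine ⟨hk, ?_⟩
  subst hk
  funext i
  have h2 := h1 i (i - k)
  rw [mono_apply, mono_apply, if_pos (by ring), if_pos (by ring)] at h2
  exact Units.ext h2

variable (p F)

/-- The monomial subgroup `μ_p ≀ C_p`. -/
def Qz : Subgroup (GL (ZMod p) F) where
  carrier := {g | ∃ (δ : ZMod p → Fˣ) (k : ZMod p), (∀ i, δ i ^ p = 1) ∧ g = monoU δ k}
  mul_mem' := by
    rintro _ _ ⟨δ, k, hδ, rfl⟩ ⟨δ', k', hδ', rfl⟩
    exact ⟨_, _, fun i => by rw [mul_pow, hδ, hδ', one_mul], monoU_mul δ δ' k k'⟩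
  one_mem' := ⟨fun _ => 1, 0, fun _ => one_pow _, monoU_one.symm⟩
  inv_mem' := by
    rintro _ ⟨δ, k, hδ, rfl⟩
    exact ⟨_, _, fun i => by rw [inv_pow, hδ, inv_one], monoU_inv δ k⟩

variable {p F}

theorem mem_Qz {g : GL (ZMod p) F} :
    g ∈ Qz p F ↔ ∃ (δ : ZMod p → Fˣ) (k : ZMod p), (∀ i, δ i ^ p = 1) ∧ g = monoU δ k :=
  Iff.rfl

theorem monoU_mem_Qz {δ : ZMod p → Fˣ} (k : ZMod p) (hδ : ∀ i, δ i ^ p = 1) :
    monoU δ k ∈ Qz p F := ⟨δ, k, hδ, rfl⟩

theorem card_Qz (ζ : Fˣ) (hζ : orderOf ζ = p) : Nat.card (Qz p F) = p ^ (p + 1) := by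
  have hp : p.Prime := Fact.out
  have hprim : IsPrimitiveRoot (ζ : F) p := by
    have := IsPrimitiveRoot.orderOf ζ
    rw [hζ] at this
    exact IsPrimitiveRoot.coe_units_iff.mpr this
  have hc : Nat.card (rootsOfUnity p F) = p := hprim.card_rootsOfUnity
  let f : (ZMod p → rootsOfUnity p F) × ZMod p → Qz p F := fun x =>
    ⟨monoU (fun i => ((x.1 i : rootsOfUnity p F) : Fˣ)) x.2,
      monoU_mem_Qz x.2 (fun i => (mem_rootsOfUnity p _).mp (x.1 i).2)⟩
  have hf : Function.Bijective f := by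
    constructor
    · rintro ⟨δ, k⟩ ⟨δ', k'⟩ h
      have h1 := monoU_inj (congrArg Subtype.val h)
      obtain ⟨hk, hδ⟩ := h1
      have hk' : k = k' := hk
      subst hk'
      congr 1
      funext i
      exact Subtype.ext (congrFun hδ i)
    · rintro ⟨g, δ, k, hδ, rfl⟩
      exact ⟨(fun i => ⟨δ i, (mem_rootsOfUnity p _).mpr (hδ i)⟩, k), rfl⟩
  rw [← Nat.card_congr (Equiv.ofBijective f hf), Nat.card_prod, Nat.card_fun, hc, Nat.card_zmod,
    pow_succ]

end Mono


section Conj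

variable {p : ℕ} [Fact p.Prime] {F : Type*} [Field F]

theorem tv_apply (a b : ZMod p) (c : F) (i j : ZMod p) :
    transvection a b c i j = (if i = j then 1 else 0) + (if a = i ∧ b = j then c else 0) := by
  simp [transvection, Matrix.one_apply, Matrix.single_apply]

/-- If `g y = m g` has no solution with `m` monomial then `g y g⁻¹ ∉ Q`. -/
theorem not_mem_of (g y : GL (ZMod p) F)
    (h : ∀ (ε : ZMod p → Fˣ) (l : ZMod p),
      (g : Matrix (ZMod p) (ZMod p) F) * (y : Matrix (ZMod p) (ZMod p) F)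
        ≠ mono (fun i => (ε i : F)) l * (g : Matrix (ZMod p) (ZMod p) F)) :
    g * y * g⁻¹ ∉ Qz p F := by
  rintro ⟨ε, l, -, hm⟩
  apply h ε l
  have h1 : g * y = monoU ε l * g := by
    rw [← hm]
    group
  have h2 := congrArg (fun u : GL (ZMod p) F => (u : Matrix (ZMod p) (ZMod p) F)) h1
  simpa only [Units.val_mul, coe_monoU] using h2

theorem not_mem_of' (g y : GL (ZMod p) F)
    (h : ∀ (ε : ZMod p → Fˣ) (l : ZMod p),
      (y : Matrix (ZMod p) (ZMod p) F) * (g : Matrix (ZMod p) (ZMod p) F)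
        ≠ (g : Matrix (ZMod p) (ZMod p) F) * mono (fun i => (ε i : F)) l) :
    g⁻¹ * y * g⁻¹⁻¹ ∉ Qz p F := by
  rintro ⟨ε, l, -, hm⟩
  apply h ε l
  have h1 : y * g = g * monoU ε l := by
    rw [← hm]
    group
  have h2 := congrArg (fun u : GL (ZMod p) F => (u : Matrix (ZMod p) (ZMod p) F)) h1
  simpa only [Units.val_mul, coe_monoU] using h2

theorem zeta_facts (ζ : Fˣ) (hζ : orderOf ζ = p) : ζ ^ p = 1 ∧ ζ ≠ 1 := by
  have hp : p.Prime := Fact.out
  refine ⟨by rw [← hζ]; exact pow_orderOf_eq_one ζ, ?_⟩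
  rintro rfl
  rw [orderOf_one] at hζ
  exact hp.one_lt.ne hζ

/-- The diagonal test element `diag(ζ at a, 1, …, 1)`. -/
def dz (ζ : Fˣ) (a : ZMod p) : ZMod p → Fˣ := Function.update (fun _ => (1 : Fˣ)) a ζ

theorem dz_same (ζ : Fˣ) (a : ZMod p) : dz ζ a a = ζ := by
  unfold dz
  rw [Function.update_self]

theorem dz_ne (ζ : Fˣ) {a b : ZMod p} (h : b ≠ a) : dz ζ a b = 1 := by
  unfold dz
  rw [Function.update_of_ne h]

theorem dz_pow (ζ : Fˣ) (hζ : ζ ^ p = 1) (a i : ZMod p) : dz ζ a i ^ p = 1 := by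
  by_cases h : i = a
  · rw [h, dz_same, hζ]
  · rw [dz_ne ζ h, one_pow]

/-- Case 1: a diagonal element with two equal entries. -/
theorem case_diag_noninj (ζ : Fˣ) (hζ : orderOf ζ = p) (δ : ZMod p → Fˣ)
    (hδ : ∀ i, δ i ^ p = 1) (a b : ZMod p) (hab : a ≠ b) (hδab : δ a = δ b) :
    ∃ g : GL (ZMod p) F, g⁻¹ * monoU δ 0 * g ∈ Qz p F ∧
      ∃ y ∈ Qz p F, g * y * g⁻¹ ∉ Qz p F := by
  obtain ⟨hζp, hζ1⟩ := zeta_facts ζ hζ
  obtain ⟨g, hg⟩ : ∃ g : GL (ZMod p) F,
      (g : Matrix (ZMod p) (ZMod p) F) = transvection a b (1 : F) :=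
    ⟨⟨transvection a b 1, transvection a b (-1),
      by rw [transvection_mul_transvection_same a b hab, add_neg_cancel, transvection_zero],
      by rw [transvection_mul_transvection_same a b hab, neg_add_cancel, transvection_zero]⟩,
      rfl⟩
  have hcomm : monoU δ 0 * g = g * monoU δ 0 := by
    apply Units.ext
    rw [Units.val_mul, Units.val_mul, coe_monoU, hg]
    ext i j
    rw [mono_mul_apply, mul_mono_apply, sub_zero, add_zero, tv_apply]
    by_cases hij : i = j
    · rw [hij, mul_comm]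
    · rw [if_neg hij, zero_add]
      by_cases h : a = i ∧ b = j
      · obtain ⟨rfl, rfl⟩ := h
        rw [if_pos ⟨rfl, rfl⟩, mul_one, one_mul, hδab]
      · rw [if_neg h, mul_zero, zero_mul]
  refine ⟨g, ?_, monoU (dz ζ a) 0, monoU_mem_Qz 0 (dz_pow ζ hζp a), ?_⟩
  · rw [mul_assoc, hcomm, inv_mul_cancel_left]
    exact monoU_mem_Qz 0 hδ
  · apply not_mem_of
    intro ε l heq
    rw [hg, coe_monoU] at heq
    have haa := congrFun (congrFun heq a) a
    rw [mul_mono_apply, mono_mul_apply, add_zero, tv_apply, tv_apply, dz_same, if_pos rfl,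
      if_neg (fun h : a = a ∧ b = a => hab h.2.symm), add_zero, one_mul,
      if_neg (fun h : a = a - l ∧ b = a => hab h.2.symm), add_zero] at haa
    have hl : l = 0 := by
      by_contra hl
      rw [if_neg (fun h : a - l = a => hl (by simpa using h)), mul_zero] at haa
      exact ζ.ne_zero haa
    subst hl
    rw [sub_zero, if_pos rfl, mul_one] at haa
    have hab' := congrFun (congrFun heq a) b
    rw [mul_mono_apply, mono_mul_apply, add_zero, sub_zero, tv_apply, dz_ne ζ hab.symm,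
      if_neg hab, zero_add, if_pos ⟨rfl, rfl⟩, Units.val_one, one_mul, mul_one, ← haa] at hab'
    exact hζ1 (Units.ext (by rw [← hab', Units.val_one]))

/-- The Vandermonde-type matrix `a_j ^ i`. -/
def Vm (a : ZMod p → F) : Matrix (ZMod p) (ZMod p) F := Matrix.of fun i j => a j ^ i.val

theorem Vm_apply (a : ZMod p → F) (i j : ZMod p) : Vm a i j = a j ^ i.val := rfl

theorem det_Vm_ne_zero (a : ZMod p → F) (ha : Function.Injective a) : (Vm a).det ≠ 0 := by
  let e : ZMod p ≃ Fin p := Equiv.ofBijective (fun i => (⟨i.val, ZMod.val_lt i⟩ : Fin p))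
    ⟨fun i j h => ZMod.val_injective p (by simpa using h),
      fun r => ⟨(r.val : ZMod p), Fin.ext (ZMod.val_natCast_of_lt r.2)⟩⟩
  have h1 : Vm a = ((vandermonde (fun r => a (e.symm r)))ᵀ).submatrix e e := by
    ext i j
    rw [Matrix.submatrix_apply, Matrix.transpose_apply, vandermonde_apply, Vm_apply,
      Equiv.symm_apply_apply]
    rfl
  rw [h1, det_submatrix_equiv_self, det_transpose, det_vandermonde_ne_zero_iff]
  exact ha.comp e.symm.injective

theorem pow_val_succ (u : Fˣ) (hu : u ^ p = 1) (i : ZMod p) :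
    u ^ (i + 1).val = u ^ i.val * u := by
  rw [ZMod.val_add, ZMod.val_one, ← pow_eq_pow_mod _ hu, pow_succ]

/-- The shift matrix conjugates a Vandermonde matrix of roots of unity to a diagonal matrix. -/
theorem shift_Vm (a : ZMod p → Fˣ) (ha : ∀ j, a j ^ p = 1) :
    mono (fun _ => (1 : F)) 1 * Vm (fun j => (a j : F))
      = Vm (fun j => (a j : F)) * mono (fun j => (((a j)⁻¹ : Fˣ) : F)) 0 := by
  ext i j
  rw [mono_mul_apply, mul_mono_apply, one_mul, add_zero, Vm_apply, Vm_apply]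
  have h1 := pow_val_succ (a j) (ha j) (i - 1)
  rw [sub_add_cancel] at h1
  rw [← Units.val_pow_eq_pow_val, ← Units.val_pow_eq_pow_val, ← Units.val_mul, h1, mul_assoc,
    mul_inv_cancel, mul_one]

theorem two_ne_zero' (hp2 : p ≠ 2) : (2 : ZMod p) ≠ 0 := by
  have hp : p.Prime := Fact.out
  intro h
  have h1 : ((2 : ℕ) : ZMod p) = 0 := by exact_mod_cast h
  rw [ZMod.natCast_eq_zero_iff] at h1
  have := Nat.le_of_dvd (by norm_num) h1
  have := hp.two_le
  omega

theorem val_two' (hp2 : p ≠ 2) : (2 : ZMod p).val = 2 := by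
  have hp : p.Prime := Fact.out
  rw [ZMod.val_two_eq_two_mod]
  apply Nat.mod_eq_of_lt
  have := hp.two_le
  omega

/-- Case 2: a diagonal element with distinct entries. -/
theorem case_diag_inj (hp2 : p ≠ 2) (ζ : Fˣ) (hζ : orderOf ζ = p) (δ : ZMod p → Fˣ)
    (hδ : ∀ i, δ i ^ p = 1) (hinj : Function.Injective δ) :
    ∃ g : GL (ZMod p) F, g⁻¹ * monoU δ 0 * g ∈ Qz p F ∧
      ∃ y ∈ Qz p F, g * y * g⁻¹ ∉ Qz p F := by
  obtain ⟨hζp, hζ1⟩ := zeta_facts ζ hζ
  have hainj : Function.Injective (fun j => (((δ j)⁻¹ : Fˣ) : F)) := by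
    intro i j h
    exact hinj (inv_injective (Units.ext h))
  obtain ⟨V, hV⟩ : ∃ V : GL (ZMod p) F,
      (V : Matrix (ZMod p) (ZMod p) F) = Vm (fun j => (((δ j)⁻¹ : Fˣ) : F)) :=
    ⟨Matrix.GeneralLinearGroup.mkOfDetNeZero _ (det_Vm_ne_zero _ hainj), rfl⟩
  have hrel : monoU (fun _ => (1 : Fˣ)) 1 * V = V * monoU δ 0 := by
    apply Units.ext
    rw [Units.val_mul, Units.val_mul, coe_monoU, coe_monoU, hV]
    have := shift_Vm (fun j => (δ j)⁻¹) (fun j => by rw [inv_pow, hδ, inv_one])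
    simp only [inv_inv, Units.val_one] at this ⊢
    exact this
  refine ⟨V⁻¹, ?_, monoU (dz ζ 0) 0, monoU_mem_Qz 0 (dz_pow ζ hζp 0), ?_⟩
  · rw [inv_inv, ← hrel, mul_inv_cancel_right]
    exact monoU_mem_Qz 1 (fun _ => one_pow _)
  · apply not_mem_of'
    intro ε l heq
    rw [hV, coe_monoU] at heq
    have e0 := congrFun (congrFun heq 0) 0
    have e1 := congrFun (congrFun heq 1) 0
    have e2 := congrFun (congrFun heq 2) 0
    rw [mono_mul_apply, mul_mono_apply, sub_zero, zero_add, Vm_apply, Vm_apply] at e0 e1 e2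
    rw [dz_same, ZMod.val_zero, pow_zero, pow_zero, mul_one, one_mul] at e0
    rw [dz_ne ζ one_ne_zero, ZMod.val_one, pow_one, pow_one, Units.val_one, one_mul] at e1
    rw [dz_ne ζ (two_ne_zero' hp2), val_two' hp2, Units.val_one, one_mul] at e2
    have hA0 : (((δ 0)⁻¹ : Fˣ) : F) ≠ 0 := Units.ne_zero _
    have h3 : (((δ 0)⁻¹ : Fˣ) : F) = (((δ l)⁻¹ : Fˣ) : F) := by
      have h4 : (((δ 0)⁻¹ : Fˣ) : F) * ((((δ 0)⁻¹ : Fˣ) : F) - (((δ l)⁻¹ : Fˣ) : F)) = 0 := by
        linear_combination e2 - (((δ l)⁻¹ : Fˣ) : F) * e1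
      rcases mul_eq_zero.mp h4 with h5 | h5
      · exact absurd h5 hA0
      · exact sub_eq_zero.mp h5
    have h6 : ((ε l : Fˣ) : F) = 1 := by
      rw [← h3] at e1
      have h7 : (((δ 0)⁻¹ : Fˣ) : F) * (((ε l : Fˣ) : F) - 1) = 0 := by
        linear_combination -e1
      rcases mul_eq_zero.mp h7 with h5 | h5
      · exact absurd h5 hA0
      · exact sub_eq_zero.mp h5
    rw [h6] at e0
    exact hζ1 (Units.ext (by rw [e0, Units.val_one]))

end Conj

section Cyc

variable {p : ℕ} [Fact p.Prime] {F : Type*} [Field F]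

theorem pow_monoU_exists (δ : ZMod p → Fˣ) (hδ : ∀ i, δ i ^ p = 1) (k : ZMod p) (n : ℕ) :
    ∃ δ' : ZMod p → Fˣ, (∀ i, δ' i ^ p = 1) ∧ monoU δ k ^ n = monoU δ' (n • k) := by
  induction n with
  | zero => exact ⟨fun _ => 1, fun _ => one_pow _, by rw [pow_zero, zero_smul, monoU_one]⟩
  | succ n ih =>
    obtain ⟨δ', hδ', h⟩ := ih
    refine ⟨fun i => δ' i * δ (i - n • k), fun i => by rw [mul_pow, hδ', hδ, one_mul], ?_⟩
    rw [pow_succ, h, monoU_mul, succ_nsmul]

/-- A diagonal element commuting with a monomial element with non-trivial shift is scalar. -/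
theorem const_of_comm (e δ : ZMod p → Fˣ) (k : ZMod p) (hk : k ≠ 0)
    (h : monoU e 0 * monoU δ k = monoU δ k * monoU e 0) (i : ZMod p) : e i = e 0 := by
  rw [monoU_mul, monoU_mul] at h
  have h1 := (monoU_inj h).2
  have h2 : ∀ j, e j = e (j - k) := by
    intro j
    have h3 := congrFun h1 j
    simp only [sub_zero] at h3
    rw [mul_comm] at h3
    exact mul_left_cancel h3
  have h4 : ∀ (n : ℕ) (j : ZMod p), e j = e (j - n • k) := by
    intro n
    induction n with
    | zero => intro j; rw [zero_smul, sub_zero]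
    | succ n ih =>
      intro j
      rw [ih j, h2 (j - n • k), succ_nsmul, sub_sub]
  have h5 := h4 (i / k).val i
  rw [nsmul_eq_mul, ZMod.natCast_zmod_val, div_mul_cancel₀ _ hk, sub_self] at h5
  exact h5

theorem pow_p_scalar (δ : ZMod p → Fˣ) (hδ : ∀ i, δ i ^ p = 1) (k : ZMod p) (hk : k ≠ 0) :
    ∃ c : Fˣ, c ^ p = 1 ∧ monoU δ k ^ p = monoU (fun _ => c) 0 := by
  obtain ⟨δ', hδ', h⟩ := pow_monoU_exists δ hδ k p
  have hpk : p • k = 0 := by rw [nsmul_eq_mul, ZMod.natCast_self, zero_mul]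
  rw [hpk] at h
  have hcomm : monoU δ' 0 * monoU δ k = monoU δ k * monoU δ' 0 := by
    rw [← h]
    exact pow_mul_comm' _ _
  have hconst := const_of_comm δ' δ k hk hcomm
  refine ⟨δ' 0, hδ' 0, ?_⟩
  rw [h]
  congr 1
  funext i
  exact hconst i

/-- Case 4: a monomial element with non-trivial shift whose `p`-th power is a non-trivial
scalar. -/
theorem case_irr (hp2 : p ≠ 2) (ζ : Fˣ) (hζ : orderOf ζ = p) (δ : ZMod p → Fˣ)
    (hδ : ∀ i, δ i ^ p = 1) (k : ZMod p) (hk : k ≠ 0) (c : Fˣ) (hc : c ≠ 1) (hcp : c ^ p = 1)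
    (hx : monoU δ k ^ p = monoU (fun _ => c) 0) :
    ∃ g : GL (ZMod p) F, g⁻¹ * monoU δ k * g ∈ Qz p F ∧
      ∃ y ∈ Qz p F, g * y * g⁻¹ ∉ Qz p F := by
  have hp : p.Prime := Fact.out
  have hodd : Odd p := hp.odd_of_ne_two hp2
  obtain ⟨hζp, hζ1⟩ := zeta_facts ζ hζ
  obtain ⟨X, hXdef⟩ : ∃ X : Matrix (ZMod p) (ZMod p) F, X = mono (fun i => (δ i : F)) k :=
    ⟨_, rfl⟩
  have hXp : X ^ p = (c : F) • (1 : Matrix (ZMod p) (ZMod p) F) := by
    have h1 := congrArg (fun u : GL (ZMod p) F => (u : Matrix (ZMod p) (ZMod p) F)) hx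
    simp only [Units.val_pow_eq_pow_val, coe_monoU] at h1
    rw [hXdef, h1, mono_zero_smul]
  have hc1 : (1 : F) + (c : F) ≠ 0 := by
    intro h
    have h2 : (c : F) = -1 := by linear_combination h
    have h3 : ((c ^ p : Fˣ) : F) = 1 := by rw [hcp, Units.val_one]
    rw [Units.val_pow_eq_pow_val, h2, hodd.neg_one_pow] at h3
    apply hc
    apply Units.ext
    rw [h2, h3, Units.val_one]
  obtain ⟨B, hB⟩ : ∃ B : Matrix (ZMod p) (ZMod p) F, (1 + X) * B = 1 := by
    refine ⟨((1 : F) + (c : F))⁻¹ • ∑ j ∈ Finset.range p, (-X) ^ j, ?_⟩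
    have h1 := mul_neg_geom_sum (-X) p
    rw [sub_neg_eq_add, hodd.neg_pow, sub_neg_eq_add, hXp] at h1
    rw [Matrix.mul_smul, h1]
    have h2 : (1 : Matrix (ZMod p) (ZMod p) F) + (c : F) • (1 : Matrix (ZMod p) (ZMod p) F)
        = ((1 : F) + (c : F)) • (1 : Matrix (ZMod p) (ZMod p) F) := by
      rw [add_smul, one_smul]
    rw [h2, smul_smul, inv_mul_cancel₀ hc1, one_smul]
  obtain ⟨g, hg⟩ : ∃ g : GL (ZMod p) F, (g : Matrix (ZMod p) (ZMod p) F) = 1 + X :=
    ⟨⟨1 + X, B, hB, mul_eq_one_comm.mp hB⟩, rfl⟩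
  have hcomm : monoU δ k * g = g * monoU δ k := by
    apply Units.ext
    rw [Units.val_mul, Units.val_mul, coe_monoU, hg, ← hXdef, add_mul, mul_add, one_mul, mul_one]
  refine ⟨g, ?_, monoU (dz ζ 0) 0, monoU_mem_Qz 0 (dz_pow ζ hζp 0), ?_⟩
  · rw [mul_assoc, hcomm, inv_mul_cancel_left]
    exact monoU_mem_Qz k hδ
  · apply not_mem_of
    intro ε l heq
    rw [hg, coe_monoU] at heq
    have hG : ∀ i j : ZMod p, (1 + X) i j
        = (if i = j then (1 : F) else 0) + (if i = j + k then (δ i : F) else 0) := by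
      intro i j
      rw [Matrix.add_apply, Matrix.one_apply, hXdef, mono_apply]
    have hnk : -k ≠ 0 := neg_ne_zero.mpr hk
    have e00 := congrFun (congrFun heq 0) 0
    have e0k := congrFun (congrFun heq 0) (-k)
    rw [mul_mono_apply, mono_mul_apply, add_zero, hG, hG, zero_sub] at e00 e0k
    rw [if_pos rfl, zero_add, if_neg (fun h : (0 : ZMod p) = k => hk h.symm), add_zero, dz_same,
      one_mul] at e00
    rw [if_neg (fun h : (0 : ZMod p) = -k => hnk h.symm), zero_add, neg_add_cancel, if_pos rfl,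
      dz_ne ζ hnk, Units.val_one, mul_one] at e0k
    by_cases hl : l = 0
    · subst hl
      rw [neg_zero, if_pos rfl, if_neg (fun h : (0 : ZMod p) = k => hk h.symm), add_zero,
        mul_one] at e00
      rw [neg_zero, if_neg (fun h : (0 : ZMod p) = -k => hnk h.symm), zero_add, if_pos rfl,
        ← e00] at e0k
      have h7 : (δ 0 : F) * ((ζ : F) - 1) = 0 := by linear_combination -e0k
      rcases mul_eq_zero.mp h7 with h5 | h5
      · exact (δ 0).ne_zero h5
      · exact hζ1 (Units.ext (by rw [sub_eq_zero.mp h5, Units.val_one]))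
    · rw [if_neg (fun h : -l = 0 => hl (neg_eq_zero.mp h)), zero_add] at e00
      have hlk : -l = k := by
        by_contra hne
        rw [if_neg hne, mul_zero] at e00
        exact ζ.ne_zero e00
      have hkk : ¬ (-l = -k) := by
        intro h
        rw [hlk] at h
        have h2 : (2 : ZMod p) * k = 0 := by linear_combination h
        rcases mul_eq_zero.mp h2 with h5 | h5
        · exact two_ne_zero' hp2 h5
        · exact hk h5
      rw [if_neg hkk, zero_add, if_neg (fun h : -l = 0 => hl (neg_eq_zero.mp h)), mul_zero]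
        at e0k
      exact (δ 0).ne_zero e0k

theorem pow_monoU_one (δ : ZMod p → Fˣ) (n : ℕ) :
    monoU δ 1 ^ n = monoU (fun i => ∏ m ∈ Finset.range n, δ (i - (m : ZMod p))) (n : ZMod p) := by
  induction n with
  | zero =>
    rw [pow_zero, Nat.cast_zero]
    simp only [Finset.range_zero, Finset.prod_empty]
    exact monoU_one.symm
  | succ n ih =>
    rw [pow_succ, ih, monoU_mul, Nat.cast_succ]
    congr 1
    funext i
    rw [Finset.prod_range_succ]

/-- A monomial element with shift `1` and `p`-th power `1` is conjugate to the shift by a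
diagonal matrix. -/
theorem exists_t (δ : ZMod p → Fˣ) (h : monoU δ 1 ^ p = 1) :
    ∃ t : ZMod p → Fˣ, ∀ i, δ i = t i * (t (i - 1))⁻¹ := by
  have hp : p.Prime := Fact.out
  have hprod : ∏ m ∈ Finset.range p, δ (m : ZMod p) = 1 := by
    rw [pow_monoU_one, ZMod.natCast_self, ← monoU_one] at h
    have h1 := congrFun (monoU_inj h).2 (-1)
    rw [← Finset.prod_range_reflect, ← h1]
    apply Finset.prod_congr rfl
    intro m hm
    have hm' := Finset.mem_range.mp hm
    congr 1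
    rw [Nat.cast_sub (by omega), Nat.cast_sub hp.one_lt.le, ZMod.natCast_self, Nat.cast_one,
      zero_sub]
  refine ⟨fun i => ∏ m ∈ Finset.range (i.val + 1), δ (m : ZMod p), fun i => ?_⟩
  rw [eq_mul_inv_iff_mul_eq]
  beta_reduce
  by_cases hi : i = 0
  · subst hi
    have hv : ((0 : ZMod p) - 1).val + 1 = p := by
      rw [zero_sub, ZMod.neg_val, if_neg one_ne_zero, ZMod.val_one]
      have := hp.one_lt
      omega
    rw [hv, hprod, mul_one, ZMod.val_zero, zero_add, Finset.prod_range_one, Nat.cast_zero]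
  · have hv : (i - 1).val + 1 = i.val := by
      have h1 : (1 : ZMod p).val ≤ i.val := by
        rw [ZMod.val_one]
        have : i.val ≠ 0 := fun h => hi ((ZMod.val_eq_zero i).mp h)
        omega
      rw [ZMod.val_sub h1, ZMod.val_one]
      rw [ZMod.val_one] at h1
      omega
    rw [hv, Finset.prod_range_succ, ZMod.natCast_zmod_val, mul_comm]

theorem zpow_inj (ζ : Fˣ) (hζ : orderOf ζ = p) :
    Function.Injective (fun j : ZMod p => ((ζ ^ j.val : Fˣ) : F)) := by
  intro i j h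
  have h1 : ζ ^ i.val = ζ ^ j.val := Units.ext h
  apply ZMod.val_injective p
  have h2 := pow_injOn_Iio_orderOf (x := ζ)
  rw [hζ] at h2
  exact h2 (Set.mem_Iio.mpr (ZMod.val_lt i)) (Set.mem_Iio.mpr (ZMod.val_lt j)) h1

/-- The Fourier matrix does not normalise `Q`. -/
theorem Vm_arg2 (hp2 : p ≠ 2) (ζ : Fˣ) (hζ : orderOf ζ = p) (ε' : ZMod p → F) (l : ZMod p) :
    Vm (fun j : ZMod p => ((ζ ^ j.val : Fˣ) : F)) * mono (fun i => (dz ζ 0 i : F)) 0
      ≠ mono ε' l * Vm (fun j : ZMod p => ((ζ ^ j.val : Fˣ) : F)) := by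
  obtain ⟨hζp, hζ1⟩ := zeta_facts ζ hζ
  intro heq
  have e0 := congrFun (congrFun heq l) 0
  have e1 := congrFun (congrFun heq l) 1
  have e2 := congrFun (congrFun heq l) 2
  rw [mul_mono_apply, mono_mul_apply, add_zero, sub_self, Vm_apply, Vm_apply] at e0 e1 e2
  simp only [ZMod.val_zero, pow_zero, Units.val_one, one_pow, one_mul, mul_one, dz_same] at e0
  rw [ZMod.val_zero, pow_zero, mul_one, ZMod.val_one, pow_one, dz_ne ζ one_ne_zero,
    Units.val_one, mul_one] at e1
  rw [ZMod.val_zero, pow_zero, mul_one, val_two' hp2, dz_ne ζ (two_ne_zero' hp2),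
    Units.val_one, mul_one, ← e0] at e2
  rw [← e0] at e1
  have h3 : (ζ : F) * ((ζ : F) - 1) = 0 := by
    have h4 : (((ζ ^ 2 : Fˣ) : F)) ^ l.val = (ζ : F) ^ 2 := by
      rw [Units.val_pow_eq_pow_val, ← pow_mul, mul_comm, pow_mul, e1]
    rw [h4] at e2
    linear_combination e2
  rcases mul_eq_zero.mp h3 with h5 | h5
  · exact ζ.ne_zero h5
  · exact hζ1 (Units.ext (by rw [sub_eq_zero.mp h5, Units.val_one]))

/-- Case 3: a monomial element with non-trivial shift and of order dividing `p`. -/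
theorem case_split (hp2 : p ≠ 2) (ζ : Fˣ) (hζ : orderOf ζ = p) (δ : ZMod p → Fˣ)
    (hδ : ∀ i, δ i ^ p = 1) (k : ZMod p) (hk : k ≠ 0) (hx : monoU δ k ^ p = 1) :
    ∃ g : GL (ZMod p) F, g⁻¹ * monoU δ k * g ∈ Qz p F ∧
      ∃ y ∈ Qz p F, g * y * g⁻¹ ∉ Qz p F := by
  have hp : p.Prime := Fact.out
  obtain ⟨hζp, hζ1⟩ := zeta_facts ζ hζ
  -- reduce to shift `1`
  obtain ⟨n, hn⟩ : ∃ n : ℕ, n = (k⁻¹).val := ⟨_, rfl⟩
  have hnk : (n : ZMod p) * k = 1 := by
    rw [hn, ZMod.natCast_zmod_val, inv_mul_cancel₀ hk]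
  obtain ⟨δ₁, hδ₁, hx'⟩ := pow_monoU_exists δ hδ k n
  rw [nsmul_eq_mul, hnk] at hx'
  have hx'p : monoU δ₁ 1 ^ p = 1 := by
    rw [← hx', ← pow_mul, mul_comm, pow_mul, hx, one_pow]
  have hxx' : monoU δ k = monoU δ₁ 1 ^ k.val := by
    rw [← hx', ← pow_mul]
    have h1 : (n * k.val) % p = 1 % p := by
      rw [← ZMod.natCast_eq_natCast_iff', Nat.cast_mul, ZMod.natCast_zmod_val, hnk, Nat.cast_one]
    rw [pow_eq_pow_mod _ hx, h1, Nat.mod_eq_of_lt hp.one_lt, pow_one]
  obtain ⟨t, ht⟩ := exists_t δ₁ hx'p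
  -- the Fourier matrix
  obtain ⟨V, hV⟩ : ∃ V : GL (ZMod p) F,
      (V : Matrix (ZMod p) (ZMod p) F) = Vm (fun j : ZMod p => ((ζ ^ j.val : Fˣ) : F)) :=
    ⟨Matrix.GeneralLinearGroup.mkOfDetNeZero _ (det_Vm_ne_zero _ (zpow_inj ζ hζ)), rfl⟩
  have hrel : monoU (fun _ => (1 : Fˣ)) 1 * V = V * monoU (fun j : ZMod p => (ζ ^ j.val)⁻¹) 0 := by
    apply Units.ext
    rw [Units.val_mul, Units.val_mul, coe_monoU, coe_monoU, hV]
    have := shift_Vm (fun j : ZMod p => ζ ^ j.val)
      (fun j => by rw [← pow_mul, mul_comm, pow_mul, hζp, one_pow])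
    simp only [Units.val_one] at this ⊢
    exact this
  have hD₀ : monoU (fun j : ZMod p => (ζ ^ j.val)⁻¹) 0 ∈ Qz p F :=
    monoU_mem_Qz 0 (fun j => by rw [inv_pow, ← pow_mul, mul_comm, pow_mul, hζp, one_pow, inv_one])
  have hT : monoU δ₁ 1 = monoU t 0 * monoU (fun _ => (1 : Fˣ)) 1 * (monoU t 0)⁻¹ := by
    rw [monoU_inv, monoU_mul, monoU_mul]
    simp only [add_zero, zero_add, neg_zero, mul_one]
    congr 1
    funext i
    exact ht i
  have hconj : (monoU t 0 * V)⁻¹ * monoU δ₁ 1 * (monoU t 0 * V)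
      = monoU (fun j : ZMod p => (ζ ^ j.val)⁻¹) 0 := by
    rw [hT, _root_.mul_inv_rev]
    have : V⁻¹ * (monoU t 0)⁻¹ * (monoU t 0 * monoU (fun _ => (1 : Fˣ)) 1 * (monoU t 0)⁻¹)
        * (monoU t 0 * V) = V⁻¹ * (monoU (fun _ => (1 : Fˣ)) 1 * V) := by group
    rw [this, hrel, inv_mul_cancel_left]
  refine ⟨monoU t 0 * V, ?_, monoU (dz ζ 0) 0, monoU_mem_Qz 0 (dz_pow ζ hζp 0), ?_⟩
  · rw [hxx']
    have h1 : (monoU t 0 * V)⁻¹ * monoU δ₁ 1 ^ k.val * (monoU t 0 * V)
        = ((monoU t 0 * V)⁻¹ * monoU δ₁ 1 * (monoU t 0 * V)) ^ k.val := by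
      have h2 := conj_pow (i := k.val) (a := (monoU t 0 * V)⁻¹) (b := monoU δ₁ 1)
      rw [inv_inv] at h2
      exact h2.symm
    rw [h1, hconj]
    exact Subgroup.pow_mem _ hD₀ _
  · rintro ⟨ε, l, -, hm⟩
    have h1 : V * monoU (dz ζ 0) 0 = (monoU t 0)⁻¹ * monoU ε l * monoU t 0 * V := by
      rw [← hm]
      group
    rw [monoU_inv, monoU_mul, monoU_mul] at h1
    have h2 := congrArg (fun u : GL (ZMod p) F => (u : Matrix (ZMod p) (ZMod p) F)) h1
    simp only [Units.val_mul, coe_monoU, hV] at h2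
    exact Vm_arg2 hp2 ζ hζ _ _ h2

/-- Every element of `Q` lies in a conjugate of `Q` different from `Q`. -/
theorem key (hp2 : p ≠ 2) (ζ : Fˣ) (hζ : orderOf ζ = p) (x : GL (ZMod p) F)
    (hx : x ∈ Qz p F) :
    ∃ g : GL (ZMod p) F, g⁻¹ * x * g ∈ Qz p F ∧ ∃ y ∈ Qz p F, g * y * g⁻¹ ∉ Qz p F := by
  obtain ⟨δ, k, hδ, rfl⟩ := hx
  by_cases hk : k = 0
  · subst hk
    by_cases hinj : Function.Injective δ
    · exact case_diag_inj hp2 ζ hζ δ hδ hinj
    · rw [Function.Injective] at hinj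
      push Not at hinj
      obtain ⟨a, b, hab, hne⟩ := hinj
      exact case_diag_noninj ζ hζ δ hδ a b hne hab
  · obtain ⟨c, hcp, hxc⟩ := pow_p_scalar δ hδ k hk
    by_cases hc : c = 1
    · subst hc
      rw [monoU_one] at hxc
      exact case_split hp2 ζ hζ δ hδ k hk hxc
    · exact case_irr hp2 ζ hζ δ hδ k hk c hc hcp hxc

end Cyc

/-- Let p be an odd prime and F a finite field with q elements such that p divides q - 1 but p² does not. Then GL(p, F) has a Sylow p-subgroup Q such that every element of p-power order lies in some Sylow p-subgroup other than Q (a redundant Sylow p-subgroup). -/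
theorem result {F : Type*} [Field F] [Fintype F] (p : ℕ) [Fact p.Prime]
    (hp : p ≠ 2) (h1 : p ∣ Fintype.card F - 1) (h2 : ¬ p ^ 2 ∣ Fintype.card F - 1) :
    ∃ Q : Sylow p (Matrix.GeneralLinearGroup (Fin p) F), ∀ x : Matrix.GeneralLinearGroup (Fin p) F,
      (∃ k : ℕ, orderOf x = p ^ k) → ∃ P : Sylow p (Matrix.GeneralLinearGroup (Fin p) F), P ≠ Q ∧ x ∈ P := by
  classical
  obtain ⟨ζ, hζ⟩ : ∃ ζ : Fˣ, orderOf ζ = p :=
    exists_prime_orderOf_dvd_card p (by rw [Fintype.card_units]; exact h1)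
  let e : GL (ZMod p) F ≃* GL (Fin p) F :=
    Units.mapEquiv (Matrix.reindexAlgEquiv F F (ZMod.finEquiv p).symm.toEquiv).toMulEquiv
  apply red_of_sub_equiv e p (Qz p F)
  · rw [card_Qz ζ hζ, fact_GL p hp h1 h2]
  · exact fun x hx => key hp ζ hζ x hx

end Cfsg.Agent.S4358
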