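import Cfsg.Statements.S4376
import Cfsg.Agent.S4377
import Cfsg.Agent.Lib.Helper77.Atoms
import Cfsg.Agent.Lib.Helper77.PSL

set_option autoImplicit false
open Cfsg

namespace Cfsg.Agent.S4376

open Cfsg.Agent.Lib.Helper77

/-- the solvable group -/
abbrev GG : Type :=
    (Fin 12 → Multiplicative (ZMod 2)) ×
    Multiplicative (ZMod 7) ×
    (Fin 12 → DihedralGroup 4) ×
    (Fin 3 → ↥(pull chiC4 (chiD 3))) ×
    (Fin 6 → ↥(pull (chiD 3) chiD4b)) ×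
    (Fin 21 → ↥(pull chiC4 (chiD 7))) ×
    (Fin 12 → ↥(pull (pullHom chiC4 (chiD 3)) (chiD 3))) ×
    (Fin 6 → ↥(pull (chiD 3) (chiD 7))) ×
    (Fin 27 → ↥(pull chiC4 chiF42)) ×
    (Fin 2 → ↥(pull (chiD 7) (chiD 7))) ×
    (Fin 12 → ↥(pull (pullHom (chiD 3) (chiD 3)) (chiD 7))) ×
    (Fin 3 → B168) ×
    (Fin 4 → ↥(pull (chiD 7) chiF42)) ×
    (Fin 3 → ↥(pull (pullHom (pullHom (chiD 3) (chiD 7)) chiD4b) chiD4b)) ×
    (Fin 3 → ↥(pull (pullHom chiF42 chiF42) chiF42))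

/-- the non-solvable group -/
abbrev HH : Type :=
    T168 ×
    T168 ×
    T168 ×
    (Fin 3 → Multiplicative (ZMod 3)) ×
    (Fin 36 → Multiplicative (ZMod 4)) ×
    (Fin 6 → DihedralGroup 3) ×
    (Fin 9 → DihedralGroup 7) ×
    (Fin 12 → ↥(pull (chiD 3) (chiD 3))) ×
    (Fin 4 → ↥chiF42.ker) ×
    (Fin 21 → F42) ×
    (Fin 12 → ↥(pull (chiD 7) (chiD 4))) ×
    (Fin 6 → ↥(pull (pullHom chiC4 (chiD 3)) (chiD 7))) ×
    (Fin 3 → ↥(pull (pullHom (chiD 3) (chiD 7)) (chiD 4))) ×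
    (Fin 3 → ↥(pull (pullHom (chiD 7) chiD4b) chiD4b)) ×
    (Fin 12 → ↥(pull (pullHom (pullHom chiC4 (chiD 3)) (chiD 3)) (chiD 7))) ×
    (Fin 6 → ↥(pull (pullHom chiC4 (chiD 7)) chiF42)) ×
    (Fin 3 → ↥(pull (pullHom (pullHom chiC4 chiF42) chiF42) chiF42))

theorem nsol_pull {K L : Type} [Group K] [Group L] [Finite K] [Finite L] (χ : K →* ℤˣ) (ψ : L →* ℤˣ)
    (d : ℕ) :
    nsol ↥(pull χ ψ) d = gsol χ 1 d * gsol ψ 1 d + gsol χ (-1) d * gsol ψ (-1) d := by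
  rw [nsol_eq_gsol (pullHom χ ψ), gsol_pull, gsol_pull]

theorem nsol_dih (n : ℕ) [NeZero n] (d : ℕ) :
    nsol (DihedralGroup n) d = gsol (chiD n) 1 d + gsol (chiD n) (-1) d :=
  nsol_eq_gsol (chiD n) d

theorem nsol_C4 (d : ℕ) :
    nsol (Multiplicative (ZMod 4)) d = gsol chiC4 1 d + gsol chiC4 (-1) d :=
  nsol_eq_gsol chiC4 d

theorem nsol_F42 (d : ℕ) : nsol F42 d = gsol chiF42 1 d + gsol chiF42 (-1) d :=
  nsol_eq_gsol chiF42 d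

theorem key_1 : nsol GG 1 = nsol HH 1 := by
  simp only [nsol_prod, nsol_pi, nsol_pull, gsol_pull, nsol_ker, nsol_dih, nsol_C4, nsol_F42,
    tb_chiC4_p_1, tb_chiC4_m_1, tb_chiD3_p_1, tb_chiD3_m_1, tb_chiD7_p_1, tb_chiD7_m_1, tb_chiD4_p_1, tb_chiD4_m_1, tb_chiD4b_p_1, tb_chiD4b_m_1, tb_chiF42_p_1, tb_chiF42_m_1, tb_C2_1, tb_C3_1, tb_C7_1, tb_B168_1, tb_T_1]
  norm_num

theorem key_2 : nsol GG 2 = nsol HH 2 := by
  simp only [nsol_prod, nsol_pi, nsol_pull, gsol_pull, nsol_ker, nsol_dih, nsol_C4, nsol_F42,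
    tb_chiC4_p_2, tb_chiC4_m_2, tb_chiD3_p_2, tb_chiD3_m_2, tb_chiD7_p_2, tb_chiD7_m_2, tb_chiD4_p_2, tb_chiD4_m_2, tb_chiD4b_p_2, tb_chiD4b_m_2, tb_chiF42_p_2, tb_chiF42_m_2, tb_C2_2, tb_C3_2, tb_C7_2, tb_B168_2, tb_T_2]
  norm_num

theorem key_3 : nsol GG 3 = nsol HH 3 := by
  simp only [nsol_prod, nsol_pi, nsol_pull, gsol_pull, nsol_ker, nsol_dih, nsol_C4, nsol_F42,
    tb_chiC4_p_3, tb_chiC4_m_3, tb_chiD3_p_3, tb_chiD3_m_3, tb_chiD7_p_3, tb_chiD7_m_3, tb_chiD4_p_3, tb_chiD4_m_3, tb_chiD4b_p_3, tb_chiD4b_m_3, tb_chiF42_p_3, tb_chiF42_m_3, tb_C2_3, tb_C3_3, tb_C7_3, tb_B168_3, tb_T_3]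
  norm_num

theorem key_4 : nsol GG 4 = nsol HH 4 := by
  simp only [nsol_prod, nsol_pi, nsol_pull, gsol_pull, nsol_ker, nsol_dih, nsol_C4, nsol_F42,
    tb_chiC4_p_4, tb_chiC4_m_4, tb_chiD3_p_4, tb_chiD3_m_4, tb_chiD7_p_4, tb_chiD7_m_4, tb_chiD4_p_4, tb_chiD4_m_4, tb_chiD4b_p_4, tb_chiD4b_m_4, tb_chiF42_p_4, tb_chiF42_m_4, tb_C2_4, tb_C3_4, tb_C7_4, tb_B168_4, tb_T_4]
  norm_num

theorem key_6 : nsol GG 6 = nsol HH 6 := by
  simp only [nsol_prod, nsol_pi, nsol_pull, gsol_pull, nsol_ker, nsol_dih, nsol_C4, nsol_F42,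
    tb_chiC4_p_6, tb_chiC4_m_6, tb_chiD3_p_6, tb_chiD3_m_6, tb_chiD7_p_6, tb_chiD7_m_6, tb_chiD4_p_6, tb_chiD4_m_6, tb_chiD4b_p_6, tb_chiD4b_m_6, tb_chiF42_p_6, tb_chiF42_m_6, tb_C2_6, tb_C3_6, tb_C7_6, tb_B168_6, tb_T_6]
  norm_num

theorem key_7 : nsol GG 7 = nsol HH 7 := by
  simp only [nsol_prod, nsol_pi, nsol_pull, gsol_pull, nsol_ker, nsol_dih, nsol_C4, nsol_F42,
    tb_chiC4_p_7, tb_chiC4_m_7, tb_chiD3_p_7, tb_chiD3_m_7, tb_chiD7_p_7, tb_chiD7_m_7, tb_chiD4_p_7, tb_chiD4_m_7, tb_chiD4b_p_7, tb_chiD4b_m_7, tb_chiF42_p_7, tb_chiF42_m_7, tb_C2_7, tb_C3_7, tb_C7_7, tb_B168_7, tb_T_7]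
  norm_num

theorem key_12 : nsol GG 12 = nsol HH 12 := by
  simp only [nsol_prod, nsol_pi, nsol_pull, gsol_pull, nsol_ker, nsol_dih, nsol_C4, nsol_F42,
    tb_chiC4_p_12, tb_chiC4_m_12, tb_chiD3_p_12, tb_chiD3_m_12, tb_chiD7_p_12, tb_chiD7_m_12, tb_chiD4_p_12, tb_chiD4_m_12, tb_chiD4b_p_12, tb_chiD4b_m_12, tb_chiF42_p_12, tb_chiF42_m_12, tb_C2_12, tb_C3_12, tb_C7_12, tb_B168_12, tb_T_12]
  norm_num

theorem key_14 : nsol GG 14 = nsol HH 14 := by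
  simp only [nsol_prod, nsol_pi, nsol_pull, gsol_pull, nsol_ker, nsol_dih, nsol_C4, nsol_F42,
    tb_chiC4_p_14, tb_chiC4_m_14, tb_chiD3_p_14, tb_chiD3_m_14, tb_chiD7_p_14, tb_chiD7_m_14, tb_chiD4_p_14, tb_chiD4_m_14, tb_chiD4b_p_14, tb_chiD4b_m_14, tb_chiF42_p_14, tb_chiF42_m_14, tb_C2_14, tb_C3_14, tb_C7_14, tb_B168_14, tb_T_14]
  norm_num

theorem key_21 : nsol GG 21 = nsol HH 21 := by
  simp only [nsol_prod, nsol_pi, nsol_pull, gsol_pull, nsol_ker, nsol_dih, nsol_C4, nsol_F42,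
    tb_chiC4_p_21, tb_chiC4_m_21, tb_chiD3_p_21, tb_chiD3_m_21, tb_chiD7_p_21, tb_chiD7_m_21, tb_chiD4_p_21, tb_chiD4_m_21, tb_chiD4b_p_21, tb_chiD4b_m_21, tb_chiF42_p_21, tb_chiF42_m_21, tb_C2_21, tb_C3_21, tb_C7_21, tb_B168_21, tb_T_21]
  norm_num

theorem key_28 : nsol GG 28 = nsol HH 28 := by
  simp only [nsol_prod, nsol_pi, nsol_pull, gsol_pull, nsol_ker, nsol_dih, nsol_C4, nsol_F42,
    tb_chiC4_p_28, tb_chiC4_m_28, tb_chiD3_p_28, tb_chiD3_m_28, tb_chiD7_p_28, tb_chiD7_m_28, tb_chiD4_p_28, tb_chiD4_m_28, tb_chiD4b_p_28, tb_chiD4b_m_28, tb_chiF42_p_28, tb_chiF42_m_28, tb_C2_28, tb_C3_28, tb_C7_28, tb_B168_28, tb_T_28]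
  norm_num

theorem key_42 : nsol GG 42 = nsol HH 42 := by
  simp only [nsol_prod, nsol_pi, nsol_pull, gsol_pull, nsol_ker, nsol_dih, nsol_C4, nsol_F42,
    tb_chiC4_p_42, tb_chiC4_m_42, tb_chiD3_p_42, tb_chiD3_m_42, tb_chiD7_p_42, tb_chiD7_m_42, tb_chiD4_p_42, tb_chiD4_m_42, tb_chiD4b_p_42, tb_chiD4b_m_42, tb_chiF42_p_42, tb_chiF42_m_42, tb_C2_42, tb_C3_42, tb_C7_42, tb_B168_42, tb_T_42]
  norm_num

theorem key_84 : nsol GG 84 = nsol HH 84 := by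
  simp only [nsol_prod, nsol_pi, nsol_pull, gsol_pull, nsol_ker, nsol_dih, nsol_C4, nsol_F42,
    tb_chiC4_p_84, tb_chiC4_m_84, tb_chiD3_p_84, tb_chiD3_m_84, tb_chiD7_p_84, tb_chiD7_m_84, tb_chiD4_p_84, tb_chiD4_m_84, tb_chiD4b_p_84, tb_chiD4b_m_84, tb_chiF42_p_84, tb_chiF42_m_84, tb_C2_84, tb_C3_84, tb_C7_84, tb_B168_84, tb_T_84]
  norm_num

theorem key (n : ℕ) : nsol GG n = nsol HH n := by
  rw [nsol_gcd 84 Exp84.pow84 n, nsol_gcd (K := HH) 84 Exp84.pow84 n]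
  have hd : Nat.gcd n 84 ∈ Nat.divisors 84 :=
    Nat.mem_divisors.mpr ⟨Nat.gcd_dvd_right n 84, by norm_num⟩
  generalize Nat.gcd n 84 = d at hd ⊢
  have h84 : Nat.divisors 84 = {1, 2, 3, 4, 6, 7, 12, 14, 21, 28, 42, 84} := by decide
  rw [h84] at hd
  simp only [Finset.mem_insert, Finset.mem_singleton] at hd
  rcases hd with rfl | rfl | rfl | rfl | rfl | rfl | rfl | rfl | rfl | rfl | rfl | rfl
  · exact key_1
  · exact key_2
  · exact key_3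
  · exact key_4
  · exact key_6
  · exact key_7
  · exact key_12
  · exact key_14
  · exact key_21
  · exact key_28
  · exact key_42
  · exact key_84

set_option synthInstance.maxSize 100000 in
set_option synthInstance.maxHeartbeats 4000000 in
theorem finiteGG : Finite GG := inferInstance

set_option synthInstance.maxSize 100000 in
set_option synthInstance.maxHeartbeats 4000000 in
theorem finiteHH : Finite HH := inferInstance

set_option synthInstance.maxSize 100000 in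
set_option synthInstance.maxHeartbeats 4000000 in
theorem isSolvableGG : Group.IsSolvable GG := inferInstance

/-- There are finite groups G and H having the same number of elements of each order (the same order type) with G solvable and H not solvable. -/
theorem result :
    ∃ (G : Type) (_ : Group G) (_ : Finite G) (H : Type) (_ : Group H) (_ : Finite H),
      Group.IsSolvable G ∧ ¬ Group.IsSolvable H ∧ ∀ n : ℕ, Nat.card {g : G // orderOf g = n} = Nat.card {h : H // orderOf h = n} := by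
  refine ⟨GG, inferInstance, finiteGG, HH, inferInstance, finiteHH, isSolvableGG, ?_, ?_⟩
  · intro h
    exact not_isSolvable_T
      (@Group.isSolvable_of_surjective HH T168 _ _ (MonoidHom.fst _ _) (fun x => ⟨(x, 1), rfl⟩) h)
  · exact (@Cfsg.Agent.S4377.result GG HH _ finiteGG _ finiteHH).mpr key

end Cfsg.Agent.S4376
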