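import Mathlib
import Cfsg.Statements.S4394
import Cfsg.Agent.Lib.Helper72.SCCore
import Cfsg.Agent.Lib.Helper12.SCStr2
import Cfsg.Agent.Lib.Helper23.SCFfb
import Cfsg.Agent.Lib.Helper29.SCFin
import Cfsg.Agent.Lib.Helper29.SCPair
import Cfsg.Agent.Lib.Helper35.SCKer
import Cfsg.Agent.Lib.Helper46.SCRed
import Cfsg.Agent.Lib.Helper57.SCFfe
import Cfsg.Agent.Lib.Helper60.SCRng
import Cfsg.Agent.Lib.Helper61.SCBas
import Cfsg.Agent.Lib.Helper68.SCStr1
import Cfsg.Agent.Lib.Helper75.SCFfd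
import Cfsg.Agent.Lib.Helper79.SCFfa
import Cfsg.Agent.Lib.Helper79.SCOff
import Cfsg.Agent.Lib.Helper8.SCEndb
import Cfsg.Agent.Lib.Helper87.SCEnda
import Cfsg.Agent.Lib.Helper89.SCFfo
import Cfsg.Agent.Lib.Helper94.SCSch

set_option autoImplicit false
open Cfsg

namespace Cfsg.Agent.S4394

open Cfsg.Agent.Lib.Helper72.SC in
/-- The core case `O_{p'}(G) = 1` (assembly of the pieces of the SC project). -/
theorem coreAux.{u} : CoreStmt.{u} :=
  have hStr1 : Str1Stmt.{u} := (Cfsg.Agent.Lib.Helper68.SC.str1.{u})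
  have hStr2 : Str2Stmt.{u} := (Cfsg.Agent.Lib.Helper12.SC.str2.{u} hStr1)
  have hKer : KerStmt.{u} := (Cfsg.Agent.Lib.Helper35.SC.ker.{u})
  have hRng : RngStmt.{u} := (Cfsg.Agent.Lib.Helper60.SC.rng.{u} hKer)
  have hBas : BasStmt.{u} := (Cfsg.Agent.Lib.Helper61.SC.bas.{u} hKer)
  have hPair : PairStmt.{u} := (Cfsg.Agent.Lib.Helper29.SC.pair.{u})
  have hOff : OffStmt.{u} := (Cfsg.Agent.Lib.Helper79.SC.off.{u} hKer hBas hPair)
  have hFfa : FfaStmt.{u} := (Cfsg.Agent.Lib.Helper79.SC.ffa.{u})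
  have hFfb : FfbStmt.{u} := (Cfsg.Agent.Lib.Helper23.SC.ffb.{u} hFfa)
  have hFfo : FfoStmt.{u} := (Cfsg.Agent.Lib.Helper89.SC.ffo.{u})
  have hFfe : FfeStmt.{u} := (Cfsg.Agent.Lib.Helper57.SC.ffe.{u})
  have hFfx : FfxStmt.{u} := (Cfsg.Agent.Lib.Helper75.SC.ffd.{u} hFfa hFfb hFfo hFfe)
  have hEnda : EndaStmt.{u} := (Cfsg.Agent.Lib.Helper87.SC.enda.{u} hKer hBas)
  have hEndb : EndbStmt.{u} := (Cfsg.Agent.Lib.Helper8.SC.endb.{u} hKer hBas)
  have hFin : FinStmt.{u} := (Cfsg.Agent.Lib.Helper29.SC.fin.{u})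
  core_of_pieces hStr2 hKer hRng hBas hOff hFfx hEnda hEndb hFin

open Cfsg.Agent.Lib.Helper72.SC in
/-- Schmidt structure of the normal Sylow subgroup. -/
theorem schAux.{u} : SchStmt.{u} := (Cfsg.Agent.Lib.Helper94.SC.sch.{u})

open Cfsg.Agent.Lib.Helper72.SC in
/-- Reduction to the core case. -/
theorem redAux.{u} : RedStmt.{u} := (Cfsg.Agent.Lib.Helper46.SC.red.{u})


/-- Let X be a finite minimal non-nilpotent group (not nilpotent, every proper subgroup nilpotent) with a nontrivial normal Sylow p-subgroup P. If G is a finite p-solvable group whose Sylow p-subgroups are isomorphic to P, then G has p-length at most 1. -/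
theorem result {G X : Type*} [Group G] [Finite G] [Group X] [Finite X] (p : ℕ) [Fact p.Prime]
    (hX : Cfsg.IsMinimalNonNilpotent X) (P : Sylow p X) (hPn : (P : Subgroup X).Normal) (hP1 : (P : Subgroup X) ≠ ⊥)
    (hG : Cfsg.IsPSolvable p G) (Q : Sylow p G) (hQ : Nonempty (↥(Q : Subgroup G) ≃* ↥(P : Subgroup X))) : Cfsg.PLengthLE p 1 G :=
  Cfsg.Agent.Lib.Helper72.SC.final_of_pieces schAux redAux coreAux p hX P hPn hP1 hG Q hQ

end Cfsg.Agent.S4394
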