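-- Statement S4395: universal minimal non-p-nilpotent (Schmidt) group with given q-part.
import Cfsg.Statements.S4395
import Cfsg.Agent.Lib.Helper55.SchDefs
import Cfsg.Agent.Lib.Helper55.SchNopc
import Cfsg.Agent.Lib.Helper55.SchProperA1
import Cfsg.Agent.Lib.Helper55.SchProperA2
import Cfsg.Agent.Lib.Helper55.SchProperB
import Cfsg.Agent.Lib.Helper55.SchCard
import Cfsg.Agent.Lib.Helper55.SchUniv
import Cfsg.Agent.Lib.Helper55.SchSt1
import Cfsg.Agent.Lib.Helper55.SchSt2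
import Cfsg.Agent.Lib.Helper55.SchSt3
import Cfsg.Agent.Lib.Helper55.SchPexOdd
import Cfsg.Agent.Lib.Helper55.SchPexEvenB
import Cfsg.Agent.Lib.Helper55.SchSemi

set_option autoImplicit false
universe u
open Cfsg

namespace Cfsg.Agent.S4395

open Cfsg.Agent.Lib.Helper55.SCH

/-- The field with `p ^ a` elements contains an element of multiplicative order `q`. -/
theorem exists_hyp (p q a : ℕ) [hp : Fact p.Prime] [hq : Fact q.Prime] (hpq : p ≠ q)
    (ha : a = orderOf (p : ZMod q)) :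
    ∃ ζ : GaloisField p a, Hyp p q a (GaloisField p a) ζ := by
  have hpne : (p : ZMod q) ≠ 0 := by
    intro h
    rw [ZMod.natCast_eq_zero_iff] at h
    exact hpq ((Nat.prime_dvd_prime_iff_eq hq.out hp.out).1 h).symm
  have hpow : (p : ZMod q) ^ (q - 1) = 1 := ZMod.pow_card_sub_one_eq_one hpne
  have ha0 : a ≠ 0 := by
    rw [ha]
    intro h0
    rw [orderOf_eq_zero_iff'] at h0
    exact h0 (q - 1) (by have := hq.out.two_le; omega) hpow
  have hcard : Nat.card (GaloisField p a) = p ^ a := GaloisField.card p a ha0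
  have h1 : ((p ^ a : ℕ) : ZMod q) = 1 := by
    rw [Nat.cast_pow, ha]; exact pow_orderOf_eq_one _
  have hdvd : q ∣ p ^ a - 1 := by
    have h2 : ((p ^ a - 1 : ℕ) : ZMod q) = 0 := by
      rw [Nat.cast_sub (Nat.one_le_pow _ _ hp.out.pos), h1]; simp
    exact (ZMod.natCast_eq_zero_iff _ _).1 h2
  have hu : Nat.card (GaloisField p a)ˣ = p ^ a - 1 := by
    rw [Nat.card_units, hcard]
  obtain ⟨u, hu'⟩ := exists_prime_orderOf_dvd_card' (G := (GaloisField p a)ˣ) q
    (by rw [hu]; exact hdvd)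
  refine ⟨(u : GaloisField p a), ⟨hp.out, hq.out, hpq, inferInstance, inferInstance, hcard, ?_, ha⟩⟩
  rw [orderOf_units]; exact hu'

/-- Transport of the `p`-part to an arbitrary universe and formation of the semidirect product. -/
theorem semi_lift {p q a r : ℕ} {F : Type} [Field F] {ζ : F} (H : Hyp p q a F ζ) (hr : 1 ≤ r)
    (k : ℕ) (hP : PEx q ζ (p ^ k)) :
    ∃ (G₀ : Type u) (_ : Group G₀) (_ : Finite G₀) (S : Sch p q r ζ G₀),
      Nat.card ↥S.P = p ^ k := by
  obtain ⟨U, _, _, ρ, τ, hsurj, hcard, hτ, hker, hmin, hq'⟩ := hP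
  let e : ULift.{u} U ≃* U := MulEquiv.ulift
  let ρ' : ULift.{u} U →* Multiplicative F := ρ.comp e.toMonoidHom
  let τ' : MulAut (ULift.{u} U) := e.trans (τ.trans e.symm)
  have hρ' : ∀ v, ρ' v = ρ (e v) := fun v => rfl
  have hτ' : ∀ v, τ' v = e.symm (τ (e v)) := fun v => rfl
  have hpow : ∀ n : ℕ, ∀ v, (τ' ^ n) v = e.symm ((τ ^ n) (e v)) := by
    intro n
    induction n with
    | zero => intro v; simp
    | succ n ih =>
      intro v
      rw [pow_succ, pow_succ, MulAut.mul_apply, MulAut.mul_apply, ih, hτ', MulEquiv.apply_symm_apply]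
  refine semi H hr k ?_ ρ' τ' ?_ ?_ ?_ ?_ ?_
  · rw [Nat.card_congr e.toEquiv, hcard]
  · intro x
    obtain ⟨w, hw⟩ := hsurj x
    exact ⟨e.symm w, by rw [hρ', MulEquiv.apply_symm_apply, hw]⟩
  · intro v
    rw [hρ', hρ', hτ', MulEquiv.apply_symm_apply]
    exact hτ (e v)
  · intro v hv
    have hv' : ρ (e v) = 1 := hv
    obtain ⟨h1, h2⟩ := hker (e v) hv'
    refine ⟨?_, ?_⟩
    · rw [hτ', h1, MulEquiv.symm_apply_apply]
    · intro w
      apply e.injective
      rw [map_mul, map_mul]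
      exact h2 (e w)
  · intro S hS
    have hS' := hmin (S.map e.toMonoidHom) (by
      intro x
      obtain ⟨s, hs, hsx⟩ := hS x
      exact ⟨e s, ⟨s, hs, rfl⟩, hsx⟩)
    rw [eq_top_iff]
    intro v _
    have hv : e v ∈ S.map e.toMonoidHom := by rw [hS']; trivial
    obtain ⟨s, hs, hse⟩ := hv
    have hsv : s = v := e.injective hse
    rw [← hsv]
    exact hs
  · intro v
    rw [hpow, hq', MulEquiv.symm_apply_apply]

/-- Every proper subgroup of a group with a Schmidt structure has a normal `p`-complement. -/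
theorem proper_pc {p q a r : ℕ} {F : Type} [Field F] {ζ : F} (H : Hyp p q a F ζ)
    {X : Type u} [Group X] [Finite X] (S : Sch p q r ζ X) (K : Subgroup X) (hK : K ≠ ⊤) :
    Cfsg.HasNormalPComplement p ↥K := by
  obtain ⟨w, hwK, ⟨n, hn⟩, hgen⟩ := exists_qelt H.hp H.hq H.hpq S K
  have hcomm := qelt_centralizes H S K hK w hwK n hn hgen
  refine hasNormalPComplement_of_struct H.hp H.hq H.hpq ((K ⊓ S.P).subgroupOf K) ?_ ⟨w, hwK⟩ n
    ?_ ?_ ?_
  · exact (S.pgroup.to_le inf_le_right).comap_subtype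
  · rw [Subgroup.orderOf_mk]; exact hn
  · intro k
    obtain ⟨h, hh, i, hi⟩ := hgen k k.2
    refine ⟨⟨h, hh.1⟩, ?_, i, ?_⟩
    · rw [Subgroup.mem_subgroupOf]; exact hh
    · apply Subtype.ext
      rw [Subgroup.coe_mul, Subgroup.coe_pow]
      exact hi
  · intro h hh
    apply Subtype.ext
    rw [Subgroup.coe_mul, Subgroup.coe_mul]
    exact hcomm h (Subgroup.mem_subgroupOf.1 hh)

/-- A minimal non-`p`-nilpotent group of order `p ^ t * q ^ r` carries a Schmidt structure. -/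
theorem univ_part {p q a r : ℕ} [Fact p.Prime] {F : Type} [Field F] {ζ : F} (H : Hyp p q a F ζ)
    (hr : 1 ≤ r) {X : Type u} [Group X] [Finite X]
    (h1 : ¬ Cfsg.HasNormalPComplement p X)
    (h2 : ∀ K : Subgroup X, K ≠ ⊤ → Cfsg.HasNormalPComplement p ↥K)
    (t : ℕ) (ht : Nat.card X = p ^ t * q ^ r) : Nonempty (Sch p q r ζ X) := by
  obtain ⟨P, y, hN, hP, hy, hgen, hint, hnc, hmin, hyq⟩ := struct1 H.hq H.hpq hr h1 h2 ht
  obtain ⟨Z, hZP, hZne, hZc, hZmax, hZcomm, hZfix⟩ :=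
    struct2 H.hp H.hq H.hpq P y hN hP hy hgen hnc hmin
  exact struct3 H P y hN hP hy hgen hint hyq Z hZP hZne hZc hZmax hZcomm hZfix

/-- Let p ≠ q be primes, r ≥ 1, a the multiplicative order of p modulo q, and a₀ = a when a is odd, a₀ = 3a/2 when a is even. Call a finite group minimal non-p-nilpotent when it has no normal p-complement but every proper subgroup has one. Then there is a minimal non-p-nilpotent group G₀ of order p^a₀ · q^r such that every minimal non-p-nilpotent group of order p^t · q^r (any t) is a quotient of G₀ by a central subgroup. -/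
theorem result (p q r : ℕ) [Fact p.Prime] [Fact q.Prime] (hpq : p ≠ q) (hr : 1 ≤ r) (a a₀ : ℕ)
    (ha : a = orderOf (p : ZMod q)) (ha₀ : a₀ = if a % 2 = 1 then a else 3 * a / 2) :
    ∃ (G₀ : Type u) (_ : Group G₀) (_ : Finite G₀),
      (¬ Cfsg.HasNormalPComplement p G₀ ∧ ∀ K : Subgroup G₀, K ≠ ⊤ → Cfsg.HasNormalPComplement p ↥K) ∧ Nat.card G₀ = p ^ a₀ * q ^ r ∧
      ∀ (X : Type u) [Group X] [Finite X], (¬ Cfsg.HasNormalPComplement p X ∧ ∀ K : Subgroup X, K ≠ ⊤ → Cfsg.HasNormalPComplement p ↥K) →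
        (∃ t : ℕ, Nat.card X = p ^ t * q ^ r) → ∃ φ : G₀ →* X, Function.Surjective φ ∧ φ.ker ≤ Subgroup.center G₀ := by
  obtain ⟨ζ, H⟩ := exists_hyp p q a hpq ha
  have hP : PEx q ζ (p ^ a₀) := by
    by_cases hodd : a % 2 = 1
    · rw [ha₀, if_pos hodd]; exact pex_odd H
    · rw [ha₀, if_neg hodd]; exact pex_even H (by omega)
  obtain ⟨G₀, _, _, S₀, hcP⟩ := semi_lift.{u} H hr a₀ hP
  refine ⟨G₀, inferInstance, inferInstance,
    ⟨not_hasNormalPComplement H S₀, fun K hK => proper_pc H S₀ K hK⟩, ?_, ?_⟩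
  · rw [card_eq S₀, hcP]
  · intro X _ _ hX hXc
    obtain ⟨h1, h2⟩ := hX
    obtain ⟨t, ht⟩ := hXc
    obtain ⟨S⟩ := univ_part H hr h1 h2 t ht
    exact exists_surj S₀ S H a₀ ha₀ hcP

end Cfsg.Agent.S4395
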