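import Cfsg.Statements.S4403
import Cfsg.Agent.Lib.Helper30.PType
import Cfsg.Agent.S4145

set_option autoImplicit false
open Cfsg

namespace Cfsg.Agent.S4403

open Cfsg.Agent.Lib.Helper30
open scoped commutatorElement
open scoped IsMulCommutative

/-- In a perfect finite group, a central element lying in a commutative Sylow subgroup is
trivial (transfer into the Sylow subgroup). -/
theorem central_mem_sylow_eq_one {L : Type*} [Group L] [Finite L] (p : ℕ) [Fact p.Prime]
    (hperf : commutator L = ⊤) (R : Sylow p L)
    (hR : ∀ a ∈ (R : Subgroup L), ∀ b ∈ (R : Subgroup L), a * b = b * a)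
    (z : L) (hzR : z ∈ (R : Subgroup L)) (hzc : z ∈ Subgroup.center L) : z = 1 := by
  haveI : IsMulCommutative (R : Subgroup L) := ⟨⟨fun a b => Subtype.ext (hR a a.2 b b.2)⟩⟩
  have key : ∀ (k : ℕ) (g₀ : L), g₀⁻¹ * z ^ k * g₀ ∈ (R : Subgroup L) →
      g₀⁻¹ * z ^ k * g₀ = z ^ k := by
    intro k g₀ _
    have h1 : z ^ k ∈ Subgroup.center L := Subgroup.pow_mem _ hzc k
    have h2 := Subgroup.mem_center_iff.mp h1 g₀
    rw [mul_assoc, ← h2, inv_mul_cancel_left]
  have h1 := MonoidHom.transfer_eq_pow (A := (R : Subgroup L)) (MonoidHom.id (R : Subgroup L)) z key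
  have h2 : MonoidHom.transfer (MonoidHom.id (R : Subgroup L)) z = 1 := by
    have h3 : commutator L ≤ (MonoidHom.transfer (MonoidHom.id (R : Subgroup L))).ker :=
      Abelianization.commutator_subset_ker _
    rw [hperf] at h3
    exact h3 (Subgroup.mem_top z)
  rw [h2] at h1
  have h3 : z ^ (R : Subgroup L).index = 1 := by
    have := congrArg Subtype.val h1
    simpa using this.symm
  obtain ⟨k, hk⟩ := R.isPGroup' ⟨z, hzR⟩
  have hk' : z ^ p ^ k = 1 := by simpa using congrArg Subtype.val hk
  have hcop : Nat.Coprime (p ^ k) (R : Subgroup L).index :=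
    Nat.Coprime.pow_left _ ((Fact.out : p.Prime).coprime_iff_not_dvd.mpr R.not_dvd_index)
  have h4 : orderOf z ∣ Nat.gcd (p ^ k) (R : Subgroup L).index :=
    Nat.dvd_gcd (orderOf_dvd_of_pow_eq_one hk') (orderOf_dvd_of_pow_eq_one h3)
  rw [hcop.gcd_eq_one, Nat.dvd_one] at h4
  exact orderOf_eq_one_iff.mp h4

/-- In a cyclic subgroup, an element killed by `p` lies in the subgroup generated by any element
of order `p`. -/
theorem mem_zpowers_of_cyclic {G : Type*} [Group G] [Finite G] (C : Subgroup G) (hC : IsCyclic C)
    (p : ℕ) (hp : 0 < p) (z u : G) (hz : z ∈ C) (hu : u ∈ C) (hzp : orderOf z = p)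
    (hup : u ^ p = 1) : u ∈ Subgroup.zpowers z := by
  classical
  have : Fintype C := Fintype.ofFinite C
  have hle := IsCyclic.card_pow_eq_one_le (α := C) hp
  let z' : C := ⟨z, hz⟩
  let u' : C := ⟨u, hu⟩
  have hz' : orderOf z' = p := by
    rw [← hzp]; exact Subgroup.orderOf_mk z hz
  let T : Finset C := (Finset.range p).image (fun i => z' ^ i)
  have hTcard : T.card = p := by
    rw [Finset.card_image_of_injOn, Finset.card_range]
    intro i hi j hj hij
    simp only [Finset.coe_range, Set.mem_Iio] at hi hj
    have := pow_injOn_Iio_orderOf (x := z') (by rw [hz']; exact hi) (by rw [hz']; exact hj) hij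
    exact this
  have hTsub : T ⊆ Finset.univ.filter (fun a : C => a ^ p = 1) := by
    intro a ha
    obtain ⟨i, _, rfl⟩ := Finset.mem_image.mp ha
    simp only [Finset.mem_filter, Finset.mem_univ, true_and]
    rw [← pow_mul, mul_comm, pow_mul, ← hz', pow_orderOf_eq_one, one_pow]
  have hTeq : T = Finset.univ.filter (fun a : C => a ^ p = 1) :=
    Finset.eq_of_subset_of_card_le hTsub (by rw [hTcard]; exact hle)
  have hu' : u' ∈ T := by
    rw [hTeq]
    simp only [Finset.mem_filter, Finset.mem_univ, true_and]
    exact Subtype.ext (by simpa using hup)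
  obtain ⟨i, _, hi⟩ := Finset.mem_image.mp hu'
  rw [Subgroup.mem_zpowers_iff]
  refine ⟨(i : ℤ), ?_⟩
  rw [zpow_natCast]
  have := congrArg Subtype.val hi
  simpa using this

/-- Two subgroups of order divisible by `p` inside a cyclic subgroup share a nontrivial element. -/
theorem exists_common_of_cyclic {K : Type*} [Group K] [Finite K] (p : ℕ) [Fact p.Prime]
    (Q : Subgroup K) (hQc : IsCyclic Q) (A B : Subgroup K) (hA : A ≤ Q) (hB : B ≤ Q)
    (hAp : p ∣ Nat.card A) (hBp : p ∣ Nat.card B) : ∃ z : K, z ≠ 1 ∧ z ∈ A ∧ z ∈ B := by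
  obtain ⟨a, ha⟩ := exists_prime_orderOf_dvd_card' p hAp
  obtain ⟨b, hb⟩ := exists_prime_orderOf_dvd_card' p hBp
  have ha' : orderOf (a : K) = p := by rw [Subgroup.orderOf_coe]; exact ha
  have hb' : orderOf (b : K) = p := by rw [Subgroup.orderOf_coe]; exact hb
  have hbp : (b : K) ^ p = 1 := by rw [← hb']; exact pow_orderOf_eq_one _
  have hmem := mem_zpowers_of_cyclic Q hQc p (Fact.out : p.Prime).pos (a : K) (b : K)
    (hA a.2) (hB b.2) ha' hbp
  refine ⟨(b : K), ?_, ?_, b.2⟩
  · intro h1
    rw [h1, orderOf_one] at hb'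
    exact (Fact.out : p.Prime).one_lt.ne hb'
  · exact (Subgroup.zpowers_le.mpr a.2) hmem

/-- Let K be a finite group, p a prime dividing its order with O_{p'}(K) = 1 (no nontrivial normal subgroup of order prime to p), and P a cyclic Sylow p-subgroup of K. Then either P is normal and self-centralizing in K with K/P cyclic of order dividing p − 1 (so K is the semidirect product of P by a group of automorphisms of P of order dividing p − 1), or the generalized Fitting subgroup F*(K) is a non-abelian simple group and p does not divide the index of F*(K) in K. -/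
theorem result {K : Type*} [Group K] [Finite K] (p : ℕ) [Fact p.Prime] (hp : p ∣ Nat.card K) (hO : Cfsg.pPrimeCore p K = ⊥)
    (P : Sylow p K) (hP : IsCyclic ↥(P : Subgroup K)) :
    ((P : Subgroup K).Normal ∧ Subgroup.centralizer ((P : Subgroup K) : Set K) = (P : Subgroup K) ∧
      (∀ (_ : (P : Subgroup K).Normal), IsCyclic (K ⧸ (P : Subgroup K))) ∧ (P : Subgroup K).index ∣ p - 1) ∨
    (IsSimpleGroup ↥(Cfsg.generalizedFittingSubgroup K) ∧ ¬ IsMulCommutative ↥(Cfsg.generalizedFittingSubgroup K) ∧
      ¬ p ∣ (Cfsg.generalizedFittingSubgroup K).index) := by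
  have hpp : p.Prime := Fact.out
  have hF : fittingSubgroup K = pCore p K := fitting_eq_pCore_of_pPrimeCore_eq_bot p hO
  have hFp : IsPGroup p (fittingSubgroup K) := by rw [hF]; exact pCore_isPGroup p
  have hFn : (fittingSubgroup K).Normal := fitting_normal
  have hFP : fittingSubgroup K ≤ (P : Subgroup K) := hFp.le_sylow_of_normal P
  -- commutativity inside cyclic subgroups
  have hcycComm : ∀ Q : Subgroup K, IsCyclic Q → ∀ a ∈ Q, ∀ b ∈ Q, a * b = b * a := by
    intro Q hQ a ha b hb
    have := (IsCyclic.commGroup (α := ↥Q)).mul_comm ⟨a, ha⟩ ⟨b, hb⟩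
    exact congrArg Subtype.val this
  have hPcomm := hcycComm (P : Subgroup K) hP
  by_cases hE : layer K = ⊥
  · left
    have hFs : generalizedFittingSubgroup K = fittingSubgroup K := by
      unfold generalizedFittingSubgroup; rw [hE, bot_sup_eq]
    have hcent := centralizer_genFitting_le (G := K)
    rw [hFs] at hcent
    have hPle : (P : Subgroup K) ≤ fittingSubgroup K := by
      intro x hx
      apply hcent
      rw [Subgroup.mem_centralizer_iff]
      intro y hy
      exact hPcomm y (hFP hy) x hx
    have hPF : (P : Subgroup K) = fittingSubgroup K := le_antisymm hPle hFP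
    have hPn : (P : Subgroup K).Normal := by rw [hPF]; exact hFn
    have hCP : Subgroup.centralizer ((P : Subgroup K) : Set K) = (P : Subgroup K) := by
      apply le_antisymm
      · intro x hx
        rw [hPF] at hx ⊢
        exact hcent hx
      · intro x hx
        rw [Subgroup.mem_centralizer_iff]
        intro y hy
        exact hPcomm y hy x hx
    haveI := hPn
    let φ : K →* MulAut (P : Subgroup K) := MulAut.conjNormal
    have hker : ∀ x : K, φ x = 1 → x ∈ (P : Subgroup K) := by
      intro x hx
      rw [← hCP, Subgroup.mem_centralizer_iff]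
      intro h hh
      have h1 : ((φ x) ⟨h, hh⟩ : K) = x * h * x⁻¹ := MulAut.conjNormal_apply x ⟨h, hh⟩
      rw [hx] at h1
      have h2 : h = x * h * x⁻¹ := h1
      calc h * x = (x * h * x⁻¹) * x := by rw [← h2]
        _ = x * h := by group
    have hmem : (P : Subgroup K) ≤ φ.ker := by
      intro x hx
      rw [MonoidHom.mem_ker]
      ext ⟨h, hh⟩
      have h1 : ((φ x) ⟨h, hh⟩ : K) = x * h * x⁻¹ := MulAut.conjNormal_apply x ⟨h, hh⟩
      rw [h1]
      show x * h * x⁻¹ = h
      rw [hPcomm x hx h hh]; group
    let ψ : K ⧸ (P : Subgroup K) →* MulAut (P : Subgroup K) := QuotientGroup.lift _ φ hmem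
    have hψ : Function.Injective ψ := by
      rw [injective_iff_map_eq_one]
      intro q hq
      obtain ⟨x, rfl⟩ := QuotientGroup.mk_surjective q
      rw [QuotientGroup.eq_one_iff]
      exact hker x hq
    obtain ⟨n, hn⟩ := IsPGroup.iff_card.mp P.isPGroup'
    have hn0 : 0 < n := by
      rcases Nat.eq_zero_or_pos n with h0 | h0
      · exfalso
        rw [h0, pow_zero] at hn
        exact P.ne_bot_of_dvd_card hp (Subgroup.card_eq_one.mp hn)
      · exact h0
    haveI := hP
    have hidx : (P : Subgroup K).index ∣ p - 1 := by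
      have h1 : Nat.card (K ⧸ (P : Subgroup K)) ∣ Nat.card (MulAut (P : Subgroup K)) :=
        Subgroup.card_dvd_of_injective ψ hψ
      rw [IsCyclic.card_mulAut, hn, Nat.totient_prime_pow hpp hn0] at h1
      have h2 : Nat.Coprime (Nat.card (K ⧸ (P : Subgroup K))) (p ^ (n - 1)) :=
        Nat.Coprime.pow_right _ (Nat.Coprime.symm (hpp.coprime_iff_not_dvd.mpr P.not_dvd_index))
      exact h2.dvd_of_dvd_mul_left h1
    refine ⟨hPn, hCP, ?_, hidx⟩
    intro _
    by_cases hp2 : p = 2
    · have h1 : Nat.card (K ⧸ (P : Subgroup K)) = 1 := by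
        have h3 := hidx
        have e : p - 1 = 1 := by omega
        rw [e] at h3
        exact Nat.dvd_one.mp h3
      have h2 := (Nat.card_eq_one_iff_unique.mp h1).1
      exact isCyclic_of_subsingleton
    · haveI : IsCyclic (ZMod (Nat.card (P : Subgroup K)))ˣ := by
        rw [hn]; exact ZMod.isCyclic_units_of_prime_pow p hpp hp2 n
      haveI : IsCyclic (MulAut (P : Subgroup K)) :=
        isCyclic_of_injective (IsCyclic.mulAutMulEquiv (P : Subgroup K)).toMonoidHom
          (MulEquiv.injective _)
      exact isCyclic_of_injective ψ hψ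
  · right
    obtain ⟨L, hL⟩ : ∃ L : Subgroup K, IsComponent L := by
      by_contra hno
      push Not at hno
      exact hE (layer_eq_bot_iff.mpr hno)
    have hcyc : ∀ Q : Sylow p K, IsCyclic (Q : Subgroup K) := fun Q =>
      haveI := hP
      isCyclic_of_surjective (Sylow.equiv P Q).toMonoidHom (Sylow.equiv P Q).surjective
    have hpL : ∀ L : Subgroup K, IsComponent L → p ∣ Nat.card L := by
      intro L hL
      by_contra hnd
      have hcop : (Nat.card L).Coprime p := Nat.Coprime.symm (hpp.coprime_iff_not_dvd.mpr hnd)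
      have h1 := le_pPrimeCore_of_subnormal hL.1 hcop
      rw [hO, le_bot_iff] at h1
      exact comp_ne_bot hL h1
    -- no nontrivial p-subgroup centralizes a component
    have hX : ∀ L : Subgroup K, IsComponent L → ∀ H : Subgroup K, IsPGroup p H →
        (∀ h ∈ H, ∀ l ∈ L, h * l = l * h) → H = ⊥ := by
      intro L hL H hH hcomm
      by_contra hne
      let R : Sylow p L := default
      set R' : Subgroup K := (R : Subgroup L).map L.subtype with hR'
      have hR'p : IsPGroup p R' := R.isPGroup'.map L.subtype
      have hR'L : R' ≤ L := by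
        rintro _ ⟨r, _, rfl⟩
        exact r.2
      have hsup : IsPGroup p (R' ⊔ H : Subgroup K) := by
        apply IsPGroup.to_sup_of_normal_right' hR'p hH
        intro x hx
        rw [Subgroup.mem_normalizer_iff]
        intro h
        constructor
        · intro hh
          have h1 : x * h * x⁻¹ = h := by
            rw [← hcomm h hh x (hR'L hx)]; group
          rw [h1]; exact hh
        · intro hh
          have h1 := hcomm _ hh x (hR'L hx)
          have h2 : h = x * h * x⁻¹ := by
            have h3 : x * h * x⁻¹ = x⁻¹ * (x * h * x⁻¹ * x) := by rw [h1]; group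
            rw [h3]; group
          rw [h2]; exact hh
      obtain ⟨Q, hQ⟩ := hsup.exists_le_sylow
      have hR'card : p ∣ Nat.card R' := by
        rw [hR', card_map_subtype]
        exact R.dvd_card_of_dvd_card (hpL L hL)
      have hHcard : p ∣ Nat.card H := by
        obtain ⟨k, hk⟩ := IsPGroup.iff_card.mp hH
        rcases Nat.eq_zero_or_pos k with h0 | h0
        · exfalso
          rw [h0, pow_zero] at hk
          exact hne (Subgroup.card_eq_one.mp hk)
        · rw [hk]; exact dvd_pow_self p h0.ne'
      obtain ⟨z, hz1, hzR, hzH⟩ := exists_common_of_cyclic p Q (hcyc Q) R' H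
        (le_sup_left.trans hQ) (le_sup_right.trans hQ) hR'card hHcard
      obtain ⟨z', hz'R, rfl⟩ := hzR
      have hz'c : z' ∈ Subgroup.center L := by
        rw [Subgroup.mem_center_iff]
        intro g
        apply Subtype.ext
        exact (hcomm _ hzH g.1 g.2).symm
      have hperf : commutator L = ⊤ := hL.2.1.commutator_eq_top
      have hRcomm : ∀ a ∈ (R : Subgroup L), ∀ b ∈ (R : Subgroup L), a * b = b * a := by
        intro a ha b hb
        apply Subtype.ext
        exact hcycComm (Q : Subgroup K) (hcyc Q) a.1
          ((le_sup_left.trans hQ) ⟨a, ha, rfl⟩) b.1 ((le_sup_left.trans hQ) ⟨b, hb, rfl⟩)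
      have h1 := central_mem_sylow_eq_one p hperf R hRcomm z' hz'R hz'c
      exact hz1 (by rw [h1]; rfl)
    have hFbot : fittingSubgroup K = ⊥ := by
      apply hX L hL _ hFp
      intro h hh l hl
      exact (commute_of_commutator_eq_bot (comp_commutator_fitting hL) l hl h hh).symm
    have huniq : ∀ L' : Subgroup K, IsComponent L' → L' = L := by
      intro L' hL'
      by_contra hne
      have hcomm := commute_of_commutator_eq_bot (components_commute hL hL' (Ne.symm hne))
      let R : Sylow p L' := default
      have hRne := R.ne_bot_of_dvd_card (hpL L' hL')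
      have h1 := hX L hL ((R : Subgroup L').map L'.subtype) (R.isPGroup'.map _) (by
        rintro _ ⟨r, _, rfl⟩ l hl
        exact (hcomm l hl r.1 r.2).symm)
      exact hRne ((Subgroup.map_eq_bot_iff_of_injective _ (Subgroup.subtype_injective _)).mp h1)
    have hlayer : layer K = L := by
      apply le_antisymm
      · apply sSup_le
        intro L' hL'
        rw [huniq L' hL']
      · exact comp_le_layer hL
    have hFstar : generalizedFittingSubgroup K = L := by
      unfold generalizedFittingSubgroup; rw [hlayer, hFbot, sup_bot_eq]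
    have hZ : Subgroup.center L = ⊥ := by
      have hsn : ((Subgroup.center L).map L.subtype).IsSubnormal :=
        (Subgroup.Normal.isSubnormal inferInstance).trans' hL.1
      have hnil0 : Group.IsNilpotent ↥(Subgroup.center L) :=
        ⟨⟨1, Subgroup.upperCentralSeries_one_eq_top_iff.mpr inferInstance⟩⟩
      have hnil : Group.IsNilpotent ↥((Subgroup.center L).map L.subtype) :=
        Group.nilpotent_of_mulEquiv
          ((Subgroup.center L).equivMapOfInjective L.subtype L.subtype_injective)
      have h1 := le_fitting_of_subnormal_nilpotent hsn hnil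
      rw [hFbot, le_bot_iff] at h1
      exact (Subgroup.map_eq_bot_iff_of_injective _ (Subgroup.subtype_injective _)).mp h1
    have hLsimple : IsSimpleGroup ↥L := by
      haveI := hL.2.2
      have hbij : Function.Bijective (QuotientGroup.mk' (Subgroup.center L)) := by
        refine ⟨?_, QuotientGroup.mk'_surjective _⟩
        rw [← MonoidHom.ker_eq_bot_iff, QuotientGroup.ker_mk', hZ]
      exact (MulEquiv.ofBijective _ hbij).isSimpleGroup
    have hLn : L.Normal := by rw [← hFstar]; exact genFitting_normal
    rw [hFstar]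
    refine ⟨hLsimple, ?_, ?_⟩
    · intro hcomm
      exact comp_not_solvable hL (Group.isSolvable_of_comm (fun a b => hcomm.is_comm.comm a b))
    · intro hdvd
      haveI := hLn
      obtain ⟨⟨R, N, hNn, hcompl⟩, -⟩ := Cfsg.Agent.S4145.result p P hP L (hpL L hL) hdvd
      have hcard := hcompl.card_mul_card
      haveI := hLsimple
      rcases hNn.eq_bot_or_eq_top with h1 | h1
      · rw [h1, Subgroup.card_bot, one_mul] at hcard
        have hLp : IsPGroup p ↥L := by
          obtain ⟨k, hk⟩ := IsPGroup.iff_card.mp R.isPGroup'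
          exact IsPGroup.of_card (hcard ▸ hk)
        exact comp_not_solvable hL (isSolvable_of_isPGroup hLp)
      · rw [h1, Subgroup.card_top] at hcard
        have h2 : Nat.card (R : Subgroup L) = 1 := by
          have hpos : 0 < Nat.card ↥L := Nat.card_pos
          exact Nat.eq_of_mul_eq_mul_left hpos (by rw [hcard, mul_one])
        exact R.ne_bot_of_dvd_card (hpL L hL) (Subgroup.card_eq_one.mp h2)

end Cfsg.Agent.S4403
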