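import Cfsg.Statements.S4408
import Cfsg.Agent.S1349
import Cfsg.Agent.Lib.Helper61.QuatQuot

set_option autoImplicit false
open Cfsg

namespace Cfsg.Agent.S4408

open Subgroup
open Cfsg.Agent.S1349 Cfsg.Agent.Lib.Helper30 Cfsg.Agent.Lib.Helper61

/-- Let S be a finite solvable group whose Fitting subgroup F(S) has odd order, and let I be an elementary abelian 2-subgroup of S of order 2ⁿ with n ≥ 1. Then F(S) contains subgroups A₁, …, Aₙ of prime order, each normalized by I, pairwise commuting and generating a subgroup A of order |A₁|⋯|Aₙ| (their internal direct product), such that no non-identity element of I centralizes A. -/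
theorem result {S : Type*} [Group S] [Finite S]
    [Group.IsSolvable S] (hF : Odd (Nat.card ↥(Cfsg.fittingSubgroup S)))
    (I : Subgroup S) (hI : Cfsg.IsElementaryAbelian 2 I) (n : ℕ) (hn : 1 ≤ n) (hIn : Nat.card ↥I = 2 ^ n) :
    ∃ f : Fin n → Subgroup S, (∀ i, (Nat.card ↥(f i)).Prime) ∧ (∀ i, f i ≤ Cfsg.fittingSubgroup S) ∧
      (∀ i, I ≤ Subgroup.normalizer ((f i) : Set S)) ∧ (∀ i j, i ≠ j → ∀ a ∈ f i, ∀ b ∈ f j, a * b = b * a) ∧
      Nat.card ↥(⨆ i, f i) = ∏ i, Nat.card ↥(f i) ∧ I ⊓ Subgroup.centralizer ((⨆ i, f i : Subgroup S) : Set S) = ⊥ := by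
  have hFn : (fittingSubgroup S).Normal := fitting_normal
  have hIF : I ≤ Subgroup.normalizer ((fittingSubgroup S : Subgroup S) : Set S) :=
    le_normalizer_of_conj_mem (fun g _ x hx => hFn.conj_mem x hx g)
  have hsolvF : Group.IsSolvable ↥(fittingSubgroup S) := inferInstance
  have hoddF : ∀ x ∈ fittingSubgroup S, x * x = 1 → x = 1 := by
    intro x hx hxx
    have := odd_sq (L := ↥(fittingSubgroup S)) hF (x := ⟨x, hx⟩) (Subtype.ext hxx)
    exact congrArg Subtype.val this
  have hfaith : I ⊓ Subgroup.centralizer ((fittingSubgroup S : Subgroup S) : Set S) = ⊥ := by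
    rw [eq_bot_iff]
    rintro x ⟨hxI, hxC⟩
    have hxF : x ∈ fittingSubgroup S := fitting_facts (L := S) inferInstance hxC
    have h2 := hI.2 x hxI
    rw [pow_two] at h2
    rw [mem_bot]
    exact hoddF x hxF h2
  have hφ : Act (conjAct (fittingSubgroup S) I hIF) :=
    ⟨fun a => Subtype.ext (by
        have := hI.2 a.1 a.2
        rw [pow_two] at this
        exact this),
      fun a b => hI.1.is_comm.comm a b⟩
  have hinj : Function.Injective (conjAct (fittingSubgroup S) I hIF) := by
    rw [injective_iff_map_eq_one]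
    intro a ha
    have : (a : S) ∈ I ⊓ Subgroup.centralizer ((fittingSubgroup S : Subgroup S) : Set S) := by
      refine ⟨a.2, fun x hx => ?_⟩
      have h1 : ((conjAct (fittingSubgroup S) I hIF a ⟨x, hx⟩ : ↥(fittingSubgroup S)) : S) = x := by
        rw [ha]; rfl
      rw [conjAct_apply] at h1
      calc x * (a : S) = ((a : S) * x * (a : S)⁻¹) * (a : S) := by rw [h1]
        _ = (a : S) * x := by group
    rw [hfaith, Subgroup.mem_bot] at this
    exact Subtype.ext this
  obtain ⟨b, y, h1, h2, h3, h4⟩ := abstract_main hF hsolvF hφ hinj n hIn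
  have hinv : ∀ i, (b i : S) * (y i : S) * (b i : S)⁻¹ = (y i : S)⁻¹ := by
    intro i
    have := congrArg (Subtype.val) (h1 i).1
    rw [conjAct_apply] at this
    exact this
  have hy1 : ∀ i, (y i : S) ≠ 1 := fun i h => (h1 i).2 (Subtype.ext h)
  have hbsq : ∀ i, (b i : S) * (b i : S) = 1 := fun i => congrArg Subtype.val (hφ.sq (b i))
  have hfix : ∀ i j, i ≠ j → (b i : S) * (y j : S) = (y j : S) * (b i : S) := by
    intro i j hij
    have := congrArg (Subtype.val) (h2 i j hij)
    rw [conjAct_apply] at this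
    calc (b i : S) * (y j : S) = ((b i : S) * (y j : S) * (b i : S)⁻¹) * (b i : S) := by group
      _ = (y j : S) * (b i : S) := by rw [this]
  have hyy : ∀ i j, (y i : S) * (y j : S) = (y j : S) * (y i : S) :=
    fun i j => congrArg Subtype.val (h3 i j)
  -- elements of prime order
  have hex : ∀ i, ∃ (p k : ℕ), p.Prime ∧ orderOf ((y i : S) ^ k) = p := by
    intro i
    have hne1 : orderOf (y i : S) ≠ 1 := fun h => hy1 i (orderOf_eq_one_iff.mp h)
    obtain ⟨p, hp, hpd⟩ := Nat.exists_prime_and_dvd hne1
    exact ⟨p, orderOf (y i : S) / p, hp, orderOf_pow_orderOf_div (orderOf_pos _).ne' hpd⟩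
  choose p k hp hk using hex
  obtain ⟨w, hw⟩ : ∃ w : Fin n → S, ∀ i, w i = (y i : S) ^ k i := ⟨_, fun _ => rfl⟩
  have hwo : ∀ i, orderOf (w i) = p i := fun i => by rw [hw]; exact hk i
  have hwF : ∀ i, w i ∈ fittingSubgroup S := fun i => by rw [hw]; exact pow_mem (y i).2 _
  have hwne : ∀ i, w i ≠ 1 := by
    intro i h
    have := hwo i
    rw [h, orderOf_one] at this
    exact (hp i).one_lt.ne this
  have hwinv : ∀ i, (b i : S) * w i * (b i : S)⁻¹ = (w i)⁻¹ := by
    intro i
    rw [hw, ← conj_pow, hinv, inv_pow]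
  have hwfix : ∀ i j, i ≠ j → (b i : S) * w j = w j * (b i : S) := by
    intro i j hij
    rw [hw]
    exact (Commute.pow_right (hfix i j hij) _).eq
  have hwcomm : ∀ i j, Commute (w i) (w j) := by
    intro i j
    rw [hw, hw]
    exact Commute.pow_pow (hyy i j) _ _
  -- an element of `⟨w i⟩` commuting with `b i` is trivial
  have hkey : ∀ i, ∀ x ∈ zpowers (w i), (b i : S) * x = x * (b i : S) → x = 1 := by
    intro i x hx hcomm
    have hxF : x ∈ fittingSubgroup S := (zpowers_le.mpr (hwF i)) hx
    obtain ⟨s, rfl⟩ := mem_zpowers_iff.mp hx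
    have e1 : (b i : S) * w i ^ s * (b i : S)⁻¹ = (w i ^ s)⁻¹ := by
      rw [← conj_zpow, hwinv, inv_zpow]
    have e2 : (b i : S) * w i ^ s * (b i : S)⁻¹ = w i ^ s := by
      rw [hcomm, mul_inv_cancel_right]
    apply hoddF _ hxF
    nth_rewrite 1 [← e2]
    rw [e1, inv_mul_cancel]
  refine ⟨fun i => zpowers (w i), fun i => ?_, fun i => ?_, fun i => ?_, ?_, ?_, ?_⟩
  · show (Nat.card ↥(zpowers (w i))).Prime
    rw [Nat.card_zpowers, hwo]
    exact hp i
  · exact zpowers_le.mpr (hwF i)
  · show I ≤ Subgroup.normalizer ((zpowers (w i) : Subgroup S) : Set S)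
    have hmem : ∀ j, (b j : S) * w i * (b j : S)⁻¹ ∈ zpowers (w i) := by
      intro j
      by_cases hji : j = i
      · subst hji; rw [hwinv]; exact inv_mem (mem_zpowers _)
      · rw [hwfix j i hji, mul_inv_cancel_right]; exact mem_zpowers _
    have hle : closure (Set.range b) ≤
        (Subgroup.normalizer ((zpowers (w i) : Subgroup S) : Set S)).comap I.subtype := by
      rw [closure_le]
      rintro _ ⟨j, rfl⟩
      show (b j : S) ∈ Subgroup.normalizer ((zpowers (w i) : Subgroup S) : Set S)
      apply mem_normalizer_zpowers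
      · exact hmem j
      · have hbinv : (b j : S)⁻¹ = b j := inv_eq_of_mul_eq_one_left (hbsq j)
        have e : (b j : S)⁻¹ * w i * (b j : S) = (b j : S) * w i * (b j : S)⁻¹ := by
          rw [hbinv]
        rw [e]
        exact hmem j
    intro a ha
    have : (⟨a, ha⟩ : ↥I) ∈ closure (Set.range b) := by rw [h4]; exact mem_top _
    exact hle this
  · intro i j hij a ha c hc
    obtain ⟨s, rfl⟩ := mem_zpowers_iff.mp ha
    obtain ⟨t, rfl⟩ := mem_zpowers_iff.mp hc
    exact (Commute.zpow_zpow (hwcomm i j) s t).eq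
  · have hcomm : Pairwise fun i j : Fin n =>
        ∀ x y : S, x ∈ zpowers (w i) → y ∈ zpowers (w j) → Commute x y := by
      intro i j _ x y hx hy
      obtain ⟨s, rfl⟩ := mem_zpowers_iff.mp hx
      obtain ⟨t, rfl⟩ := mem_zpowers_iff.mp hy
      exact Commute.zpow_zpow (hwcomm i j) s t
    have hind : iSupIndep (fun i : Fin n => zpowers (w i)) := by
      intro i
      rw [Subgroup.disjoint_def]
      intro x hx hx'
      have hle : (⨆ (j : Fin n) (_ : j ≠ i), zpowers (w j)) ≤ centralizer ({(b i : S)} : Set S) := by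
        refine iSup₂_le fun j hj => ?_
        rw [zpowers_le, mem_centralizer_iff]
        intro c hc
        rw [Set.mem_singleton_iff] at hc
        rw [hc]
        exact hwfix i j (Ne.symm hj)
      have h5 := hle hx'
      rw [mem_centralizer_iff] at h5
      exact hkey i x hx (h5 _ rfl)
    have hinjψ := Subgroup.injective_noncommPiCoprod_of_iSupIndep (hcomm := hcomm) hind
    have hrange := Subgroup.noncommPiCoprod_range (hcomm := hcomm)
    calc Nat.card ↥(⨆ i, zpowers (w i))
        = Nat.card ↥(Subgroup.noncommPiCoprod hcomm).range := by rw [hrange]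
      _ = Nat.card (∀ i : Fin n, ↥(zpowers (w i))) :=
          (Nat.card_congr (MonoidHom.ofInjective hinjψ).toEquiv).symm
      _ = ∏ i, Nat.card ↥(zpowers (w i)) := Nat.card_pi
  · -- faithfulness, by a chain of centralizers
    obtain ⟨K, hK⟩ : ∃ K : ℕ → Subgroup S, ∀ m, K m =
        I ⊓ centralizer ({x | ∃ i : Fin n, i.val < m ∧ x = w i} : Set S) := ⟨_, fun _ => rfl⟩
    have hchain : ∀ m, m ≤ n → Nat.card (K m) * 2 ^ m ≤ 2 ^ n := by
      intro m
      induction m with
      | zero =>
        intro _
        rw [pow_zero, mul_one, ← hIn, hK]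
        exact Subgroup.card_le_of_le inf_le_left
      | succ m ih =>
        intro hm
        have ih' := ih (by omega)
        have hle : K (m + 1) ≤ K m := by
          rw [hK, hK]
          refine inf_le_inf_left I (centralizer_le ?_)
          rintro x ⟨i, hi, rfl⟩
          exact ⟨i, by omega, rfl⟩
        have hb_in : (b ⟨m, by omega⟩ : S) ∈ K m := by
          rw [hK]
          refine Subgroup.mem_inf.mpr ⟨(b ⟨m, by omega⟩).2, ?_⟩
          rw [mem_centralizer_iff]
          rintro x ⟨i, hi, rfl⟩
          refine (hwfix ⟨m, by omega⟩ i ?_).symm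
          intro h
          rw [← h] at hi
          exact lt_irrefl _ hi
        have hb_out : (b ⟨m, by omega⟩ : S) ∉ K (m + 1) := by
          rw [hK]
          intro hmem
          have hc := (Subgroup.mem_inf.mp hmem).2
          rw [mem_centralizer_iff] at hc
          have h5 := hc (w ⟨m, by omega⟩) ⟨⟨m, by omega⟩, Nat.lt_succ_self m, rfl⟩
          exact hwne _ (hkey _ _ (mem_zpowers _) h5.symm)
        obtain ⟨d, hd⟩ := Subgroup.card_dvd_of_le hle
        have hd2 : 2 ≤ d := by
          by_contra hd1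
          have hd' : d = 0 ∨ d = 1 := by omega
          rcases hd' with rfl | rfl
          · rw [mul_zero] at hd
            have := Nat.card_pos (α := ↥(K m))
            omega
          · rw [mul_one] at hd
            have := Subgroup.eq_of_le_of_card_ge hle hd.le
            exact hb_out (this ▸ hb_in)
        calc Nat.card (K (m + 1)) * 2 ^ (m + 1)
            = (Nat.card (K (m + 1)) * 2) * 2 ^ m := by ring
          _ ≤ (Nat.card (K (m + 1)) * d) * 2 ^ m :=
              Nat.mul_le_mul_right _ (Nat.mul_le_mul_left _ hd2)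
          _ = Nat.card (K m) * 2 ^ m := by rw [hd]
          _ ≤ 2 ^ n := ih'
    have hKn := hchain n le_rfl
    have hcard1 : Nat.card (K n) ≤ 1 := by
      by_contra hgt
      have : 2 * 2 ^ n ≤ Nat.card (K n) * 2 ^ n := Nat.mul_le_mul_right _ (by omega)
      have h0 : 0 < 2 ^ n := by positivity
      omega
    have hKbot : K n = ⊥ := by
      rw [← Subgroup.card_eq_one]
      have := Nat.card_pos (α := ↥(K n))
      omega
    rw [eq_bot_iff, ← hKbot, hK]
    refine inf_le_inf_left I (centralizer_le ?_)
    rintro x ⟨i, -, rfl⟩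
    exact (le_iSup (fun i : Fin n => zpowers (w i)) i) (mem_zpowers _)

end Cfsg.Agent.S4408
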