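import Cfsg.Statements.S4419
import Mathlib
import Cfsg.Agent.Lib.Helper78.MC1
import Cfsg.Agent.Lib.Helper2.PNilp

set_option autoImplicit false
open Cfsg
set_option linter.style.haveILetI false

namespace Cfsg.Agent.S4419

open Cfsg.Agent.Lib

/-- Let p be a prime and G a finite group whose Sylow p-subgroups are metacyclic (a cyclic normal subgroup with cyclic quotient). Then G has a normal p-complement if and only if the order of G/O_{p′,p}(G) is coprime to p² − 1. -/
theorem result {G : Type*} [Group G] [Finite G] (p : ℕ) [Fact p.Prime] (S : Sylow p G) (hS : Cfsg.IsMetacyclic ↥(S : Subgroup G)) : Cfsg.HasNormalPComplement p G ↔ Nat.Coprime (Nat.card (G ⧸ Cfsg.pPrimePCore p G)) (p ^ 2 - 1) := by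
  constructor
  · intro h
    rw [Helper78.MC.pPrimePCore_eq_top_of_pnilp p h]
    have h1 : Nat.card (G ⧸ (⊤ : Subgroup G)) = 1 := by
      rw [← Subgroup.index_eq_card]; exact Subgroup.index_top
    rw [h1]; exact Nat.coprime_one_left _
  · intro hc
    exact ⟨S, Cfsg.pResidual p G, Helper2.pResidual_normal p,
      Helper2.isComplement'_pResidual_of_frobCond S (Helper78.MC.frobCond_of_coprime p S hS hc)⟩

end Cfsg.Agent.S4419
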