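import Cfsg.Statements.S4517
import Cfsg.Agent.Lib.Helper79.Blk6
import Cfsg.Agent.Lib.Helper80.Galois

set_option autoImplicit false
open Cfsg

namespace Cfsg.Agent.S4517

open Cfsg.Agent.Lib.Helper4 Cfsg.Agent.Lib.Helper21 Cfsg.Agent.Lib.Helper22
open scoped ComplexConjugate

section Twist

variable {G : Type*} [Group G] [Fintype G]

/-- The twist `χ ↦ χ ∘ (· ^ k)` of irreducible characters, for `k` coprime to `|G|`. -/
noncomputable def tw (k : ℕ) (hk : Nat.Coprime k (Nat.card G)) (χ : IrrCharacter G) :
    IrrCharacter G :=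
  ⟨fun g => (χ : G → ℂ) (g ^ k), Cfsg.Agent.Lib.Helper80.isIrrCharacter_pow_coprime k hk χ⟩

theorem tw_apply (k : ℕ) (hk : Nat.Coprime k (Nat.card G)) (χ : IrrCharacter G) (g : G) :
    (tw k hk χ : G → ℂ) g = (χ : G → ℂ) (g ^ k) := rfl

theorem tw_injective (k : ℕ) (hk : Nat.Coprime k (Nat.card G)) :
    Function.Injective (tw (G := G) k hk) := by
  intro χ ψ h
  apply Subtype.ext
  funext g
  obtain ⟨g', hg'⟩ := (powCoprime hk.symm).surjective g
  have h1 : g' ^ k = g := hg'
  rw [← h1]
  exact congrFun (congrArg Subtype.val h) g'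

theorem mem_iff_of_inj {α : Type*} [Finite α] (f : α → α) (hf : Function.Injective f)
    (S : Set α) (hS : ∀ x ∈ S, f x ∈ S) (x : α) : f x ∈ S ↔ x ∈ S := by
  constructor
  · intro hx
    let fS : S → S := fun y => ⟨f y, hS y y.2⟩
    have hinj : Function.Injective fS := fun a b hab =>
      Subtype.ext (hf (congrArg Subtype.val hab))
    obtain ⟨y, hy⟩ := (Finite.injective_iff_surjective.1 hinj) ⟨f x, hx⟩
    have h1 : f y = f x := congrArg Subtype.val hy
    rw [← hf h1]
    exact y.2
  · exact hS x

theorem blockCoeff_pow (k : ℕ) (hk : Nat.Coprime k (Nat.card G)) (B : Set (IrrCharacter G))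
    (hst : ∀ χ, tw k hk χ ∈ B ↔ χ ∈ B) (g : G) :
    blockCoeff B (g ^ k) = blockCoeff B g := by
  classical
  haveI := irr_finite (G := G)
  letI := Fintype.ofFinite (IrrCharacter G)
  rw [blockCoeff_eq_sum, blockCoeff_eq_sum]
  congr 1
  have hbij : Function.Bijective (tw (G := G) k hk) :=
    Finite.injective_iff_bijective.1 (tw_injective k hk)
  rw [← (Equiv.ofBijective _ hbij).sum_comp
    (fun χ : IrrCharacter G => (if χ ∈ B then (1 : ℂ) else 0) *
      ((χ : G → ℂ) 1 * conj ((χ : G → ℂ) g)))]
  apply Finset.sum_congr rfl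
  intro χ _
  simp only [Equiv.ofBijective_apply, hst, tw_apply, one_pow]

open scoped Classical in
/-- A `2`-block of full defect stable under the twist by `k` (inverting the elements of odd
order) contains the principal character. -/
theorem twist_two_block_full_defect {M : Ideal AlgInt} (hM : IsPModular 2 M)
    (B : Set (IrrCharacter G))
    (hB : IsPBlock M B) (hdef : blockDefect 2 B = (Nat.card G).factorization 2)
    (k : ℕ) (hk : Nat.Coprime k (Nat.card G)) (hk₂ : ∀ g : G, Odd (orderOf g) → g ^ k = g⁻¹)
    (hst : ∀ χ, tw k hk χ ∈ B ↔ χ ∈ B) : Cfsg.Agent.Lib.Helper83.trivIrr G ∈ B := by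
  by_contra hτ
  obtain ⟨χ₀, hχ₀, hdeg, -⟩ := Cfsg.Agent.Lib.Helper79.exists_height_zero hM B hB
  rw [hdef] at hdeg
  have hpos := (Cfsg.Agent.Lib.Helper83.irr_degree χ₀.2).1
  have hχ1 := (Cfsg.Agent.Lib.Helper83.irr_degree χ₀.2).2
  have hodd' : ¬ 2 ∣ charDegree (χ₀ : G → ℂ) := by
    intro hdvd
    have h1 := Nat.Prime.factorization_pos_of_dvd Nat.prime_two hpos.ne' hdvd
    omega
  have h1 := Cfsg.Agent.Lib.Helper79.block_class_sum B χ₀
  rw [if_pos hχ₀] at h1
  have h0 := Cfsg.Agent.Lib.Helper79.block_class_sum B (Cfsg.Agent.Lib.Helper83.trivIrr G)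
  rw [if_neg hτ] at h0
  have hinv : ∀ g : G, blockCoeff B g⁻¹ = blockCoeff B g := by
    intro g
    by_cases hs : 2 ∣ orderOf g
    · have e1 : blockCoeff B g = 0 := by
        by_contra hne
        exact pRegular_of_blockCoeff_ne_zero hM B hB _ hne hs
      have e2 : blockCoeff B g⁻¹ = 0 := by
        by_contra hne
        exact pRegular_of_blockCoeff_ne_zero hM B hB _ hne (by rwa [orderOf_inv])
      rw [e1, e2]
    · have hodd : Odd (orderOf g) := by
        rw [← Nat.not_even_iff_odd, even_iff_two_dvd]
        exact hs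
      rw [← hk₂ g hodd]
      exact blockCoeff_pow k hk B hst g
  have hsame : ∀ g : G, Odd (orderOf g) → MemLocalIdeal M
      (centralChar (χ₀ : G → ℂ) g⁻¹ - centralChar (χ₀ : G → ℂ) g) := by
    intro g hodd
    have h2 : tw k hk χ₀ ∈ blockOf M (χ₀ : G → ℂ) := by
      rw [← Cfsg.Agent.Lib.Helper79.blockOf_eq_of_mem hM hB hχ₀]
      exact (hst χ₀).2 hχ₀
    have h3 : centralChar (tw k hk χ₀ : G → ℂ) g = centralChar (χ₀ : G → ℂ) g⁻¹ := by
      unfold centralChar
      rw [Cfsg.Agent.Lib.Helper79.centralizer_singleton_inv, tw_apply, tw_apply, one_pow,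
        hk₂ g hodd]
    have h4 := locIdeal_neg (h2 g)
    rwa [neg_sub, h3] at h4
  have hτinv : ∀ g : G, centralChar (Cfsg.Agent.Lib.Helper83.trivIrr G : G → ℂ) g⁻¹
      = centralChar (Cfsg.Agent.Lib.Helper83.trivIrr G : G → ℂ) g := by
    intro g
    unfold centralChar
    rw [Cfsg.Agent.Lib.Helper79.centralizer_singleton_inv]
    simp only [Cfsg.Agent.Lib.Helper83.trivIrr_apply]
  have hτcf : IsClassFunction G (Cfsg.Agent.Lib.Helper83.trivIrr G : G → ℂ) :=
    isClassFunction_irr _
  have hχcf : IsClassFunction G (χ₀ : G → ℂ) := isClassFunction_irr _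
  have hsum : ∑ c : ConjClasses G, blockCoeff B (Quotient.out c) *
      (centralChar (χ₀ : G → ℂ) (Quotient.out c) -
        centralChar (Cfsg.Agent.Lib.Helper83.trivIrr G : G → ℂ) (Quotient.out c)) = 1 := by
    simp only [mul_sub, Finset.sum_sub_distrib, h1, h0, sub_zero]
  have hout : ∀ x : G, IsConj (Quotient.out (ConjClasses.mk x)) x := by
    intro x
    rw [← ConjClasses.mk_eq_mk_iff_isConj, ← ConjClasses.quotient_mk_eq_mk]
    exact Quotient.out_eq _
  have hmk : ∀ c : ConjClasses G, ConjClasses.mk (Quotient.out c) = c := by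
    intro c
    rw [← ConjClasses.quotient_mk_eq_mk]
    exact Quotient.out_eq c
  have hmem : MemLocalIdeal M (∑ c : ConjClasses G, blockCoeff B (Quotient.out c) *
      (centralChar (χ₀ : G → ℂ) (Quotient.out c) -
        centralChar (Cfsg.Agent.Lib.Helper83.trivIrr G : G → ℂ) (Quotient.out c))) := by
    rw [← Cfsg.Agent.Lib.Helper79.mem_locIdealAddSubgroup hM]
    apply Cfsg.Agent.Lib.Helper79.sum_mem_of_involution
      (Cfsg.Agent.Lib.Helper79.locIdealAddSubgroup hM) Finset.univ _
      (fun c : ConjClasses G => ConjClasses.mk (Quotient.out c)⁻¹)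
    · intro a _
      exact Finset.mem_univ _
    · intro c _
      have h2 : IsConj (Quotient.out (ConjClasses.mk (Quotient.out c)⁻¹))⁻¹ (Quotient.out c) := by
        have h3 := Cfsg.Agent.Lib.Helper79.isConj_inv_of_isConj (hout (Quotient.out c)⁻¹)
        rwa [inv_inv] at h3
      show ConjClasses.mk (Quotient.out (ConjClasses.mk (Quotient.out c)⁻¹))⁻¹ = c
      rw [ConjClasses.mk_eq_mk_iff_isConj.2 h2]
      exact hmk c
    · intro c _
      rw [Cfsg.Agent.Lib.Helper79.mem_locIdealAddSubgroup]
      have hc := hout (Quotient.out c)⁻¹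
      rw [Cfsg.Agent.Lib.Helper79.classFunction_eq_of_isConj (blockCoeff_isClassFunction B) hc,
        hinv, Cfsg.Agent.Lib.Helper79.centralChar_eq_of_isConj _ hχcf hc,
        Cfsg.Agent.Lib.Helper79.centralChar_eq_of_isConj _ hτcf hc, hτinv]
      by_cases hs : 2 ∣ orderOf (Quotient.out c)
      · have e1 : blockCoeff B (Quotient.out c) = 0 := by
          by_contra hne
          exact pRegular_of_blockCoeff_ne_zero hM B hB _ hne hs
        rw [e1, zero_mul, zero_mul, add_zero]
        exact locIdeal_zero hM
      · have hodd : Odd (orderOf (Quotient.out c)) := by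
          rw [← Nat.not_even_iff_odd, even_iff_two_dvd]
          exact hs
        have h4 : blockCoeff B (Quotient.out c) *
            (centralChar (χ₀ : G → ℂ) (Quotient.out c) -
              centralChar (Cfsg.Agent.Lib.Helper83.trivIrr G : G → ℂ) (Quotient.out c)) +
            blockCoeff B (Quotient.out c) *
            (centralChar (χ₀ : G → ℂ) (Quotient.out c)⁻¹ -
              centralChar (Cfsg.Agent.Lib.Helper83.trivIrr G : G → ℂ) (Quotient.out c))
            = blockCoeff B (Quotient.out c) *
              (((2 : ℕ) : ℂ) * (centralChar (χ₀ : G → ℂ) (Quotient.out c) -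
                centralChar (Cfsg.Agent.Lib.Helper83.trivIrr G : G → ℂ) (Quotient.out c)) +
              (centralChar (χ₀ : G → ℂ) (Quotient.out c)⁻¹ -
                centralChar (χ₀ : G → ℂ) (Quotient.out c))) := by
          push_cast
          ring
        rw [h4]
        apply locIdeal_mul_left hM (osima hM B hB _)
        apply locIdeal_add hM _ (hsame _ hodd)
        apply locIdeal_mul_right hM ((locIdeal_natCast_iff hM 2).2 dvd_rfl)
        exact locRing_sub hM (centralChar_locRing hM χ₀ _) (centralChar_locRing hM _ _)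
    · intro c _ hfix
      rw [Cfsg.Agent.Lib.Helper79.mem_locIdealAddSubgroup]
      have hrealc : IsConj (Quotient.out c) (Quotient.out c)⁻¹ := by
        rw [← ConjClasses.mk_eq_mk_iff_isConj, hfix, hmk]
      by_cases hg1 : Quotient.out c = 1
      · have h5 : centralChar (χ₀ : G → ℂ) (Quotient.out c) -
            centralChar (Cfsg.Agent.Lib.Helper83.trivIrr G : G → ℂ) (Quotient.out c) = 0 := by
          rw [hg1]
          unfold centralChar
          simp only [Cfsg.Agent.Lib.Helper83.trivIrr_apply]
          rw [mul_div_assoc, div_self (irr_one_ne_zero χ₀)]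
          ring
        rw [h5, mul_zero]
        exact locIdeal_zero hM
      · by_cases hsing : 2 ∣ orderOf (Quotient.out c)
        · have h6 : blockCoeff B (Quotient.out c) = 0 := by
            by_contra hne
            exact pRegular_of_blockCoeff_ne_zero hM B hB _ hne hsing
          rw [h6, zero_mul]
          exact locIdeal_zero hM
        · have hoddg : Odd (orderOf (Quotient.out c)) := by
            rw [← Nat.not_even_iff_odd, even_iff_two_dvd]
            exact hsing
          have heven := Cfsg.Agent.Lib.Helper79.even_index_centralizer_of_real _ hrealc hoddg hg1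
          have hidx : MemLocalIdeal M
              (((Subgroup.centralizer ({Quotient.out c} : Set G)).index : ℕ) : ℂ) :=
            (locIdeal_natCast_iff hM _).2 (even_iff_two_dvd.1 heven)
          apply locIdeal_mul_left hM (osima hM B hB _)
          apply locIdeal_sub hM
          · unfold centralChar
            rw [hχ1, div_eq_mul_inv]
            exact locIdeal_mul_right hM (locIdeal_mul_right hM hidx
              (locRing_of_isIntegral hM (irr_isIntegral χ₀ _)))
              (locRing_inv_natCast hM hodd')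
          · unfold centralChar
            simp only [Cfsg.Agent.Lib.Helper83.trivIrr_apply, mul_one, div_one]
            exact hidx
  rw [hsum] at hmem
  exact locIdeal_one_not hM hmem

end Twist

/-- Let G be a finite group, M a maximal ideal of the algebraic integers containing 2, and k a natural number coprime to the order of G with g ^ k = g⁻¹ for every element g of odd order (so that g ↦ g ^ k induces a field automorphism of the character values inverting the roots of unity of odd order). If B is a 2-block of full defect (its defect equals the exponent of 2 in the order of G) that is stable under χ ↦ χ ∘ (· ^ k), then B is the principal 2-block. -/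
theorem result {G : Type*} [Group G] [Finite G] (M : Ideal Cfsg.AlgInt) (hM : Cfsg.IsPModular 2 M) (k : ℕ) (hk : Nat.Coprime k (Nat.card G)) (hk₂ : ∀ g : G, Odd (orderOf g) → g ^ k = g⁻¹) (B : Set (Cfsg.IrrCharacter G)) (hB : Cfsg.IsPBlock M B) (hdef : Cfsg.blockDefect 2 B = (Nat.card G).factorization 2) (hstab : ∀ χ ∈ B, ∃ ψ ∈ B, ∀ g : G, (ψ : G → ℂ) g = (χ : G → ℂ) (g ^ k)) : B = Cfsg.principalBlock M G := by
  classical
  letI := Fintype.ofFinite G
  haveI : Finite (IrrCharacter G) := irr_finite
  have hfwd : ∀ χ ∈ B, tw k hk χ ∈ B := by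
    intro χ hχ
    obtain ⟨ψ, hψ, hψe⟩ := hstab χ hχ
    have h1 : tw k hk χ = ψ := by
      apply Subtype.ext
      funext g
      exact (hψe g).symm
    rw [h1]
    exact hψ
  have hst : ∀ χ, tw k hk χ ∈ B ↔ χ ∈ B :=
    fun χ => mem_iff_of_inj (tw k hk) (tw_injective k hk) B hfwd χ
  have hτ := twist_two_block_full_defect hM B hB hdef k hk hk₂ hst
  have h9 : B = blockOf M (Cfsg.Agent.Lib.Helper83.trivIrr G : G → ℂ) :=
    Cfsg.Agent.Lib.Helper79.blockOf_eq_of_mem hM hB hτ
  exact h9

end Cfsg.Agent.S4517
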