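import Cfsg.Statements.S4549
import Cfsg.Agent.Lib.Helper4.NormalPC
import Cfsg.Agent.Lib.Helper80.Twist

set_option autoImplicit false
open Cfsg

namespace Cfsg.Agent.S4549

open scoped ComplexConjugate
open Cfsg.Agent.Lib.Helper4 Cfsg.Agent.Lib.Helper84 Cfsg.Agent.Lib.Helper80 Cfsg.Agent.S4517

theorem coprime_k {G : Type*} [Group G] [Finite G] (k : ℕ)
    (hk₁ : ∀ g : G, (∃ j : ℕ, orderOf g = 2 ^ j) → g ^ k = g ^ 3)
    (hk₂ : ∀ g : G, Odd (orderOf g) → g ^ k = g) : Nat.Coprime k (Nat.card G) := by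
  apply Nat.coprime_of_dvd
  intro r hr hrk hrG
  have : Fact r.Prime := ⟨hr⟩
  obtain ⟨g, hg⟩ := exists_prime_orderOf_dvd_card' r hrG
  have h1 : g ^ k = 1 := orderOf_dvd_iff_pow_eq_one.1 (hg ▸ hrk)
  have hne : g ≠ 1 := by
    intro h
    rw [h, orderOf_one] at hg
    exact hr.one_lt.ne hg
  rcases hr.eq_two_or_odd' with h2 | hodd
  · have h3 := hk₁ g ⟨1, by rw [hg, h2, pow_one]⟩
    have h4 : g ^ 2 = 1 := by
      rw [← h2, ← hg]
      exact pow_orderOf_eq_one g
    have h5 : g ^ 3 = g := by rw [pow_succ, h4, one_mul]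
    rw [h1, h5] at h3
    exact hne h3.symm
  · have h3 := hk₂ g (hg ▸ hodd)
    rw [h1] at h3
    exact hne h3.symm

theorem pow_pow_fix {G : Type*} [Group G] [Finite G] (k : ℕ)
    (hk₁ : ∀ g : G, (∃ j : ℕ, orderOf g = 2 ^ j) → g ^ k = g ^ 3)
    (hk₂ : ∀ g : G, Odd (orderOf g) → g ^ k = g) (g : G) :
    g ^ (k ^ (2 ^ Nat.card G)) = g := by
  have hn : orderOf g ≠ 0 := (orderOf_pos g).ne'
  obtain ⟨b, c, hc, hbc⟩ := Nat.exists_eq_two_pow_mul_odd hn
  have hc0 : c ≠ 0 := by
    rintro rfl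
    simp at hc
  have h2b : (2 : ℕ) ^ b ≠ 0 := by positivity
  have hu : orderOf (g ^ c) = 2 ^ b := by
    rw [orderOf_pow_of_dvd hc0 (by rw [hbc]; exact dvd_mul_left _ _), hbc,
      Nat.mul_div_cancel _ (Nat.pos_of_ne_zero hc0)]
  have hv : orderOf (g ^ 2 ^ b) = c := by
    rw [orderOf_pow_of_dvd h2b (by rw [hbc]; exact dvd_mul_right _ _), hbc,
      Nat.mul_div_cancel_left _ (Nat.pos_of_ne_zero h2b)]
  have h3 : k ≡ 3 [MOD 2 ^ b] := by
    have h := hk₁ (g ^ c) ⟨b, hu⟩
    rw [pow_eq_pow_iff_modEq, hu] at h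
    exact h
  have h1 : k ≡ 1 [MOD c] := by
    have h := hk₂ (g ^ 2 ^ b) (hv ▸ hc)
    have h' : (g ^ 2 ^ b) ^ k = (g ^ 2 ^ b) ^ 1 := by rw [h, pow_one]
    rw [pow_eq_pow_iff_modEq, hv] at h'
    exact h'
  have hb : b ≤ Nat.card G := by
    have hd : 2 ^ b ∣ Nat.card G := (Dvd.intro c hbc.symm).trans (orderOf_dvd_natCard g)
    have h5 : 2 ^ b ≤ Nat.card G := Nat.le_of_dvd Nat.card_pos hd
    exact (Nat.lt_two_pow_self).le.trans h5
  have h32 : 3 ^ (2 ^ Nat.card G) ≡ 1 [MOD 2 ^ b] := by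
    rcases Nat.eq_zero_or_pos b with rfl | hbpos
    · rw [pow_zero]
      exact Nat.modEq_one
    · have hcop : Nat.Coprime 3 (2 ^ b) := Nat.Coprime.pow_right _ (by decide)
      have ht := Nat.ModEq.pow_totient hcop
      rw [Nat.totient_prime_pow Nat.prime_two hbpos] at ht
      have hd : 2 ^ (b - 1) * (2 - 1) ∣ 2 ^ Nat.card G := by
        rw [Nat.add_one_sub_one, mul_one]
        exact pow_dvd_pow 2 (by omega)
      obtain ⟨m, hm⟩ := hd
      rw [hm, pow_mul]
      have h6 := ht.pow m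
      rwa [one_pow] at h6
  have hA : k ^ (2 ^ Nat.card G) ≡ 1 [MOD 2 ^ b] := (h3.pow _).trans h32
  have hB : k ^ (2 ^ Nat.card G) ≡ 1 [MOD c] := by
    have h6 := h1.pow (2 ^ Nat.card G)
    rwa [one_pow] at h6
  have hcop : Nat.Coprime (2 ^ b) c := Nat.Coprime.pow_left _ (Nat.coprime_two_left.2 hc)
  have hAB := (Nat.modEq_and_modEq_iff_modEq_mul hcop).1 ⟨hA, hB⟩
  rw [← hbc] at hAB
  have h7 := (pow_eq_pow_iff_modEq (x := g)).2 hAB
  rwa [pow_one] at h7

/-- Under the hypothesis on the fixed characters every linear character of order at most two of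
a Sylow `2`-subgroup extends. -/
theorem exists_extension_two {G : Type*} [Group G] [Finite G]
    (M : Ideal AlgInt) (hM : IsPModular 2 M) (k : ℕ)
    (hk₁ : ∀ g : G, (∃ j : ℕ, orderOf g = 2 ^ j) → g ^ k = g ^ 3)
    (hk₂ : ∀ g : G, Odd (orderOf g) → g ^ k = g)
    (hdeg : ∀ χ ∈ principalBlock M G, Odd (charDegree (χ : G → ℂ)) →
      (∀ g : G, (χ : G → ℂ) (g ^ k) = (χ : G → ℂ) g) → charDegree (χ : G → ℂ) = 1)
    (P : Sylow 2 G) (l : (P : Subgroup G) →* ℂˣ) (hl : ∀ x, l x ^ 2 = 1) :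
    ∃ χ : G →* ℂˣ, ∀ x : (P : Subgroup G), χ (x : G) = l x := by
  classical
  let _ : Fintype G := Fintype.ofFinite G
  let _ : Fintype (P : Subgroup G) := Fintype.ofFinite _
  have hfin : Finite (IrrCharacter G) := irr_finite
  let _ : Fintype (IrrCharacter G) := Fintype.ofFinite _
  have hp : (2 : ℕ).Prime := Nat.prime_two
  have hk := coprime_k k hk₁ hk₂
  have hord : ∀ χ : IrrCharacter G, (tw k hk)^[2 ^ Nat.card G] χ = χ :=
    fun χ => tw_iterate_eq_self k hk _ (pow_pow_fix k hk₁ hk₂) χ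
  set τ := Cfsg.Agent.Lib.Helper83.trivIrr G with hτ
  have hB : IsPBlock M (principalBlock M G) := Cfsg.Agent.Lib.Helper79.isPBlock_principalBlock
  have hτB : τ ∈ principalBlock M G := Cfsg.Agent.Lib.Helper79.trivIrr_mem_principalBlock hM
  let lam : IrrCharacter (P : Subgroup G) := ⟨fun x => (l x : ℂ), isIrrCharacter_lin l⟩
  have hn : ∀ θ : IrrCharacter G, ∃ j : ℕ,
      classInner (Cfsg.Agent.Lib.Helper35.res (P : Subgroup G) (θ : G → ℂ)) lam.1 = j :=
    fun θ => Cfsg.Agent.Lib.Helper35.classInner_char_nat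
      (Cfsg.Agent.Lib.Helper35.isCharacter_res _ (Cfsg.Agent.Lib.Helper35.isChar_of_irr θ.2))
      (Cfsg.Agent.Lib.Helper35.isChar_of_irr lam.2)
  choose n hn using hn
  have hcardP : Nat.card (P : Subgroup G) = 2 ^ (Nat.card G).factorization 2 :=
    P.card_eq_multiplicity
  have hP0 : (Nat.card (P : Subgroup G) : ℂ) ≠ 0 := card_ne_zero_complex
  have h1 : ∑ x : (P : Subgroup G), ptil 2 (τ : G → ℂ) (x : G) * conj ((l x : ℂˣ) : ℂ) =
      (Nat.card (P : Subgroup G) : ℂ) := by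
    rw [Finset.sum_eq_single (1 : (P : Subgroup G))]
    · have h0 : ¬ 2 ∣ orderOf (((1 : (P : Subgroup G)) : G)) := by
        rw [OneMemClass.coe_one, orderOf_one]; exact hp.not_dvd_one
      unfold ptil
      rw [if_neg h0, hcardP, map_one]
      show ((2 ^ (Nat.card G).factorization 2 : ℕ) : ℂ) * (1 : ℂ) * conj ((1 : ℂˣ) : ℂ) = _
      simp
    · intro x _ hx
      have hx1 : (x : G) ≠ 1 := by
        intro h
        apply hx
        exact Subtype.ext h
      have hdv : 2 ∣ orderOf (x : G) := by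
        obtain ⟨j, hj⟩ := P.isPGroup' x
        have hj' : (x : G) ^ 2 ^ j = 1 := by
          have := congrArg Subtype.val hj
          simpa using this
        obtain ⟨i, -, hi⟩ := (Nat.dvd_prime_pow hp).mp (orderOf_dvd_of_pow_eq_one hj')
        rcases Nat.eq_zero_or_pos i with h0 | h0
        · exfalso
          apply hx1
          rw [h0, pow_zero] at hi
          exact orderOf_eq_one_iff.mp hi
        · rw [hi]
          exact dvd_pow_self 2 (by omega)
      unfold ptil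
      rw [if_pos hdv, zero_mul]
    · intro h
      exact absurd (Finset.mem_univ _) h
  have h2 : ∑ x : (P : Subgroup G), ptil 2 (τ : G → ℂ) (x : G) * conj ((l x : ℂˣ) : ℂ) =
      ∑ θ : IrrCharacter G, (ctr 2 τ θ : ℂ) *
        ((Nat.card (P : Subgroup G) : ℂ) * (n θ : ℂ)) := by
    have hx : ∀ x : (P : Subgroup G), ptil 2 (τ : G → ℂ) (x : G) * conj ((l x : ℂˣ) : ℂ) =
        ∑ θ : IrrCharacter G, (ctr 2 τ θ : ℂ) *
          ((θ : G → ℂ) (x : G) * conj ((l x : ℂˣ) : ℂ)) := by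
      intro x
      rw [ptil_expansion, Finset.sum_mul]
      apply Finset.sum_congr rfl
      intro θ _
      ring
    rw [Finset.sum_congr rfl (fun x _ => hx x), Finset.sum_comm]
    apply Finset.sum_congr rfl
    intro θ _
    rw [← Finset.mul_sum]
    congr 1
    have h3 := hn θ
    unfold classInner at h3
    rw [← h3, ← mul_assoc, mul_inv_cancel₀ hP0, one_mul]
    rfl
  have h3 : (1 : ℤ) = ∑ θ : IrrCharacter G, ctr 2 τ θ * (n θ : ℤ) := by
    have h4 : (Nat.card (P : Subgroup G) : ℂ) * 1 = (Nat.card (P : Subgroup G) : ℂ) *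
        ((∑ θ : IrrCharacter G, ctr 2 τ θ * (n θ : ℤ) : ℤ) : ℂ) := by
      conv_lhs => rw [mul_one, ← h1, h2]
      push_cast
      rw [Finset.mul_sum]
      apply Finset.sum_congr rfl
      intro θ _
      ring
    have h5 := mul_left_cancel₀ hP0 h4
    exact_mod_cast h5
  -- invariance of the contributions under the twist
  have hctr : ∀ θ : IrrCharacter G, ctr 2 τ (tw k hk θ) = ctr 2 τ θ := by
    intro θ
    have e1 := ctr_mul 2 τ (tw k hk θ)
    have e2 := ctr_mul 2 τ θ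
    have e3 : ∑ g : G, (if 2 ∣ orderOf g then 0 else
        (τ : G → ℂ) g * conj ((tw k hk θ : G → ℂ) g)) =
        ∑ g : G, (if 2 ∣ orderOf g then 0 else (τ : G → ℂ) g * conj ((θ : G → ℂ) g)) := by
      apply Finset.sum_congr rfl
      intro g _
      by_cases hg : 2 ∣ orderOf g
      · rw [if_pos hg, if_pos hg]
      · rw [if_neg hg, if_neg hg, tw_apply,
          hk₂ g (Nat.not_even_iff_odd.mp (fun h => hg (even_iff_two_dvd.mp h)))]
    rw [e3, ← e2] at e1
    have hne : ((Nat.card G / 2 ^ (Nat.card G).factorization 2 : ℕ) : ℂ) ≠ 0 := by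
      exact_mod_cast (card_pprime_pos (G := G) 2).ne'
    have e4 := mul_right_cancel₀ hne e1
    exact_mod_cast e4
  -- invariance of the multiplicities
  have hnn : ∀ θ : IrrCharacter G, n (tw k hk θ) = n θ := by
    intro θ
    have e1 := hn (tw k hk θ)
    have e2 := hn θ
    have hcop : (Nat.card (P : Subgroup G)).Coprime 3 := by
      rw [hcardP]
      exact Nat.Coprime.pow_left _ (by decide)
    have e3 : classInner (Cfsg.Agent.Lib.Helper35.res (P : Subgroup G)
        (tw k hk θ : G → ℂ)) lam.1 =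
        classInner (Cfsg.Agent.Lib.Helper35.res (P : Subgroup G) (θ : G → ℂ)) lam.1 := by
      unfold classInner
      congr 1
      rw [← (powCoprime hcop).sum_comp (fun x : (P : Subgroup G) =>
        Cfsg.Agent.Lib.Helper35.res (P : Subgroup G) (θ : G → ℂ) x * conj (lam.1 x))]
      apply Finset.sum_congr rfl
      intro x _
      have hx3 : (powCoprime hcop) x = x ^ 3 := rfl
      rw [hx3]
      obtain ⟨j, hj⟩ := (IsPGroup.iff_orderOf.mp P.isPGroup') x
      have hxk : (x : G) ^ k = (x : G) ^ 3 := by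
        apply hk₁
        refine ⟨j, ?_⟩
        rw [Subgroup.orderOf_coe]
        exact hj
      have hl3 : l (x ^ 3) = l x := by
        rw [map_pow, pow_succ, hl x, one_mul]
      show (θ : G → ℂ) ((x : G) ^ k) * conj ((l x : ℂˣ) : ℂ) =
        (θ : G → ℂ) (((x ^ 3 : (P : Subgroup G)) : G)) * conj ((l (x ^ 3) : ℂˣ) : ℂ)
      rw [hl3, hxk]
      rfl
    rw [e3, e2] at e1
    exact_mod_cast e1.symm
  let f : IrrCharacter G → ZMod 2 := fun θ => ((ctr 2 τ θ * (n θ : ℤ) : ℤ) : ZMod 2)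
  have hf : ∀ θ, f (tw k hk θ) = f θ := by
    intro θ
    simp only [f, hctr, hnn]
  have hcount := sum_sub_sum_fixed_mem (⊥ : AddSubgroup (ZMod 2)) (tw k hk) f hf
    (fun a => by rw [AddSubgroup.mem_bot]; exact CharTwo.add_self_eq_zero _)
    (Nat.card G) Finset.univ (fun _ _ => Finset.mem_univ _) (fun χ _ => hord χ)
  rw [AddSubgroup.mem_bot, sub_eq_zero] at hcount
  have hsum1 : ∑ θ : IrrCharacter G, f θ = 1 := by
    have e1 := congrArg (Int.cast : ℤ → ZMod 2) h3
    rw [Int.cast_one, Int.cast_sum] at e1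
    exact e1.symm
  rw [hsum1] at hcount
  have hex : ∃ θ : IrrCharacter G, tw k hk θ = θ ∧ f θ ≠ 0 := by
    by_contra hcon
    push Not at hcon
    have e1 : ∑ a ∈ Finset.univ.filter (fun a => tw k hk a = a), f a = 0 :=
      Finset.sum_eq_zero (fun a ha => hcon a (Finset.mem_filter.mp ha).2)
    rw [e1] at hcount
    exact one_ne_zero hcount
  obtain ⟨θ, hfix, hfθ⟩ := hex
  have hθ : ¬ (2 : ℤ) ∣ ctr 2 τ θ * (n θ : ℤ) := by
    intro hd
    apply hfθ
    show ((ctr 2 τ θ * (n θ : ℤ) : ℤ) : ZMod 2) = 0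
    exact (ZMod.intCast_zmod_eq_zero_iff_dvd _ 2).mpr (by exact_mod_cast hd)
  have hc0 : ctr 2 τ θ ≠ 0 := fun h => hθ (by rw [h, zero_mul]; exact dvd_zero _)
  have hn0 : n θ ≠ 0 := fun h => hθ (by rw [h]; simp)
  have hθB : θ ∈ principalBlock M G := by
    by_contra hnot
    exact hc0 (ctr_eq_zero 2 M hM _ hB τ hτB θ hnot)
  have hpd : ¬ 2 ∣ charDegree (θ : G → ℂ) := by
    intro hd
    apply hθ
    have hpos := (Cfsg.Agent.Lib.Helper83.irr_degree θ.2).1
    have h1' : 1 ≤ (charDegree (θ : G → ℂ)).factorization 2 :=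
      (hp.dvd_iff_one_le_factorization hpos.ne').mp hd
    have h2' := ctr_dvd_right 2 τ θ
    have h3' : (2 : ℤ) ∣ ((2 ^ (charDegree (θ : G → ℂ)).factorization 2 : ℕ) : ℤ) := by
      exact_mod_cast dvd_pow_self 2 (by omega : (charDegree (θ : G → ℂ)).factorization 2 ≠ 0)
    exact Dvd.dvd.mul_right (h3'.trans h2') _
  have hodd : Odd (charDegree (θ : G → ℂ)) :=
    Nat.not_even_iff_odd.mp (fun h => hpd (even_iff_two_dvd.mp h))
  have hd1 := hdeg θ hθB hodd ((tw_eq_self_iff k hk θ).mp hfix)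
  have hχ1 : (θ : G → ℂ) 1 = 1 := by
    rw [(Cfsg.Agent.Lib.Helper83.irr_degree θ.2).2, hd1]
    simp
  obtain ⟨c, hc⟩ := linToIrr_bijective.2 ⟨θ, hχ1⟩
  have hχc : (θ : G → ℂ) = fun g => (c g : ℂ) := by
    have := congrArg (fun z : {χ : IrrCharacter G // (χ : G → ℂ) 1 = 1} => (z.1 : G → ℂ)) hc
    exact this.symm
  refine ⟨c, ?_⟩
  let rs : IrrCharacter (P : Subgroup G) :=
    ⟨fun x => ((c.comp (P : Subgroup G).subtype) x : ℂ), isIrrCharacter_lin _⟩
  have h6 : Cfsg.Agent.Lib.Helper35.res (P : Subgroup G) (θ : G → ℂ) = rs.1 := by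
    funext h
    rw [hχc]
    rfl
  have h5 := hn θ
  rw [h6, classInner_irr] at h5
  have h7 : rs = lam := by
    by_contra hne
    rw [if_neg hne] at h5
    exact hn0 (by exact_mod_cast h5.symm)
  intro x
  have h8 := congrArg (fun z : IrrCharacter (P : Subgroup G) => z.1 x) h7
  exact Units.ext h8

/-- Let G be a finite group and M a maximal ideal of the algebraic integers containing 2. Let k be a natural number with g ^ k = g ^ 3 for every 2-element g and g ^ k = g for every element g of odd order (such k exist); an irreducible character χ is unchanged by g ↦ g ^ k exactly when it is fixed by the field automorphism that cubes the 2-power roots of unity and fixes the roots of unity of odd order. Then G has a normal 2-complement if and only if every member χ of the principal 2-block of odd degree with χ (g ^ k) = χ g for all g has degree one. -/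
theorem result {G : Type*} [Group G] [Finite G] (M : Ideal Cfsg.AlgInt) (hM : Cfsg.IsPModular 2 M) (k : ℕ) (hk₁ : ∀ g : G, (∃ j : ℕ, orderOf g = 2 ^ j) → g ^ k = g ^ 3) (hk₂ : ∀ g : G, Odd (orderOf g) → g ^ k = g) : Cfsg.HasNormalPComplement 2 G ↔ ∀ χ ∈ Cfsg.principalBlock M G, Odd (Cfsg.charDegree (χ : G → ℂ)) → (∀ g : G, (χ : G → ℂ) (g ^ k) = (χ : G → ℂ) g) → Cfsg.charDegree (χ : G → ℂ) = 1 := by
  have hp : (2 : ℕ).Prime := Nat.prime_two
  have : Fact (2 : ℕ).Prime := ⟨hp⟩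
  constructor
  · intro hnpc χ hχ hodd _
    obtain ⟨j, hj⟩ := principal_deg_pow_of_npc 2 M hM hnpc χ hχ
    rcases Nat.eq_zero_or_pos j with h0 | h0
    · rw [hj, h0, pow_zero]
    · exfalso
      rw [hj] at hodd
      have : Even (2 ^ j) := (Nat.even_pow' (by omega)).mpr even_two
      exact (Nat.not_even_iff_odd.mpr hodd) this
  · intro hdeg
    let P : Sylow 2 G := default
    exact npc_of_extend 2 P (fun l hl => exists_extension_two M hM k hk₁ hk₂ hdeg P l hl)

end Cfsg.Agent.S4549
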