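import Cfsg.Statements.S4550
import Cfsg.Agent.Lib.Helper80.Twist

set_option autoImplicit false
open Cfsg

namespace Cfsg.Agent.S4550

open Cfsg.Agent.S4517 Cfsg.Agent.Lib.Helper80 Cfsg.Agent.Lib.Helper4 Cfsg.Agent.Lib.Helper21
open Cfsg.Agent.Lib.Helper22
open scoped ComplexConjugate

theorem coprime_k {G : Type*} [Group G] [Finite G] (k : ℕ)
    (hk₁ : ∀ g : G, (∃ j : ℕ, orderOf g = 2 ^ j) → g ^ k = g ^ 3)
    (hk₂ : ∀ g : G, Odd (orderOf g) → g ^ k = g) : Nat.Coprime k (Nat.card G) := by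
  apply Nat.coprime_of_dvd
  intro r hr hrk hrG
  have : Fact r.Prime := ⟨hr⟩
  obtain ⟨g, hg⟩ := exists_prime_orderOf_dvd_card' r hrG
  have h1 : g ^ k = 1 := orderOf_dvd_iff_pow_eq_one.1 (hg ▸ hrk)
  have hne : g ≠ 1 := by
    intro h
    rw [h, orderOf_one] at hg
    exact hr.one_lt.ne hg
  rcases hr.eq_two_or_odd' with h2 | hodd
  · have h3 := hk₁ g ⟨1, by rw [hg, h2, pow_one]⟩
    have h4 : g ^ 2 = 1 := by
      rw [← h2, ← hg]
      exact pow_orderOf_eq_one g
    have h5 : g ^ 3 = g := by rw [pow_succ, h4, one_mul]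
    rw [h1, h5] at h3
    exact hne h3.symm
  · have h3 := hk₂ g (hg ▸ hodd)
    rw [h1] at h3
    exact hne h3.symm

theorem pow_pow_fix {G : Type*} [Group G] [Finite G] (k : ℕ)
    (hk₁ : ∀ g : G, (∃ j : ℕ, orderOf g = 2 ^ j) → g ^ k = g ^ 3)
    (hk₂ : ∀ g : G, Odd (orderOf g) → g ^ k = g) (g : G) :
    g ^ (k ^ (2 ^ Nat.card G)) = g := by
  have hn : orderOf g ≠ 0 := (orderOf_pos g).ne'
  obtain ⟨b, c, hc, hbc⟩ := Nat.exists_eq_two_pow_mul_odd hn
  have hc0 : c ≠ 0 := by
    rintro rfl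
    simp at hc
  have h2b : (2 : ℕ) ^ b ≠ 0 := by positivity
  have hu : orderOf (g ^ c) = 2 ^ b := by
    rw [orderOf_pow_of_dvd hc0 (by rw [hbc]; exact dvd_mul_left _ _), hbc,
      Nat.mul_div_cancel _ (Nat.pos_of_ne_zero hc0)]
  have hv : orderOf (g ^ 2 ^ b) = c := by
    rw [orderOf_pow_of_dvd h2b (by rw [hbc]; exact dvd_mul_right _ _), hbc,
      Nat.mul_div_cancel_left _ (Nat.pos_of_ne_zero h2b)]
  have h3 : k ≡ 3 [MOD 2 ^ b] := by
    have h := hk₁ (g ^ c) ⟨b, hu⟩
    rw [pow_eq_pow_iff_modEq, hu] at h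
    exact h
  have h1 : k ≡ 1 [MOD c] := by
    have h := hk₂ (g ^ 2 ^ b) (hv ▸ hc)
    have h' : (g ^ 2 ^ b) ^ k = (g ^ 2 ^ b) ^ 1 := by rw [h, pow_one]
    rw [pow_eq_pow_iff_modEq, hv] at h'
    exact h'
  have hb : b ≤ Nat.card G := by
    have hd : 2 ^ b ∣ Nat.card G := (Dvd.intro c hbc.symm).trans (orderOf_dvd_natCard g)
    have h5 : 2 ^ b ≤ Nat.card G := Nat.le_of_dvd Nat.card_pos hd
    exact (Nat.lt_two_pow_self).le.trans h5
  have h32 : 3 ^ (2 ^ Nat.card G) ≡ 1 [MOD 2 ^ b] := by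
    rcases Nat.eq_zero_or_pos b with rfl | hbpos
    · rw [pow_zero]
      exact Nat.modEq_one
    · have hcop : Nat.Coprime 3 (2 ^ b) := Nat.Coprime.pow_right _ (by decide)
      have ht := Nat.ModEq.pow_totient hcop
      rw [Nat.totient_prime_pow Nat.prime_two hbpos] at ht
      have hd : 2 ^ (b - 1) * (2 - 1) ∣ 2 ^ Nat.card G := by
        rw [Nat.add_one_sub_one, mul_one]
        exact pow_dvd_pow 2 (by omega)
      obtain ⟨m, hm⟩ := hd
      rw [hm, pow_mul]
      have h6 := ht.pow m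
      rwa [one_pow] at h6
  have hA : k ^ (2 ^ Nat.card G) ≡ 1 [MOD 2 ^ b] := (h3.pow _).trans h32
  have hB : k ^ (2 ^ Nat.card G) ≡ 1 [MOD c] := by
    have h6 := h1.pow (2 ^ Nat.card G)
    rwa [one_pow] at h6
  have hcop : Nat.Coprime (2 ^ b) c := Nat.Coprime.pow_left _ (Nat.coprime_two_left.2 hc)
  have hAB := (Nat.modEq_and_modEq_iff_modEq_mul hcop).1 ⟨hA, hB⟩
  rw [← hbc] at hAB
  have h7 := (pow_eq_pow_iff_modEq (x := g)).2 hAB
  rwa [pow_one] at h7

theorem sq_zmod_two (d : ℕ) : ((d : ZMod 2)) ^ 2 = if Odd d then 1 else 0 := by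
  rcases Nat.even_or_odd d with h | h
  · rw [if_neg (Nat.not_odd_iff_even.2 h), (ZMod.natCast_eq_zero_iff_even).2 h]
    simp
  · rw [if_pos h, (ZMod.natCast_eq_one_iff_odd).2 h, one_pow]

/-- Let G be a finite group of even order and M a maximal ideal of the algebraic integers containing 2. Let k be a natural number with g ^ k = g ^ 3 for every 2-element g and g ^ k = g for every element g of odd order (such k exist); an irreducible character χ is unchanged by g ↦ g ^ k exactly when it is fixed by the field automorphism that cubes the 2-power roots of unity and fixes the roots of unity of odd order. Then the number of members χ of the principal 2-block of odd degree with χ (g ^ k) = χ g for all g is even. -/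
theorem result {G : Type*} [Group G] [Finite G] (M : Ideal Cfsg.AlgInt) (hM : Cfsg.IsPModular 2 M) (hev : Even (Nat.card G)) (k : ℕ) (hk₁ : ∀ g : G, (∃ j : ℕ, orderOf g = 2 ^ j) → g ^ k = g ^ 3) (hk₂ : ∀ g : G, Odd (orderOf g) → g ^ k = g) : Even (Nat.card {χ : Cfsg.IrrCharacter G // χ ∈ Cfsg.principalBlock M G ∧ Odd (Cfsg.charDegree (χ : G → ℂ)) ∧ ∀ g : G, (χ : G → ℂ) (g ^ k) = (χ : G → ℂ) g}) := by
  classical
  let _ : Fintype G := Fintype.ofFinite G
  have : Finite (IrrCharacter G) := irr_finite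
  let _ : Fintype (IrrCharacter G) := Fintype.ofFinite (IrrCharacter G)
  have hk := coprime_k k hk₁ hk₂
  have hord : ∀ χ : IrrCharacter G, (tw k hk)^[2 ^ Nat.card G] χ = χ :=
    fun χ => tw_iterate_eq_self k hk _ (pow_pow_fix k hk₁ hk₂) χ
  have hB₀ : ∀ χ : IrrCharacter G, tw k hk χ ∈ principalBlock M G ↔ χ ∈ principalBlock M G :=
    fun χ => mem_iff_of_inj (tw k hk) (tw_injective k hk) (principalBlock M G)
      (fun ψ hψ => tw_mem_principalBlock k hk ψ hψ) χ
  -- the indicator of odd-degree members of the principal block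
  let f : IrrCharacter G → ZMod 2 := fun χ =>
    if χ ∈ principalBlock M G ∧ Odd (charDegree (χ : G → ℂ)) then 1 else 0
  have hf : ∀ χ, f (tw k hk χ) = f χ := by
    intro χ
    simp only [f, hB₀, charDegree_tw]
  have hcount := sum_sub_sum_fixed_mem (⊥ : AddSubgroup (ZMod 2)) (tw k hk) f hf
    (fun a => by rw [AddSubgroup.mem_bot]; exact CharTwo.add_self_eq_zero _)
    (Nat.card G) Finset.univ (fun _ _ => Finset.mem_univ _) (fun χ _ => hord χ)
  rw [AddSubgroup.mem_bot, sub_eq_zero] at hcount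
  -- the number of odd-degree members of the principal block is even
  have hB : IsPBlock M (principalBlock M G) := Cfsg.Agent.Lib.Helper79.isPBlock_principalBlock
  have hdeg : ∀ χ : IrrCharacter G, (χ : G → ℂ) 1 = (charDegree (χ : G → ℂ) : ℂ) :=
    fun χ => (Cfsg.Agent.Lib.Helper83.irr_degree χ.2).2
  have hN : ((∑ χ : IrrCharacter G,
      if χ ∈ principalBlock M G then (charDegree (χ : G → ℂ)) ^ 2 else 0 : ℕ) : ℂ) =
      (Nat.card G : ℂ) * blockCoeff (principalBlock M G) 1 := by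
    rw [blockCoeff_eq_sum]
    have hG : (Nat.card G : ℂ) ≠ 0 := by exact_mod_cast Nat.card_pos.ne'
    rw [mul_inv_cancel_left₀ hG]
    push_cast
    refine Finset.sum_congr rfl fun χ _ => ?_
    rw [hdeg χ, Complex.conj_natCast]
    split_ifs <;> ring
  have hmem : MemLocalIdeal M ((∑ χ : IrrCharacter G,
      if χ ∈ principalBlock M G then (charDegree (χ : G → ℂ)) ^ 2 else 0 : ℕ) : ℂ) := by
    rw [hN]
    exact locIdeal_mul_right hM ((locIdeal_natCast_iff hM _).2 (even_iff_two_dvd.1 hev))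
      (osima hM _ hB 1)
  have h2dvd := (locIdeal_natCast_iff hM _).1 hmem
  have hsum0 : ∑ χ : IrrCharacter G, f χ = 0 := by
    have h3 : ((∑ χ : IrrCharacter G,
        if χ ∈ principalBlock M G then (charDegree (χ : G → ℂ)) ^ 2 else 0 : ℕ) : ZMod 2) = 0 :=
      (ZMod.natCast_eq_zero_iff _ 2).2 h2dvd
    rw [← h3]
    push_cast
    refine Finset.sum_congr rfl fun χ _ => ?_
    simp only [f]
    by_cases hχ : χ ∈ principalBlock M G
    · simp only [hχ, true_and, if_true]
      rw [sq_zmod_two]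
    · simp only [hχ, false_and, if_false]
  rw [hsum0] at hcount
  -- identify the fixed-point sum with the cardinality in the statement
  have hcard : Nat.card {χ : IrrCharacter G // χ ∈ principalBlock M G ∧
      Odd (charDegree (χ : G → ℂ)) ∧ ∀ g : G, (χ : G → ℂ) (g ^ k) = (χ : G → ℂ) g} =
      ((Finset.univ.filter (fun χ : IrrCharacter G => tw k hk χ = χ)).filter
        (fun χ => χ ∈ principalBlock M G ∧ Odd (charDegree (χ : G → ℂ)))).card := by
    rw [Nat.card_eq_fintype_card, Fintype.card_subtype]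
    congr 1
    ext χ
    simp only [Finset.mem_filter, Finset.mem_univ, true_and, tw_eq_self_iff]
    tauto
  rw [hcard, ← ZMod.natCast_eq_zero_iff_even, Finset.card_filter]
  push_cast
  exact hcount.symm

end Cfsg.Agent.S4550
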