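import Cfsg.Statements.S4775
import Cfsg.Agent.Lib.Helper8.Sz49
import Cfsg.Agent.Lib.Helper8.Sz50
import Cfsg.Agent.Lib.Helper8.Sz21
import Cfsg.Agent.Lib.Helper27.SzBridge

set_option autoImplicit false
open Cfsg

namespace Cfsg.Agent.S4775

/-- Let F be a finite field with q = 2^(2m+1) ≥ 8 elements and let S be isomorphic to the Suzuki group over F. Then the vertices of the character degree graph of S are 2 and the primes dividing (q − 1)(q² + 1); the primes dividing (q − 1)(q² + 1) are pairwise adjacent, and 2 is adjacent exactly to the primes dividing q − 1. -/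
theorem result (F : Type*) [Field F] [Fintype F] (m : ℕ) (hm : 1 ≤ m) (q : ℕ) (hq : Fintype.card F = q) (hqm : q = 2 ^ (2 * m + 1)) {S : Type*} [Group S] [Finite S] (hS : Nonempty (S ≃* ↥(Cfsg.Lie.Sz F (2 ^ (m + 1))))) : Cfsg.degreePrimes S = {r : ℕ | r.Prime ∧ (r = 2 ∨ r ∣ (q - 1) * (q ^ 2 + 1))} ∧ ∀ r s : ℕ, (Cfsg.degreeGraph S).Adj r s ↔ (r ≠ s ∧ r.Prime ∧ s.Prime ∧ ((r ∣ (q - 1) * (q ^ 2 + 1) ∧ s ∣ (q - 1) * (q ^ 2 + 1)) ∨ (r = 2 ∧ s ∣ q - 1) ∨ (s = 2 ∧ r ∣ q - 1))) := by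
  subst hqm
  obtain ⟨e⟩ := hS
  have hD : Cfsg.charDegrees S = {1, (2 ^ (2 * m + 1)) ^ 2, (2 ^ (2 * m + 1)) ^ 2 + 1,
      (2 ^ (2 * m + 1) - 1) * (2 ^ (2 * m + 1) + 2 ^ (m + 1) + 1),
      (2 ^ (2 * m + 1) - 1) * (2 ^ (2 * m + 1) - 2 ^ (m + 1) + 1),
      (2 ^ (2 * m + 1) - 1) * 2 ^ m} := by
    rw [← Cfsg.Agent.Lib.Helper8.Sz.charDegrees_Sz hq hm]
    exact Cfsg.Agent.Lib.Helper8.Sz.charDegrees_mulEquiv
      (e.trans (Cfsg.Agent.Lib.Helper27.SzBridge.szEquiv hq hm).symm)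
  have hprime : ∀ (k p : ℕ), p.Prime → p ∣ 2 ^ k → p = 2 := fun k p hp h =>
    (Nat.prime_dvd_prime_iff_eq hp Nat.prime_two).1 (hp.dvd_of_dvd_pow h)
  exact Cfsg.Agent.Lib.Helper8.Sz.graph_arith (2 ^ (2 * m + 1)) (2 ^ (2 * m + 1) - 1)
    (2 ^ (2 * m + 1) + 2 ^ (m + 1) + 1) (2 ^ (2 * m + 1) - 2 ^ (m + 1) + 1) (2 ^ m)
    (Cfsg.Agent.Lib.Helper8.Sz.tori_mul m)
    (fun p hp h => hprime _ p hp (hp.dvd_of_dvd_pow h))
    (dvd_pow (dvd_pow_self 2 (by omega)) (by norm_num))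
    (fun p hp h => hprime _ p hp h)
    (dvd_pow_self 2 (by omega))
    (Cfsg.charDegrees S) hD

end Cfsg.Agent.S4775
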