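import Cfsg.Statements.S4937
import Cfsg.Agent.Lib.Helper84.AD7

set_option autoImplicit false
open Cfsg

namespace Cfsg.Agent.S4937

/-- Let G be a finite group, p a prime, M a maximal ideal of the algebraic integers containing p, N a normal subgroup of G and P a Sylow p-subgroup of N such that G = N·C_G(P). Let θ be an irreducible character in the principal p-block of N that is the restriction of some irreducible character of G. Then θ is the restriction of an irreducible character χ of G lying in the principal p-block of G such that, for every subgroup J of G containing N, the restriction of χ to J is an irreducible character of J lying in the principal p-block of J. -/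
theorem result {G : Type*} [Group G] [Finite G] (p : ℕ) [Fact p.Prime] (M : Ideal Cfsg.AlgInt) (hM : Cfsg.IsPModular p M) (N : Subgroup G) [N.Normal] (P : Sylow p ↥N)
    (hcov : N ⊔ Subgroup.centralizer (((P : Subgroup ↥N).map N.subtype : Subgroup G) : Set G) = ⊤)
    (θ : Cfsg.IrrCharacter ↥N) (hθ : θ ∈ Cfsg.principalBlock M ↥N)
    (hext : ∃ ψ : Cfsg.IrrCharacter G, ∀ x : ↥N, (ψ : G → ℂ) x = (θ : ↥N → ℂ) x) :
    ∃ χ : Cfsg.IrrCharacter G, χ ∈ Cfsg.principalBlock M G ∧ (∀ x : ↥N, (χ : G → ℂ) x = (θ : ↥N → ℂ) x) ∧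
      ∀ J : Subgroup G, N ≤ J → ∃ ξ : Cfsg.IrrCharacter ↥J, ξ ∈ Cfsg.principalBlock M ↥J ∧ ∀ y : ↥J, (ξ : ↥J → ℂ) y = (χ : G → ℂ) y := by
  classical
  obtain ⟨ψ, hψ⟩ := hext
  obtain ⟨a, m, e, f, hpe⟩ :=
    Cfsg.Agent.Lib.Helper84.AD.exists_pexp p (Nat.card G) Nat.card_pos.ne'
  have hPmidx : ¬ p ∣ ((P : Subgroup ↥N).map N.subtype).relIndex N := by
    have h0 : ((P : Subgroup ↥N).map N.subtype).subgroupOf N = (P : Subgroup ↥N) :=
      Subgroup.comap_map_eq_self_of_injective Subtype.coe_injective _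
    show ¬ p ∣ (((P : Subgroup ↥N).map N.subtype).subgroupOf N).index
    rw [h0]
    exact P.not_dvd_index
  have S : Cfsg.Agent.Lib.Helper84.AD.Sett p M N ((P : Subgroup ↥N).map N.subtype) θ ψ a m e f :=
    ⟨hM, Subgroup.map_subtype_le _, P.isPGroup'.map _, hPmidx, hcov, hθ, hψ, hpe⟩
  have hirr := Cfsg.Agent.Lib.Helper84.AD.chi_irr S
  have hblock := Cfsg.Agent.Lib.Helper84.AD.chi_block S
  refine ⟨⟨_, hirr⟩, ?_, fun x => Cfsg.Agent.Lib.Helper84.AD.chi_N S x,
    fun J hNJ => hblock J hNJ⟩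
  obtain ⟨ξ, hξ, hξχ⟩ := hblock ⊤ le_top
  have h1 := Cfsg.Agent.Lib.Helper82.irrComp_mem_principal M
    (Subgroup.topEquiv : (⊤ : Subgroup G) ≃* G).symm ξ hξ
  have h2 : Cfsg.Agent.Lib.Helper82.irrComp
      (Subgroup.topEquiv : (⊤ : Subgroup G) ≃* G).symm ξ = ⟨_, hirr⟩ := by
    apply Subtype.ext
    funext g
    exact hξχ ((Subgroup.topEquiv : (⊤ : Subgroup G) ≃* G).symm g)
  rw [← h2]; exact h1

end Cfsg.Agent.S4937
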