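import Cfsg.Statements.S5110
import Cfsg.Agent.Lib.Helper88.SatCrit

set_option autoImplicit false
open Cfsg

namespace Cfsg.Agent.S5110

open Cfsg.FusionSystem Cfsg.Agent.Lib.Helper90 Cfsg.Agent.Lib.Helper91 Cfsg.Agent.Lib.Helper88

variable {Ω : Type*} [Group Ω] {S : Subgroup Ω}

/-- A system generated by its maps with source in a conjugation-closed family `ℋ` satisfies the
generation principle for every class outside `ℋ`. -/
theorem genP_of_gen (F : Cfsg.FusionSystem S) (ℋ : Set (Subgroup Ω))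
    (hℋconj : ∀ P ∈ ℋ, ∀ Q, F.IsConj P Q → Q ∈ ℋ)
    (hgen : ∀ E : Cfsg.FusionSystem S, (∀ P ∈ ℋ, F.Hom P ⊆ E.Hom P) → F ≤ E)
    {P : Subgroup Ω} (hPℋ : P ∉ ℋ) (hPS : ∀ R, F.IsConj P R → R < S) : GenP F P := by
  intro C h_congr h_comp h_inv h_elem
  have hC_congr : ∀ (R : Subgroup Ω) (f g : Ω → Ω), (Mor F R f ∧ (F.IsConj P R → C R f)) →
      (∀ x ∈ R, f x = g x) → (Mor F R g ∧ (F.IsConj P R → C R g)) :=
    fun R f g h hfg => ⟨h.1.congr hfg, fun hR => h_congr R f g (h.2 hR) hfg⟩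
  have hC_mor : ∀ (R : Subgroup Ω) (f : Ω → Ω), (Mor F R f ∧ (F.IsConj P R → C R f)) →
      Mor F R f := fun R f h => h.1
  have hC_le : ∀ (R : Subgroup Ω) (f : Ω → Ω), (Mor F R f ∧ (F.IsConj P R → C R f)) →
      R ≤ S ∧ ∀ x ∈ R, f x ∈ S := fun R f h => ⟨h.1.le, fun x hx => h.1.mem hx⟩
  have hC_conj : ∀ (R : Subgroup Ω) (a : Ω), R ≤ S → a ∈ S →
      (Mor F R (fun x => a * x * a⁻¹) ∧ (F.IsConj P R → C R (fun x => a * x * a⁻¹))) :=
    fun R a hR ha => ⟨mor_conj F hR ha, fun hRc =>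
      h_elem R S _ hRc (hPS R hRc) (mor_conj F le_rfl ha)⟩
  have hC_comp : ∀ (R Q : Subgroup Ω) (f g : Ω → Ω), (Mor F R f ∧ (F.IsConj P R → C R f)) →
      (Mor F Q g ∧ (F.IsConj P Q → C Q g)) → (∀ x ∈ R, f x ∈ Q) →
      (Mor F R (g ∘ f) ∧ (F.IsConj P R → C R (g ∘ f))) := by
    rintro R Q f g ⟨hf, hcf⟩ ⟨hg, hcg⟩ hfQ
    refine ⟨hf.comp hg hfQ, fun hR => ?_⟩
    have himgle : img R f ≤ Q := by
      intro y hy
      obtain ⟨x, hx, rfl⟩ := hf.mem_img.mp hy
      exact hfQ x hx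
    have hR₁ : F.IsConj P (img R f) := isConj_trans' hR (isConj_of_mor hf)
    rcases eq_or_lt_of_le himgle with heq | hlt
    · have hgQ : C (img R f) g := by
        rw [heq]
        exact hcg (heq ▸ hR₁)
      exact h_comp R f g hR hf (hg.restrict himgle) (hcf hR) hgQ
    · exact h_comp R f g hR hf (hg.restrict himgle) (hcf hR) (h_elem (img R f) Q g hR₁ hlt hg)
  have hC_inv : ∀ (R : Subgroup Ω) (f : Ω → Ω), (Mor F R f ∧ (F.IsConj P R → C R f)) →
      (Mor F (img R f) (invFn R f) ∧ (F.IsConj P (img R f) → C (img R f) (invFn R f))) := by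
    rintro R f ⟨hf, hcf⟩
    refine ⟨hf.inv, fun hR₁ => ?_⟩
    have hR : F.IsConj P R := isConj_trans' hR₁ (isConj_symm' (isConj_of_mor hf))
    exact h_inv R f hR hf (hcf hR)
  have hle := hgen (mkSys F S (fun R f => Mor F R f ∧ (F.IsConj P R → C R f))
    hC_congr hC_mor hC_le hC_conj hC_comp hC_inv) (fun Q hQ φ hφ =>
      ⟨mor_of_hom hφ, fun hconj => absurd (hℋconj Q hQ P (isConj_symm' hconj)) hPℋ⟩)
  intro R f hR hf
  obtain ⟨φ, hφ, hφf⟩ := hf
  have h1 : Mor F R (extFun R φ) ∧ (F.IsConj P R → C R (extFun R φ)) := hle R hφ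
  exact h_congr R _ f (h1.2 hR) (fun x hx => by rw [extFun_apply' R φ hx, hφf])

/-- Saturation criterion: let F be a fusion system over a finite p-group S and H a family of subgroups of S closed under conjugacy in F, such that every conjugacy class inside H contains a fully automized receptive member, F is the smallest fusion system over S containing all its maps with source in H, and every centric subgroup outside H is conjugate in F to some P for which Aut_S(P) ∩ O_p(Aut_F(P)) is not contained in Inn(P). Then F is saturated. -/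
theorem result {Ω : Type*} [Group Ω] {S : Subgroup Ω} [Finite S] (p : ℕ) [Fact p.Prime] (hS : IsPGroup p S) (F : Cfsg.FusionSystem S) (ℋ : Set (Subgroup Ω)) (hℋS : ∀ P ∈ ℋ, P ≤ S) (hℋconj : ∀ P ∈ ℋ, ∀ Q, F.IsConj P Q → Q ∈ ℋ) (hsat : ∀ P ∈ ℋ, ∃ Q, F.IsConj P Q ∧ F.IsFullyAutomized p Q ∧ F.IsReceptive Q) (hgen : ∀ E : Cfsg.FusionSystem S, (∀ P ∈ ℋ, F.Hom P ⊆ E.Hom P) → F ≤ E) (hstar : ∀ P : Subgroup Ω, F.IsCentric P → P ∉ ℋ → ∃ Q, F.IsConj P Q ∧ ¬ (Cfsg.autInducedBy S Q ⊓ (Cfsg.pCore p ↥(F.autGroup Q)).map (F.autGroup Q).subtype ≤ Cfsg.Inn Q)) : F.IsSaturated p := by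
  have hleS : ∀ {P R : Subgroup Ω}, F.IsConj P R → R ≤ S := by
    intro P R h
    obtain ⟨f, hf, hfimg⟩ := isConj_iff.mp h
    exact hfimg ▸ hf.img_le
  have key : ∀ d, ∀ P : Subgroup Ω, P ≤ S → Nat.card S - Nat.card P = d →
      ∃ Q, F.IsConj P Q ∧ F.IsFullyAutomized p Q ∧ F.IsReceptive Q := by
    intro d
    induction d using Nat.strong_induction_on with
    | _ d ih =>
    intro P hP hd
    by_cases hPℋ : P ∈ ℋ
    · exact hsat P hPℋ
    have hPcard : Nat.card P ≤ Nat.card S := Subgroup.card_le_of_le hP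
    have H1 : ∀ Q : Subgroup Ω, Q ≤ S → Nat.card P < Nat.card Q →
        ∃ Q', F.IsConj Q Q' ∧ F.IsFullyAutomized p Q' ∧ F.IsReceptive Q' := by
      intro Q hQ hlt
      have hQcard : Nat.card Q ≤ Nat.card S := Subgroup.card_le_of_le hQ
      exact ih (Nat.card S - Nat.card Q) (by omega) Q hQ rfl
    have H3 : ∃ Q, F.IsConj P Q ∧ ¬ kSub p F Q ≤ Q := by
      by_cases hcen : F.IsCentric P
      · obtain ⟨Q, hQc, hQ⟩ := hstar P hcen hPℋ
        refine ⟨Q, hQc, fun hle => hQ ?_⟩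
        rintro β ⟨hβS, hβO⟩
        obtain ⟨g, hg, hβg⟩ := (mem_autInducedBy_iff S Q β).mp hβS
        have hQS : Q ≤ S := hleS hQc
        have hfinQ : Finite Q := finite_of_le hQS
        have hgN : g ∈ Subgroup.normalizer (Q : Set Ω) :=
          mem_normalizer_of_finite (fun x hx => by
            have h := (β ⟨x, hx⟩).2
            rwa [hβg] at h)
        have hgK : g ∈ kSub p F Q := ⟨hg, hgN, β, hβO, hβg⟩
        exact (mem_Inn_iff β).mpr ⟨g, hle hgK, hβg⟩
      · have hex : ∃ Q, F.IsConj P Q ∧ ¬ FusionSystem.centralizerIn S Q ≤ Q := by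
          by_contra hcon
          push_neg at hcon
          exact hcen ⟨hP, hcon⟩
        obtain ⟨Q, hQc, hQ⟩ := hex
        exact ⟨Q, hQc, fun hle => hQ ((centralizerIn_le_kSub p F Q).trans hle)⟩
    have hPS : ∀ R, F.IsConj P R → R < S := by
      intro R hR
      obtain ⟨Q, hQc, hQK⟩ := H3
      refine lt_of_le_of_ne (hleS hR) (fun h => ?_)
      have hQS : Q ≤ S := hleS hQc
      have hK : kSub p F Q ≤ S := (kSub_le_normalizerIn p F Q).trans inf_le_left
      have hfinK : Finite (kSub p F Q) := finite_of_le hK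
      have h1 : Nat.card Q < Nat.card (kSub p F Q) :=
        card_lt_of_lt (lt_of_le_not_ge (le_kSub hS hQS) hQK)
      have h2 := Subgroup.card_le_of_le hK
      have h3 := card_eq_of_isConj hR
      have h4 := card_eq_of_isConj hQc
      rw [h] at h3
      omega
    exact exists_fa_rec_of_gen hS hP H1 (genP_of_gen F ℋ hℋconj hgen hPℋ hPS) H3
  intro P hP
  exact key _ P hP rfl

end Cfsg.Agent.S5110
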