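import Cfsg.Statements.S5330
import Cfsg.Agent.Lib.Helper91.Abelian

set_option autoImplicit false
open Cfsg

namespace Cfsg.Agent.S5330

open Cfsg.FusionSystem Cfsg.Agent.Lib.Helper90 Cfsg.Agent.Lib.Helper91
open scoped IsMulCommutative

variable {Ω : Type*} [Group Ω] {S : Subgroup Ω}

/-- The elements of `S` fixed by every automorphism of `S` in the system. -/
def fixSub (F : FusionSystem S) : Subgroup Ω where
  carrier := {x | x ∈ S ∧ ∀ f, Mor F S f → f x = x}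
  mul_mem' := by
    rintro a b ⟨ha, ha'⟩ ⟨hb, hb'⟩
    refine ⟨S.mul_mem ha hb, fun f hf => ?_⟩
    rw [hf.map_mul ha hb, ha' f hf, hb' f hf]
  one_mem' := ⟨S.one_mem, fun f hf => hf.map_one⟩
  inv_mem' := by
    rintro a ⟨ha, ha'⟩
    refine ⟨S.inv_mem ha, fun f hf => ?_⟩
    rw [hf.map_inv ha, ha' f hf]

theorem center_eq [Finite S] {p : ℕ} [Fact p.Prime] (hS : IsPGroup p S) {F : FusionSystem S}
    (hF : F.IsSaturated p) (hab : ∀ x ∈ S, ∀ y ∈ S, x * y = y * x) : F.center = fixSub F := by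
  apply le_antisymm
  · apply sSup_le
    intro Q hQ x hx
    refine ⟨hQ.1 hx, fun f hf => ?_⟩
    obtain ⟨φ, hφ, hφf⟩ := id hf
    obtain ⟨ψ, -, hψS, hψQ⟩ := hQ.2 S φ hφ
    have h1 := hψS ⟨x, hQ.1 hx⟩
    have h2 := hψQ ⟨x, hx⟩
    have h3 : Subgroup.inclusion (le_sup_left : S ≤ S ⊔ Q) (⟨x, hQ.1 hx⟩ : S) =
        Subgroup.inclusion (le_sup_right : Q ≤ S ⊔ Q) (⟨x, hx⟩ : Q) := rfl
    rw [h3, h2] at h1
    rw [← hφf ⟨x, hQ.1 hx⟩, ← h1]
  · apply le_sSup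
    refine ⟨fun x hx => hx.1, fun P φ hφ => ?_⟩
    obtain ⟨f', hf', hf'P⟩ := extend_abelian hS hF hab (mor_of_hom hφ)
    have hle : P ⊔ fixSub F ≤ S := sup_le (F.le_of_mem hφ).1 (fun x hx => hx.1)
    obtain ⟨ψ, hψ, hψf⟩ := hf'.restrict hle
    refine ⟨ψ, hψ, fun x => ?_, fun x => ?_⟩
    · rw [hψf]
      show f' x = φ x
      rw [hf'P x x.2, extFun_apply]
    · rw [hψf]
      exact x.2.2 f' hf'

/-- Let F be a saturated fusion system over a finite abelian p-group S. Then S is the internal direct product of the centre of the system and the focal subgroup: Z(F) ∩ foc(F) = 1 and Z(F)·foc(F) = S. -/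
theorem result {Ω : Type*} [Group Ω] {S : Subgroup Ω} [Finite S] (p : ℕ) [Fact p.Prime] (hS : IsPGroup p S) (F : Cfsg.FusionSystem S) (hF : F.IsSaturated p) (hab : ∀ x ∈ S, ∀ y ∈ S, x * y = y * x) : F.center ⊓ F.focalSubgroup = ⊥ ∧ F.center ⊔ F.focalSubgroup = S := by
  haveI : IsMulCommutative S := ⟨⟨fun a b => Subtype.ext (hab a a.2 b b.2)⟩⟩
  obtain ⟨A, hA⟩ : ∃ A, A = F.autGroup S := ⟨_, rfl⟩
  obtain ⟨nrm, h1, h2, h3, h4⟩ := exists_norm_map (M := S) A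
  obtain ⟨K, hK⟩ : ∃ K, K = Subgroup.closure {y : S | ∃ z, ∃ β ∈ A, y = z⁻¹ * β z} := ⟨_, rfl⟩
  rw [← hK] at h3 h4
  have hm : ¬ p ∣ Nat.card A := by rw [hA]; exact not_dvd_card_autGroup_of_abelian hF hab
  have hcop : ∀ k : S, Nat.Coprime (Nat.card A) (orderOf k) := by
    intro k
    obtain ⟨j, hj⟩ := hS k
    have h5 : orderOf k ∣ p ^ j := orderOf_dvd_of_pow_eq_one hj
    have h6 : Nat.Coprime (Nat.card A) (p ^ j) :=
      (((Nat.Prime.coprime_iff_not_dvd (Fact.out : p.Prime)).mpr hm).symm).pow_right j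
    exact Nat.Coprime.coprime_dvd_right h5 h6
  have hfocle : F.focalSubgroup ≤ K.map S.subtype := by
    unfold FusionSystem.focalSubgroup
    rw [Subgroup.closure_le]
    rintro y ⟨P, φ, x, hφ, rfl⟩
    obtain ⟨f', hf', hf'P⟩ := extend_abelian hS hF hab (mor_of_hom hφ)
    obtain ⟨α, hα, hαf⟩ := aut_of_mor_top hf'
    have hxS : (x : Ω) ∈ S := (F.le_of_mem hφ).1 x.2
    refine ⟨(⟨x, hxS⟩ : S)⁻¹ * α ⟨x, hxS⟩, ?_, ?_⟩
    · rw [hK]
      exact Subgroup.subset_closure ⟨_, α, hA ▸ hα, rfl⟩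
    · show ((x : Ω))⁻¹ * ((α ⟨x, hxS⟩ : S) : Ω) = (x : Ω)⁻¹ * φ x
      rw [hαf ⟨x, hxS⟩]
      show (x : Ω)⁻¹ * f' x = _
      rw [hf'P x x.2, extFun_apply]
  have hlefoc : K.map S.subtype ≤ F.focalSubgroup := by
    rw [Subgroup.map_le_iff_le_comap, hK, Subgroup.closure_le]
    rintro y ⟨z, β, hβ, rfl⟩
    show ((z⁻¹ * β z : S) : Ω) ∈ F.focalSubgroup
    have hβm : Mor F S (autFun S β) := mor_of_aut_top (hA ▸ hβ)
    have hmem : S.subtype.comp β.toMonoidHom ∈ F.Hom S :=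
      hβm.hom _ (fun x => (autFun_apply β x).symm)
    exact Subgroup.subset_closure ⟨S, S.subtype.comp β.toMonoidHom, z, hmem, rfl⟩
  have hfix : ∀ k : S, (k : Ω) ∈ fixSub F ↔ ∀ α ∈ A, α k = k := by
    intro k
    constructor
    · intro hk α hα
      have h5 := hk.2 _ (mor_of_aut_top (hA ▸ hα))
      rw [autFun_apply α k] at h5
      exact Subtype.ext h5
    · intro hk
      refine ⟨k.2, fun f hf => ?_⟩
      obtain ⟨α, hα, hαf⟩ := aut_of_mor_top hf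
      rw [← hαf k, hk α (hA ▸ hα)]
  rw [center_eq hS hF hab]
  constructor
  · rw [eq_bot_iff]
    rintro x ⟨hx1, hx2⟩
    obtain ⟨k, hkK, rfl⟩ := hfocle hx2
    have h5 : nrm k = 1 := h3 k hkK
    have h6 : nrm k = k ^ Nat.card A := h1 k ((hfix k).mp hx1)
    have h7 : orderOf k ∣ Nat.card A := orderOf_dvd_of_pow_eq_one (h6 ▸ h5)
    have h8 : orderOf k = 1 := Nat.eq_one_of_dvd_coprimes (hcop k) h7 dvd_rfl
    rw [orderOf_eq_one_iff] at h8
    rw [h8]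
    exact Subgroup.one_mem _
  · apply le_antisymm
    · exact sup_le (fun x hx => hx.1) (hfocle.trans (Subgroup.map_subtype_le K))
    · intro x hx
      obtain ⟨k, hk⟩ : ∃ k : S, k = ⟨x, hx⟩ := ⟨_, rfl⟩
      have h5 : ((nrm k : S) : Ω) ∈ fixSub F := (hfix _).mpr (fun α hα => h2 k α hα)
      have h6 : (((k ^ Nat.card A * (nrm k)⁻¹ : S)) : Ω) ∈ F.focalSubgroup :=
        hlefoc ⟨_, h4 k, rfl⟩
      have h7 : ((k ^ Nat.card A : S) : Ω) ∈ fixSub F ⊔ F.focalSubgroup := by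
        have h8 : k ^ Nat.card A = nrm k * (k ^ Nat.card A * (nrm k)⁻¹) := by
          rw [mul_comm (k ^ Nat.card A), mul_inv_cancel_left]
        rw [h8]
        exact Subgroup.mul_mem _ (Subgroup.mem_sup_left h5) (Subgroup.mem_sup_right h6)
      obtain ⟨j, hj⟩ := exists_pow_eq_self_of_coprime (hcop k)
      have h9 : x = (((k ^ Nat.card A) ^ j : S) : Ω) := by rw [hj, hk]
      rw [h9]
      exact Subgroup.pow_mem _ h7 j

end Cfsg.Agent.S5330
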