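import Cfsg.Statements.S5148
import Cfsg.Agent.S5132
import Cfsg.Agent.S5134
import Cfsg.Agent.S5144
import Cfsg.Agent.S5330
import Cfsg.Agent.Lib.Helper91.Abelian
import Cfsg.Agent.Lib.Helper90.Inner
import Cfsg.Agent.Lib.Helper89.FusBasic

set_option autoImplicit false
open Cfsg

namespace Cfsg.Agent.S5148

open Cfsg.FusionSystem Cfsg.Agent.Lib.Helper90 Cfsg.Agent.Lib.Helper91

/-- a simple fusion system over an abelian `p`-group has only inclusions as maps -/
theorem eq_incl_of_simple_abelian {Ω : Type*} [Group Ω] {S : Subgroup Ω} [Finite S] {p : ℕ}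
    [Fact p.Prime] (hS : IsPGroup p S) (F : FusionSystem S) (hF : F.IsSimple p)
    (hab : ∀ x ∈ S, ∀ y ∈ S, x * y = y * x) {P : Subgroup Ω} {φ : P →* Ω} (hφ : φ ∈ F.Hom P)
    (x : P) : φ x = x := by
  have hsat : F.IsSaturated p := hF.1
  have hinner : ∀ {R : Subgroup Ω} {χ : R →* Ω}, χ ∈ (innerFusionSystem S).Hom R →
      ∀ y : R, χ y = y := by
    rintro R χ ⟨hR, g, hg, h⟩ y
    rw [h y, hab g hg y (hR y.2)]
    group
  have hnormal : (innerFusionSystem S).IsNormalIn F p := by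
    refine ⟨⟨inner_isSaturated hS, hsat, inner_le F le_rfl,
      ⟨le_rfl, fun R _ χ hχ y => Cfsg.Agent.Lib.Helper89.hom_mem F hχ y⟩, ?_, ?_⟩, ?_⟩
    · intro R hRS χ hχ α hα
      refine ⟨Subgroup.subtype _, ?_, ?_⟩
      · apply Cfsg.Agent.Lib.Helper89.incl_mem
        rintro _ ⟨y, -, rfl⟩
        exact (α y).2
      · intro y hχy hαy
        have h1 : (⟨χ y, hχy⟩ : S) = ⟨y, hRS y.2⟩ := Subtype.ext (hinner hχ y)
        rw [h1]
        rfl
    · intro R hRS χ hχ
      obtain ⟨f', hf', hf'R⟩ := extend_abelian hS hsat hab (mor_of_hom hχ)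
      obtain ⟨α, hα, hαf⟩ := aut_of_mor_top hf'
      refine ⟨α, hα, R.subtype, Cfsg.Agent.Lib.Helper89.incl_mem _ hRS, ?_⟩
      intro y hy
      have h1 := hf'R y y.2
      rw [extFun_apply] at h1
      rw [← h1, ← hαf ⟨y, hRS y.2⟩]
      rfl
    · intro α hα
      have h1 := (Cfsg.Agent.Lib.Helper89.mem_autGroup_iff (innerFusionSystem S) le_rfl α).mp hα
      have h2 : ∀ y : S, ((α y : S) : Ω) = y := fun y => hinner h1 y
      refine ⟨1, Subgroup.one_mem _, ?_, ?_⟩
      · intro y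
        rw [h2 y]
        rfl
      · intro c _
        have h3 : (c : Ω)⁻¹ * (((1 : MulAut ↥(S ⊔ centralizerIn S S)) c : ↥(S ⊔ centralizerIn S S)) : Ω) = 1 := by
          simp
        rw [h3]
        exact Subgroup.one_mem _
  rcases hF.2.2 S (innerFusionSystem S) hnormal with h | ⟨-, h⟩
  · exact absurd h hF.2.1
  · exact hinner (by rw [h P]; exact hφ) x

theorem stronglyClosed_of_isCentral {Ω : Type*} [Group Ω] {S : Subgroup Ω} (F : FusionSystem S)
    {Q : Subgroup Ω} (hQ : F.IsCentral Q) : F.StronglyClosed Q := by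
  refine ⟨hQ.1, fun R hR φ hφ x => ?_⟩
  obtain ⟨ψ, -, h1, h2⟩ := hQ.2 R φ hφ
  have h3 := h1 x
  have h4 := h2 ⟨x, hR x.2⟩
  have h5 : (Subgroup.inclusion (le_sup_left : R ≤ R ⊔ Q) x) =
      Subgroup.inclusion (le_sup_right : Q ≤ R ⊔ Q) ⟨x, hR x.2⟩ := Subtype.ext rfl
  rw [h5, h4] at h3
  rw [← h3]
  exact hR x.2

/-- The underlying p-group of a (nontrivial) quasisimple fusion system is nonabelian. -/
theorem result {Ω : Type*} [Group Ω] {S : Subgroup Ω} [Finite S] (p : ℕ) [Fact p.Prime] (hS : IsPGroup p S) (F : Cfsg.FusionSystem S) (hq : F.Quasisimple p) : ¬ IsMulCommutative S := by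
  intro hcomm
  have hF : F.IsSaturated p := hq.1
  have hab : ∀ x ∈ S, ∀ y ∈ S, x * y = y * x := by
    intro x hx y hy
    have h := mul_comm' (⟨x, hx⟩ : S) ⟨y, hy⟩
    exact congrArg Subtype.val h
  have hZc : F.IsCentral F.center := Cfsg.Agent.S5144.result F
  have hZsc : F.StronglyClosed F.center := stronglyClosed_of_isCentral F hZc
  obtain ⟨E, hE⟩ := Cfsg.Agent.S5132.result p hS F F.center hZsc
  have hEs : E.IsSimple p := hq.2.2 E hE
  have hmor := (Cfsg.Agent.S5134.result p hS F hF F.center hZsc _ E hE).1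
  -- the quotient is an abelian finite `p`-group
  have hS' : IsPGroup p (⊤ : Subgroup (↥S ⧸ (F.center).subgroupOf S)) :=
    (hS.to_quotient _).to_subgroup _
  have hab' : ∀ x ∈ (⊤ : Subgroup (↥S ⧸ (F.center).subgroupOf S)),
      ∀ y ∈ (⊤ : Subgroup (↥S ⧸ (F.center).subgroupOf S)), x * y = y * x := by
    intro x _ y _
    obtain ⟨a, rfl⟩ := QuotientGroup.mk_surjective x
    obtain ⟨b, rfl⟩ := QuotientGroup.mk_surjective y
    rw [← QuotientGroup.mk_mul, ← QuotientGroup.mk_mul, mul_comm' a b]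
  -- the focal subgroup lies in the centre
  have hfoc : F.focalSubgroup ≤ F.center := by
    apply (Subgroup.closure_le _).mpr
    rintro _ ⟨P, φ, x, hφ, rfl⟩
    obtain ⟨φ', hφ', hP, hφS, hP', hind⟩ := hmor.2 P φ hφ
    have h1 := hind x
    rw [eq_incl_of_simple_abelian hS' E hEs hab' hφ'] at h1
    have h2 : QuotientGroup.mk' ((F.center).subgroupOf S) (⟨x, hP x.2⟩⁻¹ * ⟨φ x, hφS x⟩) = 1 := by
      rw [map_mul, map_inv, ← h1]
      simp
    have h3 := (hE.2.1 _).mp h2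
    exact h3
  obtain ⟨h1, h2⟩ := Cfsg.Agent.S5330.result p hS F hF hab
  have hfoc' : F.focalSubgroup = ⊥ := by
    rw [← h1]
    exact (inf_eq_right.mpr hfoc).symm
  rw [hfoc', sup_bot_eq] at h2
  apply hEs.2.1
  rw [eq_bot_iff]
  intro y _
  obtain ⟨a, rfl⟩ := QuotientGroup.mk_surjective y
  rw [Subgroup.mem_bot, QuotientGroup.eq_one_iff, Subgroup.mem_subgroupOf, h2]
  exact a.2

end Cfsg.Agent.S5148
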