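import Cfsg.Statements.S5265
import Cfsg.Agent.Lib.Helper90.IdxSqG
import Cfsg.Agent.Lib.Helper12.NormAbCyc2

set_option autoImplicit false
open Cfsg

namespace Cfsg.Agent.S5265

open Cfsg.Agent.Lib.Helper90 Cfsg.FusionSystem

theorem not_normal_top {Ω : Type*} [Group Ω] {S : Subgroup Ω} (F : Cfsg.FusionSystem S)
    (hS1 : S ≠ ⊥) (hcore : F.core = ⊥) : ¬ F.IsNormal S := by
  intro hn
  apply hS1
  have h1 : S ≤ F.core := le_sSup hn
  rw [hcore] at h1
  exact le_bot_iff.mp h1

theorem eq_bot_of_normal {Ω : Type*} [Group Ω] {S : Subgroup Ω} (F : Cfsg.FusionSystem S)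
    (hcore : F.core = ⊥) {Q : Subgroup Ω} (hn : F.IsNormal Q) : Q = ⊥ := by
  have h1 : Q ≤ F.core := le_sSup hn
  rw [hcore] at h1
  exact le_bot_iff.mp h1

theorem nonabelian {Ω : Type*} [Group Ω] {S : Subgroup Ω} [Finite S] (p : ℕ) [Fact p.Prime]
    (hS : IsPGroup p ↥S) (F : Cfsg.FusionSystem S) (hF : F.IsSaturated p) (hS1 : S ≠ ⊥)
    (hcore : F.core = ⊥) : ∃ a b : S, a * b ≠ b * a := by
  by_contra hab
  push Not at hab
  apply not_normal_top F hS1 hcore
  apply isNormal_of_centric_invariant hS hF le_rfl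
  intro R hfa hrec hcent f hf hfR hE
  have hSR : S ≤ R := by
    intro x hx
    apply hcent
    refine ⟨hx, ?_⟩
    show x ∈ Subgroup.centralizer (R : Set Ω)
    rw [Subgroup.mem_centralizer_iff]
    intro y hy
    have h1 := hab ⟨y, hf.le hy⟩ ⟨x, hx⟩
    exact congrArg Subtype.val h1
  exact ⟨hSR, fun x hx => hf.mem (hSR hx)⟩

theorem exists_special {Ω : Type*} [Group Ω] {S : Subgroup Ω} [Finite S] (p : ℕ) [Fact p.Prime]
    (hS : IsPGroup p ↥S) (F : Cfsg.FusionSystem S) (hF : F.IsSaturated p) (hS1 : S ≠ ⊥)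
    (hcore : F.core = ⊥) (hi : IdxSq S p) :
    ∃ (A : Subgroup Ω) (f : Ω → Ω), centralizerIn S S < A ∧ A < S ∧ AutF F A f ∧
      ¬ ExtS F A f := by
  by_contra hno
  push Not at hno
  apply not_normal_top F hS1 hcore
  apply isNormal_of_centric_invariant hS hF le_rfl
  intro R hfa hrec hcent f hf hfR hE
  by_cases hR : R = S
  · rw [hR]
    exact ⟨le_rfl, fun x hx => hf.mem (by rw [hR]; exact hx)⟩
  · obtain ⟨h1, h2⟩ := mid_of_centric hi hf.le hcent hR
    exact absurd (hno R f h1 h2 ⟨hf, hfR⟩) (not_extS_of_extFn_le hi h1 h2 hf hE)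

theorem coreZ_eq_bot {Ω : Type*} [Group Ω] {S : Subgroup Ω} [Finite S] (p : ℕ) [Fact p.Prime]
    (hS : IsPGroup p ↥S) (F : Cfsg.FusionSystem S) (hF : F.IsSaturated p)
    (hcore : F.core = ⊥) (hi : IdxSq S p) : coreZ F = ⊥ :=
  eq_bot_of_normal F hcore (coreZ_isNormal hS hF hi)

theorem key_odd {Ω : Type*} [Group Ω] {S : Subgroup Ω} [Finite S] (p : ℕ) [Fact p.Prime]
    (hS : IsPGroup p ↥S) (F : Cfsg.FusionSystem S) (hF : F.IsSaturated p)
    (hcore : F.core = ⊥) (hodd : p ≠ 2) {z : Ω} (D : ZData S p z) {A : Subgroup Ω} {f : Ω → Ω}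
    (hZA : centralizerIn S S < A) (hAS : A < S) (hf : AutF F A f) (hnf : ¬ ExtS F A f)
    {k : Ω} (hk : k ∈ centralizerIn S S) (hfk : f k ∈ centralizerIn S S) : k = 1 := by
  have hkc : k ∈ coreZ F := by
    rw [mem_coreZ]
    refine ⟨hk, fun B g hZB hg => ?_⟩
    by_cases hB1 : B = centralizerIn S S
    · rw [hB1] at hg
      exact hg.2 k hk
    by_cases hB2 : B = S
    · rw [hB2] at hg
      exact mor_top_center hg.1 hk
    have hZB' : centralizerIn S S < B := lt_of_le_of_ne hZB (Ne.symm hB1)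
    have hBS : B < S := lt_of_le_of_ne hg.1.le hB2
    by_cases hext : ExtS F B g
    · obtain ⟨σ, hσ, hσg⟩ := hext
      rw [← hσg k (hZB hk)]
      exact mor_top_center hσ hk
    · exact map_central_of_odd hS hF hodd D hZA hAS hf hnf hZB' hBS hg hext hk hfk
  rw [coreZ_eq_bot p hS F hF hcore D.idx] at hkc
  exact Subgroup.mem_bot.mp hkc

theorem key_two {Ω : Type*} [Group Ω] {S : Subgroup Ω} [Finite S] [Fact (Nat.Prime 2)]
    (hS : IsPGroup 2 ↥S) (F : Cfsg.FusionSystem S) (hF : F.IsSaturated 2)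
    (hcore : F.core = ⊥) (hhyp : F.hyperfocalSubgroup 2 = S) {z : Ω} (D : ZData S 2 z)
    {A : Subgroup Ω} {f : Ω → Ω}
    (hZA : centralizerIn S S < A) (hAS : A < S) (hf : AutF F A f) (hnf : ¬ ExtS F A f)
    {k : Ω} (hk : k ∈ centralizerIn S S) (hfk : f k ∈ centralizerIn S S) : k = 1 := by
  have hbot := coreZ_eq_bot 2 hS F hF hcore D.idx
  by_contra hk1
  by_cases hall : ∀ (B : Subgroup Ω) (g : Ω → Ω), centralizerIn S S < B → B < S → AutF F B g →
      ¬ ExtS F B g → B = A
  · have hkc : k ∈ coreZ F := by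
      rw [mem_coreZ]
      refine ⟨hk, fun B g hZB hg => ?_⟩
      by_cases hB1 : B = centralizerIn S S
      · rw [hB1] at hg
        exact hg.2 k hk
      by_cases hB2 : B = S
      · rw [hB2] at hg
        exact mor_top_center hg.1 hk
      have hZB' : centralizerIn S S < B := lt_of_le_of_ne hZB (Ne.symm hB1)
      have hBS : B < S := lt_of_le_of_ne hg.1.le hB2
      by_cases hext : ExtS F B g
      · obtain ⟨σ, hσ, hσg⟩ := hext
        rw [← hσg k (hZB hk)]
        exact mor_top_center hσ hk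
      · have hBA := hall B g hZB' hBS hg hext
        rw [hBA] at hg hext
        exact map_central_two hS hF D hZA hAS hg hext hf hnf hk hfk
    rw [hbot] at hkc
    exact hk1 (Subgroup.mem_bot.mp hkc)
  · push Not at hall
    obtain ⟨B, g, hZB, hBS, hg, hng, hBA⟩ := hall
    have hK : ∀ x ∈ centralizerIn S S, f x ∈ centralizerIn S S → g x ∈ centralizerIn S S →
        x = 1 := by
      intro x hx hfx hgx
      have hxc : x ∈ coreZ F := by
        rw [mem_coreZ]
        refine ⟨hx, fun C h hZC hh => ?_⟩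
        by_cases hC1 : C = centralizerIn S S
        · rw [hC1] at hh
          exact hh.2 x hx
        by_cases hC2 : C = S
        · rw [hC2] at hh
          exact mor_top_center hh.1 hx
        have hZC' : centralizerIn S S < C := lt_of_le_of_ne hZC (Ne.symm hC1)
        have hCS : C < S := lt_of_le_of_ne hh.1.le hC2
        by_cases hext : ExtS F C h
        · obtain ⟨σ, hσ, hσg⟩ := hext
          rw [← hσg x (hZC hx)]
          exact mor_top_center hσ hx
        · rcases special_two hS hF D hZA hAS hf hnf hZB hBS hg hng hZC' hCS hh hext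
            (Ne.symm hBA) with hCA | hCB
          · rw [hCA] at hh hext
            exact map_central_two hS hF D hZA hAS hh hext hf hnf hx hfx
          · rw [hCB] at hh hext
            exact map_central_two hS hF D hZB hBS hh hext hg hng hx hgx
      rw [hbot] at hxc
      exact Subgroup.mem_bot.mp hxc
    exact false_of_two_special hS hF D hZA hAS hhyp hf hnf hZB hBS hg hng (Ne.symm hBA) hK hk hfk
      hk1

theorem center_eq {Ω : Type*} [Group Ω] {S : Subgroup Ω} [Finite S] (p : ℕ) [Fact p.Prime]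
    (hS : IsPGroup p ↥S) (F : Cfsg.FusionSystem S) (hF : F.IsSaturated p) {z : Ω}
    (D : ZData S p z) {A : Subgroup Ω} {f : Ω → Ω}
    (hZA : centralizerIn S S < A) (hAS : A < S) (hf : AutF F A f) (hnf : ¬ ExtS F A f)
    (hkey : ∀ k ∈ centralizerIn S S, f k ∈ centralizerIn S S → k = 1) :
    centralizerIn S S = Subgroup.zpowers z := by
  apply le_antisymm
  · intro x hx
    obtain ⟨i, k, hk, hfk, rfl⟩ := center_decomp hS hF D hZA hAS hf hnf hx
    rw [hkey k hk hfk, mul_one]
    exact Subgroup.pow_mem _ (Subgroup.mem_zpowers z) i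
  · exact Subgroup.zpowers_le.mpr D.mem

theorem card_cube {Ω : Type*} [Group Ω] {S : Subgroup Ω} (p : ℕ) [hp : Fact p.Prime]
    {z : Ω} (D : ZData S p z) (hZ : centralizerIn S S = Subgroup.zpowers z) :
    Nat.card S = p ^ 3 := by
  have h1 := D.idx.card
  rw [hZ, Nat.card_zpowers, orderOf_eq_prime D.pow D.ne] at h1
  rw [h1]; ring

theorem exponent_odd {Ω : Type*} [Group Ω] {S : Subgroup Ω} [Finite S] (p : ℕ)
    [hp : Fact p.Prime] (hS : IsPGroup p ↥S) (F : Cfsg.FusionSystem S) (hF : F.IsSaturated p)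
    (hS1 : S ≠ ⊥) (hcore : F.core = ⊥) (hodd : p ≠ 2) (hcard : Nat.card S = p ^ 3)
    (hna : ∃ a b : S, a * b ≠ b * a) : Monoid.exponent ↥S = p := by
  have hpow : ∀ x : S, x ^ p = 1 := by
    intro x
    by_contra hx
    have hord : orderOf x = p ^ 2 := by
      have hdvd : orderOf x ∣ p ^ 3 := by rw [← hcard]; exact orderOf_dvd_natCard x
      obtain ⟨k, hk, hok⟩ := (Nat.dvd_prime_pow hp.out).mp hdvd
      interval_cases k
      · exfalso; apply hx
        rw [pow_zero, orderOf_eq_one_iff] at hok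
        rw [hok, one_pow]
      · exfalso; apply hx
        rw [pow_one] at hok
        rw [← hok]; exact pow_orderOf_eq_one x
      · exact hok
      · exfalso
        have hcyc : IsCyclic S := isCyclic_of_orderOf_eq_card x (by rw [hok, hcard])
        obtain ⟨a, b, hab⟩ := hna
        exact hab (IsCyclic.isMulCommutative.is_comm.comm a b)
    apply not_normal_top F hS1 hcore
    have hNcard : Nat.card (Subgroup.zpowers x) = p ^ 2 := by rw [Nat.card_zpowers, hord]
    have hidx : (Subgroup.zpowers x).index = p := by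
      have h1 := (Subgroup.zpowers x).card_mul_index
      rw [hNcard, hcard] at h1
      have h2 : p ^ 2 * (Subgroup.zpowers x).index = p ^ 2 * p := by rw [h1]; ring
      exact Nat.eq_of_mul_eq_mul_left (pow_pos hp.out.pos 2) h2
    have hN : (Subgroup.zpowers x).Normal := by
      apply Subgroup.normal_of_index_eq_minFac_card
      rw [hidx, hcard, Nat.pow_minFac (by norm_num), Nat.Prime.minFac_eq hp.out]
    have hQc : IsCyclic (S ⧸ Subgroup.zpowers x) := by
      apply isCyclic_of_prime_card (p := p)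
      rw [← Subgroup.index_eq_card]
      exact hidx
    exact isNormal_of_metacyclic hS hF hodd (stronglyClosed_top F) (Subgroup.zpowers x) hN
      (Subgroup.isCyclic_zpowers x) hQc
  have hdvd : Monoid.exponent S ∣ p := Monoid.exponent_dvd_of_forall_pow_eq_one hpow
  rcases (Nat.dvd_prime hp.out).mp hdvd with h1 | h1
  · exfalso
    rw [Monoid.exp_eq_one_iff] at h1
    obtain ⟨a, b, hab⟩ := hna
    exact hab (Subsingleton.elim _ _)
  · exact h1

theorem dihedral_two {Ω : Type*} [Group Ω] {S : Subgroup Ω} [Finite S] [Fact (Nat.Prime 2)]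
    (hS : IsPGroup 2 ↥S) (F : Cfsg.FusionSystem S) (hF : F.IsSaturated 2) {z : Ω}
    (D : ZData S 2 z) {A : Subgroup Ω} {f : Ω → Ω}
    (hZA : centralizerIn S S < A) (hAS : A < S) (hf : AutF F A f) (hnf : ¬ ExtS F A f)
    (hZ : centralizerIn S S = Subgroup.zpowers z) (hcard : Nat.card S = 2 ^ 3) :
    Nonempty (↥S ≃* DihedralGroup 4) := by
  have hzA : z ∈ A := hZA.le D.mem
  have hz2 : z ^ 2 = 1 := D.pow
  have huZ := (not_central_of_not_extS hS hF D hZA hAS hf hnf).1
  have huA : f z ∈ A := hf.2 z hzA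
  have huS : f z ∈ S := hAS.le huA
  have hu2 : f z ^ 2 = 1 := by rw [← hf.1.map_pow' hzA, hz2, hf.1.map_one]
  obtain ⟨u, hu⟩ : ∃ u, u = f z := ⟨_, rfl⟩
  rw [← hu] at huZ huA huS hu2
  have ht : ∃ t ∈ S, t ∉ A ∧ t ^ 2 = 1 := by
    obtain ⟨s, hsS, hsA⟩ := SetLike.exists_of_lt hAS
    have hs2 : s ^ 2 ∈ Subgroup.zpowers z := by rw [← hZ]; exact D.idx.pow s hsS
    rcases D.mem_zpowers_two hs2 with h1 | h1
    · exact ⟨s, hsS, hsA, h1⟩
    · refine ⟨s * u, S.mul_mem hsS huS, fun hc => hsA ?_, ?_⟩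
      · have h3 := A.mul_mem hc (A.inv_mem huA)
        simpa using h3
      · have hconj := conj_eq_mul_z hS D hZA hAS hsS hsA huA huZ
        have e : (s * u) ^ 2 = (s * u * s⁻¹) * s ^ 2 * u := by
          rw [pow_two, pow_two]; group
        rw [e, hconj, h1, mul_assoc u z z, ← pow_two z, hz2, mul_one, ← pow_two, hu2]
  obtain ⟨t, htS, htA, ht2⟩ := ht
  have hconj := conj_eq_mul_z hS D hZA hAS htS htA huA huZ
  have htinv : t⁻¹ = t := by
    rw [inv_eq_iff_mul_eq_one, ← pow_two]; exact ht2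
  have huinv : u⁻¹ = u := by
    rw [inv_eq_iff_mul_eq_one, ← pow_two]; exact hu2
  have ha2 : (u * t) ^ 2 = z := by
    have e : (u * t) ^ 2 = u * (t * u * t⁻¹) * t ^ 2 := by
      rw [pow_two, pow_two]; group
    rw [e, hconj, ht2, mul_one, ← mul_assoc, ← pow_two, hu2, one_mul]
  have hord' : orderOf (u * t) = 4 := by
    have h1 : ¬ (u * t) ^ 2 ^ 1 = 1 := by rw [pow_one, ha2]; exact D.ne
    have h2 : (u * t) ^ 2 ^ (1 + 1) = 1 := by
      have e : (2 : ℕ) ^ (1 + 1) = 2 * 2 := by norm_num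
      rw [e, pow_mul, ha2, hz2]
    exact orderOf_eq_prime_pow h1 h2
  refine Cfsg.Agent.Lib.Helper12.nonempty_mulEquiv_dihedral (m := 4) (by norm_num)
    ⟨u * t, S.mul_mem huS htS⟩ ⟨u, huS⟩ (by rw [hcard]; norm_num) ?_ ?_ ?_ ?_
  · rw [Subgroup.orderOf_mk]; exact hord'
  · intro hc
    rw [Subgroup.mem_zpowers_iff] at hc
    obtain ⟨n, hn⟩ := hc
    have hn' : (u * t) ^ n = u := by
      have h3 := congrArg Subtype.val hn
      simpa using h3
    have hc1 : Commute (u * t) ((u * t) ^ n) := (Commute.refl _).zpow_right n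
    rw [hn'] at hc1
    have hc2 : u * t * u = u * (u * t) := hc1.eq
    rw [mul_assoc] at hc2
    have hc3 : t * u = u * t := mul_left_cancel hc2
    rw [hc3, mul_inv_cancel_right] at hconj
    apply D.ne
    exact left_eq_mul.mp hconj
  · exact Subtype.ext (by simpa using hu2)
  · apply Subtype.ext
    show u * (u * t) * u⁻¹ = (u * t)⁻¹
    rw [mul_inv_rev, htinv, huinv, ← mul_assoc, ← pow_two, hu2, one_mul]

/-- Let p be a prime, S a nontrivial finite p-group whose centre has index at most p², and F a saturated fusion system over S with no nontrivial normal subgroup and with hyperfocal subgroup equal to S. Then S is extraspecial of order p³; for odd p it has exponent p, and for p = 2 it is dihedral of order 8. -/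
theorem result {Ω : Type*} [Group Ω] {S : Subgroup Ω} [Finite S] (p : ℕ) [Fact p.Prime] (hS : IsPGroup p ↥S) (F : Cfsg.FusionSystem S) (hF : F.IsSaturated p) (hS1 : S ≠ ⊥) (hcore : F.core = ⊥) (hhyp : F.hyperfocalSubgroup p = S) (hZ : (Subgroup.center ↥S).index ≤ p ^ 2) : Cfsg.IsExtraspecial p ↥S ∧ Nat.card S = p ^ 3 ∧ (p ≠ 2 → Monoid.exponent ↥S = p) ∧ (p = 2 → Nonempty (↥S ≃* DihedralGroup 4)) := by
  have hna := nonabelian p hS F hF hS1 hcore
  have hi := idxSq_of_index hS hZ hna
  obtain ⟨z, hzZ, hz1, hzp, hgen, hcomm⟩ := hi.exists_z hS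
  have D : ZData S p z := ⟨hi, hzZ, hz1, hzp, hcomm, hgen⟩
  obtain ⟨A, f, hZA, hAS, hf, hnf⟩ := exists_special p hS F hF hS1 hcore hi
  have hkey : ∀ k ∈ centralizerIn S S, f k ∈ centralizerIn S S → k = 1 := by
    intro k hk hfk
    by_cases hp2 : p = 2
    · subst hp2
      exact key_two hS F hF hcore hhyp D hZA hAS hf hnf hk hfk
    · exact key_odd p hS F hF hcore hp2 D hZA hAS hf hnf hk hfk
  have hZeq := center_eq p hS F hF D hZA hAS hf hnf hkey
  have hcard := card_cube p D hZeq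
  refine ⟨isExtraspecial_of_card_cube hcard hna, hcard, ?_, ?_⟩
  · intro hodd
    exact exponent_odd p hS F hF hS1 hcore hodd hcard hna
  · intro hp2
    subst hp2
    exact dihedral_two hS F hF D hZA hAS hf hnf hZeq hcard

end Cfsg.Agent.S5265
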