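import Cfsg.Statements.S5178
import Cfsg.Agent.Lib.Helper90.ExtraEss2
import Cfsg.Agent.S5265

set_option autoImplicit false
universe u
open Cfsg

namespace Cfsg.Agent.S5178

open Cfsg.Agent.Lib.Helper90 Cfsg.FusionSystem in
/-- Let p be an odd prime, S a finite p-group containing an extraspecial subgroup Q of index p, and F a saturated fusion system over S whose largest subgroup normal in F is trivial. Then the centre of S equals the centre of Q. -/
theorem result {Ω : Type u} [Group Ω] {S : Subgroup Ω} [Finite S] (p : ℕ) [Fact p.Prime] (hp : Odd p) (hS : IsPGroup p S)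
    (Q : Subgroup Ω) (hQS : Q ≤ S) (hQ : Cfsg.IsExtraspecial p ↥Q) (hQi : (Q.subgroupOf S).index = p)
    (F : Cfsg.FusionSystem S) (hF : F.IsSaturated p) (hO : F.core = ⊥) :
    S ⊓ Subgroup.centralizer (S : Set Ω) = Q ⊓ Subgroup.centralizer (Q : Set Ω) := by
  have hpp : p.Prime := Fact.out
  have hp2 : p ≠ 2 := by
    rintro rfl
    exact (by decide : ¬ Odd 2) hp
  have hQd := extraData_of_extraspecial hQ
  have hfinQ : Finite Q := finite_of_le hQS
  obtain ⟨Z0, hZ0⟩ : ∃ Z0 : Subgroup Ω, Z0 = Q ⊓ Subgroup.centralizer (Q : Set Ω) := ⟨_, rfl⟩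
  obtain ⟨Z, hZ⟩ : ∃ Z : Subgroup Ω, Z = S ⊓ Subgroup.centralizer (S : Set Ω) := ⟨_, rfl⟩
  rw [← hZ0, ← hZ]
  have hcm : ∀ a ∈ Q, ∀ b ∈ Q, a * b * a⁻¹ * b⁻¹ ∈ Z0 := by
    rw [hZ0]
    exact hQd.comm_mem
  have hZ0card : Nat.card Z0 = p := by
    rw [hZ0]
    exact hQd.card
  have hZ0Q : Z0 ≤ Q := by
    rw [hZ0]
    exact inf_le_left
  have hZ0c : ∀ z ∈ Z0, ∀ q ∈ Q, q * z = z * q := by
    intro z hz q hq
    rw [hZ0] at hz
    exact Subgroup.mem_centralizer_iff.mp (Subgroup.mem_inf.mp hz).2 q hq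
  have hZS : Z ≤ S := by
    rw [hZ]
    exact inf_le_left
  have hZc : ∀ z ∈ Z, ∀ s ∈ S, s * z = z * s := by
    intro z hz s hs
    rw [hZ] at hz
    exact Subgroup.mem_centralizer_iff.mp (Subgroup.mem_inf.mp hz).2 s hs
  have hfinZ0 : Finite Z0 := finite_of_le (hZ0Q.trans hQS)
  have hfinZ : Finite Z := finite_of_le hZS
  have hgenZ : ∀ d : ↥Z0, d ≠ 1 → ∀ z : ↥Z0, ∃ k : ℤ, d ^ k = z := by
    intro d hd z
    have htop := zpowers_eq_top_of_prime_card (G := ↥Z0) (g := d) hZ0card hd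
    have hmem : z ∈ Subgroup.zpowers d := by
      rw [htop]
      exact Subgroup.mem_top _
    exact Subgroup.mem_zpowers_iff.mp hmem
  have hS1 : S ≠ ⊥ := by
    intro h0
    have hle : Z0 ≤ S := hZ0Q.trans hQS
    rw [h0] at hle
    have hZ0bot : Z0 = ⊥ := le_bot_iff.mp hle
    rw [hZ0bot, Subgroup.card_bot] at hZ0card
    exact hpp.one_lt.ne hZ0card
  by_cases hZQ : Z ≤ Q
  · have hZZ0 : Z ≤ Z0 := by
      intro z hz
      rw [hZ0]
      refine Subgroup.mem_inf.mpr ⟨hZQ hz, ?_⟩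
      rw [Subgroup.mem_centralizer_iff]
      intro q hq
      exact hZc z hz q (hQS hq)
    apply le_antisymm hZZ0
    have hnt : Nontrivial ↥S := (Subgroup.nontrivial_iff_ne_bot S).mpr hS1
    have hcnt : Nontrivial (Subgroup.center ↥S) := hS.center_nontrivial
    obtain ⟨c, hc⟩ := exists_ne (1 : Subgroup.center ↥S)
    have hcZ : ((c : ↥S) : Ω) ∈ Z := by
      rw [hZ]
      exact (mem_center_subtype_iff (c : ↥S)).mp c.2
    have hc1 : ((c : ↥S) : Ω) ≠ 1 := by
      intro h1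
      apply hc
      apply Subtype.ext
      apply Subtype.ext
      exact h1
    intro w hw
    obtain ⟨k, hk⟩ := hgenZ ⟨((c : ↥S) : Ω), hZZ0 hcZ⟩
      (fun h1 => hc1 (congrArg Subtype.val h1)) ⟨w, hw⟩
    have e : w = ((c : ↥S) : Ω) ^ k := by
      have h2 := congrArg Subtype.val hk
      rw [Subgroup.coe_zpow] at h2
      exact h2.symm
    rw [e]
    exact Subgroup.zpow_mem _ hcZ k
  · exfalso
    obtain ⟨zs, hzsZ, hzsQ⟩ := SetLike.not_le_iff_exists.mp hZQ
    have hnorm : (Q.subgroupOf S).Normal := by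
      apply Subgroup.normal_of_index_eq_minFac_card
      obtain ⟨n, hn⟩ := IsPGroup.iff_card.mp hS
      have hn0 : n ≠ 0 := by
        rintro rfl
        rw [pow_zero] at hn
        have h1 : (Q.subgroupOf S).index ∣ Nat.card S := Subgroup.index_dvd_card _
        rw [hn, hQi, Nat.dvd_one] at h1
        exact hpp.one_lt.ne' h1
      rw [hQi, hn, Nat.pow_minFac hn0, hpp.minFac_eq]
    have hdec : ∀ s ∈ S, ∃ k : ℕ, s * (zs ^ k)⁻¹ ∈ Q := by
      intro s hs
      obtain ⟨k, hk⟩ := exists_pow_mul_mem_of_index_prime (Q.subgroupOf S) hQi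
        (u := ⟨zs, hZS hzsZ⟩) (fun h => hzsQ (Subgroup.mem_subgroupOf.mp h)) ⟨s, hs⟩
      exact ⟨k, Subgroup.mem_subgroupOf.mp hk⟩
    have hcmS : ∀ a ∈ S, ∀ b ∈ S, a * b * a⁻¹ * b⁻¹ ∈ Z0 := by
      intro a ha b hb
      obtain ⟨i, hi⟩ := hdec a ha
      obtain ⟨j, hj⟩ := hdec b hb
      obtain ⟨u, hu⟩ : ∃ u, u = zs ^ i := ⟨_, rfl⟩
      obtain ⟨v, hv⟩ : ∃ v, v = zs ^ j := ⟨_, rfl⟩
      rw [← hu] at hi
      rw [← hv] at hj
      have huZ : u ∈ Z := by
        rw [hu]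
        exact Z.pow_mem hzsZ i
      have hvZ : v ∈ Z := by
        rw [hv]
        exact Z.pow_mem hzsZ j
      have h1 : u⁻¹ * b = b * u⁻¹ := (hZc _ (Z.inv_mem huZ) b hb).symm
      have h2 : u⁻¹ * v⁻¹ = v⁻¹ * u⁻¹ :=
        (hZc _ (Z.inv_mem huZ) _ (S.inv_mem (hZS hvZ))).symm
      have h3 : v⁻¹ * a⁻¹ = a⁻¹ * v⁻¹ := (hZc _ (Z.inv_mem hvZ) _ (S.inv_mem ha)).symm
      have e : a * b * a⁻¹ * b⁻¹ = (a * u⁻¹) * (b * v⁻¹) * (a * u⁻¹)⁻¹ * (b * v⁻¹)⁻¹ := by
        symm
        calc (a * u⁻¹) * (b * v⁻¹) * (a * u⁻¹)⁻¹ * (b * v⁻¹)⁻¹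
            = a * (u⁻¹ * b) * v⁻¹ * u * a⁻¹ * v * b⁻¹ := by group
          _ = a * b * (u⁻¹ * v⁻¹) * u * a⁻¹ * v * b⁻¹ := by rw [h1]; group
          _ = a * b * (v⁻¹ * a⁻¹) * v * b⁻¹ := by rw [h2]; group
          _ = a * b * a⁻¹ * b⁻¹ := by rw [h3]; group
      rw [e]
      exact hcm _ hi _ hj
    have hZ0cS : ∀ z ∈ Z0, ∀ s ∈ S, s * z = z * s := by
      intro z hz s hs
      obtain ⟨k, hk⟩ := hdec s hs
      have huZ : zs ^ k ∈ Z := Z.pow_mem hzsZ k
      have c1 : Commute (s * (zs ^ k)⁻¹) z := hZ0c z hz _ hk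
      have c2 : Commute (zs ^ k) z := (hZc _ huZ z (hQS (hZ0Q hz))).symm
      have c3 := c1.mul_left c2
      rw [inv_mul_cancel_right] at c3
      exact c3.eq
    have hZ0Z : Z0 ≤ Z := by
      intro z hz
      rw [hZ]
      refine Subgroup.mem_inf.mpr ⟨hQS (hZ0Q hz), ?_⟩
      rw [Subgroup.mem_centralizer_iff]
      intro s hs
      exact hZ0cS z hz s hs
    by_cases hidx : (Subgroup.center ↥S).index ≤ p ^ 2
    · have hna := Cfsg.Agent.S5265.nonabelian p hS F hF hS1 hO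
      have hi := idxSq_of_index hS hidx hna
      obtain ⟨z, hzZ, hz1, hzp, hgen, hcomm⟩ := hi.exists_z hS
      have D : ZData S p z := ⟨hi, hzZ, hz1, hzp, hcomm, hgen⟩
      obtain ⟨A, f, hZA, hAS, hf, hnf⟩ := Cfsg.Agent.S5265.exists_special p hS F hF hS1 hO hi
      have hkey : ∀ k ∈ centralizerIn S S, f k ∈ centralizerIn S S → k = 1 := fun k hk hfk =>
        Cfsg.Agent.S5265.key_odd p hS F hF hO hp2 D hZA hAS hf hnf hk hfk
      have hZeq := Cfsg.Agent.S5265.center_eq p hS F hF D hZA hAS hf hnf hkey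
      have hZcard : Nat.card Z = p := by
        rw [hZ]
        show Nat.card ↥(centralizerIn S S) = p
        rw [hZeq, Nat.card_zpowers, orderOf_eq_prime hzp hz1]
      have heq : Z0 = Z := Subgroup.eq_of_le_of_card_ge hZ0Z (by rw [hZcard, hZ0card])
      apply hzsQ
      apply hZ0Q
      rw [heq]
      exact hzsZ
    · push Not at hidx
      have hcardS := Subgroup.card_mul_index (Subgroup.center ↥S)
      have hfinZ' : Finite ↥(S ⊓ Subgroup.centralizer (S : Set Ω)) := finite_of_le inf_le_left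
      have hbig : p ^ 2 * Nat.card ↥(S ⊓ Subgroup.centralizer (S : Set Ω)) < Nat.card S := by
        rw [← hcardS, card_center_subtype S, mul_comm]
        exact Nat.mul_lt_mul_of_pos_left hidx Nat.card_pos
      have hno : ∀ E : Subgroup Ω, F.IsEssential p E → False := fun E hE =>
        comm_central_no_essential p hS (hZ0Q.trans hQS) hcmS hZ0cS hZ0card hbig F hF hE
      have hnormS : F.IsNormal S := by
        apply Cfsg.Agent.Lib.Helper87.normal_of_essential_invariant p hS F hF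
        intro P hP
        rcases hP with hPS | hP
        · rw [hPS]
          refine ⟨le_rfl, fun α _ => ?_⟩
          rw [Subgroup.subgroupOf_self]
          exact Subgroup.map_top_of_surjective _ α.surjective
        · exact (hno P hP).elim
      exact Cfsg.Agent.S5265.not_normal_top F hS1 hO hnormS

end Cfsg.Agent.S5178
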