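import Cfsg.Statements.S5185
import Cfsg.Agent.Lib.Helper55.Ess

set_option autoImplicit false
universe u
open Cfsg

namespace Cfsg.Agent.S5185

open Cfsg.Agent.Lib.Helper55
open scoped commutatorElement

/-- Let F be a saturated fusion system over a finite p-group S and H an essential subgroup of order p². Then H is elementary abelian (isomorphic to C_p × C_p) and its F-automorphism group contains a subgroup isomorphic to SL(2,p). -/
theorem result {Ω : Type u} [Group Ω] {S : Subgroup Ω} [Finite S] (p : ℕ) [Fact p.Prime] (hS : IsPGroup p S)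
    (F : Cfsg.FusionSystem S) (hF : F.IsSaturated p) (H : Subgroup Ω) (hH : F.IsEssential p H) (hcard : Nat.card H = p ^ 2) :
    Cfsg.IsElementaryAbelian p H ∧
      ∃ K : Subgroup ↥(F.autGroup H), Nonempty (↥K ≃* Matrix.SpecialLinearGroup (Fin 2) (ZMod p)) := by
  obtain ⟨hcen, hfn, hNorm, E, hE⟩ := hH
  have hp := (Fact.out : p.Prime)
  haveI : Finite ↥H := Nat.finite_of_card_ne_zero (by rw [hcard]; exact pow_ne_zero _ hp.ne_zero)
  have hcomm : ∀ a b : ↥H, a * b = b * a :=
    isMulCommutative_iff.mp (IsPGroup.isMulCommutative_of_card_eq_prime_sq hcard)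
  have hInn : Cfsg.Inn ↥H = ⊥ := by
    rw [eq_bot_iff]
    rintro _ ⟨g, rfl⟩
    rw [Subgroup.mem_bot]
    ext h
    simp only [MulAut.conj_apply, MulAut.one_apply]
    rw [hcomm g h, mul_inv_cancel_right]
  have hN0 : (Cfsg.Inn ↥H).subgroupOf (F.autGroup H) = ⊥ := by
    rw [hInn]
    exact Subgroup.bot_subgroupOf _
  haveI : Finite (MulAut ↥H) :=
    Finite.of_injective (fun e : MulAut ↥H => (e : ↥H → ↥H)) DFunLike.coe_injective
  obtain ⟨P, hPn⟩ := ess_sylow_not_normal E hE
  have hπinj : Function.Injective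
      (QuotientGroup.mk' ((Cfsg.Inn ↥H).subgroupOf (F.autGroup H))) := by
    rw [← MonoidHom.ker_eq_bot_iff, QuotientGroup.ker_mk', hN0]
  have hπsurj : Function.Surjective
      (QuotientGroup.mk' ((Cfsg.Inn ↥H).subgroupOf (F.autGroup H))) :=
    QuotientGroup.mk'_surjective _
  obtain ⟨Q, hQ⟩ : ∃ Q : Sylow p ↥(F.autGroup H), (Q : Subgroup ↥(F.autGroup H)) =
      (P : Subgroup _).comap (QuotientGroup.mk' ((Cfsg.Inn ↥H).subgroupOf (F.autGroup H))) :=
    ⟨P.comapOfInjective _ hπinj (by rw [MonoidHom.range_eq_top.mpr hπsurj]; exact le_top),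
      Sylow.coe_comapOfInjective _ _ _ _⟩
  have hQn : ¬ (Q : Subgroup ↥(F.autGroup H)).Normal := by
    intro hn
    apply hPn
    have hmap : (P : Subgroup _) = (Q : Subgroup ↥(F.autGroup H)).map
        (QuotientGroup.mk' ((Cfsg.Inn ↥H).subgroupOf (F.autGroup H))) := by
      rw [hQ, Subgroup.map_comap_eq_self_of_surjective hπsurj]
    rw [hmap]
    exact hn.map _ hπsurj
  obtain ⟨hexp, K, hK⟩ := ess_main hcard (F.autGroup H) Q hQn
  refine ⟨⟨isMulCommutative_iff.mpr hcomm, fun a ha => ?_⟩, K, hK⟩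
  have := congrArg Subtype.val (hexp ⟨a, ha⟩)
  simpa using this

end Cfsg.Agent.S5185
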