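-- Statement S5186: proof by helper91.
-- The statement below is the frozen statement, unchanged.
import Cfsg.Statements.S5186
import Cfsg.Agent.Lib.Helper91.EssChain
import Cfsg.Agent.Lib.Helper91.OrderP3

set_option autoImplicit false
universe u
open Cfsg

namespace Cfsg.Agent.S5186

/-- Let F be a saturated fusion system over a finite p-group S and H an essential subgroup of order p³. Then H is elementary abelian, or p is odd and H is extraspecial of exponent p, or p = 2 and H is the quaternion group of order 8. -/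
theorem result {Ω : Type u} [Group Ω] {S : Subgroup Ω} [Finite S] (p : ℕ) [Fact p.Prime] (hS : IsPGroup p S)
    (F : Cfsg.FusionSystem S) (hF : F.IsSaturated p) (H : Subgroup Ω) (hH : F.IsEssential p H) (hcard : Nat.card H = p ^ 3) :
    Cfsg.IsElementaryAbelian p H ∨ (Odd p ∧ Cfsg.IsExtraspecial p ↥H ∧ ∀ x ∈ H, x ^ p = 1) ∨
      (p = 2 ∧ Nonempty (↥H ≃* QuaternionGroup 2)) := by
  have hHS : H ≤ S := hH.1.1
  haveI : Finite H :=
    Finite.of_injective (Subgroup.inclusion hHS) (Subgroup.inclusion_injective hHS)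
  rcases Cfsg.Agent.Lib.Helper91.OrderP3.order_p3_cases (G := ↥H) p hcard with
    ⟨hc, he⟩ | ⟨ho, hx, he⟩ | ⟨h2, hq⟩ | ⟨C₁, C₂, hle, h1, h2, hc1, hc2⟩
  · left
    refine ⟨isMulCommutative_iff.mpr hc, fun a ha => ?_⟩
    have := congrArg Subtype.val (he ⟨a, ha⟩)
    simpa using this
  · right; left
    refine ⟨ho, hx, fun a ha => ?_⟩
    have := congrArg Subtype.val (he ⟨a, ha⟩)
    simpa using this
  · right; right
    exact ⟨h2, hq⟩
  · exfalso
    exact Cfsg.Agent.Lib.Helper91.EssChain.not_essential_of_chain3 p hS F H hH hcard C₁ C₂ hle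
      h1 h2 hc1 hc2

end Cfsg.Agent.S5186
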