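import Cfsg.Statements.S5187
import Cfsg.Agent.Lib.Helper90.AbEssB
import Cfsg.Agent.Lib.Helper90.Basic

set_option autoImplicit false
universe u
open Cfsg

namespace Cfsg.Agent.S5187

open Cfsg.Agent.Lib.Helper90 in
/-- Let F be a saturated fusion system over a finite p-group S and H an abelian essential subgroup that can be generated by two elements (its Frattini quotient has order at most p²). Then H is elementary abelian of order p², or p ≤ 3 and H is homocyclic of rank two, that is isomorphic to C_{pᵏ} × C_{pᵏ} for some k. -/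
theorem result {Ω : Type u} [Group Ω] {S : Subgroup Ω} [Finite S] (p : ℕ) [Fact p.Prime] (hS : IsPGroup p S)
    (F : Cfsg.FusionSystem S) (hF : F.IsSaturated p) (H : Subgroup Ω) (hH : F.IsEssential p H) (hab : IsMulCommutative ↥H) (hrk : (frattini ↥H).index ≤ p ^ 2) :
    (Cfsg.IsElementaryAbelian p H ∧ Nat.card H = p ^ 2) ∨
      (p ≤ 3 ∧ ∃ k : ℕ, Nonempty (↥H ≃* Multiplicative (ZMod (p ^ k) × ZMod (p ^ k)))) := by
  have hess : F.IsEssential p H := hH
  obtain ⟨hHc, hHn, hN, E, hE⟩ := hH
  have hHS : H ≤ S := hHc.1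
  have hfin : Finite H := finite_of_le hHS
  have hcomm : ∀ a b : H, a * b = b * a := fun a b => hab.is_comm.comm a b
  have hInn : Cfsg.Inn H = ⊥ := by
    rw [eq_bot_iff]
    rintro _ ⟨g, rfl⟩
    rw [Subgroup.mem_bot]
    ext x
    rw [MulAut.conj_apply, hcomm g x, mul_inv_cancel_right]
    rfl
  have hcore : Cfsg.pCore p (F.autGroup H) = ⊥ := by
    have h1 := (Cfsg.Agent.Lib.Helper87.essential_radical p hS F hess).2
    rw [hInn] at h1
    exact (Subgroup.map_eq_bot_iff_of_injective _ (Subgroup.subtype_injective _)).mp h1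
  have hpA : p ∣ Nat.card (F.autGroup H) :=
    hE.1.trans (Subgroup.card_quotient_dvd_card _)
  have hmain := @abelian_rank_two_aut ↥H { (inferInstance : Group ↥H) with mul_comm := hcomm }
    hfin p _ (hS.to_le hHS) hrk (F.autGroup H) hpA hcore
  rcases hmain with ⟨h1, h2⟩ | h
  · left
    exact ⟨⟨hab, fun a ha => congrArg Subtype.val (h1 ⟨a, ha⟩)⟩, h2⟩
  · right
    exact h

end Cfsg.Agent.S5187
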