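-- Statement S5188: proof by helper91.
-- The statement below is the frozen statement, unchanged.
import Cfsg.Statements.S5188
import Cfsg.Agent.S5187
import Cfsg.Agent.Lib.Helper91.EssChain
import Cfsg.Agent.Lib.Helper91.OrderP4E

set_option autoImplicit false
universe u
open Cfsg

namespace Cfsg.Agent.S5188

/-- Let F be a saturated fusion system over a finite p-group S and H an essential subgroup of order p⁴. Then H is isomorphic to one of: C_p⁴ or C_{p²} × C_p × C_p (any p); C_{p²} × C_{p²} with p ∈ {2, 3}; p^{1+2}_+ × C_p with p odd (the direct product of an extraspecial group of order p³ and exponent p with a group of order p); Q₈ × C₂ (p = 2); or the non-abelian group of order p⁴ of exponent p² whose centre is cyclic of order p² (the central product of an extraspecial group of order p³ with a cyclic group of order p²; for p = 2 this is D₈ ∘ C₄). -/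
theorem result {Ω : Type u} [Group Ω] {S : Subgroup Ω} [Finite S] (p : ℕ) [Fact p.Prime] (hS : IsPGroup p S)
    (F : Cfsg.FusionSystem S) (hF : F.IsSaturated p) (H : Subgroup Ω) (hH : F.IsEssential p H) (hcard : Nat.card H = p ^ 4) :
    Cfsg.IsElementaryAbelian p H ∨
      Nonempty (↥H ≃* Multiplicative (ZMod (p ^ 2) × ZMod p × ZMod p)) ∨
      ((p = 2 ∨ p = 3) ∧ Nonempty (↥H ≃* Multiplicative (ZMod (p ^ 2) × ZMod (p ^ 2)))) ∨
      (Odd p ∧ ∃ (E : Type) (_ : Group E) (_ : Finite E), Cfsg.IsExtraspecial p E ∧ Nat.card E = p ^ 3 ∧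
        (∀ x : E, x ^ p = 1) ∧ Nonempty (↥H ≃* E × Multiplicative (ZMod p))) ∨
      (p = 2 ∧ Nonempty (↥H ≃* QuaternionGroup 2 × Multiplicative (ZMod 2))) ∨
      (¬ IsMulCommutative ↥H ∧ (∀ x ∈ H, x ^ (p ^ 2) = 1) ∧ IsCyclic ↥(Subgroup.center ↥H) ∧
        Nat.card (Subgroup.center ↥H) = p ^ 2) := by
  have hHS : H ≤ S := hH.1.1
  haveI : Finite H :=
    Finite.of_injective (Subgroup.inclusion hHS) (Subgroup.inclusion_injective hHS)
  have hpr : p.Prime := Fact.out
  by_cases hab : ∀ a b : ↥H, a * b = b * a
  · rcases Cfsg.Agent.Lib.Helper91.OrderP4.abelian_cases (G := ↥H) p hcard hab with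
      he | hi | hfr
    · left
      refine ⟨isMulCommutative_iff.mpr hab, fun a ha => ?_⟩
      have := congrArg Subtype.val (he ⟨a, ha⟩)
      simpa using this
    · right; left; exact hi
    · right; right; left
      rcases Cfsg.Agent.S5187.result p hS F hF H hH (isMulCommutative_iff.mpr hab) hfr with
        ⟨-, hc2⟩ | ⟨hp3, k, ⟨e⟩⟩
      · exfalso
        rw [hcard] at hc2
        have := Nat.pow_right_injective hpr.two_le hc2
        omega
      · have hk : k = 2 := by
          have h1 := Nat.card_congr e.toEquiv
          rw [hcard, Nat.card_congr Multiplicative.toAdd, Nat.card_prod, Nat.card_zmod,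
            ← pow_add] at h1
          have := Nat.pow_right_injective hpr.two_le h1
          omega
        subst hk
        refine ⟨?_, ⟨e⟩⟩
        have h2 := hpr.two_le
        rcases Nat.lt_or_ge p 3 with h | h
        · left; omega
        · right; omega
  · right; right; right
    rcases Cfsg.Agent.Lib.Helper91.OrderP4.nonabelian_cases (G := ↥H) p hcard hab with
      h | h | ⟨h1, h2, h3⟩ | ⟨C₁, C₂, C₃, hle, hle', h1, h2, h3, hc1, hc2, hc3⟩
    · left; exact h
    · right; left; exact h
    · right; right
      refine ⟨fun hc => hab (isMulCommutative_iff.mp hc), fun x hx => ?_, h2, h3⟩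
      have := congrArg Subtype.val (h1 ⟨x, hx⟩)
      simpa using this
    · exfalso
      exact Cfsg.Agent.Lib.Helper91.EssChain.not_essential_of_chain4 p hS F H hH hcard
        C₁ C₂ C₃ hle hle' h1 h2 h3 hc1 hc2 hc3

end Cfsg.Agent.S5188
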