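import Cfsg.Statements.S5203
import Cfsg.Agent.Lib.Helper89.FusHyp

set_option autoImplicit false
open Cfsg

namespace Cfsg.Agent.S5203

open Cfsg.FusionSystem Cfsg.Agent.Lib.Helper89

/-- Let F be a saturated fusion system over a finite p-group S and E a normal subsystem of F over T that has p-power index in F. Then every residual limit of E has the same maps as every residual limit of F (the residual limit is reached by alternately passing to the p-residual and the p'-residual subsystem until nothing changes). -/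
theorem result {Ω : Type*} [Group Ω] {S : Subgroup Ω} [Finite S] (p : ℕ) [Fact p.Prime] (hS : IsPGroup p S) (F : Cfsg.FusionSystem S) (hF : F.IsSaturated p) {T : Subgroup Ω} (E : Cfsg.FusionSystem T) (hE : E.IsNormalIn F p) (hidx : E.HasPPowerIndexIn F p) {U V : Subgroup Ω} (Finf : Cfsg.FusionSystem U) (hFinf : Finf.IsResidualLimitOf F p) (Einf : Cfsg.FusionSystem V) (hEinf : Einf.IsResidualLimitOf E p) : ∀ P : Subgroup Ω, Finf.Hom P = Einf.Hom P := by
  have hEsat : E.IsSaturated p := hE.1.1
  have hTcl : F.StronglyClosed T := hE.1.2.2.2.1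
  have hTS : T ≤ S := hTcl.1
  have hfinT : Finite T := finite_of_le hTS
  have hpT : IsPGroup p T := hS.to_le hTS
  have hhypF : F.hyperfocalSubgroup p ≤ S := hyperfocal_le F p
  have hfinH : Finite (F.hyperfocalSubgroup p) := finite_of_le hhypF
  have hpH : IsPGroup p (F.hyperfocalSubgroup p) := hS.to_le hhypF
  have hhyp1 : E.hyperfocalSubgroup p ≤ F.hyperfocalSubgroup p := hyperfocal_mono p E F hidx.1
  have hhyp2 : F.hyperfocalSubgroup p ≤ E.hyperfocalSubgroup p :=
    hyperfocal_le_of_pPowerIndex hS F E hTcl hidx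
  cases hFinf with
  | stable _ _ h1 h2 =>
    have hST : S ≤ T := le_trans (le_of_eq h1.symm) hidx.2.1
    have hFE : ∀ P : Subgroup Ω, F.Hom P = E.Hom P := fun P =>
      Set.Subset.antisymm (le_of_pPowerIndex hS F F hF (fun _ => subset_rfl) E hidx hST P)
        (hidx.1 P)
    exact residualLimit_congr hS F hF E hFE F (IsResidualLimitOf.stable F p h1 h2) Einf hEinf
  | step _ _ D D' hD hD' hL =>
    cases hEinf with
    | stable _ _ h1 h2 =>
      have hTle : T ≤ F.hyperfocalSubgroup p := le_trans (le_of_eq h1.symm) hhyp1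
      have hDE : ∀ P : Subgroup Ω, D.Hom P = E.Hom P := fun P =>
        Set.Subset.antisymm (le_of_pPowerIndex hpH F D hD.1 hD.2.1 E hidx hidx.2.1 P)
          (le_of_pPowerIndex hpT F E hEsat hidx.1 D hD.2 hTle P)
      have hD'E : ∀ P : Subgroup Ω, D'.Hom P = E.Hom P :=
        pPrimeResidual_unique' D E hDE D' E hD' h2
      exact residualLimit_congr hpH D' hD'.1 E hD'E Finf hL E (IsResidualLimitOf.stable E p h1 h2)
    | step _ _ DE DE' hDE hDE' hLE =>
      have hDEF : DE.HasPPowerIndexIn F p := pPowerIndex_trans F E hidx DE hDE.2 hhyp2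
      have hfinHE : Finite (E.hyperfocalSubgroup p) := finite_of_le (hhyp1.trans hhypF)
      have hpHE : IsPGroup p (E.hyperfocalSubgroup p) := hS.to_le (hhyp1.trans hhypF)
      have hDDE : ∀ P : Subgroup Ω, D.Hom P = DE.Hom P := fun P =>
        Set.Subset.antisymm (le_of_pPowerIndex hpH F D hD.1 hD.2.1 DE hDEF hhyp2 P)
          (le_of_pPowerIndex hpHE F DE hDE.1 hDEF.1 D hD.2 hhyp1 P)
      have hD'DE' : ∀ P : Subgroup Ω, D'.Hom P = DE'.Hom P :=
        pPrimeResidual_unique' D DE hDDE D' DE' hD' hDE'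
      exact residualLimit_congr hpH D' hD'.1 DE' hD'DE' Finf hL Einf hLE

end Cfsg.Agent.S5203
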