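-- Statement S5206 (row 5206): the fusion system of G on a Sylow p-subgroup is Qd(p)-free iff
-- Qd(p) is not involved in G (p odd).
-- Route: element "Qd-data" characterise involvement of Qd(p); a p-subgroup T of maximal order
-- whose normalizer carries Qd-data is a Sylow p-subgroup of T C_G(T); N_G(Q)/O_{p'}(C_G(Q)) is a
-- model of the normalizer system; uniqueness of models (Lib/Helper87/Model) for the converse.
import Cfsg.Statements.S5206
import Cfsg.Agent.Lib.Helper2.QdModel2

set_option autoImplicit false
universe u
open Cfsg

namespace Cfsg.Agent.S5206

/-- Let p be an odd prime, G a finite group and P a Sylow p-subgroup of G. Then the fusion system of G on P is Qd(p)-free (Qd(p), the natural semidirect product of an elementary abelian group of order p² by SL₂(p), is not involved in any model of the normalizer system of a fully normalized centric subgroup) if and only if Qd(p) is not involved in G. -/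
theorem result {G : Type u} [Group G] [Finite G] {p : ℕ} [Fact p.Prime] (hp : p ≠ 2) (P : Sylow p G) : (Cfsg.groupFusionSystem (P : Subgroup G)).IsSectionFree p ↥(Cfsg.qd p) ↔ ¬ Cfsg.Involves ↥(Cfsg.qd p) G := by
  exact ⟨Cfsg.Agent.Lib.Helper2.qd_free_of_sectionFree hp P,
    Cfsg.Agent.Lib.Helper2.sectionFree_of_qd_free P⟩

end Cfsg.Agent.S5206
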