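import Cfsg.Statements.S5212
import Cfsg.Agent.S5235
import Cfsg.Agent.S1896
import Cfsg.Agent.Lib.Helper90.Inner

set_option autoImplicit false
open Cfsg

namespace Cfsg.Agent.S5212

/-- `C × C ≅ C ^ (Fin 2)` for `C = Multiplicative (ZMod k)`. -/
def prodFinTwo (k : ℕ) :
    Multiplicative (ZMod k) × Multiplicative (ZMod k) ≃* Multiplicative (Fin 2 → ZMod k) where
  toFun x := Multiplicative.ofAdd ![Multiplicative.toAdd x.1, Multiplicative.toAdd x.2]
  invFun y := (Multiplicative.ofAdd (Multiplicative.toAdd y 0),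
    Multiplicative.ofAdd (Multiplicative.toAdd y 1))
  left_inv x := by simp
  right_inv y := by
    apply Multiplicative.toAdd.injective
    funext i
    fin_cases i <;> simp
  map_mul' x y := by
    apply Multiplicative.toAdd.injective
    funext i
    fin_cases i <;> simp

open Cfsg.Agent.Lib.Helper90 in

/-- Let S be a finite metacyclic 2-group that is not homocyclic abelian (a direct product of cyclic groups of one common order), not dihedral, not semidihedral and not generalized quaternion. Then every saturated fusion system over S is the inner fusion system of S. -/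
theorem result {Ω : Type*} [Group Ω] {S : Subgroup Ω} [Finite S] (hS : IsPGroup 2 S) (F : Cfsg.FusionSystem S) (hF : F.IsSaturated 2) (hm : Cfsg.IsMetacyclic ↥S) (hh : ¬ ∃ n k : ℕ, Nonempty (↥S ≃* Multiplicative (Fin k → ZMod (2 ^ n)))) (hd : ¬ ∃ m : ℕ, Nonempty (↥S ≃* DihedralGroup m)) (hq : ¬ ∃ m : ℕ, Nonempty (↥S ≃* QuaternionGroup m)) (hsd : ¬ Cfsg.IsQuasiDihedral ↥S) : ∀ P : Subgroup Ω, F.Hom P = (Cfsg.innerFusionSystem S).Hom P := by
  have hSc : F.StronglyClosed S := ⟨le_rfl, fun R _ φ hφ x => (F.le_of_mem hφ).2 x⟩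
  have hnorm : F.IsNormal S := Cfsg.Agent.S5235.result 2 hS F hF S hSc rfl hm hd hq hsd
  have hA : IsPGroup 2 (MulAut ↥S) := by
    by_contra hA
    rcases Cfsg.Agent.S1896.result hS hm hA with h | ⟨n, ⟨ε⟩⟩
    · exact hq ⟨2, h⟩
    · exact hh ⟨n, 2, ⟨ε.trans (prodFinTwo (2 ^ n))⟩⟩
  have hfa := (top_fullyAutomized_receptive hF).1
  have hle : F.autGroup S ≤ autInducedBy S S :=
    normal_pSubgroup_le_autInducedBy hfa (F.autGroup S) (hA.to_subgroup _) le_rfl
      (fun α hα β hβ => (F.autGroup S).mul_mem ((F.autGroup S).mul_mem hα hβ)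
        ((F.autGroup S).inv_mem hα))
  intro P
  apply Set.Subset.antisymm
  · intro φ hφ
    have hm1 : Mor F P (extFun P φ) := mor_of_hom hφ
    obtain ⟨f', hf', hfP, hfS⟩ := extend_of_isNormal hnorm hm1.le hm1
    obtain ⟨α, hαF, hα⟩ := exists_aut_of_mor hf' hfS
    obtain ⟨b, hb, hαb⟩ := (mem_autInducedBy_iff S S α).mp (hle hαF)
    refine ⟨hm1.le, b, hb, fun x => ?_⟩
    have h1 := hfP x x.2
    rw [extFun_apply] at h1
    rw [← h1, ← hα ⟨x, hm1.le x.2⟩, hαb]
  · exact inner_le F le_rfl P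

end Cfsg.Agent.S5212
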