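import Cfsg.Statements.S5245
import Cfsg.Agent.Lib.Helper90.AutSys

set_option autoImplicit false
open Cfsg

namespace Cfsg.Agent.S5245

open Cfsg.Agent.Lib.Helper90 Cfsg.FusionSystem

variable {Ω : Type*} [Group Ω] {S : Subgroup Ω}

theorem pow_mem_Inn (R : Subgroup Ω) (β γ : MulAut R)
    (hγ : γ ∈ Inn R ⊔ Subgroup.zpowers β) : γ ^ orderOf β ∈ Inn R := by
  have h1 : γ ∈ (Subgroup.zpowers ((QuotientGroup.mk' (Inn R)) β)).comap
      (QuotientGroup.mk' (Inn R)) := by
    refine (sup_le ?_ ?_ : Inn R ⊔ Subgroup.zpowers β ≤ _) hγ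
    · intro ι hι
      rw [Subgroup.mem_comap]
      have : (QuotientGroup.mk' (Inn R)) ι = 1 := (QuotientGroup.eq_one_iff ι).mpr hι
      rw [this]
      exact Subgroup.one_mem _
    · rw [Subgroup.zpowers_le]
      exact Subgroup.mem_zpowers _
  obtain ⟨k, hk⟩ := Subgroup.mem_zpowers_iff.mp h1
  have h2 : (QuotientGroup.mk' (Inn R)) (γ ^ orderOf β) = 1 := by
    rw [map_pow, ← hk, ← zpow_natCast, ← zpow_mul, mul_comm, zpow_mul, zpow_natCast, ← map_pow,
      pow_orderOf_eq_one, map_one, one_zpow]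
  exact (QuotientGroup.eq_one_iff _).mp h2

theorem key1 [Finite S] (p : ℕ) [Fact p.Prime] (hS : IsPGroup p S) (F : FusionSystem S)
    (hxs : ∀ (T : Subgroup Ω) (E : FusionSystem T), E.IsSaturated p → E.IsSubsystemOf F →
      (T = S ∧ ∀ P : Subgroup Ω, E.Hom P = F.Hom P) ∨
        (∀ P : Subgroup Ω, E.Hom P = (innerFusionSystem T).Hom P))
    {R : Subgroup Ω} (hR : R ≤ S) (β : MulAut R) (hβ : β ∈ F.autGroup R) (hβ1 : β ≠ 1)
    (hcop : Nat.Coprime (orderOf β) p) :
    R = S ∧ ∀ (P : Subgroup Ω) (f : Ω → Ω), Mor F P f ↔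
      (P ≤ R ∧ ∃ γ ∈ Inn R ⊔ Subgroup.zpowers β, ∀ x ∈ P, f x = autFun R γ x) := by
  have hΓ : Inn R ⊔ Subgroup.zpowers β ≤ F.autGroup R :=
    sup_le ((Inn_le_autInducedBy hR).trans (autInducedBy_le_autGroup F hR))
      ((Subgroup.zpowers_le).mpr hβ)
  have hInn : Inn R ≤ Inn R ⊔ Subgroup.zpowers β := le_sup_left
  have hsat := autSys_isSaturated hS hR _ hΓ hInn hcop (fun γ hγ => pow_mem_Inn R β γ hγ)
  have hsub := autSys_isSubsystemOf hR _ hΓ hInn
  rcases hxs R _ hsat hsub with ⟨hRS, hE⟩ | hE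
  · refine ⟨hRS, fun P f => ?_⟩
    rw [← mor_autSys_iff hR _ hΓ hInn]
    show (∃ φ ∈ F.Hom P, _) ↔ (∃ φ ∈ (autSys F R hR _ hΓ hInn).Hom P, _)
    rw [hE P]
  · exfalso
    have h1 : β ∈ (autSys F R hR _ hΓ hInn).autGroup R := by
      rw [autGroup_autSys]
      exact Subgroup.mem_sup_right (Subgroup.mem_zpowers β)
    have h2 : Mor (autSys F R hR _ hΓ hInn) R (autFun R β) := (mem_autGroup_iff _ le_rfl β).mp h1
    have h3 : Mor (innerFusionSystem R) R (autFun R β) := by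
      obtain ⟨φ, hφ, hφf⟩ := h2
      rw [hE R] at hφ
      exact ⟨φ, hφ, hφf⟩
    obtain ⟨-, a, ha, h4⟩ := mor_inner_iff.mp h3
    have h5 : β ∈ Inn R := (mem_Inn_iff β).mpr ⟨a, ha, fun x => by
      rw [← autFun_apply]; exact h4 x x.2⟩
    obtain ⟨k, hk⟩ := (isPGroup_Inn hS hR) ⟨β, h5⟩
    have hk' : β ^ p ^ k = 1 := congrArg Subtype.val hk
    have h6 : orderOf β ∣ Nat.gcd (orderOf β) (p ^ k) :=
      Nat.dvd_gcd dvd_rfl (orderOf_dvd_of_pow_eq_one hk')
    rw [Nat.Coprime.pow_right k hcop, Nat.dvd_one, orderOf_eq_one_iff] at h6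
    exact hβ1 h6

theorem inner_of_pgroups [Finite S] (p : ℕ) [Fact p.Prime] (hS : IsPGroup p S)
    (F : FusionSystem S) (hF : F.IsSaturated p)
    (h : ∀ R : Subgroup Ω, R ≤ S → ∀ β ∈ F.autGroup R, Nat.Coprime (orderOf β) p → β = 1) :
    ∀ P : Subgroup Ω, F.Hom P = (innerFusionSystem S).Hom P := by
  have hN : F.IsNormal S := by
    refine isNormal_of_le_centric_radical hS hF (stronglyClosed_top F)
      (fun R hfa hrec hcen hrad => ?_)
    have hR : R ≤ S := hcen.1
    have : Finite R := finite_of_le hR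
    refine le_of_centric_radical hS hcen hrad le_rfl
      (fun s hs q hq => S.mul_mem (S.mul_mem hs hq) (S.inv_mem hs)) (fun a ha haN κ hκ => ?_)
    have hκ' : κ ∈ F.autGroup R :=
      autInducedBy_le_autGroup F hR ((mem_autInducedBy_iff S R κ).mpr ⟨a, ha, hκ⟩)
    exact le_pCore_map_of_coprime_trivial (F.autGroup R) le_rfl
      (fun α hα β hβ => Subgroup.mul_mem _ (Subgroup.mul_mem _ hα hβ) (Subgroup.inv_mem _ hα))
      (fun β hβ hc => h R hR β hβ hc) hκ'
  have hfa : F.IsFullyAutomized p S := (top_fullyAutomized_receptive hF).1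
  have hAp : IsPGroup p (F.autGroup S) := by
    apply isPGroup_of_coprime_trivial
    intro g hg
    rw [← Subgroup.orderOf_coe] at hg
    exact Subtype.ext (h S le_rfl g g.2 hg)
  have hAle : F.autGroup S ≤ autInducedBy S S :=
    normal_pSubgroup_le_autInducedBy hfa (F.autGroup S) hAp le_rfl
      (fun α hα β hβ => Subgroup.mul_mem _ (Subgroup.mul_mem _ hα hβ) (Subgroup.inv_mem _ hα))
  have key : ∀ (P : Subgroup Ω) (f : Ω → Ω), Mor F P f → Mor (innerFusionSystem S) P f := by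
    intro P f hf
    obtain ⟨f', hf', hf'P, hf'S⟩ := extQ_of_isNormal hN hf
    have hm : Mor F S f' := hf'.restrict le_sup_right
    obtain ⟨α, hα, hαf⟩ := exists_aut_of_mor hm hf'S
    obtain ⟨a, ha, hαa⟩ := (mem_autInducedBy_iff S S α).mp (hAle hα)
    refine mor_inner_iff.mpr ⟨hf.le, a, ha, fun x hx => ?_⟩
    rw [← hf'P x hx, ← hαf ⟨x, hf.le hx⟩, hαa]
  intro P
  ext φ
  constructor
  · intro hφ
    exact (key P _ (mor_of_hom hφ)).hom φ (fun x => (extFun_apply P φ x).symm)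
  · intro hφ
    exact inner_le F le_rfl P hφ

/-- Let F be an extremely sparse fusion system over a finite p-group S (saturated, not the inner system, and every saturated fusion system over any subgroup T of S contained in F is F itself or the inner system of T). Then S is normal in F, the focal and hyperfocal subgroups of F are both S, and Aut_F(S) is generated by the inner automorphisms of S together with a single automorphism of prime order q ≠ p (F is the fusion system of the semidirect product of S by a cyclic group of prime order). -/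
theorem result {Ω : Type*} [Group Ω] {S : Subgroup Ω} [Finite S] (p : ℕ) [Fact p.Prime] (hS : IsPGroup p S) (F : Cfsg.FusionSystem S) (hF : F.IsSaturated p) (hxs : ¬ (∀ P : Subgroup Ω, F.Hom P = (Cfsg.innerFusionSystem S).Hom P) ∧ ∀ (T : Subgroup Ω) (E : Cfsg.FusionSystem T), E.IsSaturated p → E.IsSubsystemOf F → (T = S ∧ ∀ P : Subgroup Ω, E.Hom P = F.Hom P) ∨ (∀ P : Subgroup Ω, E.Hom P = (Cfsg.innerFusionSystem T).Hom P)) : F.IsNormal S ∧ F.focalSubgroup = S ∧ F.hyperfocalSubgroup p = S ∧ ∃ (q : ℕ) (β : MulAut ↥S), q.Prime ∧ q ≠ p ∧ β ∈ F.autGroup S ∧ orderOf β = q ∧ (F.autGroup S : Subgroup (MulAut ↥S)) = Cfsg.Inn ↥S ⊔ Subgroup.zpowers β := by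
  obtain ⟨hni, hxs⟩ := hxs
  have hp : p.Prime := Fact.out
  -- a nontrivial `p'`-automorphism of `S`
  have hex : ∃ β₀ ∈ F.autGroup S, β₀ ≠ 1 ∧ Nat.Coprime (orderOf β₀) p := by
    by_contra hne
    apply hni
    apply inner_of_pgroups p hS F hF
    intro R hR β hβ hc
    by_contra hβ1
    obtain ⟨hRS, -⟩ := key1 p hS F hxs hR β hβ hβ1 hc
    subst hRS
    exact hne ⟨β, hβ, hβ1, hc⟩
  obtain ⟨β₀, hβ₀, hβ₀1, hc₀⟩ := hex
  have hn0 : orderOf β₀ ≠ 0 := by
    intro h0
    rw [h0, Nat.coprime_zero_left] at hc₀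
    exact hp.one_lt.ne' hc₀
  have hn1 : orderOf β₀ ≠ 1 := fun h1 => hβ₀1 (orderOf_eq_one_iff.mp h1)
  have hq : (Nat.minFac (orderOf β₀)).Prime := Nat.minFac_prime hn1
  have hqd : Nat.minFac (orderOf β₀) ∣ orderOf β₀ := Nat.minFac_dvd _
  have hqp : Nat.minFac (orderOf β₀) ≠ p := by
    intro h
    have : p ∣ Nat.gcd (orderOf β₀) p := Nat.dvd_gcd (h ▸ hqd) dvd_rfl
    rw [hc₀, Nat.dvd_one] at this
    exact hp.one_lt.ne' this
  obtain ⟨q, hq_def⟩ : ∃ q, q = Nat.minFac (orderOf β₀) := ⟨_, rfl⟩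
  rw [← hq_def] at hq hqd hqp
  obtain ⟨β, hβ_def⟩ : ∃ β, β = β₀ ^ (orderOf β₀ / q) := ⟨_, rfl⟩
  have hβo : orderOf β = q := by
    rw [hβ_def]
    exact orderOf_pow_orderOf_div hn0 hqd
  have hβ : β ∈ F.autGroup S := by
    rw [hβ_def]
    exact Subgroup.pow_mem _ hβ₀ _
  have hβ1 : β ≠ 1 := by
    intro h
    rw [h, orderOf_one] at hβo
    exact hq.one_lt.ne' hβo.symm
  have hcq : Nat.Coprime q p := (Nat.coprime_primes hq hp).mpr hqp
  have hcop : Nat.Coprime (orderOf β) p := by rw [hβo]; exact hcq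
  obtain ⟨-, hMor⟩ := key1 p hS F hxs le_rfl β hβ hβ1 hcop
  have hm : Mor F S (autFun S β) := (mem_autGroup_iff F le_rfl β).mp hβ
  -- the commutator subgroup `[S, β]`
  obtain ⟨U, hU_def⟩ : ∃ U : Subgroup Ω, U = Subgroup.closure
      {y : Ω | ∃ x : S, y = (x : Ω)⁻¹ * ((β x : S) : Ω)} := ⟨_, rfl⟩
  have hUS : U ≤ S := by
    rw [hU_def, Subgroup.closure_le]
    rintro y ⟨x, rfl⟩
    exact S.mul_mem (S.inv_mem x.2) (β x).2
  have hUinv : ∀ x ∈ U, autFun S β x ∈ U := by
    intro x hx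
    rw [hU_def] at hx
    induction hx using Subgroup.closure_induction with
    | mem y hy =>
      obtain ⟨x, rfl⟩ := hy
      rw [hU_def]
      apply Subgroup.subset_closure
      refine ⟨β x, ?_⟩
      rw [hm.map_mul (S.inv_mem x.2) (β x).2, hm.map_inv x.2, autFun_apply, autFun_apply]
    | one => rw [hm.map_one]; exact Subgroup.one_mem _
    | mul x y hx hy ihx ihy =>
      have hxS : x ∈ S := hUS (hU_def ▸ hx)
      have hyS : y ∈ S := hUS (hU_def ▸ hy)
      rw [hm.map_mul hxS hyS]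
      exact Subgroup.mul_mem _ ihx ihy
    | inv x hx ihx =>
      have hxS : x ∈ S := hUS (hU_def ▸ hx)
      rw [hm.map_inv hxS]
      exact Subgroup.inv_mem _ ihx
  have : Finite U := finite_of_le hUS
  obtain ⟨αU, hαU, hαUf⟩ := exists_aut_of_mor (hm.restrict hUS) hUinv
  have hαU1 : αU ≠ 1 := by
    intro h1
    apply hβ1
    ext x
    obtain ⟨k, hk⟩ := hS (x⁻¹ * β x)
    have hfix : β (x⁻¹ * β x) = x⁻¹ * β x := by
      have hmem : ((x⁻¹ * β x : S) : Ω) ∈ U := by
        rw [hU_def]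
        exact Subgroup.subset_closure ⟨x, rfl⟩
      have h2 := hαUf ⟨_, hmem⟩
      rw [h1, autFun_apply] at h2
      exact Subtype.ext h2.symm
    have hpow : (β ^ q) x = x := by
      rw [← hβo, pow_orderOf_eq_one]
      rfl
    have := aut_fix_of_fix_comm β hcq x hfix hpow hk
    rw [this]
    rfl
  have hαUq : αU ^ q = 1 := by
    ext x
    have h1 := autFun_pow_apply β αU hUS
      (fun x hx => by rw [autFun_apply' _ hx]; exact hαUf ⟨x, hx⟩) q x x.2
    have hβq : β ^ q = 1 := by rw [← hβo]; exact pow_orderOf_eq_one β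
    rw [autFun_apply, hβq, autFun_apply' _ (hUS x.2)] at h1
    exact h1
  have hαUc : Nat.Coprime (orderOf αU) p :=
    Nat.Coprime.coprime_dvd_left (orderOf_dvd_of_pow_eq_one hαUq) hcq
  obtain ⟨hUeq, -⟩ := key1 p hS F hxs hUS αU hαU hαU1 hαUc
  have hSU : S ≤ U := le_of_eq hUeq.symm
  refine ⟨?_, ?_, ?_, q, β, hq, hqp, hβ, hβo, ?_⟩
  · -- `S` is normal
    refine isNormal_of_extQ le_rfl (fun P f hf => ?_)
    obtain ⟨hP, γ, hγ, hfγ⟩ := (hMor P f).mp hf
    exact ⟨autFun S γ, (hMor _ _).mpr ⟨sup_le hP le_rfl, γ, hγ, fun _ _ => rfl⟩,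
      fun x hx => (hfγ x hx).symm, fun x hx => autFun_mem γ hx⟩
  · -- focal subgroup
    apply le_antisymm
    · unfold FusionSystem.focalSubgroup
      rw [Subgroup.closure_le]
      rintro y ⟨P, φ, x, hφ, rfl⟩
      exact S.mul_mem (S.inv_mem ((F.le_of_mem hφ).1 x.2)) ((F.le_of_mem hφ).2 x)
    · refine hSU.trans ?_
      rw [hU_def]
      unfold FusionSystem.focalSubgroup
      apply Subgroup.closure_mono
      rintro y ⟨x, rfl⟩
      obtain ⟨φ, hφ, hφf⟩ := hm
      exact ⟨S, φ, x, hφ, by rw [hφf, autFun_apply]⟩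
  · -- hyperfocal subgroup
    apply le_antisymm
    · unfold FusionSystem.hyperfocalSubgroup
      rw [Subgroup.closure_le]
      rintro y ⟨P, α, x, hP, -, rfl⟩
      exact S.mul_mem (S.inv_mem (hP x.2)) (hP ((α : MulAut P) x).2)
    · refine hSU.trans ?_
      rw [hU_def]
      unfold FusionSystem.hyperfocalSubgroup
      apply Subgroup.closure_mono
      rintro y ⟨x, rfl⟩
      refine ⟨S, ⟨β, hβ⟩, x, le_rfl, ?_, rfl⟩
      apply Subgroup.subset_closure
      show Nat.Coprime (orderOf (⟨β, hβ⟩ : F.autGroup S)) p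
      rw [← Subgroup.orderOf_coe]
      exact hcop
  · -- the automizer of `S`
    ext α
    rw [mem_autGroup_iff F le_rfl, hMor]
    constructor
    · rintro ⟨-, γ, hγ, h⟩
      have : α = γ := by
        ext x
        have := h x x.2
        rwa [autFun_apply, autFun_apply] at this
      rw [this]
      exact hγ
    · intro hα
      exact ⟨le_rfl, α, hα, fun _ _ => rfl⟩

end Cfsg.Agent.S5245
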