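import Cfsg.Statements.S5270
import Cfsg.Agent.Lib.Helper90.EssIndexP

set_option autoImplicit false
open Cfsg

namespace Cfsg.Agent.S5270

open Cfsg.FusionSystem Cfsg.Agent.Lib.Helper90

theorem core {Ω : Type*} [Group Ω] {S : Subgroup Ω} [Finite S] (p : ℕ) [Fact p.Prime]
    (hS : IsPGroup p ↥S) (n : ℕ) (hn : Nat.card S = p ^ n) (h1 : 1 ≤ n)
    (F : Cfsg.FusionSystem S) (hF : F.IsSaturated p) (Z Z2 : Subgroup Ω)
    (hZmem : ∀ z, z ∈ Z ↔ z ∈ S ∧ ∀ s ∈ S, s * z = z * s)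
    (hZ2S : Z2 ≤ S)
    (hZ2norm : ∀ s ∈ S, ∀ u ∈ Z2, s * u * s⁻¹ ∈ Z2)
    (hZ2comm : ∀ u ∈ Z2, ∀ v ∈ Z2, u * v = v * u)
    (hcard : p ^ (n - 1) ≤ Nat.card ↥(S ⊓ Subgroup.centralizer (Z2 : Set Ω)))
    (φ : ↥Z2 →* Ω) (hφ : φ ∈ F.Hom Z2) (hφZ : φ.range = Z2)
    (hmove : ∃ (z : Ω) (hz : z ∈ Z2), z ∈ Z ∧ φ ⟨z, hz⟩ ∉ Z) :
    F.IsEssential p (S ⊓ Subgroup.centralizer (Z2 : Set Ω)) := by
  have hp : p.Prime := Fact.out
  obtain ⟨R, hR⟩ : ∃ R : Subgroup Ω, R = S ⊓ Subgroup.centralizer (Z2 : Set Ω) := ⟨_, rfl⟩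
  rw [← hR] at hcard ⊢
  have hRS : R ≤ S := hR ▸ inf_le_left
  have hRmem : ∀ x, x ∈ R ↔ x ∈ S ∧ ∀ w ∈ Z2, w * x = x * w := by
    intro x
    rw [hR, Subgroup.mem_inf, Subgroup.mem_centralizer_iff]
    rfl
  have : Finite R := finite_of_le hRS
  have : Finite Z2 := finite_of_le hZ2S
  have hZ2R : Z2 ≤ R := by
    intro u hu
    rw [hRmem]
    exact ⟨hZ2S hu, fun w hw => hZ2comm w hw u hu⟩
  have hnorm : S ≤ Subgroup.normalizer (R : Set Ω) := by
    intro s hs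
    apply mem_normalizer_of_finite
    intro x hx
    rw [hRmem] at hx ⊢
    refine ⟨S.mul_mem (S.mul_mem hs hx.1) (S.inv_mem hs), fun w hw => ?_⟩
    have hw' : s⁻¹ * w * s⁻¹⁻¹ ∈ Z2 := hZ2norm s⁻¹ (S.inv_mem hs) w hw
    have h2 := hx.2 _ hw'
    calc w * (s * x * s⁻¹) = s * ((s⁻¹ * w * s⁻¹⁻¹) * x) * s⁻¹ := by group
      _ = s * (x * (s⁻¹ * w * s⁻¹⁻¹)) * s⁻¹ := by rw [h2]
      _ = s * x * s⁻¹ * w := by group
  have hcent : centralizerIn S R ≤ R := by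
    intro a ha
    rw [hRmem]
    refine ⟨ha.1, fun w hw => ?_⟩
    exact Subgroup.mem_centralizer_iff.mp ha.2 w (hZ2R hw)
  have hidx : R.relIndex S ∣ p := by
    have h2 := (R.subgroupOf S).card_mul_index
    have h3 : Nat.card (R.subgroupOf S) = Nat.card R :=
      Nat.card_congr (Subgroup.subgroupOfEquivOfLe hRS).toEquiv
    rw [h3, hn] at h2
    have h4 : Nat.card R ∣ p ^ n := hn ▸ Subgroup.card_dvd_of_le hRS
    obtain ⟨k, hk, hk2⟩ := (Nat.dvd_prime_pow hp).mp h4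
    rw [hk2] at hcard h2
    have h5 : n - 1 ≤ k := (Nat.pow_le_pow_iff_right hp.one_lt).mp hcard
    have h6 : (R.subgroupOf S).index = p ^ (n - k) := by
      have h7 : p ^ n = p ^ k * p ^ (n - k) := by
        rw [← pow_add]
        congr 1
        omega
      rw [h7] at h2
      exact Nat.eq_of_mul_eq_mul_left (Nat.pos_of_ne_zero (pow_ne_zero _ hp.ne_zero)) h2
    show (R.subgroupOf S).index ∣ p
    rw [h6]
    have h8 : n - k ≤ 1 := by omega
    calc p ^ (n - k) ∣ p ^ 1 := Nat.pow_dvd_pow p h8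
      _ = p := pow_one p
  refine essential_of_not_extend p hS F hF hRS hnorm hcent hidx ?_
  -- `Z2` is fully normalized, hence receptive
  have hfnZ2 : F.IsFullyNormalized Z2 := by
    refine ⟨hZ2S, fun Q _ => ?_⟩
    have h2 : normalizerIn S Z2 = S :=
      le_antisymm inf_le_left (le_inf le_rfl (fun s hs =>
        mem_normalizer_of_finite (fun x hx => hZ2norm s hs x hx)))
    rw [h2]
    exact Subgroup.card_le_of_le inf_le_left
  obtain ⟨-, -, hrecZ2⟩ := Cfsg.Agent.Lib.Helper87.saturated_fullyNormalized p hS F hF hfnZ2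
  have hmor : Mor F Z2 (extFun Z2 φ) := mor_of_hom hφ
  have himg : img Z2 (extFun Z2 φ) = Z2 := by
    rw [hmor.img_eq_range φ (fun x => (extFun_apply Z2 φ x).symm), hφZ]
  obtain ⟨ψ, hψ, hψf⟩ := receptive_extend hrecZ2 hmor himg R hZ2R (by
    intro a ha
    have ha' := (hRmem a).mp ha
    refine ⟨ha'.1, Subgroup.centralizer_le_normalizer _ ?_, 1, S.one_mem, fun x hx => ?_⟩
    · rw [Subgroup.mem_centralizer_iff]
      exact ha'.2
    · have h2 : a * x * a⁻¹ = x := by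
        rw [← ha'.2 x hx]
        group
      rw [h2]
      simp)
  have hψR : ∀ x ∈ R, ψ x ∈ R := by
    intro x hx
    rw [hRmem]
    refine ⟨hψ.mem hx, fun w hw => ?_⟩
    rw [← himg] at hw
    obtain ⟨w₀, hw₀, rfl⟩ := hmor.mem_img.mp hw
    rw [← hψf w₀ hw₀, ← hψ.map_mul (hZ2R hw₀) hx, ← hψ.map_mul hx (hZ2R hw₀),
      ((hRmem x).mp hx).2 w₀ hw₀]
  obtain ⟨α, hα, hαψ⟩ := exists_aut_of_mor hψ hψR
  refine ⟨α, hα, ?_⟩
  rintro ⟨σ, hσ, hσα⟩
  obtain ⟨z, hz, hzZ, hnot⟩ := hmove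
  apply hnot
  have h2 : σ z = φ ⟨z, hz⟩ := by
    rw [hσα z (hZ2R hz), autFun_apply' α (hZ2R hz), hαψ, hψf z hz, extFun_apply' Z2 φ hz]
  rw [← h2, hZmem]
  refine ⟨hσ.mem (hZ2S hz), fun s hs => ?_⟩
  obtain ⟨s₀, hs₀, rfl⟩ := hσ.surj_of_finite (fun x hx => hσ.mem hx) s hs
  rw [← hσ.map_mul hs₀ (hZ2S hz), ← hσ.map_mul (hZ2S hz) hs₀, ((hZmem z).mp hzZ).2 s₀ hs₀]

/-- Let p ≥ 5 be a prime, S a finite p-group of maximal class of order p^n with n ≥ 4, and F a saturated fusion system over S. If some map of F defined on the second centre Z₂(S) with image Z₂(S) does not carry Z(S) into itself, then the centralizer C_S(Z₂(S)) is an F-essential subgroup. -/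
theorem result {Ω : Type*} [Group Ω] {S : Subgroup Ω} [Finite S] (p : ℕ) [Fact p.Prime] (hS : IsPGroup p ↥S) (n : ℕ) (hn : Nat.card S = p ^ n) (h4 : 4 ≤ n) (hmax : Subgroup.lowerCentralSeries S (n - 2) ≠ ⊥) (F : Cfsg.FusionSystem S) (hF : F.IsSaturated p) (hp : 5 ≤ p) (φ : ↥((Subgroup.upperCentralSeries ↥S 2).map S.subtype) →* Ω) (hφ : φ ∈ F.Hom ((Subgroup.upperCentralSeries ↥S 2).map S.subtype)) (hφZ : φ.range = ((Subgroup.upperCentralSeries ↥S 2).map S.subtype)) (hmove : ∃ (z : Ω) (hz : z ∈ ((Subgroup.upperCentralSeries ↥S 2).map S.subtype)), z ∈ ((Subgroup.center ↥S).map S.subtype) ∧ φ ⟨z, hz⟩ ∉ ((Subgroup.center ↥S).map S.subtype)) : F.IsEssential p (S ⊓ Subgroup.centralizer (((Subgroup.upperCentralSeries ↥S 2).map S.subtype) : Set Ω)) := by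
  have hmax' : Subgroup.upperCentralSeries ↥S (n - 2) ≠ ⊤ := by
    intro h
    apply hmax
    have h2 := Subgroup.lowerCentralSeries_eq_bot_iff_upperCentralSeries_eq_top.mpr h
    rw [← Subgroup.top_subtype_lowerCentralSeries, h2, Subgroup.map_bot]
  obtain ⟨hZc, hZ2c⟩ := maxClass_cards hn h4 hmax'
  have hcen := maxClass_centralizer hn (by omega) hZc hZ2c
  refine core p hS n hn (by omega) F hF ((Subgroup.center ↥S).map S.subtype) _ ?_ ?_ ?_ ?_ ?_
    φ hφ hφZ hmove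
  · intro z
    constructor
    · rintro ⟨z', hz', rfl⟩
      refine ⟨z'.2, fun s hs => ?_⟩
      exact congrArg Subtype.val (Subgroup.mem_center_iff.mp hz' ⟨s, hs⟩)
    · rintro ⟨hzS, hc⟩
      exact ⟨⟨z, hzS⟩, Subgroup.mem_center_iff.mpr (fun g => Subtype.ext (hc g g.2)), rfl⟩
  · exact Subgroup.map_subtype_le _
  · rintro s hs _ ⟨u', hu', rfl⟩
    have hN : (Subgroup.upperCentralSeries ↥S 2).Normal := inferInstance
    have hc := hN.conj_mem u' hu' ⟨s, hs⟩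
    have h3 := Subgroup.mem_map_of_mem S.subtype hc
    have e : S.subtype (⟨s, hs⟩ * u' * ⟨s, hs⟩⁻¹) = s * S.subtype u' * s⁻¹ := by simp
    rw [← e]
    exact h3
  · rintro _ ⟨u', hu', rfl⟩ _ ⟨v', hv', rfl⟩
    have h2 := (IsPGroup.isMulCommutative_of_card_eq_prime_sq hZ2c).is_comm.comm
      ⟨u', hu'⟩ ⟨v', hv'⟩
    have h3 : u' * v' = v' * u' := congrArg Subtype.val h2
    exact congrArg Subtype.val h3
  · have hle : (Subgroup.centralizer (Subgroup.upperCentralSeries ↥S 2 : Set ↥S)).map S.subtype ≤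
        S ⊓ Subgroup.centralizer (((Subgroup.upperCentralSeries ↥S 2).map S.subtype : Subgroup Ω) : Set Ω) := by
      rintro _ ⟨x', hx', rfl⟩
      refine Subgroup.mem_inf.mpr ⟨x'.2, ?_⟩
      rw [Subgroup.mem_centralizer_iff]
      rintro _ ⟨w', hw', rfl⟩
      exact congrArg Subtype.val (Subgroup.mem_centralizer_iff.mp hx' w' hw')
    have : Finite ↥(S ⊓ Subgroup.centralizer (((Subgroup.upperCentralSeries ↥S 2).map S.subtype : Subgroup Ω) : Set Ω)) :=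
      finite_of_le inf_le_left
    have h2 := Subgroup.card_le_of_le hle
    rw [Subgroup.card_map_of_injective S.subtype_injective] at h2
    exact hcen.trans h2

end Cfsg.Agent.S5270
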