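import Cfsg.Statements.S5272
import Cfsg.Agent.S5090
import Cfsg.Agent.S5332
import Cfsg.Agent.Lib.Helper30.AxGT

set_option autoImplicit false
open Cfsg

namespace Cfsg.Agent.S5272

open Cfsg.FusionSystem Cfsg.Agent.Lib.Helper90 Cfsg.Agent.Lib.Helper88 Cfsg.Agent.Lib.Helper30
open scoped commutatorElement

/-- An axiomatic Glauberman–Thompson nilpotency criterion for fusion systems. Let p be an odd prime, F a saturated fusion system over a finite p-group S, and 𝒜 a nonempty family of abelian subgroups of S. For Q ≤ S write I(Q) for the intersection of the members of 𝒜 contained in Q. Assume (invariance) that for every Q ≤ S containing a member of 𝒜, every F-automorphism of Q maps I(Q) into itself, and (replacement) that for every subgroup B of S of nilpotency class at most 2, if some member of 𝒜 contains [B,B] but not B, then B normalizes some member of 𝒜 that contains [B,B] but not B. Then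 F is the inner fusion system of S if and only if the normalizer fusion system of I(S) in F is the inner fusion system of N_S(I(S)). -/
theorem result {Ω : Type*} [Group Ω] {S : Subgroup Ω} [Finite S] (p : ℕ) [Fact p.Prime] (hS : IsPGroup p ↥S) (F : Cfsg.FusionSystem S) (hF : F.IsSaturated p) (hp : p ≠ 2) (𝒜 : Set (Subgroup Ω)) (h𝒜 : ∀ A ∈ 𝒜, A ≤ S ∧ IsMulCommutative ↥A) (hne : 𝒜.Nonempty) (hinv : ∀ Q : Subgroup Ω, Q ≤ S → (∃ A ∈ 𝒜, A ≤ Q) → ∀ α ∈ F.autGroup Q, ∀ x : ↥Q, (x : Ω) ∈ (⨅ A ∈ {A : Subgroup Ω | A ∈ 𝒜 ∧ A ≤ Q}, A) → (((α : MulAut ↥Q) x : ↥Q) : Ω) ∈ (⨅ A ∈ {A : Subgroup Ω | A ∈ 𝒜 ∧ A ≤ Q}, A)) (hrep : ∀ B : Subgroup Ω, B ≤ S → ⁅⁅B, B⁆, B⁆ = ⊥ → (∃ A ∈ 𝒜, ⁅B, B⁆ ≤ A ∧ ¬ B ≤ A) → ∃ A ∈ 𝒜, ⁅B, B⁆ ≤ A ∧ ¬ B ≤ A ∧ B ≤ Subgroup.normalizer (A : Set Ω)) : (∀ P : Subgroup Ω, F.Hom P = (Cfsg.innerFusionSystem S).Hom P) ↔ ∀ N : Cfsg.FusionSystem (Cfsg.FusionSystem.normalizerIn S (⨅ A ∈ 𝒜, A)),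 F.IsNormalizerSystem (⨅ A ∈ 𝒜, A) N → ∀ P : Subgroup Ω, N.Hom P = (Cfsg.innerFusionSystem (Cfsg.FusionSystem.normalizerIn S (⨅ A ∈ 𝒜, A))).Hom P := by
  classical
  obtain ⟨I, hIdef⟩ : ∃ I : Subgroup Ω, I = ⨅ A ∈ 𝒜, A := ⟨_, rfl⟩
  rw [← hIdef]
  have hmemI : ∀ x : Ω, x ∈ I ↔ ∀ A ∈ 𝒜, x ∈ A := by
    intro x
    rw [hIdef]
    simp only [Subgroup.mem_iInf]
  obtain ⟨A0, hA0⟩ := hne
  have hIS : I ≤ S := fun x hx => (h𝒜 A0 hA0).1 ((hmemI x).mp hx A0 hA0)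
  have hcommA : ∀ A ∈ 𝒜, ∀ a ∈ A, ∀ b ∈ A, a * b = b * a := by
    intro A hA a ha b hb
    have h1 := (h𝒜 A hA).2.is_comm.comm ⟨a, ha⟩ ⟨b, hb⟩
    exact congrArg Subtype.val h1
  -- invariance, for maps of `F`
  have hinvF : ∀ Q : Subgroup Ω, Q ≤ S → (∃ A ∈ 𝒜, A ≤ Q) → ∀ f : Ω → Ω, Mor F Q f →
      (∀ x ∈ Q, f x ∈ Q) → ∀ x ∈ Q, (∀ A ∈ 𝒜, A ≤ Q → x ∈ A) → ∀ A ∈ 𝒜, A ≤ Q → f x ∈ A := by
    intro Q hQS hex f hf hfQ x hxQ hx A hA hAQ
    have hfinQ : Finite Q := finite_of_le hQS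
    obtain ⟨α, hα, hαf⟩ := exists_aut_of_mor hf hfQ
    have h1 := hinv Q hQS hex α hα ⟨x, hxQ⟩ (by
      simp only [Subgroup.mem_iInf, Set.mem_ofPred_eq]
      rintro A' ⟨hA', hA'Q⟩
      exact hx A' hA' hA'Q)
    rw [hαf] at h1
    simp only [Subgroup.mem_iInf, Set.mem_ofPred_eq] at h1
    exact h1 A ⟨hA, hAQ⟩
  -- every element of `S` normalizes `I`
  have hfinI : Finite I := finite_of_le hIS
  have hSN : S ≤ normalizerIn S I := by
    intro a ha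
    refine mem_normalizerIn.mpr ⟨ha, mem_normalizer_of_finite (fun x hx => ?_)⟩
    have hm : Mor (innerFusionSystem S) S (fun y => a * y * a⁻¹) :=
      mor_inner_iff.mpr ⟨le_rfl, a, ha, fun y _ => rfl⟩
    have hmF : Mor F S (fun y => a * y * a⁻¹) := by
      obtain ⟨φ, hφ, hφf⟩ := hm
      exact ⟨φ, inner_le F le_rfl S hφ, hφf⟩
    rw [hmemI]
    intro A hA
    exact hinvF S le_rfl ⟨A0, hA0, (h𝒜 A0 hA0).1⟩ _ hmF
      (fun y hy => S.mul_mem (S.mul_mem ha hy) (S.inv_mem ha)) x (hIS hx)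
      (fun A' hA' _ => (hmemI x).mp hx A' hA') A hA (h𝒜 A hA).1
  constructor
  · -- the system is inner, so its normalizer subsystems are
    intro hin N hN P
    ext φ
    constructor
    · intro hφ
      have hm : Mor N P (extFun P φ) := mor_of_hom hφ
      obtain ⟨-, hPle, -, f', hf', hf'P, hf'Q⟩ := (isNormalizerSystem_mor_iff hIS hN).mp hm
      have h1 : Mor (innerFusionSystem S) (P ⊔ I) f' := by
        obtain ⟨ψ, hψ, hψf⟩ := hf'
        exact ⟨ψ, by rw [← hin]; exact hψ, hψf⟩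
      obtain ⟨-, a, ha, hfa⟩ := mor_inner_iff.mp h1
      have h2 : Mor (innerFusionSystem (normalizerIn S I)) P (extFun P φ) :=
        mor_inner_iff.mpr ⟨hPle, a, hSN ha, fun x hx => by
          rw [← hf'P x hx, hfa x (Subgroup.mem_sup_left hx)]⟩
      exact h2.hom φ (fun x => (extFun_apply P φ x).symm)
    · intro hφ
      exact inner_le N le_rfl P hφ
  · -- conversely: a non-inner system contains a non-inner constrained one, which has a model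
    intro hN
    by_contra hne'
    push Not at hne'
    obtain ⟨E, hEF, hEc, hEne⟩ := Cfsg.Agent.S5332.result p hS F hF hp hne'
    obtain ⟨G, _, ι, hfin, hreal, ⟨T, hT⟩, hcen⟩ := Cfsg.Agent.S5090.result p hS E hEc
    have hmorEF : ∀ {P : Subgroup Ω} {f : Ω → Ω}, Mor E P f → Mor F P f := by
      intro P f hf
      obtain ⟨φ, hφ, hφf⟩ := hf
      exact ⟨φ, hEF P hφ, hφf⟩
    have hkey : ∀ (P : Subgroup Ω) (f : Ω → Ω), (∀ x : Ω, (∀ A ∈ 𝒜, x ∈ A) → x ∈ P) →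
        Mor E P f → (∀ x ∈ P, f x ∈ P) → (∀ x : Ω, (∀ A ∈ 𝒜, x ∈ A) → ∀ A ∈ 𝒜, f x ∈ A) →
        ∃ a ∈ S, ∀ x ∈ P, f x = a * x * a⁻¹ := by
      intro P f hIP hf hfP hfI
      have hZP : I ≤ P := fun x hx => hIP x ((hmemI x).mp hx)
      have hfZ : ∀ x ∈ I, f x ∈ I := fun x hx => (hmemI _).mpr (hfI x ((hmemI x).mp hx))
      have hfF : Mor F P f := hmorEF hf
      have hnm : NMor F I P f :=
        ⟨hfF, hfF.le.trans hSN, fun x hx => hSN (hfF.mem hx), extQ_of_le hZP hfF hfZ⟩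
      have hm : Mor (normalizerSys F I hIS) P f := (mor_normalizerSys_iff hIS).mpr hnm
      have hm2 : Mor (innerFusionSystem (normalizerIn S I)) P f := by
        obtain ⟨ψ, hψ, hψf⟩ := hm
        exact ⟨ψ, by rw [← hN _ (normalizerSys_isNormalizerSystem hIS)]; exact hψ, hψf⟩
      obtain ⟨-, a, ha, hfa⟩ := mor_inner_iff.mp hm2
      exact ⟨a, ha.1, hfa⟩
    have hrepE : ∀ B : Subgroup Ω, B ≤ S →
        (∀ x ∈ B, ∀ y ∈ B, ∀ w ∈ B, ⁅x, y⁆ * w = w * ⁅x, y⁆) →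
        (∃ A ∈ 𝒜, (∀ x ∈ B, ∀ y ∈ B, ⁅x, y⁆ ∈ A) ∧ ¬ B ≤ A) →
        ∃ A ∈ 𝒜, ¬ B ≤ A ∧ ∀ b ∈ B, ∀ a ∈ A, b * a * b⁻¹ ∈ A := by
      rintro B hBS h2 ⟨A, hA, hc, hn⟩
      have h3 : ⁅⁅B, B⁆, B⁆ = ⊥ := by
        rw [Subgroup.commutator_eq_bot_iff_le_centralizer, Subgroup.commutator_le]
        intro x hx y hy
        rw [Subgroup.mem_centralizer_iff]
        intro w hw
        exact (h2 x hx y hy w hw).symm
      obtain ⟨A1, hA1, -, hnB, hnorm⟩ :=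
        hrep B hBS h3 ⟨A, hA, Subgroup.commutator_le.mpr hc, hn⟩
      refine ⟨A1, hA1, hnB, fun b hb a ha => ?_⟩
      exact (Subgroup.mem_normalizer_iff.mp (hnorm hb) a).mp ha
    have hTtop := top_of_realized_ax hp ι hreal T hT hcen 𝒜
      (fun A hA => ⟨(h𝒜 A hA).1, hcommA A hA⟩) ⟨A0, hA0⟩
      (fun Q hQS hex f hf hfQ => hinvF Q hQS hex f (hmorEF hf) hfQ) hrepE hkey
    -- so `E` is inner
    obtain ⟨P, hP⟩ := hEne
    apply hP
    ext φ
    constructor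
    · intro hφ
      have hmφ : Mor E P (extFun P φ) := mor_of_hom hφ
      obtain ⟨g, hg⟩ := exists_conj_of_mor hreal hmφ
      have hgT : g ∈ ι.range := by
        rw [← hT, hTtop]
        exact Subgroup.mem_top g
      obtain ⟨a, ha⟩ := hgT
      have h2 : Mor (innerFusionSystem S) P (extFun P φ) := by
        refine mor_inner_iff.mpr ⟨hmφ.le, a, a.2, fun x hx => ?_⟩
        have h3 := hg x hx
        rw [← ha, ← map_inv, ← map_mul, ← map_mul] at h3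
        exact congrArg Subtype.val (hreal.1 h3)
      exact h2.hom φ (fun x => (extFun_apply P φ x).symm)
    · intro hφ
      exact inner_le E le_rfl P hφ

end Cfsg.Agent.S5272
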