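import Cfsg.Statements.S5275
import Cfsg.Agent.S5090
import Cfsg.Agent.S5332
import Cfsg.Agent.Lib.Helper88.ZJCons
import Cfsg.Agent.Lib.Helper91.KLZJ

set_option autoImplicit false
open Cfsg

namespace Cfsg.Agent.S5275

open Cfsg.FusionSystem Cfsg.Agent.Lib.Helper90 Cfsg.Agent.Lib.Helper88

/-- A Glauberman–Thompson nilpotency criterion for fusion systems relative to a strongly closed subgroup. Let p be an odd prime, F a saturated fusion system over a finite p-group S, and D a subgroup of S that is strongly closed in F. Let Z(J(D)) be the centre of the subgroup of D generated by the abelian subgroups of D of largest order. Then F is the inner fusion system of S if and only if the normalizer fusion system of Z(J(D)) in F is the inner fusion system of N_S(Z(J(D))) = S. -/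
theorem result {Ω : Type*} [Group Ω] {S : Subgroup Ω} [Finite S] (p : ℕ) [Fact p.Prime] (hS : IsPGroup p ↥S) (F : Cfsg.FusionSystem S) (hF : F.IsSaturated p) (hp : p ≠ 2) (D : Subgroup Ω) (hD : F.StronglyClosed D) : (∀ P : Subgroup Ω, F.Hom P = (Cfsg.innerFusionSystem S).Hom P) ↔ ∀ N : Cfsg.FusionSystem (Cfsg.FusionSystem.normalizerIn S (Cfsg.centerThompsonAOf D)), F.IsNormalizerSystem (Cfsg.centerThompsonAOf D) N → ∀ P : Subgroup Ω, N.Hom P = (Cfsg.innerFusionSystem (Cfsg.FusionSystem.normalizerIn S (Cfsg.centerThompsonAOf D))).Hom P := by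
  classical
  have hZD : Cfsg.centerThompsonAOf D ≤ D := Cfsg.Agent.Lib.Helper91.ctA_le_self D
  have hZS : Cfsg.centerThompsonAOf D ≤ S := hZD.trans hD.1
  have hfinD : Finite D := finite_of_le hD.1
  have hfinZ : Finite (Cfsg.centerThompsonAOf D) := finite_of_le hZS
  -- every element of `S` normalizes `Z(J(D))`
  have hSN : S ≤ normalizerIn S (Cfsg.centerThompsonAOf D) := by
    intro a ha
    refine mem_normalizerIn.mpr ⟨ha, Cfsg.Agent.Lib.Helper91.ctA_normalizer ?_⟩
    exact mem_normalizer_of_finite (fun x hx => stronglyClosed_conj_mem hD ha hx)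
  constructor
  · -- the system is inner, so its normalizer subsystems are
    intro hin N hN P
    ext φ
    constructor
    · intro hφ
      have hm : Mor N P (extFun P φ) := mor_of_hom hφ
      obtain ⟨-, hPle, -, f', hf', hf'P, hf'Q⟩ := (isNormalizerSystem_mor_iff hZS hN).mp hm
      have h1 : Mor (innerFusionSystem S) (P ⊔ Cfsg.centerThompsonAOf D) f' := by
        obtain ⟨ψ, hψ, hψf⟩ := hf'
        exact ⟨ψ, by rw [← hin]; exact hψ, hψf⟩
      obtain ⟨-, a, ha, hfa⟩ := mor_inner_iff.mp h1
      have h2 : Mor (innerFusionSystem (normalizerIn S (Cfsg.centerThompsonAOf D))) P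
          (extFun P φ) :=
        mor_inner_iff.mpr ⟨hPle, a, hSN ha, fun x hx => by
          rw [← hf'P x hx, hfa x (Subgroup.mem_sup_left hx)]⟩
      exact h2.hom φ (fun x => (extFun_apply P φ x).symm)
    · intro hφ
      exact inner_le N le_rfl P hφ
  · -- conversely: a non-inner system contains a non-inner constrained one, which has a model
    intro hN
    by_contra hne
    push Not at hne
    obtain ⟨E, hEF, hEc, hEne⟩ := Cfsg.Agent.S5332.result p hS F hF hp hne
    obtain ⟨G, _, ι, hfin, hreal, ⟨T, hT⟩, -⟩ := Cfsg.Agent.S5090.result p hS E hEc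
    have hDE : E.StronglyClosed D := ⟨hD.1, fun R hR φ hφ x => hD.2 R hR φ (hEF R hφ) x⟩
    have hNo : NoPAut E p (Cfsg.centerThompsonAOf D) := by
      refine noPAut_of_conj hS (fun P f hZP hf hfP hfZ => ?_)
      have hfF : Mor F P f := by
        obtain ⟨φ, hφ, hφf⟩ := hf
        exact ⟨φ, hEF P hφ, hφf⟩
      have hnm : NMor F (Cfsg.centerThompsonAOf D) P f :=
        ⟨hfF, hfF.le.trans hSN, fun x hx => hSN (hfF.mem hx), extQ_of_le hZP hfF hfZ⟩
      have hm : Mor (normalizerSys F (Cfsg.centerThompsonAOf D) hZS) P f :=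
        (mor_normalizerSys_iff hZS).mpr hnm
      have hm2 : Mor (innerFusionSystem (normalizerIn S (Cfsg.centerThompsonAOf D))) P f := by
        obtain ⟨ψ, hψ, hψf⟩ := hm
        exact ⟨ψ, by rw [← hN _ (normalizerSys_isNormalizerSystem hZS)]; exact hψ, hψf⟩
      obtain ⟨-, a, ha, hfa⟩ := mor_inner_iff.mp hm2
      exact ⟨a, ha.1, hfa⟩
    have hinner := inner_of_realized_of_noPAut hp ι hreal T hT D hDE hNo
    obtain ⟨P, hP⟩ := hEne
    apply hP
    ext φ
    constructor
    · intro hφ
      obtain ⟨a, ha, hfa⟩ := hinner P _ (mor_of_hom hφ)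
      have h2 : Mor (innerFusionSystem S) P (extFun P φ) :=
        mor_inner_iff.mpr ⟨(mor_of_hom hφ).le, a, ha, hfa⟩
      exact h2.hom φ (fun x => (extFun_apply P φ x).symm)
    · intro hφ
      exact inner_le E le_rfl P hφ

end Cfsg.Agent.S5275
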