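import Cfsg.Statements.S5283
import Cfsg.Agent.Lib.Helper90.SupSolC
import Cfsg.Agent.Lib.Helper90.SupSolD

set_option autoImplicit false
open Cfsg

namespace Cfsg.Agent.S5283

open Cfsg.Agent.Lib.Helper90 in
/-- Call a saturated fusion system F over a finite p-group S supersoluble when S has a chain of subgroups 1 = S_0 ≤ S_1 ≤ … ≤ S_m = S, each strongly closed in F, with each S_{i+1} generated by S_i together with one further element (cyclic steps). Then every saturated fusion system over S is supersoluble if and only if S is normal in every saturated fusion system over S (S is resistant) and every subgroup of Aut(S) of order prime to p is abelian of exponent dividing p − 1. -/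
theorem result {Ω : Type*} [Group Ω] {S : Subgroup Ω} [Finite S] (p : ℕ) [Fact p.Prime] (hS : IsPGroup p ↥S) : (∀ F : Cfsg.FusionSystem S, F.IsSaturated p → (∃ (m : ℕ) (c : Fin (m + 1) → Subgroup Ω), c 0 = ⊥ ∧ c (Fin.last m) = S ∧ (∀ i : Fin (m + 1), F.StronglyClosed (c i)) ∧ ∀ i : Fin m, c i.castSucc ≤ c i.succ ∧ ∃ x ∈ S, c i.succ = c i.castSucc ⊔ Subgroup.zpowers x)) ↔ (∀ F : Cfsg.FusionSystem S, F.IsSaturated p → F.IsNormal S) ∧ ∀ H : Subgroup (MulAut ↥S), (Nat.card ↥H).Coprime p → IsMulCommutative ↥H ∧ ∀ h ∈ H, h ^ (p - 1) = 1 := by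
  constructor
  · intro hA
    have hA' : ∀ F : Cfsg.FusionSystem S, F.IsSaturated p → ∃ (c : ℕ → Subgroup Ω) (m : ℕ),
        c 0 = ⊥ ∧ c m = S ∧ (∀ i, F.StronglyClosed (c i)) ∧
        ∀ i, c i ≤ c (i + 1) ∧ ∃ x ∈ S, c (i + 1) = c i ⊔ Subgroup.zpowers x := by
      intro F hF
      obtain ⟨m, c, h0, hm, hsc, hstep⟩ := hA F hF
      obtain ⟨c', h1, h2, h3, h4⟩ := natChain_of_finChain F c h0 hm hsc hstep
      exact ⟨c', m, h1, h2, h3, h4⟩
    refine ⟨fun F hF => ?_, fun H hH => ?_⟩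
    · obtain ⟨c, m, h1, h2, h3, h4⟩ := hA' F hF
      exact isNormal_of_cyclic_chain p hS F hF c m h1 h2 h3 h4
    · obtain ⟨hcomm, hexp⟩ := abelian_of_chain p hS hA' H hH
      exact ⟨⟨⟨fun a b => Subtype.ext (hcomm a a.2 b b.2)⟩⟩, hexp⟩
  · rintro ⟨hB1, hB2⟩ F hF
    exact exists_chain_of_resistant p hS F hF (hB1 F hF) (fun H hH => by
      obtain ⟨hc, he⟩ := hB2 H hH
      refine ⟨fun h hh h' hh' => ?_, he⟩
      have h1 := hc.is_comm.comm (⟨h, hh⟩ : H) ⟨h', hh'⟩
      exact congrArg Subtype.val h1)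

end Cfsg.Agent.S5283
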