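import Cfsg.Statements.S5284
import Cfsg.Agent.S5283
import Cfsg.Agent.Lib.Helper90.SupSolF
import Cfsg.Agent.Lib.Helper90.SupSolG

set_option autoImplicit false
open Cfsg

namespace Cfsg.Agent.S5284

open Cfsg.Agent.Lib.Helper90 in
/-- Let S be a finite abelian p-group. Every saturated fusion system over S is supersoluble (S has a chain of F-strongly closed subgroups from 1 to S with cyclic steps) if and only if the invariants of S are pairwise distinct, that is, S is not isomorphic to a direct product (Z/p^n × Z/p^n) × H with n ≥ 1. -/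
theorem result {Ω : Type*} [Group Ω] {S : Subgroup Ω} [Finite S] (p : ℕ) [Fact p.Prime] (hS : IsPGroup p ↥S) (hab : IsMulCommutative ↥S) : (∀ F : Cfsg.FusionSystem S, F.IsSaturated p → (∃ (m : ℕ) (c : Fin (m + 1) → Subgroup Ω), c 0 = ⊥ ∧ c (Fin.last m) = S ∧ (∀ i : Fin (m + 1), F.StronglyClosed (c i)) ∧ ∀ i : Fin m, c i.castSucc ≤ c i.succ ∧ ∃ x ∈ S, c i.succ = c i.castSucc ⊔ Subgroup.zpowers x)) ↔ ¬ ∃ (n : ℕ) (H : Type) (_ : CommGroup H), 0 < n ∧ Nonempty (↥S ≃* (Multiplicative (ZMod (p ^ n)) × Multiplicative (ZMod (p ^ n))) × H) := by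
  have habc : ∀ a b : S, a * b = b * a := fun a b => hab.is_comm.comm a b
  have hB1 : ∀ F : Cfsg.FusionSystem S, F.IsSaturated p → F.IsNormal S := by
    intro F hF
    apply Cfsg.Agent.S5301.result p hS F hF
    intro P hfn hcen _
    have hPS : P = S := by
      apply le_antisymm hfn.1
      intro x hx
      apply hcen.2 P (isConj_refl F hfn.1)
      refine ⟨hx, Subgroup.mem_centralizer_iff.mpr (fun h hh => ?_)⟩
      exact congrArg Subtype.val (habc ⟨h, hfn.1 hh⟩ ⟨x, hx⟩)
    rw [hPS]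
    obtain ⟨-, R, hR⟩ := (top_fullyAutomized_receptive hF).1
    refine ⟨R, ?_⟩
    rw [hR]
    have hAS : autInducedBy S S = Inn S := by
      apply le_antisymm
      · intro α hα
        obtain ⟨a, ha, h⟩ := (mem_autInducedBy_iff S S α).mp hα
        exact (mem_Inn_iff α).mpr ⟨a, ha, h⟩
      · exact Inn_le_autInducedBy le_rfl
    rw [hAS]
    infer_instance
  rw [Cfsg.Agent.S5283.result p hS]
  constructor
  · rintro ⟨-, hB2⟩ ⟨n, H, _, hn, ⟨ε⟩⟩
    obtain ⟨K, hK, hbad⟩ := exists_bad_pprime_of_homocyclic p hn ε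
    obtain ⟨hc, he⟩ := hB2 K hK
    exact hbad ⟨fun h hh h' hh' => congrArg Subtype.val (hc.is_comm.comm ⟨h, hh⟩ ⟨h', hh'⟩), he⟩
  · intro hdist
    refine ⟨hB1, fun K hK => ?_⟩
    obtain ⟨hc, he⟩ := @pprime_abelian_of_distinct ↥S
      { (inferInstance : Group ↥S) with mul_comm := habc } inferInstance p inferInstance hS hdist
      K hK
    exact ⟨⟨⟨fun a b => Subtype.ext (hc a a.2 b b.2)⟩⟩, he⟩

end Cfsg.Agent.S5284
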