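import Cfsg.Statements.S5287
import Cfsg.Agent.S5234
import Cfsg.Agent.S5235
import Cfsg.Agent.S5283
import Cfsg.Agent.S5284
import Cfsg.Agent.Lib.Helper88.M2d
import Cfsg.Agent.Lib.Helper88.SSolGlue
import Cfsg.Agent.Lib.Helper58.SSolJ4
import Cfsg.Agent.Lib.Helper19.SSolJ5
import Cfsg.Agent.Lib.Helper18.SSolJ6
import Cfsg.Agent.Lib.Helper54.SSolJ7
import Cfsg.Agent.Lib.Helper19.SSolJ8
import Cfsg.Agent.Lib.Helper85.SSolJ9
import Cfsg.Agent.Lib.Helper42.SSolJ11
import Cfsg.Agent.Lib.Helper31.SSolJ12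

set_option autoImplicit false
open Cfsg

namespace Cfsg.Agent.S5287

open Cfsg.FusionSystem Cfsg.Agent.Lib.Helper88.SSol

/-- The number-theoretic and matrix data for every `n ≥ 3`. -/
theorem hdata_all : ∀ n : ℕ, 3 ≤ n → ∃ (q : ℕ) (t : ZMod q),
    PrimeT n q t ∧ SDData n q t ∧ C1Stmt q ∧ C2Stmt q := by
  intro n hn
  obtain ⟨q, t, h⟩ := Cfsg.Agent.Lib.Helper58.SSolJ4.exists_primeT n hn
  have hq : q.Prime := h.1
  have hmod : q % 2 ^ n = 2 ^ (n - 1) - 1 := h.2.1
  obtain ⟨k, rfl⟩ : ∃ k, n = k + 3 := ⟨n - 3, by omega⟩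
  have h8 : q % 4 = 3 := by
    have h1 : (4 : ℕ) ∣ 2 ^ (k + 3) := ⟨2 ^ (k + 1), by ring⟩
    have h2 : q % 2 ^ (k + 3) % 4 = q % 4 := Nat.mod_mod_of_dvd q h1
    rw [hmod] at h2
    rw [← h2]
    have h3 : 2 ^ (k + 3 - 1) = 4 * 2 ^ k := by
      rw [show k + 3 - 1 = k + 2 by omega]; ring
    rw [h3]
    have : 1 ≤ 2 ^ k := Nat.one_le_two_pow
    omega
  have hq2 : q ≠ 2 := by
    rintro rfl
    omega
  exact ⟨q, t, h, Cfsg.Agent.Lib.Helper19.SSolJ5.sdData_of_primeT hn h,
    Cfsg.Agent.Lib.Helper18.SSolJ6.c1Stmt_of_prime hq hq2,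
    Cfsg.Agent.Lib.Helper18.SSolJ6.c2Stmt_of_prime hq h8⟩

/-- The Klein four-group as a dihedral group. -/
def d2Fun : DihedralGroup 2 → Multiplicative (ZMod 2) × Multiplicative (ZMod 2)
  | DihedralGroup.r i => (Multiplicative.ofAdd i, 1)
  | DihedralGroup.sr i => (Multiplicative.ofAdd i, Multiplicative.ofAdd 1)

theorem d2Fun_mul : ∀ a b : DihedralGroup 2, d2Fun (a * b) = d2Fun a * d2Fun b := by decide

theorem d2Fun_bij : Function.Bijective d2Fun := by
  constructor
  · have : ∀ a b : DihedralGroup 2, d2Fun a = d2Fun b → a = b := by decide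
    exact fun a b h => this a b h
  · have : ∀ y : Multiplicative (ZMod 2) × Multiplicative (ZMod 2),
        ∃ a : DihedralGroup 2, d2Fun a = y := by decide
    exact this

noncomputable def d2Equiv :
    DihedralGroup 2 ≃* Multiplicative (ZMod (2 ^ 1)) × Multiplicative (ZMod (2 ^ 1)) :=
  MulEquiv.ofBijective (MonoidHom.mk' d2Fun d2Fun_mul) d2Fun_bij

variable {Ω : Type*} [Group Ω] {S : Subgroup Ω}

theorem ne_bot_of_equiv [Finite S] {T : Type*} [Group T] (e : ↥S ≃* T) (hT : Nontrivial T) :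
    S ≠ ⊥ := by
  intro hbot
  obtain ⟨a, b, hab⟩ := hT
  have h1 : Subsingleton ↥S := by
    rw [hbot]
    infer_instance
  exact hab (e.symm.injective (Subsingleton.elim _ _))

theorem main [Finite S] (p : ℕ) [Fact p.Prime] (hS : IsPGroup p ↥S)
    (hm : Cfsg.IsMetacyclic ↥S) :
    (∀ F : Cfsg.FusionSystem S, F.IsSaturated p → HasChain F) ↔
      ¬ ((∃ n : ℕ, 0 < n ∧ Nonempty (↥S ≃* Multiplicative (ZMod (p ^ n)) ×
          Multiplicative (ZMod (p ^ n)))) ∨
        (p = 2 ∧ ((∃ n : ℕ, 2 ≤ n ∧ Nonempty (↥S ≃* DihedralGroup n)) ∨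
          Cfsg.IsQuasiDihedral ↥S ∨ (∃ n : ℕ, 2 ≤ n ∧ Nonempty (↥S ≃* QuaternionGroup n))))) := by
  -- the homocyclic case, through S5284
  have hhom : ∀ (q : ℕ) [Fact q.Prime], IsPGroup q ↥S → ∀ n : ℕ, 0 < n →
      (↥S ≃* Multiplicative (ZMod (q ^ n)) × Multiplicative (ZMod (q ^ n))) →
      ¬ ∀ F : Cfsg.FusionSystem S, F.IsSaturated q → HasChain F := by
    intro q _ hSq n hn e h
    have hab : IsMulCommutative ↥S := by
      refine ⟨⟨fun a b => ?_⟩⟩
      apply e.injective
      rw [map_mul, map_mul, mul_comm]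
    exact (Cfsg.Agent.S5284.result q hSq hab).mp h
      ⟨n, PUnit, inferInstance, hn, ⟨e.trans MulEquiv.prodUnique.symm⟩⟩
  constructor
  · intro h
    rintro (⟨n, hn, ⟨e⟩⟩ | ⟨rfl, (⟨n, hn, ⟨e⟩⟩ | hqd | ⟨n, hn, ⟨e⟩⟩)⟩)
    · exact hhom p hS n hn e h
    · rcases Nat.lt_or_ge n 3 with h3 | h3
      · obtain rfl : n = 2 := by omega
        exact hhom 2 hS 1 one_pos (e.trans d2Equiv) h
      · have hne : S ≠ ⊥ := by
          have : NeZero n := ⟨by omega⟩
          exact ne_bot_of_equiv e ⟨DihedralGroup.r 0, DihedralGroup.sr 0, fun h => by cases h⟩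
        obtain ⟨F, hF, hno⟩ := exists_sat_noChain_of_cycModel 2 hS hne (Cfsg.Agent.Lib.Helper85.SSolJ9.d_model hS h3 e hdata_all)
        exact hno (h F hF)
    · obtain ⟨F, hF, hno⟩ := exists_sat_noChain_of_starModel (Cfsg.Agent.Lib.Helper54.SSolJ7.sd_model hqd hdata_all)
      exact hno (h F hF)
    · obtain ⟨F, hF, hno⟩ := exists_sat_noChain_of_starModel (Cfsg.Agent.Lib.Helper19.SSolJ8.q_model hS hn e hdata_all)
      exact hno (h F hF)
  · intro hne
    show ∀ F : Cfsg.FusionSystem S, F.IsSaturated p → (∃ (m : ℕ) (c : Fin (m + 1) → Subgroup Ω),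
      c 0 = ⊥ ∧ c (Fin.last m) = S ∧ (∀ i : Fin (m + 1), F.StronglyClosed (c i)) ∧
      ∀ i : Fin m, c i.castSucc ≤ c i.succ ∧ ∃ x ∈ S, c i.succ = c i.castSucc ⊔ Subgroup.zpowers x)
    rw [Cfsg.Agent.S5283.result p hS]
    by_cases hp2 : p = 2
    · subst hp2
      -- `Aut(S)` is a 2-group
      have hA : IsPGroup 2 (MulAut ↥S) := by
        by_contra hA
        rcases Cfsg.Agent.Lib.Helper88.M2.metacyclic_two_aut hS hm hA with ⟨⟨e⟩⟩ | ⟨n, ⟨e⟩⟩
        · exact hne (Or.inr ⟨rfl, Or.inr (Or.inr ⟨2, le_rfl, ⟨e⟩⟩)⟩)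
        · rcases Nat.eq_zero_or_pos n with rfl | hn0
          · apply hA
            have hsub : Subsingleton ↥S := by
              have : Subsingleton (Multiplicative (ZMod (2 ^ 0)) × Multiplicative (ZMod (2 ^ 0))) := by
                have h1 : Subsingleton (ZMod (2 ^ 0)) := by
                  rw [pow_zero]
                  infer_instance
                have h2 : Subsingleton (Multiplicative (ZMod (2 ^ 0))) := h1
                infer_instance
              exact e.injective.subsingleton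
            intro α
            refine ⟨0, ?_⟩
            rw [pow_zero, pow_one]
            ext x
            exact congrArg Subtype.val (Subsingleton.elim (α x) ((1 : MulAut ↥S) x))
          · exact hne (Or.inl ⟨n, hn0, ⟨e⟩⟩)
      refine ⟨fun F hF => ?_, fun H hH => pprime_two hA H hH⟩
      by_cases hab : ∀ a b : S, a * b = b * a
      · exact resistant_of_abelian 2 hS hab F hF
      · have hd : ¬ ∃ m : ℕ, Nonempty (↥S ≃* DihedralGroup m) := by
          rintro ⟨m, ⟨e⟩⟩
          rcases Nat.lt_or_ge m 2 with h2 | h2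
          · apply hab
            intro a b
            apply e.injective
            rw [map_mul, map_mul]
            interval_cases m
            · exfalso
              have h1 : Infinite (DihedralGroup 0) :=
                Infinite.of_injective (fun i : ℤ => (DihedralGroup.r i : DihedralGroup 0))
                  (fun a b h => by injection h)
              have h2 : Finite (DihedralGroup 0) := Finite.of_equiv _ e.toEquiv
              exact not_finite (DihedralGroup 0)
            · have : ∀ x y : DihedralGroup 1, x * y = y * x := by decide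
              exact this _ _
          · exact hne (Or.inr ⟨rfl, Or.inl ⟨m, h2, ⟨e⟩⟩⟩)
        have hq : ¬ ∃ m : ℕ, Nonempty (↥S ≃* QuaternionGroup m) := by
          rintro ⟨m, ⟨e⟩⟩
          rcases Nat.lt_or_ge m 2 with h2 | h2
          · apply hab
            intro a b
            apply e.injective
            rw [map_mul, map_mul]
            interval_cases m
            · exfalso
              have h1 : Infinite (QuaternionGroup 0) :=
                Infinite.of_injective (fun i : ℤ => (QuaternionGroup.a i : QuaternionGroup 0))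
                  (fun a b h => by injection h)
              have h2 : Finite (QuaternionGroup 0) := Finite.of_equiv _ e.toEquiv
              exact not_finite (QuaternionGroup 0)
            · have : ∀ x y : QuaternionGroup 1, x * y = y * x := by decide
              exact this _ _
          · exact hne (Or.inr ⟨rfl, Or.inr (Or.inr ⟨m, h2, ⟨e⟩⟩)⟩)
        have hsd : ¬ Cfsg.IsQuasiDihedral ↥S := fun h => hne (Or.inr ⟨rfl, Or.inr (Or.inl h)⟩)
        exact Cfsg.Agent.S5235.result 2 hS F hF S (stronglyClosed_self F) rfl hm hd hq hsd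
    · refine ⟨fun F hF => Cfsg.Agent.S5234.result p hS F hF S (stronglyClosed_self F) hp2 hm,
        fun H hH => ?_⟩
      by_cases hc : IsCyclic ↥S
      · exact pprime_of_cyclic hS hc H hH
      · obtain ⟨L, hL, hLchar⟩ := Cfsg.Agent.Lib.Helper31.SSol.exists_char_max_of_metacyclic hp2 hS hm hc
          (fun h => hne (Or.inl h))
        obtain ⟨K, hKA, -, hKp, hcomm, hpow⟩ := Cfsg.Agent.Lib.Helper42.exists_K_of_invariant_max hS
          (two_gen_of_metacyclic hm) H L hL (fun α _ x hx => hLchar α x hx)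
        exact pprime_of_K H hH K hKA hKp hcomm hpow

theorem result {Ω : Type*} [Group Ω] {S : Subgroup Ω} [Finite S] (p : ℕ) [Fact p.Prime] (hS : IsPGroup p ↥S) (hm : Cfsg.IsMetacyclic ↥S) : (∀ F : Cfsg.FusionSystem S, F.IsSaturated p → (∃ (m : ℕ) (c : Fin (m + 1) → Subgroup Ω), c 0 = ⊥ ∧ c (Fin.last m) = S ∧ (∀ i : Fin (m + 1), F.StronglyClosed (c i)) ∧ ∀ i : Fin m, c i.castSucc ≤ c i.succ ∧ ∃ x ∈ S, c i.succ = c i.castSucc ⊔ Subgroup.zpowers x)) ↔ ¬ ((∃ n : ℕ, 0 < n ∧ Nonempty (↥S ≃* Multiplicative (ZMod (p ^ n)) × Multiplicative (ZMod (p ^ n)))) ∨ (p = 2 ∧ ((∃ n : ℕ, 2 ≤ n ∧ Nonempty (↥S ≃* DihedralGroup n)) ∨ Cfsg.IsQuasiDihedral ↥S ∨ (∃ n : ℕ, 2 ≤ n ∧ Nonempty (↥S ≃* QuaternionGroup n))))) :=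
  main p hS hm

end Cfsg.Agent.S5287
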