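import Cfsg.Statements.S5289
import Mathlib
import Cfsg.Agent.S5301
import Cfsg.Agent.Lib.Helper59.RkFG
import Cfsg.Agent.Lib.Helper90.MetaNormal

set_option autoImplicit false
open Cfsg

namespace Cfsg.Agent.S5289

open Cfsg.FusionSystem Cfsg.Agent.Lib.Helper90 Cfsg.Agent.Lib.Helper59.RkF in
/-- Let p ≥ 5 be a prime and S a finite p-group of p-rank two (it has an elementary abelian subgroup of order p² and none of order p³) which is not the extraspecial group of order p³ and exponent p. Then S is resistant: for every saturated fusion system F over S, S is normal in F, that is, every map of F extends to an F-automorphism of S. -/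
theorem result {Ω : Type*} [Group Ω] {S : Subgroup Ω} [Finite S] (p : ℕ) [Fact p.Prime] (hS : IsPGroup p S)
    (F : Cfsg.FusionSystem S) (hF : F.IsSaturated p)
    (hp : 5 ≤ p)
    (hrank2 : ∃ E : Subgroup Ω, E ≤ S ∧ Cfsg.IsElementaryAbelian p E ∧ Nat.card E = p ^ 2)
    (hrank3 : ∀ E : Subgroup Ω, E ≤ S → Cfsg.IsElementaryAbelian p E → Nat.card E ≤ p ^ 2)
    (hnotE : ¬ (Nat.card S = p ^ 3 ∧ Monoid.exponent ↥S = p)) : F.IsNormal S := by
  have hpp := (Fact.out : p.Prime)
  have hp2 : p ≠ 2 := by omega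
  have hp3 : 3 < p := by omega
  have hrk : ∀ A : Subgroup ↥S, Cfsg.IsElementaryAbelian p A → Nat.card A ≤ p ^ 2 := by
    intro A hA
    have h1 : Nat.card (A.map S.subtype) = Nat.card A :=
      Subgroup.card_map_of_injective (Subgroup.subtype_injective S)
    rw [← h1]
    apply hrank3 _ (Subgroup.map_subtype_le A)
    refine ⟨⟨⟨?_⟩⟩, ?_⟩
    · rintro ⟨_, a, ha, rfl⟩ ⟨_, b, hb, rfl⟩
      apply Subtype.ext
      show S.subtype a * S.subtype b = S.subtype b * S.subtype a
      have h2 := hA.1.1.1 (⟨a, ha⟩ : A) ⟨b, hb⟩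
      have h3 : a * b = b * a := congrArg Subtype.val h2
      rw [← map_mul, ← map_mul, h3]
    · rintro _ ⟨a, ha, rfl⟩
      rw [← map_pow, hA.2 a ha, map_one]
  obtain ⟨ES, hES1, hEScard⟩ := exists_omega hp3 (show IsPGroup p ↥S from hS) hrk
  obtain ⟨E, hEdef⟩ : ∃ E : Subgroup Ω, E = ES.map S.subtype := ⟨_, rfl⟩
  have hE : ∀ x, x ∈ E ↔ x ∈ S ∧ x ^ p = 1 := by
    intro x
    rw [hEdef, Subgroup.mem_map]
    constructor
    · rintro ⟨y, hy, rfl⟩
      refine ⟨y.2, ?_⟩
      have h1 := (hES1 y).mp hy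
      show S.subtype y ^ p = 1
      rw [← map_pow, h1, map_one]
    · rintro ⟨hx, hxp⟩
      exact ⟨⟨x, hx⟩, (hES1 _).mpr (Subtype.ext hxp), rfl⟩
  have hEcard3 : Nat.card E ≤ p ^ 3 := by
    rw [hEdef, Subgroup.card_map_of_injective (Subgroup.subtype_injective S)]
    exact hEScard
  have hES : E ≤ S := fun x hx => ((hE x).mp hx).1
  haveI : Finite E := finite_of_le hES
  by_cases hsmall : Nat.card E ≤ p ^ 2
  · exact isNormal_of_small_omega hS hF hp2 (stronglyClosed_top F) hE hsmall
  have hEp : IsPGroup p E := hS.to_le hES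
  obtain ⟨n, hn⟩ := IsPGroup.iff_card.mp hEp
  have hEcard : Nat.card E = p ^ 3 := by
    have hn3 : n ≤ 3 := by
      by_contra hcon
      have h1 : p ^ 4 ≤ p ^ n := Nat.pow_le_pow_right hpp.pos (by omega)
      have h2 : p ^ 3 < p ^ 4 := Nat.pow_lt_pow_right hpp.one_lt (by norm_num)
      omega
    have hn2 : ¬ n ≤ 2 := by
      intro hcon
      apply hsmall
      rw [hn]
      exact Nat.pow_le_pow_right hpp.pos hcon
    have h3 : n = 3 := by omega
    rw [hn, h3]
  have hES' : E ≠ S := by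
    intro heq
    have hScard : Nat.card ↥S = p ^ 3 := by rw [← heq]; exact hEcard
    apply hnotE
    refine ⟨hScard, ?_⟩
    have h1 : ∀ x : ↥S, x ^ p = 1 := by
      intro x
      have h0 : (x : Ω) ∈ E := by rw [heq]; exact x.2
      exact Subtype.ext ((hE _).mp h0).2
    have h2 : Monoid.exponent ↥S ∣ p := Monoid.exponent_dvd_of_forall_pow_eq_one h1
    rcases (Nat.dvd_prime hpp).mp h2 with h3 | h3
    · exfalso
      have h4 : ∀ x : ↥S, x = 1 := by
        intro x
        have h5 := Monoid.pow_exponent_eq_one x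
        rw [h3, pow_one] at h5
        exact h5
      have h5 : Nat.card ↥S = 1 := by
        haveI : Subsingleton ↥S := ⟨fun a b => by rw [h4 a, h4 b]⟩
        exact Nat.card_of_subsingleton 1
      have h6 : 1 < p ^ 3 := Nat.one_lt_pow (by norm_num) hpp.one_lt
      omega
    · exact h3
  apply Cfsg.Agent.S5301.result p hS F hF
  intro P hfn hcen hrad
  obtain ⟨-, hfa, hrec⟩ := Cfsg.Agent.Lib.Helper87.saturated_fullyNormalized p hS F hF hfn
  obtain ⟨hP, T, hT⟩ := hfa
  refine ⟨T, ?_⟩
  by_contra hTn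
  have hcenP : centralizerIn S P ≤ P := hcen.2 P (isConj_refl F hP)
  haveI : Finite P := finite_of_le hP
  have hVp : IsPGroup p (E.subgroupOf P) := (hS.to_le hP).to_subgroup _
  obtain ⟨m, hm⟩ := IsPGroup.iff_card.mp hVp
  have hinfc : Nat.card (E.subgroupOf P) = Nat.card (E ⊓ P : Subgroup Ω) := by
    rw [← Subgroup.inf_subgroupOf_right]
    exact Nat.card_congr (Subgroup.subgroupOfEquivOfLe inf_le_right).toEquiv
  have hle : Nat.card (E.subgroupOf P) ≤ Nat.card E := by
    rw [hinfc]
    exact Subgroup.card_le_of_le inf_le_left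
  have hm3 : m ≤ 3 := by
    by_contra hcon
    have h1 : p ^ 4 ≤ p ^ m := Nat.pow_le_pow_right hpp.pos (by omega)
    have h2 : p ^ 3 < p ^ 4 := Nat.pow_lt_pow_right hpp.one_lt (by norm_num)
    rw [hm, hEcard] at hle
    omega
  interval_cases m
  · exact case_small hp2 hS hE hP T hTn (Or.inl (by rw [hm, pow_zero]))
  · exact case_small hp2 hS hE hP T hTn (Or.inr (by rw [hm, pow_one]))
  · exact case_two hp hS hF hrank3 hE hEcard hES' hP hrec hcenP hrad T hT hTn hm
  · have hEP : E ≤ P := by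
      have h1 : (E ⊓ P : Subgroup Ω) = E := by
        apply Subgroup.eq_of_le_of_card_ge inf_le_left
        rw [← hinfc, hm, hEcard]
      rw [← h1]
      exact inf_le_right
    exact prop_E hp hS hF hrank3 hE hEcard (case_three hp2 hS hE hP T hT hTn hEP)

end Cfsg.Agent.S5289
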