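import Cfsg.Statements.S5292
import Cfsg.Agent.Lib.Helper90.PSolvModel
import Cfsg.Agent.S5090

set_option autoImplicit false
universe u
open Cfsg

namespace Cfsg.Agent.S5292

/-- Let F be a saturated fusion system over a finite p-group S. Then F is the fusion system of some finite p-solvable group on a Sylow p-subgroup if and only if F is constrained (some subgroup normal in F is centric in F) and the group of automorphisms that F induces on its largest normal subgroup O_p(F) is p-solvable. -/
theorem result {Ω : Type u} [Group Ω] {S : Subgroup Ω} [Finite S] (p : ℕ) [Fact p.Prime] (hS : IsPGroup p S)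
    (F : Cfsg.FusionSystem S) (hF : F.IsSaturated p) :
    (∃ (G : Type u) (_ : Group G) (_ : Finite G) (ι : S →* G), Cfsg.IsPSolvable p G ∧ F.IsRealizedBy ι ∧
        ∃ T : Sylow p G, (T : Subgroup G) = ι.range) ↔
      (F.IsConstrained p ∧ Cfsg.IsPSolvable p ↥(F.autGroup F.core)) := by
  constructor
  · rintro ⟨G, _, _, ι, hps, hR, T, hT⟩
    have hO : (Nat.card (pPrimeCore p G)).Coprime p := Cfsg.Agent.Lib.Helper81.pPrimeCore_coprime p
    obtain ⟨hR', T', hT'⟩ := Cfsg.Agent.Lib.Helper88.realized_quotient hR T hT (pPrimeCore p G) hO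
    have hps' : IsPSolvable p (G ⧸ pPrimeCore p G) :=
      Cfsg.Agent.Lib.Helper75.Fratt.isPSolvable_quotient (pPrimeCore p G) hps
    have hmodel : F.IsModel p (G ⧸ pPrimeCore p G) ((QuotientGroup.mk' (pPrimeCore p G)).comp ι) :=
      ⟨inferInstance, hR', ⟨T', hT'⟩,
        Cfsg.Agent.Lib.Helper40.centralizer_pCore_le hps'
          (Cfsg.Agent.Lib.Helper75.Fratt.pPrimeCore_quotient_eq_bot' p)⟩
    refine ⟨Cfsg.Agent.Lib.Helper90.model_isConstrained p F hF _ hmodel, ?_⟩
    have key : ∀ Q : Subgroup Ω, Q = F.core → IsPSolvable p (F.autGroup Q) → IsPSolvable p (F.autGroup F.core) := by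
      rintro _ rfl h
      exact h
    exact key _ (Cfsg.Agent.Lib.Helper90.model_core_eq p F _ hmodel).symm
      ((Cfsg.Agent.Lib.Helper90.model_isPSolvable_iff p F _ hmodel).mp hps')
  · rintro ⟨hcon, hps⟩
    obtain ⟨G, _, ι, hmodel⟩ := Cfsg.Agent.S5090.result p hS F hcon
    have key : ∀ Q : Subgroup Ω, F.core = Q → IsPSolvable p (F.autGroup Q) := by
      rintro _ rfl
      exact hps
    refine ⟨G, inferInstance, hmodel.1, ι, ?_, hmodel.2.1, hmodel.2.2.1⟩
    exact (Cfsg.Agent.Lib.Helper90.model_isPSolvable_iff p F ι hmodel).mpr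
      (key _ (Cfsg.Agent.Lib.Helper90.model_core_eq p F ι hmodel))

end Cfsg.Agent.S5292
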