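import Cfsg.Statements.S5298
import Cfsg.Agent.S5245
import Cfsg.Agent.Lib.Helper41.Crit

set_option autoImplicit false
universe u
open Cfsg

namespace Cfsg.Agent.S5298

open Cfsg.Agent.Lib.Helper90 Cfsg.FusionSystem

open scoped commutatorElement

section aux

/-- A subgroup of a finite `p`-subgroup `P` which is contained in `⁅K, P⁆` whenever it is
contained in `K` is trivial. -/
theorem eq_bot_of_le_comm {G : Type*} [Group G] {p : ℕ} [Fact p.Prime]
    (P : Subgroup G) [Finite P] (hP : IsPGroup p P) (D : Subgroup G) (hDP : D ≤ P)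
    (h : ∀ K : Subgroup G, D ≤ K → D ≤ ⁅K, P⁆) : D = ⊥ := by
  have hL : ∀ n : ℕ, D ≤ P.lowerCentralSeries n := by
    intro n
    induction n with
    | zero => exact hDP
    | succ n ih => exact h _ ih
  have hnil : Group.IsNilpotent ↥P := hP.isNilpotent
  obtain ⟨n, hn⟩ := (Subgroup.isNilpotent_iff_lowerCentralSeries P).mp hnil
  have := hL n
  rw [hn] at this
  exact le_bot_iff.mp this

theorem iterate_eq_pow {Q : Type*} [Group Q] (k : MulAut Q) (n : ℕ) (x : Q) :
    (⇑k.toMonoidHom)^[n] x = (k ^ n) x := by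
  induction n with
  | zero => rfl
  | succ n ih =>
    rw [Function.iterate_succ_apply', ih, pow_succ']
    rfl

/-- A critical subgroup for a nontrivial automorphism of order prime to `p` of a finite
`p`-group. -/
theorem exists_crit {Q : Type*} [Group Q] [Finite Q] {p : ℕ} [Fact p.Prime] (hQ : IsPGroup p Q)
    (k : MulAut Q) (hcop : Nat.Coprime (orderOf k) p) (hk : k ≠ 1) :
    ∃ D : Subgroup Q, (∀ d ∈ D, k d ∈ D) ∧
      D ≤ Subgroup.closure {y : Q | ∃ d ∈ D, y = d⁻¹ * k d} ∧
      (∀ d ∈ D, d ^ p = 1 ∨ (p = 2 ∧ d ^ 4 = 1)) ∧ D ≠ ⊥ := by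
  apply Cfsg.Agent.Lib.Helper41.exists_minimal_invariant hQ k.toMonoidHom (orderOf k) hcop
  · intro x
    rw [iterate_eq_pow, pow_orderOf_eq_one]
    rfl
  · by_contra hne
    push Not at hne
    apply hk
    ext x
    exact hne x

theorem card_zpowers_small {G : Type*} [Group G] {p : ℕ} [hp : Fact p.Prime] {d : G} (hd1 : d ≠ 1)
    (hd : d ^ p = 1 ∨ (p = 2 ∧ d ^ 4 = 1)) :
    Nat.card (Subgroup.zpowers d) = p ∨ Nat.card (Subgroup.zpowers d) = 4 := by
  rw [Nat.card_zpowers]
  rcases hd with hd | ⟨h2, hd⟩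
  · left
    exact orderOf_eq_prime hd hd1
  · have h4 : orderOf d ∣ 2 ^ 2 := orderOf_dvd_of_pow_eq_one hd
    obtain ⟨j, hj, hj'⟩ := (Nat.dvd_prime_pow Nat.prime_two).mp h4
    interval_cases j
    · exfalso
      exact hd1 (orderOf_eq_one_iff.mp hj')
    · left
      rw [hj', h2]
      rfl
    · right
      rw [hj']
      rfl

end aux

/-- Let F be a saturated fusion system over a finite p-group S. If every map of F between cyclic subgroups of the hyperfocal subgroup of F of order p or 4 is conjugation by an element of S, then F is the inner fusion system of S. -/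
theorem result {Ω : Type u} [Group Ω] {S : Subgroup Ω} [Finite S] (p : ℕ) [Fact p.Prime] (hS : IsPGroup p S)
    (F : Cfsg.FusionSystem S) (hF : F.IsSaturated p)
    (h : ∀ A B : Subgroup Ω, A ≤ (F.hyperfocalSubgroup p) → B ≤ (F.hyperfocalSubgroup p) → IsCyclic ↥A → (Nat.card ↥A = p ∨ Nat.card ↥A = 4) → IsCyclic ↥B → (Nat.card ↥B = p ∨ Nat.card ↥B = 4) →
      F.homSet A B ⊆ (Cfsg.innerFusionSystem S).Hom A) :
    ∀ P : Subgroup Ω, F.Hom P = (Cfsg.innerFusionSystem S).Hom P := by
  apply Cfsg.Agent.S5245.inner_of_pgroups p hS F hF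
  intro R hR β hβ hc
  by_contra hβ1
  have : Finite R := finite_of_le hR
  obtain ⟨D, hDinv, hDgen, hDexp, hDne⟩ := exists_crit (hS.to_le hR) β hc hβ1
  apply hDne
  have hm : Mor F R (autFun R β) := (mem_autGroup_iff F hR β).mp hβ
  -- `D` lies in the hyperfocal subgroup
  have hhyp : ∀ d ∈ D, ((d : R) : Ω) ∈ F.hyperfocalSubgroup p := by
    intro d hd
    have hle : Subgroup.closure {y : R | ∃ d ∈ D, y = d⁻¹ * β d} ≤
        (F.hyperfocalSubgroup p).comap R.subtype := by
      rw [Subgroup.closure_le]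
      rintro y ⟨d', hd', rfl⟩
      show ((d'⁻¹ * β d' : R) : Ω) ∈ F.hyperfocalSubgroup p
      refine Subgroup.subset_closure ⟨R, ⟨β, hβ⟩, d', hR, Subgroup.subset_closure ?_, rfl⟩
      show Nat.Coprime (orderOf (⟨β, hβ⟩ : F.autGroup R)) p
      rw [← Subgroup.orderOf_coe]
      exact hc
    exact hle (hDgen hd)
  -- the automorphism acts on each element of `D` as an element of `S`
  have hconj : ∀ d ∈ D, ∃ s ∈ S, ((β d : R) : Ω) = s * d * s⁻¹ := by
    intro d hd
    by_cases hd1 : d = 1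
    · exact ⟨1, S.one_mem, by rw [hd1, map_one]; simp⟩
    have hd1' : ((d : R) : Ω) ≠ 1 := fun h0 => hd1 (Subtype.ext h0)
    have hβd1 : ((β d : R) : Ω) ≠ 1 := by
      intro h0
      apply hd1
      have : β d = 1 := Subtype.ext h0
      exact (map_eq_one_iff β β.injective).mp this
    have hsmall : ((d : R) : Ω) ^ p = 1 ∨ (p = 2 ∧ ((d : R) : Ω) ^ 4 = 1) := by
      rcases hDexp d hd with h1 | ⟨h2, h1⟩
      · left
        rw [← Subgroup.coe_pow, h1]
        rfl
      · right
        refine ⟨h2, ?_⟩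
        rw [← Subgroup.coe_pow, h1]
        rfl
    have hsmall' : ((β d : R) : Ω) ^ p = 1 ∨ (p = 2 ∧ ((β d : R) : Ω) ^ 4 = 1) := by
      rcases hDexp (β d) (hDinv d hd) with h1 | ⟨h2, h1⟩
      · left
        rw [← Subgroup.coe_pow, h1]
        rfl
      · right
        refine ⟨h2, ?_⟩
        rw [← Subgroup.coe_pow, h1]
        rfl
    have hA : Subgroup.zpowers ((d : R) : Ω) ≤ F.hyperfocalSubgroup p :=
      Subgroup.zpowers_le.mpr (hhyp d hd)
    have hB : Subgroup.zpowers ((β d : R) : Ω) ≤ F.hyperfocalSubgroup p :=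
      Subgroup.zpowers_le.mpr (hhyp (β d) (hDinv d hd))
    have hAR : Subgroup.zpowers ((d : R) : Ω) ≤ R := Subgroup.zpowers_le.mpr d.2
    obtain ⟨φ, hφ, hφf⟩ := hm.restrict hAR
    have hφB : ∀ x : Subgroup.zpowers ((d : R) : Ω), φ x ∈ Subgroup.zpowers ((β d : R) : Ω) := by
      intro x
      rw [hφf]
      obtain ⟨j, hj⟩ := Subgroup.mem_zpowers_iff.mp x.2
      have h1 : ((d : R) : Ω) ^ j = ((d ^ j : R) : Ω) := by simp
      rw [← hj, h1, autFun_apply, map_zpow, Subgroup.coe_zpow]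
      exact Subgroup.zpow_mem _ (Subgroup.mem_zpowers _) j
    have hin := h _ _ hA hB inferInstance (card_zpowers_small hd1' hsmall) inferInstance
      (card_zpowers_small hβd1 hsmall') ⟨hφ, hφB⟩
    have hmi : Mor (innerFusionSystem S) (Subgroup.zpowers ((d : R) : Ω)) (autFun R β) :=
      ⟨φ, hin, hφf⟩
    obtain ⟨-, s, hs, hs'⟩ := mor_inner_iff.mp hmi
    exact ⟨s, hs, by rw [← hs' _ (Subgroup.mem_zpowers _), autFun_apply]⟩
  -- hence `D` lies in every term of the lower central series of `S`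
  have hbot : D.map R.subtype = ⊥ := by
    apply eq_bot_of_le_comm S hS (D.map R.subtype)
    · rintro _ ⟨d, -, rfl⟩
      exact hR d.2
    · intro K hK
      refine (Subgroup.map_mono hDgen).trans ?_
      rw [MonoidHom.map_closure, Subgroup.closure_le]
      rintro _ ⟨_, ⟨d, hd, rfl⟩, rfl⟩
      obtain ⟨s, hs, hsd⟩ := hconj d hd
      have e : R.subtype (d⁻¹ * β d) = ⁅((d : R) : Ω)⁻¹, s⁆ := by
        rw [commutatorElement_def]
        show ((d : R) : Ω)⁻¹ * ((β d : R) : Ω) = _
        rw [hsd]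
        group
      rw [e]
      exact Subgroup.commutator_mem_commutator
        (hK (Subgroup.inv_mem _ ⟨d, hd, rfl⟩)) hs
  exact (Subgroup.map_eq_bot_iff_of_injective D (Subgroup.subtype_injective R)).mp hbot

end Cfsg.Agent.S5298
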