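import Cfsg.Statements.S5299
import Mathlib
-- import your own Cfsg.Agent.* helpers here

set_option autoImplicit false
universe u
open Cfsg

namespace Cfsg.Agent.S5299

open scoped Pointwise

theorem involves_of_surj {A : Type*} [Group A] {G : Type*} [Group G] (K : Subgroup G) (f : K →* A)
    (hf : Function.Surjective f) : Cfsg.Involves A G := by
  have hK : (f.ker.map K.subtype).subgroupOf K = f.ker := by
    ext x
    rw [Subgroup.mem_subgroupOf, Subgroup.mem_map]
    constructor
    · rintro ⟨y, hy, hxy⟩
      have : y = x := Subtype.ext hxy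
      rwa [← this]
    · intro hx
      exact ⟨x, hx, rfl⟩
  have hn : ((f.ker.map K.subtype).subgroupOf K).Normal := by
    rw [hK]; infer_instance
  refine ⟨K, f.ker.map K.subtype, hn, ⟨?_⟩⟩
  exact (QuotientGroup.quotientMulEquivOfEq hK).trans (QuotientGroup.quotientKerEquivOfSurjective f hf)

theorem surj_of_involves {A : Type*} [Group A] {G : Type*} [Group G] (h : Cfsg.Involves A G) :
    ∃ (K : Subgroup G) (f : K →* A), Function.Surjective f := by
  obtain ⟨K, R, hn, ⟨e⟩⟩ := h
  refine ⟨K, e.toMonoidHom.comp (QuotientGroup.mk' (R.subgroupOf K)), ?_⟩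
  exact e.surjective.comp (QuotientGroup.mk'_surjective _)

/-- A Sylow `p`-subgroup of a finite group maps onto any `p`-group quotient. -/
theorem sylow_surj {p : ℕ} [Fact p.Prime] {K : Type*} [Group K] [Finite K] {Q : Type*} [Group Q]
    (hQ : IsPGroup p Q) (f : K →* Q) (hf : Function.Surjective f) (P : Sylow p K) :
    Function.Surjective (f.comp (P : Subgroup K).subtype) := by
  have hQfin : Finite Q := Finite.of_surjective f hf
  have h1 : ((P : Subgroup K).map f).index ∣ (P : Subgroup K).index := Subgroup.index_map_dvd _ hf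
  obtain ⟨n, hn⟩ := hQ.index ((P : Subgroup K).map f)
  have h2 : ¬ p ∣ (P : Subgroup K).index := P.not_dvd_index
  have h3 : ((P : Subgroup K).map f).index = 1 := by
    rcases Nat.eq_zero_or_pos n with h0 | hpos
    · rw [hn, h0, pow_zero]
    · exfalso
      apply h2
      refine dvd_trans ?_ h1
      rw [hn]
      exact dvd_pow_self p (Nat.pos_iff_ne_zero.mp hpos)
  have h4 : (P : Subgroup K).map f = ⊤ := Subgroup.index_eq_one.mp h3
  intro q
  have : q ∈ (P : Subgroup K).map f := by rw [h4]; trivial
  obtain ⟨x, hx, rfl⟩ := this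
  exact ⟨⟨x, hx⟩, rfl⟩

/-- A `p`-group involved in a finite group `L` is involved in any group `N` admitting an injective
homomorphism onto a Sylow `p`-subgroup of `L`. -/
theorem involves_sylow {p : ℕ} [Fact p.Prime] {L : Type*} [Group L] [Finite L] {Q : Type*} [Group Q]
    (hQ : IsPGroup p Q) (h : Cfsg.Involves Q L) {N : Type*} [Group N] (ι : N →* L)
    (hι : Function.Injective ι) (T : Sylow p L) (hT : (T : Subgroup L) = ι.range) :
    Cfsg.Involves Q N := by
  obtain ⟨K, f, hf⟩ := surj_of_involves h
  obtain P : Sylow p K := default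
  have hsurj := sylow_surj hQ f hf P
  -- the image of `P` in `L` is a `p`-subgroup
  set P₂ : Subgroup L := ((P : Subgroup K).map K.subtype) with hP₂
  have hP₂p : IsPGroup p P₂ := by
    have := P.isPGroup'.map K.subtype
    exact this
  obtain ⟨P', hP'⟩ := hP₂p.exists_le_sylow
  obtain ⟨g, hg⟩ := MulAction.exists_smul_eq L P' T
  -- conjugation by `g` maps `P₂` into `T = ι.range`
  have hconj : ∀ x : (P : Subgroup K), g * ((x : K) : L) * g⁻¹ ∈ ι.range := by
    intro x
    rw [← hT, ← hg]
    have hx : ((x : K) : L) ∈ (P' : Subgroup L) := hP' ⟨x, x.2, rfl⟩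
    have hcoe : ((g • P' : Sylow p L) : Subgroup L) = MulAut.conj g • (P' : Subgroup L) := rfl
    rw [hcoe, Subgroup.mem_pointwise_smul_iff_inv_smul_mem]
    simpa [MulAut.smul_def, mul_assoc] using hx
  let e := MonoidHom.ofInjective hι
  let c : (P : Subgroup K) →* ι.range :=
    ((MulAut.conj g).toMonoidHom.comp (K.subtype.comp (P : Subgroup K).subtype)).codRestrict ι.range
      (fun x => by simpa using hconj x)
  let j : (P : Subgroup K) →* N := e.symm.toMonoidHom.comp c
  have hj : Function.Injective j := by
    intro a b hab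
    have h1 : c a = c b := e.symm.injective hab
    have h2 : g * ((a : K) : L) * g⁻¹ = g * ((b : K) : L) * g⁻¹ := congrArg Subtype.val h1
    have h3 : ((a : K) : L) = ((b : K) : L) := mul_left_cancel (mul_right_cancel h2)
    exact Subtype.ext (Subtype.ext h3)
  let e₂ := MonoidHom.ofInjective hj
  refine involves_of_surj j.range ((f.comp (P : Subgroup K).subtype).comp e₂.symm.toMonoidHom) ?_
  exact hsurj.comp e₂.symm.surjective

/-- A subgroup of a group involved in `L` is involved in `L`. -/
theorem involves_subgroup {H : Type*} [Group H] {L : Type*} [Group L] (h : Cfsg.Involves H L)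
    (Q : Subgroup H) : Cfsg.Involves Q L := by
  obtain ⟨K, f, hf⟩ := surj_of_involves h
  let K₁ : Subgroup L := (Q.comap f).map K.subtype
  have hK₁ : ∀ x : K₁, ∃ y : K, (y : L) = x ∧ f y ∈ Q := by
    rintro ⟨x, y, hy, rfl⟩
    exact ⟨y, rfl, hy⟩
  have hinj : Function.Injective ((Q.comap f).subtype) := Subtype.val_injective
  let e : (Q.comap f) ≃* K₁ := (Q.comap f).equivMapOfInjective K.subtype K.subtype_injective
  refine involves_of_surj K₁ ((f.subgroupComap Q).comp e.symm.toMonoidHom) ?_
  exact (f.subgroupComap_surjective_of_surjective Q hf).comp e.symm.surjective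

/-- If `Q` is involved in a subgroup `N` of `S`, it is involved in `S`. -/
theorem involves_of_subgroup {Q : Type*} [Group Q] {S : Type*} [Group S] (N : Subgroup S)
    (h : Cfsg.Involves Q N) : Cfsg.Involves Q S := by
  obtain ⟨K, f, hf⟩ := surj_of_involves h
  let e : K ≃* K.map N.subtype := K.equivMapOfInjective N.subtype N.subtype_injective
  refine involves_of_surj (K.map N.subtype) (f.comp e.symm.toMonoidHom) ?_
  exact hf.comp e.symm.surjective

/-- Let F be a saturated fusion system over a finite p-group S, H a finite group and Q a p-subgroup of H. If Q is not involved in S (no section of S is isomorphic to Q), then F is H-free: H is involved in no model of the normalizer system of a fully normalized centric subgroup. -/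
theorem result {Ω : Type u} [Group Ω] {S : Subgroup Ω} [Finite S] (p : ℕ) [Fact p.Prime] (hS : IsPGroup p S)
    (F : Cfsg.FusionSystem S) (hF : F.IsSaturated p) (H : Type*) [Group H] [Finite H] (Q : Subgroup H) (hQ : IsPGroup p Q)
    (hfree : ¬ Cfsg.Involves (↥Q) (↥S)) : F.IsSectionFree p H := by
  intro Q' _ _ N _ L _ ι hmodel hinv
  obtain ⟨hfin, ⟨hιinj, _⟩, ⟨T, hT⟩, _⟩ := hmodel
  apply hfree
  have h1 : Cfsg.Involves Q L := involves_subgroup hinv Q
  have h2 : Cfsg.Involves Q (Cfsg.FusionSystem.normalizerIn S Q') := involves_sylow hQ h1 ι hιinj T hT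
  -- transfer along the inclusion of `N_S(Q')` into `S`
  obtain ⟨K, f, hf⟩ := surj_of_involves h2
  let incl : (Cfsg.FusionSystem.normalizerIn S Q') →* S :=
    Subgroup.inclusion (inf_le_left : S ⊓ Subgroup.normalizer (Q' : Set Ω) ≤ S)
  have hincl : Function.Injective incl := Subgroup.inclusion_injective _
  let e : K ≃* K.map incl := K.equivMapOfInjective incl hincl
  refine involves_of_surj (K.map incl) (f.comp e.symm.toMonoidHom) ?_
  exact hf.comp e.symm.surjective

end Cfsg.Agent.S5299
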