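import Cfsg.Statements.S5311
import Cfsg.Agent.Lib.Helper89.IsoTLayer
import Cfsg.Agent.Lib.Helper89.FusBasic

set_option autoImplicit false
open Cfsg

namespace Cfsg.Agent.S5311

open Cfsg.FusionSystem Cfsg.Agent.Lib.Helper90 Cfsg.Agent.Lib.Helper89.IsoT
open Cfsg.Agent.Lib.Helper88 (aFun aFun_apply aFun_apply' mem_imageAlong mem_preimageAlong
  finite_imageAlong)

/-- The layer of a saturated fusion system F over a finite p-group S is characteristic in F: for every automorphism α of S that is an automorphism of F (α and its inverse are morphisms from F to F) and every layer E of F over T, α carries T onto T and, for every map φ of E with source P, the map induced by α on α(P) (that is, α ∘ φ ∘ α⁻¹) is a map of E. -/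
theorem result {Ω : Type*} [Group Ω] {S : Subgroup Ω} [Finite S] (p : ℕ) [Fact p.Prime] (hS : IsPGroup p S) (F : Cfsg.FusionSystem S) (hF : F.IsSaturated p)
    (α : ↥S ≃* ↥S) (hα : F.IsMorphism F (S.subtype.comp α.toMonoidHom))
    (hα' : F.IsMorphism F (S.subtype.comp α.symm.toMonoidHom))
    {T : Subgroup Ω} (E : Cfsg.FusionSystem T) (hE : E.IsLayerOf F p) :
    Cfsg.FusionSystem.imageAlong (S.subtype.comp α.toMonoidHom) T = T ∧
      ∀ (P : Subgroup Ω) (φ : ↥P →* Ω), φ ∈ E.Hom P →
        ∀ φ' : ↥(Cfsg.FusionSystem.imageAlong (S.subtype.comp α.toMonoidHom) P) →* Ω,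
          Cfsg.FusionSystem.InducedAlong (S.subtype.comp α.toMonoidHom) φ φ' →
            φ' ∈ E.Hom (Cfsg.FusionSystem.imageAlong (S.subtype.comp α.toMonoidHom) P) := by
  have hTS : T ≤ S := hE.1.1.2.2.2.1.1
  have hfinT : Finite T := Cfsg.Agent.Lib.Helper90.finite_of_le hTS
  have hT := hS.to_le hTS
  have hFa' := iso_of_aut α.symm hα' hα
  have hinj' : Function.Injective
      ((S.subtype.comp α.symm.toMonoidHom).comp (Subgroup.inclusion hTS)) :=
    (fs_inj hFa').comp (Subgroup.inclusion_injective hTS)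
  have hsub := layer_le_push hS α.symm hα' hα hE hTS hinj'
  have sE : SIso E _ (pushSys E _ hinj') := sIso_of hT hE.1.1.1 (pushSys_fs E _ hinj')
  have hT1 : T ≤ imageAlong (S.subtype.comp α.symm.toMonoidHom) T := by
    have h1 : T.subtype ∈ E.Hom T := Cfsg.Agent.Lib.Helper89.incl_mem E le_rfl
    have h2 := hsub T h1
    have h3 := ((pushSys E _ hinj').le_of_mem h2).1
    rw [range_res hTS] at h3
    exact h3
  have hT2 : imageAlong (S.subtype.comp α.symm.toMonoidHom) T = T := by
    have hfin2 : Finite ↥(imageAlong (S.subtype.comp α.symm.toMonoidHom) T) :=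
      finite_imageAlong _ T
    refine (Subgroup.eq_of_le_of_card_ge hT1 ?_).symm
    have hsurj : Function.Surjective (fun x : T =>
        (⟨aFun (S.subtype.comp α.symm.toMonoidHom) x,
          mem_imageAlong.mpr ⟨x, x.2, hTS x.2, rfl⟩⟩ :
          ↥(imageAlong (S.subtype.comp α.symm.toMonoidHom) T))) := by
      rintro ⟨y, hy⟩
      obtain ⟨x, hx, -, rfl⟩ := mem_imageAlong.mp hy
      exact ⟨⟨x, hx⟩, rfl⟩
    exact Nat.card_le_card_of_surjective _ hsurj
  have hT3 : imageAlong (S.subtype.comp α.toMonoidHom) T = T := by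
    ext z
    rw [mem_imageAlong]
    constructor
    · rintro ⟨x, hx, hxS, rfl⟩
      rw [← hT2] at hx
      obtain ⟨t, ht, htS, rfl⟩ := mem_imageAlong.mp hx
      rw [aut_aFun_symm' α htS]
      exact ht
    · intro hz
      have hzS := hTS hz
      refine ⟨_, ?_, aut_aFun_mem α.symm hzS, aut_aFun_symm' α hzS⟩
      rw [← hT2]
      exact mem_imageAlong.mpr ⟨z, hz, hzS, rfl⟩
  refine ⟨hT3, fun P φ hφ φ' hind => ?_⟩
  have hm : Mor E P (extFun P φ) := mor_of_hom hφ
  have hPT : P ≤ T := hm.le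
  have hmα : Mor (pushSys E _ hinj') P (extFun P φ) := mor_of_subsystem hsub hm
  obtain ⟨g, hg, hga⟩ := sE.pull hmα
  have hpre : preimageAlong ((S.subtype.comp α.symm.toMonoidHom).comp (Subgroup.inclusion hTS)) P
      = imageAlong (S.subtype.comp α.toMonoidHom) P := by
    ext x
    rw [mem_preimageAlong, mem_imageAlong]
    constructor
    · rintro ⟨hxT, hx⟩
      rw [aFun_res hTS hxT] at hx
      exact ⟨_, hx, aut_aFun_mem α.symm (hTS hxT), aut_aFun_symm' α (hTS hxT)⟩
    · rintro ⟨y, hy, hyS, rfl⟩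
      have hyT : aFun (S.subtype.comp α.toMonoidHom) y ∈ T := by
        rw [← hT3]
        exact mem_imageAlong.mpr ⟨y, hPT hy, hyS, rfl⟩
      refine ⟨hyT, ?_⟩
      rw [aFun_res hTS hyT, aut_aFun_symm α hyS]
      exact hy
  rw [hpre] at hg hga
  have hm' : Mor E (imageAlong (S.subtype.comp α.toMonoidHom) P) (extFun _ φ') := by
    refine hg.congr fun z hz => ?_
    obtain ⟨y, hy, hyS, rfl⟩ := mem_imageAlong.mp hz
    have e1 := hga _ hz
    have hzT : aFun (S.subtype.comp α.toMonoidHom) y ∈ T := hg.le hz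
    have hgT : g (aFun (S.subtype.comp α.toMonoidHom) y) ∈ T := hg.mem hz
    rw [aFun_res hTS hzT, aut_aFun_symm α hyS, aFun_res hTS hgT] at e1
    obtain ⟨hP, hφS, hP', hi⟩ := hind
    have e2 := hi ⟨y, hy⟩
    have e3 : extFun _ φ' (aFun (S.subtype.comp α.toMonoidHom) y) =
        aFun (S.subtype.comp α.toMonoidHom) (extFun P φ y) := by
      rw [aFun_apply' _ hyS, extFun_apply' _ φ' (hP' ⟨y, hy⟩), extFun_apply' P φ hy,
        aFun_apply' _ (hφS ⟨y, hy⟩)]
      exact e2
    rw [e3, e1, aut_aFun_symm' α (hTS hgT)]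
  exact hm'.hom φ' (fun x => (extFun_apply _ φ' x).symm)

end Cfsg.Agent.S5311
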