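import Cfsg.Statements.S5315
import Cfsg.Agent.S5134
import Cfsg.Agent.S5144
import Cfsg.Agent.Lib.Helper88.FusQuot
import Cfsg.Agent.Lib.Helper87.Fusion10
import Cfsg.Agent.Lib.Helper91.CentSys

set_option autoImplicit false
open Cfsg

namespace Cfsg.Agent.S5315

open Cfsg.FusionSystem Cfsg.Agent.Lib.Helper90 Cfsg.Agent.Lib.Helper88 Cfsg.Agent.Lib.Helper91

section

variable {Ω : Type*} [Group Ω] {S : Subgroup Ω} {F : FusionSystem S} {P Z : Subgroup Ω}
  {f : Ω → Ω}

theorem cext_of_isCentral (h : F.IsCentral Z) (hf : Mor F P f) : CExt F Z P f := by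
  obtain ⟨φ, hφ, hφf⟩ := hf
  obtain ⟨ψ, hψ, h1, h2⟩ := h.2 P φ hφ
  refine ⟨extFun _ ψ, mor_of_hom hψ, fun x hx => ?_, fun x hx => ?_⟩
  · rw [extFun_apply' _ ψ (Subgroup.mem_sup_left hx), ← hφf ⟨x, hx⟩]
    exact h1 ⟨x, hx⟩
  · rw [extFun_apply' _ ψ (Subgroup.mem_sup_right hx)]
    exact h2 ⟨x, hx⟩

theorem isCentral_of_cext (hZ : Z ≤ S)
    (h : ∀ (P : Subgroup Ω) (f : Ω → Ω), Mor F P f → CExt F Z P f) : F.IsCentral Z := by
  refine ⟨hZ, fun P φ hφ => ?_⟩
  obtain ⟨f', ⟨ψ, hψ, hψf⟩, hf'P, hf'Z⟩ := h P _ (mor_of_hom hφ)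
  refine ⟨ψ, hψ, fun x => ?_, fun x => ?_⟩
  · rw [hψf]
    show f' x = φ x
    rw [hf'P x x.2, extFun_apply]
  · rw [hψf]
    exact hf'Z x x.2

theorem fix_of_isCentral (h : F.IsCentral Z) (hf : Mor F P f) {z : Ω} (hzP : z ∈ P)
    (hzZ : z ∈ Z) : f z = z := by
  obtain ⟨f', -, h1, h2⟩ := cext_of_isCentral h hf
  rw [← h1 z hzP, h2 z hzZ]

/-- the automorphisms of `P` fixing every element of `Z` -/
def fixSub (P Z : Subgroup Ω) : Subgroup (MulAut P) where
  carrier := {β | ∀ x : P, (x : Ω) ∈ Z → β x = x}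
  one_mem' := fun x _ => rfl
  mul_mem' := fun {a b} ha hb x hx => by rw [MulAut.mul_apply, hb x hx, ha x hx]
  inv_mem' := fun {a} ha x hx => by
    rw [MulAut.inv_apply, MulEquiv.symm_apply_eq]
    exact (ha x hx).symm

theorem mem_fixSub {β : MulAut P} : β ∈ fixSub P Z ↔ ∀ x : P, (x : Ω) ∈ Z → β x = x := Iff.rfl

end

/-- Grün's lemma for fusion systems, for an arbitrary presentation of the factor system. -/
theorem grun {Ω : Type*} [Group Ω] {S : Subgroup Ω} [Finite S] (p : ℕ) [Fact p.Prime]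
    (hS : IsPGroup p S) (F : Cfsg.FusionSystem S) (hF : F.IsSaturated p)
    (hperf : F.hyperfocalSubgroup p = S)
    {Ω' : Type*} [Group Ω'] {S' : Subgroup Ω'} (θ : S →* Ω') (E : Cfsg.FusionSystem S')
    (hE : F.IsFactorSystem F.center θ E) : E.center = ⊥ := by
  have hp : p.Prime := Fact.out
  have hZc : F.IsCentral F.center := Cfsg.Agent.S5144.result F
  have hZS : F.center ≤ S := hZc.1
  have hZsc : F.StronglyClosed F.center := by
    refine ⟨hZS, fun R hR φ hφ x => ?_⟩
    have := fix_of_isCentral hZc (mor_of_hom hφ) x.2 (hR x.2)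
    rw [extFun_apply] at this
    rw [this]
    exact hR x.2
  have hα : F.IsSurjectiveMorphism E θ := Cfsg.Agent.S5134.result p hS F hF _ hZsc θ E hE
  obtain ⟨-, hker, hrange, -⟩ := hE
  have hkerA : ∀ x, x ∈ kerAlong θ ↔ x ∈ F.center := by
    intro x
    rw [mem_kerAlong]
    constructor
    · rintro ⟨hxS, hx1⟩
      rw [aFun_apply' θ hxS] at hx1
      exact (hker _).mp hx1
    · intro hx
      refine ⟨hZS hx, ?_⟩
      rw [aFun_apply' θ (hZS hx)]
      exact (hker _).mpr hx
  -- central elements commute with `S`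
  have hZcomm : ∀ z ∈ F.center, ∀ s ∈ S, s * z * s⁻¹ = z := by
    intro z hz s hs
    exact fix_of_isCentral hZc (mor_conj F le_rfl hs) (hZS hz) hz
  have hZcomm' : ∀ z ∈ F.center, ∀ s ∈ S, z * s * z⁻¹ = s := by
    intro z hz s hs
    have h := hZcomm z hz s hs
    calc z * s * z⁻¹ = (s * z * s⁻¹) * s * z⁻¹ := by rw [h]
      _ = s := by group
  unfold FusionSystem.center
  rw [eq_bot_iff]
  apply sSup_le
  intro Q' hQ'
  have hQ'c : E.IsCentral Q' := hQ'
  obtain ⟨Z₂, hZ₂⟩ : ∃ Z₂, Z₂ = preimageAlong θ Q' := ⟨_, rfl⟩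
  have hZ₂S : Z₂ ≤ S := by rw [hZ₂]; exact preimageAlong_le θ Q'
  have hZ₂mem : ∀ w, w ∈ Z₂ ↔ w ∈ S ∧ aFun θ w ∈ Q' := by
    intro w; rw [hZ₂]; exact mem_preimageAlong
  -- (★)
  have star : ∀ (R : Subgroup Ω) (f : Ω → Ω), Mor F R f → ∀ w ∈ R, w ∈ Z₂ →
      aFun θ (f w) = aFun θ w := by
    intro R f hf w hwR hwZ
    obtain ⟨f', hf', hff'⟩ := mor_image hα.1 hf
    have h1 := fix_of_isCentral hQ'c hf' (z := aFun θ w)
      (mem_imageAlong.mpr ⟨w, hwR, hf.le hwR, rfl⟩) ((hZ₂mem w).mp hwZ).2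
    rw [← hff' w hwR, h1]
  have star' : ∀ (R : Subgroup Ω) (f : Ω → Ω), Mor F R f → ∀ w ∈ R, w ∈ Z₂ →
      f w * w⁻¹ ∈ F.center := by
    intro R f hf w hwR hwZ
    rw [← hkerA, ← aFun_eq_iff (hf.mem hwR) (hf.le hwR)]
    exact star R f hf w hwR hwZ
  -- Claim A
  have claimA : ∀ (R : Subgroup Ω) (f : Ω → Ω), Mor F R f → ∀ x ∈ R, ∀ w ∈ Z₂,
      f x * w * (f x)⁻¹ = x * w * x⁻¹ := by
    intro R f hf x hxR w hwZ
    have hxS := hf.le hxR
    have hwS := hZ₂S hwZ
    obtain ⟨f', hf', hff'⟩ := mor_image hα.1 hf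
    obtain ⟨g', hg', hg'P, hg'Q⟩ := cext_of_isCentral hQ'c hf'
    obtain ⟨g, hg, hgg'⟩ := mor_lift hα hg'
    have hximg : aFun θ x ∈ imageAlong θ R := mem_imageAlong.mpr ⟨x, hxR, hxS, rfl⟩
    have hwQ' : aFun θ w ∈ Q' := ((hZ₂mem w).mp hwZ).2
    have hxpre : x ∈ preimageAlong θ (imageAlong θ R ⊔ Q') :=
      mem_preimageAlong.mpr ⟨hxS, Subgroup.mem_sup_left hximg⟩
    have hwpre : w ∈ preimageAlong θ (imageAlong θ R ⊔ Q') :=
      mem_preimageAlong.mpr ⟨hwS, Subgroup.mem_sup_right hwQ'⟩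
    have h1 : g x * (f x)⁻¹ ∈ F.center := by
      rw [← hkerA, ← aFun_eq_iff (hg.mem hxpre) (hf.mem hxR), ← hgg' x hxpre,
        hg'P _ hximg, hff' x hxR]
    have h2 : g w * w⁻¹ ∈ F.center := by
      rw [← hkerA, ← aFun_eq_iff (hg.mem hwpre) hwS, ← hgg' w hwpre, hg'Q _ hwQ']
    have h3 : x * w * x⁻¹ * w⁻¹ ∈ F.center := star' S _ (mor_conj F le_rfl hxS) w hwS hwZ
    have hxw : x * w * x⁻¹ ∈ preimageAlong θ (imageAlong θ R ⊔ Q') :=
      Subgroup.mul_mem _ (Subgroup.mul_mem _ hxpre hwpre) (Subgroup.inv_mem _ hxpre)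
    have h4 : g (x * w * x⁻¹ * w⁻¹) = x * w * x⁻¹ * w⁻¹ :=
      fix_of_isCentral hZc hg (Subgroup.mul_mem _ hxw (Subgroup.inv_mem _ hwpre)) h3
    have h5 : g (x * w * x⁻¹ * w⁻¹) = g x * g w * (g x)⁻¹ * (g w)⁻¹ := by
      rw [hg.map_mul hxw (Subgroup.inv_mem _ hwpre),
        hg.map_mul (Subgroup.mul_mem _ hxpre hwpre) (Subgroup.inv_mem _ hxpre),
        hg.map_mul hxpre hwpre, hg.map_inv hxpre, hg.map_inv hwpre]
    have hgxS : g x ∈ S := hg.mem hxpre
    have hfxS : f x ∈ S := hf.mem hxR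
    -- T1
    have T1 : g x * w * (g x)⁻¹ = f x * w * (f x)⁻¹ := by
      have e : g x = (g x * (f x)⁻¹) * f x := by group
      have h6 := hZcomm' _ h1 (f x * w * (f x)⁻¹)
        (S.mul_mem (S.mul_mem hfxS hwS) (S.inv_mem hfxS))
      calc g x * w * (g x)⁻¹
          = (g x * (f x)⁻¹) * (f x * w * (f x)⁻¹) * (g x * (f x)⁻¹)⁻¹ := by group
        _ = f x * w * (f x)⁻¹ := h6
    -- T2
    have T2 : g x * g w * (g x)⁻¹ = (g w * w⁻¹) * (g x * w * (g x)⁻¹) := by
      have h7 := hZcomm _ h2 (g x) hgxS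
      calc g x * g w * (g x)⁻¹
          = (g x * (g w * w⁻¹) * (g x)⁻¹) * (g x * w * (g x)⁻¹) := by group
        _ = (g w * w⁻¹) * (g x * w * (g x)⁻¹) := by rw [h7]
    -- T3
    have T3 : g x * g w * (g x)⁻¹ = (g w * w⁻¹) * (x * w * x⁻¹) := by
      have h8 : g x * g w * (g x)⁻¹ = (x * w * x⁻¹ * w⁻¹) * g w := by
        rw [← h4, h5]; group
      have h9 := hZcomm' _ h3 (g w * w⁻¹) (hZS h2)
      calc g x * g w * (g x)⁻¹ = (x * w * x⁻¹ * w⁻¹) * g w := h8
        _ = ((x * w * x⁻¹ * w⁻¹) * (g w * w⁻¹) * (x * w * x⁻¹ * w⁻¹)⁻¹) * (x * w * x⁻¹) := by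
          group
        _ = (g w * w⁻¹) * (x * w * x⁻¹) := by rw [h9]
    rw [← T1]
    exact mul_left_cancel (T2.symm.trans T3)
  -- Claim A′
  have hcent : ∀ w ∈ Z₂, ∀ s ∈ S, s * w * s⁻¹ = w := by
    intro w hw s hs
    have hle : F.hyperfocalSubgroup p ≤ Subgroup.centralizer {w} := by
      unfold FusionSystem.hyperfocalSubgroup
      rw [Subgroup.closure_le]
      rintro y ⟨P, α, x, hPS, -, rfl⟩
      have hm : Mor F P (autFun P (α : MulAut P)) := (mem_autGroup_iff F hPS _).mp α.2
      have h1 := claimA P _ hm x x.2 w hw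
      rw [autFun_apply] at h1
      rw [SetLike.mem_coe, Subgroup.mem_centralizer_iff]
      intro h hh
      rw [Set.mem_singleton_iff] at hh
      subst hh
      have h2 : (((α : MulAut P) x : P) : Ω) * h = (x : Ω) * h * (x : Ω)⁻¹ *
          (((α : MulAut P) x : P) : Ω) := by
        rw [← h1]; group
      calc h * ((x : Ω)⁻¹ * (((α : MulAut P) x : P) : Ω))
          = (x : Ω)⁻¹ * ((x : Ω) * h * (x : Ω)⁻¹ * (((α : MulAut P) x : P) : Ω)) := by group
        _ = (x : Ω)⁻¹ * (((α : MulAut P) x : P) : Ω) * h := by rw [← h2]; group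
    rw [hperf] at hle
    have h3 := Subgroup.mem_centralizer_iff.mp (hle hs) w rfl
    calc s * w * s⁻¹ = (w * s) * s⁻¹ := by rw [h3]
      _ = w := by group
  -- Alperin induction
  have hall : ∀ (P : Subgroup Ω) (f : Ω → Ω), Mor F P f → CExt F Z₂ P f := by
    apply alperin_induction hS hF (fun P f => CExt F Z₂ P f)
    · intro P f g h hfg
      exact cext_congr h hfg
    · intro P P₀ f hf h h0
      obtain ⟨f', hf', h1, h2⟩ := h
      exact ⟨f', hf'.restrict (sup_le_sup_right h0 _), fun x hx => h1 x (h0 hx), h2⟩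
    · intro P Q f g hf hg hPQ h1 h2
      exact cext_comp hPQ h1 h2
    · intro P f hf h
      exact cext_inv hf h
    · intro P hfa hrec hbig f hf hfP
      have hPS := hf.le
      haveI : Finite P := finite_of_le hPS
      by_cases hle : Z₂ ≤ P
      · obtain ⟨α, hα, hαf⟩ := exists_aut_of_mor hf hfP
        obtain ⟨-, R, hR⟩ := hfa
        have htop : Cfsg.pResidual p (F.autGroup P) ⊔ (R : Subgroup (F.autGroup P)) = ⊤ :=
          Cfsg.Agent.Lib.Helper87.pResidual_sup_sylow p R
        have hK : (⊤ : Subgroup (F.autGroup P)) ≤ (fixSub P Z₂).subgroupOf (F.autGroup P) := by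
          rw [← htop]
          apply sup_le
          · unfold Cfsg.pResidual
            rw [Subgroup.closure_le]
            intro g hg
            have hg' : Nat.Coprime (orderOf g) p := hg
            show (g : MulAut P) ∈ fixSub P Z₂
            intro x hx
            have hm : Mor F P (autFun P (g : MulAut P)) := (mem_autGroup_iff F hPS _).mp g.2
            have hζZ : (((g : MulAut P) x * x⁻¹ : P) : Ω) ∈ F.center := by
              have := star' P _ hm x x.2 hx
              rw [autFun_apply] at this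
              exact this
            have hζfix : (g : MulAut P) ((g : MulAut P) x * x⁻¹) = (g : MulAut P) x * x⁻¹ := by
              have := fix_of_isCentral hZc hm (Subtype.coe_prop ((g : MulAut P) x * x⁻¹)) hζZ
              rw [autFun_apply] at this
              exact Subtype.ext this
            have hpow : ∀ k : ℕ, ((g : MulAut P) ^ k) x = ((g : MulAut P) x * x⁻¹) ^ k * x := by
              intro k
              induction k with
              | zero => simp
              | succ k ih =>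
                rw [pow_succ' (g : MulAut P) k, MulAut.mul_apply, ih, map_mul, map_pow, hζfix,
                  pow_succ]
                group
            have h1 := hpow (orderOf (g : MulAut P))
            rw [pow_orderOf_eq_one, MulAut.one_apply] at h1
            have h2 : ((g : MulAut P) x * x⁻¹) ^ orderOf (g : MulAut P) = 1 := by
              have : (1 : P) * x = ((g : MulAut P) x * x⁻¹) ^ orderOf (g : MulAut P) * x := by
                rw [one_mul]; exact h1
              exact (mul_right_cancel this).symm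
            have hord : orderOf (g : MulAut P) = orderOf g := Subgroup.orderOf_coe g
            rw [hord] at h2
            obtain ⟨a, ha⟩ := hS ⟨(((g : MulAut P) x * x⁻¹ : P) : Ω), hPS (Subtype.coe_prop _)⟩
            have h3 : ((g : MulAut P) x * x⁻¹) ^ p ^ a = 1 := by
              apply Subtype.ext
              have := congrArg Subtype.val ha
              simpa using this
            have d1 := orderOf_dvd_of_pow_eq_one h2
            have d2 := orderOf_dvd_of_pow_eq_one h3
            have hcop : Nat.Coprime (orderOf g) (p ^ a) := Nat.Coprime.pow_right _ hg'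
            have h4 := Nat.dvd_gcd d1 d2
            rw [hcop] at h4
            have h5 : (g : MulAut P) x * x⁻¹ = 1 := orderOf_eq_one_iff.mp (Nat.dvd_one.mp h4)
            exact mul_inv_eq_one.mp h5
          · rw [hR]
            intro r hr
            have hr' : (r : MulAut P) ∈ autInducedBy S P := Subgroup.mem_subgroupOf.mp hr
            obtain ⟨a, ha, hra⟩ := (mem_autInducedBy_iff S P _).mp hr'
            show (r : MulAut P) ∈ fixSub P Z₂
            intro x hx
            apply Subtype.ext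
            rw [hra]
            exact hcent x hx a ha
        have hαfix : α ∈ fixSub P Z₂ := hK (Subgroup.mem_top (⟨α, hα⟩ : F.autGroup P))
        refine ⟨f, ?_, fun x _ => rfl, fun w hw => ?_⟩
        · rw [sup_eq_left.mpr hle]; exact hf
        · rw [← hαf ⟨w, hle hw⟩, hαfix ⟨w, hle hw⟩ hw]
      · have hlt : P < P ⊔ Z₂ :=
          lt_of_le_of_ne le_sup_left (fun h => hle (h ▸ le_sup_right))
        have himg : img P f = P := hf.img_eq_self hfP
        obtain ⟨f₂, hf₂, hf₂P⟩ := receptive_extend' hrec hf himg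
        have hZ₂C : Z₂ ≤ centralizerIn S P := by
          intro w hw
          refine ⟨hZ₂S hw, Subgroup.mem_centralizer_iff.mpr ?_⟩
          intro x hx
          have := hcent w hw x (hPS hx)
          calc x * w = (x * w * x⁻¹) * x := by group
            _ = w * x := by rw [this]
        have hsub : P ⊔ Z₂ ≤ extFn S P f :=
          sup_le hf.le_extFn (hZ₂C.trans hf.centralizerIn_le_extFn)
        have hf₃ := hf₂.restrict hsub
        obtain ⟨f₄, hf₄, h41, h42⟩ := hbig _ f₂ hlt hf₃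
        refine ⟨f₂, hf₃, hf₂P, fun w hw => ?_⟩
        rw [← h41 w (Subgroup.mem_sup_right hw), h42 w hw]
  have hcentral : F.IsCentral Z₂ := isCentral_of_cext hZ₂S hall
  have hle : Z₂ ≤ F.center := le_sSup hcentral
  intro q hq
  rw [Subgroup.mem_bot]
  obtain ⟨x, hxS, rfl⟩ := exists_aFun_eq hα (hQ'c.1 hq)
  have hxZ₂ : x ∈ Z₂ := (hZ₂mem x).mpr ⟨hxS, hq⟩
  exact (mem_kerAlong.mp ((hkerA x).mpr (hle hxZ₂))).2

/-- An analogue of Grün's lemma for fusion systems. Let F be a saturated fusion system over a finite p-group S that is perfect in the sense that its hyperfocal subgroup is all of S (F coincides with its p-residual subsystem). Then the second centre of F equals its centre: every fusion system over S/(Z(F) ∩ S) that is the factor system of F modulo its centre Z(F), read through the quotient map, has trivial centre. -/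
theorem result {Ω : Type*} [Group Ω] {S : Subgroup Ω} [Finite S] (p : ℕ) [Fact p.Prime] (hS : IsPGroup p S) (F : Cfsg.FusionSystem S) (hF : F.IsSaturated p)
    (hperf : F.hyperfocalSubgroup p = S)
    (E : Cfsg.FusionSystem (⊤ : Subgroup (↥S ⧸ (F.center).subgroupOf S)))
    (hE : F.IsFactorSystem F.center (QuotientGroup.mk' ((F.center).subgroupOf S)) E) : E.center = ⊥ :=
  grun p hS F hF hperf _ E hE

end Cfsg.Agent.S5315
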