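import Cfsg.Statements.S5343
import Cfsg.Agent.Lib.Helper91.SylCard
import Cfsg.Agent.Lib.Helper90.Closed
import Cfsg.Agent.Lib.Helper90.Sys
import Cfsg.Agent.Lib.Helper87.Fusion13
import Cfsg.Agent.S5118

set_option autoImplicit false
universe u
open Cfsg

namespace Cfsg.Agent.S5343

open Cfsg.FusionSystem Cfsg.Agent.Lib.Helper90 Cfsg.Agent.Lib.Helper91
open Cfsg.Agent.Lib.Helper88 (aFun aFun_apply aFun_apply' aFun_mul aFun_one aFun_inv aFun_conj
  exists_conj_mem_of_le_sup mem_normalizer_of_conj_le mem_preimageAlong preimageAlong_le)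
open Cfsg.Agent.Lib.Helper87 (saturated_of_realized realHom realHom_mem realHom_mem_hom ι_realHom)

section Basic

variable {Ω : Type*} [Group Ω] {S : Subgroup Ω} {G : Type*} [Group G]

/-- A back map for `ι` (junk outside the range). -/
noncomputable def bk (ι : S →* G) : G → Ω :=
  fun y => by classical exact if h : y ∈ ι.range then ((Classical.choose h : S) : Ω) else 1

theorem bk_mem (ι : S →* G) {y : G} (hy : y ∈ ι.range) : bk ι y ∈ S := by
  unfold bk
  simp only [dif_pos hy]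
  exact (Classical.choose hy).2

theorem aFun_bk (ι : S →* G) {y : G} (hy : y ∈ ι.range) : aFun ι (bk ι y) = y := by
  rw [aFun_apply' ι (bk_mem ι hy)]
  have h1 : (⟨bk ι y, bk_mem ι hy⟩ : S) = Classical.choose hy := by
    apply Subtype.ext
    show bk ι y = _
    unfold bk
    simp only [dif_pos hy]
  rw [h1]
  exact Classical.choose_spec hy

theorem aFun_mem_range (ι : S →* G) {x : Ω} (hx : x ∈ S) : aFun ι x ∈ ι.range := by
  rw [aFun_apply' ι hx]
  exact ⟨_, rfl⟩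

theorem aFun_inj {ι : S →* G} (hι : Function.Injective ι) {x y : Ω} (hx : x ∈ S) (hy : y ∈ S)
    (h : aFun ι x = aFun ι y) : x = y := by
  rw [aFun_apply' ι hx, aFun_apply' ι hy] at h
  exact congrArg Subtype.val (hι h)

theorem bk_aFun {ι : S →* G} (hι : Function.Injective ι) {x : Ω} (hx : x ∈ S) :
    bk ι (aFun ι x) = x :=
  aFun_inj hι (bk_mem ι (aFun_mem_range ι hx)) hx (aFun_bk ι (aFun_mem_range ι hx))

theorem bk_mul {ι : S →* G} (hι : Function.Injective ι) {y z : G} (hy : y ∈ ι.range)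
    (hz : z ∈ ι.range) : bk ι (y * z) = bk ι y * bk ι z := by
  apply aFun_inj hι (bk_mem ι (ι.range.mul_mem hy hz)) (S.mul_mem (bk_mem ι hy) (bk_mem ι hz))
  rw [aFun_bk ι (ι.range.mul_mem hy hz), aFun_mul ι (bk_mem ι hy) (bk_mem ι hz), aFun_bk ι hy,
    aFun_bk ι hz]

/-- Maps of a realized system at the level of functions. -/
theorem real_mor_iff {F : FusionSystem S} {ι : S →* G} (hR : F.IsRealizedBy ι) {P : Subgroup Ω}
    {f : Ω → Ω} :
    Mor F P f ↔ P ≤ S ∧ ∃ g : G, ∀ x ∈ P, f x ∈ S ∧ aFun ι (f x) = g * aFun ι x * g⁻¹ := by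
  constructor
  · rintro ⟨φ, hφ, hφf⟩
    have hP := (F.le_of_mem hφ).1
    have hφS := (F.le_of_mem hφ).2
    obtain ⟨g, hg⟩ := (hR.2 P hP φ hφS).1 hφ
    refine ⟨hP, g, fun x hx => ?_⟩
    have h1 := hg ⟨x, hx⟩
    rw [← hφf ⟨x, hx⟩]
    refine ⟨hφS _, ?_⟩
    rw [aFun_apply' ι (hφS _), aFun_apply' ι (hP hx)]
    exact h1
  · rintro ⟨hP, g, h⟩
    have hg : ∀ x : P, g * ι ⟨x, hP x.2⟩ * g⁻¹ ∈ ι.range := by
      intro x
      have h1 := (h x x.2).2
      rw [aFun_apply' ι (hP x.2)] at h1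
      rw [← h1]
      exact aFun_mem_range ι (h x x.2).1
    refine ⟨realHom ι hR.1 P hP g hg, realHom_mem_hom F hR P hP g hg, fun x => ?_⟩
    have h1 := ι_realHom ι hR.1 P hP g hg x
    have h2 := (h x x.2).2
    rw [aFun_apply' ι (hP x.2), aFun_apply' ι (h x x.2).1] at h2
    rw [← h2] at h1
    exact congrArg Subtype.val (hR.1 h1)

/-- The transported conjugation map. -/
noncomputable def cj (ι : S →* G) (g : G) : Ω → Ω := fun x => bk ι (g * aFun ι x * g⁻¹)

theorem cj_mem (ι : S →* G) {g : G} {x : Ω} (h : g * aFun ι x * g⁻¹ ∈ ι.range) :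
    cj ι g x ∈ S := bk_mem ι h

theorem aFun_cj (ι : S →* G) {g : G} {x : Ω} (h : g * aFun ι x * g⁻¹ ∈ ι.range) :
    aFun ι (cj ι g x) = g * aFun ι x * g⁻¹ := aFun_bk ι h

theorem mor_cj {F : FusionSystem S} {ι : S →* G} (hR : F.IsRealizedBy ι) {P : Subgroup Ω}
    (hP : P ≤ S) (g : G) (h : ∀ x ∈ P, g * aFun ι x * g⁻¹ ∈ ι.range) : Mor F P (cj ι g) :=
  (real_mor_iff hR).2 ⟨hP, g, fun x hx => ⟨cj_mem ι (h x hx), aFun_cj ι (h x hx)⟩⟩

/-- The class of maps induced by conjugation by elements of `N`. -/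
def NC (ι : S →* G) (N : Subgroup G) (P : Subgroup Ω) (f : Ω → Ω) : Prop :=
  P ≤ preimageAlong ι N ∧
    ∃ n ∈ N, ∀ x ∈ P, f x ∈ preimageAlong ι N ∧ aFun ι (f x) = n * aFun ι x * n⁻¹

theorem nc_mor {F : FusionSystem S} {ι : S →* G} (hR : F.IsRealizedBy ι) (N : Subgroup G)
    (P : Subgroup Ω) (f : Ω → Ω) (h : NC ι N P f) : Mor F P f := by
  obtain ⟨hP, n, -, hn⟩ := h
  exact (real_mor_iff hR).2 ⟨hP.trans (preimageAlong_le ι N), n, fun x hx =>
    ⟨preimageAlong_le ι N (hn x hx).1, (hn x hx).2⟩⟩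

theorem nc_cj {ι : S →* G} {N : Subgroup G} {P : Subgroup Ω} (hP : P ≤ preimageAlong ι N)
    {n : G} (hn : n ∈ N) (h : ∀ x ∈ P, n * aFun ι x * n⁻¹ ∈ ι.range) : NC ι N P (cj ι n) := by
  refine ⟨hP, n, hn, fun x hx => ⟨?_, aFun_cj ι (h x hx)⟩⟩
  rw [mem_preimageAlong]
  refine ⟨cj_mem ι (h x hx), ?_⟩
  rw [aFun_cj ι (h x hx)]
  exact N.mul_mem (N.mul_mem hn (mem_preimageAlong.1 (hP hx)).2) (N.inv_mem hn)

/-- The system induced on `ι⁻¹(N)` by conjugation in `N`. -/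
noncomputable def sysN (F : FusionSystem S) {ι : S →* G} (hR : F.IsRealizedBy ι) (N : Subgroup G) :
    FusionSystem (preimageAlong ι N) :=
  mkSys F (preimageAlong ι N) (NC ι N)
    (by
      rintro P f g ⟨hP, n, hn, h⟩ hfg
      refine ⟨hP, n, hn, fun x hx => ?_⟩
      rw [← hfg x hx]
      exact h x hx)
    (nc_mor hR N)
    (by
      rintro P f ⟨hP, n, hn, h⟩
      exact ⟨hP, fun x hx => (h x hx).1⟩)
    (by
      intro P a hP ha
      have haS := preimageAlong_le ι N ha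
      refine ⟨hP, aFun ι a, (mem_preimageAlong.1 ha).2, fun x hx => ?_⟩
      have hxT := hP hx
      exact ⟨Subgroup.mul_mem _ (Subgroup.mul_mem _ ha hxT) (Subgroup.inv_mem _ ha),
        aFun_conj ι haS (preimageAlong_le ι N hxT)⟩)
    (by
      rintro P Q f g ⟨hP, n, hn, h⟩ ⟨hQ, m, hm, h'⟩ hPQ
      refine ⟨hP, m * n, N.mul_mem hm hn, fun x hx => ?_⟩
      refine ⟨(h' _ (hPQ x hx)).1, ?_⟩
      show aFun ι (g (f x)) = _
      rw [(h' _ (hPQ x hx)).2, (h x hx).2]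
      group)
    (by
      intro P f hf
      have hm := nc_mor hR N P f hf
      obtain ⟨hP, n, hn, h⟩ := hf
      refine ⟨?_, n⁻¹, N.inv_mem hn, ?_⟩
      · intro y hy
        obtain ⟨x, hx, rfl⟩ := hm.mem_img.1 hy
        exact (h x hx).1
      · intro y hy
        obtain ⟨x, hx, rfl⟩ := hm.mem_img.1 hy
        rw [hm.invFn_apply hx]
        refine ⟨hP hx, ?_⟩
        rw [(h x hx).2]
        group)

theorem mor_sysN_iff (F : FusionSystem S) {ι : S →* G} (hR : F.IsRealizedBy ι) (N : Subgroup G)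
    {P : Subgroup Ω} {f : Ω → Ω} : Mor (sysN F hR N) P f ↔ NC ι N P f :=
  mor_mkSys_iff F _ _ _ _ _ _ _ _

end Basic

section Normal

theorem ext_aux {G : Type*} [Group G] [Finite G] {p : ℕ} [Fact p.Prime] (S : Sylow p G)
    (H : Subgroup G) [hHn : H.Normal] (T : Subgroup G) (hT : T = (S : Subgroup G) ⊓ H) {n : G}
    (hn : n ∈ H) (hnN : n ∈ Subgroup.normalizer (T : Set G)) :
    ∃ d ∈ H, d ∈ Subgroup.centralizer (T : Set G) ∧
      ∀ y ∈ (S : Subgroup G) ⊓ Subgroup.centralizer (T : Set G),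
        d * n * y * (d * n)⁻¹ ∈ (S : Subgroup G) ⊓ Subgroup.centralizer (T : Set G) := by
  have hTS : T ≤ (S : Subgroup G) := hT ▸ inf_le_left
  have hTH : T ≤ H := hT ▸ inf_le_right
  have hmemT : ∀ x : G, x ∈ (S : Subgroup G) → x ∈ H → x ∈ T := fun x h1 h2 => by
    rw [hT]
    exact ⟨h1, h2⟩
  have hSN : (S : Subgroup G) ≤ Subgroup.normalizer (T : Set G) := by
    intro s hs
    apply mem_normalizer_of_conj_le T
    intro t ht
    exact hmemT _ (Subgroup.mul_mem _ (Subgroup.mul_mem _ hs (hTS ht)) (Subgroup.inv_mem _ hs))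
      (hHn.conj_mem t (hTH ht) s)
  have h1 : SylCard p (S : Subgroup G) (Subgroup.normalizer (T : Set G)) :=
    sylCard_mono (sylCard_of_sylow S) hSN le_top
  have h2 : SylCard p ((S : Subgroup G) ⊓ Subgroup.centralizer (T : Set G))
      (Subgroup.centralizer (T : Set G)) :=
    sylCard_inf h1 (Subgroup.centralizer_le_normalizer _)
      (fun k hk c hc => Cfsg.Agent.S5118.conj_mem_centralizer hk hc)
  obtain ⟨C, hC⟩ : ∃ C : Subgroup G, C = (S : Subgroup G) ⊓ Subgroup.centralizer (T : Set G) :=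
    ⟨_, rfl⟩
  obtain ⟨D, hD⟩ : ∃ D : Subgroup G, D = H ⊓ Subgroup.centralizer (T : Set G) := ⟨_, rfl⟩
  rw [← hC] at h2 ⊢
  have hCS : C ≤ (S : Subgroup G) := hC ▸ inf_le_left
  have hCc : C ≤ Subgroup.centralizer (T : Set G) := hC ▸ inf_le_right
  have hDH : D ≤ H := hD ▸ inf_le_left
  have hDc : D ≤ Subgroup.centralizer (T : Set G) := hD ▸ inf_le_right
  have hX : D ⊔ C ≤ Subgroup.centralizer (T : Set G) := sup_le hDc hCc
  have h3 : SylCard p C (D ⊔ C) := sylCard_mono h2 le_sup_right hX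
  have hC'X : C.map (MulAut.conj n).toMonoidHom ≤ D ⊔ C := by
    rintro _ ⟨x, hx, rfl⟩
    show n * x * n⁻¹ ∈ D ⊔ C
    have h4 : n * x * n⁻¹ = n * x * n⁻¹ * x⁻¹ * x := by group
    rw [h4]
    refine Subgroup.mul_mem _ (Subgroup.mem_sup_left ?_) (Subgroup.mem_sup_right hx)
    rw [hD]
    refine ⟨?_, ?_⟩
    · have h5 : n * x * n⁻¹ * x⁻¹ = n * (x * n⁻¹ * x⁻¹) := by group
      rw [h5]
      exact H.mul_mem hn (hHn.conj_mem _ (H.inv_mem hn) x)
    · exact Subgroup.mul_mem _ (Cfsg.Agent.S5118.conj_mem_centralizer hnN (hCc hx))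
        (Subgroup.inv_mem _ (hCc hx))
  obtain ⟨x, hxX, hx⟩ := sylCard_conj h3 (C.map (MulAut.conj n).toMonoidHom) hC'X
    ((sylCard_isPGroup h2).map _)
  have hCD : ∀ c ∈ C, ∀ d ∈ D, c * d * c⁻¹ ∈ D := by
    intro c hc d hd
    rw [hD]
    exact ⟨hHn.conj_mem d (hDH hd) c, Subgroup.mul_mem _ (Subgroup.mul_mem _ (hCc hc) (hDc hd))
      (Subgroup.inv_mem _ (hCc hc))⟩
  rw [sup_comm] at hxX
  obtain ⟨c₁, hc₁, d, hd, rfl⟩ := exists_mul_of_mem_sup hCD hxX
  refine ⟨d, hDH hd, hDc hd, ?_⟩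
  intro y hy
  have h4 := hx (n * y * n⁻¹) ⟨y, hy, rfl⟩
  have h5 := C.mul_mem (C.mul_mem (C.inv_mem hc₁) h4) hc₁
  have h6 : c₁⁻¹ * (c₁ * d * (n * y * n⁻¹) * (c₁ * d)⁻¹) * c₁ = d * n * y * (d * n)⁻¹ := by
    group
  rwa [h6] at h5

variable {Ω : Type*} [Group Ω] {S : Subgroup Ω} {G : Type*} [Group G] [Finite G] [Finite S]

theorem normal_aux {p : ℕ} [Fact p.Prime] (F : FusionSystem S) (hF : F.IsSaturated p)
    {ι : S →* G} (hR : F.IsRealizedBy ι) (R : Sylow p G) (hRι : (R : Subgroup G) = ι.range)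
    (N : Subgroup G) [hNn : N.Normal] (T : Subgroup Ω)
    (hmemT : ∀ x, x ∈ T ↔ x ∈ S ∧ aFun ι x ∈ N) (E : FusionSystem T)
    (hE : ∀ (P : Subgroup Ω) (f : Ω → Ω), Mor E P f ↔
      P ≤ T ∧ ∃ n ∈ N, ∀ x ∈ P, f x ∈ T ∧ aFun ι (f x) = n * aFun ι x * n⁻¹) :
    E.IsNormalIn F p := by
  have hι := hR.1
  have hTS : T ≤ S := fun x hx => ((hmemT x).1 hx).1
  have hTN : ∀ x ∈ T, aFun ι x ∈ N := fun x hx => ((hmemT x).1 hx).2
  have hfinT : Finite T := finite_of_le hTS
  have hRr : ∀ y ∈ (R : Subgroup G), y ∈ ι.range := fun y hy => hRι ▸ hy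
  have hrange : ∀ x ∈ S, aFun ι x ∈ (R : Subgroup G) := fun x hx => by
    rw [hRι]
    exact aFun_mem_range ι hx
  have hT' : ∀ x ∈ T, aFun ι x ∈ (R : Subgroup G) ⊓ N := fun x hx =>
    ⟨hrange x (hTS hx), hTN x hx⟩
  have hbkT : ∀ y ∈ (R : Subgroup G) ⊓ N, bk ι y ∈ T := by
    intro y hy
    have hy1 : y ∈ ι.range := hRr _ hy.1
    rw [hmemT]
    exact ⟨bk_mem ι hy1, by rw [aFun_bk ι hy1]; exact hy.2⟩
  have hsylT : ∃ R' : Sylow p N, (R' : Subgroup N) = ((R : Subgroup G) ⊓ N).subgroupOf N := by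
    apply sylCard_exists
    exact sylCard_inf (sylCard_of_sylow R) le_top (fun k _ n hn => hNn.conj_mem n hn k)
  have hcjT : ∀ (m : G) (x : Ω), m * aFun ι x * m⁻¹ ∈ (R : Subgroup G) ⊓ N → cj ι m x ∈ T := by
    intro m x h
    rw [hmemT]
    have h1 := hRr _ h.1
    exact ⟨cj_mem ι h1, by rw [aFun_cj ι h1]; exact h.2⟩
  have hEsat : E.IsSaturated p := by
    obtain ⟨R', hR'⟩ := hsylT
    have hcod : ∀ x : T, (ι.comp (Subgroup.inclusion hTS)) x ∈ N := by
      intro x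
      have h1 := hTN x x.2
      rw [aFun_apply' ι (hTS x.2)] at h1
      exact h1
    obtain ⟨ιT, hιT⟩ : ∃ ιT : T →* N, ∀ x : T, ((ιT x : N) : G) = aFun ι (x : Ω) :=
      ⟨(ι.comp (Subgroup.inclusion hTS)).codRestrict N hcod,
        fun x => (aFun_apply' ι (hTS x.2)).symm⟩
    refine saturated_of_realized p E (ι := ιT) ⟨?_, ?_⟩ R' ?_
    · intro x y hxy
      have h1 : aFun ι (x : Ω) = aFun ι (y : Ω) := by rw [← hιT, ← hιT, hxy]
      exact Subtype.ext (aFun_inj hι (hTS x.2) (hTS y.2) h1)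
    · intro P hP φ hφ
      constructor
      · intro h
        obtain ⟨-, n, hn, h2⟩ := (hE P _).1 (mor_of_hom h)
        refine ⟨⟨n, hn⟩, fun x => ?_⟩
        apply Subtype.ext
        have h3 := (h2 x x.2).2
        rw [extFun_apply] at h3
        rw [hιT]
        show aFun ι (φ x) = n * ((ιT ⟨x, hP x.2⟩ : N) : G) * n⁻¹
        rw [hιT]
        exact h3
      · rintro ⟨g, hg⟩
        have h1 : Mor E P (extFun P φ) := by
          refine (hE P _).2 ⟨hP, g, g.2, fun x hx => ?_⟩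
          rw [extFun_apply' _ _ hx]
          refine ⟨hφ _, ?_⟩
          have h2 := congrArg Subtype.val (hg ⟨x, hx⟩)
          rw [hιT] at h2
          rw [h2]
          show ((g : G) * ((ιT ⟨x, hP hx⟩ : N) : G) * (g : G)⁻¹) = _
          rw [hιT]
        exact h1.hom φ (fun x => (extFun_apply P φ x).symm)
    · rw [hR']
      ext y
      rw [Subgroup.mem_subgroupOf]
      constructor
      · intro hy
        refine ⟨⟨bk ι y, hbkT _ hy⟩, ?_⟩
        apply Subtype.ext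
        rw [hιT]
        exact aFun_bk ι (hRr _ hy.1)
      · rintro ⟨x, rfl⟩
        rw [hιT]
        exact hT' x x.2
  refine ⟨⟨hEsat, hF, ⟨?_, ?_, ?_, ?_⟩⟩, ?_⟩
  · intro P φ hφ
    obtain ⟨hP, n, hn, h⟩ := (hE P _).1 (mor_of_hom hφ)
    have h1 : Mor F P (extFun P φ) := (real_mor_iff hR).2 ⟨hP.trans hTS, n, fun x hx =>
      ⟨hTS (h x hx).1, (h x hx).2⟩⟩
    exact h1.hom φ (fun x => (extFun_apply P φ x).symm)
  · refine ⟨hTS, ?_⟩
    intro Q hQ φ hφ x
    obtain ⟨-, g, hg⟩ := (real_mor_iff hR).1 (mor_of_hom hφ)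
    have h1 := hg x x.2
    rw [extFun_apply] at h1
    rw [hmemT]
    refine ⟨h1.1, ?_⟩
    rw [h1.2]
    exact hNn.conj_mem _ (hTN _ (hQ x.2)) g
  · intro P hPT φ hφ α hα
    obtain ⟨-, n, hn, hφn⟩ := (hE P _).1 (mor_of_hom hφ)
    have hαm : Mor F T (autFun T α) := (mem_autGroup_iff _ hTS α).mp hα
    obtain ⟨-, g, hαg⟩ := (real_mor_iff hR).1 hαm
    have hφn' : ∀ x : P, φ x ∈ T ∧ aFun ι (φ x) = n * aFun ι (x : Ω) * n⁻¹ := fun x => by
      have h1 := hφn x x.2
      rwa [extFun_apply] at h1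
    have hαg' : ∀ x : T, aFun ι ((α x : T) : Ω) = g * aFun ι (x : Ω) * g⁻¹ := fun x => by
      have h1 := (hαg x x.2).2
      rwa [autFun_apply] at h1
    have hkey : ∀ x : P, (g * n * g⁻¹) * aFun ι ((α ⟨x, hPT x.2⟩ : T) : Ω) * (g * n * g⁻¹)⁻¹ =
        aFun ι ((α ⟨φ x, (hφn' x).1⟩ : T) : Ω) := by
      intro x
      rw [hαg', hαg']
      show _ = g * aFun ι (φ x) * g⁻¹
      rw [(hφn' x).2]
      show g * n * g⁻¹ * (g * aFun ι (x : Ω) * g⁻¹) * (g * n * g⁻¹)⁻¹ = _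
      group
    have hmor : Mor E ((P.subgroupOf T).map (T.subtype.comp α.toMonoidHom))
        (cj ι (g * n * g⁻¹)) := by
      refine (hE _ _).2 ⟨?_, g * n * g⁻¹, hNn.conj_mem n hn g, ?_⟩
      · rintro _ ⟨y, -, rfl⟩
        exact (α y).2
      · rintro _ ⟨y, hy, rfl⟩
        have h1 := hkey ⟨y, Subgroup.mem_subgroupOf.mp hy⟩
        have h2 : g * n * g⁻¹ * aFun ι ((α y : T) : Ω) * (g * n * g⁻¹)⁻¹ ∈ ι.range := by
          rw [h1]
          exact aFun_mem_range ι (hTS (α _).2)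
        refine ⟨?_, aFun_cj ι h2⟩
        apply hcjT
        show g * n * g⁻¹ * aFun ι ((α y : T) : Ω) * (g * n * g⁻¹)⁻¹ ∈ _
        rw [h1]
        exact hT' _ (α _).2
    obtain ⟨χ, hχ, hχf⟩ := hmor
    refine ⟨χ, hχ, ?_⟩
    intro x hφx hαx
    rw [hχf]
    show bk ι (g * n * g⁻¹ * aFun ι ((α ⟨x, hPT x.2⟩ : T) : Ω) * (g * n * g⁻¹)⁻¹) = _
    rw [hkey x]
    exact bk_aFun hι (hTS (α _).2)
  · intro P hPT φ hφ
    obtain ⟨-, g, hφg⟩ := (real_mor_iff hR).1 (mor_of_hom hφ)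
    have hφg' : ∀ x : P, φ x ∈ S ∧ aFun ι (φ x) = g * aFun ι (x : Ω) * g⁻¹ := fun x => by
      have h1 := hφg x x.2
      rwa [extFun_apply] at h1
    obtain ⟨R', hR'⟩ := hsylT
    have hfr := Sylow.normalizer_sup_eq_top R'
    have hmapR : (R' : Subgroup N).map N.subtype = (R : Subgroup G) ⊓ N := by
      rw [hR']
      exact Subgroup.map_subgroupOf_eq_of_le inf_le_right
    rw [hmapR] at hfr
    have hg : g ∈ Subgroup.normalizer ((((R : Subgroup G) ⊓ N : Subgroup G)) : Set G) ⊔ N :=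
      hfr ▸ Subgroup.mem_top g
    obtain ⟨m, hm, h, hh, rfl⟩ := Subgroup.mem_sup_of_normal_right.mp hg
    have hc : ∀ x ∈ P, h * aFun ι x * h⁻¹ ∈ (R : Subgroup G) ⊓ N := by
      intro x hx
      have h1 : m * h * aFun ι x * (m * h)⁻¹ ∈ (R : Subgroup G) ⊓ N := by
        have h2 := hφg' ⟨x, hx⟩
        refine ⟨?_, hNn.conj_mem _ (hTN x (hPT hx)) _⟩
        rw [← h2.2]
        exact hrange _ h2.1
      have h3 := (Subgroup.mem_normalizer_iff.mp (Subgroup.inv_mem _ hm) _).mp h1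
      have h4 : m⁻¹ * (m * h * aFun ι x * (m * h)⁻¹) * m⁻¹⁻¹ = h * aFun ι x * h⁻¹ := by group
      rwa [h4] at h3
    have hcm : ∀ x ∈ T, m * aFun ι x * m⁻¹ ∈ (R : Subgroup G) ⊓ N := fun x hx =>
      (Subgroup.mem_normalizer_iff.mp hm _).mp (hT' x hx)
    have hαm : Mor F T (cj ι m) := mor_cj hR hTS m (fun x hx => hRr _ (hcm x hx).1)
    obtain ⟨α, hα, hαm'⟩ := exists_aut_of_mor hαm (fun x hx => hcjT m x (hcm x hx))
    have hmor : Mor E P (cj ι h) := (hE P _).2 ⟨hPT, h, hh, fun x hx =>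
      ⟨hcjT h x (hc x hx), aFun_cj ι (hRr _ (hc x hx).1)⟩⟩
    obtain ⟨φ₀, hφ₀, hφ₀f⟩ := hmor
    refine ⟨α, hα, φ₀, hφ₀, ?_⟩
    intro x hx
    rw [hαm']
    show φ x = cj ι m (φ₀ x)
    rw [hφ₀f]
    have h5 : aFun ι (cj ι h x) = h * aFun ι (x : Ω) * h⁻¹ := aFun_cj ι (hRr _ (hc x x.2).1)
    show φ x = bk ι (m * aFun ι (cj ι h x) * m⁻¹)
    rw [h5]
    have h6 : m * (h * aFun ι (x : Ω) * h⁻¹) * m⁻¹ = aFun ι (φ x) := by
      rw [(hφg' x).2]
      group
    rw [h6, bk_aFun hι (hφg' x).1]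
  · intro α hα
    have hαm : Mor E T (autFun T α) := (mem_autGroup_iff _ le_rfl α).mp hα
    obtain ⟨-, n, hn, hnT⟩ := (hE T _).1 hαm
    have hαn : ∀ x : T, aFun ι ((α x : T) : Ω) = n * aFun ι (x : Ω) * n⁻¹ := fun x => by
      have h1 := (hnT x x.2).2
      rwa [autFun_apply] at h1
    obtain ⟨T', hT'def⟩ : ∃ T' : Subgroup G, T' = (R : Subgroup G) ⊓ N := ⟨_, rfl⟩
    have hT'' : ∀ x ∈ T, aFun ι x ∈ T' := fun x hx => hT'def ▸ hT' x hx
    have hbkT' : ∀ y ∈ T', bk ι y ∈ T ∧ aFun ι (bk ι y) = y := by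
      intro y hy
      rw [hT'def] at hy
      exact ⟨hbkT y hy, aFun_bk ι (hRr _ hy.1)⟩
    have hnN : n ∈ Subgroup.normalizer (T' : Set G) := by
      apply mem_normalizer_of_conj_le T'
      intro y hy
      have hb1 : bk ι y ∈ T := (hbkT' y hy).1
      have hb2 : aFun ι (bk ι y) = y := (hbkT' y hy).2
      have h1 := hαn ⟨bk ι y, hb1⟩
      have h2 : n * y * n⁻¹ = aFun ι ((α ⟨bk ι y, hb1⟩ : T) : Ω) := by
        rw [h1]
        show n * y * n⁻¹ = n * aFun ι (bk ι y) * n⁻¹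
        rw [hb2]
      rw [h2]
      exact hT'' _ (α _).2
    obtain ⟨d, hdN, hdc, hd⟩ := ext_aux R N T' hT'def hn hnN
    have hCS : centralizerIn S T ≤ S := inf_le_left
    have hCc : centralizerIn S T ≤ Subgroup.centralizer (T : Set Ω) := inf_le_right
    have haC : ∀ c ∈ centralizerIn S T,
        aFun ι c ∈ (R : Subgroup G) ⊓ Subgroup.centralizer (T' : Set G) := by
      intro c hc
      refine ⟨hrange c (hCS hc), Subgroup.mem_centralizer_iff.2 ?_⟩
      intro y hy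
      have h1 := Subgroup.mem_centralizer_iff.mp (hCc hc) (bk ι y) (hbkT' y hy).1
      have h2 := congrArg (aFun ι) h1
      rw [aFun_mul ι (hTS (hbkT' y hy).1) (hCS hc), aFun_mul ι (hCS hc) (hTS (hbkT' y hy).1),
        (hbkT' y hy).2] at h2
      exact h2
    have hbC : ∀ y ∈ (R : Subgroup G) ⊓ Subgroup.centralizer (T' : Set G),
        bk ι y ∈ centralizerIn S T := by
      intro y hy
      have hy1 := hRr _ hy.1
      refine ⟨bk_mem ι hy1, Subgroup.mem_centralizer_iff.2 ?_⟩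
      intro t ht
      apply aFun_inj hι (S.mul_mem (hTS ht) (bk_mem ι hy1)) (S.mul_mem (bk_mem ι hy1) (hTS ht))
      rw [aFun_mul ι (hTS ht) (bk_mem ι hy1), aFun_mul ι (bk_mem ι hy1) (hTS ht), aFun_bk ι hy1]
      exact Subgroup.mem_centralizer_iff.mp hy.2 _ (hT'' t ht)
    have hmT : ∀ t ∈ T, d * n * aFun ι t * (d * n)⁻¹ = n * aFun ι t * n⁻¹ := by
      intro t ht
      have h4 : n * aFun ι t * n⁻¹ ∈ T' := conj_mem_of_mem_normalizer hnN (hT'' t ht)
      have h5 := Subgroup.mem_centralizer_iff.mp hdc _ h4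
      calc d * n * aFun ι t * (d * n)⁻¹ = d * (n * aFun ι t * n⁻¹) * d⁻¹ := by group
        _ = n * aFun ι t * n⁻¹ * d * d⁻¹ := by rw [← h5]
        _ = n * aFun ι t * n⁻¹ := by group
    have hdecomp : ∀ z ∈ T ⊔ centralizerIn S T, ∃ t ∈ T, ∃ c ∈ centralizerIn S T, z = t * c := by
      intro z hz
      refine exists_mul_of_mem_sup ?_ hz
      intro x hx q hq
      have h1 := Subgroup.mem_centralizer_iff.mp (hCc hq) x hx
      have h2 : x * q * x⁻¹ = q := by rw [h1]; group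
      rw [h2]
      exact hq
    have hTCS : T ⊔ centralizerIn S T ≤ S := sup_le hTS hCS
    have hz1 : ∀ z ∈ T ⊔ centralizerIn S T, d * n * aFun ι z * (d * n)⁻¹ ∈ ι.range ∧
        cj ι (d * n) z ∈ T ⊔ centralizerIn S T := by
      intro z hz
      obtain ⟨t, ht, c, hc, rfl⟩ := hdecomp z hz
      have h1 : d * n * aFun ι (t * c) * (d * n)⁻¹ =
          (n * aFun ι t * n⁻¹) * (d * n * aFun ι c * (d * n)⁻¹) := by
        rw [aFun_mul ι (hTS ht) (hCS hc), ← hmT t ht]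
        group
      have h2 : n * aFun ι t * n⁻¹ ∈ (R : Subgroup G) ⊓ N :=
        hT'def ▸ conj_mem_of_mem_normalizer hnN (hT'' t ht)
      have h3 := hd _ (haC c hc)
      have h4 : n * aFun ι t * n⁻¹ ∈ ι.range := hRr _ h2.1
      have h5 : d * n * aFun ι c * (d * n)⁻¹ ∈ ι.range := hRr _ h3.1
      refine ⟨by rw [h1]; exact ι.range.mul_mem h4 h5, ?_⟩
      show bk ι (d * n * aFun ι (t * c) * (d * n)⁻¹) ∈ _
      rw [h1, bk_mul hι h4 h5]
      exact Subgroup.mul_mem _ (Subgroup.mem_sup_left (hbkT _ h2))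
        (Subgroup.mem_sup_right (hbC _ h3))
    have hβm : Mor F (T ⊔ centralizerIn S T) (cj ι (d * n)) :=
      mor_cj hR hTCS (d * n) (fun z hz => (hz1 z hz).1)
    have hfinTC : Finite ↥(T ⊔ centralizerIn S T) := finite_of_le hTCS
    obtain ⟨β, hβ, hβm'⟩ := exists_aut_of_mor hβm (fun z hz => (hz1 z hz).2)
    refine ⟨β, hβ, fun t => ?_, fun c hc => ?_⟩
    · rw [hβm']
      show bk ι (d * n * aFun ι (t : Ω) * (d * n)⁻¹) = _
      rw [hmT t t.2, ← hαn t]
      exact bk_aFun hι (hTS (α t).2)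
    · rw [hβm']
      have h3 := hd _ (haC c hc)
      have h5 : d * n * aFun ι (c : Ω) * (d * n)⁻¹ ∈ ι.range := hRr _ h3.1
      have h4 : cj ι (d * n) (c : Ω) ∈ centralizerIn S T := hbC _ h3
      refine ⟨(hmemT _).2 ⟨S.mul_mem (S.inv_mem (hCS hc)) (hCS h4), ?_⟩,
        Subgroup.mul_mem _ (Subgroup.inv_mem _ (hCc hc)) (hCc h4)⟩
      rw [aFun_mul ι (S.inv_mem (hCS hc)) (hCS h4), aFun_inv ι (hCS hc), aFun_cj ι h5]
      have hdn : d * n ∈ N := N.mul_mem hdN hn
      have h6 : (aFun ι (c : Ω))⁻¹ * (d * n * aFun ι (c : Ω) * (d * n)⁻¹) =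
          (aFun ι (c : Ω))⁻¹ * (d * n) * (aFun ι (c : Ω))⁻¹⁻¹ * (d * n)⁻¹ := by group
      rw [h6]
      exact N.mul_mem (hNn.conj_mem _ hdn _) (N.inv_mem hdn)

end Normal

section Main

theorem real_aux {Ω : Type u} [Group Ω] {S : Subgroup Ω} [Finite S] (p : ℕ) [Fact p.Prime]
    (hS : IsPGroup p S) (F : Cfsg.FusionSystem S) (hsimple : F.IsSimple p) :
    ∀ (k : ℕ) (G : Type u) [Group G] [Finite G] (ι : S →* G), Nat.card G = k →
      F.IsRealizedBy ι → (∃ T : Sylow p G, (T : Subgroup G) = ι.range) →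
      ∃ (G' : Type u) (_ : Group G') (_ : Finite G') (_ : IsSimpleGroup G') (ι' : ↥S →* G'),
        F.IsRealizedBy ι' ∧ ∃ T : Sylow p G', (T : Subgroup G') = ι'.range := by
  intro k
  induction k using Nat.strong_induction_on with
  | _ k ih =>
    intro G _ _ ι hk hR hsyl
    by_cases hsg : IsSimpleGroup G
    · exact ⟨G, inferInstance, inferInstance, hsg, ι, hR, hsyl⟩
    have hι := hR.1
    have hnt : Nontrivial G := by
      obtain ⟨a, ha⟩ := (Subgroup.ne_bot_iff_exists_ne_one).1 hsimple.2.1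
      refine ⟨⟨ι a, 1, fun h => ha (hι ?_)⟩⟩
      rw [h, map_one]
    have hex : ∃ N : Subgroup G, N.Normal ∧ N ≠ ⊥ ∧ N ≠ ⊤ := by
      by_contra hcon
      apply hsg
      refine { exists_pair_ne := hnt.exists_pair_ne, eq_bot_or_eq_top_of_normal := ?_ }
      intro N hN
      by_contra h
      rw [not_or] at h
      exact hcon ⟨N, hN, h.1, h.2⟩
    obtain ⟨N, hNn, hNbot, hNtop⟩ := hex
    obtain ⟨R, hRι⟩ := hsyl
    have hnorm : (sysN F hR N).IsNormalIn F p :=
      normal_aux F hsimple.1 hR R hRι N (preimageAlong ι N) (fun x => mem_preimageAlong)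
        (sysN F hR N) (fun P f => mor_sysN_iff F hR N)
    have hsylN : ∃ R' : Sylow p N, (R' : Subgroup N) = ((R : Subgroup G) ⊓ N).subgroupOf N := by
      apply sylCard_exists
      exact sylCard_inf (sylCard_of_sylow R) le_top (fun k _ n hn => hNn.conj_mem n hn k)
    rcases hsimple.2.2 _ _ hnorm with hT | ⟨hT, hHom⟩
    · -- `N` is a `p'`-group: pass to the quotient
      have hRN : ∀ y ∈ ι.range, y ∈ N → y = 1 := by
        rintro _ ⟨s, rfl⟩ hs
        have h1 : (s : Ω) ∈ preimageAlong ι N :=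
          mem_preimageAlong.2 ⟨s.2, by rw [aFun_apply ι s]; exact hs⟩
        rw [hT] at h1
        have h2 : s = 1 := Subtype.ext (Subgroup.mem_bot.1 h1)
        rw [h2, map_one]
      have hlt : Nat.card (G ⧸ N) < k := by
        have h1 := Subgroup.card_eq_card_quotient_mul_card_subgroup N
        have h2 : 1 < Nat.card N := (Subgroup.one_lt_card_iff_ne_bot N).2 hNbot
        have h3 : 0 < Nat.card (G ⧸ N) := Nat.card_pos
        rw [hk] at h1
        nlinarith
      refine ih _ hlt (G ⧸ N) ((QuotientGroup.mk' N).comp ι) rfl ⟨?_, ?_⟩ ?_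
      · rw [injective_iff_map_eq_one]
        intro x hx
        have h1 : ι x ∈ N := (QuotientGroup.eq_one_iff _).1 hx
        have h2 := hRN _ ⟨x, rfl⟩ h1
        apply hι
        rw [h2, map_one]
      · intro P hP φ hφ
        constructor
        · intro h
          obtain ⟨g, hg⟩ := (hR.2 P hP φ hφ).1 h
          refine ⟨QuotientGroup.mk' N g, fun x => ?_⟩
          show QuotientGroup.mk' N (ι ⟨φ x, hφ x⟩) = _
          rw [hg x, map_mul, map_mul, map_inv]
          rfl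
        · rintro ⟨gq, hg⟩
          obtain ⟨g, rfl⟩ := QuotientGroup.mk'_surjective N gq
          obtain ⟨ψ, hψ⟩ : ∃ ψ : P →* G, ∀ x : P, ψ x = g * ι ⟨x, hP x.2⟩ * g⁻¹ :=
            ⟨(MulAut.conj g).toMonoidHom.comp (ι.comp (Subgroup.inclusion hP)), fun x => rfl⟩
          have hmodN : ∀ x : P, (ι ⟨φ x, hφ x⟩)⁻¹ * ψ x ∈ N := by
            intro x
            have h1 := hg x
            have h2 : QuotientGroup.mk' N (ι ⟨φ x, hφ x⟩) = QuotientGroup.mk' N (ψ x) := by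
              rw [hψ, map_mul, map_mul, map_inv]
              exact h1
            exact QuotientGroup.eq.1 h2
          have hDp : IsPGroup p ψ.range :=
            (hS.to_le hP).of_surjective ψ.rangeRestrict ψ.rangeRestrict_surjective
          have hDle : ψ.range ≤ (R : Subgroup G) ⊔ N := by
            rintro _ ⟨x, rfl⟩
            have h1 : ψ x = ι ⟨φ x, hφ x⟩ * ((ι ⟨φ x, hφ x⟩)⁻¹ * ψ x) := by group
            rw [h1]
            refine Subgroup.mul_mem _ (Subgroup.mem_sup_left ?_) (Subgroup.mem_sup_right (hmodN x))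
            rw [hRι]
            exact ⟨_, rfl⟩
          obtain ⟨κ, hκ, hκD⟩ := exists_conj_mem_of_le_sup R N ψ.range hDp hDle
          refine (hR.2 P hP φ hφ).2 ⟨κ * g, fun x => ?_⟩
          have h1 : κ * ψ x * κ⁻¹ ∈ ι.range := hRι ▸ hκD _ ⟨x, rfl⟩
          have h2 : (ι ⟨φ x, hφ x⟩)⁻¹ * (κ * ψ x * κ⁻¹) ∈ N := by
            have h3 : (ι ⟨φ x, hφ x⟩)⁻¹ * (κ * ψ x * κ⁻¹) =
                (ι ⟨φ x, hφ x⟩)⁻¹ * ψ x * ((ψ x)⁻¹ * κ * (ψ x)⁻¹⁻¹ * κ⁻¹) := by group
            rw [h3]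
            exact N.mul_mem (hmodN x) (N.mul_mem (hNn.conj_mem _ hκ _) (N.inv_mem hκ))
          have h4 := hRN _ (ι.range.mul_mem (ι.range.inv_mem ⟨_, rfl⟩) h1) h2
          have h5 : ι ⟨φ x, hφ x⟩ = κ * ψ x * κ⁻¹ := by
            rw [← mul_one (ι ⟨φ x, hφ x⟩), ← h4]
            group
          rw [h5, hψ]
          group
      · refine ⟨R.mapSurjective (QuotientGroup.mk'_surjective N), ?_⟩
        rw [Sylow.coe_mapSurjective, hRι, MonoidHom.range_comp]
    · -- `N` contains the image of `S` and realizes `F`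
      have hSN : ∀ x : S, ι x ∈ N := by
        intro x
        have h1 : (x : Ω) ∈ preimageAlong ι N := by
          rw [hT]
          exact x.2
        have h2 := (mem_preimageAlong.1 h1).2
        rwa [aFun_apply ι x] at h2
      have hlt : Nat.card N < k := by
        rw [← hk]
        refine lt_of_le_of_ne (Subgroup.card_le_card_group N) ?_
        intro h
        exact hNtop ((Subgroup.card_eq_iff_eq_top N).1 h)
      refine ih _ hlt N (ι.codRestrict N hSN) rfl ⟨?_, ?_⟩ ?_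
      · intro x y hxy
        exact hι (congrArg Subtype.val hxy)
      · intro P hP φ hφ
        rw [← hHom P]
        have hP' : P ≤ preimageAlong ι N := by
          rw [hT]
          exact hP
        constructor
        · intro h
          obtain ⟨-, n, hn, h2⟩ := (mor_sysN_iff F hR N).1 (mor_of_hom h)
          refine ⟨⟨n, hn⟩, fun x => ?_⟩
          apply Subtype.ext
          have h3 := (h2 x x.2).2
          rw [extFun_apply, aFun_apply' ι (hφ x), aFun_apply' ι (hP x.2)] at h3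
          exact h3
        · rintro ⟨g, hg⟩
          have h1 : Mor (sysN F hR N) P (extFun P φ) := by
            refine (mor_sysN_iff F hR N).2 ⟨hP', g, g.2, fun x hx => ?_⟩
            rw [extFun_apply' _ _ hx]
            refine ⟨?_, ?_⟩
            · rw [hT]
              exact hφ _
            · have h2 := congrArg Subtype.val (hg ⟨x, hx⟩)
              rw [aFun_apply' ι (hφ _), aFun_apply' ι (hP hx)]
              exact h2
          exact h1.hom φ (fun x => (extFun_apply P φ x).symm)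
      · obtain ⟨R', hR'⟩ := hsylN
        refine ⟨R', ?_⟩
        rw [hR']
        ext y
        rw [Subgroup.mem_subgroupOf]
        constructor
        · intro hy
          have h1 : (y : G) ∈ ι.range := hRι ▸ hy.1
          obtain ⟨x, hx⟩ := h1
          exact ⟨x, Subtype.ext hx⟩
        · rintro ⟨x, rfl⟩
          refine ⟨?_, hSN x⟩
          rw [hRι]
          exact ⟨x, rfl⟩

end Main

/-- Let F be a simple saturated fusion system over a finite p-group S that is realized by some finite group on a Sylow p-subgroup. Then F is realized by a finite simple group on a Sylow p-subgroup. -/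
theorem result {Ω : Type u} [Group Ω] {S : Subgroup Ω} [Finite S] (p : ℕ) [Fact p.Prime] (hS : IsPGroup p S) (F : Cfsg.FusionSystem S) (hsimple : F.IsSimple p) (hreal : F.IsRealizable p) : ∃ (G : Type u) (_ : Group G) (_ : Finite G) (_ : IsSimpleGroup G) (ι : ↥S →* G), F.IsRealizedBy ι ∧ ∃ T : Sylow p G, (T : Subgroup G) = ι.range := by
  obtain ⟨G, _, _, ι, hR, hsyl⟩ := hreal
  exact real_aux p hS F hsimple (Nat.card G) G ι rfl hR hsyl

end Cfsg.Agent.S5343
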