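import Cfsg.Statements.S5421
import Cfsg.Agent.Lib.Helper92.LargeExtra

set_option autoImplicit false
open Cfsg

namespace Cfsg.Agent.S5421

open Cfsg.Agent.Lib.Helper92

theorem result {G : Type*} [Group G] [Finite G] (Q : Subgroup G) (hL1 : Cfsg.IsExtraspecial 2 ↥Q) (hL2 : Subgroup.centralizer (Q : Set G) = ((Subgroup.center ↥Q).map Q.subtype)) (hL3 : Subgroup.centralizer (((Subgroup.center ↥Q).map Q.subtype) : Set G) ≤ Subgroup.normalizer (Q : Set G)) (b : G) (hbQ : b ∈ Q) (hbZ : b ∉ ((Subgroup.center ↥Q).map Q.subtype)) (hb : orderOf b = 2) (hZ : ((Subgroup.center ↥Q).map Q.subtype) ≤ (Cfsg.pCore 2 ↥(Subgroup.centralizer ({b} : Set G))).map (Subgroup.centralizer ({b} : Set G)).subtype) : Cfsg.IsLargeExtraspecial Q := by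
  refine ⟨hL1, hL2, hL3, ?_⟩
  intro K hK hQK
  have : Fact (Nat.Prime 2) := ⟨Nat.prime_two⟩
  have hQ2 : IsPGroup 2 ↥Q := hL1.1.1
  have hbb : b * b = 1 := by
    have := pow_orderOf_eq_one b
    rwa [hb, pow_two] at this
  apply largeness Q hQ2 hL2 hL3 K hK hQK
  apply odd_le_centralizer_center Q hL1 hbQ hbZ hbb K hK hQK
  intro k hk hbk z hz
  have hT : IsPGroup 2 ((Cfsg.pCore 2 ↥(Subgroup.centralizer ({b} : Set G))).map
      (Subgroup.centralizer ({b} : Set G)).subtype) := (pCore_isPGroup 2).map _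
  have hzT := hZ hz
  have hzQ : z ∈ Q := Subgroup.map_subtype_le _ hz
  have hkC : k ∈ Subgroup.centralizer ({b} : Set G) := mem_centralizer_singleton.mpr hbk
  have hzK : z * k⁻¹ * z⁻¹ ∈ K :=
    ((Subgroup.mem_normalizer_iff.mp (hQK hzQ)) k⁻¹).mp (K.inv_mem hk)
  have hkT : k * z * k⁻¹ ∈ (Cfsg.pCore 2 ↥(Subgroup.centralizer ({b} : Set G))).map
      (Subgroup.centralizer ({b} : Set G)).subtype := by
    obtain ⟨z', hz', rfl⟩ := hzT
    have hn : (Cfsg.pCore 2 ↥(Subgroup.centralizer ({b} : Set G))).Normal := inferInstance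
    exact ⟨⟨k, hkC⟩ * z' * ⟨k, hkC⟩⁻¹, hn.conj_mem z' hz' ⟨k, hkC⟩, rfl⟩
  exact (commute_of_odd_of_two hK hT hk hzT hzK hkT).symm

end Cfsg.Agent.S5421
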