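import Cfsg.Statements.S5522
import Cfsg.Agent.Lib.Helper95.M24Tab
import Cfsg.Agent.Lib.Helper10.M12

set_option autoImplicit false
open Cfsg

namespace Cfsg.Agent.S5522

open Cfsg.Agent.Lib.Helper9 Cfsg.Agent.Lib.Helper95 Cfsg.Agent.Lib.Helper10
open scoped Pointwise

/-- Tables of 110 elements of M₁₁, one for each pair of images of the points 1, 2. -/
def U12 : List (List ℕ) :=
  [[0, 1, 2, 9, 3, 20, 8, 22, 16, 13, 11, 17, 6, 4, 15, 14, 12, 23, 18, 21, 19, 5, 7, 10],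
   [0, 1, 3, 9, 12, 10, 13, 5, 16, 4, 20, 15, 8, 6, 17, 23, 18, 21, 2, 7, 11, 22, 14, 19],
   [0, 1, 4, 12, 2, 14, 9, 7, 18, 6, 10, 17, 3, 13, 5, 15, 16, 11, 8, 20, 19, 21, 23, 22],
   [0, 1, 6, 16, 2, 14, 12, 10, 13, 8, 17, 7, 18, 3, 15, 19, 9, 23, 4, 20, 5, 21, 22, 11],
   [0, 1, 8, 4, 12, 23, 6, 19, 16, 2, 21, 14, 13, 3, 7, 10, 9, 15, 18, 11, 22, 17, 20, 5],
   [0, 1, 9, 3, 13, 17, 12, 15, 18, 8, 14, 5, 4, 6, 10, 23, 16, 21, 2, 7, 22, 11, 20, 19],
   [0, 1, 12, 6, 8, 21, 9, 7, 3, 4, 22, 17, 16, 2, 20, 14, 18, 10, 13, 19, 5, 15, 23, 11],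
   [0, 1, 13, 8, 9, 20, 3, 7, 4, 6, 17, 23, 2, 18, 15, 21, 12, 11, 16, 19, 14, 5, 10, 22],
   [0, 1, 16, 18, 6, 21, 9, 17, 13, 3, 10, 23, 2, 12, 19, 14, 8, 11, 4, 5, 20, 15, 7, 22],
   [0, 1, 18, 8, 2, 19, 3, 11, 13, 4, 23, 22, 12, 6, 20, 14, 16, 7, 9, 5, 21, 15, 17, 10],
   [0, 2, 1, 12, 16, 19, 18, 14, 6, 8, 21, 11, 9, 4, 17, 5, 13, 20, 3, 15, 10, 7, 23, 22],
   [0, 2, 3, 16, 8, 22, 9, 19, 4, 13, 15, 10, 1, 6, 21, 11, 18, 17, 12, 14, 23, 20, 5, 7],
   [0, 2, 4, 12, 9, 15, 18, 20, 1, 6, 11, 22, 13, 8, 19, 10, 3, 14, 16, 7, 5, 17, 21, 23],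
   [0, 2, 6, 13, 16, 7, 18, 11, 1, 9, 21, 14, 8, 3, 10, 5, 12, 22, 4, 15, 17, 19, 23, 20],
   [0, 2, 8, 16, 6, 10, 18, 21, 3, 9, 11, 22, 13, 4, 7, 15, 1, 23, 12, 19, 5, 17, 20, 14],
   [0, 2, 9, 16, 1, 17, 18, 21, 4, 8, 14, 20, 12, 3, 19, 15, 6, 23, 13, 7, 5, 10, 22, 11],
   [0, 2, 12, 9, 1, 7, 13, 21, 6, 4, 14, 20, 16, 18, 5, 19, 8, 22, 3, 10, 15, 17, 11, 23],
   [0, 2, 13, 6, 4, 20, 1, 19, 16, 12, 17, 5, 3, 18, 22, 21, 8, 7, 9, 11, 23, 14, 15, 10],
   [0, 2, 16, 8, 9, 7, 13, 20, 3, 6, 22, 11, 18, 12, 10, 19, 1, 23, 4, 15, 5, 17, 21, 14],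
   [0, 2, 18, 16, 13, 23, 1, 7, 3, 6, 19, 17, 12, 8, 21, 11, 4, 5, 9, 14, 20, 22, 10, 15],
   [0, 3, 1, 12, 8, 15, 4, 20, 18, 2, 5, 7, 9, 13, 22, 14, 6, 21, 16, 19, 17, 11, 10, 23],
   [0, 3, 2, 8, 18, 17, 4, 5, 16, 9, 7, 23, 6, 13, 11, 19, 1, 10, 12, 15, 14, 22, 21, 20],
   [0, 3, 4, 2, 1, 15, 8, 10, 18, 9, 7, 23, 12, 6, 22, 11, 16, 20, 13, 14, 17, 19, 21, 5],
   [0, 3, 6, 16, 9, 10, 13, 14, 12, 18, 17, 15, 8, 1, 7, 23, 2, 19, 4, 20, 21, 5, 22, 11],
   [0, 3, 8, 9, 4, 15, 1, 21, 18, 12, 23, 5, 2, 16, 22, 19, 13, 10, 6, 11, 17, 14, 20, 7],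
   [0, 3, 9, 18, 16, 14, 4, 7, 12, 6, 23, 20, 1, 13, 22, 15, 2, 21, 8, 17, 19, 11, 10, 5],
   [0, 3, 12, 9, 2, 23, 4, 17, 1, 16, 15, 19, 18, 13, 10, 5, 8, 11, 6, 20, 7, 21, 22, 14],
   [0, 3, 13, 12, 8, 10, 16, 14, 4, 1, 22, 17, 2, 9, 20, 5, 18, 15, 6, 23, 7, 21, 11, 19],
   [0, 3, 16, 1, 8, 20, 12, 15, 18, 13, 19, 11, 2, 6, 10, 23, 9, 22, 4, 7, 21, 5, 17, 14],
   [0, 3, 18, 1, 8, 10, 6, 17, 2, 12, 22, 14, 4, 9, 5, 20, 13, 15, 16, 21, 7, 23, 19, 11],
   [0, 4, 1, 6, 3, 15, 12, 5, 2, 9, 21, 23, 16, 18, 10, 20, 8, 19, 13, 14, 7, 11, 17, 22],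
   [0, 4, 2, 3, 6, 15, 8, 19, 1, 9, 17, 23, 13, 18, 20, 10, 12, 5, 16, 7, 14, 11, 21, 22],
   [0, 4, 3, 1, 18, 11, 6, 22, 9, 16, 17, 21, 8, 12, 20, 15, 13, 19, 2, 14, 10, 7, 5, 23],
   [0, 4, 6, 3, 8, 22, 18, 15, 16, 9, 11, 10, 12, 2, 23, 21, 1, 7, 13, 5, 19, 17, 20, 14],
   [0, 4, 8, 18, 6, 11, 1, 23, 2, 3, 19, 17, 16, 9, 20, 10, 13, 21, 12, 15, 14, 7, 22, 5],
   [0, 4, 9, 3, 2, 7, 12, 21, 13, 16, 23, 22, 8, 18, 11, 14, 1, 17, 6, 15, 20, 10, 19, 5],
   [0, 4, 12, 6, 1, 20, 2, 23, 3, 18, 17, 22, 9, 13, 7, 11, 8, 5, 16, 15, 10, 14, 21, 19],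
   [0, 4, 13, 1, 12, 20, 16, 19, 6, 2, 21, 22, 8, 3, 10, 7, 18, 17, 9, 11, 14, 15, 23, 5],
   [0, 4, 16, 13, 1, 15, 9, 23, 8, 18, 22, 17, 2, 6, 11, 7, 3, 19, 12, 20, 10, 14, 21, 5],
   [0, 4, 18, 12, 2, 10, 3, 21, 16, 13, 22, 23, 6, 9, 11, 20, 1, 17, 8, 15, 14, 7, 5, 19],
   [0, 6, 1, 8, 13, 11, 2, 23, 12, 4, 10, 14, 3, 9, 5, 22, 16, 17, 18, 7, 15, 21, 20, 19],
   [0, 6, 2, 1, 3, 23, 13, 22, 4, 12, 11, 15, 9, 18, 19, 14, 8, 21, 16, 20, 17, 10, 5, 7],
   [0, 6, 3, 8, 16, 22, 1, 17, 4, 13, 14, 10, 9, 2, 21, 11, 12, 19, 18, 15, 5, 7, 23, 20],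
   [0, 6, 4, 3, 18, 7, 2, 10, 12, 13, 20, 17, 9, 16, 22, 15, 8, 14, 1, 11, 21, 5, 19, 23],
   [0, 6, 8, 16, 9, 5, 18, 14, 1, 4, 17, 23, 3, 2, 15, 7, 12, 20, 13, 22, 21, 11, 19, 10],
   [0, 6, 9, 18, 16, 19, 8, 11, 3, 1, 5, 21, 12, 2, 17, 10, 4, 22, 13, 20, 14, 23, 15, 7],
   [0, 6, 12, 2, 1, 17, 18, 15, 3, 4, 5, 21, 13, 8, 14, 20, 16, 11, 9, 23, 19, 10, 22, 7],
   [0, 6, 13, 12, 16, 22, 8, 14, 2, 18, 10, 17, 4, 9, 11, 5, 1, 23, 3, 15, 21, 7, 20, 19],
   [0, 6, 16, 12, 18, 17, 8, 5, 4, 1, 11, 7, 9, 3, 19, 14, 13, 21, 2, 10, 23, 20, 22, 15],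
   [0, 6, 18, 8, 1, 10, 3, 21, 12, 2, 15, 5, 9, 4, 14, 20, 13, 22, 16, 17, 19, 23, 7, 11],
   [0, 8, 1, 13, 9, 11, 18, 7, 6, 16, 17, 14, 2, 12, 15, 23, 3, 22, 4, 10, 21, 19, 5, 20],
   [0, 8, 2, 6, 1, 23, 3, 20, 16, 18, 14, 5, 4, 9, 15, 21, 13, 22, 12, 11, 19, 10, 7, 17],
   [0, 8, 3, 9, 4, 7, 18, 23, 1, 13, 21, 19, 2, 6, 22, 5, 12, 10, 16, 20, 17, 14, 11, 15],
   [0, 8, 4, 2, 9, 22, 18, 21, 12, 13, 23, 15, 3, 1, 7, 17, 16, 19, 6, 5, 14, 20, 10, 11],
   [0, 8, 6, 16, 9, 10, 1, 17, 18, 12, 14, 7, 3, 13, 15, 23, 4, 20, 2, 19, 21, 11, 22, 5],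
   [0, 8, 9, 18, 4, 23, 16, 7, 1, 2, 14, 20, 12, 13, 10, 15, 6, 17, 3, 21, 11, 19, 22, 5],
   [0, 8, 12, 3, 6, 17, 16, 11, 1, 18, 15, 21, 4, 2, 7, 5, 9, 23, 13, 20, 22, 14, 10, 19],
   [0, 8, 13, 12, 6, 11, 3, 17, 1, 2, 20, 14, 18, 9, 10, 19, 4, 7, 16, 21, 23, 15, 22, 5],
   [0, 8, 16, 6, 4, 20, 2, 23, 12, 13, 19, 21, 18, 9, 5, 22, 1, 15, 3, 7, 17, 14, 11, 10],
   [0, 8, 18, 1, 6, 20, 2, 21, 3, 12, 15, 11, 9, 16, 7, 22, 4, 10, 13, 17, 5, 14, 23, 19],
   [0, 9, 1, 4, 3, 20, 6, 14, 2, 12, 15, 17, 13, 16, 22, 19, 18, 21, 8, 5, 11, 10, 23, 7],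
   [0, 9, 2, 6, 3, 21, 12, 22, 18, 8, 11, 19, 1, 16, 17, 14, 13, 20, 4, 23, 15, 7, 10, 5],
   [0, 9, 3, 4, 1, 11, 8, 15, 12, 2, 14, 21, 13, 18, 5, 19, 16, 17, 6, 22, 20, 10, 23, 7],
   [0, 9, 4, 16, 2, 20, 18, 15, 1, 13, 7, 17, 6, 3, 5, 10, 8, 14, 12, 11, 19, 22, 21, 23],
   [0, 9, 6, 4, 13, 21, 18, 22, 2, 3, 5, 10, 8, 1, 14, 15, 16, 11, 12, 7, 23, 17, 20, 19],
   [0, 9, 8, 12, 4, 22, 16, 7, 1, 13, 14, 15, 18, 2, 11, 20, 3, 17, 6, 5, 10, 19, 23, 21],
   [0, 9, 12, 6, 2, 14, 18, 19, 3, 16, 10, 5, 8, 4, 15, 7, 13, 22, 1, 21, 17, 23, 11, 20],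
   [0, 9, 13, 1, 3, 5, 8, 14, 18, 2, 15, 17, 4, 6, 11, 22, 12, 23, 16, 10, 19, 20, 7, 21],
   [0, 9, 16, 8, 3, 5, 12, 17, 4, 13, 14, 15, 6, 18, 19, 11, 1, 21, 2, 10, 22, 20, 23, 7],
   [0, 9, 18, 6, 2, 19, 8, 23, 16, 1, 14, 21, 13, 3, 22, 11, 12, 7, 4, 5, 20, 10, 15, 17],
   [0, 12, 1, 13, 3, 7, 6, 11, 18, 2, 17, 15, 16, 8, 14, 22, 9, 23, 4, 10, 19, 21, 5, 20],
   [0, 12, 2, 18, 6, 20, 13, 21, 1, 16, 22, 7, 4, 9, 5, 11, 8, 14, 3, 23, 15, 17, 19, 10],
   [0, 12, 3, 6, 16, 10, 4, 20, 9, 8, 23, 15, 2, 1, 22, 7, 13, 5, 18, 21, 19, 14, 11, 17],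
   [0, 12, 4, 9, 2, 10, 6, 20, 18, 1, 11, 23, 13, 16, 21, 14, 8, 15, 3, 7, 22, 19, 17, 5],
   [0, 12, 6, 9, 3, 15, 2, 7, 16, 8, 21, 10, 13, 1, 20, 5, 18, 22, 4, 11, 23, 17, 19, 14],
   [0, 12, 8, 3, 4, 19, 9, 11, 18, 1, 15, 20, 6, 2, 7, 10, 16, 23, 13, 21, 14, 22, 5, 17],
   [0, 12, 9, 3, 18, 14, 1, 15, 13, 8, 17, 20, 2, 16, 10, 21, 6, 23, 4, 7, 22, 19, 5, 11],
   [0, 12, 13, 9, 6, 17, 1, 7, 2, 18, 21, 22, 3, 16, 5, 11, 4, 19, 8, 20, 15, 23, 10, 14],
   [0, 12, 16, 1, 8, 23, 2, 22, 4, 9, 7, 14, 6, 3, 5, 20, 18, 19, 13, 15, 17, 11, 21, 10],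
   [0, 12, 18, 2, 9, 10, 8, 15, 4, 1, 17, 23, 3, 16, 14, 21, 6, 20, 13, 22, 7, 19, 11, 5],
   [0, 13, 1, 2, 12, 19, 16, 15, 3, 4, 5, 23, 6, 9, 11, 20, 18, 14, 8, 21, 17, 7, 22, 10],
   [0, 13, 2, 4, 1, 21, 8, 23, 9, 18, 22, 10, 16, 6, 7, 11, 12, 14, 3, 20, 17, 19, 15, 5],
   [0, 13, 3, 12, 1, 15, 6, 11, 8, 9, 17, 7, 16, 18, 10, 22, 2, 19, 4, 14, 23, 5, 21, 20],
   [0, 13, 4, 18, 12, 19, 2, 5, 9, 8, 23, 15, 3, 6, 20, 17, 16, 22, 1, 21, 11, 7, 10, 14],
   [0, 13, 6, 16, 3, 7, 4, 15, 2, 12, 22, 14, 18, 1, 17, 11, 8, 5, 9, 21, 19, 20, 10, 23],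
   [0, 13, 8, 9, 6, 20, 16, 22, 2, 12, 5, 15, 4, 3, 21, 7, 1, 14, 18, 17, 11, 19, 23, 10],
   [0, 13, 9, 18, 3, 5, 4, 19, 1, 16, 11, 17, 8, 6, 15, 22, 12, 20, 2, 10, 14, 23, 21, 7],
   [0, 13, 12, 4, 8, 22, 9, 19, 16, 2, 21, 11, 1, 18, 15, 10, 6, 7, 3, 14, 23, 5, 20, 17],
   [0, 13, 16, 6, 9, 23, 2, 20, 3, 8, 19, 11, 1, 4, 5, 22, 18, 7, 12, 15, 10, 14, 21, 17],
   [0, 13, 18, 12, 9, 21, 3, 10, 8, 4, 22, 5, 1, 2, 11, 20, 6, 15, 16, 17, 19, 7, 23, 14],
   [0, 16, 1, 13, 4, 10, 6, 23, 3, 9, 22, 19, 2, 18, 21, 17, 12, 7, 8, 11, 5, 14, 20, 15],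
   [0, 16, 2, 6, 18, 19, 8, 10, 9, 13, 17, 21, 1, 3, 22, 15, 4, 5, 12, 7, 20, 23, 11, 14],
   [0, 16, 3, 1, 18, 10, 2, 7, 4, 8, 23, 19, 9, 13, 14, 5, 6, 20, 12, 21, 11, 17, 15, 22],
   [0, 16, 4, 9, 12, 5, 6, 22, 13, 2, 19, 7, 3, 1, 14, 21, 18, 23, 8, 17, 10, 11, 15, 20],
   [0, 16, 6, 8, 1, 5, 18, 7, 2, 4, 22, 23, 12, 9, 10, 11, 13, 15, 3, 21, 17, 14, 19, 20],
   [0, 16, 8, 13, 18, 22, 6, 5, 4, 2, 14, 11, 1, 12, 19, 7, 3, 17, 9, 20, 23, 15, 21, 10],
   [0, 16, 9, 1, 4, 22, 2, 11, 6, 12, 10, 14, 8, 18, 15, 20, 13, 5, 3, 19, 7, 23, 21, 17],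
   [0, 16, 12, 1, 13, 23, 2, 11, 18, 9, 17, 21, 3, 6, 19, 20, 4, 5, 8, 15, 7, 22, 14, 10],
   [0, 16, 13, 2, 3, 15, 8, 10, 4, 6, 5, 21, 9, 12, 20, 23, 1, 14, 18, 22, 7, 19, 11, 17],
   [0, 16, 18, 12, 9, 23, 8, 11, 2, 3, 5, 10, 6, 4, 22, 19, 13, 14, 1, 7, 20, 15, 21, 17],
   [0, 18, 1, 2, 12, 22, 4, 23, 16, 9, 11, 5, 8, 3, 15, 17, 6, 7, 13, 10, 20, 21, 19, 14],
   [0, 18, 2, 1, 12, 22, 9, 11, 3, 4, 23, 5, 8, 16, 15, 20, 13, 14, 6, 21, 17, 10, 19, 7],
   [0, 18, 3, 2, 9, 19, 1, 15, 16, 13, 17, 21, 12, 6, 23, 14, 4, 22, 8, 11, 7, 5, 20, 10],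
   [0, 18, 4, 2, 1, 17, 16, 5, 12, 3, 19, 14, 9, 13, 20, 21, 6, 23, 8, 22, 15, 10, 11, 7],
   [0, 18, 6, 8, 13, 14, 1, 20, 4, 9, 17, 21, 12, 3, 11, 19, 16, 10, 2, 23, 7, 5, 15, 22],
   [0, 18, 8, 2, 16, 14, 4, 20, 6, 13, 22, 15, 9, 12, 19, 7, 3, 17, 1, 5, 23, 11, 10, 21],
   [0, 18, 9, 8, 3, 10, 12, 19, 2, 4, 11, 14, 13, 1, 17, 22, 16, 5, 6, 20, 15, 21, 7, 23],
   [0, 18, 12, 8, 9, 22, 2, 14, 3, 1, 7, 23, 4, 6, 15, 21, 16, 19, 13, 10, 17, 20, 11, 5],
   [0, 18, 13, 6, 1, 21, 9, 7, 12, 2, 11, 23, 4, 16, 10, 17, 8, 19, 3, 20, 22, 15, 14, 5],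
   [0, 18, 16, 2, 6, 5, 8, 17, 4, 9, 10, 20, 1, 13, 23, 14, 3, 21, 12, 11, 19, 7, 22, 15]]

/-- Tables of 72 elements of M₁₁ fixing 1 and 2, one for each pair of images of the points 3, 4. -/
def U34 : List (List ℕ) :=
  [[0, 1, 2, 3, 4, 5, 6, 7, 8, 9, 10, 11, 12, 13, 14, 15, 16, 17, 18, 19, 20, 21, 22, 23],
   [0, 1, 2, 3, 6, 14, 12, 22, 13, 4, 11, 7, 9, 16, 5, 21, 18, 23, 8, 20, 15, 19, 10, 17],
   [0, 1, 2, 3, 8, 17, 18, 15, 12, 13, 19, 21, 16, 6, 23, 10, 4, 5, 9, 7, 11, 22, 20, 14],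
   [0, 1, 2, 3, 9, 14, 4, 11, 18, 12, 22, 10, 6, 8, 5, 20, 13, 23, 16, 21, 19, 15, 7, 17],
   [0, 1, 2, 3, 12, 5, 9, 10, 16, 6, 7, 22, 4, 18, 14, 19, 8, 17, 13, 15, 21, 20, 11, 23],
   [0, 1, 2, 3, 13, 23, 8, 21, 9, 16, 20, 19, 18, 12, 17, 11, 6, 14, 4, 22, 7, 10, 15, 5],
   [0, 1, 2, 3, 16, 17, 13, 19, 4, 18, 15, 20, 8, 9, 23, 7, 12, 5, 6, 10, 22, 11, 21, 14],
   [0, 1, 2, 3, 18, 23, 16, 20, 6, 8, 21, 15, 13, 4, 17, 22, 9, 14, 12, 11, 10, 7, 19, 5],
   [0, 1, 2, 4, 3, 15, 13, 10, 18, 16, 7, 23, 12, 6, 21, 5, 9, 17, 8, 19, 20, 14, 22, 11],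
   [0, 1, 2, 4, 6, 11, 18, 14, 16, 9, 20, 19, 8, 12, 17, 23, 13, 21, 3, 22, 10, 7, 5, 15],
   [0, 1, 2, 4, 8, 11, 9, 20, 13, 18, 14, 5, 6, 3, 17, 22, 16, 21, 12, 23, 7, 10, 19, 15],
   [0, 1, 2, 4, 9, 17, 6, 19, 3, 8, 5, 20, 18, 16, 11, 10, 12, 15, 13, 7, 22, 23, 14, 21],
   [0, 1, 2, 4, 12, 15, 16, 7, 9, 13, 10, 22, 3, 8, 21, 19, 18, 17, 6, 5, 14, 20, 23, 11],
   [0, 1, 2, 4, 13, 21, 12, 22, 6, 3, 23, 10, 16, 9, 15, 14, 8, 11, 18, 20, 5, 19, 7, 17],
   [0, 1, 2, 4, 16, 21, 3, 23, 8, 12, 22, 7, 13, 18, 15, 20, 6, 11, 9, 14, 19, 5, 10, 17],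
   [0, 1, 2, 4, 18, 17, 8, 5, 12, 6, 19, 14, 9, 13, 11, 7, 3, 15, 16, 10, 23, 22, 20, 21],
   [0, 1, 2, 6, 3, 21, 16, 11, 8, 18, 22, 17, 9, 12, 19, 14, 4, 23, 13, 20, 15, 5, 10, 7],
   [0, 1, 2, 6, 4, 23, 12, 20, 3, 13, 14, 15, 8, 18, 7, 11, 9, 21, 16, 22, 10, 17, 5, 19],
   [0, 1, 2, 6, 8, 23, 13, 14, 9, 12, 20, 5, 4, 16, 7, 22, 3, 21, 18, 11, 17, 10, 15, 19],
   [0, 1, 2, 6, 9, 21, 18, 22, 4, 16, 11, 10, 3, 13, 19, 20, 8, 23, 12, 14, 5, 15, 17, 7],
   [0, 1, 2, 6, 12, 7, 8, 5, 18, 4, 15, 20, 13, 9, 23, 17, 16, 19, 3, 10, 11, 22, 14, 21],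
   [0, 1, 2, 6, 13, 7, 4, 15, 16, 8, 5, 14, 12, 3, 23, 10, 18, 19, 9, 17, 22, 11, 20, 21],
   [0, 1, 2, 6, 16, 19, 9, 10, 12, 3, 17, 11, 18, 4, 21, 5, 13, 7, 8, 15, 14, 20, 22, 23],
   [0, 1, 2, 6, 18, 19, 3, 17, 13, 9, 10, 22, 16, 8, 21, 15, 12, 7, 4, 5, 20, 14, 11, 23],
   [0, 1, 2, 8, 3, 10, 6, 19, 9, 4, 15, 14, 16, 18, 22, 17, 13, 5, 12, 7, 11, 23, 20, 21],
   [0, 1, 2, 8, 4, 22, 3, 14, 12, 16, 20, 15, 6, 9, 10, 11, 18, 21, 13, 23, 7, 17, 19, 5],
   [0, 1, 2, 8, 6, 22, 16, 20, 18, 3, 14, 19, 4, 13, 10, 23, 12, 21, 9, 11, 17, 7, 15, 5],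
   [0, 1, 2, 8, 9, 5, 12, 17, 16, 18, 7, 23, 13, 6, 21, 15, 3, 10, 4, 19, 14, 20, 11, 22],
   [0, 1, 2, 8, 12, 21, 13, 11, 6, 9, 23, 17, 18, 3, 5, 20, 4, 22, 16, 14, 15, 19, 7, 10],
   [0, 1, 2, 8, 13, 5, 18, 7, 3, 12, 17, 11, 9, 4, 21, 19, 16, 10, 6, 15, 20, 14, 23, 22],
   [0, 1, 2, 8, 16, 10, 4, 15, 13, 6, 19, 20, 3, 12, 22, 7, 9, 5, 18, 17, 23, 11, 14, 21],
   [0, 1, 2, 8, 18, 21, 9, 23, 4, 13, 11, 7, 12, 16, 5, 14, 6, 22, 3, 20, 19, 15, 17, 10],
   [0, 1, 2, 9, 3, 20, 8, 22, 16, 13, 11, 17, 6, 4, 15, 14, 12, 23, 18, 21, 19, 5, 7, 10],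
   [0, 1, 2, 9, 4, 10, 16, 5, 13, 12, 19, 21, 18, 6, 23, 17, 8, 15, 3, 7, 22, 11, 14, 20],
   [0, 1, 2, 9, 6, 20, 13, 11, 12, 8, 22, 7, 3, 18, 15, 21, 16, 23, 4, 14, 5, 19, 17, 10],
   [0, 1, 2, 9, 8, 15, 6, 7, 4, 3, 17, 22, 13, 12, 20, 5, 18, 10, 16, 19, 14, 21, 11, 23],
   [0, 1, 2, 9, 12, 23, 4, 21, 3, 18, 14, 19, 16, 13, 10, 22, 6, 20, 8, 11, 7, 17, 5, 15],
   [0, 1, 2, 9, 13, 15, 3, 17, 18, 6, 7, 11, 8, 16, 20, 19, 4, 10, 12, 5, 21, 14, 22, 23],
   [0, 1, 2, 9, 16, 23, 18, 14, 6, 4, 21, 5, 12, 8, 10, 11, 3, 20, 13, 22, 17, 7, 19, 15],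
   [0, 1, 2, 9, 18, 10, 12, 19, 8, 16, 5, 14, 4, 3, 23, 7, 13, 15, 6, 17, 11, 22, 21, 20],
   [0, 1, 2, 12, 3, 19, 18, 7, 13, 8, 10, 23, 4, 9, 20, 5, 6, 17, 16, 15, 21, 14, 11, 22],
   [0, 1, 2, 12, 4, 19, 8, 10, 6, 18, 7, 11, 3, 16, 20, 15, 13, 17, 9, 5, 14, 21, 23, 22],
   [0, 1, 2, 12, 6, 17, 9, 15, 3, 16, 5, 21, 13, 8, 22, 7, 4, 19, 18, 10, 11, 23, 14, 20],
   [0, 1, 2, 12, 8, 20, 3, 23, 16, 4, 11, 10, 18, 13, 19, 21, 9, 22, 6, 14, 15, 5, 7, 17],
   [0, 1, 2, 12, 9, 22, 13, 14, 8, 6, 21, 15, 16, 4, 17, 23, 18, 20, 3, 11, 7, 10, 5, 19],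
   [0, 1, 2, 12, 13, 17, 16, 5, 4, 9, 15, 14, 6, 18, 22, 10, 3, 19, 8, 7, 23, 11, 21, 20],
   [0, 1, 2, 12, 16, 22, 6, 21, 18, 13, 14, 5, 9, 3, 17, 11, 8, 20, 4, 23, 10, 7, 15, 19],
   [0, 1, 2, 12, 18, 20, 4, 11, 9, 3, 23, 7, 8, 6, 19, 14, 16, 22, 13, 21, 5, 15, 10, 17],
   [0, 1, 2, 13, 3, 11, 12, 20, 4, 6, 21, 5, 18, 8, 10, 23, 16, 14, 9, 22, 7, 17, 15, 19],
   [0, 1, 2, 13, 4, 14, 9, 23, 18, 8, 22, 17, 16, 12, 19, 21, 3, 11, 6, 20, 5, 15, 7, 10],
   [0, 1, 2, 13, 6, 10, 3, 5, 9, 18, 15, 21, 12, 4, 11, 7, 8, 19, 16, 17, 22, 23, 20, 14],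
   [0, 1, 2, 13, 8, 19, 4, 17, 6, 16, 7, 22, 9, 18, 14, 5, 12, 10, 3, 15, 20, 21, 23, 11],
   [0, 1, 2, 13, 9, 19, 16, 7, 12, 4, 17, 23, 8, 3, 14, 15, 6, 10, 18, 5, 21, 20, 22, 11],
   [0, 1, 2, 13, 12, 10, 18, 15, 8, 3, 5, 20, 6, 16, 11, 17, 9, 19, 4, 7, 23, 22, 21, 14],
   [0, 1, 2, 13, 16, 14, 8, 22, 3, 9, 23, 7, 4, 6, 19, 20, 18, 11, 12, 21, 15, 5, 17, 10],
   [0, 1, 2, 13, 18, 11, 6, 21, 16, 12, 20, 15, 3, 9, 10, 22, 4, 14, 8, 23, 17, 7, 5, 19],
   [0, 1, 2, 16, 3, 7, 9, 15, 6, 12, 19, 14, 8, 13, 11, 17, 18, 5, 4, 10, 22, 23, 21, 20],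
   [0, 1, 2, 16, 4, 20, 18, 22, 9, 6, 23, 17, 13, 3, 5, 21, 12, 11, 8, 14, 19, 15, 10, 7],
   [0, 1, 2, 16, 6, 5, 4, 17, 8, 13, 10, 23, 18, 9, 20, 19, 3, 7, 12, 15, 14, 21, 22, 11],
   [0, 1, 2, 16, 8, 7, 12, 19, 18, 9, 15, 21, 3, 4, 11, 10, 6, 5, 13, 17, 23, 22, 14, 20],
   [0, 1, 2, 16, 9, 11, 8, 21, 13, 3, 14, 15, 12, 18, 7, 23, 4, 20, 6, 22, 17, 10, 19, 5],
   [0, 1, 2, 16, 12, 11, 3, 14, 4, 8, 21, 19, 9, 6, 7, 22, 13, 20, 18, 23, 10, 17, 15, 5],
   [0, 1, 2, 16, 13, 20, 6, 23, 12, 18, 22, 10, 4, 8, 5, 14, 9, 11, 3, 21, 15, 19, 17, 7],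
   [0, 1, 2, 16, 18, 5, 13, 10, 3, 4, 17, 22, 6, 12, 20, 15, 8, 7, 9, 19, 21, 14, 23, 11],
   [0, 1, 2, 18, 3, 22, 4, 21, 12, 9, 20, 5, 13, 16, 7, 23, 8, 14, 6, 11, 10, 17, 19, 15],
   [0, 1, 2, 18, 4, 7, 13, 19, 16, 3, 5, 21, 9, 8, 22, 17, 6, 15, 12, 10, 23, 11, 20, 14],
   [0, 1, 2, 18, 6, 15, 8, 10, 4, 12, 17, 23, 16, 3, 14, 19, 9, 7, 13, 5, 20, 21, 11, 22],
   [0, 1, 2, 18, 8, 14, 16, 11, 3, 6, 23, 10, 12, 9, 15, 21, 13, 22, 4, 20, 19, 5, 17, 7],
   [0, 1, 2, 18, 9, 7, 3, 5, 6, 13, 19, 20, 4, 12, 22, 10, 16, 15, 8, 17, 11, 23, 21, 14],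
   [0, 1, 2, 18, 12, 14, 6, 23, 13, 16, 11, 17, 8, 4, 15, 20, 3, 22, 9, 21, 5, 19, 10, 7],
   [0, 1, 2, 18, 13, 22, 9, 20, 8, 4, 21, 19, 3, 6, 7, 11, 12, 14, 16, 23, 17, 10, 5, 15],
   [0, 1, 2, 18, 16, 15, 12, 17, 9, 8, 10, 11, 6, 13, 14, 5, 4, 7, 3, 19, 21, 20, 23, 22]]

/-- The table is a permutation table of an element of `M24` fixing the dodecad of squares and `0`. -/
def memOK (T : List ℕ) : Bool :=
  permOK T && tableOK T && (push T 340831 == 340831) && (T.getD 0 0 == 0)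

theorem U12_ok : U12.all memOK = true := by decide +kernel

theorem U34_ok : U34.all (fun T => memOK T && T.getD 1 0 == 1 && T.getD 2 0 == 2) = true := by
  decide +kernel

theorem pt_zero : pt 0 = (some 0 : GolayPt) := by decide +kernel

theorem mem_M11_of_memOK {T : List ℕ} (h : memOK T = true) : tperm T ∈ Spor.M11 := by
  simp only [memOK, Bool.and_eq_true, beq_iff_eq] at h
  obtain ⟨⟨⟨h1, h2⟩, h3⟩, h4⟩ := h
  refine ⟨⟨tperm_mem_M24 h1 h2, ?_⟩, ?_⟩
  · show tperm T • Spor.squareDodecad = Spor.squareDodecad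
    rw [squareDodecad_eq, smul_support₂_dec (hasTable_tperm h1), h3]
  · show tperm T (some 0 : GolayPt) = some 0
    rw [← pt_zero, (hasTable_tperm h1).apply_pt (by norm_num), h4]

/-- Boolean form of `U12_cover`. -/
def cov12 : Bool := (List.range 24).all (fun c1 => (List.range 24).all (fun c2 =>
  !(Nat.testBit 340831 c1) || !(Nat.testBit 340831 c2) || c1 == 0 || c2 == 0 || c1 == c2 ||
    U12.any (fun T => T.getD 1 0 == c1 && T.getD 2 0 == c2)))

theorem cov12_ok : cov12 = true := by decide +kernel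

theorem U12_cover : ∀ c1 < 24, ∀ c2 < 24, Nat.testBit 340831 c1 = true →
    Nat.testBit 340831 c2 = true → c1 ≠ 0 → c2 ≠ 0 → c1 ≠ c2 →
    ∃ T ∈ U12, T.getD 1 0 = c1 ∧ T.getD 2 0 = c2 := by
  intro c1 h1 c2 h2 t1 t2 n1 n2 n12
  have h := cov12_ok
  rw [cov12, List.all_eq_true] at h
  have h' := h c1 (List.mem_range.mpr h1)
  rw [List.all_eq_true] at h'
  have h'' := h' c2 (List.mem_range.mpr h2)
  simp only [Bool.or_eq_true, Bool.not_eq_true', beq_iff_eq, List.any_eq_true,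
    Bool.and_eq_true] at h''
  rcases h'' with ((((h | h) | h) | h) | h) | h
  · rw [t1] at h; exact absurd h (by decide)
  · rw [t2] at h; exact absurd h (by decide)
  · exact absurd h n1
  · exact absurd h n2
  · exact absurd h n12
  · exact h

/-- Boolean form of `U34_cover`. -/
def cov34 : Bool := (List.range 24).all (fun c3 => (List.range 24).all (fun c4 =>
  !(Nat.testBit 340831 c3) || !(Nat.testBit 340831 c4) || decide (c3 < 3) || decide (c4 < 3) ||
    c3 == c4 || U34.any (fun T => T.getD 3 0 == c3 && T.getD 4 0 == c4)))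

theorem cov34_ok : cov34 = true := by decide +kernel

theorem U34_cover : ∀ c3 < 24, ∀ c4 < 24, Nat.testBit 340831 c3 = true →
    Nat.testBit 340831 c4 = true → c3 ≠ 0 → c3 ≠ 1 → c3 ≠ 2 → c4 ≠ 0 → c4 ≠ 1 → c4 ≠ 2 → c3 ≠ c4 →
    ∃ T ∈ U34, T.getD 3 0 = c3 ∧ T.getD 4 0 = c4 := by
  intro c3 h3 c4 h4 t3 t4 a0 a1 a2 b0 b1 b2 n34
  have h := cov34_ok
  rw [cov34, List.all_eq_true] at h
  have h' := h c3 (List.mem_range.mpr h3)
  rw [List.all_eq_true] at h'
  have h'' := h' c4 (List.mem_range.mpr h4)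
  simp only [Bool.or_eq_true, Bool.not_eq_true', beq_iff_eq, List.any_eq_true,
    Bool.and_eq_true, decide_eq_true_eq] at h''
  rcases h'' with ((((h | h) | h) | h) | h) | h
  · rw [t3] at h; exact absurd h (by decide)
  · rw [t4] at h; exact absurd h (by decide)
  · omega
  · omega
  · exact absurd h n34
  · exact h

theorem mem_D_iff (p : GolayPt) : p ∈ Spor.squareDodecad ↔ Nat.testBit 340831 (idx p) = true := by
  rw [squareDodecad_eq, mem_support₂_dec]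

theorem squareDodecad_mem : Spor.squareDodecad ∈ dodecads := by
  rw [squareDodecad_eq]
  exact (mem_dodecads_iff _).mpr
    ⟨340831, mem_sums_of_inCode (by decide +kernel), by decide +kernel, rfl⟩

theorem pt_inj {i j : ℕ} (hi : i < 24) (hj : j < 24) (h : pt i = pt j) : i = j := by
  have := congrArg idx h
  rwa [idx_pt hi, idx_pt hj] at this

/-- The embedding `i ↦ pt i` of `Fin 5`. -/
def e5 : Fin 5 ↪ GolayPt :=
  ⟨fun i => pt i.val, fun i j h => Fin.ext (pt_inj (by omega) (by omega) h)⟩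

theorem e5_mem (i : Fin 5) : e5 i ∈ Spor.squareDodecad := by
  have h : ∀ i : Fin 5, Nat.testBit 340831 i.val = true := by decide +kernel
  rw [mem_D_iff]
  show Nat.testBit 340831 (idx (pt i.val)) = true
  rw [idx_pt (by omega)]
  exact h i

/-- An element of `M₁₂` fixing the points `0, 1, 2, 3, 4` of the dodecad is trivial. -/
theorem eq_one_of_fix {h : Equiv.Perm GolayPt} (hh : h ∈ Spor.M12)
    (hfix : ∀ i < 5, h (pt i) = pt i) : h = 1 := by
  obtain ⟨u, -, huniq⟩ := sharp_five squareDodecad_mem e5 e5 e5_mem e5_mem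
  have hstab : (⟨h, hh.1⟩ : M24) ∈ MulAction.stabilizer M24 Spor.squareDodecad := by
    show (⟨h, hh.1⟩ : M24) • Spor.squareDodecad = Spor.squareDodecad
    exact hh.2
  have h1 := huniq ⟨⟨h, hh.1⟩, hstab⟩ (fun i => hfix i.val i.isLt)
  have h2 := huniq 1 (fun i => rfl)
  have h3 : (⟨⟨h, hh.1⟩, hstab⟩ : MulAction.stabilizer M24 Spor.squareDodecad) = 1 :=
    h1.trans h2.symm
  have h4 := congrArg (fun x : MulAction.stabilizer M24 Spor.squareDodecad =>
    ((x : M24) : Equiv.Perm GolayPt)) h3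
  exact h4

theorem M11_apply_mem {g : Equiv.Perm GolayPt} (hg : g ∈ Spor.M11) {q : GolayPt}
    (hq : q ∈ Spor.squareDodecad) : g q ∈ Spor.squareDodecad := by
  have h1 : g • Spor.squareDodecad = Spor.squareDodecad := hg.1.2
  have h2 : g • q ∈ g • Spor.squareDodecad := Finset.smul_mem_smul_finset hq
  rw [h1] at h2
  exact h2

theorem M11_apply_zero {g : Equiv.Perm GolayPt} (hg : g ∈ Spor.M11) : g (pt 0) = pt 0 := by
  rw [pt_zero]
  exact hg.2

theorem idx_apply_ne {g : Equiv.Perm GolayPt} {i j : ℕ} (hi : i < 24) (hj : j < 24)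
    (hij : i ≠ j) : idx (g (pt i)) ≠ idx (g (pt j)) := fun h =>
  hij (pt_inj hi hj (g.injective (idx_injective h)))

theorem idx_apply_ne' {g : Equiv.Perm GolayPt} {i j : ℕ} (hi : i < 24) (hj : j < 24)
    (hij : i ≠ j) (hgj : g (pt j) = pt j) : idx (g (pt i)) ≠ j := by
  have := idx_apply_ne (g := g) hi hj hij
  rwa [hgj, idx_pt hj] at this

theorem pt_mem_D {i : ℕ} (hi : i < 24) (h : Nat.testBit 340831 i = true) :
    pt i ∈ Spor.squareDodecad := by
  rw [mem_D_iff, idx_pt hi]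
  exact h

/-- Every element of `M₁₁` is a product of a table in `U12` and a table in `U34`. -/
theorem exists_tables (g : Equiv.Perm GolayPt) (hg : g ∈ Spor.M11) :
    ∃ A ∈ U12, ∃ B ∈ U34, g = tperm A * tperm B := by
  have g0 := M11_apply_zero hg
  have m1 : g (pt 1) ∈ Spor.squareDodecad := M11_apply_mem hg (pt_mem_D (by norm_num) (by decide))
  have m2 : g (pt 2) ∈ Spor.squareDodecad := M11_apply_mem hg (pt_mem_D (by norm_num) (by decide))
  obtain ⟨A, hA, hA1, hA2⟩ := U12_cover _ (idx_lt (g (pt 1))) _ (idx_lt (g (pt 2)))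
    ((mem_D_iff _).mp m1) ((mem_D_iff _).mp m2)
    (idx_apply_ne' (by norm_num) (by norm_num) (by norm_num) g0)
    (idx_apply_ne' (by norm_num) (by norm_num) (by norm_num) g0)
    (idx_apply_ne (by norm_num) (by norm_num) (by norm_num))
  have hAok : memOK A = true := List.all_eq_true.mp U12_ok A hA
  have hAp : permOK A = true := by
    simp only [memOK, Bool.and_eq_true] at hAok
    exact hAok.1.1.1
  have hAT := hasTable_tperm hAp
  have hAm := mem_M11_of_memOK hAok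
  set a := tperm A with ha
  have hg' : a⁻¹ * g ∈ Spor.M11 := Spor.M11.mul_mem (Spor.M11.inv_mem hAm) hg
  have g'0 := M11_apply_zero hg'
  have g'1 : (a⁻¹ * g) (pt 1) = pt 1 := by
    rw [Equiv.Perm.mul_apply, Equiv.Perm.inv_eq_iff_eq, hAT.apply_pt (by norm_num), hA1, pt_idx]
  have g'2 : (a⁻¹ * g) (pt 2) = pt 2 := by
    rw [Equiv.Perm.mul_apply, Equiv.Perm.inv_eq_iff_eq, hAT.apply_pt (by norm_num), hA2, pt_idx]
  have m3 : (a⁻¹ * g) (pt 3) ∈ Spor.squareDodecad :=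
    M11_apply_mem hg' (pt_mem_D (by norm_num) (by decide))
  have m4 : (a⁻¹ * g) (pt 4) ∈ Spor.squareDodecad :=
    M11_apply_mem hg' (pt_mem_D (by norm_num) (by decide))
  obtain ⟨B, hB, hB3, hB4⟩ := U34_cover _ (idx_lt ((a⁻¹ * g) (pt 3))) _
    (idx_lt ((a⁻¹ * g) (pt 4))) ((mem_D_iff _).mp m3) ((mem_D_iff _).mp m4)
    (idx_apply_ne' (by norm_num) (by norm_num) (by norm_num) g'0)
    (idx_apply_ne' (by norm_num) (by norm_num) (by norm_num) g'1)
    (idx_apply_ne' (by norm_num) (by norm_num) (by norm_num) g'2)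
    (idx_apply_ne' (by norm_num) (by norm_num) (by norm_num) g'0)
    (idx_apply_ne' (by norm_num) (by norm_num) (by norm_num) g'1)
    (idx_apply_ne' (by norm_num) (by norm_num) (by norm_num) g'2)
    (idx_apply_ne (by norm_num) (by norm_num) (by norm_num))
  have hBok' := List.all_eq_true.mp U34_ok B hB
  simp only [Bool.and_eq_true, beq_iff_eq] at hBok'
  obtain ⟨⟨hBok, hB1⟩, hB2⟩ := hBok'
  have hBp : permOK B = true := by
    simp only [memOK, Bool.and_eq_true] at hBok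
    exact hBok.1.1.1
  have hBT := hasTable_tperm hBp
  have hBm := mem_M11_of_memOK hBok
  set b := tperm B with hb
  have hg'' : b⁻¹ * (a⁻¹ * g) ∈ Spor.M11 := Spor.M11.mul_mem (Spor.M11.inv_mem hBm) hg'
  have key : b⁻¹ * (a⁻¹ * g) = 1 := by
    apply eq_one_of_fix hg''.1
    intro i hi
    have hcases : i = 0 ∨ i = 1 ∨ i = 2 ∨ i = 3 ∨ i = 4 := by omega
    rcases hcases with rfl | rfl | rfl | rfl | rfl
    · exact M11_apply_zero hg''
    · rw [Equiv.Perm.mul_apply, g'1, Equiv.Perm.inv_eq_iff_eq, hBT.apply_pt (by norm_num), hB1]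
    · rw [Equiv.Perm.mul_apply, g'2, Equiv.Perm.inv_eq_iff_eq, hBT.apply_pt (by norm_num), hB2]
    · rw [Equiv.Perm.mul_apply, Equiv.Perm.inv_eq_iff_eq, hBT.apply_pt (by norm_num), hB3, pt_idx]
    · rw [Equiv.Perm.mul_apply, Equiv.Perm.inv_eq_iff_eq, hBT.apply_pt (by norm_num), hB4, pt_idx]
  refine ⟨A, hA, B, hB, ?_⟩
  have : g = a * (b * (b⁻¹ * (a⁻¹ * g))) := by group
  rw [this, key, mul_one]

/-! ### Packed tables -/

/-- Entry `i` of a packed table (five bits per entry). -/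
def gt (P i : ℕ) : ℕ := Nat.land (Nat.shiftRight P (Nat.mul 5 i)) 31

/-- Pack a table into one number, five bits per entry. -/
def pack (T : List ℕ) : ℕ := T.foldr (fun t acc => t + 32 * acc) 0

theorem gt_pack (T : List ℕ) (hT : ∀ t ∈ T, t < 32) (i : ℕ) : gt (pack T) i = T.getD i 0 := by
  induction T generalizing i with
  | nil =>
    show (0 >>> (5 * i)) &&& 31 = 0
    simp
  | cons t ts ih =>
    have ht : t < 32 := hT t List.mem_cons_self
    have hts : ∀ s ∈ ts, s < 32 := fun s hs => hT s (List.mem_cons_of_mem _ hs)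
    cases i with
    | zero =>
      show ((t + 32 * pack ts) >>> (5 * 0)) &&& 31 = t
      have e : (31 : ℕ) = 2 ^ 5 - 1 := by norm_num
      rw [Nat.mul_zero, Nat.shiftRight_zero, e, Nat.and_two_pow_sub_one_eq_mod]
      omega
    | succ i =>
      show ((t + 32 * pack ts) >>> (5 * (i + 1))) &&& 31 = ts.getD i 0
      have e : 5 * (i + 1) = 5 + 5 * i := by ring
      have e2 : (t + 32 * pack ts) >>> 5 = pack ts := by
        rw [Nat.shiftRight_eq_div_pow]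
        omega
      rw [e, Nat.shiftRight_add, e2]
      exact ih hts i

/-- The packed tables of `U12`. -/
def U12p : List ℕ :=
  [424698032726113400716592269113985056, 808308812290825790926408181017250848,
   944576703234065857180591671912828960, 486338753864131570254606920598427680,
   234371307503161862163929120880336928, 815664988721524085384133160702420000,
   487393410198684714434975056554831904, 927046333368351689705651480644826144,
   923564795362611245690293241556582432, 438086312784835159463788957443311648,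
   943997182993834985299755915001857088, 298100017631345163290928189314436160,
   983338418308476931278821141792559168, 861416085956061044780716398077188160,
   608195441042477927957802561164550208, 485892037007482067083153473380295744,
   970370455733018898536468721146572864, 435452372512644280436461015453086784,
   609493346897421250084007021057949760, 636974710142384080708841350750554176,
   968831900483021157457398538231481440, 858937838459139924411307447443261536,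
   235744285957698819093459551162273888, 485709999003354968790365624419752032,
   317320009485581339639053918939684960, 221143599018725673779236924388090976,
   610956415780077089178328907794133088, 804369592769586592675224770849420384,
   603834237676489033224288045124075616, 482528250324584113181196932840736864,
   936367166752209097776299897550734464, 941568063043067790167013630807214208,
   962170181108381584798940251289586816, 608212634172959030646630443426879616,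
   236551817801204242811981545125519488, 232786887921777364437210283754235008,
   817069879201289520092068340881895552, 238174248250527981134749835544540288,
   235532824699442432444910856830369920, 796021799187689300583319061498579072,
   816061783011650072799398389186036928, 297687006314683134888282937957058752,
   860914113533713961456629880113597632, 980275914351787324191492553553580224,
   440520880826221812582150396131680448, 311191284478790204256785872666043584,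
   319756913064355655966433977258029248, 815501780003243376221915673033848000,
   652474107539430477410498362036601024, 466966413370667170402697208065706176,
   838055622614454864183808671297733888, 715669077294435391432362825910257920,
   637944709404500453445724421409246464, 470732115443017942125309940577931520,
   236723096660079086228360703447144704, 237035019059890633598361414335538432,
   802806469701430763366333548532445440, 236887987294361530643431989373711616,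
   430252304167582742980090847379538176, 819659765080906295559582254698121472,
   321044132172030944106278705972774176, 220976501846791919678859620090317088,
   321056211833753938169171953528737056, 983559143023509422674926022657839392,
   815909657279614575461385550171347232, 902945193401464951170930212891664672,
   846001688629243623393925413587857696, 882228190334811455689049617783108896,
   321463915142615091466901704760639776, 726054690492234363022076535915104544,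
   838134216997569104631071710144529792, 440756690835735235532901898886121856,
   721024036340075655599473209074978176, 230558037471208928433688109409145216,
   606919857703981517816152225291213184, 713553765863294222463774418167505280,
   464211397650534822417042411844904320, 595470798828439288057921224067822976,
   443111681323566802458572958222827904, 222751184206288969744536493360236928,
   444247727562737816462568057829655968, 227956065738016562231603125302725024,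
   858259596219908163770337142884404640, 594816722198030505619948784478392736,
   969199589102997743419466643213392288, 446024827606301875322412378798465440,
   318979319941190725164838062155965856, 732346395702659281669840349159371168,
   733993124602845496953610675189662112, 611701688023060001439741862424758688,
   649611798983145179015114193015047680, 596774700723349887171148790685174272,
   934019753936920797861719108055240192, 850698184357602323212296630204404224,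
   856021201178673646070519388127369728, 443281739526664102312946138150773248,
   734354552255296108469743410091173376, 434458691578201619242961974540153344,
   721211688577256732717917582102967808, 734046035662726086862146055578208768,
   607078284962045151732448859600782912, 315860072289703017308638879437326912,
   441557377140588380384763939271020096, 305472985701145969289568730557256256,
   933527971978552360044378299965905472, 885762183325189782393089385713181248,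
   965340817358088607163136868506412608, 222803950135927914560252560635343424,
   226502070688377781889261134264088128, 651941746268732095397217655905665600]

/-- The packed tables of `U34`. -/
def U34p : List ℕ :=
  [984818244535754528103549039458486304, 719923664328491199848526586197411872,
   608405391266436187982588441666881568, 715872302521680643580706198532491296,
   970499966350631336865513127433832480, 227578386318009578406903204956702752,
   609271311764373893382231684089481248, 232652365823391711183829569059784736,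
   486073779993727295785104656607348768, 629863500390412654982178157189269536,
   648154481660236051385864952584734752, 891440084380668137666183104591693856,
   487607080158395075740321133224921120, 716016777081418520089506884598499360,
   719360590536681843314903822610073632, 899189355044933402820830013086107680,
   303972014349329906305369256209090592, 796422664143520048046740322637776928,
   809127892823755776035426641505355808, 313451266620471430272303061907212320,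
   891385682027558266148352467872712736, 898742143189044893377746329054414880,
   984769902586367543974814854303385632, 970254902120350598020240965873371168,
   899214583888558003150069357295700000, 233054687951835244750033064009402400,
   227468939079694360949178429167896608, 928952864966028496604741530750814240,
   425260589770023667920228681599158304, 944293816565412651426207388111472672,
   890954976140709938678640932563453984, 438084364835391119001047119775926304,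
   424698032726113400716592269113985056, 849414919297944031155053626894092320,
   438228640608320839931147656307705888, 970531819526550031117983620406741024,
   630264916018297267747726081680246816, 984534996141977609297800625156032544,
   648045425277649902928402440926824480, 858934107515357207598970770041374752,
   928718206277989008510816407558424608, 944569772236290697579231267829188640,
   849887890532701421127722391426172960, 715461294005770680473893921775552544,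
   796134455581813252778404696041064480, 858502712789113075489201924125100064,
   808997782816701570676445371466909728, 719748774308089385568610015441717280,
   809399594410595785774724965859756064, 425085878865583144827023905643726880,
   608460305594945736333983948957190176, 487655643029606470073469406179395616,
   486317894067777385906476470720956448, 609718671646466476278175549440296992,
   437673696385666828435562741295908896, 796025918939784314627536738561984544,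
   858988336336270505570052787752405024, 304382488815307602047787978285647904,
   486349973926430203268823274221996064, 849862808090484735685470734032308256,
   232783362388564428185213343297439776, 227866200190482962309748417481934880,
   313626468097149398198142802389895200, 487373122709212905255923294881187872,
   648441755269428208718993426702993440, 607974513007959930786473204517505056,
   929000492124499343650182431580424224, 313063593285160742836699179059316768,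
   609744425604512129277147896769742880, 304527279934878073638008567181674528,
   629994123837064240816195434993748000, 944538627742660781242037951888164896]

theorem U12p_eq : U12.map pack = U12p := by decide +kernel

theorem U34p_eq : U34.map pack = U34p := by decide +kernel

/-- The points outside the dodecad of squares. -/
def outL : List ℕ := [5, 7, 10, 11, 14, 15, 17, 19, 20, 21, 22, 23]

theorem outL_spec : ∀ i ∈ outL, i < 24 ∧ Nat.testBit 340831 i = false := by decide +kernel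

/-- The product of the packed tables `P`, `Q` has, at some point outside the dodecad, a fixed
point or a cycle of length 4. -/
def chk (P Q : ℕ) : Bool :=
  outL.any (fun i => (fun j => Nat.beq j i || (fun k => !(Nat.beq k i) &&
    Nat.beq (gt P (gt Q (gt P (gt Q k)))) i) (gt P (gt Q j))) (gt P (gt Q i)))

theorem chk_spec {P Q : ℕ} (h : chk P Q = true) : ∃ i ∈ outL, gt P (gt Q i) = i ∨
    (gt P (gt Q (gt P (gt Q i))) ≠ i ∧
      gt P (gt Q (gt P (gt Q (gt P (gt Q (gt P (gt Q i))))))) = i) := by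
  rw [chk, List.any_eq_true] at h
  obtain ⟨i, hi, h⟩ := h
  refine ⟨i, hi, ?_⟩
  simp only [Bool.or_eq_true, Bool.and_eq_true, Bool.not_eq_true'] at h
  rcases h with h | ⟨h1, h2⟩
  · exact Or.inl (Nat.eq_of_beq_eq_true h)
  · exact Or.inr ⟨Nat.ne_of_beq_eq_false h1, Nat.eq_of_beq_eq_true h2⟩

theorem all_good : U12p.all (fun P => U34p.all (fun Q => chk P Q)) = true := by
  decide +kernel

theorem permOK_of_memOK {T : List ℕ} (h : memOK T = true) : permOK T = true := by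
  simp only [memOK, Bool.and_eq_true] at h
  exact h.1.1.1

theorem lt_32_of_hasTable {σ : Equiv.Perm GolayPt} {T : List ℕ} (h : HasTable σ T) :
    ∀ t ∈ T, t < 32 := fun t ht =>
  lt_of_lt_of_le (((tableValid_iff T).mp h.1).2 t ht) (by norm_num)

/-- The Mathieu group M₁₁, realised as the stabiliser of one point of the dodecad of squares inside the stabiliser M₁₂ of that dodecad in M₂₄, acts on the twelve coordinate positions outside the dodecad of squares (its 3-transitive action of degree 12); in this action every element of prime order fixes a point, i.e. the action is elusive. -/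
theorem result (g : Equiv.Perm Cfsg.GolayPt) (hg : g ∈ Cfsg.Spor.M11) (hord : (orderOf g).Prime) :
    ∃ x : Cfsg.GolayPt, x ∉ Cfsg.Spor.squareDodecad ∧ g x = x := by
  obtain ⟨A, hA, B, hB, rfl⟩ := exists_tables g hg
  have hAT := hasTable_tperm (permOK_of_memOK (List.all_eq_true.mp U12_ok A hA))
  have hBok' := List.all_eq_true.mp U34_ok B hB
  simp only [Bool.and_eq_true] at hBok'
  have hBT := hasTable_tperm (permOK_of_memOK hBok'.1.1)
  have hPA : pack A ∈ U12p := by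
    rw [← U12p_eq]
    exact List.mem_map_of_mem hA
  have hPB : pack B ∈ U34p := by
    rw [← U34p_eq]
    exact List.mem_map_of_mem hB
  have hchk : chk (pack A) (pack B) = true :=
    List.all_eq_true.mp (List.all_eq_true.mp all_good _ hPA) _ hPB
  have hf : ∀ i < 24, (tperm A * tperm B) (pt i) = pt (gt (pack A) (gt (pack B) i)) ∧
      gt (pack A) (gt (pack B) i) < 24 := by
    intro i hi
    rw [gt_pack B (lt_32_of_hasTable hBT), gt_pack A (lt_32_of_hasTable hAT),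
      Equiv.Perm.mul_apply, hBT.apply_pt hi, hAT.apply_pt (hBT.getD_lt i)]
    exact ⟨rfl, hAT.getD_lt _⟩
  generalize tperm A * tperm B = σ at hf hord
  generalize pack A = P at hf hchk
  generalize pack B = Q at hf hchk
  obtain ⟨i, hi, hcase⟩ := chk_spec hchk
  obtain ⟨hi24, hbit⟩ := outL_spec i hi
  have hnot : pt i ∉ Spor.squareDodecad := by
    rw [mem_D_iff, idx_pt hi24, hbit]
    exact Bool.false_ne_true
  rcases hcase with hfix | ⟨h2, h4⟩
  · refine ⟨pt i, hnot, ?_⟩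
    rw [(hf i hi24).1, hfix]
  · exfalso
    have s1 := hf i hi24
    have s2 := hf _ s1.2
    have s3 := hf _ s2.2
    have s4 := hf _ s3.2
    have e2 : (σ ^ 2) (pt i) ≠ pt i := by
      rw [pow_two, Equiv.Perm.mul_apply, s1.1, s2.1]
      intro h
      exact h2 (pt_inj s2.2 hi24 h)
    have e4 : (σ ^ 4) (pt i) = pt i := by
      have : σ ^ 4 = σ * (σ * (σ * σ)) := by
        simp only [pow_succ, pow_zero, one_mul, mul_assoc]
      rw [this, Equiv.Perm.mul_apply, Equiv.Perm.mul_apply, Equiv.Perm.mul_apply, s1.1, s2.1,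
        s3.1, s4.1, h4]
    have d4 : MulAction.period σ (pt i) ∣ 4 := MulAction.pow_smul_eq_iff_period_dvd.mp e4
    have d2 : ¬ MulAction.period σ (pt i) ∣ 2 := fun h =>
      e2 (MulAction.pow_smul_eq_iff_period_dvd.mpr h)
    have dp : MulAction.period σ (pt i) ∣ orderOf σ := MulAction.period_dvd_orderOf σ (pt i)
    rcases (Nat.dvd_prime hord).mp dp with h1 | hp
    · exact d2 (h1 ▸ one_dvd 2)
    · rw [hp] at d4 d2
      have d4' : orderOf σ ∣ 2 ^ 2 := d4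
      exact d2 (hord.dvd_of_dvd_pow d4')

end Cfsg.Agent.S5522
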