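import Cfsg.Statements.S5655
import Cfsg.Agent.Lib.Helper1.UDDHOM
import Cfsg.Agent.Lib.Helper1.UDTRICK
import Cfsg.Agent.Lib.Helper19.UDQ2GEN
import Cfsg.Agent.Lib.Helper19.UDTR
import Cfsg.Agent.Lib.Helper28.UDTRF
import Cfsg.Agent.Lib.Helper36.UDBLKPROPER
import Cfsg.Agent.Lib.Helper36.UDK1EQ
import Cfsg.Agent.Lib.Helper44.UDCONJ
import Cfsg.Agent.Lib.Helper44.UDFinal
import Cfsg.Agent.Lib.Helper44.UDH1A
import Cfsg.Agent.Lib.Helper44.UDH1B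
import Cfsg.Agent.Lib.Helper44.UDK2
import Cfsg.Agent.Lib.Helper44.UDMQ3
import Cfsg.Agent.Lib.Helper44.UDORB
import Cfsg.Agent.Lib.Helper44.UDP3
import Cfsg.Agent.Lib.Helper44.UDTRX
import Cfsg.Agent.Lib.Helper47.UDADAPT
import Cfsg.Agent.Lib.Helper47.UDK2NONMONO
import Cfsg.Agent.Lib.Helper47.UDK2ORB
import Cfsg.Agent.Lib.Helper54.UDBOREL
import Cfsg.Agent.Lib.Helper58.UDSTEP4
import Cfsg.Agent.Lib.Helper58.UDSTEP5ODD
import Cfsg.Agent.Lib.Helper61.UDTRC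
import Cfsg.Agent.Lib.Helper63.UDQ2A
import Cfsg.Agent.Lib.Helper64.UDE5
import Cfsg.Agent.Lib.Helper64.UDLIFT
import Cfsg.Agent.Lib.Helper65.UDK2MIXED
import Cfsg.Agent.Lib.Helper65.UDQ2B
import Cfsg.Agent.Lib.Helper65.UDQ2C
import Cfsg.Agent.Lib.Helper66.UDBLKMONOEX
import Cfsg.Agent.Lib.Helper66.UDRKU
import Cfsg.Agent.Lib.Helper68.UDMONOEX
import Cfsg.Agent.Lib.Helper68.UDSTEP5EVEN
import Cfsg.Agent.Lib.Helper69.UDHYP
import Cfsg.Agent.Lib.Helper75.UDT2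
import Cfsg.Agent.Lib.Helper77.UDREFLMONO
import Cfsg.Agent.Lib.Helper77.UDUNITF
import Cfsg.Agent.Lib.Helper8.UDE1
import Cfsg.Agent.Lib.Helper83.UDONB
import Cfsg.Agent.Lib.Helper85.UDFIXCOUNT
import Cfsg.Agent.Lib.Helper85.UDK2REDUCE
import Cfsg.Agent.Lib.Helper85.UDT2A
import Cfsg.Agent.Lib.Helper87.UDTRK
import Cfsg.Agent.Lib.Helper92.UDPLANE
import Cfsg.Agent.Lib.Helper94.UDZERO

set_option autoImplicit false
open Cfsg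

namespace Cfsg.Agent.S5655

open Cfsg.Agent.Lib.Helper44.UD

theorem result {F : Type*} [Field F] [Fintype F] (n q : ℕ) (hF : Fintype.card F = q ^ 2) (hn : 13 ≤ n) {t : ℕ} (k : ℕ) (D : Fin t → Submodule F (Fin n → F)) (hD : Cfsg.Geo.IsNondegenerateMDecomposition (Cfsg.hermForm n F q) k D) (hex : ¬ (k = 2 ∧ q = 2)) : Cfsg.Geo.IsMaximalIn (Cfsg.GU n F q ⊓ Cfsg.Geo.specialLinear (Fin n) F) (Cfsg.Geo.decompositionStabilizer D ⊓ (Cfsg.GU n F q ⊓ Cfsg.Geo.specialLinear (Fin n) F)) := by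
  have hTR : ∀ q : ℕ, TRStmt F q := fun q =>
    ud_tr q (ud_borel q) (ud_hyp q) (ud_trk q) (ud_trc q) (ud_trf q)
  have hORB : ∀ q : ℕ, OrbStmt F q := fun q => ud_orb q (ud_monoex q)
  have hT2 : ∀ q : ℕ, T2Stmt F q := fun q => ud_t2 q (ud_plane q)
  have hCW1 : ∀ q : ℕ, CW1Stmt F q := fun q => ud_cw1 q (ud_t2a q) (hORB q) (hT2 q)
  have hTRX : ∀ q : ℕ, TRXStmt F q := fun q => ud_trx q (hTR q)
  have hH1A : ∀ q : ℕ, H1AStmt F q := fun q => ud_h1a q (hTRX q) (hCW1 q)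
  have hH1B : ∀ q : ℕ, H1BStmt F q := fun q => ud_h1b q (hH1A q) (ud_rku q)
  have hP3 : ∀ q : ℕ, P3Stmt F q := fun q => ud_p3 q (hH1A q) (hH1B q)
  have hZERO : ∀ q : ℕ, ZeroStmt F q := fun q => ud_zero q (ud_trick q) (ud_fixcount q)
  have hS4 : ∀ q : ℕ, Step4Stmt F q := fun q => ud_step4 q (ud_reflmono q)
  have hS5O : ∀ q : ℕ, Step5OddStmt F q := fun q => ud_step5odd q (ud_fixcount q)
  have hE1 : ∀ q : ℕ, E1Stmt F q := fun q => ud_e1 q (ud_monoex q)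
  have hTHMG : ∀ q : ℕ, ThmGStmt F q := fun q => ud_thmg q (hTRX q) (ud_t2a q)
  have hS5E : ∀ q : ℕ, Step5EvenStmt F q := fun q =>
    ud_step5even q (hE1 q) (ud_dhom q) (ud_lift q) (hTHMG q) (ud_e5 q)
  have hMQ3 : ∀ q : ℕ, MQ3Stmt F q := fun q =>
    ud_mq3 q (hH1A q) (hP3 q) (hZERO q) (hS4 q) (hS5O q) (hS5E q)
  have hMQ2 : MQ2Stmt F := ud_mq2 q (ud_q2a q) (ud_q2b q) (ud_q2c q)
  have hK2R : ∀ q : ℕ, K2ReduceStmt F q := fun q => ud_k2reduce q (ud_unitf q) (ud_t2a q)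
  have hK2O : ∀ q : ℕ, K2OrbStmt F q := fun q => ud_k2orb q (ud_blkmonoex q)
  have hK2 : ∀ q : ℕ, K2Stmt F q := fun q =>
    ud_k2 q (ud_k2mixed q) (hK2R q) (hK2O q) (hT2 q) (ud_q2gen q) (ud_k2nonmono q) hMQ2
  have hK1 : ∀ q : ℕ, K1Stmt F q := fun q => ud_k1 q (ud_k1eq q) (hMQ3 q) hMQ2
  have hAD : ∀ q : ℕ, AdaptStmt F q := fun q => ud_adapt q (ud_onb q)
  exact ud_final hAD (fun q => ud_conj q) hK1 hK2 (fun q => ud_blkproper q) n q hF hn k D hD hex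

end Cfsg.Agent.S5655
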