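import Cfsg.Statements.S5726
import Mathlib

set_option autoImplicit false
open Cfsg

namespace Cfsg.Agent.S5726

open MulAction in
theorem sylow_transitive {G Ω : Type*} [Group G] [Finite G] [MulAction G Ω] [Fintype Ω] (htr : MulAction.IsPretransitive G Ω)
    (p k : ℕ) [Fact p.Prime] (hΩ : Fintype.card Ω = p ^ k) (P : Sylow p G) (ω₀ ω : Ω) :
    ∃ h : G, h ∈ (P : Subgroup G) ∧ h • ω₀ = ω := by
  have hp : p.Prime := Fact.out
  have hidx : (stabilizer G ω₀).index = p ^ k := by
    rw [← hΩ, MulAction.index_stabilizer_of_transitive, Nat.card_eq_fintype_card]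
  -- P-orbit of ω₀
  have h1 : (stabilizer G ω₀ ⊓ (P : Subgroup G)).index = (stabilizer G ω₀).index * ((P : Subgroup G).relIndex (stabilizer G ω₀)) := by
    rw [mul_comm, ← Subgroup.inf_relIndex_left, Subgroup.relIndex_mul_index inf_le_left]
  have h2 : (stabilizer G ω₀ ⊓ (P : Subgroup G)).index = (P : Subgroup G).index * ((stabilizer G ω₀).relIndex (P : Subgroup G)) := by
    rw [mul_comm, ← Subgroup.inf_relIndex_right, Subgroup.relIndex_mul_index inf_le_right]
  have hcop : Nat.Coprime (p ^ k) (P : Subgroup G).index := by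
    apply Nat.Coprime.pow_left
    exact (Nat.Prime.coprime_iff_not_dvd hp).mpr P.not_dvd_index
  have hdvd : p ^ k ∣ (stabilizer G ω₀).relIndex (P : Subgroup G) := by
    have : p ^ k ∣ (P : Subgroup G).index * ((stabilizer G ω₀).relIndex (P : Subgroup G)) := by
      rw [← h2, h1, hidx]; exact dvd_mul_right _ _
    exact hcop.dvd_of_dvd_mul_left this
  -- relIndex = card of orbit of ω₀ under P
  have hrel : (stabilizer G ω₀).relIndex (P : Subgroup G) = Nat.card (orbit (P : Subgroup G) ω₀) := by
    rw [Subgroup.relIndex]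
    have : (stabilizer G ω₀).subgroupOf (P : Subgroup G) = stabilizer (P : Subgroup G) ω₀ := by
      ext x
      simp only [Subgroup.mem_subgroupOf, mem_stabilizer_iff]
      exact Iff.rfl
    rw [this, MulAction.index_stabilizer, Nat.card_coe_set_eq]
  have hle : Nat.card (orbit (P : Subgroup G) ω₀) ≤ p ^ k := by
    rw [← hΩ, ← Nat.card_eq_fintype_card]
    exact Nat.card_le_card_of_injective _ Subtype.val_injective
  have hpos : 0 < Nat.card (orbit (P : Subgroup G) ω₀) := by
    have : Nonempty (orbit (P : Subgroup G) ω₀) := ⟨⟨ω₀, mem_orbit_self _⟩⟩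
    exact Nat.card_pos
  have heq : Nat.card (orbit (P : Subgroup G) ω₀) = p ^ k :=
    le_antisymm hle (Nat.le_of_dvd hpos (hrel ▸ hdvd))
  have hall : orbit (P : Subgroup G) ω₀ = Set.univ := by
    have hfin : (orbit (P : Subgroup G) ω₀).Finite := Set.toFinite _
    apply Set.eq_univ_of_forall
    by_contra hcon
    push Not at hcon
    obtain ⟨x, hx⟩ := hcon
    have : Nat.card (orbit (P : Subgroup G) ω₀) < Nat.card Ω := by
      rw [Nat.card_coe_set_eq, ← Set.ncard_univ]
      exact Set.ncard_lt_ncard (Set.ssubset_univ_iff.mpr (fun h => hx (h ▸ Set.mem_univ x))) (Set.toFinite _)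
    rw [heq, Nat.card_eq_fintype_card, hΩ] at this
    exact lt_irrefl _ this
  have : ω ∈ orbit (P : Subgroup G) ω₀ := hall ▸ Set.mem_univ ω
  obtain ⟨⟨h, hh⟩, rfl⟩ := this
  exact ⟨h, hh, rfl⟩

/-- If a finite group acts faithfully and transitively on a set with p^k elements, p a prime and k ≥ 1, then some element of order p fixes no point. -/
theorem result {G Ω : Type*} [Group G] [Finite G] [MulAction G Ω] [FaithfulSMul G Ω] [Fintype Ω] (htr : MulAction.IsPretransitive G Ω)
    (p k : ℕ) (hp : p.Prime) (hk : 1 ≤ k) (hΩ : Fintype.card Ω = p ^ k) :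
    ∃ g : G, orderOf g = p ∧ ∀ ω : Ω, g • ω ≠ ω := by
  open MulAction in
  have : Fact p.Prime := ⟨hp⟩
  obtain ⟨P⟩ : Nonempty (Sylow p G) := inferInstance
  have hne : Nonempty Ω := by
    apply Fintype.card_pos_iff.mp; rw [hΩ]; exact pow_pos hp.pos k
  obtain ⟨ω₀⟩ := hne
  have htrP := sylow_transitive htr p k hΩ P ω₀
  -- P nontrivial
  have hPnt : Nontrivial (P : Subgroup G) := by
    by_contra hcon
    rw [not_nontrivial_iff_subsingleton] at hcon
    -- then every ω equals ω₀, card Ω = 1
    have : ∀ ω : Ω, ω = ω₀ := by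
      intro ω
      obtain ⟨h, hh, rfl⟩ := htrP ω
      have : (⟨h, hh⟩ : (P : Subgroup G)) = 1 := Subsingleton.elim _ _
      have h1 : h = 1 := by simpa using congrArg Subtype.val this
      rw [h1, one_smul]
    have hcard : Fintype.card Ω = 1 := by
      rw [Fintype.card_eq_one_iff]; exact ⟨ω₀, this⟩
    rw [hΩ] at hcard
    have : p ∣ 1 := by
      rw [← hcard]; exact dvd_pow_self p (by omega)
    exact hp.one_lt.ne' (Nat.dvd_one.mp this)
  have := hPnt
  have hcnt : Nontrivial (Subgroup.center (P : Subgroup G)) := P.isPGroup'.center_nontrivial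
  have hpdvd : p ∣ Nat.card (Subgroup.center (P : Subgroup G)) := by
    have hpg : IsPGroup p (Subgroup.center (P : Subgroup G)) := P.isPGroup'.to_subgroup _
    rcases hpg.card_eq_or_dvd with h | h
    · exfalso
      have := (Finite.one_lt_card_iff_nontrivial).mpr hcnt
      omega
    · exact h
  obtain ⟨z, hz⟩ := exists_prime_orderOf_dvd_card' p hpdvd
  refine ⟨((z : (P : Subgroup G)) : G), ?_, ?_⟩
  · rw [Subgroup.orderOf_coe, Subgroup.orderOf_coe, hz]
  · intro ω hω
    -- z fixes ω hence everything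
    have hzc : ∀ h : G, (hh : h ∈ (P : Subgroup G)) → h * ((z : (P : Subgroup G)) : G) = ((z : (P : Subgroup G)) : G) * h := by
      intro h hh
      have := (Subgroup.mem_center_iff.mp z.2) ⟨h, hh⟩
      exact congrArg Subtype.val this
    have hfix : ∀ ω' : Ω, ((z : (P : Subgroup G)) : G) • ω' = ω' := by
      intro ω'
      obtain ⟨h₀, hh₀, rfl⟩ := htrP ω
      obtain ⟨h, hh, rfl⟩ := htrP ω'
      have e1 : h • ω₀ = (h * h₀⁻¹) • (h₀ • ω₀) := by rw [mul_smul, inv_smul_smul]
      rw [e1, ← mul_smul, ← hzc _ (Subgroup.mul_mem _ hh (Subgroup.inv_mem _ hh₀)), mul_smul, hω]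
    have hone : ((z : (P : Subgroup G)) : G) = 1 := by
      apply FaithfulSMul.eq_of_smul_eq_smul (α := Ω)
      intro a; rw [hfix, one_smul]
    have : z = 1 := by
      ext; simpa using hone
    rw [this, orderOf_one] at hz
    exact hp.one_lt.ne' hz.symm

end Cfsg.Agent.S5726
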