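import Cfsg.Statements.S5727
import Mathlib
import Cfsg.Agent.S5726

set_option autoImplicit false
open Cfsg

namespace Cfsg.Agent.S5727

open MulAction in
theorem small_case {G Ω : Type*} [Group G] [Finite G] [MulAction G Ω] [FaithfulSMul G Ω] [Fintype Ω]
    (htr : MulAction.IsPretransitive G Ω) (p m : ℕ) [Fact p.Prime] (hm : 1 ≤ m) (hmp : m < p)
    (hΩ : Fintype.card Ω = m * p) :
    ∃ g : G, orderOf g = p ∧ ∀ ω : Ω, g • ω ≠ ω := by
  classical
  have hp : p.Prime := Fact.out
  obtain ⟨P⟩ : Nonempty (Sylow p G) := inferInstance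
  set H : Subgroup G := (P : Subgroup G) with hH
  have hHp : IsPGroup p H := P.isPGroup'
  have : Fintype H := Fintype.ofFinite H
  have : Fintype (Quotient (orbitRel H Ω)) := Fintype.ofFinite _
  -- every H-orbit has size divisible by p
  have horb : ∀ ω : Ω, p ∣ Nat.card (orbit H ω) := by
    intro ω
    have hidx : (stabilizer G ω).index = m * p := by
      rw [← hΩ, MulAction.index_stabilizer_of_transitive, Nat.card_eq_fintype_card]
    have h1 : (stabilizer G ω ⊓ H).index = (stabilizer G ω).index * (H.relIndex (stabilizer G ω)) := by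
      rw [mul_comm, ← Subgroup.inf_relIndex_left, Subgroup.relIndex_mul_index inf_le_left]
    have h2 : (stabilizer G ω ⊓ H).index = H.index * ((stabilizer G ω).relIndex H) := by
      rw [mul_comm, ← Subgroup.inf_relIndex_right, Subgroup.relIndex_mul_index inf_le_right]
    have hdvd : p ∣ (stabilizer G ω).relIndex H := by
      have : p ∣ H.index * ((stabilizer G ω).relIndex H) := by
        rw [← h2, h1, hidx]; exact Dvd.dvd.mul_right (dvd_mul_left p m) _
      exact (hp.dvd_mul.mp this).resolve_left P.not_dvd_index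
    have hrel : (stabilizer G ω).relIndex H = Nat.card (orbit H ω) := by
      rw [Subgroup.relIndex]
      have : (stabilizer G ω).subgroupOf H = stabilizer H ω := by
        ext x
        simp only [Subgroup.mem_subgroupOf, mem_stabilizer_iff]
        exact Iff.rfl
      rw [this, MulAction.index_stabilizer, Nat.card_coe_set_eq]
    rw [← hrel]; exact hdvd
  -- number of orbits
  have hN : p * Fintype.card (Quotient (orbitRel H Ω)) ≤ Fintype.card Ω := by
    have e := selfEquivSigmaOrbits H Ω
    rw [Fintype.card_congr e, Fintype.card_sigma]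
    calc p * Fintype.card (Quotient (orbitRel H Ω)) = ∑ _q : Quotient (orbitRel H Ω), p := by
          simp [mul_comm]
      _ ≤ _ := by
          apply Finset.sum_le_sum
          intro q _
          have h := horb (Quotient.out q)
          rw [Nat.card_eq_fintype_card] at h
          apply Nat.le_of_dvd _ h
          exact Fintype.card_pos_iff.mpr ⟨⟨_, mem_orbit_self _⟩⟩
  have hNlt : Fintype.card (Quotient (orbitRel H Ω)) < p := by
    rw [hΩ] at hN
    have : p * Fintype.card (Quotient (orbitRel H Ω)) < p * p := lt_of_le_of_lt hN (by nlinarith [hp.pos])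
    exact lt_of_mul_lt_mul_left this (Nat.zero_le p)
  -- fixed point counts
  have hfix : ∀ x : H, p ∣ Fintype.card (fixedBy Ω x) := by
    intro x
    have hz : IsPGroup p (Subgroup.zpowers x) := hHp.to_subgroup _
    have h := hz.card_modEq_card_fixedPoints Ω
    have hset : fixedPoints (Subgroup.zpowers x) Ω = fixedBy Ω x := by
      ext a
      constructor
      · intro ha
        exact ha ⟨x, Subgroup.mem_zpowers x⟩
      · rintro ha ⟨y, k, rfl⟩
        exact mem_fixedBy_zpow ha k
    rw [hset, Nat.card_eq_fintype_card, Nat.card_eq_fintype_card, hΩ] at h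
    have h0 : m * p ≡ 0 [MOD p] := (Nat.modEq_zero_iff_dvd).mpr (dvd_mul_left p m)
    exact (Nat.modEq_zero_iff_dvd).mp (h.symm.trans h0)
  have hburn := sum_card_fixedBy_eq_card_orbits_mul_card_group H Ω
  -- existence of derangement in H
  have hex : ∃ x : H, ∀ ω : Ω, x • ω ≠ ω := by
    by_contra hcon
    push Not at hcon
    have hge : ∀ x : H, p ≤ Fintype.card (fixedBy Ω x) := by
      intro x
      obtain ⟨ω, hω⟩ := hcon x
      exact Nat.le_of_dvd (Fintype.card_pos_iff.mpr ⟨⟨ω, hω⟩⟩) (hfix x)
    have : p * Fintype.card H ≤ ∑ x : H, Fintype.card (fixedBy Ω x) := by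
      calc p * Fintype.card H = ∑ _x : H, p := by simp [mul_comm]
        _ ≤ _ := Finset.sum_le_sum (fun x _ => hge x)
    rw [hburn] at this
    have hpos : 0 < Fintype.card H := Fintype.card_pos
    have := le_of_mul_le_mul_right this hpos
    omega
  obtain ⟨x, hx⟩ := hex
  have hne : Nonempty Ω := by
    apply Fintype.card_pos_iff.mp; rw [hΩ]; exact Nat.mul_pos (by omega) hp.pos
  have hx1 : (x : G) ≠ 1 := by
    intro h1
    obtain ⟨ω⟩ := hne
    apply hx ω
    show (x : G) • ω = ω
    rw [h1, one_smul]
  -- x ^ p = 1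
  have hxp : (x : G) ^ p = 1 := by
    apply FaithfulSMul.eq_of_smul_eq_smul (α := Ω)
    intro ω
    rw [one_smul, pow_smul_eq_iff_period_dvd]
    obtain ⟨k, hk⟩ := (IsPGroup.iff_orderOf.mp hHp) x
    have hdvd : period (x : G) ω ∣ p ^ k := by
      rw [← hk, ← Subgroup.orderOf_coe]; exact period_dvd_orderOf _ _
    obtain ⟨i, hi, hpi⟩ := (Nat.dvd_prime_pow hp).mp hdvd
    have hle : period (x : G) ω ≤ Fintype.card Ω := by
      have e := orbitZPowersEquiv (x : G) ω
      have hc : Nat.card (orbit (Subgroup.zpowers (x : G)) ω) = period (x : G) ω := by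
        rw [Nat.card_congr e, Nat.card_zmod]; rfl
      rw [← hc, ← Nat.card_eq_fintype_card]
      exact Nat.card_le_card_of_injective _ Subtype.val_injective
    rw [hpi, hΩ] at hle
    have hi1 : i < 2 := by
      by_contra h2
      push Not at h2
      have : p ^ 2 ≤ p ^ i := Nat.pow_le_pow_right hp.pos h2
      nlinarith [hp.pos]
    rw [hpi]
    interval_cases i
    · simp
    · simp
  refine ⟨(x : G), ?_, fun ω => hx ω⟩
  have := orderOf_dvd_of_pow_eq_one hxp
  rcases (Nat.dvd_prime hp).mp this with h | h
  · exact absurd (orderOf_eq_one_iff.mp h) hx1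
  · exact h

/-- If a finite group acts faithfully and transitively on a set with m·p elements, where p is a prime and 1 ≤ m ≤ p, then some element of order p fixes no point. -/
theorem result {G Ω : Type*} [Group G] [Finite G] [MulAction G Ω] [FaithfulSMul G Ω] [Fintype Ω] (htr : MulAction.IsPretransitive G Ω)
    (p m : ℕ) (hp : p.Prime) (hm : 1 ≤ m) (hmp : m ≤ p) (hΩ : Fintype.card Ω = m * p) :
    ∃ g : G, orderOf g = p ∧ ∀ ω : Ω, g • ω ≠ ω := by
  have : Fact p.Prime := ⟨hp⟩
  rcases Nat.lt_or_ge m p with h | h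
  · exact small_case htr p m hm h hΩ
  · have hmeq : m = p := le_antisymm hmp h
    have hΩ' : Fintype.card Ω = p ^ 2 := by rw [hΩ, hmeq, sq]
    exact Cfsg.Agent.S5726.result htr p 2 hp (by norm_num) hΩ'

end Cfsg.Agent.S5727
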