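import Cfsg.Statements.S5728
import Mathlib
import Cfsg.Prelude.Def_Perm

set_option autoImplicit false
open Cfsg

namespace Cfsg.Agent.S5728

/-- An elusive transitive action. Let p = 2^s − 1 be a prime and let F be the field with p² elements. Inside the group of affine maps x ↦ a·x + b of F (a ≠ 0), consider the subgroup of maps with both coefficients in the prime field. Then every element of prime order of the affine group is conjugate, within the affine group, to an element of that subgroup; equivalently, in the transitive action of the affine group on the cosets of that subgroup (of degree p(p + 1)) every element of prime order fixes a point. -/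
theorem result (p s : ℕ) [Fact p.Prime] (hs : p = 2 ^ s - 1)
    (g : Equiv.Perm (GaloisField p 2)) (hg : g ∈ Cfsg.affineGroup (GaloisField p 2)) (hord : (orderOf g).Prime) :
    ∃ x ∈ Cfsg.affineGroup (GaloisField p 2), ∃ a b : ZMod p, a ≠ 0 ∧
      ∀ y : GaloisField p 2, (x * g * x⁻¹) y = algebraMap (ZMod p) (GaloisField p 2) a * y + algebraMap (ZMod p) (GaloisField p 2) b := by
  have hp : p.Prime := Fact.out
  have : Fintype (GaloisField p 2) := Fintype.ofFinite _
  obtain ⟨a₀, b₀, hab⟩ := hg
  by_cases ha1 : (a₀ : GaloisField p 2) = 1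
  · -- translation
    have hb0 : b₀ ≠ 0 := by
      rintro rfl
      have : g = 1 := by
        ext y; simp [hab, ha1]
      rw [this, orderOf_one] at hord
      exact Nat.not_prime_one hord
    -- x = multiplication by b₀⁻¹
    let u : (GaloisField p 2)ˣ := Units.mk0 b₀ hb0
    let x : Equiv.Perm (GaloisField p 2) := Units.mulLeft u⁻¹
    have hxinv : ∀ y, x⁻¹ y = b₀ * y := by
      intro y
      show (Units.mulLeft u⁻¹).symm y = b₀ * y
      simp [u]
    refine ⟨x, ⟨u⁻¹, 0, fun y => by simp [x]⟩, 1, 1, one_ne_zero, fun y => ?_⟩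
    simp only [Equiv.Perm.coe_mul, Function.comp_apply, hxinv, hab, ha1, map_one, one_mul]
    show ((u⁻¹ : (GaloisField p 2)ˣ) : GaloisField p 2) * (b₀ * y + b₀) = y + 1
    simp only [u, Units.val_inv_eq_inv_val, Units.val_mk0]
    field_simp
  · -- a₀ ≠ 1
    have h1a : (1 - (a₀ : GaloisField p 2)) ≠ 0 := sub_ne_zero.mpr (Ne.symm ha1)
    let c : GaloisField p 2 := b₀ / (1 - a₀)
    let x : Equiv.Perm (GaloisField p 2) := Equiv.subRight c
    have hxinv : ∀ y, x⁻¹ y = y + c := fun y => rfl
    have hconj : ∀ y, (x * g * x⁻¹) y = a₀ * y := by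
      intro y
      simp only [Equiv.Perm.coe_mul, Function.comp_apply, hxinv, hab]
      show (a₀ : GaloisField p 2) * (y + c) + b₀ - c = a₀ * y
      simp only [c]
      field_simp
      ring
    have hpow : ∀ n : ℕ, ∀ y, ((x * g * x⁻¹) ^ n) y = (a₀ : GaloisField p 2) ^ n * y := by
      intro n
      induction n with
      | zero => intro y; simp
      | succ n ih => intro y; rw [pow_succ', Equiv.Perm.coe_mul, Function.comp_apply, ih, hconj, pow_succ', mul_assoc]
    have hr : (a₀ : GaloisField p 2) ^ orderOf g = 1 := by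
      have h := hpow (orderOf g) 1
      have e : (x * g * x⁻¹) ^ orderOf g = 1 := by
        rw [conj_pow, pow_orderOf_eq_one, mul_one, mul_inv_cancel]
      rw [e] at h
      simpa using h.symm
    have hoa : orderOf (a₀ : GaloisField p 2) = orderOf g := by
      have h := orderOf_dvd_of_pow_eq_one hr
      rcases (Nat.dvd_prime hord).mp h with h1 | h1
      · exact absurd (orderOf_eq_one_iff.mp h1) ha1
      · exact h1
    have hcard : Fintype.card (GaloisField p 2) = p ^ 2 := by
      rw [← Nat.card_eq_fintype_card, GaloisField.card p 2 (by norm_num)]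
    have ha0 : (a₀ : GaloisField p 2) ≠ 0 := a₀.ne_zero
    have hdvd : orderOf g ∣ p ^ 2 - 1 := by
      rw [← hoa, ← hcard]
      exact orderOf_dvd_of_pow_eq_one (FiniteField.pow_card_sub_one_eq_one _ ha0)
    -- p odd, p + 1 = 2 ^ s
    have hp2 : 2 ≤ p := hp.two_le
    have hs1 : p + 1 = 2 ^ s := by omega
    have hs2 : 2 ≤ s := by
      by_contra h
      push Not at h
      interval_cases s <;> omega
    have hpodd : 2 ∣ p - 1 := by
      have : 2 ∣ 2 ^ s := dvd_pow_self 2 (by omega)
      omega
    have hfac : p ^ 2 - 1 = (p - 1) * 2 ^ s := by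
      rw [← hs1]
      zify [hp.one_le, Nat.one_le_pow 2 p hp.pos]
      ring
    have hdvd' : orderOf g ∣ p - 1 := by
      rw [hfac] at hdvd
      rcases (Nat.Prime.dvd_mul hord).mp hdvd with h | h
      · exact h
      · have h2 := (Nat.prime_dvd_prime_iff_eq hord Nat.prime_two).mp (hord.dvd_of_dvd_pow h)
        rw [h2]; exact hpodd
    have hap : (a₀ : GaloisField p 2) ^ p = a₀ := by
      obtain ⟨k, hk⟩ := hdvd'
      have : (a₀ : GaloisField p 2) ^ (p - 1) = 1 := by
        rw [hk, pow_mul, hr, one_pow]
      calc (a₀ : GaloisField p 2) ^ p = a₀ ^ (p - 1 + 1) := by rw [Nat.sub_add_cancel hp.one_le]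
        _ = a₀ := by rw [pow_succ, this, one_mul]
    have hmem : (a₀ : GaloisField p 2) ∈ (⊥ : Subfield (GaloisField p 2)) :=
      (Subfield.mem_bot_iff_pow_eq_self (GaloisField p 2) p).mpr hap
    obtain ⟨n, hn⟩ := (mem_bot_iff_intCast p (GaloisField p 2)).mp hmem
    refine ⟨x, ⟨1, -c, fun y => by simp [x, sub_eq_add_neg]⟩, (n : ZMod p), 0, ?_, fun y => ?_⟩
    · intro h0
      have : algebraMap (ZMod p) (GaloisField p 2) (n : ZMod p) = 0 := by rw [h0, map_zero]
      rw [map_intCast, hn] at this
      exact ha0 this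
    · rw [hconj, map_intCast, hn, map_zero, add_zero]

end Cfsg.Agent.S5728
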