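import Cfsg.Statements.S5748
import Mathlib
import Cfsg.Agent.Lib.Helper80.CTDefs
import Cfsg.Agent.S0182
import Cfsg.Agent.Lib.Helper19.CTPERM
import Cfsg.Agent.Lib.Helper23.CTPSLCT
import Cfsg.Agent.Lib.Helper34.CTPGL
import Cfsg.Agent.Lib.Helper39.CTAVG
import Cfsg.Agent.Lib.Helper39.CTCNTA
import Cfsg.Agent.Lib.Helper39.CTCNTB
import Cfsg.Agent.Lib.Helper39.CTTOT
import Cfsg.Agent.Lib.Helper46.CTFIXA
import Cfsg.Agent.Lib.Helper46.CTZAS2T
import Cfsg.Agent.Lib.Helper46.CTZASF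
import Cfsg.Agent.Lib.Helper62.CTBURN
import Cfsg.Agent.Lib.Helper62.CTCENTB
import Cfsg.Agent.Lib.Helper62.CTFIXH
import Cfsg.Agent.Lib.Helper62.CTGEN
import Cfsg.Agent.Lib.Helper62.CTIDX
import Cfsg.Agent.Lib.Helper62.CTINV
import Cfsg.Agent.Lib.Helper62.CTINVCNT
import Cfsg.Agent.Lib.Helper62.CTLOC
import Cfsg.Agent.Lib.Helper62.CTZAS3
import Cfsg.Agent.Lib.Helper69.CTCOVER
import Cfsg.Agent.Lib.Helper75.CTTRANS
import Cfsg.Agent.Lib.Helper80.CTCENTA
import Cfsg.Agent.Lib.Helper80.CTSHARP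
import Cfsg.Agent.Lib.Helper80.CTZASQ
import Cfsg.Agent.Lib.Lead.CTEPOW

set_option autoImplicit false
open Cfsg

namespace Cfsg.Agent.S5748

open Cfsg.Agent.Lib.Helper80.CT

section assembly


variable {G : Type*} [Group G] [Finite G]

theorem even_card [IsSimpleGroup G] (hG : ¬ IsMulCommutative G) (hct : IsCT G) :
    Even (Nat.card G) := by
  by_contra hodd
  rw [Nat.not_even_iff_odd] at hodd
  have hsol : Group.IsSolvable G := Cfsg.Agent.S0182.result hodd (by
    intro x hx a ha b hb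
    rw [Subgroup.mem_centralizer_iff] at ha hb
    have ha' : Commute a x := (ha x rfl).symm
    have hb' : Commute x b := hb x rfl
    by_cases ha1 : a = 1
    · subst ha1; simp
    by_cases hb1 : b = 1
    · subst hb1; simp
    exact hct a x b ha1 hx hb1 ha' hb')
  exact hG ⟨⟨IsSimpleGroup.comm_iff_isSolvable.mpr hsol⟩⟩

theorem exists_data [IsSimpleGroup G] (hG : ¬ IsMulCommutative G) (hct : IsCT G) :
    ∃ (A N : Subgroup G) (q : ℕ), Data G A N q := by
  have hev := even_card hG hct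
  obtain ⟨t, ht⟩ : ∃ t : G, orderOf t = 2 := by
    have : Fact (Nat.Prime 2) := ⟨Nat.prime_two⟩
    exact exists_prime_orderOf_dvd_card' 2 hev.two_dvd
  have hmemA : ∀ x : G, x ∈ Subgroup.centralizer ({t} : Set G) ↔ Commute x t := by
    intro x
    rw [Subgroup.mem_centralizer_iff]
    constructor
    · intro h
      exact (h t rfl).symm
    · intro h y hy
      rw [Set.mem_singleton_iff] at hy
      subst hy
      exact h.symm.eq
  have ht1 : t ≠ 1 := by
    rintro rfl
    rw [orderOf_one] at ht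
    omega
  have htA : t ∈ Subgroup.centralizer ({t} : Set G) := (hmemA t).mpr (Commute.refl t)
  have hcomm : ∀ x ∈ Subgroup.centralizer ({t} : Set G),
      ∀ y ∈ Subgroup.centralizer ({t} : Set G), Commute x y := by
    intro x hx y hy
    by_cases hx1 : x = 1
    · subst hx1
      exact Commute.one_left y
    by_cases hy1 : y = 1
    · subst hy1
      exact Commute.one_right x
    exact hct x t y hx1 ht1 hy1 ((hmemA x).mp hx) ((hmemA y).mp hy).symm
  have hcent : ∀ x ∈ Subgroup.centralizer ({t} : Set G), x ≠ 1 → ∀ y : G, Commute y x →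
      y ∈ Subgroup.centralizer ({t} : Set G) := by
    intro x hx hx1 y hy
    by_cases hy1 : y = 1
    · subst hy1
      exact one_mem _
    exact (hmemA y).mpr (hct y x t hy1 hx1 ht1 hy ((hmemA x).mp hx))
  have hinvol : ∀ u : G, orderOf u = 2 →
      ∃ g : G, g * u * g⁻¹ ∈ Subgroup.centralizer ({t} : Set G) := by
    intro u hu
    rcases Cfsg.Agent.Lib.Helper62.CTINV.invol_commute_or_conj hct ht hu with h | ⟨g, hg⟩
    · exact ⟨1, by simpa using (hmemA u).mpr h⟩
    · refine ⟨g⁻¹, ?_⟩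
      rw [hg]
      have : g⁻¹ * (g * t * g⁻¹) * g⁻¹⁻¹ = t := by group
      rw [this]
      exact htA
  have hAtop : Subgroup.centralizer ({t} : Set G) ≠ ⊤ := by
    intro h
    apply hG
    exact ⟨⟨fun a b => (hcomm a (h ▸ Subgroup.mem_top a) b (h ▸ Subgroup.mem_top b)).eq⟩⟩
  obtain ⟨w, hw, hwA⟩ := Cfsg.Agent.Lib.Helper62.CTGEN.exists_invol_not_mem hev _ hAtop
  have hconj : ∀ s : G, Commute s t → orderOf s = 2 → ∃ g : G, s = g * t * g⁻¹ := by
    intro s hst hs
    have hsA : s ∈ Subgroup.centralizer ({t} : Set G) := (hmemA s).mpr hst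
    have hs1 : s ≠ 1 := by
      rintro rfl
      rw [orderOf_one] at hs
      omega
    have h1 : ∃ g : G, w = g * t * g⁻¹ := by
      rcases Cfsg.Agent.Lib.Helper62.CTINV.invol_commute_or_conj hct ht hw with h | h
      · exact absurd ((hmemA w).mpr h) hwA
      · exact h
    have h2 : ∃ g : G, w = g * s * g⁻¹ := by
      rcases Cfsg.Agent.Lib.Helper62.CTINV.invol_commute_or_conj hct hs hw with h | h
      · exact absurd (hcent s hsA hs1 w h) hwA
      · exact h
    obtain ⟨g1, hg1⟩ := h1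
    obtain ⟨g2, hg2⟩ := h2
    refine ⟨g2⁻¹ * g1, ?_⟩
    have h3 : s = g2⁻¹ * w * g2 := by
      rw [hg2]
      group
    rw [h3, hg1]
    group
  have hidx := Cfsg.Agent.Lib.Helper62.CTIDX.card_normalizer_centralizer hct ht hconj
  obtain ⟨f, hf1, hf2⟩ := Cfsg.Agent.Lib.Lead.CTEPOW.card_invol_abelian (Subgroup.centralizer ({t} : Set G)) hcomm
  obtain ⟨s, hst, hs, hsne⟩ := Cfsg.Agent.Lib.Helper62.CTBURN.exists_second_invol hG hct ht
  have hnt : Nontrivial {x : G // x ∈ Subgroup.centralizer ({t} : Set G) ∧ orderOf x = 2} :=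
    ⟨⟨⟨s, (hmemA s).mpr hst, hs⟩, ⟨t, htA, ht⟩, fun h => hsne (congrArg Subtype.val h)⟩⟩
  have h2le : 1 < Nat.card {x : G // x ∈ Subgroup.centralizer ({t} : Set G) ∧ orderOf x = 2} :=
    Finite.one_lt_card
  have hf4 : 4 ≤ 2 ^ f := by
    have hf2' : 2 ≤ f := by
      by_contra h
      have : f = 0 ∨ f = 1 := by omega
      rcases this with rfl | rfl
      · simp at hf1
        omega
      · simp at hf1
        omega
    calc 4 = 2 ^ 2 := by norm_num
      _ ≤ 2 ^ f := Nat.pow_le_pow_right (by norm_num) hf2'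
  refine ⟨Subgroup.centralizer ({t} : Set G),
    Subgroup.normalizer ((Subgroup.centralizer ({t} : Set G) : Subgroup G) : Set G), 2 ^ f, ?_⟩
  refine
    { ct := hct
      le := Subgroup.le_normalizer
      mem_N := fun g => Subgroup.mem_normalizer_iff
      comm := hcomm
      cent := hcent
      invol := hinvol
      four_le := hf4
      pow := ⟨f, rfl⟩
      dvd := hf2
      card_N := ?_
      card_invol := ?_
      ne_top := ?_ }
  · rw [hidx]
    congr 1
    omega
  · omega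
  · by_contra hall
    push Not at hall
    have htop : Subgroup.normalizer ((Subgroup.centralizer ({t} : Set G) : Subgroup G) : Set G) = ⊤ :=
      (Subgroup.eq_top_iff' _).mpr hall
    have hnormal : (Subgroup.centralizer ({t} : Set G)).Normal :=
      Subgroup.normalizer_eq_top_iff.mp htop
    rcases hnormal.eq_bot_or_eq_top with h | h
    · rw [h, Subgroup.mem_bot] at htA
      exact ht1 htA
    · exact hAtop h

theorem data_to_perm [IsSimpleGroup G] {A N : Subgroup G} {q : ℕ} (hD : Data G A N q) :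
    Nat.card (G ⧸ N) = q + 1 ∧ FaithfulSMul G (G ⧸ N) ∧
      MulAction.IsMultiplyPretransitive G (G ⧸ N) 3 ∧
      ∀ x : Fin 3 ↪ G ⧸ N, MulAction.stabilizer G x = ⊥ := by
  have hq := hD.four_le
  have htot := Cfsg.Agent.Lib.Helper39.CTTOT.card_invol_total hD
  have hloc1 : ∀ u : G, orderOf u = 2 → u ∉ N → Dsub N u ⊓ A = ⊥ :=
    fun u hu huN => Cfsg.Agent.Lib.Helper62.CTLOC.Dsub_inf_eq_bot hD hu huN
  have hloc2 : ∀ u : G, orderOf u = 2 → u ∉ N → Nat.card (Dsub N u) ≤ q - 1 :=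
    fun u hu huN => Cfsg.Agent.Lib.Helper62.CTLOC.card_le_of_inf_eq_bot hD (Dsub N u)
      (fun d hd => ((mem_Dsub N u d).mp hd).1) (hloc1 u hu huN)
  have hloc3 : ∀ u : G, orderOf u = 2 → u ∉ N →
      Nat.card {v : G // orderOf v = 2 ∧ v * u⁻¹ ∈ N} =
        Nat.card {d : G // d ∈ Dsub N u ∧ u * d * u⁻¹ = d⁻¹} :=
    fun u hu huN => Cfsg.Agent.Lib.Helper62.CTLOC.card_invol_coset N hu huN
  have hinj : ∀ u : G, Function.Injective
      (fun d : {d : G // d ∈ Dsub N u ∧ u * d * u⁻¹ = d⁻¹} => (⟨d.1, d.2.1⟩ : Dsub N u)) := by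
    intro u a b hab
    exact Subtype.ext (congrArg (fun x : Dsub N u => (x : G)) hab)
  have hsub : ∀ u : G, Nat.card {d : G // d ∈ Dsub N u ∧ u * d * u⁻¹ = d⁻¹} ≤
      Nat.card (Dsub N u) := fun u => Nat.card_le_card_of_injective _ (hinj u)
  have hcnt := Cfsg.Agent.Lib.Helper39.CTAVG.card_invol_coset_eq hD htot (fun u hu huN => by
    rw [hloc3 u hu huN]
    exact (hsub u).trans (hloc2 u hu huN))
  have hall : ∀ v : G, orderOf v = 2 → v ∉ N →
      Dsub N v ⊓ A = ⊥ ∧ Nat.card (Dsub N v) = q - 1 ∧ ∀ d ∈ Dsub N v, v * d * v⁻¹ = d⁻¹ := by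
    intro v hv hvN
    have h1 := hcnt v hvN
    rw [hloc3 v hv hvN] at h1
    have h2 := hloc2 v hv hvN
    have h3 := hsub v
    have hcard : Nat.card (Dsub N v) = q - 1 := by omega
    refine ⟨hloc1 v hv hvN, hcard, ?_⟩
    intro d hd
    have hbij := (hinj v).bijective_of_nat_card_le (by omega)
    obtain ⟨a, ha⟩ := hbij.2 ⟨d, hd⟩
    have had : a.1 = d := congrArg (fun x : Dsub N v => (x : G)) ha
    rw [← had]
    exact a.2.2
  have hcoset : ∀ g : G, g ∉ N → ∃ v : G, orderOf v = 2 ∧ v * g⁻¹ ∈ N := by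
    intro g hg
    have h1 := hcnt g hg
    have h2 : 0 < Nat.card {v : G // orderOf v = 2 ∧ v * g⁻¹ ∈ N} := by omega
    obtain ⟨⟨v, hv⟩⟩ := (Nat.card_pos_iff.mp h2).1
    exact ⟨v, hv⟩
  have hcent : ∀ u : G, orderOf u = 2 → u ∉ N → ∀ h ∈ Dsub N u, h ≠ 1 →
      ∀ y : G, Commute y h → y ∈ Dsub N u :=
    fun u hu huN h hh hh1 => Cfsg.Agent.Lib.Helper62.CTCENTB.cent_eq_Dsub hD hall hcoset hu huN hh hh1
      (Cfsg.Agent.Lib.Helper80.CT.cent_inverted hD hu huN (hall u hu huN).1 (hall u hu huN).2.1 (hall u hu huN).2.2 hh hh1)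
  have hcov := Cfsg.Agent.Lib.Helper69.CTCOVER.cover hD hall hcoset
  have hinv : ∀ h ∈ N, h ∉ A →
      Nat.card {w : G // orderOf w = 2 ∧ w * h * w⁻¹ = h⁻¹ ∧ w ∉ N} = q - 1 := by
    intro h hhN hhA
    obtain ⟨u, hu, huN, hhu⟩ := hcov h hhN hhA
    have hh1 : h ≠ 1 := by
      rintro rfl
      exact hhA (one_mem A)
    exact Cfsg.Agent.Lib.Helper62.CTINVCNT.card_inverting hD hu huN (hall u hu huN).2.1 (hall u hu huN).2.2 hhu hh1
      (hcent u hu huN h hhu hh1)
  have hT1 := Cfsg.Agent.Lib.Helper39.CTCNTA.card_pairs_left hD htot hcnt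
  have hT2 := Cfsg.Agent.Lib.Helper39.CTCNTB.card_pairs_right hD hinv
  have hidx : N.index = Nat.card A + 1 := by
    rw [hT1] at hT2
    have hpos : 0 < (q - 1) * (q - 2) := Nat.mul_pos (by omega) (by omega)
    have h1 : (N.index - 1) * ((q - 1) * (q - 2)) = Nat.card A * ((q - 1) * (q - 2)) := by
      rw [← mul_assoc, hT2]
      ring
    have h2 := Nat.eq_of_mul_eq_mul_right hpos h1
    have h3 : N.index ≠ 0 := Subgroup.index_ne_zero_of_finite
    omega
  have hfixA := Cfsg.Agent.Lib.Helper46.CTFIXA.fix_A hD hall hcov hcent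
  have htrans := Cfsg.Agent.Lib.Helper75.CTTRANS.trans_A hD hidx hfixA
  have hfixH := Cfsg.Agent.Lib.Helper62.CTFIXH.fix_H hD hall htrans
  have h3 := Cfsg.Agent.Lib.Helper62.CTZAS3.zas_three hD hcov hfixA hfixH
  have h2T := Cfsg.Agent.Lib.Helper46.CTZAS2T.zas_two_trans A N hD.ne_top htrans hD.le
  have hNtop : N ≠ ⊤ := by
    intro h
    obtain ⟨g, hg⟩ := hD.ne_top
    exact hg (h ▸ Subgroup.mem_top g)
  have hNbot : N ≠ ⊥ := by
    intro h
    obtain ⟨t, htA, ht⟩ := hD.exists_invol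
    have htN : t ∈ N := hD.le htA
    rw [h, Subgroup.mem_bot] at htN
    rw [htN, orderOf_one] at ht
    omega
  obtain ⟨hfaith, hreg⟩ := Cfsg.Agent.Lib.Helper46.CTZASF.zas_faithful N hNtop hNbot
  have h4 : ∃ g : G, g ≠ 1 ∧ ∃ a b : G ⧸ N, a ≠ b ∧ g • a = a ∧ g • b = b := by
    obtain ⟨g0, hg0⟩ := hD.ne_top
    obtain ⟨u, hu, hug⟩ := hcoset g0 hg0
    have huN : u ∉ N := by
      intro h
      apply hg0
      have h1 : g0⁻¹ = u⁻¹ * (u * g0⁻¹) := by group
      have h2 : g0⁻¹ ∈ N := by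
        rw [h1]
        exact mul_mem (inv_mem h) hug
      simpa using inv_mem h2
    obtain ⟨-, hcard, -⟩ := hall u hu huN
    have hnt : Nontrivial (Dsub N u) := by
      rw [← Finite.one_lt_card_iff_nontrivial, hcard]
      omega
    obtain ⟨⟨h, hh⟩, hh1⟩ := exists_ne (1 : Dsub N u)
    have hh1' : h ≠ 1 := fun e => hh1 (Subtype.ext e)
    obtain ⟨hhN, hhu⟩ := (mem_Dsub N u h).mp hh
    refine ⟨h, hh1', ((1 : G) : G ⧸ N), ((u : G) : G ⧸ N), ?_, ?_, ?_⟩
    · intro e
      rw [QuotientGroup.eq] at e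
      apply huN
      simpa using e
    · show ((h * 1 : G) : G ⧸ N) = ((1 : G) : G ⧸ N)
      rw [QuotientGroup.eq]
      simpa using hhN
    · show ((h * u : G) : G ⧸ N) = ((u : G) : G ⧸ N)
      rw [QuotientGroup.eq]
      have h1 : (h * u)⁻¹ * u = u⁻¹ * h⁻¹ * u := by group
      rw [h1]
      have h2 : u⁻¹ * h⁻¹ * u = (u⁻¹ * h * u)⁻¹ := by group
      rw [h2]
      exact inv_mem hhu
  have hZ : Cfsg.IsZassenhausGroup G (G ⧸ N) := ⟨hfaith, h2T, h3, h4, hreg⟩
  have ha := Cfsg.Agent.Lib.Helper80.CT.card_A_eq hD hZ hidx hall hcoset hfixA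
  have hidx' : N.index = q + 1 := by rw [hidx, ha]
  have h3T := Cfsg.Agent.Lib.Helper80.CT.sharp_three hD hidx' h2T hall hcoset h3
  refine ⟨hidx', hfaith, h3T, ?_⟩
  intro x
  rw [eq_bot_iff]
  intro g hg
  rw [MulAction.mem_stabilizer_iff] at hg
  have hg' : ∀ i, g • x i = x i := fun i => by
    have := congrArg (fun y : Fin 3 ↪ G ⧸ N => y i) hg
    simpa using this
  rw [Subgroup.mem_bot]
  exact h3 g (x 0) (x 1) (x 2) (x.injective.ne (by decide)) (x.injective.ne (by decide))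
    (x.injective.ne (by decide)) (hg' 0) (hg' 1) (hg' 2)

theorem forward [IsSimpleGroup G] (hG : ¬ IsMulCommutative G) (hct : IsCT G) :
    ∃ (F : Type) (_ : Field F) (_ : Fintype F) (f : ℕ), 2 ≤ f ∧ Fintype.card F = 2 ^ f ∧
      Nonempty (G ≃* Matrix.ProjectiveSpecialLinearGroup (Fin 2) F) := by
  obtain ⟨A, N, q, hD⟩ := exists_data hG hct
  obtain ⟨hcard, hfaith, h3T, hsharp⟩ := data_to_perm hD
  obtain ⟨f, hf⟩ := hD.pow
  have hq := hD.four_le
  have hf2 : 2 ≤ f := by
    by_contra h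
    have : f = 0 ∨ f = 1 := by omega
    rcases this with rfl | rfl
    · simp at hf
      omega
    · simp at hf
      omega
  have := hfaith
  obtain ⟨F, instF, instFt, hF, ⟨e⟩⟩ := Cfsg.Agent.Lib.Helper19.CTPERM.perm_to_PGL (G := G) (Ω := G ⧸ N) (f := f) (by omega)
    (by rw [hcard, hf]) h3T hsharp
  obtain ⟨e2⟩ := Cfsg.Agent.Lib.Helper34.CTPGL.PGL_equiv_PSL F f hF
  exact ⟨F, instF, instFt, f, hf2, hF, ⟨e.trans e2⟩⟩

omit [Finite G] in
theorem backward (F : Type) [Field F] [Fintype F] (f : ℕ)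
    (hF : Fintype.card F = 2 ^ f)
    (e : G ≃* Matrix.ProjectiveSpecialLinearGroup (Fin 2) F) : IsCT G := by
  have h := Cfsg.Agent.Lib.Helper23.CTPSLCT.PSL_isCT F f hF
  intro a b c ha hb hc hab hbc
  have h1 := h (e a) (e b) (e c) (by simpa using ha) (by simpa using hb) (by simpa using hc)
    (hab.map e) (hbc.map e)
  have h2 : e (a * c) = e (c * a) := by
    rw [map_mul, map_mul]
    exact h1.eq
  exact e.injective h2

end assembly


/-- A finite non-abelian simple group in which commuting is a transitive relation on the non-identity elements (equivalently, every non-identity element has abelian centraliser) is isomorphic to PSL₂ over a field with 2^f elements for some f ≥ 2; conversely these groups have that property. -/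
theorem result {G : Type*} [Group G] [Finite G] [IsSimpleGroup G] (hG : ¬ IsMulCommutative G) :
    (∀ a b c : G, a ≠ 1 → b ≠ 1 → c ≠ 1 → Commute a b → Commute b c → Commute a c) ↔
    ∃ (F : Type) (_ : Field F) (_ : Fintype F) (f : ℕ), 2 ≤ f ∧ Fintype.card F = 2 ^ f ∧ Nonempty (G ≃* Matrix.ProjectiveSpecialLinearGroup (Fin 2) F) := by
  constructor
  · intro h
    exact forward hG h
  · rintro ⟨F, instF, instFt, f, -, hF, ⟨e⟩⟩
    exact backward F f hF e

end Cfsg.Agent.S5748
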